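import Cfsg.Statements.S3819
import Cfsg.Agent.Lib.Solvable.CoprimeAction
import Cfsg.Agent.Lib.Solvable.Core
import Cfsg.Agent.Lib.Case.CharTwo

set_option autoImplicit false
open Cfsg Subgroup
open scoped commutatorElement

namespace Cfsg.Agent.S3819

variable {G : Type*} [Group G]

/-- The normaliser of a subgroup normalises its characteristic subgroups. -/
theorem normalizer_le_of_characteristic (L : Subgroup G) (R : Subgroup L) [hR : R.Characteristic] :
    normalizer (L : Set G) ≤ normalizer ((R.map L.subtype : Subgroup G) : Set G) := by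
  rw [le_normalizer_iff]
  rintro g hg _ ⟨x, hx, rfl⟩
  let φ := L.normalizerMonoidHom ⟨g, hg⟩
  have h1 : φ x ∈ R := characteristic_iff_map_eq.mp hR φ ▸ mem_map_of_mem φ.toMonoidHom hx
  exact ⟨φ x, h1, rfl⟩

theorem eq_one_of_coprime {A B : Subgroup G} (h : (Nat.card A).Coprime (Nat.card B)) {x : G}
    (ha : x ∈ A) (hb : x ∈ B) : x = 1 :=
  disjoint_def.mp (disjoint_of_coprime_natCard h) ha hb

theorem card_coprime_of_isPGroup [Finite G] {q : ℕ} [Fact q.Prime] {R : Subgroup G} (hR : IsPGroup q R)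
    {n : ℕ} (hn : n.Coprime q) : (Nat.card R).Coprime n := by
  obtain ⟨k, hk⟩ := hR.exists_card_eq
  rw [hk]
  exact Nat.Coprime.pow_left k hn.symm

/-- The case `O_{q'}(H) = 1`. -/
theorem core [Finite G] (H P : Subgroup G) (hPH : P ≤ normalizer (H : Set G))
    (hcop : (Nat.card P).Coprime (Nat.card H)) (hPsol : Group.IsSolvable P)
    (hsol : Group.IsSolvable ↥⁅H, P⁆) {q : ℕ} [hq : Fact q.Prime]
    (hbot : ∀ K : Subgroup G, K ≤ H → H ≤ normalizer (K : Set G) → (Nat.card K).Coprime q → K = ⊥)
    (z : G) (hzH : z ∈ H) (hz : IsPGroup q (zpowers z))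
    (X Z : Subgroup G) (hX : X ≤ H ⊓ centralizer ({z} : Set G))
    (hXn : H ⊓ centralizer ({z} : Set G) ≤ normalizer (X : Set G))
    (hXP : P ≤ normalizer (X : Set G)) (hXq : (Nat.card X).Coprime q)
    (hZ : Z ≤ H ⊓ centralizer (P : Set G))
    (hZn : H ⊓ centralizer (P : Set G) ≤ normalizer (Z : Set G)) (hZq : (Nat.card Z).Coprime q) :
    ⁅X, P⁆ = ⊥ ∧ X ⊓ Z = ⊥ := by
  set L := ⁅H, P⁆ with hL
  have hLH : L ≤ H := CfsgLib.Solvable.commutator_le_of_normalizes hPH
  have hHL : H ≤ normalizer (L : Set G) := CfsgLib.Solvable.le_normalizer_commutator_left H P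
  set R := (Cfsg.pCore q L).map L.subtype with hR
  have hRL : R ≤ L := map_subtype_le _
  haveI := CfsgLib.Solvable.pCore_characteristic (p := q) L
  haveI := CfsgLib.Solvable.pPrimeCore_characteristic q L
  have hNR : normalizer (L : Set G) ≤ normalizer (R : Set G) := normalizer_le_of_characteristic L _
  have hRq : IsPGroup q R := (CfsgLib.Solvable.pCore_isPGroup (p := q) L).map _
  have hcore : Cfsg.pPrimeCore q L = ⊥ := by
    have h := hbot ((Cfsg.pPrimeCore q L).map L.subtype) ((map_subtype_le _).trans hLH)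
      (hHL.trans (normalizer_le_of_characteristic L _))
      (by rw [card_subtype]; exact CfsgLib.Solvable.pPrimeCore_card_coprime q L)
    exact (map_eq_bot_iff_of_injective _ L.subtype_injective).mp h
  haveI := hsol
  have hCR : ∀ x ∈ L, x ∈ centralizer (R : Set G) → x ∈ R := by
    intro x hx hxc
    refine ⟨⟨x, hx⟩, CfsgLib.Case.centralizer_pCore_le_of_solvable hcore ?_, rfl⟩
    exact mem_centralizer_iff.mpr fun r hr => Subtype.ext (hxc r ⟨r, hr, rfl⟩)
  have hXR : X ≤ centralizer (R : Set G) := by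
    refine CfsgLib.Solvable.thompson_pxq (P := zpowers z) hz hXq hRq ?_
      ((zpowers_le.mpr (hHL hzH)).trans hNR) ((hX.trans inf_le_left).trans (hHL.trans hNR)) ?_
    · rw [zpowers_le]
      exact mem_centralizer_iff.mpr fun x hx => mem_centralizer_singleton_iff.mp (hX hx).2
    · intro r hr
      have hrn : r ∈ normalizer (X : Set G) := hXn ⟨hLH (hRL hr.1),
        mem_centralizer_singleton_iff.mpr (hr.2 z (mem_zpowers z)).symm⟩
      refine mem_centralizer_iff.mpr fun x hx => ?_
      have h1 : x * r * x⁻¹ * r⁻¹ ∈ R :=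
        mul_mem (((mem_normalizer_iff.mp (hNR (hHL ((hX hx).1)))) r).mp hr.1) (inv_mem hr.1)
      have h2 : x * r * x⁻¹ * r⁻¹ ∈ X := by
        rw [show x * r * x⁻¹ * r⁻¹ = x * (r * x⁻¹ * r⁻¹) by group]
        exact mul_mem hx (((mem_normalizer_iff.mp hrn) _).mp (inv_mem hx))
      have h3 := eq_one_of_coprime (card_coprime_of_isPGroup hRq hXq) h1 h2
      rw [mul_inv_eq_one, mul_inv_eq_iff_eq_mul] at h3
      exact h3
  refine ⟨?_, ?_⟩
  · rw [eq_bot_iff]
    intro x hx
    have hxX : x ∈ X := CfsgLib.Solvable.commutator_le_of_normalizes hXP hx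
    have hxL : x ∈ L := commutator_mono (hX.trans inf_le_left) le_rfl hx
    exact mem_bot.mpr (eq_one_of_coprime (card_coprime_of_isPGroup hRq hXq) (hCR x hxL (hXR hxX)) hxX)
  · have hY : X ⊓ Z ≤ centralizer (L : Set G) := by
      intro y hy
      refine mem_centralizer_iff.mpr fun l hl => ?_
      have hyH : y ∈ H := (hX hy.1).1
      set c := y * l * y⁻¹ * l⁻¹ with hc
      have hcL : c ∈ L := mul_mem (((mem_normalizer_iff.mp (hHL hyH)) l).mp hl) (inv_mem hl)
      have hcR : c ∈ centralizer (R : Set G) := by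
        rw [hc, show y * l * y⁻¹ * l⁻¹ = y * (l * y⁻¹ * l⁻¹) by group]
        refine mul_mem (hXR hy.1) (mem_centralizer_iff.mpr fun r hr => ?_)
        have hr' : l⁻¹ * r * l⁻¹⁻¹ ∈ R :=
          ((mem_normalizer_iff.mp (hNR (le_normalizer (inv_mem hl)))) r).mp hr
        have h1 := mem_centralizer_iff.mp (inv_mem (hXR hy.1)) _ hr'
        calc r * (l * y⁻¹ * l⁻¹) = l * (l⁻¹ * r * l⁻¹⁻¹ * y⁻¹) * l⁻¹ := by group
          _ = l * (y⁻¹ * (l⁻¹ * r * l⁻¹⁻¹)) * l⁻¹ := by rw [h1]
          _ = (l * y⁻¹ * l⁻¹) * r := by group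
      have hcR' : c ∈ R := hCR c hcL hcR
      have hyc : y * c * y⁻¹ = c := by
        rw [← mem_centralizer_iff.mp (hXR hy.1) c hcR', mul_inv_cancel_right]
      have hn : ∀ n : ℕ, y ^ n * l * (y ^ n)⁻¹ = c ^ n * l := by
        intro n
        induction n with
        | zero => simp
        | succ n ih =>
          calc y ^ (n + 1) * l * (y ^ (n + 1))⁻¹ = y * (y ^ n * l * (y ^ n)⁻¹) * y⁻¹ := by
                rw [pow_succ']; group
            _ = y * (c ^ n * l) * y⁻¹ := by rw [ih]
            _ = (y * c * y⁻¹) ^ n * (y * l * y⁻¹) := by rw [conj_pow]; group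
            _ = c ^ (n + 1) * l := by rw [hyc, pow_succ, hc]; group
      have h1 := hn (orderOf y)
      rw [pow_orderOf_eq_one, one_mul, inv_one, mul_one, eq_comm, mul_eq_right] at h1
      have h2 : c = 1 := by
        obtain ⟨k, hk⟩ := hRq ⟨c, hcR'⟩
        have h3 : c ^ q ^ k = 1 := congrArg Subtype.val hk
        have hco : (orderOf y).Coprime (q ^ k) :=
          Nat.Coprime.pow_right k (hXq.coprime_dvd_left (orderOf_dvd_natCard X hy.1))
        have h4 := pow_gcd_eq_one.mpr ⟨h1, h3⟩
        rwa [hco.gcd_eq_one, pow_one] at h4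
      rw [hc, mul_inv_eq_one, mul_inv_eq_iff_eq_mul] at h2
      exact h2.symm
    have hM : Z ⊓ centralizer (L : Set G) = ⊥ := by
      refine hbot _ ((inf_le_left.trans hZ).trans inf_le_left) ?_
        (hZq.coprime_dvd_left (card_dvd_of_le inf_le_left))
      rw [le_normalizer_iff]
      intro h hh m hm
      have hle : H ≤ normalizer ((Z ⊓ centralizer (L : Set G) : Subgroup G) : Set G) := by
        refine le_trans (CfsgLib.Solvable.commutator_sup_centralizer hPH hcop (Or.inl hPsol)).ge
          (sup_le ?_ ?_)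
        · rw [← hL, le_normalizer_iff]
          intro l hl m hm
          rwa [show l * m * l⁻¹ = m by rw [mem_centralizer_iff.mp hm.2 l hl, mul_inv_cancel_right]]
        · refine fun x hx => inf_normalizer_le_normalizer_inf ⟨hZn hx, ?_⟩
          refine mem_normalizer_iff.mpr fun m => ?_
          have key : ∀ x ∈ H, ∀ m ∈ centralizer (L : Set G), x * m * x⁻¹ ∈ centralizer (L : Set G) := by
            intro x hx m hm
            refine mem_centralizer_iff.mpr fun l hl => ?_
            have hl' := ((mem_normalizer_iff.mp (hHL (inv_mem hx))) l).mp hl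
            have h1 := mem_centralizer_iff.mp hm _ hl'
            calc l * (x * m * x⁻¹) = x * (x⁻¹ * l * x⁻¹⁻¹ * m) * x⁻¹ := by group
              _ = x * (m * (x⁻¹ * l * x⁻¹⁻¹)) * x⁻¹ := by rw [h1]
              _ = x * m * x⁻¹ * l := by group
          refine ⟨key x hx.1 m, fun hm => ?_⟩
          have h1 := key x⁻¹ (inv_mem hx.1) _ hm
          simpa [mul_assoc] using h1
      exact ((mem_normalizer_iff.mp (hle hh)) m).mp hm
    exact eq_bot_iff.mpr (hM ▸ le_inf inf_le_right hY)

/-- Let G be a finite group with Sylow p-subgroup P and H = O_{p'}(G), and suppose G = PH and the commutator subgroup [H, P] is solvable. Let q be a prime and z an element of q-power order of C_H(P). Then (O_{q'}(C_H(z)) ∩ O_{q'}(C_H(P))) · [O_{q'}(C_H(z)), P] ≤ O_{q'}(H). -/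
theorem result {G : Type*} [Group G] [Finite G] {p : ℕ} [Fact p.Prime]
    (P : Sylow p G) (hPH : Cfsg.pPrimeCore p G ⊔ (P : Subgroup G) = ⊤)
    (hsol : Group.IsSolvable ↥⁅Cfsg.pPrimeCore p G, (P : Subgroup G)⁆)
    {q : ℕ} [Fact q.Prime] (z : G) (hzH : z ∈ Cfsg.pPrimeCore p G) (hzP : z ∈ Subgroup.centralizer ((P : Subgroup G) : Set G))
    (hz : ∃ k : ℕ, orderOf z = q ^ k) :
    ((Cfsg.pPrimeCore q ↥(Cfsg.pPrimeCore p G ⊓ Subgroup.centralizer ({z} : Set G))).map
        (Cfsg.pPrimeCore p G ⊓ Subgroup.centralizer ({z} : Set G)).subtype ⊓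
      (Cfsg.pPrimeCore q ↥(Cfsg.pPrimeCore p G ⊓ Subgroup.centralizer ((P : Subgroup G) : Set G))).map
        (Cfsg.pPrimeCore p G ⊓ Subgroup.centralizer ((P : Subgroup G) : Set G)).subtype) ⊔
    ⁅(Cfsg.pPrimeCore q ↥(Cfsg.pPrimeCore p G ⊓ Subgroup.centralizer ({z} : Set G))).map
        (Cfsg.pPrimeCore p G ⊓ Subgroup.centralizer ({z} : Set G)).subtype, (P : Subgroup G)⁆ ≤
    (Cfsg.pPrimeCore q ↥(Cfsg.pPrimeCore p G)).map (Cfsg.pPrimeCore p G).subtype := by
  haveI := CfsgLib.Solvable.pPrimeCore_normal p G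
  set H := Cfsg.pPrimeCore p G with hH
  set U := H ⊓ centralizer ({z} : Set G) with hU
  set W := H ⊓ centralizer ((P : Subgroup G) : Set G) with hW
  haveI := CfsgLib.Solvable.pPrimeCore_characteristic q U
  haveI := CfsgLib.Solvable.pPrimeCore_characteristic q W
  haveI := CfsgLib.Solvable.pPrimeCore_characteristic q H
  set X := (Cfsg.pPrimeCore q U).map U.subtype with hXdef
  set Z := (Cfsg.pPrimeCore q W).map W.subtype with hZdef
  set K := (Cfsg.pPrimeCore q H).map H.subtype with hKdef
  haveI hKn : K.Normal := CfsgLib.Solvable.normal_map_subtype_of_characteristic H _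
  set π := QuotientGroup.mk' K
  have hKH : K ≤ H := map_subtype_le _
  have hKq : (Nat.card K).Coprime q := by
    rw [hKdef, card_subtype]; exact CfsgLib.Solvable.pPrimeCore_card_coprime q H
  obtain ⟨k, hk⟩ := hz
  have hzp : IsPGroup q (zpowers z) := IsPGroup.of_card (n := k) (by rw [Nat.card_zpowers, hk])
  have hcop : (Nat.card (P : Subgroup G)).Coprime (Nat.card H) := by
    obtain ⟨j, hj⟩ := P.2.exists_card_eq
    rw [hj]
    exact Nat.Coprime.pow_left j (CfsgLib.Solvable.pPrimeCore_card_coprime p G).symm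
  have hPsol : Group.IsSolvable (P : Subgroup G) := by
    haveI := P.2.isNilpotent
    infer_instance
  have hUn : U ≤ normalizer (X : Set G) :=
    le_normalizer.trans (normalizer_le_of_characteristic U _)
  have hWn : W ≤ normalizer (Z : Set G) :=
    le_normalizer.trans (normalizer_le_of_characteristic W _)
  have hPU : (P : Subgroup G) ≤ normalizer (X : Set G) := by
    refine le_trans ?_ (normalizer_le_of_characteristic U _)
    refine fun x hx => inf_normalizer_le_normalizer_inf ⟨le_normalizer_of_normal (mem_top x) , ?_⟩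
    refine le_normalizer (mem_centralizer_singleton_iff.mpr ?_)
    exact mem_centralizer_iff.mp hzP x hx
  have hbot : ∀ K' : Subgroup (G ⧸ K), K' ≤ H.map π → H.map π ≤ normalizer (K' : Set (G ⧸ K)) →
      (Nat.card K').Coprime q → K' = ⊥ := by
    intro K' hle hn hco
    have hpre : K'.comap π ≤ H := by
      refine (comap_mono hle).trans ?_
      rw [comap_map_eq, QuotientGroup.ker_mk']
      exact sup_le le_rfl hKH
    have hnorm : ((K'.comap π).subgroupOf H).Normal := by
      refine ⟨fun x hx h => ?_⟩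
      rw [mem_subgroupOf, mem_comap] at hx ⊢
      rw [Subgroup.coe_mul, Subgroup.coe_mul, map_mul, map_mul, InvMemClass.coe_inv, map_inv]
      exact ((mem_normalizer_iff.mp (hn ⟨h, h.2, rfl⟩)) _).mp hx
    have hcard : (Nat.card ((K'.comap π).subgroupOf H)).Coprime q := by
      rw [Nat.card_congr (subgroupOfEquivOfLe hpre).toEquiv]
      have hmul : Nat.card (K'.comap π) = Nat.card K * Nat.card K' := by
        let f : (K'.comap π) →* K' := (π.comp (K'.comap π).subtype).codRestrict K' fun x => x.2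
        have hf : Function.Surjective f := fun y => by
          obtain ⟨x, hx⟩ := QuotientGroup.mk'_surjective K (y : G ⧸ K)
          exact ⟨⟨x, show π x ∈ K' by rw [hx]; exact y.2⟩, Subtype.ext hx⟩
        have h1 := f.ker.card_mul_index
        rw [index_ker, MonoidHom.range_eq_top.mpr hf, card_top] at h1
        have hker : f.ker = K.subgroupOf (K'.comap π) := by
          ext x
          rw [MonoidHom.mem_ker, mem_subgroupOf, ← QuotientGroup.eq_one_iff]
          exact Subtype.ext_iff
        rw [hker, Nat.card_congr (subgroupOfEquivOfLe (fun x hx => by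
          rw [mem_comap, show π x = 1 from (QuotientGroup.eq_one_iff x).mpr hx]
          exact one_mem _)).toEquiv] at h1
        exact h1.symm
      rw [hmul]
      exact Nat.Coprime.mul_left hKq hco
    have h2 : (K'.comap π).subgroupOf H ≤ Cfsg.pPrimeCore q H := CfsgLib.Solvable.le_pPrimeCore hnorm hcard
    rw [eq_bot_iff]
    intro y hy
    obtain ⟨x, rfl⟩ := QuotientGroup.mk'_surjective K y
    have hxK : x ∈ K := ⟨⟨x, hpre hy⟩, h2 hy, rfl⟩
    exact mem_bot.mpr ((QuotientGroup.eq_one_iff x).mpr hxK)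
  have hXimg : H.map π ⊓ centralizer ({π z} : Set (G ⧸ K)) ≤ U.map π := by
    rintro _ ⟨⟨h, hh, rfl⟩, hc⟩
    have hmul := mem_centralizer_singleton_iff.mp hc
    have hcop' : (Nat.card (zpowers z)).Coprime (Nat.card K) := card_coprime_of_isPGroup hzp hKq
    obtain ⟨d, hd, hn⟩ := CfsgLib.Solvable.exists_mul_mem_normalizer (A := zpowers z) (D := K)
      le_normalizer_of_normal hcop' (Or.inl (Group.isSolvable_of_comm fun a b => mul_comm' a b)) (x := h) (by
        intro a ha
        obtain ⟨i, rfl⟩ := mem_zpowers_iff.mp ha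
        rw [← QuotientGroup.eq_one_iff]
        show π (h⁻¹ * (z ^ i * h * (z ^ i)⁻¹)) = 1
        rw [map_mul, map_mul, map_mul, map_inv, map_inv, map_zpow,
          ← ((show Commute (π h) (π z) from hmul).zpow_right i).eq]
        group)
    refine ⟨h * d, ⟨mul_mem hh (hKH hd), mem_centralizer_singleton_iff.mpr ?_⟩, ?_⟩
    · have h1 : h * d * z * (h * d)⁻¹ * z⁻¹ ∈ zpowers z :=
        mul_mem (((mem_normalizer_iff.mp hn) z).mp (mem_zpowers z)) (inv_mem (mem_zpowers z))
      have h2 : h * d * z * (h * d)⁻¹ * z⁻¹ ∈ K := by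
        rw [← QuotientGroup.eq_one_iff]
        show π (h * d * z * (h * d)⁻¹ * z⁻¹) = 1
        simp only [map_mul, map_inv, show π d = 1 from (QuotientGroup.eq_one_iff d).mpr hd, mul_one,
          hmul, mul_inv_cancel_right, mul_inv_cancel]
      have h3 := eq_one_of_coprime hcop' h1 h2
      rwa [mul_inv_eq_one, mul_inv_eq_iff_eq_mul] at h3
    · rw [map_mul, show π d = 1 from (QuotientGroup.eq_one_iff d).mpr hd, mul_one]
  have hWimg : H.map π ⊓ centralizer (((P : Subgroup G).map π : Subgroup (G ⧸ K)) : Set (G ⧸ K)) ≤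
      W.map π := by
    rintro _ ⟨⟨h, hh, rfl⟩, hc⟩
    obtain ⟨c, hc', hcK⟩ := CfsgLib.Solvable.exists_fixed_of_fixed_mod (A := (P : Subgroup G)) (K := H)
      (N := K) le_normalizer_of_normal hcop (Or.inl hPsol) hKH le_normalizer_of_normal
      le_normalizer_of_normal hh fun a ha => by
        rw [← QuotientGroup.eq_one_iff]
        show π (a * h * a⁻¹ * h⁻¹) = 1
        rw [map_mul, map_mul, map_mul, map_inv, map_inv, hc (π a) (mem_map_of_mem π ha)]
        group
    exact ⟨c, hc', (QuotientGroup.eq.mpr hcK).symm⟩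
  obtain ⟨k', hk'⟩ := hzp.exists_card_eq
  have hsol' : Group.IsSolvable ↥⁅H.map π, (P : Subgroup G).map π⁆ := by
    rw [← map_commutator]
    haveI := hsol
    exact Group.isSolvable_of_surjective (π.subgroupMap_surjective ⁅H, (P : Subgroup G)⁆)
  have hPsol' : Group.IsSolvable ↥((P : Subgroup G).map π) := by
    haveI := hPsol
    exact Group.isSolvable_of_surjective (π.subgroupMap_surjective (P : Subgroup G))
  have hcop' : (Nat.card ((P : Subgroup G).map π)).Coprime (Nat.card (H.map π)) :=
    (hcop.coprime_dvd_left (card_map_dvd _ _)).coprime_dvd_right (card_map_dvd _ _)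
  have hzp' : IsPGroup q (zpowers (π z)) := by
    rw [← MonoidHom.map_zpowers]
    exact hzp.map π
  obtain ⟨e1, e2⟩ := core (H.map π) ((P : Subgroup G).map π)
    ((map_mono le_normalizer_of_normal).trans (le_normalizer_map π)) hcop' hPsol' hsol' hbot (π z)
    (mem_map_of_mem π hzH) hzp' (X.map π) (Z.map π)
    (by
      rintro _ ⟨x, hx, rfl⟩
      have hxU : x ∈ U := map_subtype_le _ hx
      exact ⟨mem_map_of_mem π hxU.1, mem_centralizer_singleton_iff.mpr
        (by rw [← map_mul, mem_centralizer_singleton_iff.mp hxU.2, map_mul])⟩)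
    (hXimg.trans ((map_mono hUn).trans (le_normalizer_map π)))
    ((map_mono hPU).trans (le_normalizer_map π))
    ((CfsgLib.Solvable.pPrimeCore_card_coprime q U).coprime_dvd_left
      ((card_map_dvd _ _).trans (card_map_dvd _ _)))
    (by
      rintro _ ⟨x, hx, rfl⟩
      have hxW : x ∈ W := map_subtype_le _ hx
      exact ⟨mem_map_of_mem π hxW.1, by
        rintro _ ⟨a, ha, rfl⟩
        rw [← map_mul, ← map_mul, hxW.2 a ha]⟩)
    (hWimg.trans ((map_mono hWn).trans (le_normalizer_map π)))
    ((CfsgLib.Solvable.pPrimeCore_card_coprime q W).coprime_dvd_left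
      ((card_map_dvd _ _).trans (card_map_dvd _ _)))
  refine sup_le ?_ ?_
  · have h1 : (X ⊓ Z).map π = ⊥ := eq_bot_iff.mpr ((map_inf_le X Z π).trans e2.le)
    rwa [Subgroup.map_eq_bot_iff, QuotientGroup.ker_mk'] at h1
  · rw [← map_commutator, Subgroup.map_eq_bot_iff, QuotientGroup.ker_mk'] at e1
    exact e1

end Cfsg.Agent.S3819
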