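import Cfsg.Statements.S3820


set_option autoImplicit false
open Cfsg

namespace Cfsg.Agent.S3820

/-- Call a subgroup H of G pronormal if H and gHg⁻¹ are conjugate inside ⟨H, gHg⁻¹⟩ for every g ∈ G. Let S ≤ H ≤ G be subgroups of a finite group with S pronormal in G (for instance S a Sylow subgroup). Then H is pronormal in G if and only if H and gHg⁻¹ are conjugate inside ⟨H, gHg⁻¹⟩ for every g ∈ N_G(S). In particular H is pronormal whenever N_G(S) ≤ H. -/
theorem result {G : Type*} [Group G] [Finite G] (S H : Subgroup G) (hSH : S ≤ H)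
    (hS : Cfsg.IsPronormal S) :
    Cfsg.IsPronormal H ↔
      ∀ g ∈ Subgroup.normalizer (S : Set G), ∃ w ∈ H ⊔ H.map (MulAut.conj g).toMonoidHom,
        H.map (MulAut.conj g).toMonoidHom = H.map (MulAut.conj w).toMonoidHom := by
  refine ⟨fun hH g _ => hH g, fun h g => ?_⟩
  obtain ⟨x, hx, hxS⟩ := hS g
  have hx' : x ∈ H ⊔ H.map (MulAut.conj g).toMonoidHom :=
    (sup_le_sup hSH (Subgroup.map_mono hSH)) hx
  have hmul : ∀ (a b : G) (K : Subgroup G), K.map (MulAut.conj (a * b)).toMonoidHom =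
      (K.map (MulAut.conj b).toMonoidHom).map (MulAut.conj a).toMonoidHom := by
    intro a b K
    rw [Subgroup.map_map]
    congr 1
    ext z
    simp [MulAut.conj_apply, mul_assoc]
  have hone : ∀ K : Subgroup G, K.map (MulAut.conj (1 : G)).toMonoidHom = K := by
    intro K
    ext z
    simp [Subgroup.mem_map_equiv, MulAut.conj_symm_apply]
  have hn : x⁻¹ * g ∈ Subgroup.normalizer (S : Set G) := by
    have hfix : S.map (MulAut.conj (x⁻¹ * g)).toMonoidHom = S := by
      rw [hmul, hxS, ← hmul, inv_mul_cancel, hone]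
    rw [Subgroup.mem_normalizer_iff]
    intro z
    conv_rhs => rw [← hfix]
    exact (Subgroup.mem_map_iff_mem (f := (MulAut.conj (x⁻¹ * g)).toMonoidHom)
      (MulAut.conj (x⁻¹ * g)).injective).symm
  obtain ⟨w, hw, hwH⟩ := h _ hn
  have hle : H ⊔ H.map (MulAut.conj (x⁻¹ * g)).toMonoidHom ≤
      H ⊔ H.map (MulAut.conj g).toMonoidHom := by
    refine sup_le le_sup_left ?_
    rintro z hz
    rw [hmul] at hz
    obtain ⟨u, hu, rfl⟩ := hz
    simp only [MulEquiv.coe_toMonoidHom, MulAut.conj_apply, inv_inv]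
    exact mul_mem (mul_mem (inv_mem hx') (Subgroup.mem_sup_right hu)) hx'
  refine ⟨x * w, mul_mem hx' (hle hw), ?_⟩
  rw [hmul x w, ← hwH, ← hmul, mul_inv_cancel_left]

end Cfsg.Agent.S3820
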