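import Cfsg.Statements.S3821


set_option autoImplicit false
open Cfsg

namespace Cfsg.Agent.S3821

/-- Let A be a normal subgroup of the finite group G and H a subgroup of A. Then H is pronormal in G (H and gHg⁻¹ conjugate inside ⟨H, gHg⁻¹⟩ for every g ∈ G) if and only if H is pronormal in A and G = A · N_G(H). -/
theorem result {G : Type*} [Group G] [Finite G] (A H : Subgroup G) [A.Normal] (hHA : H ≤ A) :
    Cfsg.IsPronormal H ↔ (Cfsg.IsPronormal (H.subgroupOf A) ∧ A ⊔ Subgroup.normalizer (H : Set G) = ⊤) := by
  constructor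
  · intro hH
    constructor
    · intro g
      obtain ⟨x, hx, hxH⟩ := hH (g : G)
      have hle : H ⊔ H.map (MulAut.conj (g : G)).toMonoidHom ≤ A := by
        refine sup_le hHA ?_
        rintro z ⟨u, hu, rfl⟩
        exact (inferInstance : A.Normal).conj_mem u (hHA hu) _
      refine ⟨⟨x, hle hx⟩, ?_, ?_⟩
      · have e : (H.subgroupOf A ⊔ (H.subgroupOf A).map (MulAut.conj g).toMonoidHom).map A.subtype =
            H ⊔ H.map (MulAut.conj (g : G)).toMonoidHom := by
          rw [Subgroup.map_sup, Subgroup.map_map, Subgroup.subgroupOf_map_subtype,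
            inf_eq_left.mpr hHA]
          congr 1
          conv_rhs => rw [← inf_eq_left.mpr hHA, ← Subgroup.subgroupOf_map_subtype, Subgroup.map_map]
          rfl
        have hx2 : x ∈ (H.subgroupOf A ⊔ (H.subgroupOf A).map (MulAut.conj g).toMonoidHom).map A.subtype := by
          rw [e]; exact hx
        obtain ⟨y, hy, hyx⟩ := hx2
        have : (⟨x, hle hx⟩ : A) = y := Subtype.ext hyx.symm
        rw [this]; exact hy
      · apply Subgroup.map_injective A.subtype_injective
        have key : ∀ a : A, ((H.subgroupOf A).map (MulAut.conj a).toMonoidHom).map A.subtype =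
            H.map (MulAut.conj (a : G)).toMonoidHom := by
          intro a
          conv_rhs => rw [← inf_eq_left.mpr hHA, ← Subgroup.subgroupOf_map_subtype, Subgroup.map_map]
          rw [Subgroup.map_map]
          rfl
        rw [key, key]
        exact hxH
    · refine eq_top_iff.mpr fun g _ => ?_
      obtain ⟨x, hx, hxH⟩ := hH g
      have hxA : x ∈ A := by
        refine (sup_le hHA ?_) hx
        rintro z ⟨u, hu, rfl⟩
        exact (inferInstance : A.Normal).conj_mem u (hHA hu) _
      have hn : x⁻¹ * g ∈ Subgroup.normalizer (H : Set G) := by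
        rw [Subgroup.mem_normalizer_iff]
        have e := fun z => SetLike.ext_iff.mp hxH z
        intro z
        have := e (g * z * g⁻¹)
        simp only [Subgroup.mem_map_equiv, MulAut.conj_symm_apply] at this
        simpa [mul_assoc] using this
      have := Subgroup.mul_mem_sup hxA hn
      rwa [mul_inv_cancel_left] at this
  · rintro ⟨hA, hsup⟩ g
    have hg : g ∈ A ⊔ Subgroup.normalizer (H : Set G) := hsup ▸ Subgroup.mem_top g
    obtain ⟨a, ha, n, hn, rfl⟩ := Subgroup.mem_sup_of_normal_left.mp hg
    obtain ⟨x, hx, hxH⟩ := hA ⟨a, ha⟩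
    have key : ∀ b : A, ((H.subgroupOf A).map (MulAut.conj b).toMonoidHom).map A.subtype =
        H.map (MulAut.conj (b : G)).toMonoidHom := by
      intro b
      conv_rhs => rw [← inf_eq_left.mpr hHA, ← Subgroup.subgroupOf_map_subtype, Subgroup.map_map]
      rw [Subgroup.map_map]
      rfl
    have hgn : H.map (MulAut.conj (a * n)).toMonoidHom = H.map (MulAut.conj a).toMonoidHom := by
      ext z
      simp only [Subgroup.mem_map_equiv, MulAut.conj_symm_apply]
      have := (Subgroup.mem_normalizer_iff.mp hn (n⁻¹ * (a⁻¹ * z * a) * n))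
      simpa [mul_assoc] using this
    refine ⟨x, ?_, ?_⟩
    · have h1 := Subgroup.mem_map_of_mem A.subtype hx
      rw [Subgroup.map_sup, key, Subgroup.subgroupOf_map_subtype, inf_eq_left.mpr hHA] at h1
      rwa [hgn]
    · rw [hgn, ← key x, ← hxH, key]

end Cfsg.Agent.S3821
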