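import Cfsg.Statements.S3822
import Cfsg.Agent.Lib.Solvable.TwoConjMax

set_option autoImplicit false
open Cfsg

namespace Cfsg.Agent.S3822

/-- Let G be a finite group and P a subgroup of prime order p > 3. Consider the solvable subgroups A of G of the form A = ⟨P, aPa⁻¹⟩ for some a ∈ A, and let A be maximal under inclusion among them. Then for every nilpotent subgroup V of G normalized by A, the subgroup F(A)V generated by the Fitting subgroup of A and V is nilpotent. -/
theorem result {G : Type*} [Group G] [Finite G]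
    {p : ℕ} [Fact p.Prime] (hp : 3 < p) (P : Subgroup G) (hP : Nat.card P = p) (A : Subgroup G)
    (hA : Group.IsSolvable ↥A ∧ ∃ a ∈ A, A = P ⊔ P.map (MulAut.conj a).toMonoidHom)
    (hmax : ∀ B : Subgroup G, A ≤ B → Group.IsSolvable ↥B → (∃ b ∈ B, B = P ⊔ P.map (MulAut.conj b).toMonoidHom) → B = A)
    (V : Subgroup G) (hV : Group.IsNilpotent ↥V) (hAV : A ≤ Subgroup.normalizer (V : Set G)) :
    Group.IsNilpotent ↥((Cfsg.fittingSubgroup ↥A).map A.subtype ⊔ V) := by
  have hp' : p.Prime := Fact.out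
  have hp5 : 5 ≤ p := by
    by_contra h
    have h4 : p = 4 := by omega
    rw [h4] at hp'
    exact absurd hp' (by norm_num)
  haveI : Nontrivial P := by
    rw [← Finite.one_lt_card_iff_nontrivial, hP]; omega
  obtain ⟨x, hx⟩ := exists_ne (1 : P)
  have hPx : P = Subgroup.zpowers (x : G) := by
    refine le_antisymm (fun g hg => ?_) (Subgroup.zpowers_le.2 x.2)
    obtain ⟨i, hi⟩ := (mem_zpowers_of_prime_card hP hx : (⟨g, hg⟩ : P) ∈ Subgroup.zpowers x)
    exact ⟨i, congrArg Subtype.val hi⟩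
  have hxp : (x : G) ^ p = 1 := by
    rw [← Subgroup.coe_pow, ← hP, pow_card_eq_one', OneMemClass.coe_one]
  have hconj : ∀ b : G, P.map (MulAut.conj b).toMonoidHom = Subgroup.zpowers (b * x * b⁻¹) := fun b => by
    conv_lhs => rw [hPx]
    rw [MonoidHom.map_zpowers]
    rfl
  refine CfsgLib.Solvable.TwoConjMax.isNilpotent_fitting_sup hp' hp5 hxp ⟨hA.1, ?_, ?_⟩ hV hAV
  · obtain ⟨a, ha, h⟩ := hA.2
    exact ⟨a, ha, by rw [h, hconj, ← hPx]⟩
  · intro B hAB hBs hB
    obtain ⟨b, hb, h⟩ := hB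
    exact hmax B hAB hBs ⟨b, hb, by rw [hconj, h, ← hPx]⟩

end Cfsg.Agent.S3822
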