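import Cfsg.Statements.S3824
import Cfsg.Agent.S0143
import Mathlib.GroupTheory.Nilpotent
import Mathlib.Tactic.Ring
import Mathlib.GroupTheory.Solvable
import Mathlib.GroupTheory.SpecificGroups.Cyclic.Basic

set_option autoImplicit false
open Cfsg

namespace Cfsg.Agent.S3824

universe u

theorem aux : ∀ (n : ℕ) {G : Type u} [Group G] [Finite G], Nat.card G ≤ n →
    ∀ A : Subgroup G, IsMulCommutative A → ∀ k : ℕ, A.index = 2 ^ k → Group.IsSolvable G := by
  intro n
  induction n with
  | zero =>
    intro G _ _ hcard
    have := Nat.card_pos (α := G)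
    omega
  | succ n ih =>
  intro G _ _ hcard A hA k hk
  rcases subsingleton_or_nontrivial G with hsub | hnt
  · exact inferInstance
  by_cases hN : ∃ N : Subgroup G, N.Normal ∧ N ≠ ⊥ ∧ N ≠ ⊤
  · obtain ⟨N, hNn, hNb, hNt⟩ := hN
    have hlt : Nat.card N < Nat.card G := by
      refine lt_of_le_of_ne (Nat.le_of_dvd Nat.card_pos N.card_subgroup_dvd_card) fun h => hNt ?_
      exact Subgroup.eq_top_of_card_eq N h
    have hlt' : Nat.card (G ⧸ N) < Nat.card G := by
      have h1 := Subgroup.card_eq_card_quotient_mul_card_subgroup N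
      have h2 : 1 < Nat.card N := by
        refine lt_of_le_of_ne Nat.card_pos fun h => hNb ?_
        exact Subgroup.eq_bot_of_card_eq _ h.symm
      rw [h1]
      exact lt_mul_of_one_lt_right Nat.card_pos h2
    obtain ⟨i, -, hi⟩ := (Nat.dvd_prime_pow Nat.prime_two).mp
      (show (A.subgroupOf N).index ∣ 2 ^ k by
        rw [← hk]
        show A.relIndex N ∣ A.index
        have h1 : A.relIndex N * N.index = (A ⊓ N).index := by
          rw [← Subgroup.inf_relIndex_right, Subgroup.relIndex_mul_index inf_le_right]
        have h2 : N.relIndex A * A.index = (A ⊓ N).index := by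
          rw [← Subgroup.inf_relIndex_left, Subgroup.relIndex_mul_index inf_le_left]
        obtain ⟨e, he⟩ : N.relIndex A ∣ N.index := Subgroup.relIndex_dvd_index_of_normal N A
        have hpos : 0 < N.relIndex A := Nat.pos_of_ne_zero fun h0 => Subgroup.index_ne_zero_of_finite
          (H := N) (by rw [he, h0, zero_mul])
        refine ⟨e, Nat.eq_of_mul_eq_mul_left hpos ?_⟩
        rw [h2, ← h1, he]
        ring)
    have hAN : IsMulCommutative (A.subgroupOf N) :=
      ⟨⟨fun a b => Subtype.ext (Subtype.ext
        (congrArg Subtype.val (hA.1.1 (⟨_, a.2⟩ : A) ⟨_, b.2⟩) :))⟩⟩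
    have hsN : Group.IsSolvable N := ih (by omega) (A.subgroupOf N) hAN i hi
    obtain ⟨j, -, hj⟩ := (Nat.dvd_prime_pow Nat.prime_two).mp
      (show (A.map (QuotientGroup.mk' N)).index ∣ 2 ^ k by
        rw [← hk]
        exact Subgroup.index_map_dvd _ (QuotientGroup.mk'_surjective N))
    have hAQ : IsMulCommutative (A.map (QuotientGroup.mk' N)) :=
      Subgroup.map_isMulCommutative A _
    have hsQ : Group.IsSolvable (G ⧸ N) := ih (by omega) _ hAQ j hj
    exact Group.isSolvable_of_ker_le_range N.subtype (QuotientGroup.mk' N)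
      (by rw [QuotientGroup.ker_mk', Subgroup.range_subtype])
  · have hsimple : IsSimpleGroup G := ⟨fun H hH => by
      by_contra h
      exact hN ⟨H, hH, fun e => h (Or.inl e), fun e => h (Or.inr e)⟩⟩
    rcases A.bot_or_exists_ne_one with hbot | ⟨g, hg, hg1⟩
    · have h2 : IsPGroup 2 G := IsPGroup.of_card (n := k) (by rw [← hk, hbot, Subgroup.index_bot])
      have := h2.isNilpotent
      exact inferInstance
    · obtain ⟨j, -, hj⟩ := (Nat.dvd_prime_pow Nat.prime_two).mp
        (show (Subgroup.centralizer ({g} : Set G)).index ∣ 2 ^ k by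
          rw [← hk]
          refine Subgroup.index_dvd_of_le fun a ha => ?_
          rw [Subgroup.mem_centralizer_singleton_iff]
          exact (congrArg Subtype.val (hA.1.1 (⟨a, ha⟩ : A) ⟨g, hg⟩) :))
      have hp := Cfsg.Agent.S0143.result 2 j Nat.prime_two g hg1 hj
      have : Fact (Nat.card G).Prime := ⟨hp⟩
      have hc := isCyclic_of_prime_card (rfl : Nat.card G = Nat.card G)
      exact Group.isSolvable_of_comm fun a b => hc.commGroup.mul_comm a b

/-- Every finite group having an abelian subgroup whose index is a power of 2 is solvable. -/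
theorem result {G : Type*} [Group G] [Finite G]
    (A : Subgroup G) (hA : IsMulCommutative A) (hidx : ∃ k : ℕ, A.index = 2 ^ k) : Group.IsSolvable G :=
  hidx.elim fun k hk => aux (Nat.card G) le_rfl A hA k hk

end Cfsg.Agent.S3824
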