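import Cfsg.Statements.S3825
import Mathlib.GroupTheory.Perm.Cycle.Type
import Mathlib.GroupTheory.SpecificGroups.Cyclic.Basic

set_option autoImplicit false
open Cfsg
open scoped commutatorElement

namespace Cfsg.Agent.S3825

/-- Let U be a subgroup of a finite group H and w an involution of H normalizing U and commuting with exactly two elements of U, the identity and y. If V is a non-cyclic elementary abelian 2-subgroup of U containing y which is normal in U and invariant under w, then V is a Sylow 2-subgroup of U, V has order 4, and U/V is abelian. -/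
theorem result {H : Type*} [Group H] [Finite H] (U : Subgroup H) (w : H) (hw : orderOf w = 2)
    (hwU : w ∈ Subgroup.normalizer (U : Set H)) (y : H) (hy : y ≠ 1) (hyU : y ∈ U)
    (hfix : ∀ u ∈ U, w * u * w⁻¹ = u ↔ (u = 1 ∨ u = y))
    (V : Subgroup H) (hVU : V ≤ U) (hVn : (V.subgroupOf U).Normal) (hVw : ∀ v ∈ V, w * v * w⁻¹ ∈ V)
    (hVe : Cfsg.IsElementaryAbelian 2 V) (hVc : ¬ IsCyclic ↥V) (hyV : y ∈ V) :
    ¬ 2 ∣ V.relIndex U ∧ Nat.card ↥V = 4 ∧ ⁅U, U⁆ ≤ V := by
  have hw2 : w * w = 1 := by rw [← sq, ← hw]; exact pow_orderOf_eq_one w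
  have hsq : ∀ v ∈ V, v * v = 1 := fun v hv => by rw [← sq]; exact hVe.2 v hv
  have hcomm : ∀ a ∈ V, ∀ b ∈ V, a * b = b * a := fun a ha b hb =>
    congrArg Subtype.val (hVe.1.1.1 (⟨a, ha⟩ : V) ⟨b, hb⟩)
  have hww : ∀ u : H, w * (w * u * w⁻¹) * w⁻¹ = u := fun u => by
    have : w⁻¹ = w := inv_eq_of_mul_eq_one_right hw2
    rw [this]
    calc w * (w * u * w) * w = (w * w) * u * (w * w) := by group
      _ = u := by rw [hw2, one_mul, mul_one]
  -- the map `v ↦ v * w v w⁻¹`
  let φ : V →* H :=
    { toFun := fun v => (v : H) * (w * v * w⁻¹)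
      map_one' := by simp
      map_mul' := fun a b => by
        have h1 : (b : H) * (w * a * w⁻¹) = (w * a * w⁻¹) * b := hcomm _ b.2 _ (hVw _ a.2)
        push_cast
        calc (a : H) * b * (w * (a * b) * w⁻¹)
            = a * (b * (w * a * w⁻¹)) * (w * b * w⁻¹) := by group
          _ = a * ((w * a * w⁻¹) * b) * (w * b * w⁻¹) := by rw [h1]
          _ = a * (w * a * w⁻¹) * (b * (w * b * w⁻¹)) := by group }
  have hfixV : ∀ v : V, (w * v * w⁻¹ = (v : H)) ↔ ((v : H) = 1 ∨ (v : H) = y) :=
    fun v => hfix v (hVU v.2)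
  have himg : ∀ v : V, φ v = 1 ∨ φ v = y := by
    intro v
    refine (hfix _ (mul_mem (hVU v.2) (hVU (hVw _ v.2)))).mp ?_
    show w * ((v : H) * (w * v * w⁻¹)) * w⁻¹ = (v : H) * (w * v * w⁻¹)
    calc w * ((v : H) * (w * v * w⁻¹)) * w⁻¹ = (w * v * w⁻¹) * (w * (w * v * w⁻¹) * w⁻¹) := by group
      _ = (w * v * w⁻¹) * v := by rw [hww]
      _ = _ := hcomm _ (hVw _ v.2) _ v.2
  have hker : ∀ v : V, φ v = 1 → (v : H) = 1 ∨ (v : H) = y := by
    intro v hv
    refine (hfixV v).mp ?_
    have h1 : (v : H) * (w * v * w⁻¹) = 1 := hv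
    rw [← inv_eq_of_mul_eq_one_right h1]
    exact inv_eq_of_mul_eq_one_right (hsq _ v.2)
  have hcard4 : Nat.card V ≤ 4 := by
    rw [Subgroup.card_eq_card_quotient_mul_card_subgroup φ.ker,
      Nat.card_congr (QuotientGroup.quotientKerEquivRange φ).toEquiv]
    have h1 : Nat.card φ.range ≤ 2 := by
      rw [← SetLike.coe_sort_coe, Nat.card_coe_set_eq]
      refine le_trans (Set.ncard_le_ncard (t := ({1, y} : Set H)) ?_ (Set.toFinite _))
        ((Set.ncard_insert_le _ _).trans (by rw [Set.ncard_singleton]))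
      rintro _ ⟨v, rfl⟩
      exact himg v
    have h2 : Nat.card φ.ker ≤ 2 := by
      rw [← SetLike.coe_sort_coe, Nat.card_coe_set_eq, ← Set.ncard_image_of_injective _ Subtype.val_injective]
      refine le_trans (Set.ncard_le_ncard (t := ({1, y} : Set H)) ?_ (Set.toFinite _))
        ((Set.ncard_insert_le _ _).trans (by rw [Set.ncard_singleton]))
      rintro _ ⟨v, hv, rfl⟩
      exact hker v hv
    exact Nat.mul_le_mul h1 h2
  have hV4 : Nat.card V = 4 := by
    have hp2 : IsPGroup 2 V := fun v => ⟨1, Subtype.ext (by simpa using hVe.2 _ v.2)⟩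
    obtain ⟨k, hk⟩ := IsPGroup.iff_card.mp hp2
    rcases Nat.lt_or_ge k 2 with hk2 | hk2
    · exfalso
      rcases (show k = 0 ∨ k = 1 by omega) with rfl | rfl
      · have : Subsingleton V := (Nat.card_eq_one_iff_unique.mp (by simpa using hk)).1
        exact hVc isCyclic_of_subsingleton
      · exact hVc (isCyclic_of_prime_card (p := 2) (by simpa using hk))
    · have := Nat.pow_le_pow_right (show 0 < 2 by norm_num) hk2
      omega
  obtain ⟨t, ht, hty⟩ : ∃ t : V, (t : H) ≠ 1 ∧ (t : H) ≠ y := by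
    by_contra hne
    push Not at hne
    have h1 : Nat.card V ≤ ({1, y} : Set H).ncard := by
      rw [← SetLike.coe_sort_coe, Nat.card_coe_set_eq]
      refine Set.ncard_le_ncard (fun v hv => ?_) (Set.toFinite _)
      by_cases h : v = 1
      · exact Or.inl h
      · exact Or.inr (hne ⟨v, hv⟩ h)
    rw [hV4, Set.ncard_pair hy.symm] at h1
    omega
  have hφt : φ t = y := (himg t).resolve_left fun h => (hker t h).elim ht hty
  -- no fixed points modulo `V`
  have key : ∀ u ∈ U, u⁻¹ * (w * u * w⁻¹) ∈ V → u ∈ V := by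
    intro u hu hv
    set v := u⁻¹ * (w * u * w⁻¹) with hvdef
    have e : w * u * w⁻¹ = u * v := by rw [hvdef]; group
    have h1 : φ ⟨v, hv⟩ = 1 := by
      show v * (w * v * w⁻¹) = 1
      have h2 := hww u
      rw [e] at h2
      have h3 : u * (v * (w * v * w⁻¹)) = u := by
        calc u * (v * (w * v * w⁻¹)) = (w * u * w⁻¹) * (w * v * w⁻¹) := by rw [e]; group
          _ = w * (u * v) * w⁻¹ := by group
          _ = u := h2
      exact mul_eq_left.mp h3
    rcases hker _ h1 with h | h
    · simp only at h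
      rcases (hfix u hu).mp (by rw [e, h, mul_one]) with h' | h' <;> rw [h']
      exacts [one_mem _, hyV]
    · simp only at h
      have h2 : w * (u * (t : H)) * w⁻¹ = u * t := by
        have h3 : (t : H) * (w * t * w⁻¹) = y := hφt
        calc w * (u * (t : H)) * w⁻¹ = (w * u * w⁻¹) * (w * t * w⁻¹) := by group
          _ = u * y * (w * t * w⁻¹) := by rw [e, h]
          _ = u * ((t : H) * (w * t * w⁻¹)) * (w * t * w⁻¹) := by rw [h3]
          _ = u * t * ((w * t * w⁻¹) * (w * t * w⁻¹)) := by group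
          _ = u * t := by rw [hsq _ (hVw _ t.2), mul_one]
      have hut : u * (t : H) ∈ V := by
        rcases (hfix _ (mul_mem hu (hVU t.2))).mp h2 with h' | h' <;> rw [h']
        exacts [one_mem _, hyV]
      have := mul_mem hut (inv_mem t.2)
      rwa [mul_inv_cancel_right] at this
  have := hVn
  let f : U →* U :=
    { toFun := fun u => ⟨w * u * w⁻¹, (Subgroup.mem_normalizer_iff.mp hwU _).mp u.2⟩
      map_one' := Subtype.ext (by simp)
      map_mul' := fun a b => Subtype.ext (by simp only [Subgroup.coe_mul]; group) }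
  let α : U ⧸ V.subgroupOf U →* U ⧸ V.subgroupOf U :=
    QuotientGroup.map _ _ f fun v hv => Subgroup.mem_comap.mpr (hVw _ hv)
  have hfree : ∀ q, α q = q → q = 1 := by
    intro q
    obtain ⟨u, rfl⟩ := QuotientGroup.mk'_surjective (V.subgroupOf U) q
    intro h
    refine (QuotientGroup.eq_one_iff u).mpr (key u u.2 ?_)
    exact (QuotientGroup.eq.mp h.symm : u⁻¹ * f u ∈ V.subgroupOf U)
  have hinv2 : ∀ q, α (α q) = q := by
    intro q
    obtain ⟨u, rfl⟩ := QuotientGroup.mk'_surjective (V.subgroupOf U) q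
    show QuotientGroup.mk' _ (f (f u)) = QuotientGroup.mk' _ u
    congr 1
    exact Subtype.ext (hww u)
  have hinv : ∀ q, α q = q⁻¹ := by
    have hinj : Function.Injective fun q => q⁻¹ * α q := by
      intro a b h
      have h1 : α (b * a⁻¹) = b * a⁻¹ := by
        simp only at h
        rw [map_mul, map_inv]
        have h2 : α b = b * (a⁻¹ * α a) := by rw [h]; group
        rw [h2]; group
      exact (mul_inv_eq_one.mp (hfree _ h1)).symm
    intro q
    obtain ⟨a, rfl⟩ := Finite.surjective_of_injective hinj q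
    simp only [map_mul, map_inv, hinv2, mul_inv_rev, inv_inv]
  refine ⟨?_, hV4, ?_⟩
  · intro hd
    have hd' : 2 ∣ Nat.card (U ⧸ V.subgroupOf U) := hd
    obtain ⟨q, hq⟩ := exists_prime_orderOf_dvd_card' 2 hd'
    have h1 : q * q = 1 := by rw [← sq, ← hq]; exact pow_orderOf_eq_one q
    have h2 := hfree q (by rw [hinv, inv_eq_of_mul_eq_one_right h1])
    rw [h2, orderOf_one] at hq
    omega
  · rw [Subgroup.commutator_le]
    intro a ha b hb
    have hab : ∀ q q' : U ⧸ V.subgroupOf U, q * q' = q' * q := fun q q' => by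
      have := map_mul α q q'
      rw [hinv, hinv, hinv, mul_inv_rev] at this
      exact inv_injective (by rw [mul_inv_rev, mul_inv_rev]; exact this)
    have h1 : QuotientGroup.mk' (V.subgroupOf U) ⁅(⟨a, ha⟩ : U), ⟨b, hb⟩⁆ = 1 := by
      rw [map_commutatorElement, commutatorElement_eq_one_iff_mul_comm]
      exact hab _ _
    exact ((QuotientGroup.eq_one_iff (N := V.subgroupOf U) ⁅(⟨a, ha⟩ : U), ⟨b, hb⟩⁆).mp h1 :)

end Cfsg.Agent.S3825
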