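import Cfsg.Statements.S3835
import Cfsg.Agent.Lib.Qd.Basic
import Mathlib.GroupTheory.Sylow
import Mathlib.GroupTheory.SpecificGroups.Alternating
import Mathlib.GroupTheory.Perm.ViaEmbedding

set_option autoImplicit false
open Cfsg

namespace Cfsg.Agent.S3835

open CfsgLib.Qd
open scoped commutatorElement

variable {p : ℕ} [Fact p.Prime]

/-- All `p`-subgroups of `G` are commutative. -/
def AllPComm (p : ℕ) (G : Type*) [Group G] : Prop :=
  ∀ Q : Subgroup G, IsPGroup p Q → ∀ a ∈ Q, ∀ b ∈ Q, a * b = b * a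

theorem AllPComm.of_injective {G H : Type*} [Group G] [Group H] (f : H →* G)
    (hf : Function.Injective f) (h : AllPComm p G) : AllPComm p H := by
  intro Q hQ a ha b hb
  apply hf
  simpa using h _ (hQ.map f) (f a) ⟨a, ha, rfl⟩ (f b) ⟨b, hb, rfl⟩

theorem AllPComm.of_surjective {G H : Type*} [Group G] [Group H] [Finite H] (f : H →* G)
    (hf : Function.Surjective f) (h : AllPComm p H) : AllPComm p G := by
  have : Finite G := Finite.of_surjective f hf
  intro Q hQ a ha b hb
  obtain ⟨S, hS⟩ := hQ.exists_le_sylow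
  obtain ⟨T, rfl⟩ : ∃ T : Sylow p H, T.mapSurjective hf = S := Sylow.mapSurjective_surjective hf p S
  obtain ⟨a', ha', rfl⟩ := hS ha
  obtain ⟨b', hb', rfl⟩ := hS hb
  rw [← map_mul, ← map_mul, h _ T.isPGroup' a' ha' b' hb']

theorem allPComm_perm {α : Type*} [Finite α] (h : Nat.card α < p ^ 2) : AllPComm p (Equiv.Perm α) := by
  intro Q hQ a ha b hb
  rw [← commutatorElement_eq_one_iff_mul_comm]
  refine Equiv.ext fun x => ?_
  have key : ⁅(⟨a, ha⟩ : Q), ⟨b, hb⟩⁆ ∈ MulAction.stabilizer Q x := by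
    set St := MulAction.stabilizer Q x
    obtain ⟨k, hk⟩ := hQ.index St
    have hle : St.index ≤ Nat.card α := by
      rw [MulAction.index_stabilizer, ← Set.ncard_univ]
      exact Set.ncard_le_ncard (Set.subset_univ _) Set.finite_univ
    have hp := (Fact.out : p.Prime)
    have hk2 : k < 2 := by
      by_contra hk2
      have := Nat.pow_le_pow_right hp.pos (not_lt.mp hk2)
      omega
    rcases (show k = 0 ∨ k = 1 by omega) with rfl | rfl
    · rw [Subgroup.index_eq_one.mp hk]
      trivial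
    · rw [pow_one] at hk
      have := hQ.isNilpotent
      have hn : St.Normal := Subgroup.NormalizerCondition.normal_of_coatom St
        (Group.normalizerCondition_of_isNilpotent (G := Q))
        ⟨fun e => hp.ne_one (by rw [← hk, e, Subgroup.index_top]), fun K hK => by
          rcases (Nat.dvd_prime hp).mp (hk ▸ Subgroup.index_dvd_of_le hK.le) with h2 | h2
          · exact Subgroup.index_eq_one.mp h2
          · have := Subgroup.index_strictAnti hK
            omega⟩
      have hc : IsCyclic (Q ⧸ St) := isCyclic_of_prime_card (p := p) hk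
      rw [← QuotientGroup.eq_one_iff, ← QuotientGroup.mk'_apply, map_commutatorElement,
        commutatorElement_eq_one_iff_mul_comm]
      exact hc.commGroup.mul_comm _ _
  exact key

/-- The upper unitriangular part of `Qd(p)`. -/
def unipotent (p : ℕ) : Subgroup ↥(Cfsg.qd p) where
  carrier := Set.range fun t : ZMod p × ZMod p × ZMod p => mk 1 t.1 0 1 t.2.1 t.2.2 (by simp)
  one_mem' := ⟨(0, 0, 0), mk_one⟩
  mul_mem' := by
    rintro _ _ ⟨⟨s, x, y⟩, rfl⟩ ⟨⟨s', x', y'⟩, rfl⟩
    refine ⟨(s' + s, x' + s * y' + x, y' + y), ?_⟩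
    rw [mk_mul]
    exact mk_eq (by ring) (by ring) (by ring) (by ring) (by ring) (by ring)
  inv_mem' := by
    rintro _ ⟨⟨s, x, y⟩, rfl⟩
    refine ⟨(-s, -x + s * y, -y), (inv_eq_of_mul_eq_one_right ?_).symm⟩
    rw [mk_mul, ← mk_one]
    exact mk_eq (by ring) (by ring) (by ring) (by ring) (by ring) (by ring)

theorem not_allPComm_qd : ¬ AllPComm p ↥(Cfsg.qd p) := by
  intro h
  have hU : IsPGroup p ↥(unipotent p) := by
    refine IsPGroup.of_card (n := 3) ?_
    refine (Nat.card_congr (Equiv.ofInjective (fun t : ZMod p × ZMod p × ZMod p =>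
      (mk 1 t.1 0 1 t.2.1 t.2.2 (by simp) : ↥(Cfsg.qd p))) ?_)).symm.trans ?_
    · rintro ⟨s, x, y⟩ ⟨s', x', y'⟩ e
      obtain ⟨-, h1, -, -, h2, h3⟩ := mk_inj.mp e
      simp only at h1 h2 h3
      rw [h1, h2, h3]
    · rw [Nat.card_prod, Nat.card_prod, Nat.card_zmod]
      ring
  have e := h _ hU (up 1) ⟨(1, 0, 0), rfl⟩ (tra 0 1) ⟨(0, 0, 1), rfl⟩
  simp only [up, tra, mk_mul, mk_inj] at e
  exact one_ne_zero (α := ZMod p) (by linear_combination e.2.2.2.2.1)

/-- The affine action on the plane. -/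
def actFun (g : ↥(Cfsg.qd p)) (v : ZMod p × ZMod p) : ZMod p × ZMod p :=
  (g.1.1 0 0 * v.1 + g.1.1 0 1 * v.2 + g.1.1 0 2, g.1.1 1 0 * v.1 + g.1.1 1 1 * v.2 + g.1.1 1 2)

theorem actFun_mk {a b c d x y : ZMod p} {h} (v : ZMod p × ZMod p) :
    actFun (mk a b c d x y h) v = (a * v.1 + b * v.2 + x, c * v.1 + d * v.2 + y) := by
  simp [actFun, mk]

theorem actFun_mul (g g' : ↥(Cfsg.qd p)) (v : ZMod p × ZMod p) :
    actFun (g * g') v = actFun g (actFun g' v) := by
  obtain ⟨a, b, c, d, x, y, h, rfl⟩ := exists_eq_mk g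
  obtain ⟨a', b', c', d', x', y', h', rfl⟩ := exists_eq_mk g'
  simp only [mk_mul, actFun_mk, Prod.mk.injEq]
  constructor <;> ring

theorem actFun_one (v : ZMod p × ZMod p) : actFun 1 v = v := by
  rw [← mk_one, actFun_mk]
  ext <;> simp

/-- `Qd(p)` as permutations of the plane. -/
def planePerm : ↥(Cfsg.qd p) →* Equiv.Perm (ZMod p × ZMod p) :=
  MonoidHom.mk' (fun g => ⟨actFun g, actFun g⁻¹,
    fun v => by rw [← actFun_mul, inv_mul_cancel, actFun_one],
    fun v => by rw [← actFun_mul, mul_inv_cancel, actFun_one]⟩)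
    fun g g' => Equiv.ext fun v => actFun_mul g g' v

theorem planePerm_injective : Function.Injective (planePerm (p := p)) := by
  intro g g' e
  obtain ⟨a, b, c, d, x, y, h, rfl⟩ := exists_eq_mk g
  obtain ⟨a', b', c', d', x', y', h', rfl⟩ := exists_eq_mk g'
  have e0 := congrArg (fun f : Equiv.Perm (ZMod p × ZMod p) => f (0, 0)) e
  have e1 := congrArg (fun f : Equiv.Perm (ZMod p × ZMod p) => f (1, 0)) e
  have e2 := congrArg (fun f : Equiv.Perm (ZMod p × ZMod p) => f (0, 1)) e
  simp only [planePerm, MonoidHom.mk'_apply, Equiv.coe_fn_mk, actFun_mk, Prod.mk.injEq, mul_zero,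
    mul_one, zero_add, add_zero] at e0 e1 e2
  obtain ⟨rfl, rfl⟩ := e0
  exact mk_inj.mpr ⟨add_right_cancel e1.1, add_right_cancel e2.1, add_right_cancel e1.2,
    add_right_cancel e2.2, rfl, rfl⟩

theorem up_pow (s : ZMod p) (n : ℕ) : up s ^ n = up ((n : ZMod p) * s) := by
  induction n with
  | zero => rw [pow_zero, Nat.cast_zero, zero_mul]; exact mk_one.symm
  | succ n ih => rw [pow_succ, ih, up_mul]; push_cast; congr 1; ring

theorem lo_pow (s : ZMod p) (n : ℕ) : lo s ^ n = lo ((n : ZMod p) * s) := by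
  induction n with
  | zero => rw [pow_zero, Nat.cast_zero, zero_mul]; exact mk_one.symm
  | succ n ih => rw [pow_succ, ih, lo_mul]; push_cast; congr 1; ring

theorem eq_one_of_pow (hp : p ≠ 2) (u : ℤˣ) (h : u ^ p = 1) : u = 1 := by
  obtain ⟨k, hk⟩ := (Fact.out : p.Prime).odd_of_ne_two hp
  rwa [hk, pow_succ, pow_mul, Int.units_sq, one_pow, one_mul] at h

theorem hom_units_trivial (hp : p ≠ 2) (f : ↥(Cfsg.qd p) →* ℤˣ) (g : ↥(Cfsg.qd p)) : f g = 1 := by
  have hup : ∀ s, f (up s) = 1 := fun s => eq_one_of_pow hp _ (by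
    rw [← map_pow, up_pow, ZMod.natCast_self, zero_mul, show up (p := p) 0 = 1 from mk_one, map_one])
  have hlo : ∀ s, f (lo s) = 1 := fun s => eq_one_of_pow hp _ (by
    rw [← map_pow, lo_pow, ZMod.natCast_self, zero_mul, show lo (p := p) 0 = 1 from mk_one, map_one])
  have htr : ∀ x y, f (tra x y) = 1 := fun x y => eq_one_of_pow hp _ (by
    rw [← map_pow, tra_pow, ZMod.natCast_self, zero_mul, zero_mul, tra_zero, map_one])
  have hc : ∀ a b c d (h : a * d - b * c = 1), c ≠ 0 → f (mk a b c d 0 0 h) = 1 := by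
    intro a b c d h hc
    have e : mk a b c d 0 0 h = up ((a - 1) / c) * lo c * up ((d - 1) / c) := by
      simp only [up, lo, mk_mul]
      refine mk_eq ?_ ?_ ?_ ?_ ?_ ?_ <;> field_simp <;> first | ring1 | linear_combination h | linear_combination -h
    rw [e, map_mul, map_mul, hup, hlo, hup, one_mul, one_mul]
  obtain ⟨a, b, c, d, x, y, h, rfl⟩ := exists_eq_mk g
  have e1 : mk a b c d x y h = tra x y * mk a b c d 0 0 h := by
    simp only [tra, mk_mul]
    exact mk_eq (by ring) (by ring) (by ring) (by ring) (by ring) (by ring)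
  rw [e1, map_mul, htr, one_mul]
  by_cases hc0 : c = 0
  · have ha : a ≠ 0 := by
      rintro rfl
      rw [hc0] at h
      simp at h
    have e2 : mk a b c d 0 0 h = lo (-1) * mk a b (a + c) (b + d) 0 0 (by linear_combination h) := by
      simp only [lo, mk_mul]
      exact mk_eq (by ring) (by ring) (by ring) (by ring) (by ring) (by ring)
    rw [e2, map_mul, hlo, one_mul]
    exact hc _ _ _ _ _ (by rwa [hc0, add_zero])
  · exact hc _ _ _ _ h hc0

/-- Let p be an odd prime and n a natural number. The alternating group of degree n has a subgroup isomorphic to Qd(p) (the natural semidirect product of an elementary abelian group of order p² by SL₂(p)) if and only if n ≥ p²; and if n < p² then Qd(p) is not even involved in it. -/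
theorem result {p : ℕ} [Fact p.Prime] (hp : p ≠ 2) (n : ℕ) : ((∃ H : Subgroup (alternatingGroup (Fin n)), Nonempty (↥H ≃* ↥(Cfsg.qd p))) ↔ p ^ 2 ≤ n) ∧ (n < p ^ 2 → ¬ Cfsg.Involves ↥(Cfsg.qd p) ↥(alternatingGroup (Fin n))) := by
  have hlow : n < p ^ 2 → ¬ Cfsg.Involves ↥(Cfsg.qd p) ↥(alternatingGroup (Fin n)) := by
    rintro hn ⟨K, R, hR, ⟨e⟩⟩
    apply not_allPComm_qd (p := p)
    have h1 : AllPComm p ↥(alternatingGroup (Fin n)) :=
      AllPComm.of_injective (alternatingGroup (Fin n)).subtype (Subgroup.subtype_injective _)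
        (allPComm_perm (by rwa [Nat.card_fin]))
    have h2 : AllPComm p K := AllPComm.of_injective K.subtype K.subtype_injective h1
    have h3 : AllPComm p (K ⧸ R.subgroupOf K) :=
      AllPComm.of_surjective (QuotientGroup.mk' _) (QuotientGroup.mk'_surjective _) h2
    exact AllPComm.of_injective e.symm.toMonoidHom e.symm.injective h3
  refine ⟨⟨?_, ?_⟩, hlow⟩
  · rintro ⟨H, ⟨e⟩⟩
    by_contra hn
    apply not_allPComm_qd (p := p)
    exact AllPComm.of_injective e.symm.toMonoidHom e.symm.injective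
      (AllPComm.of_injective H.subtype H.subtype_injective
        (AllPComm.of_injective (alternatingGroup (Fin n)).subtype (Subgroup.subtype_injective _)
          (allPComm_perm (by rw [Nat.card_fin]; omega))))
  · intro hn
    have hcard : Fintype.card (ZMod p × ZMod p) ≤ Fintype.card (Fin n) := by
      rw [Fintype.card_prod, ZMod.card, Fintype.card_fin, ← sq]
      exact hn
    obtain ⟨ι⟩ := Function.Embedding.nonempty_of_card_le hcard
    let ψ := (Equiv.Perm.viaEmbeddingHom ι).comp (planePerm (p := p))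
    have hψ : Function.Injective ψ :=
      (Equiv.Perm.viaEmbeddingHom_injective ι).comp planePerm_injective
    let χ := ψ.codRestrict (alternatingGroup (Fin n)) fun g =>
      Equiv.Perm.mem_alternatingGroup.mpr (hom_units_trivial hp (Equiv.Perm.sign.comp ψ) g)
    have hχ : Function.Injective χ := fun a b hab => hψ (congrArg Subtype.val hab)
    exact ⟨χ.range, ⟨(MonoidHom.ofInjective hχ).symm⟩⟩

end Cfsg.Agent.S3835
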