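import Cfsg.Statements.S3836
import Cfsg.Agent.Lib.Solvable.Core


set_option autoImplicit false
open Cfsg

namespace Cfsg.Agent.S3836

/-- Let G be a finite group that is p-stable in the normalizer form: for every p-subgroup Q and every x ∈ N_G(Q) with [Q, x, x] = 1, the image of x in N_G(Q)/C_G(Q) lies in O_p(N_G(Q)/C_G(Q)). Then every subgroup of G is p-stable in the same sense. -/
theorem result {G : Type*} [Group G] [Finite G] {p : ℕ} [Fact p.Prime] (hst : Cfsg.IsNormalizerPStable p G) (H : Subgroup G) : Cfsg.IsNormalizerPStable p ↥H := by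
  intro P hP g hg hcomm
  set N := Subgroup.normalizer (P : Set H) with hNdef
  set C := (Subgroup.centralizer (P : Set H)).subgroupOf N with hCdef
  let P' : Subgroup G := P.map H.subtype
  have hP' : IsPGroup p P' := hP.map H.subtype
  have hnorm : ∀ n : H, n ∈ N → (n : G) ∈ Subgroup.normalizer (P' : Set G) := by
    intro n hn
    have h1 : N.map H.subtype ≤ Subgroup.normalizer (P' : Set G) :=
      Subgroup.le_normalizer_map H.subtype
    exact h1 ⟨n, hn, rfl⟩
  set N' := Subgroup.normalizer (P' : Set G) with hN'def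
  set C' := (Subgroup.centralizer (P' : Set G)).subgroupOf N' with hC'def
  have hcomm' : ⁅⁅P', Subgroup.zpowers (g : G)⁆, Subgroup.zpowers (g : G)⁆ = ⊥ := by
    have hz : (Subgroup.zpowers g).map H.subtype = Subgroup.zpowers (g : G) :=
      MonoidHom.map_zpowers _ _
    rw [← hz, ← Subgroup.map_commutator, ← Subgroup.map_commutator, hcomm, Subgroup.map_bot]
  have hmain := hst P' hP' (g : G) (hnorm g hg) hcomm'
  let f : N →* N' :=
    { toFun := fun n => ⟨((n : H) : G), hnorm n n.2⟩
      map_one' := rfl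
      map_mul' := fun a b => rfl }
  have hker : C = ((QuotientGroup.mk' C').comp f).ker := by
    ext n
    rw [MonoidHom.mem_ker, MonoidHom.comp_apply, QuotientGroup.mk'_apply, QuotientGroup.eq_one_iff,
      hCdef, hC'def, Subgroup.mem_subgroupOf, Subgroup.mem_subgroupOf,
      Subgroup.mem_centralizer_iff, Subgroup.mem_centralizer_iff]
    constructor
    · rintro h _ ⟨y, hy, rfl⟩
      exact congrArg (fun z : H => (z : G)) (h y hy)
    · intro h y hy
      exact Subtype.ext (h (y : G) ⟨y, hy, rfl⟩)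
  let ψ : N ⧸ C →* N' ⧸ C' := QuotientGroup.lift C ((QuotientGroup.mk' C').comp f) hker.le
  have hψ : Function.Injective ψ := by
    rw [← MonoidHom.ker_eq_bot_iff, QuotientGroup.ker_lift, ← hker, Subgroup.map_eq_bot_iff,
      QuotientGroup.ker_mk']
  have hcore := And.intro (CfsgLib.Solvable.pCore_normal (p := p) (N' ⧸ C')) (CfsgLib.Solvable.pCore_isPGroup (p := p) (N' ⧸ C'))
  have hn2 : ((pCore p (N' ⧸ C')).comap ψ).Normal := hcore.1.comap ψ
  have hp2 : IsPGroup p ↥((pCore p (N' ⧸ C')).comap ψ) := hcore.2.comap_of_injective ψ hψ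
  exact le_sSup (show (pCore p (N' ⧸ C')).comap ψ ∈
    {M : Subgroup (N ⧸ C) | M.Normal ∧ IsPGroup p M} from ⟨hn2, hp2⟩) hmain

end Cfsg.Agent.S3836
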