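import Cfsg.Statements.S3838
import Mathlib.GroupTheory.Transfer
import Mathlib.GroupTheory.SchurZassenhaus
import Mathlib.GroupTheory.Frattini
import Mathlib.Tactic.Group


set_option autoImplicit false
open Cfsg
open scoped commutatorElement Pointwise

namespace Cfsg.Agent.S3838

/-- If `P' ≤ Q ≤ Φ(P)`, `Q` is normal and `N(P)` centralizes `P` modulo `Q`,
then `H` is `p`-nilpotent. -/
theorem pcomplement_of_normal {H : Type*} [Group H] [Finite H] {p : ℕ} [hp : Fact p.Prime]
    (P : Sylow p H) (Q : Subgroup H) [Q.Normal] (hQP : Q ≤ P)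
    (hab : ∀ a ∈ (P : Subgroup H), ∀ b ∈ (P : Subgroup H), a * b * a⁻¹ * b⁻¹ ∈ Q)
    (hc : ∀ n ∈ Subgroup.normalizer ((P : Subgroup H) : Set H), ∀ x ∈ (P : Subgroup H),
      n * x * n⁻¹ * x⁻¹ ∈ Q)
    (hΦ : ∀ T : Subgroup H, T ≤ P → (P : Subgroup H) ≤ T ⊔ Q → (P : Subgroup H) ≤ T) :
    Cfsg.HasNormalPComplement p H := by
  let π := QuotientGroup.mk' Q
  have hπ : Function.Surjective π := QuotientGroup.mk'_surjective Q
  let Pb : Sylow p (H ⧸ Q) := P.mapSurjective hπ
  have hPb : ∀ x : H, π x ∈ (Pb : Subgroup (H ⧸ Q)) ↔ x ∈ (P : Subgroup H) := by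
    intro x
    show π x ∈ (P : Subgroup H).map π ↔ _
    rw [← Subgroup.mem_comap, Subgroup.comap_map_eq, QuotientGroup.ker_mk', sup_eq_left.mpr hQP]
  have hπc : ∀ a b : H, a * b * a⁻¹ * b⁻¹ ∈ Q → π a * π b = π b * π a := by
    intro a b h
    have h' : π (a * b * a⁻¹ * b⁻¹) = 1 := (QuotientGroup.eq_one_iff _).mpr h
    simp only [map_mul, map_inv] at h'
    exact mul_inv_eq_iff_eq_mul.mp (mul_inv_eq_one.mp h')
  have hPbN : Subgroup.normalizer ((Pb : Subgroup (H ⧸ Q)) : Set (H ⧸ Q)) ≤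
      Subgroup.centralizer ((Pb : Subgroup (H ⧸ Q)) : Set (H ⧸ Q)) := by
    intro w hw
    obtain ⟨n, rfl⟩ := hπ w
    rw [Subgroup.mem_centralizer_iff]
    intro y hy
    obtain ⟨x, rfl⟩ := hπ y
    have hx : x ∈ (P : Subgroup H) := (hPb x).mp hy
    refine (hπc n x (hc n ?_ x hx)).symm
    rw [Subgroup.mem_normalizer_iff]
    intro z
    rw [← hPb, ← hPb, map_mul, map_mul, map_inv]
    exact Subgroup.mem_normalizer_iff.mp hw (π z)
  have hcomp := MonoidHom.ker_transferSylow_isComplement' Pb hPbN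
  have hnd := MonoidHom.not_dvd_card_ker_transferSylow Pb hPbN
  generalize hM0 : (MonoidHom.transferSylow Pb hPbN).ker = M0 at hcomp hnd
  have hM0n : M0.Normal := hM0 ▸ MonoidHom.normal_ker _
  clear hM0
  let M := M0.comap π
  have hMn : M.Normal := hM0n.comap π
  obtain ⟨i, hi⟩ := IsPGroup.iff_card.mp Pb.2
  have hMidx : M.index = p ^ i := by
    rw [Subgroup.index_comap_of_surjective _ hπ, hcomp.symm.index_eq_card, hi]
  have hQM : Q ≤ M := by
    intro x hx
    show π x ∈ M0
    have : π x = 1 := (QuotientGroup.eq_one_iff _).mpr hx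
    rw [this]
    exact M0.one_mem
  have hMP : ∀ x ∈ M, x ∈ (P : Subgroup H) → x ∈ Q := fun x hxM hxP =>
    (QuotientGroup.eq_one_iff _).mp
      (Subgroup.disjoint_def.mp hcomp.disjoint hxM ((hPb x).mpr hxP))
  have hcardM : Nat.card M = Nat.card M0 * Nat.card Q := by
    have h1 : M.index * Nat.card M = M0.index * (Nat.card M0 * Nat.card Q) := by
      rw [Subgroup.index_mul_card, ← mul_assoc, Subgroup.index_mul_card]
      exact Subgroup.card_eq_card_quotient_mul_card_subgroup Q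
    rw [Subgroup.index_comap_of_surjective _ hπ] at h1
    exact Nat.eq_of_mul_eq_mul_left (Nat.pos_of_ne_zero Subgroup.index_ne_zero_of_finite) h1
  obtain ⟨j, hj⟩ := IsPGroup.iff_card.mp (P.2.to_le hQP)
  have hM0p : (Nat.card M0).Coprime p :=
    ((hp.out.coprime_iff_not_dvd).mpr hnd).symm
  -- the centralizer of Q has p-power index
  set C := Subgroup.centralizer (Q : Set H) with hC
  have hCn : C.Normal := Subgroup.normal_centralizer
  have hq : ∀ q : ℕ, q.Prime → q ≠ p → ¬ q ∣ C.index := by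
    intro q hq hqp hdvd
    have : Fact q.Prime := ⟨hq⟩
    obtain ⟨R⟩ : Nonempty (Sylow q M) := inferInstance
    have hfr := Sylow.normalizer_sup_eq_top R
    set R' := (R : Subgroup M).map M.subtype with hR'
    set NR := Subgroup.normalizer (R' : Set H)
    obtain ⟨T⟩ : Nonempty (Sylow p NR) := inferInstance
    let g : NR →* H ⧸ M := (QuotientGroup.mk' M).comp NR.subtype
    have hg : Function.Surjective g := by
      rw [← MonoidHom.range_eq_top, MonoidHom.range_comp, Subgroup.range_subtype]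
      have := congrArg (Subgroup.map (QuotientGroup.mk' M)) hfr
      rwa [Subgroup.map_sup, (Subgroup.map_eq_bot_iff _).mpr (QuotientGroup.ker_mk' M).ge,
        sup_bot_eq, Subgroup.map_top_of_surjective _ (QuotientGroup.mk'_surjective M)] at this
    have hHM : IsPGroup p (H ⧸ M) := IsPGroup.of_card (n := i) (by rw [← hMidx]; rfl)
    have hTtop : ((T : Subgroup NR).map NR.subtype).map (QuotientGroup.mk' M) = ⊤ := by
      rw [Subgroup.map_map]
      show ((T.mapSurjective hg : Sylow p (H ⧸ M)) : Subgroup (H ⧸ M)) = ⊤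
      exact hHM.to_subgroup ⊤ |> fun h => ((T.mapSurjective hg).3 h le_top).symm
    obtain ⟨P₁, hP₁⟩ := (T.2.map NR.subtype).exists_le_sylow
    obtain ⟨h, hh⟩ := MulAction.exists_smul_eq H P₁ P
    set T'' := ((T : Subgroup NR).map NR.subtype).map (MulAut.conj h).toMonoidHom with hT''
    have hT''P : T'' ≤ P := by
      rintro z ⟨w, hw, rfl⟩
      rw [← hh, Sylow.coe_subgroup_smul, Subgroup.mem_pointwise_smul_iff_inv_smul_mem]
      simpa [mul_assoc] using hP₁ hw
    have hPT : (P : Subgroup H) ≤ T'' := by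
      refine hΦ T'' hT''P fun x hx => ?_
      obtain ⟨t, ht, htx⟩ : QuotientGroup.mk' M (h⁻¹ * x * h) ∈
          ((T : Subgroup NR).map NR.subtype).map (QuotientGroup.mk' M) := hTtop ▸ Subgroup.mem_top _
      have ht' : h * t * h⁻¹ ∈ T'' := ⟨t, ht, by simp⟩
      have hm : (h * t * h⁻¹)⁻¹ * x ∈ M := by
        rw [QuotientGroup.mk'_apply, QuotientGroup.mk'_apply, QuotientGroup.eq] at htx
        have := hMn.conj_mem _ htx h
        simpa [mul_assoc] using this
      have hmQ := hMP _ hm (mul_mem (inv_mem (hT''P ht')) hx)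
      have := Subgroup.mul_mem_sup ht' hmQ
      rwa [mul_inv_cancel_left] at this
    have hRC : R' ≤ C := by
      intro r hr
      have hr' : h * r * h⁻¹ ∈ C := by
        rw [hC, Subgroup.mem_centralizer_iff]
        intro y hy
        obtain ⟨w, ⟨w0, hw0, rfl⟩, hwy⟩ := hPT (hQP hy)
        simp only [MulEquiv.coe_toMonoidHom, MulAut.conj_apply, Subgroup.coe_subtype] at hwy
        have hwr : (w0 : H) * r * (w0 : H)⁻¹ ∈ R' := (Subgroup.mem_normalizer_iff.mp w0.2 r).mp hr
        -- the commutator of `r` and `h⁻¹ y h` is in `R' ⊓ Q`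
        have h1 : (w0 : H) * r * (w0 : H)⁻¹ * r⁻¹ ∈ R' := mul_mem hwr (inv_mem hr)
        have hw0Q : (w0 : H) ∈ Q := by
          have := (inferInstance : Q.Normal).conj_mem y hy h⁻¹
          rw [← hwy] at this
          simpa [mul_assoc] using this
        have h2 : (w0 : H) * r * (w0 : H)⁻¹ * r⁻¹ ∈ Q := by
          have := mul_mem hw0Q ((inferInstance : Q.Normal).conj_mem _ (inv_mem hw0Q) r)
          simpa [mul_assoc] using this
        have hdis : Disjoint R' Q := IsPGroup.disjoint_of_ne q p hqp _ _ (R.2.map _) (P.2.to_le hQP)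
        have h3 := Subgroup.disjoint_def.mp hdis h1 h2
        rw [mul_inv_eq_one, mul_inv_eq_iff_eq_mul] at h3
        rw [← hwy]
        simp [mul_assoc, mul_left_cancel_iff]
        rw [← mul_assoc, ← mul_assoc, h3]
      have := hCn.conj_mem _ hr' h⁻¹
      simpa [mul_assoc] using this
    have hidx : R'.index = (R : Subgroup M).index * M.index := Subgroup.index_map_subtype _
    have := hdvd.trans (Subgroup.index_dvd_of_le hRC)
    rw [hidx, hMidx] at this
    rcases (Nat.Prime.dvd_mul hq).mp this with h1 | h1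
    · exact R.not_dvd_index h1
    · exact hqp ((Nat.prime_dvd_prime_iff_eq hq hp.out).mp (hq.dvd_of_dvd_pow h1))
  have hCidx : ∀ z : H, (orderOf z).Coprime p → z ∈ C := by
    intro z hz
    rw [← QuotientGroup.eq_one_iff (N := C), ← orderOf_eq_one_iff]
    by_contra hne
    obtain ⟨q, hq', hqd⟩ := Nat.exists_prime_and_dvd hne
    refine hq q hq' (fun e => ?_) (hqd.trans (orderOf_dvd_natCard _))
    subst e
    exact (hq'.coprime_iff_not_dvd.mp hz.symm) (hqd.trans (orderOf_map_dvd (QuotientGroup.mk' C) z))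
  -- Schur-Zassenhaus
  have hcardQM : Nat.card (Q.subgroupOf M) = p ^ j := by
    rw [Nat.card_congr (Subgroup.subgroupOfEquivOfLe hQM).toEquiv, hj]
  have hidxQM : (Q.subgroupOf M).index = Nat.card M0 := by
    have h1 := (Q.subgroupOf M).index_mul_card
    rw [hcardQM, hcardM, hj] at h1
    exact Nat.eq_of_mul_eq_mul_right (pow_pos hp.out.pos _) h1
  obtain ⟨K, hK⟩ := Subgroup.exists_right_complement'_of_coprime (N := Q.subgroupOf M)
    (by rw [hcardQM, hidxQM]; exact (hM0p.pow_right j).symm)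
  have hcardK : Nat.card K = Nat.card M0 := by rw [← hidxQM, hK.symm.index_eq_card]
  have hKp : ∀ k ∈ K, (orderOf (k : H)).Coprime p := by
    intro k hk
    rw [Subgroup.orderOf_coe]
    exact Nat.Coprime.coprime_dvd_left (hcardK ▸ K.orderOf_dvd_natCard hk) hM0p
  have hKn : K.Normal := by
    refine ⟨fun k hk m => ?_⟩
    obtain ⟨⟨⟨y, hy⟩, ⟨l, hl⟩⟩, hyl⟩ := hK.2 m
    simp only at hyl
    have hcen : ∀ a : K, Commute (y : M) (a : M) := fun a => Subtype.ext
      (Subgroup.mem_centralizer_iff.mp (hCidx _ (hKp _ a.2)) _ hy)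
    rw [← hyl, mul_inv_rev, show y * l * k * (l⁻¹ * y⁻¹) = y * (l * k * l⁻¹) * y⁻¹ by group,
      (hcen ⟨_, mul_mem (mul_mem hl hk) (inv_mem hl)⟩).eq, mul_inv_cancel_right]
    exact mul_mem (mul_mem hl hk) (inv_mem hl)
  have hKidx : K.index = p ^ j := by rw [hK.index_eq_card, hcardQM]
  have hmemK : ∀ z : M, (orderOf z).Coprime p → z ∈ K := by
    intro z hz
    rw [← QuotientGroup.eq_one_iff (N := K), ← orderOf_eq_one_iff]
    refine Nat.eq_one_of_dvd_coprimes (hz.pow_right j) (orderOf_map_dvd (QuotientGroup.mk' K) z) ?_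
    rw [← hKidx]
    exact orderOf_dvd_natCard _
  let K' := K.map M.subtype
  have hK'n : K'.Normal := by
    refine ⟨?_⟩
    rintro _ ⟨k, hk, rfl⟩ g
    refine ⟨⟨g * k * g⁻¹, hMn.conj_mem _ k.2 g⟩, hmemK _ ?_, rfl⟩
    rw [← Subgroup.orderOf_coe]
    have e : orderOf (g * (k : H) * g⁻¹) = orderOf (k : H) :=
      orderOf_injective (MulAut.conj g).toMonoidHom (MulAut.conj g).injective _
    rw [e]
    exact hKp k hk
  refine ⟨P, K', hK'n, ?_⟩
  have hK'card : Nat.card K' = Nat.card M0 :=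
    (Nat.card_congr (Subgroup.equivMapOfInjective K _ M.subtype_injective).toEquiv).symm.trans hcardK
  have hK'idx : K'.index = p ^ (j + i) := by
    rw [Subgroup.index_map_subtype, hKidx, hMidx, pow_add]
  obtain ⟨l, hl⟩ := IsPGroup.iff_card.mp P.2
  have hPidx : K'.index = Nat.card P := by
    have h1 := K'.index_mul_card
    have h2 := (P : Subgroup H).index_mul_card
    rw [hK'idx, hK'card, ← h2, hl] at h1
    rw [hK'idx, hl]
    have hd1 : p ^ (j + i) ∣ p ^ l :=
      (((Nat.Prime.coprime_iff_not_dvd hp.out).mpr P.not_dvd_index).pow_left (j + i)).dvd_of_dvd_mul_left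
        ⟨Nat.card M0, h1.symm⟩
    have hd2 : p ^ l ∣ p ^ (j + i) :=
      (hM0p.symm.pow_left l).dvd_of_dvd_mul_right ⟨(P : Subgroup H).index, by rw [h1]; ring⟩
    exact Nat.dvd_antisymm hd1 hd2
  refine Subgroup.isComplement'_of_coprime ?_ ?_
  · rw [← K'.index_mul_card, hPidx, mul_comm]
  · rw [hK'card, hl]
    exact hM0p.pow_right l

/-- Let G be a finite group with Sylow p-subgroup P such that N_G(P) has a normal p-complement. Then N_G(Q) has a normal p-complement for every subgroup Q with [P, P] ≤ Q ≤ Φ(P). -/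
theorem result {G : Type*} [Group G] [Finite G] {p : ℕ} [Fact p.Prime] (P : Sylow p G) (hN : Cfsg.HasNormalPComplement p ↥(Subgroup.normalizer ((P : Subgroup G) : Set G))) (Q : Subgroup G) (h1 : (commutator ↥(P : Subgroup G)).map (P : Subgroup G).subtype ≤ Q) (h2 : Q ≤ (frattini ↥(P : Subgroup G)).map (P : Subgroup G).subtype) : Cfsg.HasNormalPComplement p ↥(Subgroup.normalizer (Q : Set G)) := by
  set N := Subgroup.normalizer ((P : Subgroup G) : Set G) with hNdef
  obtain ⟨PN, K, hK, hKc⟩ := hN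
  have hPleN : (P : Subgroup G) ≤ N := Subgroup.le_normalizer
  have hQP : Q ≤ P := h2.trans (Subgroup.map_subtype_le _)
  have hcomP : ∀ a ∈ (P : Subgroup G), ∀ b ∈ (P : Subgroup G), a * b * a⁻¹ * b⁻¹ ∈ Q := by
    intro a ha b hb
    refine h1 ⟨⁅(⟨a, ha⟩ : ↥(P : Subgroup G)), ⟨b, hb⟩⁆, ?_, rfl⟩
    exact Subgroup.commutator_mem_commutator (Subgroup.mem_top _) (Subgroup.mem_top _)
  have hkc : ∀ n ∈ N, ∀ x ∈ (P : Subgroup G), n * x * n⁻¹ * x⁻¹ ∈ Q := by
    intro n hn x hx
    have hPN : ((P : Subgroup G).subgroupOf N).Normal := Subgroup.normal_in_normalizer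
    have hPNp : IsPGroup p ↥((P : Subgroup G).subgroupOf N) :=
      P.2.comap_of_injective N.subtype N.subtype_injective
    have hPN_eq : (PN : Subgroup N) = (P : Subgroup G).subgroupOf N := by
      obtain ⟨Q', hQ'⟩ := hPNp.exists_le_sylow
      have hle : (P : Subgroup G).subgroupOf N ≤ PN := by
        obtain ⟨g, rfl⟩ := MulAction.exists_smul_eq N PN Q'
        intro y hy
        have h3 := hQ' (hPN.conj_mem y hy g)
        rw [Sylow.coe_subgroup_smul, Subgroup.mem_pointwise_smul_iff_inv_smul_mem] at h3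
        simpa [mul_assoc] using h3
      refine le_antisymm (fun y hy => ?_) hle
      have hP' : IsPGroup p ↥((PN : Subgroup N).map N.subtype) := PN.2.map _
      have := P.3 hP' (fun z hz => ⟨⟨z, hPleN hz⟩, hle hz, rfl⟩)
      exact Subgroup.mem_subgroupOf.mpr (this.le ⟨y, hy, rfl⟩)
    obtain ⟨k, hk, y, hy, hky⟩ := Subgroup.mem_sup_of_normal_left.mp
      (hKc.sup_eq_top.symm ▸ Subgroup.mem_top (⟨n, hn⟩ : N) : (⟨n, hn⟩ : N) ∈ K ⊔ (PN : Subgroup N))
    rw [hPN_eq] at hy
    have hdis : Disjoint K ((P : Subgroup G).subgroupOf N) := hPN_eq ▸ hKc.disjoint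
    have hcom := Subgroup.commute_of_normal_of_disjoint K _ hK hPN hdis k
      ⟨(y : G) * x * (y : G)⁻¹, hPleN (mul_mem (mul_mem hy hx) (inv_mem hy))⟩ hk
      (show (y : G) * x * (y : G)⁻¹ ∈ (P : Subgroup G) from mul_mem (mul_mem hy hx) (inv_mem hy))
    have hcom' : (k : G) * ((y : G) * x * (y : G)⁻¹) = ((y : G) * x * (y : G)⁻¹) * (k : G) :=
      congrArg Subtype.val hcom.eq
    have hn' : (k : G) * (y : G) = n := congrArg Subtype.val hky
    have : n * x * n⁻¹ * x⁻¹ = (y : G) * x * (y : G)⁻¹ * x⁻¹ := by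
      rw [← hn']
      calc (k : G) * y * x * ((k : G) * y)⁻¹ * x⁻¹
          = (k : G) * ((y : G) * x * (y : G)⁻¹) * (k : G)⁻¹ * x⁻¹ := by group
        _ = _ := by rw [hcom', mul_inv_cancel_right]
    rw [this]
    exact hcomP _ hy x hx
  have hPQ : (P : Subgroup G) ≤ Subgroup.normalizer (Q : Set G) := by
    intro a ha
    rw [Subgroup.mem_normalizer_iff]
    have key : ∀ b ∈ (P : Subgroup G), ∀ z ∈ Q, b * z * b⁻¹ ∈ Q := fun b hb z hz => by
      have := mul_mem (hcomP b hb z (hQP hz)) hz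
      simpa [mul_assoc] using this
    intro z
    refine ⟨key a ha z, fun hz => ?_⟩
    have := key a⁻¹ (inv_mem ha) _ hz
    simpa [mul_assoc] using this
  set H := Subgroup.normalizer (Q : Set G) with hHdef
  have hQn : (Q.subgroupOf H).Normal := Subgroup.normal_in_normalizer
  refine pcomplement_of_normal (P.subtype hPQ) (Q.subgroupOf H) ?_ ?_ ?_ ?_
  · exact fun x hx => hQP hx
  · exact fun a ha b hb => hcomP _ ha _ hb
  · intro n hn x hx
    refine hkc n ?_ x hx
    have h3 := Subgroup.le_normalizer_map H.subtype (Subgroup.mem_map_of_mem H.subtype hn)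
    rwa [Sylow.coe_subtype, Subgroup.subgroupOf_map_subtype, inf_eq_left.mpr hPQ] at h3
  · intro T hT hTQ
    have hsup : (T.map H.subtype).subgroupOf P ⊔ Q.subgroupOf P = ⊤ := by
      refine eq_top_iff.mpr fun z _ => ?_
      obtain ⟨t, ht, y, hy, hty⟩ := Subgroup.mem_sup_of_normal_right.mp
        (hTQ (show (⟨(z : G), hPQ z.2⟩ : H) ∈ ((P.subtype hPQ : Sylow p H) : Subgroup H) from z.2))
      have h4 : (⟨(t : G), hT ht⟩ : ↥(P : Subgroup G)) * ⟨(y : G), hQP hy⟩ = z :=
        Subtype.ext (congrArg Subtype.val hty : _)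
      rw [← h4]
      exact Subgroup.mul_mem_sup (Subgroup.mem_subgroupOf.mpr ⟨t, ht, rfl⟩) hy
    have hQΦ : Q.subgroupOf P ≤ frattini ↥(P : Subgroup G) := by
      intro z hz
      obtain ⟨w, hw, hwz⟩ := h2 hz
      rwa [Subtype.ext (hwz : (w : G) = (z : G))] at hw
    have hT' : (T.map H.subtype).subgroupOf P = ⊤ := frattini_nongenerating
      (eq_top_iff.mpr (hsup.symm.le.trans (sup_le_sup_left hQΦ _)))
    intro z hz
    obtain ⟨t, ht, htz⟩ := Subgroup.subgroupOf_eq_top.mp hT' (show (z : G) ∈ (P : Subgroup G) from hz)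
    rwa [Subtype.ext (htz : (t : G) = (z : G))] at ht

end Cfsg.Agent.S3838
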