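import Cfsg.Statements.S3839
import Cfsg.Agent.Lib.Solvable.Basic
import Cfsg.Agent.Lib.PNilpotent.Basic
import Mathlib.GroupTheory.Sylow
import Mathlib.Tactic.Group

set_option autoImplicit false
open Cfsg
open scoped Pointwise

namespace Cfsg.Agent.S3839

variable {G : Type*} [Group G] {p : ℕ}

/-- Every `p'`-element normalizing `Q` centralizes `Q`. -/
def Cent (p : ℕ) (Q : Subgroup G) : Prop :=
  ∀ a ∈ Subgroup.normalizer (Q : Set G), (orderOf a).Coprime p → a ∈ Subgroup.centralizer (Q : Set G)

theorem orderOf_conj' (g x : G) : orderOf (g * x * g⁻¹) = orderOf x :=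
  orderOf_injective (MulAut.conj g).toMonoidHom (MulAut.conj g).injective x

theorem cent_of_conj {Q : Subgroup G} (g : G) (h : Cent p (MulAut.conj g • Q)) : Cent p Q := by
  intro a ha hcop
  have key : ∀ z, z ∈ Q ↔ g * z * g⁻¹ ∈ MulAut.conj g • Q := fun z => by
    rw [CfsgLib.Solvable.mem_conj_smul]
    simp [mul_assoc]
  have h1 := h (g * a * g⁻¹) (by
    rw [Subgroup.mem_normalizer_iff]
    intro z
    rw [CfsgLib.Solvable.mem_conj_smul, CfsgLib.Solvable.mem_conj_smul]
    have := Subgroup.mem_normalizer_iff.mp ha (g⁻¹ * z * g)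
    simpa [mul_assoc] using this) (by rwa [orderOf_conj'])
  rw [Subgroup.mem_centralizer_iff] at h1 ⊢
  intro z hz
  have h2 := h1 (g * z * g⁻¹) ((key z).mp hz)
  have h3 : g * (z * a) * g⁻¹ = g * (a * z) * g⁻¹ := by
    simpa [mul_assoc] using h2
  exact mul_left_cancel (mul_right_cancel h3)

theorem image_isPGroup [Finite G] [hp : Fact p.Prime] (X C : Subgroup G) (K : Subgroup X)
    [(C.subgroupOf X).Normal]
    (h : ∀ a ∈ K, (orderOf (a : G)).Coprime p → (a : G) ∈ C) :
    IsPGroup p (K.map (QuotientGroup.mk' (C.subgroupOf X))) := by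
  rintro ⟨w, a, ha, rfl⟩
  obtain ⟨e, r, hr, hn⟩ := Nat.exists_eq_pow_mul_and_not_dvd
    (orderOf_pos (a : G)).ne' p hp.out.ne_one
  refine ⟨e, ?_⟩
  have hord : orderOf ((a : G) ^ p ^ e) = r := by
    rw [orderOf_pow' _ (pow_ne_zero _ hp.out.ne_zero), hn, Nat.gcd_mul_right_left,
      Nat.mul_div_cancel_left _ (pow_pos hp.out.pos e)]
  have h1 : ((a ^ p ^ e : X) : G) ∈ C := h _ (pow_mem ha _) (by
    rw [SubmonoidClass.coe_pow, hord]
    exact ((hp.out.coprime_iff_not_dvd).mpr hr).symm)
  apply Subtype.ext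
  simp only [SubmonoidClass.coe_pow, OneMemClass.coe_one, ← map_pow]
  exact (QuotientGroup.eq_one_iff _).mpr h1

theorem card_lt [Finite G] {A B : Subgroup G} (h : A < B) : Nat.card A < Nat.card B := by
  refine lt_of_le_of_ne (Subgroup.card_le_of_le h.le) fun e => h.ne ?_
  exact Subgroup.eq_of_le_of_card_ge h.le e.ge

/-- One step of the reverse induction. -/
theorem step [Finite G] [hp : Fact p.Prime] {S D Q : Subgroup G} (hS : IsPGroup p S) (hDS : D ≤ S)
    (hclosed : ∀ x ∈ D, ∀ g : G, g * x * g⁻¹ ∈ S → g * x * g⁻¹ ∈ D) (hQS : Q ≤ S)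
    (hfull : ¬ p ∣ (S ⊓ Subgroup.normalizer (Q : Set G)).relIndex (Subgroup.normalizer (Q : Set G)))
    (L : Subgroup G) (hLX : L ≤ Subgroup.normalizer (Q : Set G))
    (hLn : ∀ x ∈ Subgroup.normalizer (Q : Set G), ∀ l ∈ L, x * l * x⁻¹ ∈ L)
    (hLp : ∀ a ∈ L, (orderOf a).Coprime p → a ∈ Subgroup.centralizer (Q : Set G))
    (hbig : Cent p (Q ⊔ (D ⊓ L))) : Cent p Q := by
  intro a ha hcop
  set X := Subgroup.normalizer (Q : Set G) with hX
  set C := Subgroup.centralizer (Q : Set G) with hC
  have hCn : (C.subgroupOf X).Normal := Subgroup.normal_subgroupOf_centralizer_normalizer _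
  let LX : Subgroup X := L.subgroupOf X
  have hLXn : LX.Normal := ⟨fun l hl x => hLn x x.2 l hl⟩
  let T : Subgroup X := (S ⊓ X).subgroupOf X
  have hT : IsPGroup p T :=
    (hS.to_le inf_le_left).comap_of_injective X.subtype X.subtype_injective
  let TS : Sylow p X := hT.toSylow hfull
  let R : Sylow p LX :=
    (show IsPGroup p (T.subgroupOf LX) from hT.comap_of_injective LX.subtype LX.subtype_injective).toSylow (by
      intro hd
      refine hfull (hd.trans ?_)
      show T.relIndex LX ∣ T.index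
      have h1 : T.relIndex LX * LX.index = (T ⊓ LX).index := by
        rw [← Subgroup.inf_relIndex_right, Subgroup.relIndex_mul_index inf_le_right]
      have h2 : LX.relIndex T * T.index = (T ⊓ LX).index := by
        rw [← Subgroup.inf_relIndex_left, Subgroup.relIndex_mul_index inf_le_left]
      obtain ⟨e, he⟩ : LX.relIndex T ∣ LX.index := Subgroup.relIndex_dvd_index_of_normal LX T
      have hpos : 0 < LX.relIndex T := Nat.pos_of_ne_zero fun h0 => Subgroup.index_ne_zero_of_finite
        (H := LX) (by rw [he, h0, zero_mul])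
      refine ⟨e, Nat.eq_of_mul_eq_mul_left hpos ?_⟩
      rw [h2, ← h1, he]
      ac_rfl)
  have hfr := Sylow.normalizer_sup_eq_top R
  have hRmap : ∀ y : X, y ∈ (R : Subgroup LX).map LX.subtype ↔ ((y : G) ∈ S ∧ (y : G) ∈ L) := by
    intro y
    show y ∈ (T.subgroupOf LX).map LX.subtype ↔ _
    rw [Subgroup.subgroupOf_map_subtype]
    simp [T, LX, Subgroup.mem_subgroupOf]
  set M := Subgroup.normalizer (((R : Subgroup LX).map LX.subtype : Subgroup X) : Set X) with hM
  -- `M` normalizes the enlarged subgroup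
  have hMbig : ∀ m ∈ M, (m : G) ∈ Subgroup.normalizer ((Q ⊔ (D ⊓ L) : Subgroup G) : Set G) := by
    have hone : ∀ m ∈ M, ∀ x ∈ D ⊓ L, (m : G) * x * (m : G)⁻¹ ∈ D ⊓ L := by
      intro m hm x hx
      have hy := (Subgroup.mem_normalizer_iff.mp hm ⟨x, hLX hx.2⟩).mp
        ((hRmap _).mpr ⟨hDS hx.1, hx.2⟩)
      rw [hRmap] at hy
      exact ⟨hclosed x hx.1 _ hy.1, hy.2⟩
    have htwo : ∀ m ∈ M, MulAut.conj (m : G) • (Q ⊔ (D ⊓ L)) ≤ Q ⊔ (D ⊓ L) := by
      intro m hm
      rw [Subgroup.smul_sup]
      refine sup_le ?_ ?_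
      · exact (CfsgLib.Solvable.conj_smul_eq_self_iff.mpr m.2).le.trans le_sup_left
      · refine le_trans ?_ le_sup_right
        intro z hz
        rw [CfsgLib.Solvable.mem_conj_smul] at hz
        have := hone m hm _ hz
        simpa [mul_assoc] using this
    intro m hm
    rw [← CfsgLib.Solvable.conj_smul_eq_self_iff]
    refine le_antisymm (htwo m hm) fun z hz => ?_
    rw [CfsgLib.Solvable.mem_conj_smul]
    refine htwo m⁻¹ (inv_mem hm) ?_
    rw [CfsgLib.Solvable.mem_conj_smul]
    simpa [mul_assoc] using hz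
  have hMp : ∀ m ∈ M, (orderOf (m : G)).Coprime p → (m : G) ∈ C := fun m hm hc =>
    Subgroup.centralizer_le (fun z hz => Subgroup.mem_sup_left hz) (hbig _ (hMbig m hm) hc)
  let π := QuotientGroup.mk' (C.subgroupOf X)
  have h1 : IsPGroup p (M.map π) := image_isPGroup X C M hMp
  have h2 : IsPGroup p (LX.map π) := image_isPGroup X C LX fun l hl => hLp _ hl
  have hLπ : (LX.map π).Normal := hLXn.map π (QuotientGroup.mk'_surjective _)
  have h3 : IsPGroup p (⊤ : Subgroup (X ⧸ C.subgroupOf X)) := by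
    have h4 := IsPGroup.to_sup_of_normal_right h1 h2
    rwa [← Subgroup.map_sup, hfr, Subgroup.map_top_of_surjective _ (QuotientGroup.mk'_surjective _)] at h4
  obtain ⟨k, hk⟩ := h3 ⟨π ⟨a, ha⟩, Subgroup.mem_top _⟩
  have hk' : orderOf (π ⟨a, ha⟩) ∣ p ^ k := orderOf_dvd_of_pow_eq_one (congrArg Subtype.val hk)
  have hd : orderOf (π ⟨a, ha⟩) ∣ orderOf a := by
    rw [← Subgroup.orderOf_mk a ha]
    exact orderOf_map_dvd π _
  have h5 := Nat.eq_one_of_dvd_coprimes (hcop.pow_right k) hd hk'
  exact ((QuotientGroup.eq_one_iff (N := C.subgroupOf X) ⟨a, ha⟩).mp (orderOf_eq_one_iff.mp h5) :)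

/-- Some conjugate of `Q ≤ S` is fully normalized. -/
theorem exists_fully [Finite G] [Fact p.Prime] (S : Sylow p G) {Q : Subgroup G}
    (hQ : Q ≤ (S : Subgroup G)) :
    ∃ g : G, MulAut.conj g • Q ≤ (S : Subgroup G) ∧
      ¬ p ∣ ((S : Subgroup G) ⊓ Subgroup.normalizer ((MulAut.conj g • Q : Subgroup G) : Set G)).relIndex
        (Subgroup.normalizer ((MulAut.conj g • Q : Subgroup G) : Set G)) := by
  set X := Subgroup.normalizer (Q : Set G)
  obtain ⟨T₁, hT₁⟩ := ((S.2.to_le hQ).comap_of_injective X.subtype X.subtype_injective :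
    IsPGroup p (Q.subgroupOf X)).exists_le_sylow
  obtain ⟨P₁, hP₁⟩ := (T₁.2.map X.subtype).exists_le_sylow
  obtain ⟨g, hg⟩ := MulAction.exists_smul_eq G P₁ S
  have hle : MulAut.conj g • ((T₁ : Subgroup X).map X.subtype) ≤ (S : Subgroup G) := by
    rw [← hg, Sylow.coe_subgroup_smul]
    exact (Subgroup.pointwise_smul_le_pointwise_smul_iff).mpr hP₁
  have hQ' : MulAut.conj g • Q ≤ (S : Subgroup G) := by
    refine le_trans ((Subgroup.pointwise_smul_le_pointwise_smul_iff).mpr ?_) hle
    intro x hx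
    exact ⟨⟨x, Subgroup.le_normalizer hx⟩, hT₁ hx, rfl⟩
  refine ⟨g, hQ', ?_⟩
  have hN : Subgroup.normalizer ((MulAut.conj g • Q : Subgroup G) : Set G) = MulAut.conj g • X := by
    ext z
    rw [← CfsgLib.Solvable.conj_smul_eq_self_iff, CfsgLib.Solvable.conj_smul_conj_smul,
      CfsgLib.Solvable.mem_conj_smul, ← CfsgLib.Solvable.conj_smul_eq_self_iff]
    constructor
    · intro h
      rw [mul_assoc, ← CfsgLib.Solvable.conj_smul_conj_smul, h, CfsgLib.Solvable.conj_smul_conj_smul,
        inv_mul_cancel, map_one, one_smul]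
    · intro h
      conv_rhs => rw [← h, CfsgLib.Solvable.conj_smul_conj_smul]
      congr 2
      group
  rw [hN]
  intro hd
  refine T₁.not_dvd_index (hd.trans ?_)
  have hsub : MulAut.conj g • ((T₁ : Subgroup X).map X.subtype) ≤ (S : Subgroup G) ⊓ (MulAut.conj g • X) :=
    le_inf hle ((Subgroup.pointwise_smul_le_pointwise_smul_iff).mpr (Subgroup.map_subtype_le _))
  have h6 := Subgroup.relIndex_dvd_of_le_left (MulAut.conj g • X) hsub
  rw [CfsgLib.Solvable.conj_smul_eq_map, CfsgLib.Solvable.conj_smul_eq_map,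
    Subgroup.relIndex_map_map_of_injective _ _ (MulAut.conj g).injective] at h6
  have h7 : ((T₁ : Subgroup X).map X.subtype).relIndex X = (T₁ : Subgroup X).index := by
    show (((T₁ : Subgroup X).map X.subtype).subgroupOf X).index = _
    rw [Subgroup.subgroupOf, Subgroup.comap_map_eq_self_of_injective X.subtype_injective]
  rwa [h7, ← CfsgLib.Solvable.conj_smul_eq_map] at h6

theorem cent_all [Finite G] [hp : Fact p.Prime] (S : Sylow p G) (D : Subgroup G)
    (hD : Cfsg.IsStronglyClosed D (S : Subgroup G))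
    (h : ∀ U : Subgroup G, U ≤ D → D ⊓ Subgroup.centralizer (U : Set G) ≤ U →
      ∀ Q : Subgroup G, Q ≤ Subgroup.normalizer (U : Set G) → Q ≤ (S : Subgroup G) →
        ∀ a ∈ Subgroup.normalizer (U : Set G), a ∈ Subgroup.normalizer (Q : Set G) →
          (orderOf a).Coprime p → a ∈ Subgroup.centralizer (Q : Set G)) :
    ∀ Q : Subgroup G, Q ≤ (S : Subgroup G) → Cent p Q := by
  obtain ⟨hDS, hclosed⟩ := hD
  have hconjD : ∀ (U : Subgroup G) (g : G), U ≤ D → MulAut.conj g • U ≤ (S : Subgroup G) →
      MulAut.conj g • U ≤ D := by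
    intro U g hU hS z hz
    have hzS := hS hz
    rw [CfsgLib.Solvable.mem_conj_smul] at hz
    have e : z = g * (g⁻¹ * z * g) * g⁻¹ := by group
    rw [e] at hzS ⊢
    exact hclosed _ (hU hz) g hzS
  -- subgroups of `D`
  have phase1 : ∀ k : ℕ, ∀ U : Subgroup G, U ≤ D → Nat.card G ≤ Nat.card U + k → Cent p U := by
    intro k
    induction k with
    | zero =>
      intro U hUD hk
      have : U = ⊤ := Subgroup.eq_top_of_le_card U (by omega)
      intro a ha hcop
      exact h U hUD (fun x _ => this ▸ Subgroup.mem_top x) U Subgroup.le_normalizer (hUD.trans hDS)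
        a ha ha hcop
    | succ k ih =>
      intro U₀ hUD₀ hk₀
      obtain ⟨g, hgS, hfull⟩ := exists_fully S (hUD₀.trans hDS)
      refine cent_of_conj g ?_
      have hUD := hconjD U₀ g hUD₀ hgS
      have hk := hk₀
      rw [← CfsgLib.Solvable.card_conj_smul g U₀] at hk
      generalize MulAut.conj g • U₀ = U at hgS hfull hUD hk
      by_cases hc : D ⊓ Subgroup.centralizer (U : Set G) ≤ U
      · exact fun a ha hcop => h U hUD hc U Subgroup.le_normalizer hgS a ha ha hcop
      refine step S.2 hDS hclosed hgS hfull (Subgroup.centralizer (U : Set G))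
        (Subgroup.centralizer_le_normalizer _) ?_ (fun a ha _ => ha) ?_
      · intro x hx l hl
        exact (Subgroup.normal_subgroupOf_centralizer_normalizer (U : Set G)).conj_mem
          ⟨l, Subgroup.centralizer_le_normalizer _ hl⟩ hl ⟨x, hx⟩
      · have hlt : U < U ⊔ (D ⊓ Subgroup.centralizer (U : Set G)) :=
          lt_of_le_of_ne le_sup_left fun e => hc (le_sup_right.trans e.symm.le)
        have := card_lt hlt
        exact ih _ (sup_le hUD inf_le_left) (by omega)
  have phase2 : ∀ k : ℕ, ∀ Q : Subgroup G, Q ≤ (S : Subgroup G) →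
      Nat.card G ≤ Nat.card Q + k → Cent p Q := by
    intro k
    induction k with
    | zero =>
      intro Q hQ hk
      have hQt : Q = ⊤ := Subgroup.eq_top_of_le_card Q (by omega)
      intro a _ hcop
      obtain ⟨i, hi⟩ := S.2 ⟨a, hQ (hQt ▸ Subgroup.mem_top a)⟩
      have := Nat.eq_one_of_dvd_coprimes (hcop.pow_right i) dvd_rfl
        (orderOf_dvd_of_pow_eq_one (congrArg Subtype.val hi))
      rw [orderOf_eq_one_iff.mp this]
      exact one_mem _
    | succ k ih =>
      intro Q₀ hQ₀ hk₀
      obtain ⟨g, hQ, hfull⟩ := exists_fully S hQ₀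
      refine cent_of_conj g ?_
      have hk := hk₀
      rw [← CfsgLib.Solvable.card_conj_smul g Q₀] at hk
      generalize MulAut.conj g • Q₀ = Q at hQ hfull hk
      set V := Q ⊓ D with hV
      set X := Subgroup.normalizer (Q : Set G) with hX
      have hV1 : Cent p V := phase1 (Nat.card G) V inf_le_right (Nat.le_add_left _ _)
      have hXV : X ≤ Subgroup.normalizer (V : Set G) := by
        have key : ∀ x ∈ X, ∀ v ∈ V, x * v * x⁻¹ ∈ V := fun x hx v hv => by
          have h1 := (Subgroup.mem_normalizer_iff.mp hx v).mp hv.1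
          exact ⟨h1, hclosed v hv.2 x (hQ h1)⟩
        intro x hx
        rw [Subgroup.mem_normalizer_iff]
        intro v
        refine ⟨key x hx v, fun hv => ?_⟩
        have := key x⁻¹ (inv_mem hx) _ hv
        simpa [mul_assoc] using this
      have hDn : ∀ s ∈ (S : Subgroup G), ∀ d ∈ D, s * d * s⁻¹ ∈ D := fun s hs d hd =>
        hclosed d hd s (mul_mem (mul_mem hs (hDS hd)) (inv_mem hs))
      -- elements of `X` centralizing `Q` modulo `V`
      let L : Subgroup G :=
        { carrier := {x | x ∈ X ∧ ∀ y ∈ Q, y⁻¹ * (x * y * x⁻¹) ∈ V}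
          one_mem' := ⟨one_mem _, fun y _ => by simp [one_mem]⟩
          mul_mem' := by
            rintro x x' ⟨hx, hx2⟩ ⟨hx', hx2'⟩
            refine ⟨mul_mem hx hx', fun y hy => ?_⟩
            have := mul_mem (hx2 y hy) ((Subgroup.mem_normalizer_iff.mp (hXV hx) _).mp (hx2' y hy))
            simpa [mul_assoc] using this
          inv_mem' := by
            rintro x ⟨hx, hx2⟩
            refine ⟨inv_mem hx, fun y hy => ?_⟩
            have := (Subgroup.mem_normalizer_iff.mp (hXV (inv_mem hx)) _).mp (inv_mem (hx2 y hy))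
            simpa [mul_assoc] using this }
      have hLX : L ≤ X := fun x hx => hx.1
      have hLn : ∀ x ∈ X, ∀ l ∈ L, x * l * x⁻¹ ∈ L := by
        intro x hx l hl
        refine ⟨mul_mem (mul_mem hx hl.1) (inv_mem hx), fun y hy => ?_⟩
        have h1 : x⁻¹ * y * x ∈ Q := by
          have := (Subgroup.mem_normalizer_iff.mp (inv_mem hx) y).mp hy
          simpa using this
        have := (Subgroup.mem_normalizer_iff.mp (hXV hx) _).mp (hl.2 _ h1)
        simpa [mul_assoc] using this
      have hLp : ∀ a ∈ L, (orderOf a).Coprime p → a ∈ Subgroup.centralizer (Q : Set G) := by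
        intro a ha hcop
        have hcV := Subgroup.mem_centralizer_iff.mp (hV1 a (hXV ha.1) hcop)
        rw [Subgroup.mem_centralizer_iff]
        intro y hy
        set v := y⁻¹ * (a * y * a⁻¹) with hv
        have hvV : v ∈ V := ha.2 y hy
        have hpow : ∀ m : ℕ, a ^ m * y * (a ^ m)⁻¹ = y * v ^ m := by
          intro m
          induction m with
          | zero => simp
          | succ m ihm =>
            have e : a * v ^ m = v ^ m * a := (hcV _ (pow_mem hvV m)).symm
            calc a ^ (m + 1) * y * (a ^ (m + 1))⁻¹ = a * (a ^ m * y * (a ^ m)⁻¹) * a⁻¹ := by group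
              _ = a * y * (v ^ m * a⁻¹) := by rw [ihm]; group
              _ = a * y * a⁻¹ * (a * v ^ m) * a⁻¹ := by group
              _ = a * y * a⁻¹ * v ^ m := by rw [e]; group
              _ = y * v * v ^ m := by rw [show y * v = a * y * a⁻¹ by rw [hv]; group]
              _ = y * v ^ (m + 1) := by rw [pow_succ', mul_assoc]
        have h1 := hpow (orderOf a)
        rw [pow_orderOf_eq_one, one_mul, inv_one, mul_one, left_eq_mul] at h1
        obtain ⟨i, hi⟩ := S.2 ⟨v, hDS hvV.2⟩
        have hv1 := Nat.eq_one_of_dvd_coprimes (hcop.pow_right i) (orderOf_dvd_of_pow_eq_one h1)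
          (orderOf_dvd_of_pow_eq_one (congrArg Subtype.val hi))
        have h2 : a * y * a⁻¹ = y := by
          have := orderOf_eq_one_iff.mp hv1
          rw [hv, inv_mul_eq_one] at this
          exact this.symm
        exact (mul_inv_eq_iff_eq_mul.mp h2).symm
      by_cases hc : D ⊓ X ≤ Q
      · -- then `V` is self-centralizing in `D`
        have hself : D ⊓ Subgroup.centralizer (V : Set G) ≤ V := by
          by_contra hne
          let Y : Subgroup G := D ⊓ Subgroup.centralizer (V : Set G)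
          have hQY : Q ≤ Subgroup.normalizer (Y : Set G) := by
            have key : ∀ y ∈ Q, ∀ z ∈ Y, y * z * y⁻¹ ∈ Y := by
              intro y hy z hz
              refine ⟨hDn y (hQ hy) z hz.1, ?_⟩
              refine Subgroup.mem_centralizer_iff.mpr fun v hv => ?_
              have hy' : y ∈ X := Subgroup.le_normalizer hy
              have h1 : y⁻¹ * v * y ∈ V := by
                have := (Subgroup.mem_normalizer_iff.mp (hXV (inv_mem hy')) v).mp hv
                simpa using this
              have h2 := Subgroup.mem_centralizer_iff.mp hz.2 _ h1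
              calc v * (y * z * y⁻¹) = y * ((y⁻¹ * v * y) * z) * y⁻¹ := by group
                _ = y * (z * (y⁻¹ * v * y)) * y⁻¹ := by rw [h2]
                _ = y * z * y⁻¹ * v := by group
            intro y hy
            rw [Subgroup.mem_normalizer_iff]
            intro z
            refine ⟨key y hy z, fun hz => ?_⟩
            have := key y⁻¹ (inv_mem hy) _ hz
            simpa [mul_assoc] using this
          have hlt : Q < Q ⊔ Y := lt_of_le_of_ne le_sup_left fun e =>
            hne fun z hz => ⟨e.symm ▸ (Subgroup.mem_sup_right hz : z ∈ Q ⊔ Y), hz.1⟩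
          have hp' : IsPGroup p ↥(Q ⊔ Y) := S.2.to_le (sup_le hQ (inf_le_left.trans hDS))
          have := hp'.isNilpotent
          have hnc := normalizerCondition_of_isNilpotent (G := ↥(Q ⊔ Y)) (Q.subgroupOf (Q ⊔ Y))
            (lt_top_iff_ne_top.mpr fun e => hlt.ne (le_antisymm le_sup_left (Subgroup.subgroupOf_eq_top.mp e)))
          obtain ⟨⟨w, hw⟩, hwN, hwQ⟩ := SetLike.exists_of_lt hnc
          have hwX : w ∈ X := by
            have := Subgroup.le_normalizer_map (Q ⊔ Y).subtype ⟨_, hwN, rfl⟩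
            rwa [Subgroup.subgroupOf_map_subtype, inf_eq_left.mpr le_sup_left] at this
          obtain ⟨y, hy, z, hz, hyz⟩ := (CfsgLib.Solvable.mem_sup_of_le_normalizer hQY).mp
            (sup_comm Q Y ▸ hw : w ∈ Y ⊔ Q)
          have hyX : y ∈ X := by
            have : y = w * z⁻¹ := by rw [← hyz]; group
            rw [this]
            exact mul_mem hwX (inv_mem (Subgroup.le_normalizer hz))
          exact hwQ (by
            show w ∈ Q
            rw [← hyz]
            exact mul_mem (hc ⟨hy.1, hyX⟩) hz)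
        exact fun a ha hcop => h V inf_le_right hself Q (Subgroup.le_normalizer.trans hXV) hQ
          a (hXV ha) ha hcop
      refine step S.2 hDS hclosed hQ hfull L hLX hLn hLp ?_
      have hDL : D ⊓ X ≤ L := by
        rintro d ⟨hd, hdX⟩
        refine ⟨hdX, fun y hy => ⟨Q.mul_mem (Q.inv_mem hy) ((Subgroup.mem_normalizer_iff.mp hdX y).mp hy), ?_⟩⟩
        have h1 := mul_mem (hDn y⁻¹ (inv_mem (hQ hy)) d hd) (inv_mem hd)
        simpa [mul_assoc] using h1
      have hlt : Q < Q ⊔ (D ⊓ L) := by
        refine lt_of_le_of_ne le_sup_left fun e => hc fun z hz => ?_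
        exact e.symm ▸ (Subgroup.mem_sup_right ⟨hz.1, hDL hz⟩ : z ∈ Q ⊔ (D ⊓ L))
      have := card_lt hlt
      exact ih _ (sup_le hQ (inf_le_left.trans hDS)) (by omega)
  intro Q hQ
  exact phase2 (Nat.card G) Q hQ (Nat.le_add_left _ _)

theorem card_coprime_of_isComplement [Finite G] [hp : Fact p.Prime] {P : Sylow p G} {M : Subgroup G}
    (hc : M.IsComplement' (P : Subgroup G)) : (Nat.card M).Coprime p := by
  rw [← hc.index_eq_card]
  exact ((hp.out.coprime_iff_not_dvd).mpr P.not_dvd_index).symm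

theorem hasNormalPComplement_subgroup [Finite G] [hp : Fact p.Prime]
    (h : Cfsg.HasNormalPComplement p G) (H : Subgroup G) : Cfsg.HasNormalPComplement p H := by
  obtain ⟨P, M, hM, hc⟩ := h
  obtain ⟨R⟩ : Nonempty (Sylow p H) := inferInstance
  have hMp := card_coprime_of_isComplement hc
  have hcard : (Nat.card (M.subgroupOf H)).Coprime p :=
    Nat.Coprime.coprime_dvd_left (Subgroup.card_comap_dvd_of_injective M H.subtype H.subtype_injective) hMp
  obtain ⟨i, hi⟩ := IsPGroup.iff_card.mp P.2
  obtain ⟨j, -, hj⟩ := (Nat.dvd_prime_pow hp.out).mp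
    (show (M.subgroupOf H).index ∣ p ^ i by
      rw [← hi, ← hc.symm.index_eq_card]
      exact Subgroup.relIndex_dvd_index_of_normal M H)
  obtain ⟨l, hl⟩ := IsPGroup.iff_card.mp R.2
  refine ⟨R, M.subgroupOf H, inferInstance, ?_⟩
  have h1 := (M.subgroupOf H).index_mul_card
  have h2 := (R : Subgroup H).index_mul_card
  rw [hj, ← h2, hl] at h1
  have hjl : p ^ j = p ^ l := Nat.dvd_antisymm
    ((((Nat.Prime.coprime_iff_not_dvd hp.out).mpr R.not_dvd_index).pow_left j).dvd_of_dvd_mul_left
      ⟨Nat.card (M.subgroupOf H), h1.symm⟩)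
    ((hcard.symm.pow_left l).dvd_of_dvd_mul_right ⟨(R : Subgroup H).index, by rw [h1, mul_comm]⟩)
  refine Subgroup.isComplement'_of_coprime ?_ (hl ▸ hcard.pow_right l)
  rw [← (M.subgroupOf H).index_mul_card, hl, hj, hjl, mul_comm]

theorem centralizes_of_hasNormalPComplement [Finite G] [hp : Fact p.Prime]
    (h : Cfsg.HasNormalPComplement p G) (Q : Subgroup G) (hQ : IsPGroup p Q) (a : G)
    (ha : a ∈ Subgroup.normalizer (Q : Set G)) (hcop : (orderOf a).Coprime p) :
    a ∈ Subgroup.centralizer (Q : Set G) := by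
  obtain ⟨P, M, hM, hc⟩ := h
  obtain ⟨i, hi⟩ := IsPGroup.iff_card.mp P.2
  have haM : a ∈ M := by
    rw [← QuotientGroup.eq_one_iff, ← orderOf_eq_one_iff]
    refine Nat.eq_one_of_dvd_coprimes (hcop.pow_right i) (orderOf_map_dvd (QuotientGroup.mk' M) a) ?_
    rw [← hi, ← hc.symm.index_eq_card]
    exact orderOf_dvd_natCard _
  obtain ⟨j, hj⟩ := IsPGroup.iff_card.mp hQ
  have hdis : Disjoint M Q := disjoint_iff.mpr (Subgroup.inf_eq_bot_of_coprime
    (hj ▸ (card_coprime_of_isComplement hc).pow_right j))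
  refine Subgroup.mem_centralizer_iff.mpr fun y hy => ?_
  have h1 : y * a * y⁻¹ * a⁻¹ ∈ M := mul_mem (hM.conj_mem a haM y) (inv_mem haM)
  have h2 : y * a * y⁻¹ * a⁻¹ ∈ Q := by
    have := mul_mem hy ((Subgroup.mem_normalizer_iff.mp ha y⁻¹).mp (inv_mem hy))
    simpa [mul_assoc] using this
  have h3 := Subgroup.disjoint_def.mp hdis h1 h2
  rw [mul_inv_eq_one, mul_inv_eq_iff_eq_mul] at h3
  exact h3

/-- A Frobenius normal p-complement criterion relative to a strongly closed subgroup. Let G be a finite group, S a Sylow p-subgroup and D a subgroup of S strongly closed in S with respect to G. Then G has a normal p-complement if and only if N_G(U) has a normal p-complement for every subgroup U of D with C_D(U) ≤ U. -/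
theorem result {G : Type*} [Group G] [Finite G] {p : ℕ} [Fact p.Prime] (S : Sylow p G) (D : Subgroup G) (hD : Cfsg.IsStronglyClosed D (S : Subgroup G)) : Cfsg.HasNormalPComplement p G ↔ ∀ U : Subgroup G, U ≤ D → D ⊓ Subgroup.centralizer (U : Set G) ≤ U → Cfsg.HasNormalPComplement p ↥(Subgroup.normalizer (U : Set G)) := by
  refine ⟨fun hG U _ _ => hasNormalPComplement_subgroup hG _, fun h => ?_⟩
  have hc : ∀ Q : Subgroup G, Q ≤ (S : Subgroup G) → Cent p Q := by
    refine cent_all S D hD fun U hU hself Q hQN hQS a haU haQ hcop => ?_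
    set N := Subgroup.normalizer (U : Set G)
    have hQp : IsPGroup p ↥(Q.subgroupOf N) :=
      (S.2.to_le hQS).comap_of_injective N.subtype N.subtype_injective
    have hmem : (⟨a, haU⟩ : N) ∈ Subgroup.normalizer ((Q.subgroupOf N : Subgroup N) : Set N) := by
      rw [Subgroup.mem_normalizer_iff]
      intro z
      exact Subgroup.mem_normalizer_iff.mp haQ z
    have h1 := centralizes_of_hasNormalPComplement (h U hU hself) _ hQp ⟨a, haU⟩ hmem
      (by rwa [Subgroup.orderOf_mk])
    exact Subgroup.mem_centralizer_iff.mpr fun y hy =>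
      congrArg Subtype.val (Subgroup.mem_centralizer_iff.mp h1 ⟨y, hQN hy⟩ hy)
  obtain ⟨N, hN, hNc⟩ := CfsgLib.PNilpotent.exists_normal_complement
    (CfsgLib.PNilpotent.primeToPCentralizes_of_sylow S hc) S
  exact ⟨S, N, hN, hNc⟩

end Cfsg.Agent.S3839
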