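import Cfsg.Statements.S3857
import Cfsg.Agent.Lib.PNilpotent.DisconnectedSolvable
-- import your own Cfsg.Agent.* helpers here

set_option autoImplicit false
open Cfsg

namespace Cfsg.Agent.S3857

/-- A finite solvable group whose prime graph (prime divisors of the order, two distinct primes joined when there is an element of order their product) is disconnected is a Frobenius group or a 2-Frobenius group (it has normal subgroups H < K with K a Frobenius group with kernel H and G/H a Frobenius group with kernel K/H). -/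
theorem result {G : Type*} [Group G] [Finite G] (hsol : Group.IsSolvable G)
    (hdisc : (∃ A : Set ℕ, (∃ a ∈ A, a.Prime ∧ a ∣ Nat.card G) ∧ (∃ b ∉ A, b.Prime ∧ b ∣ Nat.card G) ∧
      ∀ a ∈ A, ∀ b ∉ A, a.Prime → b.Prime → a ∣ Nat.card G → b ∣ Nat.card G → ¬ ∃ g : G, orderOf g = a * b)) :
    (∃ C : Subgroup G, Cfsg.IsFrobeniusComplement C) ∨
    (∃ (H K : Subgroup G) (_ : H.Normal), K.Normal ∧ H < K ∧
      (∃ C : Subgroup ↥K, Cfsg.IsFrobeniusComplement C ∧ Cfsg.frobeniusKernel C = (H.subgroupOf K : Set ↥K)) ∧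
      (∃ C : Subgroup (G ⧸ H), Cfsg.IsFrobeniusComplement C ∧ Cfsg.frobeniusKernel C = (K.map (QuotientGroup.mk' H) : Set (G ⧸ H)))) := by
  obtain ⟨A, ⟨a, haA, hap, had⟩, ⟨b, hbA, hbp, hbd⟩, hA⟩ := hdisc
  haveI : Group.IsSolvable G := hsol
  haveI : Nontrivial G := by
    rw [← Finite.one_lt_card_iff_nontrivial]
    exact hap.one_lt.trans_le (Nat.le_of_dvd Nat.card_pos had)
  have hsep : CfsgLib.DisconnSolv.Sep A G := by
    intro g p q hp hq hpA hqA hpd hqd
    have hdvd : p * q ∣ orderOf g := Nat.Coprime.mul_dvd_of_dvd_of_dvd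
      ((Nat.coprime_primes hp hq).mpr fun h => hqA (h ▸ hpA)) hpd hqd
    exact hA p hpA q hqA hp hq (hpd.trans (orderOf_dvd_natCard g)) (hqd.trans (orderOf_dvd_natCard g))
      ⟨g ^ (orderOf g / (p * q)), orderOf_pow_orderOf_div (orderOf_pos g).ne' hdvd⟩
  obtain ⟨p, -, -, hp⟩ := CfsgLib.DisconnSolv.exists_piCore_ne_bot (G := G)
  by_cases hpA : p ∈ A
  · exact CfsgLib.DisconnSolv.frobenius_or_two_frobenius hsep ⟨b, hbA, hbp, hbd⟩ (hp A hpA)
  · exact CfsgLib.DisconnSolv.frobenius_or_two_frobenius hsep.compl ⟨a, fun h => h haA, hap, had⟩ (hp Aᶜ hpA)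


end Cfsg.Agent.S3857
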