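import Cfsg.Statements.S3858
-- import your own Cfsg.Agent.* helpers here

set_option autoImplicit false
open Cfsg

namespace Cfsg.Agent.S3858

/-- Let G be a finite group with a normal non-abelian simple subgroup T whose centralizer is trivial (G almost simple with socle T), r a prime and R a Sylow r-subgroup of G meeting T nontrivially. Then R lies in exactly one maximal subgroup of G if and only if G has exactly one conjugacy class of maximal subgroups whose index is prime to r. -/
theorem result {G : Type*} [Group G] [Finite G] (T : Subgroup G) [T.Normal] (hT : IsSimpleGroup T) (hna : ¬ IsMulCommutative T)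
    (hC : Subgroup.centralizer (T : Set G) = ⊥) {r : ℕ} [Fact r.Prime] (R : Sylow r G) (hR0 : (R : Subgroup G) ⊓ T ≠ ⊥) :
    (∃! M : Subgroup G, IsCoatom M ∧ (R : Subgroup G) ≤ M) ↔
      ((∃ M : Subgroup G, IsCoatom M ∧ ¬ r ∣ M.index) ∧
        ∀ M₁ M₂ : Subgroup G, IsCoatom M₁ → ¬ r ∣ M₁.index → IsCoatom M₂ → ¬ r ∣ M₂.index → ∃ g : G, M₂ = M₁.map (MulAut.conj g).toMonoidHom) := by
  obtain ⟨c, hc⟩ := MulAction.exists_smul_eq G R R
  have hnormR : Subgroup.normalizer ((R : Subgroup G) : Set G) ≠ ⊤ := by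
    intro htop
    have hn : (R : Subgroup G).Normal := Subgroup.normalizer_eq_top_iff.mp htop
    haveI : IsSimpleGroup T := hT
    have h1 : ((R : Subgroup G).subgroupOf T).Normal := hn.subgroupOf T
    rcases h1.eq_bot_or_eq_top with h | h
    · exact hR0 (by
        rw [Subgroup.subgroupOf_eq_bot] at h
        exact disjoint_iff.mp h)
    · rw [Subgroup.subgroupOf_eq_top] at h
      have hTp : IsPGroup r T := R.isPGroup'.to_le h
      haveI : Group.IsNilpotent T := hTp.isNilpotent
      have hsol : Group.IsSolvable T := inferInstance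
      exact hna ((IsSimpleGroup.comm_iff_isSolvable.mpr hsol) |> IsMulCommutative.of_comm)
  obtain ⟨M₀, hM₀, hle₀⟩ := (eq_top_or_exists_le_coatom _).resolve_left hnormR
  have hR₀ : (R : Subgroup G) ≤ M₀ := Subgroup.le_normalizer.trans hle₀
  have hidx : ∀ M : Subgroup G, (R : Subgroup G) ≤ M → ¬ r ∣ M.index :=
    fun M h hd => R.not_dvd_index (hd.trans (Subgroup.index_dvd_of_le h))
  constructor
  · rintro ⟨M, ⟨hM, hRM⟩, huniq⟩
    refine ⟨⟨M, hM, hidx M hRM⟩, ?_⟩
    have key : ∀ M₁ : Subgroup G, IsCoatom M₁ → ¬ r ∣ M₁.index →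
        ∃ g : G, M₁ = M.map (MulAut.conj g).toMonoidHom := by
      intro M₁ hM₁ hd
      obtain ⟨S⟩ := (inferInstance : Nonempty (Sylow r M₁))
      obtain ⟨S', hS'⟩ := (S.isPGroup'.map M₁.subtype).exists_le_sylow
      have hS'le : (S' : Subgroup G) ≤ M₁ := by
        have hcard : Nat.card (S' : Subgroup G) ≤ Nat.card ((S : Subgroup M₁).map M₁.subtype) := by
          rw [Subgroup.card_map_of_injective M₁.subtype_injective, S.card_eq_multiplicity, S'.card_eq_multiplicity,
            ← M₁.card_mul_index, Nat.factorization_mul Nat.card_pos.ne' Subgroup.index_ne_zero_of_finite,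
            Finsupp.add_apply, Nat.factorization_eq_zero_of_not_dvd hd, add_zero]
        rw [← Subgroup.eq_of_le_of_card_ge hS' hcard]
        exact Subgroup.map_subtype_le _
      obtain ⟨g, rfl⟩ := MulAction.exists_smul_eq G R S'
      refine ⟨g, ?_⟩
      have h1 : M₁.map (MulAut.conj g⁻¹).toMonoidHom = M := by
        refine huniq _ ⟨?_, ?_⟩
        · exact (OrderIso.isCoatom_iff (MulAut.conj g⁻¹).mapSubgroup M₁).mpr hM₁
        · intro x hx
          refine ⟨g * x * g⁻¹, hS'le ?_, by simp [mul_assoc]⟩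
          rw [Sylow.coe_subgroup_smul, Subgroup.mem_pointwise_smul_iff_inv_smul_mem]
          simpa [MulAut.smul_def, mul_assoc] using hx
      rw [← h1, Subgroup.map_map]
      ext x
      simp [mul_assoc]
    intro M₁ M₂ h1 h1' h2 h2'
    obtain ⟨g₁, hg₁⟩ := key M₁ h1 h1'
    obtain ⟨g₂, hg₂⟩ := key M₂ h2 h2'
    refine ⟨g₂ * g₁⁻¹, ?_⟩
    rw [hg₁, hg₂, Subgroup.map_map]
    congr 1
    ext x
    simp [mul_assoc]
  · rintro ⟨-, hconj⟩
    refine ⟨M₀, ⟨hM₀, hR₀⟩, ?_⟩
    rintro M ⟨hM, hRM⟩
    obtain ⟨g, hg⟩ := hconj M₀ M hM₀ (hidx M₀ hR₀) hM (hidx M hRM)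
    -- both `R` and its conjugate by `g⁻¹` are Sylow subgroups of `M₀`
    have hle : ((g⁻¹ • R : Sylow r G) : Subgroup G) ≤ M₀ := by
      intro x hx
      rw [Sylow.coe_subgroup_smul, Subgroup.mem_pointwise_smul_iff_inv_smul_mem] at hx
      have hx' := hRM hx
      rw [hg] at hx'
      obtain ⟨y, hy, hyx⟩ := hx'
      simp [MulAut.smul_def] at hyx
      rwa [hyx] at hy
    obtain ⟨m, hm⟩ := MulAction.exists_smul_eq M₀ ((g⁻¹ • R).subtype hle) (R.subtype hR₀)
    rw [Sylow.smul_subtype] at hm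
    have hm' := Sylow.subtype_injective hm
    change (m : G) • g⁻¹ • R = R at hm'
    rw [← mul_smul, Sylow.smul_eq_iff_mem_normalizer] at hm'
    have hgM : g ∈ M₀ := by
      have := hle₀ hm'
      rwa [Subgroup.mul_mem_cancel_left _ m.2, inv_mem_iff] at this
    rw [hg]
    refine SetLike.coe_injective ?_
    exact Subgroup.mem_normalizer_iff_conj_image_eq.mp (Subgroup.le_normalizer hgM)


end Cfsg.Agent.S3858
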