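import Cfsg.Statements.S3859
import Cfsg.Agent.Lib.PNilpotent.Basic
-- import your own Cfsg.Agent.* helpers here

set_option autoImplicit false
open Cfsg

namespace Cfsg.Agent.S3859

/-- Let G be a finite group with a normal non-abelian simple subgroup T whose centralizer is trivial (G almost simple with socle T), r a prime and R a Sylow r-subgroup of G meeting T nontrivially. If R lies in exactly one maximal subgroup of G, then G/T is an r-group. -/
theorem result {G : Type*} [Group G] [Finite G] (T : Subgroup G) [T.Normal] (hT : IsSimpleGroup T) (hna : ¬ IsMulCommutative T)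
    (hC : Subgroup.centralizer (T : Set G) = ⊥) {r : ℕ} [Fact r.Prime] (R : Sylow r G) (hR0 : (R : Subgroup G) ⊓ T ≠ ⊥)
    (huniq : ∃! M : Subgroup G, IsCoatom M ∧ (R : Subgroup G) ≤ M) : IsPGroup r (G ⧸ T) := by
  haveI : IsSimpleGroup T := hT
  obtain ⟨M, ⟨hM, hRM⟩, huniq⟩ := huniq
  set R₀ : Subgroup G := (R : Subgroup G) ⊓ T
  have hN : Subgroup.normalizer (R₀ : Set G) ≠ ⊤ := by
    intro htop
    have hn : R₀.Normal := Subgroup.normalizer_eq_top_iff.mp htop
    rcases (hn.subgroupOf T).eq_bot_or_eq_top with h | h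
    · rw [Subgroup.subgroupOf_eq_bot, disjoint_iff, inf_eq_left.mpr inf_le_right] at h
      exact hR0 h
    · rw [Subgroup.subgroupOf_eq_top] at h
      have hTp : IsPGroup r T := R.isPGroup'.to_le (h.trans inf_le_left)
      haveI : Group.IsNilpotent T := hTp.isNilpotent
      have hsol : Group.IsSolvable T := inferInstance
      exact hna ((IsSimpleGroup.comm_iff_isSolvable.mpr hsol) |> IsMulCommutative.of_comm)
  have hRN : (R : Subgroup G) ≤ Subgroup.normalizer (R₀ : Set G) := by
    intro g hg
    rw [Subgroup.mem_normalizer_iff]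
    intro x
    simp only [R₀, Subgroup.mem_inf]
    refine and_congr ?_ ⟨fun h => Subgroup.Normal.conj_mem inferInstance x h g, fun h => by
      simpa [mul_assoc] using Subgroup.Normal.conj_mem (inferInstance : T.Normal) _ h g⁻¹⟩
    exact ⟨fun h => mul_mem (mul_mem hg h) (inv_mem hg), fun h => by
      have := mul_mem (mul_mem (inv_mem hg) h) hg
      simpa [mul_assoc] using this⟩
  obtain ⟨M', hM', hle'⟩ := (eq_top_or_exists_le_coatom _).resolve_left hN
  obtain rfl : M' = M := huniq M' ⟨hM', hRN.trans hle'⟩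
  by_cases htop : T ⊔ (R : Subgroup G) = ⊤
  · intro x
    obtain ⟨g, rfl⟩ := QuotientGroup.mk_surjective x
    obtain ⟨t, ht, s, hs, rfl⟩ := (Subgroup.mem_sup_of_normal_left).mp (htop ▸ Subgroup.mem_top g)
    obtain ⟨k, hk⟩ := R.isPGroup' ⟨s, hs⟩
    refine ⟨k, ?_⟩
    rw [QuotientGroup.mk_mul, (QuotientGroup.eq_one_iff t).mpr ht, one_mul, ← QuotientGroup.mk_pow,
      show s ^ r ^ k = 1 from congrArg Subtype.val hk, QuotientGroup.mk_one]
  · exfalso
    obtain ⟨M'', hM'', hle''⟩ := (eq_top_or_exists_le_coatom _).resolve_left htop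
    obtain rfl : M'' = M' := huniq M'' ⟨hM'', le_sup_right.trans hle''⟩
    obtain ⟨S, hS⟩ := CfsgLib.PNilpotent.sylow_subgroupOf_card R T
    have hfr := Sylow.normalizer_sup_eq_top S
    have hmap : (S : Subgroup T).map T.subtype = R₀ := by
      rw [hS, Subgroup.subgroupOf_map_subtype]
    rw [hmap] at hfr
    exact hM''.1 (top_le_iff.mp (hfr ▸ sup_le hle' (le_sup_left.trans hle'')))


end Cfsg.Agent.S3859
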