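import Cfsg.Statements.S3861
import Mathlib
import Cfsg.Agent.Lib.Invol.BaerSuzuki
-- import your own Cfsg.Agent.* helpers here

set_option autoImplicit false
open Cfsg

namespace Cfsg.Agent.S3861

/-- A finite group G has no non-identity element of odd order that is conjugate to its inverse if and only if the Sylow 2-subgroups of G are normal. -/
theorem result {G : Type*} [Group G] [Finite G] (P : Sylow 2 G) : (∀ x : G, x ≠ 1 → Odd (orderOf x) → ¬ IsConj x x⁻¹) ↔ (P : Subgroup G).Normal := by
  constructor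
  · intro h
    -- minimal normal `2`-subgroup with quotient of odd order
    obtain ⟨N, ⟨hN, hN2⟩, hNmax⟩ := (Set.toFinite {N : Subgroup G | N.Normal ∧ IsPGroup 2 N}).exists_maximal
      ⟨⊥, inferInstance, IsPGroup.of_bot⟩
    haveI := hN
    have hodd : ¬ 2 ∣ N.index := by
      intro hd
      rw [Subgroup.index_eq_card] at hd
      obtain ⟨t, ht⟩ := exists_prime_orderOf_dvd_card' 2 hd
      obtain ⟨z, hz1, hzo, hzt⟩ := CfsgLib.Invol.exists_odd_inverted_of_notMem_normal_two ht (fun M hM hM2 htM => by
        have h1 : IsPGroup 2 (M.comap (QuotientGroup.mk' N)) := by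
          intro g
          obtain ⟨k, hk⟩ := hM2 ⟨_, g.2⟩
          have hk' : ((g : G) ^ 2 ^ k : G) ∈ N := by
            rw [← QuotientGroup.eq_one_iff]
            exact (map_pow (QuotientGroup.mk' N) (g : G) _).trans (congrArg Subtype.val hk)
          obtain ⟨l, hl⟩ := hN2 ⟨_, hk'⟩
          have h3 := congrArg Subtype.val hl
          simp only [Subgroup.coe_pow, Subgroup.coe_one] at h3
          refine ⟨k + l, Subtype.ext ?_⟩
          simp only [Subgroup.coe_pow, Subgroup.coe_one]
          rw [pow_add, pow_mul]; exact h3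
        have h2 : M.comap (QuotientGroup.mk' N) ≤ N := hNmax ⟨hM.comap _, h1⟩ (by
          intro n hn
          change QuotientGroup.mk' N n ∈ M
          rw [show QuotientGroup.mk' N n = 1 from (QuotientGroup.eq_one_iff n).mpr hn]
          exact one_mem M)
        obtain ⟨g, hg⟩ := QuotientGroup.mk'_surjective N t
        have hgN : g ∈ N := h2 (show QuotientGroup.mk' N g ∈ M by rw [hg]; exact htM)
        have ht1 : t = 1 := by rw [← hg]; exact (QuotientGroup.eq_one_iff g).mpr hgN
        rw [ht1, orderOf_one] at ht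
        exact absurd ht (by decide))
      -- lift the inverted element
      obtain ⟨r, hr, hrd⟩ := Nat.exists_prime_and_dvd (fun h1 => hz1 (orderOf_eq_one_iff.mp h1) : orderOf z ≠ 1)
      haveI : Fact r.Prime := ⟨hr⟩
      have hr2 : r ≠ 2 := fun h => Nat.not_even_iff_odd.mpr hzo (even_iff_two_dvd.mpr (h ▸ hrd))
      set w := z ^ (orderOf z / r) with hw
      have hwo : orderOf w = r := orderOf_pow_orderOf_div (orderOf_pos z).ne' hrd
      have hwt : t * w * t⁻¹ = w⁻¹ := by rw [hw, ← conj_pow, hzt, inv_pow]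
      set U := (Subgroup.zpowers w).comap (QuotientGroup.mk' N) with hU
      have hNU : N ≤ U := fun n hn => by
        change QuotientGroup.mk' N n ∈ Subgroup.zpowers w
        rw [show QuotientGroup.mk' N n = 1 from (QuotientGroup.eq_one_iff n).mpr hn]
        exact one_mem _
      obtain ⟨g, hg⟩ := QuotientGroup.mk'_surjective N t
      obtain ⟨n, hn⟩ := hN2.exists_card_eq
      have hUcard : Nat.card U = 2 ^ n * r := by
        have h1 := Subgroup.card_mul_index U
        rw [hU, Subgroup.index_comap_of_surjective _ (QuotientGroup.mk'_surjective N)] at h1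
        have h2 := N.card_mul_index
        rw [Subgroup.index_eq_card, ← (Subgroup.zpowers w).card_mul_index, Nat.card_zpowers, hwo, hn, ← h1] at h2
        rw [← mul_assoc] at h2
        exact (Nat.eq_of_mul_eq_mul_right (Nat.pos_of_ne_zero Subgroup.index_ne_zero_of_finite) h2).symm
      obtain ⟨S⟩ := (inferInstance : Nonempty (Sylow r U))
      have hScard : Nat.card (S : Subgroup U) = r := by
        rw [S.card_eq_multiplicity, hUcard, Nat.factorization_mul (by positivity) hr.ne_zero, Finsupp.add_apply,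
          hr.factorization_self, Nat.factorization_eq_zero_of_not_dvd, zero_add, pow_one]
        intro h2
        exact hr2 ((Nat.prime_dvd_prime_iff_eq hr Nat.prime_two).mp (hr.dvd_of_dvd_pow h2))
      set S' := (S : Subgroup U).map U.subtype with hS'
      have hS'card : Nat.card S' = r := by rw [hS', Subgroup.card_map_of_injective U.subtype_injective, hScard]
      -- some element over `t` normalises `S'`
      have hgU : g ∈ Subgroup.normalizer (U : Set G) := by
        rw [Subgroup.mem_normalizer_iff_conj_image_eq]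
        refine Set.eq_of_subset_of_ncard_le ?_ (le_of_eq (Set.ncard_image_of_injective _ (MulAut.conj g).injective).symm) (Set.toFinite _)
        rintro _ ⟨u, hu, rfl⟩
        obtain ⟨k, hk⟩ := Subgroup.mem_zpowers_iff.mp hu
        change QuotientGroup.mk' N (g * u * g⁻¹) ∈ Subgroup.zpowers w
        rw [map_mul, map_mul, map_inv, hg, ← hk, ← conj_zpow, hwt]
        exact zpow_mem (inv_mem (Subgroup.mem_zpowers w)) k
      obtain ⟨T, hT⟩ : ∃ T : Sylow r U, (T : Subgroup U).map U.subtype = S'.map (MulAut.conj g).toMonoidHom := by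
        have hle : S'.map (MulAut.conj g).toMonoidHom ≤ U := by
          rintro _ ⟨s, hs, rfl⟩
          exact (Subgroup.mem_normalizer_iff.mp hgU s).mp (Subgroup.map_subtype_le _ hs)
        refine ⟨Sylow.ofCard ((S'.map (MulAut.conj g).toMonoidHom).subgroupOf U) ?_, ?_⟩
        · rw [Nat.card_congr (Subgroup.subgroupOfEquivOfLe hle).toEquiv,
            Subgroup.card_map_of_injective (MulAut.conj g).injective, hS'card]
          exact hScard.symm.trans S.card_eq_multiplicity
        · rw [Sylow.coe_ofCard, Subgroup.subgroupOf_map_subtype, inf_eq_left.mpr hle]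
      obtain ⟨u, hu⟩ := MulAction.exists_smul_eq U T S
      -- the element
      haveI : Nontrivial S' := by
        rw [← Finite.one_lt_card_iff_nontrivial, hS'card]; exact hr.one_lt
      obtain ⟨x, hx1⟩ := exists_ne (1 : S')
      have hxo : orderOf (x : G) = r := by
        rw [Subgroup.orderOf_coe]
        exact ((Nat.dvd_prime hr).mp (hS'card ▸ orderOf_dvd_natCard x)).resolve_left
          (fun h1 => hx1 (orderOf_eq_one_iff.mp h1))
      have hinj : ∀ a ∈ S', QuotientGroup.mk' N a = 1 → a = 1 := by
        intro a ha ha1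
        have h1 : orderOf a ∣ Nat.gcd r (2 ^ n) := Nat.dvd_gcd (hS'card ▸ Subgroup.orderOf_dvd_natCard S' ha)
          (hn ▸ Subgroup.orderOf_dvd_natCard N ((QuotientGroup.eq_one_iff a).mp ha1))
        rw [((Nat.coprime_primes hr Nat.prime_two).mpr hr2).pow_right n] at h1
        exact orderOf_eq_one_iff.mp (Nat.dvd_one.mp h1)
      set y := (u : G) * g with hy
      have hyS : ∀ a ∈ S', y * a * y⁻¹ ∈ S' := by
        intro a ha
        obtain ⟨b, hb, hbe⟩ : g * a * g⁻¹ ∈ (T : Subgroup U).map U.subtype := hT ▸ ⟨a, ha, rfl⟩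
        refine ⟨u * b * u⁻¹, ?_, ?_⟩
        · rw [← hu, Sylow.coe_subgroup_smul]
          exact ⟨b, hb, by simp⟩
        · simp only [Subgroup.coe_subtype, Subgroup.coe_mul, Subgroup.coe_inv] at hbe ⊢
          rw [hbe, hy]; group
      have hxU : (x : G) ∈ U := Subgroup.map_subtype_le _ x.2
      have hinv : QuotientGroup.mk' N (y * x * y⁻¹ * x) = 1 := by
        obtain ⟨k, hk⟩ := Subgroup.mem_zpowers_iff.mp hxU
        obtain ⟨j, hj⟩ := Subgroup.mem_zpowers_iff.mp u.2
        simp only [hy, map_mul, map_inv, hg]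
        rw [← hk, ← hj]
        have e : t * w ^ k * t⁻¹ = (w ^ k)⁻¹ := by rw [← conj_zpow, hwt, inv_zpow]
        calc w ^ j * t * w ^ k * (w ^ j * t)⁻¹ * w ^ k = w ^ j * (t * w ^ k * t⁻¹) * (w ^ j)⁻¹ * w ^ k := by group
          _ = 1 := by rw [e]; group
      have h1 := hinj _ (mul_mem (hyS x x.2) x.2) hinv
      exact h x (fun e => hx1 (Subtype.ext e)) (by
        rw [hxo]; exact hr.odd_of_ne_two hr2) (isConj_iff.mpr ⟨y, eq_inv_of_mul_eq_one_left h1⟩)
    -- so `N` is the Sylow subgroup
    have hNP : N ≤ (P : Subgroup G) := hN2.le_sylow_of_normal P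
    have h1 := Subgroup.relIndex_mul_index hNP
    have h2 : N.relIndex (P : Subgroup G) = 1 := by
      obtain ⟨n, hn⟩ := P.isPGroup'.exists_card_eq
      have hd : N.relIndex (P : Subgroup G) ∣ 2 ^ n := hn ▸ Subgroup.relIndex_dvd_card _ _
      obtain ⟨j, -, hj⟩ := (Nat.dvd_prime_pow Nat.prime_two).mp hd
      rcases Nat.eq_zero_or_pos j with rfl | hj0
      · simpa using hj
      · exact absurd (h1 ▸ (hj ▸ dvd_pow_self 2 (by omega)).mul_right _) hodd
    rw [le_antisymm (Subgroup.relIndex_eq_one.mp h2) hNP]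
    exact hN
  · intro hP x hx1 hodd hconj
    haveI := hP
    obtain ⟨g, hg⟩ := isConj_iff.mp hconj
    -- in the odd-order quotient a real element is trivial
    have hcard : Odd (Nat.card (G ⧸ (P : Subgroup G))) := by
      rw [← Subgroup.index_eq_card]
      exact Nat.not_even_iff_odd.mp fun h => P.not_dvd_index (even_iff_two_dvd.mp h)
    set X : G ⧸ (P : Subgroup G) := (x : G ⧸ (P : Subgroup G)) with hX
    set Y : G ⧸ (P : Subgroup G) := (g : G ⧸ (P : Subgroup G)) with hY
    have hYX : Y * X * Y⁻¹ = X⁻¹ := by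
      rw [hX, hY, ← QuotientGroup.mk_inv, ← QuotientGroup.mk_mul, ← QuotientGroup.mk_mul, hg, QuotientGroup.mk_inv]
    have hit : ∀ j : ℕ, Y ^ (2 * j) * X * (Y ^ (2 * j))⁻¹ = X := by
      intro j
      induction j with
      | zero => simp
      | succ j ih =>
        calc Y ^ (2 * (j + 1)) * X * (Y ^ (2 * (j + 1)))⁻¹
            = Y * (Y * (Y ^ (2 * j) * X * (Y ^ (2 * j))⁻¹) * Y⁻¹) * Y⁻¹ := by
              rw [show 2 * (j + 1) = 1 + (1 + 2 * j) by omega, pow_add, pow_add, pow_one]; group
          _ = X := by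
              rw [ih, hYX]
              calc Y * X⁻¹ * Y⁻¹ = (Y * X * Y⁻¹)⁻¹ := by group
                _ = X := by rw [hYX, inv_inv]
    obtain ⟨j, hj⟩ := hcard
    have hYo : Y ^ (2 * j + 1) = 1 := by rw [← hj]; exact pow_card_eq_one'
    have hXX : X⁻¹ = X := by
      have h1 := hit (j + 1)
      rw [show 2 * (j + 1) = (2 * j + 1) + 1 by omega, pow_succ, hYo, one_mul] at h1
      rw [← hYX, h1]
    have hX1 : X = 1 := by
      rw [← orderOf_eq_one_iff]
      have h3 : orderOf X ∣ Nat.gcd 2 (2 * j + 1) := by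
        refine Nat.dvd_gcd ?_ (hj ▸ orderOf_dvd_natCard X)
        rw [orderOf_dvd_iff_pow_eq_one, sq]
        nth_rewrite 1 [← hXX]
        exact inv_mul_cancel X
      rw [Nat.coprime_two_left.mpr (odd_two_mul_add_one j)] at h3
      exact Nat.dvd_one.mp h3
    obtain ⟨k, hk⟩ := P.isPGroup'.exists_orderOf_eq_pow ⟨x, (QuotientGroup.eq_one_iff x).mp hX1⟩
    rw [Subgroup.orderOf_mk] at hk
    rcases Nat.eq_zero_or_pos k with rfl | hk0
    · exact hx1 (orderOf_eq_one_iff.mp (by simpa using hk))
    · exact Nat.not_even_iff_odd.mpr hodd (even_iff_two_dvd.mpr (hk ▸ dvd_pow_self 2 (by omega)))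


end Cfsg.Agent.S3861
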