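import Cfsg.Statements.S3862
import Cfsg.Agent.Lib.PNilpotent.AbelianHall
-- import your own Cfsg.Agent.* helpers here

set_option autoImplicit false
open Cfsg

namespace Cfsg.Agent.S3862

/-- If every 2-element of the finite group G that is conjugate to its inverse lies in the centre of G, then G has a normal 2-complement. -/
theorem result {G : Type*} [Group G] [Finite G] (h : ∀ x : G, (∃ j : ℕ, orderOf x = 2 ^ j) → IsConj x x⁻¹ → x ∈ Subgroup.center G) : Cfsg.HasNormalPComplement 2 G := by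
  obtain ⟨P⟩ := (inferInstance : Nonempty (Sylow 2 G))
  rw [CfsgLib.PNilpotent.hasNormalPComplement_iff P]
  refine CfsgLib.PNilpotent.exists_normal_complement ?_ P
  intro Q hQ y hy hyo
  rw [Subgroup.mem_centralizer_iff]
  intro v hv
  -- elements are fixed, by induction on the order
  obtain ⟨n, hn⟩ := hQ.exists_orderOf_eq_pow ⟨v, hv⟩
  rw [Subgroup.orderOf_mk] at hn
  induction n using Nat.strong_induction_on generalizing v with
  | _ n ih =>
  rcases Nat.eq_zero_or_pos n with rfl | hn0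
  · rw [pow_zero, orderOf_eq_one_iff] at hn
    subst hn
    simp
  have hsq : v ^ 2 * y = y * v ^ 2 := by
    refine ih (n - 1) (by omega) (v ^ 2) (Q.pow_mem hv 2) ?_
    rw [orderOf_pow_of_dvd two_ne_zero (hn ▸ dvd_pow_self 2 (by omega)), hn]
    conv_lhs => rw [show n = n - 1 + 1 by omega, pow_succ]
    omega
  set u := y * v * y⁻¹ with hu
  have huQ : u ∈ Q := (Subgroup.mem_normalizer_iff.mp hy v).mp hv
  have husq : u * u = v * v := by
    rw [sq] at hsq
    calc u * u = y * (v * v) * y⁻¹ := by rw [hu]; group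
      _ = (v * v * y) * y⁻¹ := by rw [← hsq]
      _ = v * v := by group
  -- `v * u⁻¹` is a real `2`-element
  set w := v * u⁻¹ with hw
  have hwQ : w ∈ Q := Q.mul_mem hv (Q.inv_mem huQ)
  have hwreal : IsConj w w⁻¹ := by
    refine isConj_iff.mpr ⟨v⁻¹, ?_⟩
    calc v⁻¹ * w * v⁻¹⁻¹ = u⁻¹ * v := by rw [hw]; group
      _ = u⁻¹ * (u * u) * v⁻¹ := by rw [husq]; group
      _ = w⁻¹ := by rw [hw]; group
  obtain ⟨m, hm⟩ := hQ.exists_orderOf_eq_pow ⟨w, hwQ⟩
  rw [Subgroup.orderOf_mk] at hm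
  have hwc := h w ⟨m, hm⟩ hwreal
  have hiter : ∀ k : ℕ, y ^ k * v * (y ^ k)⁻¹ = w⁻¹ ^ k * v := by
    intro k
    induction k with
    | zero => simp
    | succ k ihk =>
      have hcm : y * w⁻¹ ^ k * y⁻¹ = w⁻¹ ^ k := by
        rw [Subgroup.mem_center_iff.mp (pow_mem (inv_mem hwc) k) y, mul_inv_cancel_right]
      have hv1 : y * v * y⁻¹ = w⁻¹ * v := by
        have hcv : v * w⁻¹ = w⁻¹ * v := Subgroup.mem_center_iff.mp (inv_mem hwc) v
        have h1 : w * u = v := by rw [hw, inv_mul_cancel_right]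
        calc y * v * y⁻¹ = u := hu.symm
          _ = w⁻¹ * v := by rw [eq_inv_mul_iff_mul_eq]; exact h1
      calc y ^ (k + 1) * v * (y ^ (k + 1))⁻¹ = y * (y ^ k * v * (y ^ k)⁻¹) * y⁻¹ := by
            rw [pow_succ']; group
        _ = (y * w⁻¹ ^ k * y⁻¹) * (y * v * y⁻¹) := by rw [ihk]; group
        _ = w⁻¹ ^ k * (w⁻¹ * v) := by rw [hcm, hv1]
        _ = w⁻¹ ^ (k + 1) * v := by rw [pow_succ, mul_assoc]
  have h5 := hiter (orderOf y)
  rw [pow_orderOf_eq_one, one_mul, inv_one, mul_one, right_eq_mul] at h5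
  have h6 : orderOf w⁻¹ ∣ Nat.gcd (2 ^ m) (orderOf y) :=
    Nat.dvd_gcd ((orderOf_inv w).trans hm).dvd (orderOf_dvd_of_pow_eq_one h5)
  rw [Nat.Coprime.pow_left m hyo.symm] at h6
  have hw1 := orderOf_eq_one_iff.mp (Nat.dvd_one.mp h6)
  rw [inv_eq_one, hw, mul_inv_eq_one] at hw1
  exact eq_mul_inv_iff_mul_eq.mp hw1


end Cfsg.Agent.S3862
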