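import Cfsg.Statements.S3863
import Mathlib
-- import your own Cfsg.Agent.* helpers here

set_option autoImplicit false
open Cfsg

namespace Cfsg.Agent.S3863

/-- Let x be an element of the finite group G that is conjugate to its inverse. Then some 2-element conjugates x to its inverse; if the conjugacy class of x has odd size then x ^ 2 = 1; and x lies in, and is conjugate to its inverse inside, every normal subgroup of odd index. -/
theorem result {G : Type*} [Group G] [Finite G] (x : G) (hx : IsConj x x⁻¹) : (∃ t : G, (∃ j : ℕ, orderOf t = 2 ^ j) ∧ t * x * t⁻¹ = x⁻¹) ∧ (Odd (Subgroup.centralizer ({x} : Set G)).index → x ^ 2 = 1) ∧ ∀ (N : Subgroup G) [N.Normal], Odd N.index → ∃ hxN : x ∈ N, IsConj (⟨x, hxN⟩ : N) (⟨x, hxN⟩ : N)⁻¹ := by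
  obtain ⟨g, hg⟩ := isConj_iff.mp hx
  obtain ⟨k, m, hm, hkm⟩ := Nat.exists_eq_pow_mul_and_not_dvd (orderOf_pos g).ne' 2 (by decide)
  have hmodd : Odd m := Nat.not_even_iff_odd.mp (fun h => hm (even_iff_two_dvd.mp h))
  have hiter : ∀ n : ℕ, Odd n → g ^ n * x * (g ^ n)⁻¹ = x⁻¹ := by
    rintro n ⟨j, rfl⟩
    induction j with
    | zero => simpa using hg
    | succ j ih =>
      have h2 : g * x⁻¹ * g⁻¹ = x := by
        calc g * x⁻¹ * g⁻¹ = (g * x * g⁻¹)⁻¹ := by group
          _ = x := by rw [hg, inv_inv]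
      calc g ^ (2 * (j + 1) + 1) * x * (g ^ (2 * (j + 1) + 1))⁻¹
          = g * (g * (g ^ (2 * j + 1) * x * (g ^ (2 * j + 1))⁻¹) * g⁻¹) * g⁻¹ := by
            rw [show 2 * (j + 1) + 1 = 1 + (1 + (2 * j + 1)) by omega, pow_add g 1, pow_add g 1, pow_one]
            group
        _ = x⁻¹ := by rw [ih, h2, hg]
  have hg2 : ∃ t : G, (∃ j : ℕ, orderOf t = 2 ^ j) ∧ t * x * t⁻¹ = x⁻¹ := by
    refine ⟨g ^ m, ⟨k, ?_⟩, hiter m hmodd⟩
    rw [orderOf_pow_of_dvd (by rintro rfl; simp at hm) (hkm ▸ dvd_mul_left m _), hkm,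
      Nat.mul_div_cancel _ (Nat.pos_of_ne_zero (by rintro rfl; simp at hm))]
  refine ⟨hg2, ?_, ?_⟩
  · intro hodd
    obtain ⟨t, ⟨j, htj⟩, ht⟩ := hg2
    set C := Subgroup.centralizer ({x} : Set G) with hC
    have hmem : ∀ y : G, y ∈ C ↔ y * x * y⁻¹ = x := by
      intro y
      rw [hC, Subgroup.mem_centralizer_iff]
      simp only [Set.mem_singleton_iff, forall_eq, mul_inv_eq_iff_eq_mul]
      exact eq_comm
    have htinv : t * x⁻¹ * t⁻¹ = x := by
      calc t * x⁻¹ * t⁻¹ = (t * x * t⁻¹)⁻¹ := by group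
        _ = x := by rw [ht, inv_inv]
    -- the extended centraliser
    let D : Subgroup G :=
      { carrier := {y | y * x * y⁻¹ = x ∨ y * x * y⁻¹ = x⁻¹}
        one_mem' := Or.inl (by simp)
        mul_mem' := fun {a b} ha hb => by
          have key : a * b * x * (a * b)⁻¹ = a * (b * x * b⁻¹) * a⁻¹ := by group
          have key2 : a * x⁻¹ * a⁻¹ = (a * x * a⁻¹)⁻¹ := by group
          rcases ha with ha | ha <;> rcases hb with hb | hb
          · left; rw [key, hb, ha]
          · right; rw [key, hb, key2, ha]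
          · right; rw [key, hb, ha]
          · left; rw [key, hb, key2, ha, inv_inv]
        inv_mem' := fun {a} ha => by
          rcases ha with ha | ha
          · left
            calc a⁻¹ * x * a⁻¹⁻¹ = a⁻¹ * (a * x * a⁻¹) * a := by rw [ha]; group
              _ = x := by group
          · right
            calc a⁻¹ * x * a⁻¹⁻¹ = (a⁻¹ * (x⁻¹) * a)⁻¹ := by group
              _ = (a⁻¹ * (a * x * a⁻¹) * a)⁻¹ := by rw [ha]
              _ = x⁻¹ := by group }
    have hCD : C ≤ D := fun y hy => Or.inl ((hmem y).mp hy)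
    by_contra hne
    have htC : t ∉ C := by
      intro h
      apply hne
      have h1 := (hmem t).mp h
      rw [ht] at h1
      rw [sq]
      nth_rewrite 1 [← h1]
      exact inv_mul_cancel x
    have hidx : (C.subgroupOf D).index = 2 := by
      rw [Subgroup.index_eq_two_iff]
      refine ⟨⟨t, Or.inr ht⟩, fun b => ?_⟩
      simp only [Subgroup.mem_subgroupOf, Subgroup.coe_mul, hmem]
      have key : (b : G) * t * x * ((b : G) * t)⁻¹ = ((b : G) * x * (b : G)⁻¹)⁻¹ := by
        calc (b : G) * t * x * ((b : G) * t)⁻¹ = (b : G) * (t * x * t⁻¹) * (b : G)⁻¹ := by group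
          _ = _ := by rw [ht]; group
      have hx2 : x⁻¹ ≠ x := fun h => hne (by rw [sq]; nth_rewrite 1 [← h]; exact inv_mul_cancel x)
      rcases b.2 with hb | hb
      · right
        refine ⟨hb, ?_⟩
        rw [key, hb]
        exact hx2
      · left
        refine ⟨?_, ?_⟩
        · rw [key, hb, inv_inv]
        · rw [hb]; exact hx2
    have h2 : 2 ∣ C.index := by
      rw [← Subgroup.relIndex_mul_index hCD, show C.relIndex D = 2 from hidx]
      exact dvd_mul_right 2 _
    exact Nat.not_even_iff_odd.mpr hodd (even_iff_two_dvd.mpr h2)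
  · intro N hN hodd
    obtain ⟨t, ⟨j, htj⟩, ht⟩ := hg2
    -- the images of `t` and `x` in the quotient of odd order
    have hcard : Odd (Nat.card (G ⧸ N)) := by rwa [← Subgroup.index_eq_card]
    have htN : t ∈ N := by
      rw [← QuotientGroup.eq_one_iff, ← orderOf_eq_one_iff]
      have h1 : orderOf (t : G ⧸ N) ∣ Nat.gcd (2 ^ j) (Nat.card (G ⧸ N)) :=
        Nat.dvd_gcd (htj ▸ orderOf_map_dvd (QuotientGroup.mk' N) t) (orderOf_dvd_natCard _)
      rw [Nat.Coprime.pow_left j (Nat.coprime_two_left.mpr hcard)] at h1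
      exact Nat.dvd_one.mp h1
    have hxN : x ∈ N := by
      have h1 : (x : G ⧸ N) = (x : G ⧸ N)⁻¹ := by
        have h2 : (((t * x * t⁻¹ : G)) : G ⧸ N) = (((x⁻¹ : G)) : G ⧸ N) := by rw [ht]
        rwa [QuotientGroup.mk_mul, QuotientGroup.mk_mul, QuotientGroup.mk_inv, QuotientGroup.mk_inv,
          (QuotientGroup.eq_one_iff t).mpr htN, one_mul, inv_one, mul_one] at h2
      rw [← QuotientGroup.eq_one_iff, ← orderOf_eq_one_iff]
      have h3 : orderOf (x : G ⧸ N) ∣ Nat.gcd 2 (Nat.card (G ⧸ N)) := by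
        refine Nat.dvd_gcd ?_ (orderOf_dvd_natCard _)
        rw [orderOf_dvd_iff_pow_eq_one, sq]
        nth_rewrite 1 [h1]
        exact inv_mul_cancel _
      rw [Nat.coprime_two_left.mpr hcard] at h3
      exact Nat.dvd_one.mp h3
    exact ⟨hxN, isConj_iff.mpr ⟨⟨t, htN⟩, Subtype.ext ht⟩⟩


end Cfsg.Agent.S3863
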