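import Cfsg.Statements.S3864
import Cfsg.Agent.Lib.PNilpotent.DihedralFusion
-- import your own Cfsg.Agent.* helpers here

set_option autoImplicit false
open Cfsg

namespace Cfsg.Agent.S3864

/-- Let G be a finite group whose Sylow 2-subgroups are dihedral of order 2 ^ n with n ≥ 3, and count the conjugacy classes of involutions of G. Then exactly one of the following holds: there is one class of involutions and no normal subgroup of index 2; there are two classes of involutions, a normal subgroup of index 2 and none of index 4; there are three classes of involutions and G has a normal 2-complement. -/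
theorem result {G : Type*} [Group G] [Finite G] (P : Sylow 2 G) (n : ℕ) (hn : 3 ≤ n) (hdih : Nonempty (↥(P : Subgroup G) ≃* DihedralGroup (2 ^ (n - 1)))) : (Nat.card {C : ConjClasses G // ∃ g : G, ConjClasses.mk g = C ∧ orderOf g = 2} = 1 ∧ ∀ N : Subgroup G, N.Normal → N.index ≠ 2) ∨ (Nat.card {C : ConjClasses G // ∃ g : G, ConjClasses.mk g = C ∧ orderOf g = 2} = 2 ∧ (∃ N : Subgroup G, N.Normal ∧ N.index = 2) ∧ ∀ N : Subgroup G, N.Normal → N.index ≠ 4) ∨ (Nat.card {C : ConjClasses G // ∃ g : G, ConjClasses.mk g = C ∧ orderOf g = 2} = 3 ∧ Cfsg.HasNormalPComplement 2 G) := by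
  classical
  obtain ⟨e⟩ := hdih
  set m := 2 ^ (n - 1) with hm
  set h := 2 ^ (n - 2) with hh'
  haveI : NeZero m := ⟨(Nat.two_pow_pos _).ne'⟩
  have hh : m = 2 * h := by rw [hm, hh', show n - 1 = n - 2 + 1 by omega, pow_succ']
  have h2h : 2 ∣ h := dvd_pow_self 2 (by omega)
  have hm2 : 2 ∣ m := ⟨h, hh⟩
  set ι₀ : DihedralGroup m →* G := (P : Subgroup G).subtype.comp e.symm.toMonoidHom with hι₀
  have hι₀i : Function.Injective ι₀ := (P : Subgroup G).subtype_injective.comp e.symm.injective
  have hι₀r : (P : Subgroup G) = ι₀.range := by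
    rw [hι₀, MonoidHom.range_comp, MonoidHom.range_eq_top.mpr e.symm.surjective, ← MonoidHom.range_eq_map,
      Subgroup.range_subtype]
  have hzne : (DihedralGroup.r (h : ZMod m) : DihedralGroup m) ≠ 1 := by
    rw [DihedralGroup.one_def]
    intro hc
    injection hc with hc
    rw [ZMod.natCast_eq_zero_iff] at hc
    have hpos : 0 < h := Nat.two_pow_pos _
    have := Nat.le_of_dvd hpos hc
    omega
  have hz2 : (DihedralGroup.r (h : ZMod m) : DihedralGroup m) ^ 2 = 1 := by
    rw [pow_two, DihedralGroup.r_mul_r, ← Nat.cast_add, ← two_mul, ← hh, ZMod.natCast_self]; rfl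
  have hord : ∀ (ι : DihedralGroup m →* G), Function.Injective ι → ∀ x : DihedralGroup m, x ^ 2 = 1 → x ≠ 1 →
      orderOf (ι x) = 2 := fun ι hι x hx hx1 => by
    rw [orderOf_injective ι hι]
    exact orderOf_eq_prime hx hx1
  have hclasses : ∀ (ι : DihedralGroup m →* G), Function.Injective ι → (P : Subgroup G) = ι.range →
      ∀ g : G, orderOf g = 2 → IsConj (ι (DihedralGroup.r (h : ZMod m))) g ∨ IsConj (ι (DihedralGroup.sr 0)) g ∨
        IsConj (ι (DihedralGroup.sr 1)) g := by
    intro ι hι hr g hg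
    haveI : Fact (Nat.Prime 2) := ⟨Nat.prime_two⟩
    obtain ⟨Q, hQ⟩ := (IsPGroup.of_card (p := 2) (n := 1) (by rw [Nat.card_zpowers, hg, pow_one]) :
      IsPGroup 2 (Subgroup.zpowers g)).exists_le_sylow
    obtain ⟨y, hy⟩ := MulAction.exists_smul_eq G Q P
    have h1 : y * g * y⁻¹ ∈ ι.range := by
      rw [← hr, ← hy]
      exact Subgroup.mem_map_of_mem _ (hQ (Subgroup.mem_zpowers g))
    obtain ⟨x, hx⟩ := h1
    have hx2 : x ^ 2 = 1 := hι (by rw [map_pow, hx, conj_pow, ← hg, pow_orderOf_eq_one, mul_one, mul_inv_cancel, map_one])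
    have hx1 : x ≠ 1 := fun h1 => by
      rw [h1, map_one, eq_comm, conj_eq_one_iff] at hx
      rw [hx, orderOf_one] at hg; omega
    have hc : IsConj g (ι x) := isConj_iff.mpr ⟨y, hx.symm⟩
    rcases CfsgLib.PNilpotent.conj_cases (ι := ι) hm2 hh hx2 hx1 with hh1 | hh1 | hh1
    · exact Or.inl (hh1.trans hc.symm)
    · exact Or.inr (Or.inl (hh1.trans hc.symm))
    · exact Or.inr (Or.inr (hh1.trans hc.symm))
  have hset : ∀ (ι : DihedralGroup m →* G), Function.Injective ι → (P : Subgroup G) = ι.range →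
      {C : ConjClasses G | ∃ g : G, ConjClasses.mk g = C ∧ orderOf g = 2} =
      {ConjClasses.mk (ι (DihedralGroup.r (h : ZMod m))), ConjClasses.mk (ι (DihedralGroup.sr 0)),
        ConjClasses.mk (ι (DihedralGroup.sr 1))} := by
    intro ι hι hr
    ext C
    simp only [Set.mem_ofPred_eq, Set.mem_insert_iff, Set.mem_singleton_iff]
    constructor
    · rintro ⟨g, rfl, hg⟩
      simp only [ConjClasses.mk_eq_mk_iff_isConj]
      rcases hclasses ι hι hr g hg with h1 | h1 | h1
      · exact Or.inl h1.symm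
      · exact Or.inr (Or.inl h1.symm)
      · exact Or.inr (Or.inr h1.symm)
    · have hs : ∀ i : ZMod m, orderOf (ι (DihedralGroup.sr i)) = 2 := fun i =>
        hord ι hι _ (by rw [pow_two, DihedralGroup.sr_mul_self]) (CfsgLib.PNilpotent.sr_ne_one i)
      rintro (rfl | rfl | rfl)
      · exact ⟨_, rfl, hord ι hι _ hz2 hzne⟩
      · exact ⟨_, rfl, hs 0⟩
      · exact ⟨_, rfl, hs 1⟩
  have hPodd : ∀ (ι : DihedralGroup m →* G), (P : Subgroup G) = ι.range → Odd ι.range.index := fun ι hr => by
    haveI : Fact (Nat.Prime 2) := ⟨Nat.prime_two⟩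
    exact Nat.odd_iff.mpr (Nat.two_dvd_ne_zero.mp (hr ▸ P.not_dvd_index))
  have htwo : ∀ (ι : DihedralGroup m →* G), Function.Injective ι → (P : Subgroup G) = ι.range →
      IsConj (ι (DihedralGroup.r (h : ZMod m))) (ι (DihedralGroup.sr 0)) →
      ¬ IsConj (ι (DihedralGroup.r (h : ZMod m))) (ι (DihedralGroup.sr 1)) →
      Nat.card {C : ConjClasses G // ∃ g : G, ConjClasses.mk g = C ∧ orderOf g = 2} = 2 ∧
        (∃ N : Subgroup G, N.Normal ∧ N.index = 2) ∧ ∀ N : Subgroup G, N.Normal → N.index ≠ 4 := by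
    intro ι hι hr ha hb
    refine ⟨?_, CfsgLib.PNilpotent.exists_index_two_of_not_conj hι (hPodd ι hr) hm2 hh ha hb, fun N hN h4 => ?_⟩
    · rw [← Set.coe_ofPred, Nat.card_coe_set_eq, hset ι hι hr, ConjClasses.mk_eq_mk_iff_isConj.mpr ha,
        Set.insert_eq_of_mem (Set.mem_insert _ _), Set.ncard_pair]
      rw [Ne, ConjClasses.mk_eq_mk_iff_isConj]
      exact fun h1 => hb (ha.trans h1)
    · have hz := CfsgLib.PNilpotent.central_mem (ι := ι) N (Or.inr h4) h2h
      have ha' : ι (DihedralGroup.sr 0) ∈ N := by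
        obtain ⟨y, hy⟩ := isConj_iff.mp ha
        rw [← hy]; exact hN.conj_mem _ hz y
      set π := (QuotientGroup.mk' N).comp ι
      have hπ : ∀ x, π x = 1 ∨ π x = π (DihedralGroup.sr 1) := by
        have h0 : π (DihedralGroup.sr 0) = 1 := (QuotientGroup.eq_one_iff _).mpr ha'
        have hr1 : π (DihedralGroup.r 1) = π (DihedralGroup.sr 1) := by
          rw [show (DihedralGroup.r 1 : DihedralGroup m) = DihedralGroup.sr 0 * DihedralGroup.sr 1 by
            rw [DihedralGroup.sr_mul_sr, sub_zero], map_mul, h0, one_mul]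
        have hb1 : π (DihedralGroup.sr 1) * π (DihedralGroup.sr 1) = 1 := by
          rw [← map_mul, DihedralGroup.sr_mul_self, map_one]
        have hpow : ∀ k : ℕ, π (DihedralGroup.r (k : ZMod m)) = 1 ∨ π (DihedralGroup.r (k : ZMod m)) = π (DihedralGroup.sr 1) := by
          intro k
          rw [← DihedralGroup.r_one_pow, map_pow, hr1]
          induction k with
          | zero => exact Or.inl (pow_zero _)
          | succ k ih =>
            rw [pow_succ]
            rcases ih with ih | ih <;> rw [ih]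
            · exact Or.inr (one_mul _)
            · exact Or.inl hb1
        rintro (i | i)
        · rw [← ZMod.natCast_zmod_val i]; exact hpow _
        · rw [show (DihedralGroup.sr i : DihedralGroup m) = DihedralGroup.sr 0 * DihedralGroup.r i by
            rw [DihedralGroup.sr_mul_r, zero_add], map_mul, h0, one_mul, ← ZMod.natCast_zmod_val i]
          exact hpow _
      have hsur : Function.Surjective π := by
        rw [← MonoidHom.range_eq_top, MonoidHom.range_comp, ← hr]
        rw [← Subgroup.index_eq_one]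
        have h1 := Subgroup.index_map_dvd (P : Subgroup G) (QuotientGroup.mk'_surjective N)
        have h2 := Subgroup.index_dvd_card ((P : Subgroup G).map (QuotientGroup.mk' N))
        rw [← Subgroup.index_eq_card, h4] at h2
        have h3 : Odd (P : Subgroup G).index := hr ▸ hPodd ι hr
        have h4' := Odd.of_dvd_nat h3 h1
        have := Nat.le_of_dvd (by norm_num) h2
        interval_cases ((P : Subgroup G).map (QuotientGroup.mk' N)).index <;> simp_all (config := { decide := true })
      have hle : Nat.card (G ⧸ N) ≤ 2 := by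
        rw [← Set.ncard_univ]
        refine (Set.ncard_le_ncard (t := {1, π (DihedralGroup.sr 1)}) (fun y _ => ?_) (Set.toFinite _)).trans
          ((Set.ncard_insert_le _ _).trans (by rw [Set.ncard_singleton]))
        obtain ⟨x, rfl⟩ := hsur y
        exact hπ x
      rw [← Subgroup.index_eq_card, h4] at hle
      omega
  by_cases ha : IsConj (ι₀ (DihedralGroup.r (h : ZMod m))) (ι₀ (DihedralGroup.sr 0))
  · by_cases hb : IsConj (ι₀ (DihedralGroup.r (h : ZMod m))) (ι₀ (DihedralGroup.sr 1))
    · refine Or.inl ⟨?_, fun N hN h2 => ?_⟩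
      · rw [← Set.coe_ofPred, Nat.card_coe_set_eq, hset ι₀ hι₀i hι₀r, ← ConjClasses.mk_eq_mk_iff_isConj.mpr ha,
          ← ConjClasses.mk_eq_mk_iff_isConj.mpr hb]
        simp
      · have hz := CfsgLib.PNilpotent.central_mem (ι := ι₀) N (Or.inl h2) h2h
        have hmem : ∀ x, IsConj (ι₀ (DihedralGroup.r (h : ZMod m))) (ι₀ x) → ι₀ x ∈ N := fun x hx => by
          obtain ⟨y, hy⟩ := isConj_iff.mp hx
          rw [← hy]; exact hN.conj_mem _ hz y
        have hle : (P : Subgroup G) ≤ N := by
          rw [hι₀r]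
          rintro _ ⟨x, rfl⟩
          have hr1 : ι₀ (DihedralGroup.r 1) ∈ N := by
            rw [show (DihedralGroup.r 1 : DihedralGroup m) = DihedralGroup.sr 0 * DihedralGroup.sr 1 by
              rw [DihedralGroup.sr_mul_sr, sub_zero], map_mul]
            exact mul_mem (hmem _ ha) (hmem _ hb)
          rcases x with i | i
          · rw [← ZMod.natCast_zmod_val i, ← DihedralGroup.r_one_pow, map_pow]; exact pow_mem hr1 _
          · rw [show (DihedralGroup.sr i : DihedralGroup m) = DihedralGroup.sr 0 * DihedralGroup.r i by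
              rw [DihedralGroup.sr_mul_r, zero_add], map_mul, ← ZMod.natCast_zmod_val i,
              ← DihedralGroup.r_one_pow, map_pow]
            exact mul_mem (hmem _ ha) (pow_mem hr1 _)
        have h3 := Odd.of_dvd_nat (hι₀r ▸ hPodd ι₀ hι₀r) (Subgroup.index_dvd_of_le hle)
        rw [h2] at h3
        exact absurd h3 (by decide)
    · exact Or.inr (Or.inl (htwo ι₀ hι₀i hι₀r ha hb))
  · by_cases hb : IsConj (ι₀ (DihedralGroup.r (h : ZMod m))) (ι₀ (DihedralGroup.sr 1))
    · refine Or.inr (Or.inl (htwo (ι₀.comp (CfsgLib.PNilpotent.dihShift m)) ?_ ?_ ?_ ?_))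
      · exact hι₀i.comp (CfsgLib.PNilpotent.dihShift_bijective m).injective
      · rw [MonoidHom.range_comp, MonoidHom.range_eq_top.mpr (CfsgLib.PNilpotent.dihShift_bijective m).surjective,
          ← MonoidHom.range_eq_map, hι₀r]
      · simpa using hb
      · intro hc
        refine ha (hc.trans ?_)
        have h2' : ZMod.castHom hm2 (ZMod 2) ((1 : ZMod m) + 1) = 0 := by rw [map_add, map_one]; decide
        simpa using (ι₀.map_isConj (CfsgLib.PNilpotent.sr_even_conj hm2 h2')).symm
    · obtain ⟨hnpc, hab⟩ := CfsgLib.PNilpotent.hasNormalPComplement_of_not_conj hι₀i P hι₀r hm2 hh ha hb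
      refine Or.inr (Or.inr ⟨?_, hnpc⟩)
      rw [← Set.coe_ofPred, Nat.card_coe_set_eq, hset ι₀ hι₀i hι₀r, Set.ncard_eq_three]
      exact ⟨_, _, _, fun h1 => ha (ConjClasses.mk_eq_mk_iff_isConj.mp h1),
        fun h1 => hb (ConjClasses.mk_eq_mk_iff_isConj.mp h1),
        fun h1 => hab (ConjClasses.mk_eq_mk_iff_isConj.mp h1), rfl⟩


end Cfsg.Agent.S3864
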