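import Cfsg.Statements.S3865
import Cfsg.Agent.Lib.MaxClassUniform.Quasisimple
-- import your own Cfsg.Agent.* helpers here

set_option autoImplicit false
open Cfsg

open Subgroup CfsgLib.MaxClassUniform
open Cfsg.Agent.S3806 (MaxClass)
open scoped commutatorElement

namespace Cfsg.Agent.S3865

theorem subgroupOf_inf {G : Type*} [Group G] (Q N : Subgroup G) :
    (Q ⊓ N).subgroupOf Q = N.subgroupOf Q := by
  ext x
  simp [mem_subgroupOf]

theorem exists_of_big {G : Type*} [Group G] [Finite G] (p : ℕ) [Fact p.Prime] (P : Sylow p G) (n : ℕ)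
    (h : MaxClass p n (P : Subgroup G))
    (hres : ∀ N : Subgroup G, N.Normal → (N.index).Coprime p → N = ⊤)
    (hbig : ∃ N : Subgroup G, N.Normal ∧ N ≠ ⊤ ∧ p ^ 2 ≤ Nat.card ((P : Subgroup G) ⊓ N : Subgroup G)) :
    ∃ x ∈ (P : Subgroup G), (Nat.card (Subgroup.centralizer ({x} : Set G))).factorization p = 2 := by
  obtain ⟨N, hN, hNtop, hcard⟩ := hbig
  have hp : p.Prime := Fact.out
  have := h.three
  set Q := (P : Subgroup G)
  set D := N.subgroupOf Q with hD
  have hDtop : D ≠ ⊤ := by
    intro e
    refine hNtop (hres N hN ?_)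
    exact Nat.Coprime.coprime_dvd_left (index_dvd_of_le (subgroupOf_eq_top.1 e))
      ((Nat.Prime.coprime_iff_not_dvd hp).2 P.not_dvd_index).symm
  have hcl : Group.nilpotencyClass Q = n - 1 := by
    have := h.nilpotent
    refine le_antisymm (Subgroup.lowerCentralSeries_eq_bot_iff_nilpotencyClass_le.1 h.top) ?_
    by_contra hlt
    exact h.ne (Subgroup.lowerCentralSeries_eq_bot_iff_nilpotencyClass_le.2 (by omega))
  obtain ⟨r, hr⟩ := (IsPGroup.of_card h.card).index D
  have hcardD : Nat.card D = Nat.card (Q ⊓ N : Subgroup G) := by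
    rw [hD, ← subgroupOf_inf Q N]
    exact Nat.card_congr (subgroupOfEquivOfLe inf_le_left).toEquiv
  rcases Nat.lt_or_ge r 2 with hr2 | hr2
  · obtain ⟨s, hs, hsD⟩ := exists_uniform h D hDtop
    refine ⟨s, s.2, factorization_centralizer h s hs (j := n - 1) (by omega) le_rfl
      (Or.inr ⟨N, hN, fun e => hsD e, ?_⟩) ⊥ ?_⟩
    · intro x hx
      haveI : IsCyclic (Q ⧸ D) := by
        have hr1 : r = 1 := by
          by_contra hr1
          obtain rfl : r = 0 := by omega
          exact hDtop (index_eq_one.1 (by rw [hr, pow_zero]))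
        exact isCyclic_of_prime_card (p := p) (by rw [← index_eq_card, hr, hr1, pow_one])
      have hle : commutator Q ≤ D := by
        rw [_root_.commutator_def, commutator_le]
        intro a _ b _
        letI := IsCyclic.commGroup (α := Q ⧸ D)
        rw [← QuotientGroup.eq_one_iff (N := D), ← QuotientGroup.mk'_apply, map_commutatorElement,
          commutatorElement_eq_one_iff_mul_comm]
        exact mul_comm _ _
      rw [← Subgroup.top_lowerCentralSeries_one] at hle
      exact hle (mem_layer.1 hx : (⟨x, layer_le 1 hx⟩ : Q) ∈ _)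
    · rw [inf_bot_eq, eq_comm, eq_bot_iff]
      intro x hx
      have := (mem_layer (x := (⟨x, layer_le _ hx⟩ : Q))).1 hx
      rw [h.top, mem_bot] at this
      exact congrArg Subtype.val this
  · have hDL := CfsgLib.PLoc.Uniserial.normal_eq_lcs h.card hcl (by omega) D hr2 hr
    have hrn : r + 2 ≤ n := by
      have hmul := D.card_mul_index
      rw [hr, h.card, hcardD] at hmul
      have := (Nat.mul_le_mul_right (p ^ r) hcard).trans hmul.le
      rw [← pow_add, Nat.pow_le_pow_iff_right hp.one_lt] at this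
      omega
    obtain ⟨s, hs, -⟩ := exists_uniform h ((⊤ : Subgroup Q).lowerCentralSeries 1) (fun e =>
      h.not_cyclic_top 1 (top_le_iff.1 (e.ge.trans le_sup_right)))
    refine ⟨s, s.2, factorization_centralizer h s hs (j := r - 1) (by omega) (by omega)
      (Or.inl (by omega)) N ?_⟩
    rw [← Subgroup.top_subtype_lowerCentralSeries, ← hDL, subgroupOf_map_subtype, inf_comm]

theorem quasisimple {G : Type*} [Group G] [Finite G] (p : ℕ) [Fact p.Prime] (P : Sylow p G) (n : ℕ)
    (h : MaxClass p n (P : Subgroup G)) (hcore : Cfsg.pPrimeCore p G = ⊥)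
    (hres : ∀ N : Subgroup G, N.Normal → (N.index).Coprime p → N = ⊤)
    (hsmall : ∀ N : Subgroup G, N.Normal → N ≠ ⊤ →
      Nat.card ((P : Subgroup G) ⊓ N : Subgroup G) < p ^ 2) :
    Cfsg.IsQuasisimple G ∧ Nat.card (Subgroup.center G) ≤ p := by
  have hp : p.Prime := Fact.out
  have := h.three
  set Q := (P : Subgroup G)
  have hQ1 : ⁅Q, Q⁆ = ((⊤ : Subgroup Q).lowerCentralSeries 1).map Q.subtype := by
    rw [Subgroup.top_subtype_lowerCentralSeries, Subgroup.lowerCentralSeries_succ,
      Subgroup.lowerCentralSeries_zero]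
  have hperf : commutator G = ⊤ := by
    by_contra hne
    set D0 := (commutator G).subgroupOf Q
    have hD0 : D0 ≠ ⊤ := fun e => hne (hres _ inferInstance
      (Nat.Coprime.coprime_dvd_left (index_dvd_of_le (subgroupOf_eq_top.1 e))
        ((Nat.Prime.coprime_iff_not_dvd hp).2 P.not_dvd_index).symm))
    obtain ⟨K, hK, hDK⟩ := (eq_top_or_exists_le_coatom D0).resolve_left hD0
    have hL1 : (⊤ : Subgroup Q).lowerCentralSeries 1 ≤ K := by
      refine le_trans (fun x hx => ?_) hDK
      have : (x : G) ∈ ⁅Q, Q⁆ := by rw [hQ1]; exact mem_map_of_mem _ hx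
      exact (commutator_mono le_top le_top : ⁅Q, Q⁆ ≤ ⁅(⊤ : Subgroup G), ⊤⁆) this
    set N := commutator G ⊔ K.map Q.subtype
    have hN : N.Normal := Subgroup.Normal.mk fun x hx g => by
      rw [show g * x * g⁻¹ = ⁅g, x⁆ * x by simp only [commutatorElement_def]; group]
      exact mul_mem (mem_sup_left (commutator_mem_commutator (mem_top g) (mem_top x))) hx
    have hNK : N.subgroupOf Q = K := by
      refine le_antisymm (fun x hx => ?_) (fun x hx => mem_sup_right (mem_map_of_mem _ hx))
      obtain ⟨c, hc, k, hk, hck⟩ := mem_sup_of_normal_left.1 (mem_subgroupOf.1 hx)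
      obtain ⟨k, hk, rfl⟩ := hk
      have : x * k⁻¹ ∈ D0 := by
        rw [mem_subgroupOf, Subgroup.coe_mul, ← hck, InvMemClass.coe_inv]
        simpa using hc
      simpa using mul_mem (hDK this) hk
    have hNtop : N ≠ ⊤ := fun e => hK.1 (by rw [← hNK, e]; exact subgroupOf_eq_top.2 le_top)
    refine (hsmall N hN hNtop).not_ge ?_
    rw [show Nat.card (Q ⊓ N : Subgroup G) = Nat.card K by
      rw [← hNK, ← subgroupOf_inf Q N]
      exact (Nat.card_congr (subgroupOfEquivOfLe inf_le_left).toEquiv).symm]
    have hlt : (⊤ : Subgroup Q).lowerCentralSeries 1 < K := by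
      refine lt_of_le_of_ne hL1 fun e => ?_
      obtain ⟨x, hx⟩ : ∃ x, x ∉ K := by
        by_contra hh
        push Not at hh
        exact hK.1 (eq_top_iff.2 fun x _ => hh x)
      refine h.not_cyclic_top x (hK.2 _ (lt_of_le_of_ne (e ▸ le_sup_right) fun e2 => hx ?_))
      exact e2 ▸ mem_sup_left (mem_zpowers x)
    refine le_trans ?_ (CfsgLib.FusionMaxClass.mul_card_le h.card hlt)
    rw [h.card_one, ← pow_succ']
    exact Nat.pow_le_pow_right hp.pos (by omega)
  have hkey : ∀ N : Subgroup G, N.Normal → N ≠ ⊤ → N ≤ center G ∧ Nat.card N ≤ p := by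
    intro N hN hNtop
    obtain ⟨k, hk⟩ := IsPGroup.iff_card.1 (P.2.to_le (inf_le_left : Q ⊓ N ≤ Q))
    have hk2 : k < 2 := (Nat.pow_lt_pow_iff_right hp.one_lt).1 (hk ▸ hsmall N hN hNtop)
    rcases Nat.eq_zero_or_pos k with rfl | hk0
    · have hbot : N = ⊥ := by
        refine CfsgLib.Solvable.pPrimeCore_eq_bot_iff.1 hcore N hN
          (((Nat.Prime.coprime_iff_not_dvd hp).2 fun hd => ?_).symm)
        obtain ⟨x, hx⟩ := exists_prime_orderOf_dvd_card' p hd
        obtain ⟨m, -, hm⟩ := conj_into P (M := N) le_normalizer_of_normal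
          (IsPGroup.of_card (n := 1) (G := zpowers (x : G)) (by rw [Nat.card_zpowers, orderOf_coe, hx, pow_one]))
          ((zpowers_le.2 x.2).trans le_sup_left)
        have h1 : m * x * m⁻¹ ∈ Q ⊓ N :=
          Subgroup.mem_inf.2 ⟨hm _ (mem_zpowers _), hN.conj_mem _ x.2 m⟩
        rw [eq_bot_of_card_eq (Q ⊓ N) (by rw [hk, pow_zero]), mem_bot] at h1
        have : x = 1 := Subtype.ext (by simpa using h1)
        rw [this, orderOf_one] at hx
        exact hp.ne_one hx.symm
      rw [hbot]
      exact ⟨bot_le, by rw [Subgroup.card_bot]; exact hp.one_le⟩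
    · obtain rfl : k = 1 := by omega
      rw [pow_one] at hk
      set D := N.subgroupOf Q with hD
      have hDcard : Nat.card D = p := by
        rw [hD, ← subgroupOf_inf Q N, Nat.card_congr (subgroupOfEquivOfLe inf_le_left).toEquiv, hk]
      have hDidx : D.index = p ^ (n - 1) := by
        have hmul := D.card_mul_index
        rw [hDcard, h.card, show p ^ n = p * p ^ (n - 1) by rw [← pow_succ']; congr 1; omega] at hmul
        exact Nat.eq_of_mul_eq_mul_left hp.pos hmul
      have hcl : Group.nilpotencyClass Q = n - 1 := by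
        have := h.nilpotent
        refine le_antisymm (Subgroup.lowerCentralSeries_eq_bot_iff_nilpotencyClass_le.1 h.top) ?_
        by_contra hlt
        exact h.ne (Subgroup.lowerCentralSeries_eq_bot_iff_nilpotencyClass_le.2 (by omega))
      have hDL : D = (⊤ : Subgroup Q).lowerCentralSeries (n - 2) := by
        have := CfsgLib.PLoc.Uniserial.normal_eq_lcs h.card hcl (by omega) D (r := n - 1) (by omega) hDidx
        rwa [show n - 1 - 1 = n - 2 by omega] at this
      obtain ⟨hc, hcard⟩ := central_of_small P hperf hcore N hk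
        (fun z hz g hg => by
          have hzD : (⟨z, hz.1⟩ : Q) ∈ D := hz.2
          rw [hDL] at hzD
          exact (last_le_center h hzD ⟨g, hg⟩).map Q.subtype)
        (fun z hz => by
          have hzD : (⟨z, hz.1⟩ : Q) ∈ D := hz.2
          rw [hDL] at hzD
          rw [hQ1]
          exact ⟨_, Subgroup.lowerCentralSeries_antitone _ (by omega : 1 ≤ n - 2) hzD, rfl⟩)
      exact ⟨hc, hcard.le⟩
  have hnt : Nontrivial G := by
    by_contra hh
    rw [not_nontrivial_iff_subsingleton] at hh
    have h1 : Nat.card Q ≤ 1 := Finite.card_le_one_iff_subsingleton.2 inferInstance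
    rw [h.card] at h1
    have := Nat.one_lt_pow (show n ≠ 0 by omega) hp.one_lt
    omega
  have hZne : center G ≠ ⊤ := by
    intro e
    have hc : commutator G ≤ ⊥ := by
      rw [_root_.commutator_def, commutator_le]
      intro a _ b _
      rw [mem_bot, commutatorElement_eq_one_iff_mul_comm]
      exact mem_center_iff.1 (e ▸ mem_top b) a
    rw [hperf] at hc
    exact top_ne_bot (le_bot_iff.1 hc)
  refine ⟨⟨⟨hperf⟩, ?_⟩, (hkey _ inferInstance hZne).2⟩
  haveI : Nontrivial (G ⧸ center G) := QuotientGroup.nontrivial_iff.2 hZne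
  refine ⟨fun K hK => ?_⟩
  let π := QuotientGroup.mk' (center G)
  rcases eq_or_ne (K.comap π) ⊤ with e | e
  · right
    exact comap_injective (QuotientGroup.mk'_surjective _) (e.trans (comap_top π).symm)
  · left
    have := (hkey _ (hK.comap π) e).1
    rw [eq_bot_iff]
    intro q hq
    obtain ⟨g, rfl⟩ := QuotientGroup.mk'_surjective _ q
    exact mem_bot.2 ((QuotientGroup.eq_one_iff g).2 (this hq))

/-- Let G be a finite group whose Sylow p-subgroup P has order p ^ n with n ≥ 2 and nilpotency class n - 1 (maximal class), whose largest normal subgroup of order prime to p is trivial, and which has no proper normal subgroup of index prime to p. Then either some x ∈ P has a centralizer in G whose order has p-part p ^ 2, or G is quasisimple with centre of order at most p. -/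
theorem result {G : Type*} [Group G] [Finite G] (p : ℕ) [Fact p.Prime] (P : Sylow p G) (n : ℕ) (hP : Nat.card P = p ^ n) (hn : 2 ≤ n) (hmax : Group.nilpotencyClass ↥(P : Subgroup G) = n - 1) (hcore : Cfsg.pPrimeCore p G = ⊥) (hres : ∀ N : Subgroup G, N.Normal → (N.index).Coprime p → N = ⊤) : (∃ x ∈ (P : Subgroup G), (Nat.card (Subgroup.centralizer ({x} : Set G))).factorization p = 2) ∨ (Cfsg.IsQuasisimple G ∧ Nat.card (Subgroup.center G) ≤ p) := by
  have hp : p.Prime := Fact.out
  by_cases hn2 : n = 2
  · left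
    refine ⟨1, one_mem _, ?_⟩
    have e : centralizer ({(1 : G)} : Set G) = ⊤ := eq_top_iff.2 fun g _ =>
      mem_centralizer_singleton_iff.2 (by rw [mul_one, one_mul])
    rw [e, card_top]
    have h := P.card_eq_multiplicity
    rw [hP, hn2] at h
    exact (Nat.pow_right_injective hp.two_le h).symm
  have hn3 : 3 ≤ n := by omega
  have hQp : IsPGroup p (P : Subgroup G) := P.2
  haveI := hQp.isNilpotent
  have h : Cfsg.Agent.S3806.MaxClass p n (P : Subgroup G) := ⟨hP, hn3,
    Subgroup.lowerCentralSeries_eq_bot_iff_nilpotencyClass_le.mpr hmax.le,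
    fun e => by have := Subgroup.lowerCentralSeries_eq_bot_iff_nilpotencyClass_le.mp e; omega⟩
  by_cases hbig : ∃ N : Subgroup G, N.Normal ∧ N ≠ ⊤ ∧ p ^ 2 ≤ Nat.card ((P : Subgroup G) ⊓ N : Subgroup G)
  · left
    exact exists_of_big p P n h hres hbig
  · right
    push Not at hbig
    exact quasisimple p P n h hcore hres hbig

end Cfsg.Agent.S3865
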