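import Cfsg.Statements.S3866
import Mathlib
-- import your own Cfsg.Agent.* helpers here

set_option autoImplicit false
open Cfsg

namespace Cfsg.Agent.S3866

/-- Let A be a commutative normal subgroup of the finite group G with G generated by A and an element x. Then a ↦ x a x⁻¹ a⁻¹ is a surjective homomorphism from A onto the commutator subgroup of G whose kernel is the centralizer of x in A; in particular the commutator subgroup has order equal to the index in A of that centralizer. -/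
theorem result {G : Type*} [Group G] [Finite G] (A : Subgroup G) [A.Normal] (hA : IsMulCommutative A) (x : G) (hgen : A ⊔ Subgroup.zpowers x = ⊤) : (∀ a ∈ A, x * a * x⁻¹ * a⁻¹ ∈ commutator G) ∧ (∀ c ∈ commutator G, ∃ a ∈ A, x * a * x⁻¹ * a⁻¹ = c) ∧ (∀ a ∈ A, ∀ b ∈ A, x * (a * b) * x⁻¹ * (a * b)⁻¹ = (x * a * x⁻¹ * a⁻¹) * (x * b * x⁻¹ * b⁻¹)) ∧ Nat.card (commutator G) * Nat.card ↥(A ⊓ Subgroup.centralizer ({x} : Set G)) = Nat.card A := by
  have hx : ∀ a ∈ A, ∀ b ∈ A, a * b = b * a := fun a ha b hb =>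
    congrArg Subtype.val (hA.is_comm.comm ⟨a, ha⟩ ⟨b, hb⟩)
  have hN : ∀ (g a : G), a ∈ A → g * a * g⁻¹ ∈ A := fun g a ha =>
    (inferInstance : A.Normal).conj_mem a ha g
  have hcA : ∀ a ∈ A, x * a * x⁻¹ * a⁻¹ ∈ A := fun a ha => mul_mem (hN x a ha) (inv_mem ha)
  let φ : A →* A :=
    MonoidHom.mk' (fun a => ⟨x * a * x⁻¹ * (a : G)⁻¹, hcA _ a.2⟩) (fun a b => Subtype.ext (by
      simp only [Subgroup.coe_mul]
      calc x * ((a : G) * b) * x⁻¹ * ((a : G) * b)⁻¹
          = (x * a * x⁻¹) * ((x * b * x⁻¹ * (b : G)⁻¹) * (a : G)⁻¹) := by group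
        _ = (x * a * x⁻¹) * ((a : G)⁻¹ * (x * b * x⁻¹ * (b : G)⁻¹)) := by
            rw [hx _ (hcA _ b.2) _ (inv_mem a.2)]
        _ = _ := by group))
  set R : Subgroup G := φ.range.map A.subtype with hR
  have hRmem : ∀ c, c ∈ R ↔ ∃ a ∈ A, x * a * x⁻¹ * a⁻¹ = c := by
    intro c
    constructor
    · rintro ⟨_, ⟨a, rfl⟩, rfl⟩
      exact ⟨a, a.2, rfl⟩
    · rintro ⟨a, ha, rfl⟩
      exact ⟨φ ⟨a, ha⟩, ⟨_, rfl⟩, rfl⟩
  have hRc : R ≤ commutator G := by
    intro c hc
    obtain ⟨a, ha, rfl⟩ := (hRmem c).mp hc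
    exact Subgroup.commutator_mem_commutator (Subgroup.mem_top x) (Subgroup.mem_top a)
  have hRA : R ≤ A := fun c hc => by
    obtain ⟨a, ha, rfl⟩ := (hRmem c).mp hc; exact hcA a ha
  have hRn : R.Normal := by
    have key : ∀ g : G, g ∈ A ⊔ Subgroup.zpowers x → g ∈ Subgroup.normalizer (R : Set G) := by
      have hAx : x ∈ Subgroup.normalizer (R : Set G) := by
        rw [Subgroup.mem_normalizer_iff_conj_image_eq]
        refine Set.eq_of_subset_of_ncard_le ?_ (le_of_eq (Set.ncard_image_of_injective _ (MulAut.conj x).injective).symm) (Set.toFinite _)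
        rintro _ ⟨c, hc, rfl⟩
        obtain ⟨a, ha, rfl⟩ := (hRmem c).mp hc
        refine (hRmem _).mpr ⟨x * a * x⁻¹, hN x a ha, ?_⟩
        simp [mul_assoc]
      intro g hg
      refine (sup_le (fun a ha => ?_) (Subgroup.zpowers_le.mpr hAx) : A ⊔ Subgroup.zpowers x ≤ _) hg
      rw [Subgroup.mem_normalizer_iff]
      intro c
      constructor
      · intro hc
        rwa [hx a ha c (hRA hc), mul_inv_cancel_right]
      · intro hc
        have hcA' : c ∈ A := by
          have := mul_mem (mul_mem (inv_mem ha) (hRA hc)) ha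
          simpa [mul_assoc] using this
        rwa [hx a ha c hcA', mul_inv_cancel_right] at hc
    exact Subgroup.normalizer_eq_top_iff.mp (eq_top_iff.mpr fun g _ => key g (hgen ▸ Subgroup.mem_top g))
  have hcR : commutator G ≤ R := by
    apply (Subgroup.Normal.quotient_commutative_iff_commutator_le).mp
    have hgens : ((QuotientGroup.mk' R) '' ((A : Set G) ∪ {x})) ⊆
        Subgroup.centralizer ((QuotientGroup.mk' R) '' ((A : Set G) ∪ {x})) := by
      have hax : ∀ a ∈ A, (x : G ⧸ R) * a = a * x := by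
        intro a ha
        have h1 : (((x * a * x⁻¹ * a⁻¹ : G)) : G ⧸ R) = 1 :=
          (QuotientGroup.eq_one_iff _).mpr ((hRmem _).mpr ⟨a, ha, rfl⟩)
        rw [QuotientGroup.mk_mul, QuotientGroup.mk_mul, QuotientGroup.mk_mul, QuotientGroup.mk_inv,
          QuotientGroup.mk_inv, mul_inv_eq_one, mul_inv_eq_iff_eq_mul] at h1
        exact h1
      rintro _ ⟨a, ha, rfl⟩
      rw [SetLike.mem_coe, Subgroup.mem_centralizer_iff]
      rintro _ ⟨b, hb, rfl⟩
      simp only [QuotientGroup.mk'_apply]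
      rcases ha with ha | ha <;> rcases hb with hb | hb
      · rw [← QuotientGroup.mk_mul, ← QuotientGroup.mk_mul, hx b hb a ha]
      · rw [Set.mem_singleton_iff.mp hb]; exact hax a ha
      · rw [Set.mem_singleton_iff.mp ha]; exact (hax b hb).symm
      · rw [Set.mem_singleton_iff.mp ha, Set.mem_singleton_iff.mp hb]
    have htop : Subgroup.closure ((QuotientGroup.mk' R) '' ((A : Set G) ∪ {x})) = ⊤ := by
      rw [← MonoidHom.map_closure, Subgroup.closure_union, Subgroup.closure_eq,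
        ← Subgroup.zpowers_eq_closure, hgen,
        Subgroup.map_top_of_surjective _ (QuotientGroup.mk'_surjective R)]
    refine IsMulCommutative.of_comm fun a b => ?_
    have hab := Subgroup.isMulCommutative_closure
      (k := (QuotientGroup.mk' R) '' ((A : Set G) ∪ {x}))
      (fun u hu v hv => Subgroup.mem_centralizer_iff.mp (hgens hv) u hu)
    exact congrArg Subtype.val (hab.is_comm.comm ⟨a, htop ▸ Subgroup.mem_top a⟩ ⟨b, htop ▸ Subgroup.mem_top b⟩)
  have hRe : commutator G = R := le_antisymm hcR hRc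
  refine ⟨fun a ha => hRe ▸ (hRmem _).mpr ⟨a, ha, rfl⟩, fun c hc => (hRmem c).mp (hRe ▸ hc),
    fun a ha b hb => congrArg Subtype.val (φ.map_mul ⟨a, ha⟩ ⟨b, hb⟩), ?_⟩
  have hker : Nat.card φ.ker = Nat.card ↥(A ⊓ Subgroup.centralizer ({x} : Set G)) := by
    refine Nat.card_congr ⟨fun a => ⟨a.1.1, a.1.2, ?_⟩, fun a => ⟨⟨a.1, a.2.1⟩, ?_⟩, fun a => rfl, fun a => rfl⟩
    · have h1 : x * (a.1 : G) * x⁻¹ * (a.1 : G)⁻¹ = 1 := congrArg Subtype.val a.2
      rw [mul_inv_eq_one, mul_inv_eq_iff_eq_mul] at h1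
      refine Subgroup.mem_centralizer_iff.mpr fun z hz => ?_
      rw [Set.mem_singleton_iff.mp hz]; exact h1
    · refine Subtype.ext ?_
      change x * a.1 * x⁻¹ * a.1⁻¹ = 1
      rw [mul_inv_eq_one, mul_inv_eq_iff_eq_mul]
      exact Subgroup.mem_centralizer_iff.mp a.2.2 x rfl
  rw [← hker, hRe, hR, Subgroup.card_map_of_injective A.subtype_injective,
    ← Nat.card_congr (QuotientGroup.quotientKerEquivRange φ).toEquiv,
    ← Subgroup.card_eq_card_quotient_mul_card_subgroup]


end Cfsg.Agent.S3866
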