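import Cfsg.Statements.S3867
import Mathlib
-- import your own Cfsg.Agent.* helpers here

set_option autoImplicit false
open Cfsg

namespace Cfsg.Agent.S3867

/-- Let M and N be nontrivial normal subgroups of the finite group G with M ⊓ N trivial, and let p be a prime. Writing n(X) for the number of Sylow p-subgroups of a group X, one has n(G) · n(G/MN) = n(G/M) · n(G/N). -/
theorem result {G : Type*} [Group G] [Finite G] (p : ℕ) [Fact p.Prime] (M N : Subgroup G) [M.Normal] [N.Normal] (hM : M ≠ ⊥) (hN : N ≠ ⊥) (hMN : M ⊓ N = ⊥) : Nat.card (Sylow p G) * Nat.card (Sylow p (G ⧸ (M ⊔ N))) = Nat.card (Sylow p (G ⧸ M)) * Nat.card (Sylow p (G ⧸ N)) := by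
  obtain ⟨P⟩ := (inferInstance : Nonempty (Sylow p G))
  set H := Subgroup.normalizer ((P : Subgroup G) : Set G) with hH
  have key : ∀ (K : Subgroup G) [K.Normal], Nat.card (Sylow p (G ⧸ K)) = (H ⊔ K).index ∧
      ∀ x : G, x ∈ H ⊔ K → x ∈ Subgroup.normalizer (((P : Subgroup G) ⊔ K : Subgroup G) : Set G) := by
    intro K _
    have hs := QuotientGroup.mk'_surjective K
    set S := P.mapSurjective hs
    have hN : (H ⊔ K).map (QuotientGroup.mk' K) =
        Subgroup.normalizer ((S : Subgroup (G ⧸ K)) : Set (G ⧸ K)) := by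
      apply le_antisymm
      · rw [Subgroup.map_sup, Sylow.coe_mapSurjective, QuotientGroup.map_mk'_self, sup_bot_eq]
        exact Subgroup.le_normalizer_map _
      · intro y hy
        obtain ⟨g, rfl⟩ := hs y
        set U := (P : Subgroup G) ⊔ K
        have hgU : ∀ x ∈ (P : Subgroup G), g * x * g⁻¹ ∈ U := by
          intro x hx
          have h1 := (Subgroup.mem_normalizer_iff.mp hy (QuotientGroup.mk' K x)).mp
            (by rw [Sylow.coe_mapSurjective]; exact Subgroup.mem_map_of_mem _ hx)
          rw [Sylow.coe_mapSurjective, ← map_inv, ← map_mul, ← map_mul, ← Subgroup.mem_comap,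
            Subgroup.comap_map_eq, QuotientGroup.ker_mk'] at h1
          exact h1
        have hQU : ((g • P : Sylow p G) : Subgroup G) ≤ U := by
          intro x hx
          rw [Sylow.coe_subgroup_smul, Subgroup.mem_pointwise_smul_iff_inv_smul_mem] at hx
          have := hgU _ hx
          simpa [MulAut.smul_def, mul_assoc] using this
        obtain ⟨m, hm⟩ := MulAction.exists_smul_eq U ((g • P).subtype hQU)
          (P.subtype (le_sup_left : (P : Subgroup G) ≤ U))
        rw [Sylow.smul_subtype] at hm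
        have hm' := Sylow.subtype_injective hm
        change (m : G) • g • P = P at hm'
        rw [← mul_smul, Sylow.smul_eq_iff_mem_normalizer] at hm'
        refine Subgroup.mem_map_of_mem _ ?_
        have hUle : U ≤ H ⊔ K := sup_le_sup_right Subgroup.le_normalizer K
        have := mul_mem (inv_mem (hUle m.2)) (Subgroup.mem_sup_left hm')
        rwa [inv_mul_cancel_left] at this
    refine ⟨?_, ?_⟩
    · rw [Sylow.card_eq_index_normalizer S]
      change (Subgroup.normalizer ((S : Subgroup (G ⧸ K)) : Set (G ⧸ K))).index = _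
      rw [← hN, Subgroup.index_map_eq _ hs]
      rw [QuotientGroup.ker_mk']
      exact le_sup_right
    · intro x hx
      refine (sup_le (fun y hy => ?_) (le_sup_right.trans Subgroup.le_normalizer) :
        H ⊔ K ≤ _) hx
      rw [Subgroup.mem_normalizer_iff_conj_image_eq]
      have e1 : (P : Subgroup G).map (MulAut.conj y).toMonoidHom = P :=
        SetLike.coe_injective (Subgroup.mem_normalizer_iff_conj_image_eq.mp hy)
      have e2 : K.map (MulAut.conj y).toMonoidHom = K :=
        SetLike.coe_injective (Subgroup.mem_normalizer_iff_conj_image_eq.mp (K.normalizer_eq_top ▸ Subgroup.mem_top y))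
      have e3 : ((P : Subgroup G) ⊔ K).map (MulAut.conj y).toMonoidHom = (P : Subgroup G) ⊔ K := by
        rw [Subgroup.map_sup, e1, e2]
      exact congrArg (fun X : Subgroup G => (X : Set G)) e3
  rw [(key M).1, (key N).1, (key (M ⊔ N)).1, Sylow.card_eq_index_normalizer P]
  change H.index * _ = _
  have hinter : (H ⊔ M) ⊓ (H ⊔ N) = H := by
    refine le_antisymm ?_ (le_inf le_sup_left le_sup_left)
    rintro x ⟨hx1, hx2⟩
    -- `x` normalises the `p`-group `PM ∩ PN`
    set W := ((P : Subgroup G) ⊔ M) ⊓ ((P : Subgroup G) ⊔ N) with hW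
    have hWp : IsPGroup p W := by
      intro w
      have hq : ∀ (K : Subgroup G) [K.Normal], (w : G) ∈ (P : Subgroup G) ⊔ K →
          ∃ k : ℕ, (w : G) ^ p ^ k ∈ K := by
        intro K _ hw
        obtain ⟨a, ha, b, hb, hab⟩ := (Subgroup.mem_sup_of_normal_right).mp hw
        obtain ⟨k, hk⟩ := P.isPGroup' ⟨a, ha⟩
        refine ⟨k, ?_⟩
        rw [← QuotientGroup.eq_one_iff, QuotientGroup.mk_pow, ← hab, QuotientGroup.mk_mul,
          (QuotientGroup.eq_one_iff b).mpr hb, mul_one, ← QuotientGroup.mk_pow,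
          show a ^ p ^ k = 1 from congrArg Subtype.val hk, QuotientGroup.mk_one]
      obtain ⟨k, hk⟩ := hq M w.2.1
      obtain ⟨l, hl⟩ := hq N w.2.2
      refine ⟨k + l, Subtype.ext ?_⟩
      have h1 : (w : G) ^ p ^ (k + l) ∈ M ⊓ N := by
        refine ⟨?_, ?_⟩
        · rw [pow_add, pow_mul]; exact pow_mem hk _
        · rw [pow_add, mul_comm, pow_mul]; exact pow_mem hl _
      rw [hMN, Subgroup.mem_bot] at h1
      simpa using h1
    have hPW : (P : Subgroup G) = W := (P.is_maximal' hWp (le_inf le_sup_left le_sup_left)).symm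
    have n1 := Subgroup.mem_normalizer_iff.mp ((key M).2 x hx1)
    have n2 := Subgroup.mem_normalizer_iff.mp ((key N).2 x hx2)
    rw [hH, hPW, hW, Subgroup.mem_normalizer_iff]
    exact fun y => and_congr (n1 y) (n2 y)
  have hsupM : ∀ A : Subgroup G, A.relIndex (A ⊔ M) = (A ⊓ M).relIndex M := by
    intro A
    have h1 := Subgroup.relIndex_mul_relIndex (A ⊓ M) M (A ⊔ M) inf_le_right le_sup_right
    have h2 := Subgroup.relIndex_mul_relIndex (A ⊓ M) A (A ⊔ M) inf_le_left le_sup_left
    rw [Subgroup.relIndex_sup_right, ← Subgroup.inf_relIndex_left A M] at h1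
    rw [← h2, mul_comm] at h1
    exact (Nat.eq_of_mul_eq_mul_left (Nat.pos_of_ne_zero (Subgroup.index_ne_zero_of_finite (H := (A ⊓ M).subgroupOf A))) h1).symm
  have hr : H.relIndex (H ⊔ M) = (H ⊔ N).relIndex (H ⊔ (M ⊔ N)) := by
    have e : (H ⊔ N) ⊓ M = H ⊓ M := le_antisymm
      (le_inf (fun x hx => hinter ▸ ⟨Subgroup.mem_sup_right hx.2, hx.1⟩) inf_le_right)
      (inf_le_inf_right M le_sup_left)
    rw [show H ⊔ (M ⊔ N) = (H ⊔ N) ⊔ M by rw [sup_comm M N, sup_assoc], hsupM, hsupM, e]
  have i1 := Subgroup.relIndex_mul_index (le_sup_left : H ≤ H ⊔ M)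
  have i2 := Subgroup.relIndex_mul_index (sup_le le_sup_left (le_sup_of_le_right le_sup_right) : H ⊔ N ≤ H ⊔ (M ⊔ N))
  rw [← i1, ← i2, hr]
  ring


end Cfsg.Agent.S3867
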