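import Cfsg.Statements.S3868
import Cfsg.Agent.Lib.PNilpotent.Irreducible
-- import your own Cfsg.Agent.* helpers here

set_option autoImplicit false
open Cfsg

namespace Cfsg.Agent.S3868

/-- Structure of the non-simple minimal non-p-closed groups. Call a finite group p-closed when its Sylow p-subgroups are normal, and minimal non-p-closed when it is not p-closed but every proper subgroup and every proper quotient is. If such a group G is not simple, then there is a prime q ≠ p such that G has order p · q^e, where e is the multiplicative order of q modulo p, and G has a normal subgroup A of order q^e that is elementary abelian and is a minimal normal subgroup of G (so G is the semidirect product of A by a group of order p acting irreducibly). -/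
theorem result {G : Type*} [Group G] [Finite G] {p : ℕ} [Fact p.Prime]
    (hnc : ¬ Cfsg.IsPClosed p G) (hsub : ∀ H : Subgroup G, H ≠ ⊤ → Cfsg.IsPClosed p ↥H)
    (hquo : ∀ (N : Subgroup G) [N.Normal], N ≠ ⊥ → Cfsg.IsPClosed p (G ⧸ N)) (hns : ¬ IsSimpleGroup G) :
    ∃ q : ℕ, q.Prime ∧ q ≠ p ∧ Nat.card G = p * q ^ orderOf (q : ZMod p) ∧
      ∃ A : Subgroup G, A.Normal ∧ Nat.card ↥A = q ^ orderOf (q : ZMod p) ∧ Cfsg.IsElementaryAbelian q A ∧
        ∀ B : Subgroup G, B.Normal → B ≤ A → B = ⊥ ∨ B = A := by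
  have hp : p.Prime := Fact.out
  obtain ⟨N₀, hN₀, hN₀b, hN₀t⟩ : ∃ N : Subgroup G, N.Normal ∧ N ≠ ⊥ ∧ N ≠ ⊤ := by
    by_contra hcon
    push Not at hcon
    have hnt : Nontrivial G := by
      by_contra h
      rw [not_nontrivial_iff_subsingleton] at h
      exact hnc fun P => Subgroup.normalizer_eq_top_iff.mp (Subsingleton.elim _ _)
    exact hns ⟨fun N hN => or_iff_not_imp_left.mpr (hcon N hN)⟩
  obtain ⟨A, ⟨hAn, hAb, hAt⟩, hAmin⟩ := (Set.toFinite {N : Subgroup G | N.Normal ∧ N ≠ ⊥ ∧ N ≠ ⊤}).exists_minimal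
    ⟨N₀, hN₀, hN₀b, hN₀t⟩
  have hmin : ∀ B : Subgroup G, B.Normal → B ≤ A → B = ⊥ ∨ B = A := by
    intro B hB hBA
    rcases eq_or_ne B ⊥ with h | h
    · exact Or.inl h
    · exact Or.inr (le_antisymm hBA (hAmin ⟨hB, h, fun e => hAt (top_le_iff.mp (e ▸ hBA))⟩ hBA))
  haveI := hAn
  -- no nontrivial normal `p`-subgroup
  have hOp : ∀ R : Subgroup G, R.Normal → IsPGroup p R → R = ⊥ := by
    intro R hR hRp
    by_contra hne
    haveI := hR
    apply hnc
    intro P
    have hRP : R ≤ (P : Subgroup G) := hRp.le_sylow_of_normal P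
    have hn := hquo R hne (P.mapSurjective (QuotientGroup.mk'_surjective R))
    rw [Sylow.coe_mapSurjective] at hn
    have h := hn.comap (QuotientGroup.mk' R)
    rwa [Subgroup.comap_map_eq, QuotientGroup.ker_mk', sup_eq_left.mpr hRP] at h
  have hAp : ¬ p ∣ Nat.card A := by
    intro hd
    obtain ⟨S⟩ := (inferInstance : Nonempty (Sylow p A))
    haveI hSn : (S : Subgroup A).Normal := hsub A hAt S
    haveI := Sylow.characteristic_of_normal S hSn
    have h1 := hOp _ (inferInstance : ((S : Subgroup A).map A.subtype).Normal) (S.isPGroup'.map _)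
    rw [Subgroup.map_eq_bot_iff_of_injective _ A.subtype_injective] at h1
    exact S.not_dvd_index (by rw [h1, Subgroup.index_bot]; exact hd)
  obtain ⟨P₀, hP₀n⟩ : ∃ P : Sylow p G, ¬ (P : Subgroup G).Normal := by
    simpa [Cfsg.IsPClosed] using hnc
  have hnn : ∀ P : Sylow p G, ¬ (P : Subgroup G).Normal := by
    intro P hP
    haveI : Unique (Sylow p G) := Sylow.unique_of_normal P hP
    exact hP₀n (Subsingleton.elim P P₀ ▸ hP)
  have hsup : ∀ P : Sylow p G, A ⊔ (P : Subgroup G) = ⊤ := by
    intro P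
    by_contra hne
    set U := A ⊔ (P : Subgroup G)
    have hUn : U.Normal := by
      have hn := hquo A hAb (P.mapSurjective (QuotientGroup.mk'_surjective A))
      rw [Sylow.coe_mapSurjective] at hn
      have h := hn.comap (QuotientGroup.mk' A)
      rwa [Subgroup.comap_map_eq, QuotientGroup.ker_mk', sup_comm] at h
    have hfr := Sylow.normalizer_sup_eq_top (P.subtype (le_sup_right : (P : Subgroup G) ≤ U))
    haveI hn2 : ((P.subtype (le_sup_right : (P : Subgroup G) ≤ U) : Sylow p U) : Subgroup U).Normal :=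
      hsub U hne _
    haveI := Sylow.characteristic_of_normal _ hn2
    have h3 : (((P.subtype (le_sup_right : (P : Subgroup G) ≤ U) : Sylow p U) : Subgroup U).map U.subtype).Normal :=
      inferInstance
    rw [Sylow.coe_subtype, Subgroup.subgroupOf_map_subtype, inf_eq_left.mpr le_sup_right] at h3
    exact hnn P h3
  have hprop : ∀ (R : Sylow p G) (Q : Subgroup G), Q ≤ A → Q ≠ A →
      (R : Subgroup G) ≤ Subgroup.normalizer (Q : Set G) → (R : Subgroup G) ≤ Subgroup.centralizer (Q : Set G) := by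
    intro R Q hQ hQA hRN
    set U := (R : Subgroup G) ⊔ Q
    have hU : U ≠ ⊤ := by
      intro h
      refine hQA (le_antisymm hQ fun a ha => ?_)
      have hQn : ∀ g : G, g ∈ U → g ∈ Subgroup.normalizer (Q : Set G) := fun g hg => sup_le hRN Subgroup.le_normalizer hg
      haveI : Q.Normal := Subgroup.normalizer_eq_top_iff.mp (eq_top_iff.mpr fun g _ => hQn g (h ▸ Subgroup.mem_top g))
      obtain ⟨r, hr, q, hq, hrq⟩ := Subgroup.mem_sup_of_normal_right.mp (show a ∈ U by rw [h]; exact Subgroup.mem_top a)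
      have hrA : r ∈ A := by
        have := mul_mem ha (inv_mem (hQ hq))
        rwa [← hrq, mul_inv_cancel_right] at this
      have hr1 : r = 1 := by
        obtain ⟨k, hk⟩ := R.isPGroup'.exists_orderOf_eq_pow ⟨r, hr⟩
        rw [Subgroup.orderOf_mk] at hk
        rcases Nat.eq_zero_or_pos k with rfl | hk0
        · simpa using hk
        · exact absurd ((dvd_pow_self p (by omega)).trans (hk ▸ Subgroup.orderOf_dvd_natCard A hrA)) hAp
      rwa [← hrq, hr1, one_mul]
    haveI hn : ((R.subtype (le_sup_left : (R : Subgroup G) ≤ U) : Sylow p U) : Subgroup U).Normal := hsub U hU _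
    have hQR : U ≤ Subgroup.normalizer ((R : Subgroup G) : Set G) := by
      intro u hu
      rw [Subgroup.mem_normalizer_iff]
      intro x
      constructor
      · intro hx
        exact hn.conj_mem ⟨x, (le_sup_left : (R : Subgroup G) ≤ U) hx⟩ hx ⟨u, hu⟩
      · intro hx
        have := hn.conj_mem ⟨u * x * u⁻¹, (le_sup_left : (R : Subgroup G) ≤ U) hx⟩ hx ⟨u⁻¹, inv_mem hu⟩
        simpa [Subgroup.mem_subgroupOf, mul_assoc] using this
    intro r hr
    rw [Subgroup.mem_centralizer_iff]
    intro q hq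
    have h1 : q * r * q⁻¹ * r⁻¹ ∈ (R : Subgroup G) :=
      mul_mem ((Subgroup.mem_normalizer_iff.mp (hQR ((le_sup_right : Q ≤ U) hq)) r).mp hr) (inv_mem hr)
    have h2 : q * r * q⁻¹ * r⁻¹ ∈ A := by
      rw [mul_assoc q r, mul_assoc q]
      exact mul_mem (hQ hq) (hAn.conj_mem _ (inv_mem (hQ hq)) r)
    obtain ⟨k, hk⟩ := R.isPGroup'.exists_orderOf_eq_pow ⟨_, h1⟩
    rw [Subgroup.orderOf_mk] at hk
    have h3 : q * r * q⁻¹ * r⁻¹ = 1 := by
      rcases Nat.eq_zero_or_pos k with rfl | hk0
      · simpa using hk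
      · exact absurd ((dvd_pow_self p (by omega)).trans (hk ▸ Subgroup.orderOf_dvd_natCard A h2)) hAp
    rwa [mul_inv_eq_one, mul_inv_eq_iff_eq_mul] at h3
  have hnocent : ∀ (X : Subgroup G) (P : Sylow p G), X ≤ (P : Subgroup G) →
      (P : Subgroup G) ≤ Subgroup.normalizer (X : Set G) → A ≤ Subgroup.centralizer (X : Set G) → X = ⊥ := by
    intro X P hX hPN hAX
    refine hOp X ?_ (P.isPGroup'.to_le hX)
    rw [← Subgroup.normalizer_eq_top_iff, eq_top_iff, ← hsup P]
    exact sup_le (hAX.trans (Subgroup.centralizer_le_normalizer _)) hPN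
  obtain ⟨P⟩ := (inferInstance : Nonempty (Sylow p G))
  have hPb : (P : Subgroup G) ≠ ⊥ := fun h => hnn P (by rw [h]; infer_instance)
  obtain ⟨q, hq, hqp, hAq⟩ := CfsgLib.PNilpotent.exists_prime_isPGroup_of_centralizes A hAp P (hsup P) hprop
    (fun h => hPb (hnocent _ P le_rfl Subgroup.le_normalizer h))
  haveI : Fact q.Prime := ⟨hq⟩
  have hel := CfsgLib.PNilpotent.isElementaryAbelian_of_minimal A hAq hAb hmin
  -- the Sylow subgroup has order `p`
  obtain ⟨n, hn⟩ := P.isPGroup'.exists_card_eq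
  have hcomp : A.IsComplement' (P : Subgroup G) := by
    refine Subgroup.isComplement'_of_disjoint_and_mul_eq_univ ?_ ?_
    · rw [Subgroup.disjoint_def]
      intro x hxA hxP
      obtain ⟨k, hk⟩ := P.isPGroup'.exists_orderOf_eq_pow ⟨x, hxP⟩
      rw [Subgroup.orderOf_mk] at hk
      rcases Nat.eq_zero_or_pos k with rfl | hk0
      · simpa using hk
      · exact absurd ((dvd_pow_self p (by omega)).trans (hk ▸ Subgroup.orderOf_dvd_natCard A hxA)) hAp
    · rw [← Subgroup.normal_mul, hsup P, Subgroup.coe_top]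
  have hidx : A.index = p := by
    rw [hcomp.symm.index_eq_card, hn]
    have hn0 : n ≠ 0 := fun h => hPb (by rw [← Subgroup.card_eq_one, hn, h, pow_zero])
    by_contra hne
    have hn2 : 2 ≤ n := by
      by_contra hlt
      rw [show n = 1 by omega, pow_one] at hne
      exact hne rfl
    -- a subgroup of index `p` in `P`
    obtain ⟨X, hX⟩ := Sylow.exists_subgroup_card_pow_prime (G := (P : Subgroup G)) p
      (n := n - 1) (by rw [hn]; exact pow_dvd_pow p (by omega))
    have hnil : Group.IsNilpotent (P : Subgroup G) := P.isPGroup'.isNilpotent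
    have hXidx : X.index = p := by
      have h1 := X.card_mul_index
      rw [hX, hn] at h1
      have h2 : p ^ (n - 1) * X.index = p ^ (n - 1) * p := by rw [h1, ← pow_succ]; congr 1; omega
      exact Nat.eq_of_mul_eq_mul_left (pow_pos hp.pos _) h2
    haveI hXn : X.Normal := Subgroup.normal_of_index_eq_minFac_card (by
      rw [hXidx, hn, Nat.Prime.pow_minFac hp hn0])
    set X' := X.map (P : Subgroup G).subtype with hX'
    have hX'le : X' ≤ (P : Subgroup G) := Subgroup.map_subtype_le X
    have hPN : (P : Subgroup G) ≤ Subgroup.normalizer (X' : Set G) := by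
      intro g hg
      have h1 : (⟨g, hg⟩ : (P : Subgroup G)) ∈ Subgroup.normalizer (X : Set (P : Subgroup G)) := by
        rw [Subgroup.normalizer_eq_top]; exact Subgroup.mem_top _
      exact Subgroup.le_normalizer_map _ (Subgroup.mem_map_of_mem _ h1)
    have hX'b : X' ≠ ⊥ := by
      rw [Ne, ← Subgroup.card_eq_one, Subgroup.card_map_of_injective (P : Subgroup G).subtype_injective, hX]
      exact (Nat.one_lt_pow (by omega) hp.one_lt).ne'
    refine hX'b (hnocent X' P hX'le hPN ?_)
    -- `A` centralises `X'`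
    set U := A ⊔ X'
    have hU : U ≠ ⊤ := by
      intro h
      have hXc : Nat.card X' = p ^ (n - 1) := by
        rw [Subgroup.card_map_of_injective (P : Subgroup G).subtype_injective, hX]
      have h2 : A.index ∣ p ^ (n - 1) := by
        rw [← hXc, ← Subgroup.relIndex_top_right, ← h]
        change A.relIndex (A ⊔ X') ∣ _
        rw [sup_comm, Subgroup.relIndex_sup_right]
        exact Subgroup.relIndex_dvd_card _ _
      rw [hcomp.symm.index_eq_card, hn, Nat.pow_dvd_pow_iff_le_right hp.one_lt] at h2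
      omega
    obtain ⟨S, hS⟩ := ((P.isPGroup'.to_le hX'le).comap_of_injective U.subtype U.subtype_injective).exists_le_sylow
    haveI hSn : (S : Subgroup U).Normal := hsub U hU S
    intro a ha
    rw [Subgroup.mem_centralizer_iff]
    intro x hx
    have hxS : (⟨x, (le_sup_right : X' ≤ U) hx⟩ : U) ∈ (S : Subgroup U) := hS hx
    have h1 : (⟨a, (le_sup_left : A ≤ U) ha⟩ : U) * ⟨x, (le_sup_right : X' ≤ U) hx⟩ * ⟨a, (le_sup_left : A ≤ U) ha⟩⁻¹ *
        ⟨x, (le_sup_right : X' ≤ U) hx⟩⁻¹ ∈ (S : Subgroup U) :=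
      mul_mem (hSn.conj_mem _ hxS _) (inv_mem hxS)
    have h2 : a * x * a⁻¹ * x⁻¹ ∈ A := by
      rw [mul_assoc a x, mul_assoc a]
      exact mul_mem ha (hAn.conj_mem _ (inv_mem ha) x)
    obtain ⟨k, hk⟩ := S.isPGroup'.exists_orderOf_eq_pow ⟨_, h1⟩
    rw [Subgroup.orderOf_mk, ← Subgroup.orderOf_coe] at hk
    have hk' : orderOf (a * x * a⁻¹ * x⁻¹) = p ^ k := hk
    have h3 : a * x * a⁻¹ * x⁻¹ = 1 := by
      rcases Nat.eq_zero_or_pos k with rfl | hk0
      · simpa using hk'
      · exact absurd ((dvd_pow_self p (by omega)).trans (hk' ▸ Subgroup.orderOf_dvd_natCard A h2)) hAp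
    rw [mul_inv_eq_one, mul_inv_eq_iff_eq_mul] at h3
    exact h3.symm
  have hnc' : ¬ A ≤ Subgroup.center G := fun h => hPb (hnocent _ P le_rfl Subgroup.le_normalizer
    (fun a ha => Subgroup.mem_centralizer_iff.mpr fun x _ => Subgroup.mem_center_iff.mp (h ha) x))
  have hcard := CfsgLib.PNilpotent.card_minimal_normal_prime_index hq hqp A hel hidx hnc' hmin
  refine ⟨q, hq, hqp, ?_, A, hAn, hcard, hel, hmin⟩
  rw [← A.card_mul_index, hidx, hcard, mul_comm]


end Cfsg.Agent.S3868
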