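import Cfsg.Statements.S3869
import Cfsg.Agent.Lib.PNilpotent.Irreducible
-- import your own Cfsg.Agent.* helpers here

set_option autoImplicit false
open Cfsg

namespace Cfsg.Agent.S3869

/-- Let p and q be distinct primes and G a finite non-abelian group with a normal elementary abelian q-subgroup A that is a minimal normal subgroup of G and has index p. Then A has order q^e with e the multiplicative order of q modulo p, and G is minimal non-p-closed: its Sylow p-subgroups are not normal, while in every proper subgroup and in every proper quotient of G the Sylow p-subgroups are normal. -/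
theorem result {G : Type*} [Group G] [Finite G] {p q : ℕ} [Fact p.Prime] (hq : q.Prime) (hpq : q ≠ p)
    (hna : ¬ IsMulCommutative G) (A : Subgroup G) [A.Normal] (hA : Cfsg.IsElementaryAbelian q A) (hidx : A.index = p)
    (hmin : ∀ B : Subgroup G, B.Normal → B ≤ A → B = ⊥ ∨ B = A) :
    Nat.card ↥A = q ^ orderOf (q : ZMod p) ∧ ¬ Cfsg.IsPClosed p G ∧ (∀ H : Subgroup G, H ≠ ⊤ → Cfsg.IsPClosed p ↥H) ∧
      ∀ (N : Subgroup G) [N.Normal], N ≠ ⊥ → Cfsg.IsPClosed p (G ⧸ N) := by
  have hp : p.Prime := Fact.out
  haveI : Fact q.Prime := ⟨hq⟩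
  have hmax : ∀ K : Subgroup G, A ≤ K → K = A ∨ K = ⊤ := by
    intro K hK
    have h1 := Subgroup.relIndex_mul_index hK
    rw [hidx] at h1
    rcases (Nat.dvd_prime hp).mp (Dvd.intro_left _ h1) with h | h
    · exact Or.inr (Subgroup.index_eq_one.mp h)
    · left
      rw [h] at h1
      have h2 : A.relIndex K = 1 := Nat.eq_of_mul_eq_mul_right hp.pos (h1.trans (one_mul p).symm)
      exact le_antisymm (Subgroup.relIndex_eq_one.mp h2) hK
  have hAc : ∀ a ∈ A, ∀ b ∈ A, a * b = b * a := fun a ha b hb =>
    congrArg Subtype.val (hA.1.is_comm.comm ⟨a, ha⟩ ⟨b, hb⟩)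
  have hnc : ¬ A ≤ Subgroup.center G := by
    intro h
    apply hna
    have hc : IsCyclic (G ⧸ A) := isCyclic_of_prime_card (p := p) (by rw [← Subgroup.index_eq_card]; exact hidx)
    exact MonoidHom.isMulCommutative_of_isCyclic_of_ker_le_center (QuotientGroup.mk' A)
      (by rw [QuotientGroup.ker_mk']; exact h)
  have hcard := CfsgLib.PNilpotent.card_minimal_normal_prime_index hq hpq A hA hidx hnc hmin
  have hAp : ¬ p ∣ Nat.card A := by
    rw [hcard]
    intro h
    exact hpq ((Nat.prime_dvd_prime_iff_eq hp hq).mp (hp.dvd_of_dvd_pow h)).symm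
  -- a normal subgroup meeting `A` trivially is trivial
  have hbot : ∀ N : Subgroup G, N.Normal → A ⊓ N = ⊥ → N = ⊥ := by
    intro N hN hNA
    by_contra hNb
    haveI := hN
    have hcomm : ∀ a ∈ A, ∀ n ∈ N, a * n = n * a := fun a ha n hn =>
      Subgroup.commute_of_normal_of_disjoint A N inferInstance hN (disjoint_iff.mpr hNA) a n ha hn
    rcases hmax (A ⊔ N) le_sup_left with h | h
    · exact hNb (by rw [← hNA, inf_eq_right.mpr (h ▸ le_sup_right)])
    · apply hnc
      intro a ha
      refine Subgroup.mem_center_iff.mpr fun g => ?_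
      obtain ⟨b, hb, n, hn, rfl⟩ := (Subgroup.mem_sup_of_normal_left).mp (h ▸ Subgroup.mem_top g : g ∈ A ⊔ N)
      rw [mul_assoc, ← hcomm a ha n hn, ← mul_assoc, hAc b hb a ha, mul_assoc]
  refine ⟨hcard, ?_, ?_, ?_⟩
  · intro hcl
    obtain ⟨P⟩ := (inferInstance : Nonempty (Sylow p G))
    have hdisj : A ⊓ (P : Subgroup G) = ⊥ := by
      rw [eq_bot_iff]
      intro x hx
      obtain ⟨k, hk⟩ := P.isPGroup'.exists_orderOf_eq_pow ⟨x, hx.2⟩
      rw [Subgroup.orderOf_mk] at hk
      rcases Nat.eq_zero_or_pos k with rfl | hk0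
      · simpa using hk
      · exact absurd ((dvd_pow_self p (by omega)).trans (hk ▸ Subgroup.orderOf_dvd_natCard A hx.1)) hAp
    have h1 := hbot _ (hcl P) hdisj
    exact P.not_dvd_index (by rw [h1, Subgroup.index_bot, ← A.card_mul_index, hidx]; exact dvd_mul_left p _)
  · intro H hH S
    by_cases hpH : p ∣ Nat.card H
    · obtain ⟨x, hx⟩ := exists_prime_orderOf_dvd_card' p hpH
      have hxA : (x : G) ∉ A := fun h => hAp (by
        rw [← hx, ← Subgroup.orderOf_coe]; exact Subgroup.orderOf_dvd_natCard A h)
      have hgen : A ⊔ Subgroup.zpowers (x : G) = ⊤ := (hmax _ le_sup_left).resolve_left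
        (fun h => hxA (h ▸ Subgroup.mem_sup_right (Subgroup.mem_zpowers _)))
      set B := A ⊓ H with hB
      have hBn : B.Normal := by
        rw [← Subgroup.normalizer_eq_top_iff, eq_top_iff, ← hgen]
        refine sup_le (fun a ha => ?_) (Subgroup.zpowers_le.mpr ?_)
        · refine Subgroup.centralizer_le_normalizer _ (Subgroup.mem_centralizer_iff.mpr fun b hb => hAc b hb.1 a ha)
        · rw [Subgroup.mem_normalizer_iff]
          intro b
          rw [Subgroup.mem_inf, Subgroup.mem_inf]
          refine and_congr ?_ ?_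
          · exact ⟨fun h => Subgroup.Normal.conj_mem inferInstance b h _, fun h => by
              simpa [mul_assoc] using Subgroup.Normal.conj_mem (inferInstance : A.Normal) _ h (x : G)⁻¹⟩
          · exact ⟨fun h => mul_mem (mul_mem x.2 h) (inv_mem x.2), fun h => by
              simpa [mul_assoc] using mul_mem (mul_mem (inv_mem x.2) h) x.2⟩
      rcases hmin B hBn inf_le_left with h | h
      · -- `H` has order `p`
        have h1 : Nat.card H ∣ p := by
          have h2 := Subgroup.relIndex_bot_left H
          rw [← h, hB, Subgroup.inf_relIndex_right] at h2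
          rw [← h2, ← hidx]
          exact Subgroup.relIndex_dvd_index_of_normal A H
        have h3 : (S : Subgroup H) = ⊤ := by
          have hHp : IsPGroup p H := by
            rcases (Nat.dvd_prime hp).mp h1 with h4 | h4
            · exact IsPGroup.of_card (n := 0) (by rw [h4, pow_zero])
            · exact IsPGroup.of_card (n := 1) (by rw [h4, pow_one])
          exact (S.is_maximal' (hHp.to_subgroup ⊤) le_top).symm
        rw [h3]
        infer_instance
      · exfalso
        apply hH
        rw [eq_top_iff, ← hgen]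
        exact sup_le (inf_eq_left.mp h) (Subgroup.zpowers_le.mpr x.2)
    · have h1 : (S : Subgroup H) = ⊥ := by
        rw [← Subgroup.card_eq_one, S.card_eq_multiplicity, Nat.factorization_eq_zero_of_not_dvd hpH, pow_zero]
      rw [h1]
      infer_instance
  · intro N hN hNb S
    rcases hmin (A ⊓ N) inferInstance inf_le_left with h | h
    · exact absurd (hbot N hN h) hNb
    · have hAN : A ≤ N := inf_eq_left.mp h
      have hd : Nat.card (G ⧸ N) ∣ p := by
        rw [← Subgroup.index_eq_card, ← hidx]
        exact Subgroup.index_dvd_of_le hAN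
      have hQp : IsPGroup p (G ⧸ N) := by
        rcases (Nat.dvd_prime hp).mp hd with h4 | h4
        · exact IsPGroup.of_card (n := 0) (by rw [h4, pow_zero])
        · exact IsPGroup.of_card (n := 1) (by rw [h4, pow_one])
      have h3 : (S : Subgroup (G ⧸ N)) = ⊤ := (S.is_maximal' (hQp.to_subgroup ⊤) le_top).symm
      rw [h3]
      infer_instance


end Cfsg.Agent.S3869
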