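import Cfsg.Statements.S3870
-- import your own Cfsg.Agent.* helpers here

set_option autoImplicit false
open Cfsg

namespace Cfsg.Agent.S3870

/-- Let G be a finite simple group whose Sylow p-subgroups are not normal but such that every proper subgroup of G has a normal Sylow p-subgroup. Then any two distinct Sylow p-subgroups of G intersect trivially, and for every Sylow p-subgroup P the normalizer of every non-identity subgroup of P lies in the normalizer of P. -/
theorem result {G : Type*} [Group G] [Finite G] [IsSimpleGroup G] {p : ℕ} [Fact p.Prime]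
    (hnc : ¬ Cfsg.IsPClosed p G) (hsub : ∀ H : Subgroup G, H ≠ ⊤ → Cfsg.IsPClosed p ↥H) :
    (∀ P Q : Sylow p G, P ≠ Q → (P : Subgroup G) ⊓ (Q : Subgroup G) = ⊥) ∧
      ∀ (P : Sylow p G) (R : Subgroup G), R ≤ P → R ≠ ⊥ →
        Subgroup.normalizer (R : Set G) ≤ Subgroup.normalizer ((P : Subgroup G) : Set G) := by
  have hp : p.Prime := Fact.out
  have main : ∀ d : ℕ, ∀ P Q : Sylow p G,
      Nat.card (P : Subgroup G) - Nat.card ((P : Subgroup G) ⊓ (Q : Subgroup G) : Subgroup G) = d →
      P ≠ Q → (P : Subgroup G) ⊓ (Q : Subgroup G) = ⊥ := by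
    intro d
    induction d using Nat.strong_induction_on with
    | _ d ih =>
    intro P Q hd hne
    by_contra hbot
    set R := (P : Subgroup G) ⊓ (Q : Subgroup G) with hR
    set N := Subgroup.normalizer (R : Set G)
    have hN : N ≠ ⊤ := by
      intro htop
      rcases IsSimpleGroup.eq_bot_or_eq_top_of_normal R (Subgroup.normalizer_eq_top_iff.mp htop) with h | h
      · exact hbot h
      · have h1 : (P : Subgroup G) = ⊤ := eq_top_iff.mpr (h ▸ inf_le_left)
        have h2 : (Q : Subgroup G) = ⊤ := eq_top_iff.mpr (h ▸ inf_le_right)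
        exact hne (Sylow.ext (h1.trans h2.symm))
    obtain ⟨S₀⟩ := (inferInstance : Nonempty (Sylow p N))
    have hS₀n : (S₀ : Subgroup N).Normal := hsub N hN S₀
    obtain ⟨S', hS'⟩ := (S₀.isPGroup'.map N.subtype).exists_le_sylow
    have hmem : ∀ X : Sylow p G, R < (X : Subgroup G) →
        N ⊓ (X : Subgroup G) ≤ (S' : Subgroup G) ∧ R < N ⊓ (X : Subgroup G) := by
      intro X hX
      constructor
      · have h1 : IsPGroup p ((X : Subgroup G).subgroupOf N) := X.isPGroup'.comap_of_injective N.subtype N.subtype_injective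
        obtain ⟨S₁, hS₁⟩ := h1.exists_le_sylow
        obtain ⟨w, hw⟩ := MulAction.exists_smul_eq N S₀ S₁
        rw [Sylow.smul_eq_of_normal (h := hS₀n)] at hw
        intro x hx
        exact hS' ⟨⟨x, hx.1⟩, hw ▸ hS₁ (show (⟨x, hx.1⟩ : N) ∈ (X : Subgroup G).subgroupOf N from hx.2), rfl⟩
      · have hnil : Group.IsNilpotent (X : Subgroup G) := X.isPGroup'.isNilpotent
        have h1 : R.subgroupOf X < ⊤ := by
          rw [lt_top_iff_ne_top, Ne, Subgroup.subgroupOf_eq_top]
          exact not_le_of_gt hX
        have h2 := Group.normalizerCondition_of_isNilpotent _ h1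
        rw [← Subgroup.subgroupOf_normalizer_eq hX.le, SetLike.lt_iff_le_and_exists] at h2
        obtain ⟨x, hx1, hx2⟩ := h2.2
        refine lt_of_le_of_ne (le_inf Subgroup.le_normalizer hX.le) (fun he => hx2 ?_)
        rw [Subgroup.mem_subgroupOf] at hx1 ⊢
        exact he ▸ ⟨hx1, x.2⟩
    have hRP : R < (P : Subgroup G) := by
      refine lt_of_le_of_ne inf_le_left (fun h => hne (Sylow.ext ?_))
      exact (P.is_maximal' Q.isPGroup' (h ▸ inf_le_right)).symm
    have hRQ : R < (Q : Subgroup G) := by
      refine lt_of_le_of_ne inf_le_right (fun h => hne (Sylow.ext ?_))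
      exact (Q.is_maximal' P.isPGroup' (h ▸ inf_le_left))
    have heq : ∀ X : Sylow p G, R < (X : Subgroup G) → X = S' := by
      intro X hX
      by_contra hXS
      have h1 := hmem X hX
      have h2 : R < (X : Subgroup G) ⊓ (S' : Subgroup G) := lt_of_lt_of_le h1.2 (le_inf inf_le_right h1.1)
      have hc : Nat.card R < Nat.card ((X : Subgroup G) ⊓ (S' : Subgroup G) : Subgroup G) :=
        Set.ncard_lt_ncard h2 (Set.toFinite _)
      have hXc : Nat.card (X : Subgroup G) = Nat.card (P : Subgroup G) := by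
        rw [X.card_eq_multiplicity, P.card_eq_multiplicity]
      have hXle : Nat.card ((X : Subgroup G) ⊓ (S' : Subgroup G) : Subgroup G) ≤ Nat.card (X : Subgroup G) :=
        Subgroup.card_le_of_le inf_le_left
      have := ih _ (by omega) X S' rfl hXS
      exact absurd (this ▸ h2) (not_lt_bot)
    exact hne ((heq P hRP).trans (heq Q hRQ).symm)
  refine ⟨fun P Q h => main _ P Q rfl h, ?_⟩
  intro P R hR hne g hg
  change g ∈ Subgroup.normalizer ((P : Set G))
  rw [← Sylow.smul_eq_iff_mem_normalizer]
  by_contra h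
  have h1 := main _ P (g • P) rfl (Ne.symm h)
  refine hne (eq_bot_iff.mpr fun x hx => h1 ▸ Subgroup.mem_inf.mpr ⟨hR hx, ?_⟩)
  rw [Sylow.coe_subgroup_smul, Subgroup.mem_pointwise_smul_iff_inv_smul_mem]
  have := (Subgroup.mem_normalizer_iff.mp (inv_mem hg) x).mp hx
  simpa [MulAut.smul_def] using hR this


end Cfsg.Agent.S3870
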