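import Cfsg.Statements.S3872
import Cfsg.Agent.Lib.PGroup.HallPetrescu
import Cfsg.Agent.Lib.PGroup.RegularBasic
import Cfsg.Agent.Lib.Solvable.CoprimeGeneration
import Cfsg.Agent.Lib.PNilpotent.ClassBound
-- import your own Cfsg.Agent.* helpers here

set_option autoImplicit false
open Cfsg

namespace Cfsg.Agent.S3872

/-- Say that a finite group is p-exponent closed when its elements of order dividing p form a subgroup. Let G be a finite p-group that is not p-exponent closed, but all of whose proper subgroups and proper quotients are. Then G is generated by two elements, has nilpotency class at least p, has exponent p², has cyclic center, and has order at least p^(p+1). -/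
theorem result {G : Type*} [Group G] [Finite G] {p : ℕ} [Fact p.Prime] (hG : IsPGroup p G)
    (hnc : ¬ (∃ H : Subgroup G, (H : Set G) = {g : G | g ^ p = 1})) (hsub : ∀ K : Subgroup G, K ≠ ⊤ → (∃ H : Subgroup ↥K, (H : Set ↥K) = {g : ↥K | g ^ p = 1}))
    (hquo : ∀ (N : Subgroup G) [N.Normal], N ≠ ⊥ → (∃ H : Subgroup (G ⧸ N), (H : Set (G ⧸ N)) = {g : (G ⧸ N) | g ^ p = 1})) :
    (∃ x y : G, Subgroup.closure ({x, y} : Set G) = ⊤) ∧ (⊤ : Subgroup G).lowerCentralSeries (p - 1) ≠ ⊥ ∧
      Monoid.exponent G = p ^ 2 ∧ IsCyclic ↥(Subgroup.center G) ∧ p ^ (p + 1) ≤ Nat.card G := by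
  classical
  haveI hnil : Group.IsNilpotent G := hG.isNilpotent
  have hp : p.Prime := Fact.out
  obtain ⟨x, y, hx, hy, hxy⟩ : ∃ x y : G, x ^ p = 1 ∧ y ^ p = 1 ∧ (x * y) ^ p ≠ 1 := by
    by_contra h
    push Not at h
    exact hnc ⟨{ carrier := {g : G | g ^ p = 1}
                 one_mem' := one_pow p
                 mul_mem' := fun {a b} ha hb => h a b ha hb
                 inv_mem' := fun {a} (ha : a ^ p = 1) => show a⁻¹ ^ p = 1 by rw [inv_pow, ha, inv_one] }, rfl⟩
  have hgen : Subgroup.closure ({x, y} : Set G) = ⊤ := by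
    by_contra hne
    obtain ⟨H, hH⟩ := hsub _ hne
    have hx' : (⟨x, Subgroup.subset_closure (by simp)⟩ : Subgroup.closure ({x, y} : Set G)) ∈ H := by
      rw [← SetLike.mem_coe, hH]; exact Subtype.ext hx
    have hy' : (⟨y, Subgroup.subset_closure (by simp)⟩ : Subgroup.closure ({x, y} : Set G)) ∈ H := by
      rw [← SetLike.mem_coe, hH]; exact Subtype.ext hy
    have h := H.mul_mem hx' hy'
    rw [← SetLike.mem_coe, hH] at h
    exact hxy (congrArg Subtype.val h)
  have key : ∀ (N : Subgroup G) [N.Normal], N ≠ ⊥ → ∀ g : G, g ^ p ∈ N := by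
    intro N _ hN g
    obtain ⟨H, hH⟩ := hquo N hN
    have htop : (⊤ : Subgroup G) ≤ H.comap (QuotientGroup.mk' N) := by
      rw [← hgen, Subgroup.closure_le]
      rintro z (rfl | rfl) <;>
        rw [SetLike.mem_coe, Subgroup.mem_comap, ← SetLike.mem_coe, hH, Set.mem_ofPred_eq, ← map_pow]
      · rw [hx, map_one]
      · rw [hy, map_one]
    have h := htop (Subgroup.mem_top g)
    rw [Subgroup.mem_comap, ← SetLike.mem_coe, hH, Set.mem_ofPred_eq, ← map_pow] at h
    exact (QuotientGroup.eq_one_iff _).mp h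
  set w := (x * y) ^ p with hw
  have hwN : ∀ (N : Subgroup G) [N.Normal], N ≠ ⊥ → w ∈ N := fun N _ hN => key N hN _
  obtain ⟨n, hn⟩ := IsPGroup.iff_card.mp hG
  haveI : Nontrivial G := ⟨⟨w, 1, hxy⟩⟩
  have hcz : ∀ z ∈ Subgroup.center G, z ≠ 1 → w ∈ Subgroup.zpowers z := fun z hz hz1 => by
    haveI : (Subgroup.zpowers z).Normal := ⟨fun u hu g => by
      have hu' : u ∈ Subgroup.center G := (Subgroup.zpowers_le.mpr hz) hu
      rw [Subgroup.mem_center_iff.mp hu' g, mul_inv_cancel_right]; exact hu⟩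
    exact hwN _ (by simpa using hz1)
  haveI := hG.center_nontrivial
  obtain ⟨c, hc⟩ := exists_ne (1 : Subgroup.center G)
  have hwZ : w ∈ Subgroup.center G := (Subgroup.zpowers_le.mpr c.2) (hcz c c.2 (by simpa using hc))
  have hwp : w ^ p = 1 := by
    obtain ⟨z, hz⟩ := exists_prime_orderOf_dvd_card' (G := Subgroup.center G) p
      ((hG.to_subgroup _).card_eq_or_dvd.resolve_left (Finite.one_lt_card_iff_nontrivial.mpr inferInstance).ne')
    have hz' : orderOf (z : G) = p := by rw [Subgroup.orderOf_coe, hz]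
    have h := hcz z z.2 (fun h => hp.ne_one (by rw [← hz', h, orderOf_one]))
    obtain ⟨k, hk⟩ := Subgroup.mem_zpowers_iff.mp h
    rw [← hk, ← zpow_natCast, zpow_comm, zpow_natCast, ← hz', pow_orderOf_eq_one, one_zpow]
  have hexp : ∀ g : G, g ^ p ^ 2 = 1 := fun g => by
    haveI : (Subgroup.zpowers w).Normal := ⟨fun u hu g => by
      rw [Subgroup.mem_center_iff.mp ((Subgroup.zpowers_le.mpr hwZ) hu) g, mul_inv_cancel_right]; exact hu⟩
    obtain ⟨k, hk⟩ := Subgroup.mem_zpowers_iff.mp (key (Subgroup.zpowers w) (by simpa using hxy) g)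
    rw [pow_two, pow_mul, ← hk, ← zpow_natCast, zpow_comm, zpow_natCast, hwp, one_zpow]
  have hclass : (⊤ : Subgroup G).lowerCentralSeries (p - 1) ≠ ⊥ := by
    intro h
    refine hnc ⟨CfsgLib.PGroup.regularOmega (CfsgLib.PGroup.isRegularPGroup_of_class_lt hG h) 1, ?_⟩
    ext g
    change g ^ p ^ 1 = 1 ↔ g ^ p = 1
    rw [pow_one]
  refine ⟨⟨x, y, hgen⟩, hclass, ?_, ?_, ?_⟩
  · refine Nat.dvd_antisymm (Monoid.exponent_dvd_of_forall_pow_eq_one hexp) ?_
    have h1 : orderOf (x * y) ∣ p ^ 2 := orderOf_dvd_of_pow_eq_one (hexp _)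
    obtain ⟨i, hi, hio⟩ := (Nat.dvd_prime_pow hp).mp h1
    have : i = 2 := by
      by_contra hi2
      exact hxy (orderOf_dvd_iff_pow_eq_one.mp (hio ▸ (pow_dvd_pow p (by omega : i ≤ 1)).trans (pow_one p).dvd))
    exact (this ▸ hio) ▸ Monoid.order_dvd_exponent _
  · letI : CommGroup (Subgroup.center G) := { (inferInstance : Group (Subgroup.center G)) with mul_comm := fun a b => Subtype.ext (Subgroup.mem_center_iff.mp b.2 a) }
    refine CfsgLib.Solvable.isCyclic_of_card_pow_prime_le fun q hq => ?_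
    haveI : Fact q.Prime := ⟨hq⟩
    have hle : (powMonoidHom q : Subgroup.center G →* Subgroup.center G).ker.map (Subgroup.center G).subtype ≤
        Subgroup.zpowers w := by
      rintro _ ⟨⟨z, hz⟩, hzq, rfl⟩
      have hzq' : z ^ q = 1 := congrArg Subtype.val hzq
      rcases eq_or_ne z 1 with rfl | hz1
      · exact one_mem _
      obtain ⟨i, hi⟩ := hG z
      have hoq : orderOf z = q := orderOf_eq_prime hzq' hz1
      have hqp : q = p := (Nat.prime_dvd_prime_iff_eq hq hp).mp (hq.dvd_of_dvd_pow (hoq ▸ orderOf_dvd_of_pow_eq_one hi))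
      have hwz := hcz z hz hz1
      have hcard : Nat.card (Subgroup.zpowers z) ≤ Nat.card (Subgroup.zpowers w) := by
        rw [Nat.card_zpowers, Nat.card_zpowers, hoq, hqp, orderOf_eq_prime hwp hxy]
      exact (Subgroup.eq_of_le_of_card_ge (Subgroup.zpowers_le.mpr hwz) hcard).ge (Subgroup.mem_zpowers z)
    rw [← Subgroup.card_map_of_injective (Subgroup.center G).subtype_injective]
    rcases eq_or_ne q p with rfl | hqp
    · exact (Subgroup.card_le_of_le hle).trans (le_of_eq (by rw [Nat.card_zpowers, orderOf_eq_prime hwp hxy]))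
    · refine (le_of_eq (Subgroup.card_eq_one.mpr ?_)).trans hq.one_lt.le
      rw [eq_bot_iff]
      rintro _ ⟨⟨z, hz⟩, hzq, rfl⟩
      obtain ⟨i, hi⟩ := hG z
      have h1 : orderOf z ∣ Nat.gcd q (p ^ i) :=
        Nat.dvd_gcd (orderOf_dvd_of_pow_eq_one (congrArg Subtype.val hzq)) (orderOf_dvd_of_pow_eq_one hi)
      rw [Nat.Coprime.pow_right i ((Nat.coprime_primes hq hp).mpr hqp)] at h1
      exact Subgroup.mem_bot.mpr (orderOf_eq_one_iff.mp (Nat.dvd_one.mp h1))
  · rw [hn]
    refine Nat.pow_le_pow_right hp.pos ?_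
    by_contra hlt
    refine hclass (Subgroup.lowerCentralSeries_eq_bot_iff_nilpotencyClass_le.mpr ?_)
    exact (CfsgLib.PNilpotent.class_le n G hn).trans (by have := hp.two_le; omega)


end Cfsg.Agent.S3872
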