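import Cfsg.Statements.S3873
import Cfsg.Agent.Lib.PNilpotent.Irreducible
-- import your own Cfsg.Agent.* helpers here

set_option autoImplicit false
open Cfsg

namespace Cfsg.Agent.S3873

/-- Say that a finite group is p-exponent closed when its elements of order dividing p form a subgroup. Let G be a finite group that is not p-exponent closed, but all of whose proper subgroups and proper quotients are, and suppose G is neither simple nor a p-group. Then there is a prime q ≠ p such that G has order p · q^e, where e is the multiplicative order of q modulo p, and G has a normal elementary abelian subgroup of order q^e that is a minimal normal subgroup of G. -/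
theorem result {G : Type*} [Group G] [Finite G] {p : ℕ} [Fact p.Prime]
    (hnc : ¬ (∃ H : Subgroup G, (H : Set G) = {g : G | g ^ p = 1})) (hsub : ∀ K : Subgroup G, K ≠ ⊤ → (∃ H : Subgroup ↥K, (H : Set ↥K) = {g : ↥K | g ^ p = 1}))
    (hquo : ∀ (N : Subgroup G) [N.Normal], N ≠ ⊥ → (∃ H : Subgroup (G ⧸ N), (H : Set (G ⧸ N)) = {g : (G ⧸ N) | g ^ p = 1}))
    (hns : ¬ IsSimpleGroup G) (hnp : ¬ IsPGroup p G) :
    ∃ q : ℕ, q.Prime ∧ q ≠ p ∧ Nat.card G = p * q ^ orderOf (q : ZMod p) ∧
      ∃ A : Subgroup G, A.Normal ∧ Nat.card ↥A = q ^ orderOf (q : ZMod p) ∧ Cfsg.IsElementaryAbelian q A ∧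
        ∀ B : Subgroup G, B.Normal → B ≤ A → B = ⊥ ∨ B = A := by
  have hp : p.Prime := Fact.out
  -- two generators of order dividing `p`
  obtain ⟨x, y, hx, hy, hxy⟩ : ∃ x y : G, x ^ p = 1 ∧ y ^ p = 1 ∧ (x * y) ^ p ≠ 1 := by
    by_contra hcon
    push Not at hcon
    exact hnc ⟨{ carrier := {g | g ^ p = 1}
                 one_mem' := one_pow _
                 mul_mem' := fun {a b} ha hb => hcon a b ha hb
                 inv_mem' := fun {a} ha => by
                   simp only [Set.mem_ofPred_eq] at ha ⊢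
                   rw [inv_pow, ha, inv_one] }, rfl⟩
  have hgen : ∀ K : Subgroup G, x ∈ K → y ∈ K → K = ⊤ := by
    intro K hxK hyK
    by_contra hK
    obtain ⟨H, hH⟩ := hsub K hK
    have h1 : (⟨x, hxK⟩ : K) ∈ (H : Set K) := by rw [hH]; exact Subtype.ext hx
    have h2 : (⟨y, hyK⟩ : K) ∈ (H : Set K) := by rw [hH]; exact Subtype.ext hy
    have h3 : (⟨x, hxK⟩ * ⟨y, hyK⟩ : K) ∈ (H : Set K) := H.mul_mem h1 h2
    rw [hH] at h3
    exact hxy (congrArg Subtype.val h3)
  obtain ⟨N₀, hN₀, hN₀b, hN₀t⟩ : ∃ N : Subgroup G, N.Normal ∧ N ≠ ⊥ ∧ N ≠ ⊤ := by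
    by_contra hcon
    push Not at hcon
    have hnt : Nontrivial G := ⟨⟨_, _, hxy⟩⟩
    exact hns ⟨fun N hN => or_iff_not_imp_left.mpr (hcon N hN)⟩
  obtain ⟨A, ⟨hAn, hAb, hAt⟩, hAmin⟩ := (Set.toFinite {N : Subgroup G | N.Normal ∧ N ≠ ⊥ ∧ N ≠ ⊤}).exists_minimal
    ⟨N₀, hN₀, hN₀b, hN₀t⟩
  have hmin : ∀ B : Subgroup G, B.Normal → B ≤ A → B = ⊥ ∨ B = A := by
    intro B hB hBA
    rcases eq_or_ne B ⊥ with h | h
    · exact Or.inl h
    · exact Or.inr (le_antisymm hBA (hAmin ⟨hB, h, fun e => hAt (top_le_iff.mp (e ▸ hBA))⟩ hBA))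
  haveI := hAn
  -- the quotient has exponent `p`
  have hqexp : ∀ g : G ⧸ A, g ^ p = 1 := by
    obtain ⟨H, hH⟩ := hquo A hAb
    have h1 : H.comap (QuotientGroup.mk' A) = ⊤ := by
      refine hgen _ ?_ ?_
      · change QuotientGroup.mk' A x ∈ (H : Set (G ⧸ A))
        rw [hH, Set.mem_ofPred_eq, ← map_pow, hx, map_one]
      · change QuotientGroup.mk' A y ∈ (H : Set (G ⧸ A))
        rw [hH, Set.mem_ofPred_eq, ← map_pow, hy, map_one]
    intro g
    obtain ⟨g, rfl⟩ := QuotientGroup.mk'_surjective A g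
    have h2 : g ∈ H.comap (QuotientGroup.mk' A) := h1 ▸ Subgroup.mem_top g
    have h3 : QuotientGroup.mk' A g ∈ (H : Set (G ⧸ A)) := h2
    rwa [hH] at h3
  have hqp : IsPGroup p (G ⧸ A) := fun g => ⟨1, by rw [pow_one]; exact hqexp g⟩
  have hAnp : ¬ IsPGroup p A := fun h => hnp (by
    intro g
    obtain ⟨k, hk⟩ := hqp (g : G ⧸ A)
    rw [← QuotientGroup.mk_pow, QuotientGroup.eq_one_iff] at hk
    obtain ⟨l, hl⟩ := h ⟨_, hk⟩
    exact ⟨k + l, by rw [pow_add, pow_mul]; exact congrArg Subtype.val hl⟩)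
  have hAp : ¬ p ∣ Nat.card A := by
    intro hd
    obtain ⟨H, hH⟩ := hsub A hAt
    have hHc : H.Characteristic := by
      refine Subgroup.characteristic_iff_map_le.mpr fun f => ?_
      rintro _ ⟨z, hz, rfl⟩
      have h1 : z ∈ (H : Set A) := hz
      rw [hH] at h1
      change f z ∈ (H : Set A)
      rw [hH, Set.mem_ofPred_eq, ← map_pow, show z ^ p = 1 from h1, map_one]
    rcases hmin _ (inferInstance : (H.map A.subtype).Normal) (Subgroup.map_subtype_le H) with h | h
    · obtain ⟨z, hz⟩ := exists_prime_orderOf_dvd_card' p hd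
      have h1 : z ∈ H := by
        change z ∈ (H : Set A)
        rw [hH, Set.mem_ofPred_eq, ← hz, pow_orderOf_eq_one]
      rw [Subgroup.map_eq_bot_iff_of_injective _ A.subtype_injective] at h
      rw [h, Subgroup.mem_bot] at h1
      exact hp.ne_one (by rw [← hz, h1, orderOf_one])
    · refine hAnp fun a => ⟨1, ?_⟩
      obtain ⟨z, hz, hza⟩ := (h.ge a.2 : (a : G) ∈ H.map A.subtype)
      have h1 : z ∈ (H : Set A) := hz
      rw [hH] at h1
      rw [pow_one, ← Subtype.ext (a1 := z) (a2 := a) hza]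
      exact h1
  -- `p`-elements in a proper subgroup containing a Sylow subgroup
  have hsyl : ∀ (U : Subgroup G) (X : Subgroup G), U ≠ ⊤ → X ≤ U → IsPGroup p X → ∀ a ∈ A ⊓ U,
      (∀ z ∈ X, z ^ p = 1) → a ∈ Subgroup.normalizer (X : Set G) ∨
      ∃ W : Subgroup G, W ≤ U ∧ X ≤ W ∧ IsPGroup p W ∧ a ∈ Subgroup.normalizer (W : Set G) := by
    intro U X hU hXU _ a ha hX
    right
    obtain ⟨H, hH⟩ := hsub U hU
    have hmem : ∀ z : U, z ∈ H ↔ z ^ p = 1 := fun z => by
      rw [← SetLike.mem_coe, hH, Set.mem_ofPred_eq]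
    refine ⟨H.map U.subtype, Subgroup.map_subtype_le H, fun z hz => ⟨⟨z, hXU hz⟩, (hmem _).mpr (Subtype.ext (hX z hz)), rfl⟩,
      IsPGroup.map (fun z => ⟨1, by rw [pow_one]; exact Subtype.ext ((hmem z).mp z.2)⟩) _, ?_⟩
    rw [Subgroup.mem_normalizer_iff_conj_image_eq]
    refine Set.eq_of_subset_of_ncard_le ?_ (le_of_eq (Set.ncard_image_of_injective _ (MulAut.conj a).injective).symm) (Set.toFinite _)
    rintro _ ⟨_, ⟨z, hz, rfl⟩, rfl⟩
    refine ⟨⟨a, ha.2⟩ * z * ⟨a, ha.2⟩⁻¹, (hmem _).mpr ?_, rfl⟩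
    rw [conj_pow, (hmem z).mp hz, mul_one, mul_inv_cancel]
  -- `a` normalising a `p`-subgroup containing `X` centralises `X`
  have hcent : ∀ (W : Subgroup G), IsPGroup p W → ∀ a ∈ A, a ∈ Subgroup.normalizer (W : Set G) →
      ∀ z ∈ W, a * z = z * a := by
    intro W hW a ha haN z hz
    have h1 : a * z * a⁻¹ * z⁻¹ ∈ W := mul_mem ((Subgroup.mem_normalizer_iff.mp haN z).mp hz) (inv_mem hz)
    have h2 : a * z * a⁻¹ * z⁻¹ ∈ A := by
      rw [mul_assoc a z, mul_assoc a]
      exact mul_mem ha (hAn.conj_mem _ (inv_mem ha) z)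
    obtain ⟨k, hk⟩ := hW.exists_orderOf_eq_pow ⟨_, h1⟩
    rw [Subgroup.orderOf_mk] at hk
    have h3 : a * z * a⁻¹ * z⁻¹ = 1 := by
      rcases Nat.eq_zero_or_pos k with rfl | hk0
      · simpa using hk
      · exact absurd ((dvd_pow_self p (by omega)).trans (hk ▸ Subgroup.orderOf_dvd_natCard A h2)) hAp
    rwa [mul_inv_eq_one, mul_inv_eq_iff_eq_mul] at h3
  obtain ⟨P⟩ := (inferInstance : Nonempty (Sylow p G))
  have hcomp : ∀ R : Sylow p G, A.IsComplement' (R : Subgroup G) := by
    intro R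
    refine Subgroup.isComplement'_of_coprime ?_ ?_
    · obtain ⟨n, hn⟩ := hqp.exists_card_eq
      rw [← A.card_mul_index, Subgroup.index_eq_card A, hn, R.card_eq_multiplicity, ← A.card_mul_index,
        Subgroup.index_eq_card A, hn, Nat.factorization_mul Nat.card_pos.ne' (pow_ne_zero _ hp.ne_zero),
        Finsupp.add_apply, Nat.factorization_eq_zero_of_not_dvd hAp, zero_add, hp.factorization_pow,
        Finsupp.single_eq_same]
    · obtain ⟨n, hn⟩ := R.isPGroup'.exists_card_eq
      rw [hn]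
      exact Nat.Coprime.pow_right _ (Nat.coprime_comm.mp ((Nat.Prime.coprime_iff_not_dvd hp).mpr hAp))
  have hPexp : ∀ R : Sylow p G, ∀ z ∈ (R : Subgroup G), z ^ p = 1 := by
    intro R z hz
    have h1 : z ^ p ∈ A := by
      rw [← QuotientGroup.eq_one_iff, QuotientGroup.mk_pow]; exact hqexp _
    exact Subgroup.disjoint_def.mp (hcomp R).disjoint h1 (pow_mem hz p)
  have hprop : ∀ (R : Sylow p G) (Q : Subgroup G), Q ≤ A → Q ≠ A →
      (R : Subgroup G) ≤ Subgroup.normalizer (Q : Set G) → (R : Subgroup G) ≤ Subgroup.centralizer (Q : Set G) := by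
    intro R Q hQ hQA hRN
    set U := (R : Subgroup G) ⊔ Q
    have hU : U ≠ ⊤ := by
      intro h
      refine hQA (le_antisymm hQ fun a ha => ?_)
      haveI : Q.Normal := Subgroup.normalizer_eq_top_iff.mp (eq_top_iff.mpr (h ▸ sup_le hRN Subgroup.le_normalizer))
      obtain ⟨r, hr, q, hq, hrq⟩ := Subgroup.mem_sup_of_normal_right.mp (show a ∈ U by rw [h]; exact Subgroup.mem_top a)
      have hrA : r ∈ A := by
        have := mul_mem ha (inv_mem (hQ hq))
        rwa [← hrq, mul_inv_cancel_right] at this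
      rwa [← hrq, Subgroup.disjoint_def.mp (hcomp R).disjoint hrA hr, one_mul]
    intro r hr
    rw [Subgroup.mem_centralizer_iff]
    intro q hq
    rcases hsyl U R hU le_sup_left R.isPGroup' q ⟨hQ hq, (le_sup_right : Q ≤ U) hq⟩ (hPexp R) with h | ⟨W, -, hXW, hW, h⟩
    · exact hcent _ R.isPGroup' q (hQ hq) h r hr
    · exact hcent W hW q (hQ hq) h r (hXW hr)
  have hno : ∀ R : Sylow p G, ¬ A ≤ Subgroup.centralizer ((R : Subgroup G) : Set G) := by
    intro R h
    haveI hn : (R : Subgroup G).Normal := by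
      rw [← Subgroup.normalizer_eq_top_iff, eq_top_iff, ← (hcomp R).sup_eq_top]
      exact sup_le (h.trans (Subgroup.centralizer_le_normalizer _)) Subgroup.le_normalizer
    haveI := Sylow.unique_of_normal R hn
    have hmemR : ∀ g : G, g ^ p = 1 → g ∈ (R : Subgroup G) := by
      intro g hg
      obtain ⟨S, hS⟩ := (show IsPGroup p (Subgroup.zpowers g) from fun z => ⟨1, by
        obtain ⟨k, hk⟩ := Subgroup.mem_zpowers_iff.mp z.2
        refine Subtype.ext ?_
        rw [pow_one, Subgroup.coe_pow, ← hk, ← zpow_natCast, zpow_comm, zpow_natCast, hg, one_zpow]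
        rfl⟩).exists_le_sylow
      exact Subsingleton.elim S R ▸ hS (Subgroup.mem_zpowers g)
    exact hxy (hPexp R _ (mul_mem (hmemR x hx) (hmemR y hy)))
  obtain ⟨q, hq, hqp', hAq⟩ := CfsgLib.PNilpotent.exists_prime_isPGroup_of_centralizes A hAp P
    (hcomp P).sup_eq_top hprop (hno P)
  haveI : Fact q.Prime := ⟨hq⟩
  have hel := CfsgLib.PNilpotent.isElementaryAbelian_of_minimal A hAq hAb hmin
  have hnc' : ¬ A ≤ Subgroup.center G := fun h => hno P fun a ha =>
    Subgroup.mem_centralizer_iff.mpr fun z _ => Subgroup.mem_center_iff.mp (h ha) z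
  have hidx : A.index = p := by
    obtain ⟨n, hn⟩ := P.isPGroup'.exists_card_eq
    rw [(hcomp P).symm.index_eq_card, hn]
    by_contra hne
    -- each generator centralises `A`
    have hz : ∀ z : G, z ^ p = 1 → ∀ a ∈ A, a * z = z * a := by
      intro z hz a ha
      by_cases hU : A ⊔ Subgroup.zpowers z = ⊤
      · exfalso
        have h1 : A.index ∣ p := by
          rw [← Subgroup.relIndex_top_right, ← hU, sup_comm, Subgroup.relIndex_sup_right]
          refine (Subgroup.relIndex_dvd_card _ _).trans ?_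
          rw [Nat.card_zpowers]
          exact orderOf_dvd_of_pow_eq_one hz
        rw [(hcomp P).symm.index_eq_card, hn] at h1
        rcases (Nat.dvd_prime hp).mp h1 with h | h
        · have hPb : (P : Subgroup G) = ⊥ := Subgroup.card_eq_one.mp (by rw [hn, h])
          refine hno P ?_
          rw [hPb]; intro w _; refine Subgroup.mem_centralizer_iff.mpr fun v hv => ?_
          rw [Subgroup.mem_bot.mp hv, one_mul, mul_one]
        · exact hne h
      · have hzp : IsPGroup p (Subgroup.zpowers z) := fun w => ⟨1, by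
          obtain ⟨k, hk⟩ := Subgroup.mem_zpowers_iff.mp w.2
          refine Subtype.ext ?_
          rw [pow_one, Subgroup.coe_pow, ← hk, ← zpow_natCast, zpow_comm, zpow_natCast, hz, one_zpow]
          rfl⟩
        rcases hsyl _ _ hU le_sup_right hzp a ⟨ha, Subgroup.mem_sup_left ha⟩ (fun w hw => by
          obtain ⟨k, hk⟩ := Subgroup.mem_zpowers_iff.mp hw
          rw [← hk, ← zpow_natCast, zpow_comm, zpow_natCast, hz, one_zpow]) with h | ⟨W, -, hXW, hW, h⟩
        · exact hcent _ hzp a ha h z (Subgroup.mem_zpowers z)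
        · exact hcent W hW a ha h z (hXW (Subgroup.mem_zpowers z))
    apply hnc'
    intro a ha
    rw [Subgroup.mem_center_iff]
    intro g
    have h1 : Subgroup.centralizer ({a} : Set G) = ⊤ := by
      refine hgen _ ?_ ?_ <;> refine Subgroup.mem_centralizer_iff.mpr fun w hw => ?_ <;>
        rw [Set.mem_singleton_iff.mp hw]
      · exact hz x hx a ha
      · exact hz y hy a ha
    exact (Subgroup.mem_centralizer_iff.mp (h1.ge (Subgroup.mem_top g) : g ∈ Subgroup.centralizer ({a} : Set G)) a rfl).symm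
  have hcard := CfsgLib.PNilpotent.card_minimal_normal_prime_index hq hqp' A hel hidx hnc' hmin
  refine ⟨q, hq, hqp', ?_, A, hAn, hcard, hel, hmin⟩
  rw [← A.card_mul_index, hidx, hcard, mul_comm]


end Cfsg.Agent.S3873
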