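import Cfsg.Statements.S3878
import Cfsg.Agent.Lib.PiHallSymm
-- import your own Cfsg.Agent.* helpers here

set_option autoImplicit false
open Cfsg

namespace Cfsg.Agent.S3878

/-- For a set of primes π the following are equivalent: every finite group has a Hall π-subgroup; in every finite group the maximal π-subgroups are pairwise conjugate; π contains at most one prime or contains every prime. -/
theorem result (π : Set ℕ) :
    ((∀ (G : Type) [Group G] [Finite G], Cfsg.IsEPiGroup π G) ↔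
      ((∀ p q : ℕ, p.Prime → q.Prime → p ∈ π → q ∈ π → p = q) ∨ ∀ p : ℕ, p.Prime → p ∈ π)) ∧
    ((∀ (G : Type) [Group G] [Finite G], Cfsg.IsDPiGroup π G) ↔
      ((∀ p q : ℕ, p.Prime → q.Prime → p ∈ π → q ∈ π → p = q) ∨ ∀ p : ℕ, p.Prime → p ∈ π)) := by
  have mpr : ((∀ p q : ℕ, p.Prime → q.Prime → p ∈ π → q ∈ π → p = q) ∨ ∀ p : ℕ, p.Prime → p ∈ π) →
      ∀ (G : Type) [Group G] [Finite G], Cfsg.IsEPiGroup π G ∧ Cfsg.IsDPiGroup π G := by
    intro h G _ _
    rcases h with h | h
    · by_cases hex : ∃ p, p.Prime ∧ p ∈ π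
      · obtain ⟨p, hp, hpπ⟩ := hex
        haveI : Fact p.Prime := ⟨hp⟩
        have key : ∀ K : Subgroup G, Cfsg.IsPiSubgroup π K ↔ IsPGroup p K := fun K =>
          ⟨fun hK => IsPGroup.of_card (Nat.eq_prime_pow_of_unique_prime_dvd Nat.card_pos.ne'
              fun {d} hd hdv => h d p hd hp (hK d hd hdv) hpπ),
            fun hK d hd hdv => by
              obtain ⟨m, hm⟩ := hK.exists_card_eq
              rw [hm] at hdv
              rwa [(Nat.prime_dvd_prime_iff_eq hd hp).mp (hd.dvd_of_dvd_pow hdv)]⟩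
        refine ⟨?_, fun H K hH hK => ?_⟩
        · obtain ⟨P⟩ := (inferInstance : Nonempty (Sylow p G))
          refine ⟨P, (key _).mpr P.isPGroup', fun d hd hdπ => ?_⟩
          rw [h d p hd hp hdπ hpπ]
          exact P.not_dvd_index
        · let P : Sylow p G := ⟨H, (key H).mp hH.1, fun {Q} hQ hle => le_antisymm (hH.2 ((key Q).mpr hQ) hle) hle⟩
          let Q : Sylow p G := ⟨K, (key K).mp hK.1, fun {Q} hQ hle => le_antisymm (hK.2 ((key Q).mpr hQ) hle) hle⟩
          obtain ⟨g, hg⟩ := MulAction.exists_smul_eq G P Q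
          exact ⟨g, (congrArg (fun S : Sylow p G => (S : Subgroup G)) hg).symm⟩
      · push Not at hex
        have key : ∀ K : Subgroup G, Cfsg.IsPiSubgroup π K → K = ⊥ := fun K hK => Subgroup.card_eq_one.mp (by
          by_contra hne
          obtain ⟨d, hd, hdv⟩ := Nat.exists_prime_and_dvd hne
          exact hex d hd (hK d hd hdv))
        refine ⟨⟨⊥, fun d hd hdv => ?_, fun d hd hdπ => absurd hdπ (hex d hd)⟩, fun H K hH hK => ⟨1, ?_⟩⟩
        · rw [Subgroup.card_bot] at hdv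
          exact absurd (Nat.dvd_one.mp hdv) hd.ne_one
        · rw [key H hH.1, key K hK.1, Subgroup.map_bot]
    · refine ⟨⟨⊤, fun d hd _ => h d hd, fun d hd _ hdv => ?_⟩, fun H K hH hK => ⟨1, ?_⟩⟩
      · rw [Subgroup.index_top] at hdv
        exact hd.ne_one (Nat.dvd_one.mp hdv)
      · have h1 : H = ⊤ := top_le_iff.mp (hH.2 (fun d hd _ => h d hd) le_top)
        have h2 : K = ⊤ := top_le_iff.mp (hK.2 (fun d hd _ => h d hd) le_top)
        rw [h1, h2, Subgroup.map_top_of_surjective _ (MulAut.conj 1).surjective]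
  have mp : (∀ (G : Type) [Group G] [Finite G], Cfsg.IsEPiGroup π G) →
      ((∀ p q : ℕ, p.Prime → q.Prime → p ∈ π → q ∈ π → p = q) ∨ ∀ p : ℕ, p.Prime → p ∈ π) := by
    intro hall
    by_contra hne
    push Not at hne
    obtain ⟨⟨p₀, q₀, hp₀, hq₀, hp₀π, hq₀π, hpq₀⟩, r, hr, hrπ⟩ := hne
    obtain ⟨p, q, hp, hq, hpπ, hqπ, hpq, h2⟩ : ∃ p q, p.Prime ∧ q.Prime ∧ p ∈ π ∧ q ∈ π ∧ p ≠ q ∧ (2 ∈ π → q = 2) := by
      by_cases h2 : 2 ∈ π
      · by_cases h : p₀ = 2
        · exact ⟨q₀, 2, hq₀, Nat.prime_two, hq₀π, h2, fun hh => hpq₀ (h.trans hh.symm), fun _ => rfl⟩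
        · exact ⟨p₀, 2, hp₀, Nat.prime_two, hp₀π, h2, h, fun _ => rfl⟩
      · exact ⟨p₀, q₀, hp₀, hq₀, hp₀π, hq₀π, hpq₀, fun hh => absurd hh h2⟩
    haveI : Fact q.Prime := ⟨hq⟩
    haveI : NeZero q := ⟨hq.ne_zero⟩
    set a := (q - 1) * (r + q) with ha
    have hmod : p ^ a ≡ 1 [MOD q] := by
      rw [ha, pow_mul]
      have h := (Nat.ModEq.pow_totient ((Nat.coprime_primes hp hq).mpr hpq)).pow (r + q)
      rwa [Nat.totient_prime hq, one_pow] at h
    obtain ⟨k, hk⟩ : q ∣ p ^ a - 1 := (Nat.modEq_iff_dvd' (Nat.one_le_pow _ _ hp.pos)).mp hmod.symm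
    have hn : k * q + 1 = p ^ a := by
      have := Nat.one_le_pow a p hp.pos
      rw [mul_comm, ← hk]; omega
    have hbig : r + q < p ^ a := by
      refine lt_of_lt_of_le (Nat.lt_two_pow_self (n := r + q)) ?_
      refine (Nat.pow_le_pow_left hp.two_le _).trans (Nat.pow_le_pow_right hp.pos ?_)
      exact Nat.le_mul_of_pos_left _ (Nat.sub_pos_of_lt hq.one_lt)
    have hk0 : 0 < k := Nat.pos_of_ne_zero fun h => by subst h; have := hr.two_le; omega
    have hα : Nat.card (Option (Fin k × ZMod q)) = p ^ a := CfsgLib.PiHallSymm.card_option_prod.trans hn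
    obtain ⟨H₀, hH₀1, hH₀2⟩ := hall (Equiv.Perm (Option (Fin k × ZMod q)))
    have hEq : IsPGroup q (CfsgLib.PiHallSymm.rowHom k q).range := by
      rw [MonoidHom.range_eq_map]
      refine IsPGroup.map ?_ _
      exact (IsPGroup.of_card (n := k) (by
        rw [Nat.card_congr Multiplicative.toAdd, Nat.card_fun, Nat.card_zmod, Nat.card_fin])).to_subgroup _
    obtain ⟨S, hS⟩ := hEq.exists_le_sylow
    obtain ⟨T⟩ := (inferInstance : Nonempty (Sylow q H₀))
    have hT : Nat.card ((T : Subgroup H₀).map H₀.subtype) = q ^ (Nat.card (Equiv.Perm (Option (Fin k × ZMod q)))).factorization q := by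
      rw [Subgroup.card_map_of_injective H₀.subtype_injective, T.card_eq_multiplicity]
      congr 1
      have h1 := H₀.card_mul_index
      rw [← h1, Nat.factorization_mul Nat.card_pos.ne' Subgroup.index_ne_zero_of_finite, Finsupp.add_apply,
        Nat.factorization_eq_zero_of_not_dvd (hH₀2 q hq hqπ), add_zero]
    obtain ⟨g, hg⟩ := MulAction.exists_smul_eq (Equiv.Perm (Option (Fin k × ZMod q))) (Sylow.ofCard _ hT) S
    set H := H₀.map (MulAut.conj g).toMonoidHom with hH
    have hHc : Nat.card H = Nat.card H₀ := Subgroup.card_map_of_injective (MulAut.conj g).injective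
    have hHi : H.index = H₀.index := Subgroup.index_map_of_bijective (MulAut.conj g).bijective _
    have hE : (CfsgLib.PiHallSymm.rowHom k q).range ≤ H := by
      refine hS.trans ?_
      rw [← hg]
      exact Subgroup.map_mono (Subgroup.map_subtype_le _)
    haveI : MulAction.IsPretransitive H (Option (Fin k × ZMod q)) :=
      CfsgLib.PiHallSymm.isPretransitive_of_not_dvd_index hp hα H (by rw [hHi]; exact hH₀2 p hp hpπ)
    by_cases h2π : 2 ∈ π
    · obtain rfl := h2 h2π
      obtain ⟨w, hw, hws⟩ := CfsgLib.PiHallSymm.exists_swap hk0 hE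
      have htop : H = ⊤ := Equiv.Perm.subgroup_eq_top_of_isPreprimitive_of_isSwap_mem
        (CfsgLib.PiHallSymm.isPreprimitive_of_rows one_lt_two hE) w hws hw
      refine hrπ (hH₀1 r hr ?_)
      rw [← hHc, htop, Subgroup.card_top, Nat.card_perm, hα]
      exact Nat.dvd_factorial hr.pos (by omega)
    · have h2t := CfsgLib.PiHallSymm.isMultiplyPretransitive_two_of_rows hq.one_lt hk0 hE
      rw [MulAction.is_two_pretransitive_iff] at h2t
      have hne : (none : Option (Fin k × ZMod q)) ≠ some (⟨0, hk0⟩, 0) := (Option.some_ne_none _).symm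
      obtain ⟨w, hw1, hw2⟩ := h2t hne hne.symm
      refine h2π (hH₀1 2 Nat.prime_two ?_)
      rw [← hHc]
      refine (?_ : 2 ∣ orderOf w).trans (orderOf_dvd_natCard w)
      by_contra hodd
      obtain ⟨m, hm⟩ := Nat.odd_iff.mpr (Nat.two_dvd_ne_zero.mp hodd)
      have h3 : w ^ (2 * m + 1) • (none : Option (Fin k × ZMod q)) = none := by rw [← hm, pow_orderOf_eq_one, one_smul]
      have h4 : (w ^ 2) • (none : Option (Fin k × ZMod q)) = none := by rw [pow_two, mul_smul, hw1, hw2]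
      have h5 : (w ^ 2) ^ m • (none : Option (Fin k × ZMod q)) = none :=
        MulAction.mem_stabilizer_iff.mp (pow_mem (MulAction.mem_stabilizer_iff.mpr h4) m)
      rw [pow_succ', mul_smul, pow_mul, h5, hw1] at h3
      exact hne h3.symm
  refine ⟨⟨mp, fun h G _ _ => (mpr h G).1⟩, ⟨fun h => mp fun G _ _ => ?_, fun h G _ _ => (mpr h G).2⟩⟩
  obtain ⟨H, -, hH⟩ := Finite.exists_le_maximal (p := Cfsg.IsPiSubgroup π) (a := (⊥ : Subgroup G))
    (fun d hd hdv => absurd (Nat.dvd_one.mp (Subgroup.card_bot (G := G) ▸ hdv)) hd.ne_one)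
  refine ⟨H, hH.1, fun p hp hpπ hdv => ?_⟩
  haveI : Fact p.Prime := ⟨hp⟩
  obtain ⟨P⟩ := (inferInstance : Nonempty (Sylow p G))
  obtain ⟨K, hPK, hK⟩ := Finite.exists_le_maximal (p := Cfsg.IsPiSubgroup π) (a := (P : Subgroup G))
    (fun d hd hdv => by
      obtain ⟨m, hm⟩ := P.isPGroup'.exists_card_eq
      rw [hm] at hdv
      rwa [(Nat.prime_dvd_prime_iff_eq hd hp).mp (hd.dvd_of_dvd_pow hdv)])
  obtain ⟨g, hg⟩ := h G H K hH hK
  have h1 : H.index = K.index := by rw [hg]; exact (Subgroup.index_map_of_bijective (MulAut.conj g).bijective _).symm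
  exact P.not_dvd_index ((h1 ▸ hdv).trans (Subgroup.index_dvd_of_le hPK))


end Cfsg.Agent.S3878
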