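import Cfsg.Statements.S3880
import Cfsg.Agent.Lib.Metacyclic.Elements
-- import your own Cfsg.Agent.* helpers here

set_option autoImplicit false
open Cfsg

namespace Cfsg.Agent.S3880

/-- Let p be an odd prime and G a finite metacyclic p-group (G has a cyclic normal subgroup with cyclic quotient). Then a subgroup L of G is abelian if and only if |L| ≤ |G : G'|, and L is a maximal abelian subgroup of G if and only if |L| = |G : G'|. -/
theorem result {G : Type*} [Group G] [Finite G] {p : ℕ} [Fact p.Prime] (hp : p ≠ 2) (hG : IsPGroup p G) (hmc : Cfsg.IsMetacyclic G) (L : Subgroup G) :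
    (IsMulCommutative ↥L ↔ Nat.card ↥L ≤ (commutator G).index) ∧
      (Maximal (fun K : Subgroup G => IsMulCommutative ↥K) L ↔ Nat.card ↥L = (commutator G).index) := by
  have hodd : Odd p := (Fact.out : p.Prime).odd_of_ne_two hp
  obtain ⟨D⟩ := CfsgLib.Metacyclic.exists_metaData hG hmc
  have hsq := D.commutator_index_sq hodd
  have hnon : ¬ IsMulCommutative L → (commutator G).index < Nat.card L := by
    intro hL
    have hZ := D.center_le_of_not_comm hodd hL
    have hc := D.card_mul_card_centralizer hodd hZ
    have hle := D.centralizer_le_of_not_comm hodd hL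
    have hlt : Nat.card (Subgroup.centralizer (L : Set G)) < Nat.card L := by
      refine lt_of_le_of_ne (Subgroup.card_le_of_le hle) (fun heq => hL ?_)
      rw [← Subgroup.le_centralizer_iff_isMulCommutative]
      exact (Subgroup.eq_of_le_of_card_ge hle heq.ge).ge
    by_contra hcon
    push Not at hcon
    have : 0 < Nat.card L := Nat.card_pos
    nlinarith
  refine ⟨⟨fun h => (D.abelian_card_le hodd h).1, fun h => ?_⟩, ⟨fun h => ?_, fun h => ?_⟩⟩
  · by_contra hL
    exact absurd h (not_le.mpr (hnon hL))
  · -- maximal abelian subgroups are self-centralising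
    obtain ⟨hab, hmax⟩ := h
    refine (D.abelian_card_le hodd hab).2.mpr (fun x hx => ?_)
    have hle : L ≤ Subgroup.centralizer (L : Set G) :=
      Subgroup.le_centralizer_iff_isMulCommutative.mpr hab
    have hS : ∀ a ∈ ((L : Set G) ∪ {x}), ∀ b ∈ ((L : Set G) ∪ {x}), a * b = b * a := by
      rintro a (ha | ha) b (hb | hb)
      · exact Subgroup.mem_centralizer_iff.mp (hle hb) a ha
      · rw [Set.mem_singleton_iff] at hb
        subst hb
        exact Subgroup.mem_centralizer_iff.mp hx a ha
      · rw [Set.mem_singleton_iff] at ha
        subst ha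
        exact (Subgroup.mem_centralizer_iff.mp hx b hb).symm
      · rw [Set.mem_singleton_iff] at ha hb
        subst ha hb
        rfl
    have hK : IsMulCommutative ↥(Subgroup.closure ((L : Set G) ∪ {x})) :=
      Subgroup.isMulCommutative_closure hS
    have hLK : L ≤ Subgroup.closure ((L : Set G) ∪ {x}) :=
      fun a ha => Subgroup.subset_closure (Or.inl ha)
    exact hmax hK hLK (Subgroup.subset_closure (Or.inr rfl))
  · have hL : IsMulCommutative L := by
      by_contra hL
      exact absurd h.le (not_le.mpr (hnon hL))
    refine ⟨hL, fun K hK hLK => ?_⟩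
    exact (Subgroup.eq_of_le_of_card_ge hLK (h ▸ (D.abelian_card_le hodd hK).1)).ge


end Cfsg.Agent.S3880
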