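import Cfsg.Statements.S3881
import Cfsg.Agent.Lib.Metacyclic.Elements
-- import your own Cfsg.Agent.* helpers here

set_option autoImplicit false
open Cfsg

namespace Cfsg.Agent.S3881

/-- Let p be an odd prime and G a finite metacyclic p-group (G has a cyclic normal subgroup with cyclic quotient). Suppose G is non-abelian with |G'| = p^n. Then for 1 ≤ i ≤ n the number of elements of G whose conjugacy class has exactly p^i elements is |Z(G)| · (p^(2i) − p^(2i−2)). -/
theorem result {G : Type*} [Group G] [Finite G] {p : ℕ} [Fact p.Prime] (hp : p ≠ 2) (hG : IsPGroup p G) (hmc : Cfsg.IsMetacyclic G) (n : ℕ) (hn : n ≠ 0) (hGn : Nat.card ↥(commutator G) = p ^ n) (i : ℕ) (hi : 1 ≤ i) (hin : i ≤ n) :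
    Nat.card {g : G // (Subgroup.centralizer ({g} : Set G)).index = p ^ i} =
      Nat.card ↥(Subgroup.center G) * (p ^ (2 * i) - p ^ (2 * i - 2)) := by
  have hodd : Odd p := (Fact.out : p.Prime).odd_of_ne_two hp
  have hP : p.Prime := Fact.out
  obtain ⟨D⟩ := CfsgLib.Metacyclic.exists_metaData hG hmc
  have hDn : D.n = n := Nat.pow_right_injective hP.two_le (D.card_commutator.symm.trans hGn)
  -- counting elements by the order of their image
  have key : ∀ j ≤ n, Nat.card {g : G // (p : ZMod (p ^ D.n)) ^ j • D.psi g = 0} =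
      Nat.card (Subgroup.center G) * p ^ (2 * j) := by
    intro j hj
    let T : Submodule (ZMod (p ^ D.n)) (CfsgLib.Metacyclic.Plane p D.n) :=
      LinearMap.ker (((p : ZMod (p ^ D.n)) ^ j) • LinearMap.id)
    rw [← CfsgLib.Metacyclic.plane_torsion_card (p := p) (n := D.n) j (by omega)]
    exact D.card_pre hodd T
  obtain ⟨i, rfl⟩ : ∃ k, i = k + 1 := ⟨i - 1, by omega⟩
  have e : ∀ g : G, (Subgroup.centralizer ({g} : Set G)).index = p ^ (i + 1) ↔
      g ∈ ({g : G | (p : ZMod (p ^ D.n)) ^ (i + 1) • D.psi g = 0} \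
        {g : G | (p : ZMod (p ^ D.n)) ^ i • D.psi g = 0}) := by
    intro g
    rw [D.centralizer_singleton_index hodd, Set.mem_sdiff, Set.mem_ofPred_eq, Set.mem_ofPred_eq,
      ← D.addOrderOf_dvd_pow_iff, ← D.addOrderOf_dvd_pow_iff]
    constructor
    · intro h
      rw [h]
      refine ⟨dvd_rfl, fun h2 => ?_⟩
      have := (Nat.pow_dvd_pow_iff_le_right hP.one_lt).mp h2
      omega
    · rintro ⟨h1, h2⟩
      obtain ⟨k, hk, hk'⟩ := (Nat.dvd_prime_pow hP).mp h1
      rw [hk'] at h2 ⊢
      congr 1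
      by_contra hne
      exact h2 (pow_dvd_pow p (by omega))
  rw [Nat.card_congr (Equiv.subtypeEquivRight e)]
  have hsub : {g : G | (p : ZMod (p ^ D.n)) ^ i • D.psi g = 0} ⊆
      {g : G | (p : ZMod (p ^ D.n)) ^ (i + 1) • D.psi g = 0} := by
    intro g hg
    simp only [Set.mem_ofPred_eq] at hg ⊢
    rw [pow_succ', mul_smul, hg, smul_zero]
  have h1 := key (i + 1) hin
  have h2 := key i (by omega)
  rw [Nat.card_coe_set_eq, Set.ncard_sdiff hsub (Set.toFinite _), ← Nat.card_coe_set_eq,
    ← Nat.card_coe_set_eq, Nat.mul_sub]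
  rw [show 2 * (i + 1) - 2 = 2 * i by omega, ← h1, ← h2]
  rfl


end Cfsg.Agent.S3881
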