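import Cfsg.Statements.S3883
import Cfsg.Agent.Lib.Metacyclic.Elements
-- import your own Cfsg.Agent.* helpers here

set_option autoImplicit false
open Cfsg

namespace Cfsg.Agent.S3883

/-- Let p be an odd prime and G a finite metacyclic p-group (G has a cyclic normal subgroup with cyclic quotient). Suppose G is non-abelian. Then an element g of G lies outside the Frattini subgroup if and only if its centralizer C_G(g) is abelian. -/
theorem result {G : Type*} [Group G] [Finite G] {p : ℕ} [Fact p.Prime] (hp : p ≠ 2) (hG : IsPGroup p G) (hmc : Cfsg.IsMetacyclic G) (hna : ¬ IsMulCommutative G) (g : G) :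
    g ∉ frattini G ↔ IsMulCommutative ↥(Subgroup.centralizer ({g} : Set G)) := by
  have hodd : Odd p := (Fact.out : p.Prime).odd_of_ne_two hp
  have hP : p.Prime := Fact.out
  obtain ⟨D⟩ := CfsgLib.Metacyclic.exists_metaData hG hmc
  have hn : 1 ≤ D.n := by
    by_contra hn
    apply hna
    have hc := D.card_commutator
    rw [show D.n = 0 by omega, pow_zero, Subgroup.card_eq_one] at hc
    refine IsMulCommutative.of_comm fun x y => ?_
    have hmem := Subgroup.commutator_mem_commutator (Subgroup.mem_top x) (Subgroup.mem_top y)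
    rw [← commutator_def, hc, Subgroup.mem_bot, commutatorElement_eq_one_iff_mul_comm] at hmem
    exact hmem
  rw [D.mem_frattini_iff hodd hG hn, ← D.addOrderOf_le_pow_iff]
  set C := Subgroup.centralizer ({g} : Set G) with hC
  have hidx : C.index = addOrderOf (D.psi g) := D.centralizer_singleton_index hodd g
  have hcz : Subgroup.centralizer (C : Set G) = Subgroup.zpowers g ⊔ Subgroup.center G := by
    rw [← D.centralizer_centralizer hodd (Subgroup.zpowers g), hC, Subgroup.zpowers_eq_closure g,
      Subgroup.centralizer_closure]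
  have hdual : Nat.card C * Nat.card (Subgroup.centralizer (C : Set G)) =
      Nat.card G * Nat.card (Subgroup.center G) := by
    refine D.card_mul_card_centralizer hodd (fun z hz => ?_)
    exact Subgroup.mem_centralizer_iff.mpr fun x _ => Subgroup.mem_center_iff.mp hz x
  have hge : Subgroup.centralizer (C : Set G) ≤ C := by
    rw [hcz, hC, sup_le_iff]
    refine ⟨?_, fun z hz => Subgroup.mem_centralizer_iff.mpr fun x _ => Subgroup.mem_center_iff.mp hz x⟩
    rw [Subgroup.zpowers_le, Subgroup.mem_centralizer_iff]
    rintro h rfl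
    rfl
  have hCi := C.card_mul_index
  rw [← Subgroup.le_centralizer_iff_isMulCommutative]
  have hmax : addOrderOf (D.psi g) ≤ p ^ D.n := by
    rw [D.addOrderOf_le_pow_iff, ← Nat.cast_pow, ZMod.natCast_self, zero_smul]
  rw [hidx, D.card_eq hodd, two_mul, pow_add] at hCi
  rw [D.card_eq hodd, two_mul, pow_add] at hdual
  have hC0 : 0 < Nat.card C := Nat.card_pos
  have hpp : 0 < p ^ D.n := pow_pos hP.pos _
  have hZ0 : 0 < Nat.card (Subgroup.center G) := Nat.card_pos
  constructor
  · intro hlt
    have heq : addOrderOf (D.psi g) = p ^ D.n := by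
      obtain ⟨j, hj1, hj⟩ := (Nat.dvd_prime_pow hP).mp
        ((D.addOrderOf_dvd_pow_iff (D.psi g) D.n).mpr (by
          rw [← Nat.cast_pow, ZMod.natCast_self, zero_smul]))
      rw [hj] at hlt ⊢
      congr 1
      by_contra hne
      exact hlt (Nat.pow_le_pow_right hP.pos (by omega))
    rw [heq] at hCi
    refine (Subgroup.eq_of_le_of_card_ge hge ?_).ge
    have e : Nat.card C = Nat.card (Subgroup.center G) * p ^ D.n :=
      Nat.eq_of_mul_eq_mul_right hpp (by linarith)
    nlinarith
  · intro hle hcon
    have e := le_antisymm hle hge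
    rw [← e] at hdual
    have h1 : p ^ (D.n - 1) < p ^ D.n := Nat.pow_lt_pow_right hP.one_lt (by omega)
    have e2 : Nat.card C = Nat.card (Subgroup.center G) * p ^ D.n :=
      Nat.mul_self_inj.mp (by rw [hdual]; ring)
    rw [e2, mul_assoc] at hCi
    have e3 := Nat.eq_of_mul_eq_mul_left hpp (Nat.eq_of_mul_eq_mul_left hZ0 hCi)
    omega


end Cfsg.Agent.S3883
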