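import Cfsg.Statements.S3884
import Cfsg.Agent.Lib.Metacyclic.Elements
-- import your own Cfsg.Agent.* helpers here

set_option autoImplicit false
open Cfsg

namespace Cfsg.Agent.S3884

/-- Let p be an odd prime and G a finite metacyclic p-group (G has a cyclic normal subgroup with cyclic quotient). Then G is the product of two cyclic subgroups with trivial intersection: there are cyclic subgroups A and B with A ∩ B = 1 and |A| · |B| = |G|. -/
theorem result {G : Type*} [Group G] [Finite G] {p : ℕ} [Fact p.Prime] (hp : p ≠ 2) (hG : IsPGroup p G) (hmc : Cfsg.IsMetacyclic G) : ∃ A B : Subgroup G, IsCyclic ↥A ∧ IsCyclic ↥B ∧ A ⊓ B = ⊥ ∧ Nat.card ↥A * Nat.card ↥B = Nat.card G := by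
  have hodd : Odd p := (Fact.out : p.Prime).odd_of_ne_two hp
  have hP : p.Prime := Fact.out
  obtain ⟨D⟩ := CfsgLib.Metacyclic.exists_metaData hG hmc
  obtain ⟨v, c', hc', hc⟩ := Nat.exists_eq_pow_mul_and_not_dvd D.c_pos.ne' p hP.ne_one
  have hvr : v ≤ D.r := by
    have h1 : p ^ v ≤ p ^ D.r := (Nat.le_of_dvd D.c_pos ⟨c', hc⟩).trans D.c_le
    exact (Nat.pow_le_pow_iff_right hP.one_lt).mp h1
  have hbpow : ∀ i k l : ℕ, (D.a ^ i * D.b ^ k) ^ l =
      D.a ^ (i * CfsgLib.Metacyclic.geomS (D.u ^ k) l) * D.b ^ (k * l) := by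
    intro i k l
    induction l with
    | zero => simp [CfsgLib.Metacyclic.geomS_zero]
    | succ l ih =>
      rw [pow_succ, ih, D.mul_coord, CfsgLib.Metacyclic.geomS_succ, pow_mul, mul_add, Nat.mul_succ]
  have hcardG : Nat.card G = p ^ D.r * p ^ D.m := by
    let N := Subgroup.zpowers D.a
    have hNn : N.Normal := by
      rw [← Subgroup.normalizer_eq_top_iff, eq_top_iff]
      intro g _
      have hb : D.b ∈ Subgroup.normalizer (N : Set G) := by
        have hle : N.map (MulAut.conj D.b).toMonoidHom = N := by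
          refine Subgroup.eq_of_le_of_card_ge ?_ ?_
          · rw [MonoidHom.map_zpowers, Subgroup.zpowers_le]
            exact ⟨_, (zpow_natCast D.a (p ^ D.s * D.w + 1)).trans D.hconj.symm⟩
          · rw [Subgroup.card_map_of_injective]; exact (MulAut.conj D.b).injective
        rw [Subgroup.mem_normalizer_iff_conj_image_eq]
        exact congrArg (fun K : Subgroup G => (K : Set G)) hle
      rw [D.coord_spec g]
      exact mul_mem (pow_mem (Subgroup.le_normalizer (Subgroup.mem_zpowers _)) _) (pow_mem hb _)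
    have hgen : ∀ x : G ⧸ N, x ∈ Subgroup.zpowers (D.b : G ⧸ N) := by
      intro x
      obtain ⟨g, rfl⟩ := QuotientGroup.mk_surjective x
      refine ⟨(D.ej g : ℕ), ?_⟩
      simp only [zpow_natCast]
      conv_rhs => rw [D.coord_spec g]
      rw [QuotientGroup.mk_mul, ← QuotientGroup.mk_pow,
        (QuotientGroup.eq_one_iff _).mpr (pow_mem (Subgroup.mem_zpowers _) _), one_mul]
    have hord : orderOf (D.b : G ⧸ N) = p ^ D.m := by
      apply Nat.dvd_antisymm
      · rw [orderOf_dvd_iff_pow_eq_one, ← QuotientGroup.mk_pow, QuotientGroup.eq_one_iff, D.hbm]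
      · rw [← D.hbm, ← QuotientGroup.eq_one_iff, QuotientGroup.mk_pow, pow_orderOf_eq_one]
    rw [Subgroup.card_eq_card_quotient_mul_card_subgroup N, Nat.card_zpowers, D.order_a, mul_comm]
    congr 1
    rw [← hord, ← Nat.card_zpowers, Nat.card_congr (Equiv.subtypeUnivEquiv hgen)]
  by_cases hvm : D.m ≤ v
  · -- a complement to `⟨a⟩`
    obtain ⟨e, he, hep⟩ := CfsgLib.Metacyclic.exists_geomS_factor hP hodd D.u_modEq D.m
    have hcop : Nat.Coprime e (p ^ D.r) :=
      (Nat.Coprime.pow_right _ ((Nat.Prime.coprime_iff_not_dvd hP).mpr hep).symm)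
    obtain ⟨i, hi⟩ : ∃ i : ℕ, p ^ D.r ∣ i * e + p ^ (v - D.m) * c' := by
      have : NeZero (p ^ D.r) := ⟨pow_ne_zero _ hP.ne_zero⟩
      have hu : IsUnit ((e : ℕ) : ZMod (p ^ D.r)) := (ZMod.isUnit_iff_coprime _ _).mpr hcop
      obtain ⟨z, hz⟩ := hu.exists_right_inv
      refine ⟨(-((p ^ (v - D.m) * c' : ℕ) : ZMod (p ^ D.r)) * z).val, ?_⟩
      rw [← ZMod.natCast_eq_zero_iff, Nat.cast_add, Nat.cast_mul, ZMod.natCast_rightInverse,
        mul_assoc, mul_comm z, hz, mul_one, neg_add_cancel]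
    set y := D.a ^ i * D.b ^ 1 with hy
    have hy1 : y ^ p ^ D.m = 1 := by
      rw [hy, hbpow, one_mul, D.hbc, ← pow_add, ← orderOf_dvd_iff_pow_eq_one, D.order_a, pow_one,
        he, hc]
      obtain ⟨q, hq⟩ := hi
      refine ⟨p ^ D.m * q, ?_⟩
      rw [show p ^ v = p ^ D.m * p ^ (v - D.m) by rw [← pow_add]; congr 1; omega,
        mul_left_comm (p ^ D.r), ← hq]
      ring
    have hint : ∀ l : ℕ, y ^ l ∈ Subgroup.zpowers D.a → p ^ D.m ∣ l := by
      intro l hl
      rw [hy, hbpow, one_mul, Subgroup.mul_mem_cancel_left _ (pow_mem (Subgroup.mem_zpowers _) _),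
        D.hbm] at hl
      exact hl
    refine ⟨Subgroup.zpowers D.a, Subgroup.zpowers y, inferInstance, inferInstance, ?_, ?_⟩
    · rw [eq_bot_iff]
      intro x hx
      obtain ⟨hxa, hxy⟩ := Subgroup.mem_inf.mp hx
      obtain ⟨l, rfl⟩ := mem_powers_iff_mem_zpowers.mpr hxy
      obtain ⟨q, hq⟩ := hint l hxa
      simp only [Subgroup.mem_bot, hq, pow_mul, hy1, one_pow]
    · have hoy : orderOf y = p ^ D.m := Nat.dvd_antisymm (orderOf_dvd_iff_pow_eq_one.mpr hy1)
        (hint _ (by rw [pow_orderOf_eq_one]; exact one_mem _))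
      rw [Nat.card_zpowers, Nat.card_zpowers, D.order_a, hoy, hcardG]
  · push Not at hvm
    have hv : v < D.r ∨ v = D.r := lt_or_eq_of_le hvr
    set k := p ^ (D.m - v) with hk
    obtain ⟨e, he, hep⟩ := CfsgLib.Metacyclic.exists_geomS_factor hP hodd
      (u := D.u ^ k) (by simpa using D.u_modEq.pow k) v
    have hcop : Nat.Coprime e (p ^ D.r) :=
      (Nat.Coprime.pow_right _ ((Nat.Prime.coprime_iff_not_dvd hP).mpr hep).symm)
    have : NeZero (p ^ D.r) := ⟨pow_ne_zero _ hP.ne_zero⟩
    obtain ⟨i, hi⟩ : ∃ i : ℕ, p ^ D.r ∣ i * e + c' := by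
      have hu : IsUnit ((e : ℕ) : ZMod (p ^ D.r)) := (ZMod.isUnit_iff_coprime _ _).mpr hcop
      obtain ⟨z, hz⟩ := hu.exists_right_inv
      refine ⟨(-((c' : ℕ) : ZMod (p ^ D.r)) * z).val, ?_⟩
      rw [← ZMod.natCast_eq_zero_iff, Nat.cast_add, Nat.cast_mul, ZMod.natCast_rightInverse,
        mul_assoc, mul_comm z, hz, mul_one, neg_add_cancel]
    set y := D.a ^ i * D.b ^ k with hy
    have hkv : k * p ^ v = p ^ D.m := by rw [hk, ← pow_add]; congr 1; omega
    have hy1 : y ^ p ^ v = 1 := by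
      rw [hy, hbpow, hkv, D.hbc, ← pow_add, ← orderOf_dvd_iff_pow_eq_one, D.order_a, he, hc]
      obtain ⟨q, hq⟩ := hi
      refine ⟨p ^ v * q, ?_⟩
      rw [mul_left_comm (p ^ D.r), ← hq]
      ring
    have hint : ∀ l : ℕ, y ^ l ∈ Subgroup.zpowers D.b → p ^ v ∣ l := by
      intro l hl
      rw [hy, hbpow, Subgroup.mul_mem_cancel_right _ (pow_mem (Subgroup.mem_zpowers _) _)] at hl
      obtain ⟨j, hj⟩ := mem_powers_iff_mem_zpowers.mpr hl
      simp only at hj
      obtain ⟨q, rfl⟩ := (D.hbm j).mp (by rw [hj]; exact pow_mem (Subgroup.mem_zpowers _) _)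
      rw [pow_mul, D.hbc, ← pow_mul, pow_eq_pow_iff_modEq, D.order_a] at hj
      have h1 := hj.of_dvd (pow_dvd_pow p hvr)
      have h2 : p ^ v ∣ i * CfsgLib.Metacyclic.geomS (D.u ^ k) l := by
        rw [← Nat.modEq_zero_iff_dvd]
        refine h1.symm.trans (Nat.modEq_zero_iff_dvd.mpr ?_)
        exact ⟨c' * q, by rw [hc]; ring⟩
      rcases hv with hv | hv
      · have hip : ¬ p ∣ i := by
          intro hpi
          apply hc'
          have h3 : p ∣ i * e + c' := (dvd_pow_self p (by omega)).trans hi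
          exact (Nat.dvd_add_right (hpi.mul_right e)).mp h3
        have h4 := (Nat.Coprime.pow_left v ((Nat.Prime.coprime_iff_not_dvd hP).mpr hip)).dvd_mul_left.mp h2
        exact (CfsgLib.Metacyclic.pow_dvd_geomS_iff hP hodd (by simpa using D.u_modEq.pow k) v l).mp h4
      · have hc1 : c' = 1 := by
          have h5 := D.c_le
          rw [hc, hv] at h5
          have h6 : c' ≤ 1 := Nat.le_of_mul_le_mul_left (by simpa using h5) (pow_pos hP.pos _)
          rcases Nat.eq_zero_or_pos c' with h | h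
          · exact absurd (h ▸ dvd_zero p) hc'
          · omega
        rcases Nat.eq_zero_or_pos v with h0 | h0
        · rw [h0, pow_zero]; exact one_dvd _
        have hip : ¬ p ∣ i := by
          intro hpi
          apply hc'
          have h3 : p ∣ i * e + c' := (dvd_pow_self p (by omega)).trans hi
          exact (Nat.dvd_add_right (hpi.mul_right e)).mp h3
        have h4 := (Nat.Coprime.pow_left v ((Nat.Prime.coprime_iff_not_dvd hP).mpr hip)).dvd_mul_left.mp h2
        exact (CfsgLib.Metacyclic.pow_dvd_geomS_iff hP hodd (by simpa using D.u_modEq.pow k) v l).mp h4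
    refine ⟨Subgroup.zpowers y, Subgroup.zpowers D.b, inferInstance, inferInstance, ?_, ?_⟩
    · rw [eq_bot_iff]
      intro x hx
      obtain ⟨hxy, hxb⟩ := Subgroup.mem_inf.mp hx
      obtain ⟨l, rfl⟩ := mem_powers_iff_mem_zpowers.mpr hxy
      obtain ⟨q, hq⟩ := hint l hxb
      simp only [Subgroup.mem_bot, hq, pow_mul, hy1, one_pow]
    · have hoy : orderOf y = p ^ v := Nat.dvd_antisymm (orderOf_dvd_iff_pow_eq_one.mpr hy1)
        (hint _ (by rw [pow_orderOf_eq_one]; exact one_mem _))
      have hob : orderOf D.b = p ^ D.m * p ^ (D.r - v) := by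
        have hmdvd : p ^ D.m ∣ orderOf D.b :=
          (D.hbm _).mp (by rw [pow_orderOf_eq_one]; exact one_mem _)
        have h1 := orderOf_pow_of_dvd (pow_ne_zero D.m hP.ne_zero) hmdvd
        rw [D.hbc, orderOf_pow, D.order_a, hc] at h1
        have hg : Nat.gcd (p ^ D.r) (p ^ v * c') = p ^ v := by
          rcases hv with hv | hv
          · rw [Nat.Coprime.gcd_mul_right_cancel_right]
            · exact Nat.gcd_eq_right (pow_dvd_pow p hvr)
            · exact Nat.Coprime.pow_right _ (((Nat.Prime.coprime_iff_not_dvd hP).mpr hc').symm)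
          · rw [← hv]
            exact Nat.gcd_eq_left (dvd_mul_right _ _) |>.trans (by rw [hv])
        rw [hg, Nat.pow_div hvr hP.pos] at h1
        rw [h1, Nat.mul_div_cancel' hmdvd]
      rw [Nat.card_zpowers, Nat.card_zpowers, hoy, hob, hcardG, mul_left_comm, ← pow_add,
        Nat.add_sub_cancel' hvr, mul_comm]


end Cfsg.Agent.S3884
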