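import Cfsg.Statements.S3886
import Cfsg.Agent.Lib.Metacyclic.Elements
import Cfsg.Agent.S3880
-- import your own Cfsg.Agent.* helpers here

set_option autoImplicit false
open Cfsg

namespace Cfsg.Agent.S3886

/-- Let p be an odd prime and G a finite metacyclic p-group (G has a cyclic normal subgroup with cyclic quotient). Then the largest value of |R| · |Z(R)| over subgroups R of G is |G : G'|², and the subgroups attaining it (the centrally large subgroups) are exactly the non-abelian subgroups together with the maximal abelian subgroups of G. -/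
theorem result {G : Type*} [Group G] [Finite G] {p : ℕ} [Fact p.Prime] (hp : p ≠ 2) (hG : IsPGroup p G) (hmc : Cfsg.IsMetacyclic G) : Cfsg.maxCentralProduct G = (commutator G).index ^ 2 ∧
    ∀ R : Subgroup G, Cfsg.IsCentrallyLarge R ↔ (¬ IsMulCommutative ↥R ∨ Maximal (fun K : Subgroup G => IsMulCommutative ↥K) R) := by
  have hodd : Odd p := (Fact.out : p.Prime).odd_of_ne_two hp
  obtain ⟨D⟩ := CfsgLib.Metacyclic.exists_metaData hG hmc
  have hsq := D.commutator_index_sq hodd
  have hcen : ∀ R : Subgroup G, Nat.card (Subgroup.center R) =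
      Nat.card (R ⊓ Subgroup.centralizer (R : Set G) : Subgroup G) := by
    intro R
    refine Nat.card_congr
      ⟨fun z => ⟨z.1.1, z.1.2, fun x hx => ?_⟩, fun x => ⟨⟨x.1, x.2.1⟩, ?_⟩, fun z => rfl, fun x => rfl⟩
    · exact congrArg Subtype.val (Subgroup.mem_center_iff.mp z.2 ⟨x, hx⟩)
    · rw [Subgroup.mem_center_iff]
      exact fun y => Subtype.ext (x.2.2 y.1 y.2)
  have hmaxiff : ∀ R : Subgroup G, IsMulCommutative R →
      (Maximal (fun K : Subgroup G => IsMulCommutative ↥K) R ↔ Nat.card R = (commutator G).index) :=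
    fun R _ => (Cfsg.Agent.S3880.result hp hG hmc R).2
  have hval : ∀ R : Subgroup G, Nat.card R * Nat.card (Subgroup.center R) ≤ (commutator G).index ^ 2 ∧
      (Nat.card R * Nat.card (Subgroup.center R) = (commutator G).index ^ 2 ↔
        (¬ IsMulCommutative ↥R ∨ Maximal (fun K : Subgroup G => IsMulCommutative ↥K) R)) := by
    intro R
    by_cases hR : IsMulCommutative R
    · rw [hcen, inf_eq_left.mpr (Subgroup.le_centralizer_iff_isMulCommutative.mpr hR), ← sq]
      refine ⟨Nat.pow_le_pow_left (D.abelian_card_le hodd hR).1 2, ?_⟩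
      constructor
      · intro h
        exact Or.inr ((hmaxiff R hR).mpr (Nat.pow_left_injective two_ne_zero h))
      · rintro (h | h)
        · exact absurd hR h
        · rw [(hmaxiff R hR).mp h]
    · rw [hcen, inf_eq_right.mpr (D.centralizer_le_of_not_comm hodd hR),
        D.card_mul_card_centralizer hodd (D.center_le_of_not_comm hodd hR), ← hsq]
      exact ⟨le_rfl, by simp [hR]⟩
  have hmax : Cfsg.maxCentralProduct G = (commutator G).index ^ 2 := by
    apply le_antisymm
    · refine csSup_le ⟨_, ⊥, rfl⟩ ?_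
      rintro k ⟨R, rfl⟩
      exact (hval R).1
    · refine le_csSup ⟨(commutator G).index ^ 2, ?_⟩ ⟨⊤, ?_⟩
      · rintro k ⟨R, rfl⟩
        exact (hval R).1
      · by_cases hT : IsMulCommutative (⊤ : Subgroup G)
        · exact (hval ⊤).2.mpr (Or.inr ⟨hT, fun K _ _ => le_top⟩)
        · exact (hval ⊤).2.mpr (Or.inl hT)
  refine ⟨hmax, fun R => ?_⟩
  rw [Cfsg.IsCentrallyLarge, hmax]
  exact (hval R).2


end Cfsg.Agent.S3886
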