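import Cfsg.Statements.S3887
import Cfsg.Agent.Lib.Metacyclic.Elements
-- import your own Cfsg.Agent.* helpers here

set_option autoImplicit false
open Cfsg

namespace Cfsg.Agent.S3887

/-- Let p be an odd prime and G a finite metacyclic p-group (G has a cyclic normal subgroup with cyclic quotient). Then a subgroup R of G maximizes |R| · |C_G(R)| over all subgroups of G if and only if R contains the center of G. -/
theorem result {G : Type*} [Group G] [Finite G] {p : ℕ} [Fact p.Prime] (hp : p ≠ 2) (hG : IsPGroup p G) (hmc : Cfsg.IsMetacyclic G) (R : Subgroup G) : Cfsg.IsCentralizerLarge R ↔ Subgroup.center G ≤ R := by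
  have hodd : Odd p := (Fact.out : p.Prime).odd_of_ne_two hp
  obtain ⟨D⟩ := CfsgLib.Metacyclic.exists_metaData hG hmc
  set M := Nat.card G * Nat.card (Subgroup.center G)
  have hval : ∀ R : Subgroup G,
      Nat.card R * Nat.card (Subgroup.centralizer (R : Set G)) ≤ M ∧
      (Nat.card R * Nat.card (Subgroup.centralizer (R : Set G)) = M ↔ Subgroup.center G ≤ R) := by
    intro R
    have h := D.card_mul_card_centralizer hodd (le_sup_right : Subgroup.center G ≤ R ⊔ Subgroup.center G)
    rw [CfsgLib.Metacyclic.MetaData.centralizer_sup_center] at h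
    have hle : R ≤ R ⊔ Subgroup.center G := le_sup_left
    refine ⟨(Nat.mul_le_mul_right _ (Subgroup.card_le_of_le hle)).trans h.le, fun heq => ?_,
      fun hZ => D.card_mul_card_centralizer hodd hZ⟩
    have e := Nat.eq_of_mul_eq_mul_right Nat.card_pos (heq.trans h.symm)
    rw [← sup_eq_left]
    exact (Subgroup.eq_of_le_of_card_ge hle e.ge).symm
  have hmax : Cfsg.maxCentralizerProduct G = M := by
    apply le_antisymm
    · refine csSup_le ⟨_, ⊥, rfl⟩ ?_
      rintro k ⟨R, rfl⟩
      exact (hval R).1
    · refine le_csSup ⟨M, ?_⟩ ⟨⊤, (hval ⊤).2.mpr le_top⟩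
      rintro k ⟨R, rfl⟩
      exact (hval R).1
  rw [Cfsg.IsCentralizerLarge, hmax]
  exact (hval R).2


end Cfsg.Agent.S3887
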