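import Cfsg.Statements.S3889
-- import your own Cfsg.Agent.* helpers here

set_option autoImplicit false
open Cfsg

namespace Cfsg.Agent.S3889

/-- A finite abelian group that is the union of a family of proper subgroups any two of which intersect trivially is elementary abelian: its exponent is a prime. -/
theorem result {G : Type*} [CommGroup G] [Finite G] (𝓑 : Set (Subgroup G)) (hprop : ∀ B ∈ 𝓑, B ≠ ⊤)
    (hcov : ∀ g : G, ∃ B ∈ 𝓑, g ∈ B) (hdisj : ∀ B ∈ 𝓑, ∀ C ∈ 𝓑, B ≠ C → B ⊓ C = ⊥) :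
    (Monoid.exponent G).Prime := by
  have htop : ∀ B ∈ 𝓑, ∀ g : G, g ≠ 1 → g ∈ B → ∃ h : G, h ∉ B := by
    intro B hB g _ _
    by_contra hcon
    push Not at hcon
    exact hprop B hB (eq_top_iff.mpr fun h _ => hcon h)
  -- elements in different members have the same order
  have key : ∀ B ∈ 𝓑, ∀ x ∈ B, x ≠ 1 → ∀ y : G, y ∉ B → orderOf y ∣ orderOf x := by
    intro B hB x hx hx1 y hy
    obtain ⟨C, hC, hyC⟩ := hcov y
    obtain ⟨D, hD, hD'⟩ := hcov (x * y)
    have hBC : B ≠ C := fun h => hy (h ▸ hyC)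
    have hDC : D ≠ C := by
      intro h
      subst h
      have hxD : x ∈ D := by simpa using mul_mem hD' (inv_mem hyC)
      exact hx1 (Subgroup.mem_bot.mp (hdisj B hB D hD hBC ▸ Subgroup.mem_inf.mpr ⟨hx, hxD⟩))
    rw [orderOf_dvd_iff_pow_eq_one]
    have h1 : y ^ orderOf x ∈ D := by
      have := pow_mem hD' (orderOf x)
      rwa [mul_pow, pow_orderOf_eq_one, one_mul] at this
    exact Subgroup.mem_bot.mp (hdisj D hD C hC hDC ▸ Subgroup.mem_inf.mpr ⟨h1, pow_mem hyC _⟩)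
  have hsame : ∀ x y : G, x ≠ 1 → y ≠ 1 → orderOf x = orderOf y := by
    intro x y hx hy
    obtain ⟨B, hB, hxB⟩ := hcov x
    have aux : ∀ z : G, z ∉ B → orderOf x = orderOf z := by
      intro z hz
      obtain ⟨C, hC, hzC⟩ := hcov z
      have hz1 : z ≠ 1 := fun h => hz (h ▸ one_mem B)
      have hxC : x ∉ C := fun h => by
        have hBC : B ≠ C := fun e => hz (e ▸ hzC)
        exact hx (Subgroup.mem_bot.mp (hdisj B hB C hC hBC ▸ Subgroup.mem_inf.mpr ⟨hxB, h⟩))
      exact Nat.dvd_antisymm (key C hC z hzC hz1 x hxC) (key B hB x hxB hx z hz)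
    by_cases hyB : y ∈ B
    · obtain ⟨z, hz⟩ := htop B hB x hx hxB
      obtain ⟨C, hC, hzC⟩ := hcov z
      have hz1 : z ≠ 1 := fun h => hz (h ▸ one_mem B)
      have hyC : y ∉ C := fun h => by
        have hBC : B ≠ C := fun e => hz (e ▸ hzC)
        exact hy (Subgroup.mem_bot.mp (hdisj B hB C hC hBC ▸ Subgroup.mem_inf.mpr ⟨hyB, h⟩))
      rw [aux z hz]
      exact Nat.dvd_antisymm (key B hB y hyB hy z hz) (key C hC z hzC hz1 y hyC)
    · exact aux y hyB
  haveI : Nontrivial G := by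
    rcases subsingleton_or_nontrivial G with h | h
    · obtain ⟨B, hB, -⟩ := hcov 1
      exact absurd (Subsingleton.elim B ⊤) (hprop B hB)
    · exact h
  obtain ⟨q, hq, hqd⟩ := Nat.exists_prime_and_dvd (show Nat.card G ≠ 1 from (Finite.one_lt_card (α := G)).ne')
  haveI : Fact q.Prime := ⟨hq⟩
  obtain ⟨x, hxo⟩ := exists_prime_orderOf_dvd_card' q hqd
  have hx1 : x ≠ 1 := fun h => hq.ne_one (by rw [← hxo, h, orderOf_one])
  have h1 : Monoid.exponent G ∣ q := Monoid.exponent_dvd_of_forall_pow_eq_one fun g => by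
    rcases eq_or_ne g 1 with rfl | hg
    · exact one_pow _
    · rw [← hxo, hsame x g hx1 hg, pow_orderOf_eq_one]
  rcases (Nat.dvd_prime hq).mp h1 with h | h
  · exact absurd (Nat.dvd_one.mp (h ▸ (hxo ▸ Monoid.order_dvd_exponent x))) hq.ne_one
  · exact h ▸ hq


end Cfsg.Agent.S3889
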