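import Cfsg.Statements.S3892
import Cfsg.Agent.Lib.PNilpotent.NilpotentCoverSymm
-- import your own Cfsg.Agent.* helpers here

set_option autoImplicit false
open Cfsg

namespace Cfsg.Agent.S3892

/-- A cover of a group is a finite set of proper subgroups whose union is the whole group; it is minimal when no cover has fewer members, and nilpotent when all its members are nilpotent. The alternating groups of degree at least 5 and the symmetric groups of degree at least 4 have no nilpotent minimal cover. -/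
theorem result (n : ℕ) :
    (5 ≤ n → ¬ ∃ 𝓐 : Finset (Subgroup ↥(alternatingGroup (Fin n))), ((∀ A ∈ 𝓐, A ≠ ⊤) ∧ (∀ g : ↥(alternatingGroup (Fin n)), ∃ A ∈ 𝓐, g ∈ A)) ∧ (∀ 𝓑 : Finset (Subgroup ↥(alternatingGroup (Fin n))), (∀ A ∈ 𝓑, A ≠ ⊤) ∧ (∀ g : ↥(alternatingGroup (Fin n)), ∃ A ∈ 𝓑, g ∈ A) → 𝓐.card ≤ 𝓑.card) ∧ (∀ A ∈ 𝓐, Group.IsNilpotent ↥A)) ∧
    (4 ≤ n → ¬ ∃ 𝓐 : Finset (Subgroup (Equiv.Perm (Fin n))), ((∀ A ∈ 𝓐, A ≠ ⊤) ∧ (∀ g : (Equiv.Perm (Fin n)), ∃ A ∈ 𝓐, g ∈ A)) ∧ (∀ 𝓑 : Finset (Subgroup (Equiv.Perm (Fin n))), (∀ A ∈ 𝓑, A ≠ ⊤) ∧ (∀ g : (Equiv.Perm (Fin n)), ∃ A ∈ 𝓑, g ∈ A) → 𝓐.card ≤ 𝓑.card) ∧ (∀ A ∈ 𝓐, Group.IsNilpotent ↥A)) := by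
  refine ⟨fun hn ⟨𝓐, h⟩ => ?_, fun hn ⟨𝓐, h⟩ => ?_⟩
  · rcases (by omega : n = 5 ∨ 6 ≤ n) with rfl | hn6
    · exact CfsgLib.NilCover.not_isNilCover_alternating_five ⟨𝓐, h⟩
    · exact CfsgLib.NilCover.not_isNilCover_perm hn6 _ le_rfl
        (alternatingGroup.center_eq_bot (by rw [Nat.card_fin]; omega)) ⟨𝓐, h⟩
  · rcases (by omega : n = 4 ∨ n = 5 ∨ 6 ≤ n) with rfl | rfl | hn6
    · exact CfsgLib.NilCover.not_isNilCover_perm_four ⟨𝓐, h⟩
    · exact CfsgLib.NilCover.not_isNilCover_perm_five ⟨𝓐, h⟩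
    · classical
      let e : (⊤ : Subgroup (Equiv.Perm (Fin n))) ≃* Equiv.Perm (Fin n) := Subgroup.topEquiv
      have hZ : Subgroup.center (⊤ : Subgroup (Equiv.Perm (Fin n))) = ⊥ := by
        rw [eq_bot_iff]
        intro g hg
        have h1 : e g ∈ Subgroup.center (Equiv.Perm (Fin n)) :=
          Subgroup.mem_center_iff.mpr fun x => congrArg Subtype.val (Subgroup.mem_center_iff.mp hg ⟨x, Subgroup.mem_top x⟩)
        rw [CfsgLib.NilCover.center_perm_eq_bot (by omega), Subgroup.mem_bot] at h1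
        exact Subgroup.mem_bot.mpr (e.injective (h1.trans (map_one e).symm))
      refine CfsgLib.NilCover.not_isNilCover_perm hn6 ⊤ le_top hZ
        ⟨𝓐.image (fun A => A.comap e.toMonoidHom), ⟨⟨fun B hB => ?_, fun g => ?_⟩, fun 𝓑 h𝓑 => ?_, fun B hB => ?_⟩⟩
      · obtain ⟨A, hA, rfl⟩ := Finset.mem_image.mp hB
        intro hB'
        apply h.1.1 A hA
        rw [← Subgroup.map_comap_eq_self_of_surjective (f := e.toMonoidHom) e.surjective A, hB', Subgroup.map_top_of_surjective e.toMonoidHom e.surjective]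
      · obtain ⟨A, hA, hg⟩ := h.1.2 (e g)
        exact ⟨_, Finset.mem_image_of_mem _ hA, hg⟩
      · refine Finset.card_image_le.trans ((h.2.1 (𝓑.image (fun A => A.map e.toMonoidHom)) ⟨fun A hA => ?_, fun g => ?_⟩).trans Finset.card_image_le)
        · obtain ⟨B, hB, rfl⟩ := Finset.mem_image.mp hA
          intro hA'
          apply h𝓑.1 B hB
          rw [← Subgroup.comap_map_eq_self_of_injective (f := e.toMonoidHom) e.injective B, hA', Subgroup.comap_top]
        · obtain ⟨B, hB, hg⟩ := h𝓑.2 (e.symm g)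
          exact ⟨_, Finset.mem_image_of_mem _ hB, ⟨_, hg, e.apply_symm_apply g⟩⟩
      · obtain ⟨A, hA, rfl⟩ := Finset.mem_image.mp hB
        haveI := h.2.2 A hA
        refine Subgroup.isNilpotent_of_ker_le_center (e.toMonoidHom.subgroupComap A) (fun g hg => ?_)
        rw [show g = 1 from Subtype.ext (e.injective ((congrArg Subtype.val hg).trans (map_one e).symm))]
        exact one_mem _


end Cfsg.Agent.S3892
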