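import Cfsg.Statements.S3893
import Cfsg.Agent.Lib.Suzuki.Centralizer
import Cfsg.Agent.Lib.SuzukiMatrix.Bridge
-- import your own Cfsg.Agent.* helpers here

set_option autoImplicit false
set_option linter.style.haveILetI false
open Cfsg

open CfsgLib.Suzuki

namespace Cfsg.Agent.S3893

universe u

variable {F : Type u} [Field F] [Fintype F] {m : ℕ}

local notation "Pt" => Projectivization F (Fin 4 → F)

/-- The centralizer of an element fixes all its fixed points. -/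
theorem fix_of_commute (h : SzHyp F m) {g y : Cfsg.Sz F m} (hg : g ≠ 1) {p : Pt}
    (hp : p ∈ Cfsg.suzukiOvoid F m) (e : g • p = p) (hy : y * g = g * y) : y • p = p := by
  obtain ⟨x, A, hA, hgA, hle⟩ := centralizer_fix h hg hp e
  have hyA : x⁻¹ * y * x ∈ A := mem_map_conj.1 (hle (Subgroup.mem_centralizer_singleton_iff.2 hy))
  have hp' : x⁻¹ • p ∈ Cfsg.suzukiOvoid F m := smul_ovoid (x⁻¹).2 hp
  have hne : x⁻¹ * g * x ≠ 1 := fun e1 => hg (by
    calc g = x * (x⁻¹ * g * x) * x⁻¹ := by group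
      _ = 1 := by rw [e1]; group)
  have hgp : (x⁻¹ * g * x) • (x⁻¹ • p) = x⁻¹ • p := conj_fix.2 (by rw [smul_inv_smul]; exact e)
  suffices hgoal : (x⁻¹ * y * x) • (x⁻¹ • p) = x⁻¹ • p by
    have := conj_fix.1 hgoal
    rwa [smul_inv_smul] at this
  rcases hA with rfl | rfl
  · rw [tS_fixed h hgA hne hp' hgp]
    exact fix_pInf_of_mem_tGroup h hyA
  · obtain ⟨k, hk⟩ := (mem_torus h).1 hgA
    obtain ⟨j, hj⟩ := (mem_torus h).1 hyA
    have hk1 : k ≠ 1 := fun e1 => hne (by rw [← hk, e1, dS_one])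
    rcases dS_fixed' h hk1 hp' (hk ▸ hgp) with e1 | e1
    · rw [e1, ← hj]; exact dS_smul_pInf h j
    · rw [e1, ← hj]; exact dS_smul_p0 h j

/-- A nilpotent subgroup with a fixed-point element fixes that point. -/
theorem nilpotent_fix (h : SzHyp F m) (A : Subgroup (Cfsg.Sz F m)) [Group.IsNilpotent A]
    {a y : Cfsg.Sz F m} (ha : a ∈ A) (ha1 : a ≠ 1) {p : Pt} (hp : p ∈ Cfsg.suzukiOvoid F m)
    (e : a • p = p) (hy : y ∈ A) : y • p = p := by
  haveI : Nontrivial A :=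
    ⟨⟨⟨a, ha⟩, 1, fun e1 => ha1 (congrArg Subtype.val e1)⟩⟩
  haveI : Nontrivial (Subgroup.center A) := by
    rw [Subgroup.nontrivial_iff_ne_bot]
    intro hc
    have hu : ∀ n, Subgroup.upperCentralSeries A n = ⊥ := by
      intro n
      induction n with
      | zero => rfl
      | succ n ih =>
        rw [eq_bot_iff]
        intro w hw
        rw [← hc, Subgroup.mem_center_iff]
        intro v
        have h1 := Subgroup.mem_upperCentralSeries_succ_iff.1 hw v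
        rw [ih, Subgroup.mem_bot, commutatorElement_eq_one_iff_mul_comm] at h1
        exact h1.symm
    exact top_ne_bot (Subgroup.upperCentralSeries_nilpotencyClass.symm.trans (hu _))
  obtain ⟨⟨⟨z, hzA⟩, hz⟩, hz1⟩ := exists_ne (1 : Subgroup.center A)
  have hzne : z ≠ 1 := fun e1 => hz1 (Subtype.ext (Subtype.ext e1))
  have hza : z * a = a * z := (congrArg Subtype.val (Subgroup.mem_center_iff.1 hz ⟨a, ha⟩)).symm
  have hzy : y * z = z * y := congrArg Subtype.val (Subgroup.mem_center_iff.1 hz ⟨y, hy⟩)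
  exact fix_of_commute h hzne hp (fix_of_commute h ha1 hp e hza) hzy

theorem no_cover (h : SzHyp F m) (𝓐 : Finset (Subgroup (Cfsg.Sz F m)))
    (hprop : ∀ A ∈ 𝓐, A ≠ ⊤) (hcov : ∀ g : Cfsg.Sz F m, ∃ A ∈ 𝓐, g ∈ A)
    (hmin : ∀ 𝓑 : Finset (Subgroup (Cfsg.Sz F m)), (∀ A ∈ 𝓑, A ≠ ⊤) →
      (∀ g : Cfsg.Sz F m, ∃ A ∈ 𝓑, g ∈ A) → 𝓐.card ≤ 𝓑.card)
    (hnil : ∀ A ∈ 𝓐, Group.IsNilpotent A) : False := by
  classical
  haveI : Fintype (Cfsg.suzukiOvoid F m) := Fintype.ofFinite _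
  let St : Cfsg.suzukiOvoid F m → Subgroup (Cfsg.Sz F m) := fun p =>
    MulAction.stabilizer (Cfsg.Sz F m) (p : Pt)
  let T1 := 𝓐.filter fun A => ∃ (a : Cfsg.Sz F m) (p : Cfsg.suzukiOvoid F m),
    a ∈ A ∧ a ≠ 1 ∧ a • (p : Pt) = (p : Pt)
  let 𝓑 := (𝓐 \ T1) ∪ (Finset.univ : Finset (Cfsg.suzukiOvoid F m)).image St
  have htrans : ∀ p : Cfsg.suzukiOvoid F m, ∃ x : Cfsg.Sz F m, x • (pInf : Pt) = p := fun p =>
    exists_smul_pInf h p.2
  choose tr htr using htrans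
  let u : Cfsg.suzukiOvoid F m → Cfsg.Sz F m := fun p => tr p * tS h 0 1 * (tr p)⁻¹
  have hu1 : tS h (0 : F) 1 ≠ 1 := fun e => one_ne_zero ((tS_eq_one h).1 e).2
  have hune : ∀ p, u p ≠ 1 := fun p e => hu1 (conj_eq_one_iff.1 e)
  have hufix : ∀ p, u p • (p : Pt) = p := fun p => by
    rw [← htr p, ← mul_smul, inv_mul_cancel_right, mul_smul, fix_pInf_of_mem_tGroup h (tS_mem_tGroup h 0 1)]
  have huonly : ∀ (p : Cfsg.suzukiOvoid F m) (q : Pt), q ∈ Cfsg.suzukiOvoid F m →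
      u p • q = q → q = p := by
    intro p q hq e
    have h1 : tS h 0 1 • ((tr p)⁻¹ • q) = (tr p)⁻¹ • q := by
      rwa [eq_inv_smul_iff, ← mul_smul, ← mul_smul]
    have h2 : (tr p)⁻¹ • q = (pInf : Pt) :=
      tS_fixed h (tS_mem_tGroup h 0 1) hu1 (smul_ovoid ((tr p)⁻¹).2 hq) h1
    rw [← htr p]
    exact inv_smul_eq_iff.1 h2
  obtain ⟨k0, hk0⟩ : ∃ k : Fˣ, k ≠ 1 := by
    obtain ⟨x, hx0, hx1⟩ := h.exists_ne_zero_one
    exact ⟨Units.mk0 x hx0, fun e => hx1 (congrArg Units.val e)⟩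
  have hd1 : dS h k0 ≠ 1 := fun e => hk0 (dS_injective h (e.trans (dS_one h).symm))
  let elt : Option (Cfsg.suzukiOvoid F m) → Cfsg.Sz F m := fun o => o.elim (dS h k0) u
  choose mem hmem hmem' using hcov
  have hT1 : ∀ o, mem (elt o) ∈ T1 := by
    intro o
    refine Finset.mem_filter.2 ⟨hmem _, ?_⟩
    cases o with
    | none => exact ⟨dS h k0, ⟨pInf, pInf_mem⟩, hmem' _, hd1, dS_smul_pInf h k0⟩
    | some p => exact ⟨u p, p, hmem' _, hune p, hufix p⟩
  have hinj : Function.Injective fun o => mem (elt o) := by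
    have key : ∀ p, mem (u p) ≠ mem (dS h k0) := by
      intro p e
      haveI := hnil _ (hmem (dS h k0))
      have hu : u p ∈ mem (dS h k0) := e ▸ hmem' (u p)
      have h1 := nilpotent_fix h _ (hmem' (dS h k0)) hd1 pInf_mem (dS_smul_pInf h k0) hu
      have h2 := nilpotent_fix h _ (hmem' (dS h k0)) hd1 (pAff_mem 0 0) (dS_smul_p0 h k0) hu
      exact pAff_ne_pInf (m := m) (0 : F) 0
        ((huonly p _ (pAff_mem 0 0) h2).trans (huonly p _ pInf_mem h1).symm)
    intro o o' e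
    cases o with
    | none =>
      cases o' with
      | none => rfl
      | some q => exact absurd e.symm (key q)
    | some p =>
      cases o' with
      | none => exact absurd e (key p)
      | some q =>
        haveI := hnil _ (hmem (u p))
        have hq : u q ∈ mem (u p) := (show mem (u p) = mem (u q) from e) ▸ hmem' (u q)
        exact congrArg some (Subtype.ext (huonly q _ p.2
          (nilpotent_fix h _ (hmem' (u p)) (hune p) p.2 (hufix p) hq)))
  have hcount : Fintype.card (Cfsg.suzukiOvoid F m) + 1 ≤ T1.card := by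
    rw [← Fintype.card_option, ← Finset.card_univ,
      ← Finset.card_image_of_injective Finset.univ hinj]
    exact Finset.card_le_card fun A hA => by
      obtain ⟨o, -, rfl⟩ := Finset.mem_image.1 hA
      exact hT1 o
  have hB := hmin 𝓑 ?_ ?_
  · have hT1le : T1.card ≤ 𝓐.card := Finset.card_le_card (Finset.filter_subset _ _)
    have h1 : 𝓑.card ≤ (𝓐 \ T1).card + Fintype.card (Cfsg.suzukiOvoid F m) :=
      (Finset.card_union_le _ _).trans (Nat.add_le_add_left Finset.card_image_le _)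
    rw [Finset.card_sdiff_of_subset (Finset.filter_subset _ _)] at h1
    change 𝓑.card ≤ (𝓐.card - T1.card) + _ at h1
    omega
  · intro A hA
    rcases Finset.mem_union.1 hA with hA | hA
    · exact hprop A (Finset.mem_sdiff.1 hA).1
    · obtain ⟨p, -, rfl⟩ := Finset.mem_image.1 hA
      intro e
      obtain ⟨q, hq, hqne⟩ : ∃ q : Pt, q ∈ Cfsg.suzukiOvoid F m ∧ q ≠ p := by
        by_cases hp : (p : Pt) = pInf
        · exact ⟨_, pAff_mem 0 0, fun e1 => pAff_ne_pInf (m := m) (0 : F) 0 (e1.trans hp)⟩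
        · exact ⟨_, pInf_mem, Ne.symm hp⟩
      have hfix : u ⟨q, hq⟩ ∈ MulAction.stabilizer (Cfsg.Sz F m) (p : Pt) := by
        show u ⟨q, hq⟩ ∈ St p
        rw [e]
        exact Subgroup.mem_top _
      exact hqne (huonly ⟨q, hq⟩ _ p.2 hfix).symm
  · intro g
    by_cases hA : mem g ∈ T1
    · obtain ⟨-, a, p, ha, ha1, hap⟩ := Finset.mem_filter.1 hA
      haveI := hnil _ (hmem g)
      exact ⟨St p, Finset.mem_union_right _ (Finset.mem_image_of_mem _ (Finset.mem_univ p)),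
        nilpotent_fix h _ ha ha1 p.2 hap (hmem' g)⟩
    · exact ⟨mem g, Finset.mem_union_left _ (Finset.mem_sdiff.2 ⟨hmem g, hA⟩), hmem' g⟩

/-- A cover of a group is a finite set of proper subgroups whose union is the whole group; it is minimal when no cover has fewer members, and nilpotent when all its members are nilpotent. The Suzuki groups Sz(q), q = 2^(2m+1) with m ≥ 1, have no nilpotent minimal cover. -/
theorem result {F : Type*} [Field F] [Fintype F] (m : ℕ) (hm : 1 ≤ m) (hF : Fintype.card F = 2 ^ (2 * m + 1)) :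
    ¬ ∃ 𝓐 : Finset (Subgroup ↥(Cfsg.Lie.Sz F (2 ^ (m + 1)))), ((∀ A ∈ 𝓐, A ≠ ⊤) ∧ (∀ g : ↥(Cfsg.Lie.Sz F (2 ^ (m + 1))), ∃ A ∈ 𝓐, g ∈ A)) ∧ (∀ 𝓑 : Finset (Subgroup ↥(Cfsg.Lie.Sz F (2 ^ (m + 1)))), (∀ A ∈ 𝓑, A ≠ ⊤) ∧ (∀ g : ↥(Cfsg.Lie.Sz F (2 ^ (m + 1))), ∃ A ∈ 𝓑, g ∈ A) → 𝓐.card ≤ 𝓑.card) ∧ (∀ A ∈ 𝓐, Group.IsNilpotent ↥A) := by
  classical
  rintro ⟨𝓐, ⟨hprop, hcov⟩, hmin, hnil⟩
  let e := CfsgLib.SuzukiMatrix.szEquiv (⟨hm, hF⟩ : SzHyp F m)
  let emb : Subgroup (Cfsg.Lie.Sz F (2 ^ (m + 1))) ↪ Subgroup (Cfsg.Sz F m) :=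
    ⟨Subgroup.map e.symm.toMonoidHom, Subgroup.map_injective e.symm.injective⟩
  refine no_cover ⟨hm, hF⟩ (𝓐.map emb) ?_ ?_ ?_ ?_
  · intro A hA hAtop
    obtain ⟨B, hB, rfl⟩ := Finset.mem_map.1 hA
    exact hprop B hB (Subgroup.map_injective e.symm.injective
      (hAtop.trans (Subgroup.map_top_of_surjective _ e.symm.surjective).symm))
  · intro g
    obtain ⟨A, hA, hgA⟩ := hcov (e g)
    exact ⟨emb A, Finset.mem_map_of_mem _ hA, ⟨e g, hgA, e.symm_apply_apply g⟩⟩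
  · intro 𝓑 hB hBc
    let emb' : Subgroup (Cfsg.Sz F m) ↪ Subgroup (Cfsg.Lie.Sz F (2 ^ (m + 1))) :=
      ⟨Subgroup.map e.toMonoidHom, Subgroup.map_injective e.injective⟩
    rw [Finset.card_map, ← Finset.card_map emb' (s := 𝓑)]
    refine hmin (𝓑.map emb') ⟨?_, ?_⟩
    · intro A hA hAtop
      obtain ⟨B, hB', rfl⟩ := Finset.mem_map.1 hA
      exact hB B hB' (Subgroup.map_injective e.injective
        (hAtop.trans (Subgroup.map_top_of_surjective _ e.surjective).symm))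
    · intro g
      obtain ⟨A, hA, hgA⟩ := hBc (e.symm g)
      exact ⟨emb' A, Finset.mem_map_of_mem _ hA, ⟨e.symm g, hgA, e.apply_symm_apply g⟩⟩
  · intro A hA
    obtain ⟨B, hB, rfl⟩ := Finset.mem_map.1 hA
    haveI := hnil B hB
    exact Group.nilpotent_of_mulEquiv (B.equivMapOfInjective e.symm.toMonoidHom e.symm.injective)

end Cfsg.Agent.S3893
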