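import Cfsg.Statements.S3894
import Cfsg.Agent.Lib.NilCover.PGLFive
-- import your own Cfsg.Agent.* helpers here

set_option autoImplicit false
open Cfsg
open scoped MatrixGroups

namespace Cfsg.Agent.S3894

/-- A cover of a group is a finite set of proper subgroups whose union is the whole group; it is minimal when no cover has fewer members, and nilpotent when all its members are nilpotent. Let F be a finite field with q elements and n ≥ 3, or n = 2 and q ≥ 4. Then no subgroup of PGL_n(F) = GL_n(F)/Z(GL_n(F)) containing the image of SL_n(F) has a nilpotent minimal cover. -/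
theorem result {F : Type*} [Field F] [Fintype F] (n : ℕ) (hn : 3 ≤ n ∨ (n = 2 ∧ 4 ≤ Fintype.card F))
    (G : Subgroup (GL (Fin n) F ⧸ Subgroup.center (GL (Fin n) F)))
    (hG : ((Matrix.SpecialLinearGroup.toGL : Matrix.SpecialLinearGroup (Fin n) F →* GL (Fin n) F).range).map
      (QuotientGroup.mk' (Subgroup.center (GL (Fin n) F))) ≤ G) :
    ¬ ∃ 𝓐 : Finset (Subgroup ↥G), ((∀ A ∈ 𝓐, A ≠ ⊤) ∧ (∀ g : ↥G, ∃ A ∈ 𝓐, g ∈ A)) ∧ (∀ 𝓑 : Finset (Subgroup ↥G), (∀ A ∈ 𝓑, A ≠ ⊤) ∧ (∀ g : ↥G, ∃ A ∈ 𝓑, g ∈ A) → 𝓐.card ≤ 𝓑.card) ∧ (∀ A ∈ 𝓐, Group.IsNilpotent ↥A) := by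
  classical
  let G' : Subgroup (Matrix.ProjGenLinGroup (Fin n) F) := G
  have hG' : ∀ s : Matrix.SpecialLinearGroup (Fin n) F,
      Matrix.ProjGenLinGroup.mk (Matrix.SpecialLinearGroup.toGL s) ∈ G' :=
    fun s => hG (Subgroup.mem_map_of_mem _ ⟨s, rfl⟩)
  show CfsgLib.NilCover.NoNilCover G'
  rcases hn with hn | ⟨rfl, hq⟩
  · haveI : NeZero n := ⟨by omega⟩
    exact CfsgLib.NilCover.noNilCover_big hG' hn
  · by_cases hex : ∃ a : Fˣ, (a : F) * a ≠ 1 ∧ Matrix.ProjGenLinGroup.mk (CfsgLib.NilCover.diagGL a) ∈ G'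
    · obtain ⟨a, ha, haG⟩ := hex
      exact CfsgLib.NilCover.noNilCover_two hG' a ha haG
    · push Not at hex
      -- the squares have order at most two
      have h4 : ∀ b : Fˣ, (b : F) ^ 4 = 1 := by
        intro b
        by_contra hb
        refine hex (b * b) (fun e => hb (by rw [Units.val_mul] at e; linear_combination e)) ?_
        have hdet : (!![(b : F), 0; 0, ((b⁻¹ : Fˣ) : F)]).det = 1 := by simp [Matrix.det_fin_two]
        have := hG' ⟨_, hdet⟩
        convert this using 1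
        rw [Matrix.ProjGenLinGroup.mk_eq_mk_iff]
        refine ⟨b⁻¹, Units.ext ?_⟩
        rw [Units.val_mul, Matrix.GeneralLinearGroup.coe_scalar]
        show !![((b * b : Fˣ) : F), 0; 0, 1] * Matrix.scalar (Fin 2) ((b⁻¹ : Fˣ) : F) = !![(b : F), 0; 0, ((b⁻¹ : Fˣ) : F)]
        ext i j
        fin_cases i <;> fin_cases j <;> simp [Matrix.mul_apply, Matrix.scalar_apply]
      obtain ⟨g, hg⟩ := IsCyclic.exists_ofOrder_eq_natCard (α := Fˣ)
      have hdvd : Nat.card Fˣ ∣ 4 := by
        rw [← hg]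
        exact orderOf_dvd_of_pow_eq_one (Units.ext (by rw [Units.val_pow_eq_pow_val, Units.val_one]; exact h4 g))
      rw [Nat.card_eq_fintype_card, Fintype.card_units] at hdvd
      have h5 : Fintype.card F = 5 := by
        have := Nat.le_of_dvd (by norm_num) hdvd
        have hcases : Fintype.card F = 4 ∨ Fintype.card F = 5 := by omega
        rcases hcases with h | h
        · rw [h] at hdvd; norm_num at hdvd
        · exact h
      exact CfsgLib.NilCover.noNilCover_five h5 hG' hex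

end Cfsg.Agent.S3894
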