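import Cfsg.Statements.S3898
import Cfsg.Agent.Lib.PNilpotent.AbelianHall
-- import your own Cfsg.Agent.* helpers here

set_option autoImplicit false
open Cfsg

namespace Cfsg.Agent.S3898

/-- Let π be a finite set of primes containing 2 and G a finite group. Write k_π(G) for the number of conjugacy classes of G consisting of π-elements (elements all of whose order's prime divisors lie in π) and |G|_π for the π-part of the order of G. If k_π(G) > |G|_π/2, then G has a normal π-complement (a normal subgroup of order prime to π whose index is a π-number) and an abelian Hall subgroup for the set of odd primes in π. -/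
theorem result {G : Type*} [Group G] [Finite G] (π : Finset ℕ) (hπ : ∀ r ∈ π, r.Prime) (h2 : 2 ∈ π)
    (hk : π.prod (fun r => r ^ (Nat.card G).factorization r) < 2 * Nat.card {c : ConjClasses G // ∀ x ∈ c.carrier, ∀ r : ℕ, r.Prime → r ∣ orderOf x → r ∈ π}) :
    (∃ N : Subgroup G, N.Normal ∧ (∀ r : ℕ, r.Prime → r ∣ Nat.card ↥N → r ∉ π) ∧ ∀ r : ℕ, r.Prime → r ∣ N.index → r ∈ π) ∧ ∃ H : Subgroup G, Cfsg.IsPiHall ((↑π : Set ℕ) \ {2}) H ∧ IsMulCommutative ↥H := by
  classical
  set σ := π.erase 2 with hσdef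
  have hσ : ∀ r ∈ σ, r.Prime := fun r hr => hπ r (Finset.mem_of_mem_erase hr)
  -- each prime of `π` has more than half as many classes as the Sylow order
  have hhalf : ∀ r ∈ π, ∀ _ : Fact r.Prime, ∀ R : Sylow r G,
      Nat.card (R : Subgroup G) < 2 * Nat.card (CfsgLib.PNilpotent.PClasses r G) := by
    intro r hr _ R
    have hmul := CfsgLib.PNilpotent.card_piClasses_le_mul (G := G) hπ hr
    rw [← R.card_eq_multiplicity] at hmul
    have hK : CfsgLib.PNilpotent.piPart π (Nat.card G) < 2 * Nat.card (CfsgLib.PNilpotent.PiClasses π G) := hk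
    have hR : 0 < Nat.card (R : Subgroup G) := Nat.card_pos
    by_contra hcon
    push Not at hcon
    nlinarith [Nat.mul_le_mul_left 2 hmul, Nat.mul_le_mul_right (CfsgLib.PNilpotent.piPart π (Nat.card G)) hcon,
      Nat.mul_lt_mul_of_pos_right hK hR]
  obtain ⟨P⟩ := (inferInstance : Nonempty (Sylow 2 G))
  obtain ⟨K, hK, hKc⟩ := CfsgLib.PNilpotent.complement_of_many_two_classes P (hhalf 2 h2 inferInstance P)
  obtain ⟨hK2, j, hKidx⟩ := CfsgLib.PNilpotent.complement_props P hKc
  have hKodd : Odd (Nat.card K) := Nat.not_even_iff_odd.mp (fun h => hK2 (even_iff_two_dvd.mp h))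
  have hsyl : ∀ r ∈ σ, ∃ N : Subgroup K, N.Normal ∧ (¬ r ∣ Nat.card N ∧ ∃ k, N.index = r ^ k) ∧
      commutator K ≤ N := by
    intro r hr
    obtain ⟨hr2, hrπ⟩ := Finset.mem_erase.mp hr
    haveI : Fact r.Prime := ⟨hπ r hrπ⟩
    obtain ⟨R⟩ := (inferInstance : Nonempty (Sylow r G))
    obtain ⟨S, hS⟩ := CfsgLib.PNilpotent.sylow_subgroupOf_card R K
    -- `r`-elements lie in `K`
    have hmemK : ∀ x : G, (∃ k, orderOf x = r ^ k) → x ∈ K := by
      rintro x ⟨k, hk'⟩
      refine CfsgLib.PNilpotent.mem_of_coprime_of_isPGroup_quotient (p := 2)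
        (IsPGroup.of_card (n := j) (by rw [← Subgroup.index_eq_card, hKidx])) ?_
      rw [hk']
      exact Nat.Coprime.pow_left _ ((Nat.coprime_primes (hπ r hrπ) Nat.prime_two).mpr hr2)
    have hle : Nat.card (CfsgLib.PNilpotent.PClasses r G) ≤ Nat.card (CfsgLib.PNilpotent.PClasses r K) := by
      let f : CfsgLib.PNilpotent.PClasses r K → CfsgLib.PNilpotent.PClasses r G := fun c =>
        ⟨ConjClasses.mk ((Quotient.out c.1 : K) : G),
          (CfsgLib.PNilpotent.forall_carrier_iff (q := fun n => ∃ k, n = r ^ k)).mpr (by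
            rw [Subgroup.orderOf_coe]
            exact c.2 _ (by rw [ConjClasses.mem_carrier_iff_mk_eq]; exact Quotient.out_eq c.1))⟩
      refine Nat.card_le_card_of_surjective f ?_
      rintro ⟨d, hd⟩
      obtain ⟨x, rfl⟩ := ConjClasses.mk_surjective d
      have hx := hd x ConjClasses.mem_carrier_mk
      refine ⟨⟨ConjClasses.mk ⟨x, hmemK x hx⟩,
        (CfsgLib.PNilpotent.forall_carrier_iff (q := fun n => ∃ k, n = r ^ k)).mpr (by
          rw [Subgroup.orderOf_mk]; exact hx)⟩, Subtype.ext ?_⟩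
      refine ConjClasses.mk_eq_mk_iff_isConj.mpr ?_
      exact MonoidHom.map_isConj K.subtype (a := Quotient.out (ConjClasses.mk (⟨x, hmemK x hx⟩ : K)))
        (b := (⟨x, hmemK x hx⟩ : K))
        (ConjClasses.mk_eq_mk_iff_isConj.mp (Quotient.out_eq (ConjClasses.mk (⟨x, hmemK x hx⟩ : K))))
    have hRK : (R : Subgroup G) ≤ K := fun x hx => by
      obtain ⟨k, hk'⟩ := R.isPGroup'.exists_orderOf_eq_pow ⟨x, hx⟩
      exact hmemK x ⟨k, by rwa [Subgroup.orderOf_mk] at hk'⟩
    have hScard : Nat.card (S : Subgroup K) = Nat.card (R : Subgroup G) := by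
      rw [hS]; exact Nat.card_congr (Subgroup.subgroupOfEquivOfLe hRK).toEquiv
    have hkr : Nat.card (S : Subgroup K) < 2 * Nat.card (CfsgLib.PNilpotent.PClasses r K) := by
      rw [hScard]; exact (hhalf r hrπ inferInstance R).trans_le (Nat.mul_le_mul_left 2 hle)
    obtain ⟨N, hN, hc⟩ := CfsgLib.PNilpotent.complement_of_many_classes_odd_group hKodd hr2 S hkr
    refine ⟨N, hN, CfsgLib.PNilpotent.complement_props S hc,
      CfsgLib.PNilpotent.commutator_le_of_complement hN hc ?_⟩
    -- the Sylow subgroup is abelian: otherwise it has at most half as many classes as elements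
    by_contra hna
    have hk3 := hkr.trans_le (Nat.mul_le_mul_left 2 (CfsgLib.PNilpotent.card_pClasses_le_card_conjClasses S))
    have h1 := CfsgLib.PNilpotent.mul_card_conjClasses_le S.isPGroup'
    have hZ : Subgroup.center (S : Subgroup K) < ⊤ :=
      lt_top_iff_ne_top.mpr (fun h => hna (Subgroup.center_eq_top_iff.mp h))
    obtain ⟨h4, h5⟩ := CfsgLib.PNilpotent.mul_card_le_of_lt (p := r) (S.isPGroup'.to_subgroup ⊤) hZ
    have hne : (Subgroup.center (S : Subgroup K)).relIndex ⊤ ≠ r := by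
      rw [Subgroup.relIndex_top_right]
      intro h
      have hcy : IsCyclic ((S : Subgroup K) ⧸ Subgroup.center (S : Subgroup K)) :=
        isCyclic_of_prime_card (p := r) (by rw [← Subgroup.index_eq_card]; exact h)
      exact hna (MonoidHom.isMulCommutative_of_isCyclic_of_ker_le_center
        (QuotientGroup.mk' (Subgroup.center (S : Subgroup K))) (by simp))
    have h6 := h5 hne
    rw [Subgroup.card_top] at h6
    have hr3 : 3 ≤ r := by have := (hπ r hrπ).two_le; omega
    obtain ⟨q, rfl⟩ : ∃ q, r = q + 1 := ⟨r - 1, by omega⟩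
    nlinarith [Nat.mul_le_mul_left q h6, Nat.mul_le_mul_left q
      (Nat.mul_le_mul_right (Nat.card (Subgroup.center (S : Subgroup K))) (Nat.mul_le_mul hr3 hr3))]
  obtain ⟨N, H, hN, hN1, hN2, hmem, hHab, hHcard, hHidx⟩ :=
    CfsgLib.PNilpotent.exists_complement_abelian_hall hσ hsyl
  have hodd' : ∀ (A : Subgroup K) (r : ℕ), r ∣ Nat.card A → r ≠ 2 := by
    intro A r hrd h
    subst h
    exact hK2 (hrd.trans (Subgroup.card_subgroup_dvd_card A))
  have hNn : (N.map K.subtype).Normal := by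
    constructor
    rintro _ ⟨x, hx, rfl⟩ g
    refine ⟨⟨g * x * g⁻¹, hK.conj_mem x.1 x.2 g⟩, hmem _ (fun r hr hrd => ?_), rfl⟩
    rw [← Subgroup.orderOf_coe] at hrd
    change r ∣ orderOf (MulAut.conj g (x : G)) at hrd
    rw [MulEquiv.orderOf_eq, Subgroup.orderOf_coe] at hrd
    exact hN1 r (hσ r hr) (hrd.trans (Subgroup.orderOf_dvd_natCard N hx)) hr
  refine ⟨⟨N.map K.subtype, hNn, ?_, ?_⟩, H.map K.subtype, ⟨?_, ?_⟩, ?_⟩
  · intro r hr hrd hrπ
    rw [Subgroup.card_map_of_injective K.subtype_injective] at hrd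
    exact hN1 r hr hrd (Finset.mem_erase.mpr ⟨hodd' N r hrd, hrπ⟩)
  · intro r hr hrd
    rw [Subgroup.index_map_subtype, hKidx] at hrd
    rcases hr.dvd_mul.mp hrd with h | h
    · exact Finset.mem_of_mem_erase (hN2 r hr h)
    · rw [(Nat.prime_dvd_prime_iff_eq hr Nat.prime_two).mp (hr.dvd_of_dvd_pow h)]; exact h2
  · intro r hr hrd
    rw [Subgroup.card_map_of_injective K.subtype_injective] at hrd
    have := hN2 r hr (hHcard ▸ hrd)
    exact ⟨Finset.mem_coe.mpr (Finset.mem_of_mem_erase this), hodd' H r hrd⟩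
  · rintro r hr ⟨hrπ, hr2⟩ hrd
    rw [Subgroup.index_map_subtype, hKidx] at hrd
    rcases hr.dvd_mul.mp hrd with h | h
    · exact hN1 r hr (hHidx ▸ h) (Finset.mem_erase.mpr ⟨hr2, hrπ⟩)
    · exact hr2 ((Nat.prime_dvd_prime_iff_eq hr Nat.prime_two).mp (hr.dvd_of_dvd_pow h))
  · refine IsMulCommutative.of_comm ?_
    rintro ⟨_, a, ha, rfl⟩ ⟨_, b, hb, rfl⟩
    exact Subtype.ext (congrArg Subtype.val (congrArg Subtype.val (hHab.is_comm.comm ⟨a, ha⟩ ⟨b, hb⟩)) :)


end Cfsg.Agent.S3898
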