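import Cfsg.Statements.S3899
import Cfsg.Agent.Lib.PNilpotent.AbelianHall
-- import your own Cfsg.Agent.* helpers here

set_option autoImplicit false
open Cfsg

namespace Cfsg.Agent.S3899

/-- Let π be a finite non-empty set of odd primes with smallest member p and G a finite group. Write k_π(G) for the number of conjugacy classes of G consisting of π-elements (elements all of whose order's prime divisors lie in π) and |G|_π for the π-part of the order of G. If k_π(G) > (p + 1)|G|_π/(2p), then G has a normal π-complement (a normal subgroup of order prime to π whose index is a π-number) and an abelian Hall π-subgroup. -/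
theorem result {G : Type*} [Group G] [Finite G] (π : Finset ℕ) (hπ : ∀ r ∈ π, r.Prime) (h2 : 2 ∉ π) (p : ℕ) (hp : p ∈ π)
    (hmin : ∀ r ∈ π, p ≤ r) (hk : (p + 1) * π.prod (fun r => r ^ (Nat.card G).factorization r) < 2 * p * Nat.card {c : ConjClasses G // ∀ x ∈ c.carrier, ∀ r : ℕ, r.Prime → r ∣ orderOf x → r ∈ π}) :
    (∃ N : Subgroup G, N.Normal ∧ (∀ r : ℕ, r.Prime → r ∣ Nat.card ↥N → r ∉ π) ∧ ∀ r : ℕ, r.Prime → r ∣ N.index → r ∈ π) ∧ ∃ H : Subgroup G, Cfsg.IsPiHall (↑π : Set ℕ) H ∧ IsMulCommutative ↥H := by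
  have hsyl : ∀ r ∈ π, ∃ N : Subgroup G, N.Normal ∧ (¬ r ∣ Nat.card N ∧ ∃ k, N.index = r ^ k) ∧
      commutator G ≤ N := by
    intro r hr
    haveI : Fact r.Prime := ⟨hπ r hr⟩
    have hr2 : r ≠ 2 := fun h => h2 (h ▸ hr)
    obtain ⟨R⟩ := (inferInstance : Nonempty (Sylow r G))
    have hmul := CfsgLib.PNilpotent.card_piClasses_le_mul (G := G) hπ hr
    rw [← R.card_eq_multiplicity] at hmul
    have hkr : (r + 1) * Nat.card (R : Subgroup G) < 2 * r * Nat.card (CfsgLib.PNilpotent.PClasses r G) := by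
      have hR : 0 < Nat.card (R : Subgroup G) := Nat.card_pos
      have hpp := hmin r hr
      have hK : (p + 1) * CfsgLib.PNilpotent.piPart π (Nat.card G) <
          2 * p * Nat.card (CfsgLib.PNilpotent.PiClasses π G) := hk
      have hP0 := CfsgLib.PNilpotent.piPart_pos hπ (Nat.card G)
      have e1 : (p + 1) * Nat.card (R : Subgroup G) < 2 * p * Nat.card (CfsgLib.PNilpotent.PClasses r G) := by
        by_contra hcon
        push Not at hcon
        nlinarith [Nat.mul_le_mul_left (2 * p) hmul, Nat.mul_le_mul_right (CfsgLib.PNilpotent.piPart π (Nat.card G)) hcon,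
          Nat.mul_lt_mul_of_pos_right hK hR]
      have hp0 : 0 < p := (hπ p hp).pos
      by_contra hcon
      push Not at hcon
      nlinarith [Nat.mul_le_mul_left p hcon, Nat.mul_lt_mul_of_pos_left e1 (hπ r hr).pos,
        Nat.mul_le_mul_right (Nat.card (R : Subgroup G)) hpp]
    obtain ⟨N, hN, hc⟩ := CfsgLib.PNilpotent.complement_of_many_odd_classes hr2 R hkr
    exact ⟨N, hN, CfsgLib.PNilpotent.complement_props R hc,
      CfsgLib.PNilpotent.commutator_le_of_complement hN hc
        (CfsgLib.PNilpotent.isMulCommutative_of_many_classes hr2 R.isPGroup'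
          (hkr.trans_le (Nat.mul_le_mul_left _ (CfsgLib.PNilpotent.card_pClasses_le_card_conjClasses R))))⟩
  obtain ⟨N, H, hN, hN1, hN2, -, hHab, hHcard, hHidx⟩ :=
    CfsgLib.PNilpotent.exists_complement_abelian_hall hπ hsyl
  refine ⟨⟨N, hN, hN1, hN2⟩, H, ⟨?_, ?_⟩, hHab⟩
  · intro r hr hrd
    exact hN2 r hr (hHcard ▸ hrd)
  · intro r hr hrm hrd
    exact hN1 r hr (hHidx ▸ hrd) hrm


end Cfsg.Agent.S3899
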