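import Cfsg.Statements.S3901
import Cfsg.Agent.S0183
import Cfsg.Agent.Lib.Invol.GlaubermanZStar
import Cfsg.Agent.Lib.Invol.BaerSuzuki
import Cfsg.Agent.Lib.Solvable.Core

set_option autoImplicit false
set_option linter.style.haveILetI false
open Cfsg

namespace Cfsg.Agent.S3901

/-- Every element off `N` has prime power order. -/
def PPOutside {G : Type*} [Group G] (N : Subgroup G) : Prop := ∀ x : G, x ∉ N → IsPrimePow (orderOf x)

theorem centralizer_isPGroup {Q : Type*} [Group Q] [Finite Q]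
    (hcp : ∀ a : Q, a ≠ 1 → IsPrimePow (orderOf a)) {a : Q} (ha : a ≠ 1) :
    ∃ r : ℕ, r.Prime ∧ IsPGroup r (Subgroup.centralizer ({a} : Set Q)) := by
  obtain ⟨r, k, hr, hk, hrk⟩ := (isPrimePow_nat_iff _).1 (hcp a ha)
  refine ⟨r, hr, fun b => ?_⟩
  by_cases hb : (b : Q) = 1
  · exact ⟨0, by rw [pow_zero, pow_one]; exact Subtype.ext hb⟩
  obtain ⟨s, m, hs, hm, hsm⟩ := (isPrimePow_nat_iff _).1 (hcp _ hb)
  by_cases hrs : s = r
  · refine ⟨m, Subtype.ext ?_⟩
    rw [Subgroup.coe_pow, ← hrs, hsm, pow_orderOf_eq_one, Subgroup.coe_one]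
  exfalso
  have hc : Commute a b := (Subgroup.mem_centralizer_singleton_iff.1 b.2).symm
  have hco : (orderOf a).Coprime (orderOf (b : Q)) := by
    rw [← hrk, ← hsm]
    exact Nat.Coprime.pow _ _ ((Nat.coprime_primes hr hs).2 (Ne.symm hrs))
  have ho := hc.orderOf_mul_eq_mul_orderOf_of_coprime hco
  have hab : a * (b : Q) ≠ 1 := fun h => by
    rw [h, orderOf_one] at ho
    exact ha (orderOf_eq_one_iff.1 (Nat.eq_one_of_mul_eq_one_right ho.symm))
  obtain ⟨t, n, ht, hn, htn⟩ := (isPrimePow_nat_iff _).1 (hcp _ hab)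
  rw [ho, ← hrk, ← hsm] at htn
  have h1 : r ∣ t ^ n := htn ▸ Dvd.dvd.mul_right (dvd_pow_self r hk.ne') _
  have h2 : s ∣ t ^ n := htn ▸ Dvd.dvd.mul_left (dvd_pow_self s hm.ne') _
  exact hrs (((Nat.prime_dvd_prime_iff_eq hs ht).1 (hs.dvd_of_dvd_pow h2)).trans
    ((Nat.prime_dvd_prime_iff_eq hr ht).1 (hr.dvd_of_dvd_pow h1)).symm)

theorem isSolvable_of_odd_cp {Q : Type*} [Group Q] [Finite Q] (hodd : Odd (Nat.card Q))
    (hcp : ∀ a : Q, a ≠ 1 → IsPrimePow (orderOf a)) : Group.IsSolvable Q := by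
  refine Cfsg.Agent.S0183.result hodd fun a ha => ?_
  obtain ⟨r, hr, hrp⟩ := centralizer_isPGroup hcp ha
  haveI := Fact.mk hr
  exact hrp.isNilpotent

theorem prime_eq_of_commute {G : Type*} [Group G] [Finite G] {N : Subgroup G} (h : PPOutside N)
    {z v : G} (hz : z ∉ N) (hv : v ∈ N) (hc : Commute z v) {p r : ℕ} (hp : p.Prime) (hr : r.Prime)
    (hzp : p ∣ orderOf z) (hvr : r ∣ orderOf v) : p = r := by
  by_contra hne
  have hzv : z * v ∉ N := fun hm => hz (by simpa using N.mul_mem hm (N.inv_mem hv))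
  obtain ⟨t, n, ht, hn, htn⟩ := (isPrimePow_nat_iff _).1 (h _ hzv)
  obtain ⟨s, m, hs, hm, hsm⟩ := (isPrimePow_nat_iff _).1 (h _ hz)
  have hps : p = s := (Nat.prime_dvd_prime_iff_eq hp hs).1 (hp.dvd_of_dvd_pow (hsm ▸ hzp))
  subst hps
  obtain ⟨d, hd⟩ := hvr
  have hd0 : d ≠ 0 := by rintro rfl; exact (orderOf_pos v).ne' (by rw [hd, mul_zero])
  have hv' : orderOf (v ^ d) = r := by
    rw [orderOf_pow' _ hd0, hd, Nat.gcd_mul_left_left, Nat.mul_div_cancel _ (Nat.pos_of_ne_zero hd0)]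
  have hzv' : z * v ^ d ∉ N := fun hm => hz (by simpa using N.mul_mem hm (N.inv_mem (N.pow_mem hv d)))
  obtain ⟨t', n', ht', -, htn'⟩ := (isPrimePow_nat_iff _).1 (h _ hzv')
  have ho := (hc.pow_right d).orderOf_mul_eq_mul_orderOf_of_coprime (by
    rw [hv', ← hsm]; exact Nat.Coprime.pow_left _ ((Nat.coprime_primes hp hr).2 hne))
  rw [ho, hv', ← hsm] at htn'
  have h1 : p ∣ t' ^ n' := htn' ▸ Dvd.dvd.mul_right (dvd_pow_self p hm.ne') _
  have h2 : r ∣ t' ^ n' := htn' ▸ Dvd.intro_left _ rfl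
  exact hne (((Nat.prime_dvd_prime_iff_eq hp ht').1 (hp.dvd_of_dvd_pow h1)).trans
    ((Nat.prime_dvd_prime_iff_eq hr ht').1 (hr.dvd_of_dvd_pow h2)).symm)

/-- An involution of `G ⧸ N` inverting an element of odd order lifts to an involution of `L`. -/
theorem exists_involution_lift {G : Type*} [Group G] [Finite G] (N : Subgroup G) [N.Normal]
    (h : PPOutside N) (L : Subgroup G) (hL : L ⊔ N = ⊤) {a w : G ⧸ N} (ha : orderOf a = 2)
    (hw1 : w ≠ 1) (hw : Odd (orderOf w)) (haw : a * w * a⁻¹ = w⁻¹) :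
    ∃ x ∈ L, x * x = 1 ∧ (x : G ⧸ N) = a := by
  have hsurj : ∀ b : G ⧸ N, ∃ l ∈ L, (l : G ⧸ N) = b := by
    intro b
    obtain ⟨g, rfl⟩ := QuotientGroup.mk_surjective b
    obtain ⟨l, hl, k, hk, rfl⟩ := Subgroup.mem_sup_of_normal_right.1 (hL ▸ Subgroup.mem_top g : g ∈ L ⊔ N)
    exact ⟨l, hl, by rw [QuotientGroup.mk_mul, (QuotientGroup.eq_one_iff k).2 hk, mul_one]⟩
  obtain ⟨w0, hw0L, hw0⟩ := hsurj w
  obtain ⟨x0, hx0L, hx0⟩ := hsurj a
  have hw0N : w0 ∉ N := fun hm => hw1 (hw0 ▸ (QuotientGroup.eq_one_iff w0).2 hm)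
  obtain ⟨q, m, hq, hm, hqm⟩ := (isPrimePow_nat_iff _).1 (h _ hw0N)
  haveI := Fact.mk hq
  have hdw : orderOf w ∣ q ^ m := by
    rw [hqm, ← hw0]; exact orderOf_map_dvd (QuotientGroup.mk' N) w0
  obtain ⟨i0, -, hi0⟩ := (Nat.dvd_prime_pow hq).1 hdw
  have hi00 : i0 ≠ 0 := fun h0 => hw1 (orderOf_eq_one_iff.1 (by rw [hi0, h0, pow_zero]))
  have hqodd : q ≠ 2 := by
    intro h2
    rw [hi0, h2] at hw
    exact (Nat.not_odd_iff_even.2 ((Nat.even_pow' hi00).2 even_two)) hw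
  set K : Subgroup G := L ⊓ (Subgroup.zpowers w).comap (QuotientGroup.mk' N) with hK
  have hw0K : w0 ∈ K := Subgroup.mem_inf.2 ⟨hw0L, by
    rw [Subgroup.mem_comap, QuotientGroup.mk'_apply, hw0]
    exact Subgroup.mem_zpowers w⟩
  have hx0K : ∀ k ∈ K, x0 * k * x0⁻¹ ∈ K := by
    intro k hk
    refine ⟨L.mul_mem (L.mul_mem hx0L hk.1) (L.inv_mem hx0L), ?_⟩
    obtain ⟨i, hi⟩ := Subgroup.mem_zpowers_iff.1 hk.2
    rw [QuotientGroup.mk'_apply] at hi
    refine Subgroup.mem_zpowers_iff.2 ⟨-i, ?_⟩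
    rw [QuotientGroup.mk'_apply, QuotientGroup.mk_mul, QuotientGroup.mk_mul,
      QuotientGroup.mk_inv, hx0, ← hi, ← conj_zpow, haw, inv_zpow, zpow_neg]
  have hw0p : IsPGroup q (Subgroup.zpowers (⟨w0, hw0K⟩ : K)) := IsPGroup.of_card (n := m) (by
    rw [Nat.card_zpowers, ← Subgroup.orderOf_coe]; exact hqm.symm)
  obtain ⟨P0, hP0⟩ := hw0p.exists_le_sylow
  let c : K →* K :=
    { toFun := fun k => ⟨x0 * k * x0⁻¹, hx0K k k.2⟩
      map_one' := Subtype.ext (by simp)
      map_mul' := fun a b => Subtype.ext (by push_cast; group) }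
  have hcsurj : Function.Surjective c := Finite.surjective_of_injective fun a b e =>
    Subtype.ext (mul_left_cancel (mul_right_cancel (congrArg Subtype.val e :)))
  obtain ⟨k, hk⟩ := MulAction.exists_smul_eq K P0 (P0.mapSurjective (f := c) hcsurj)
  set Q : Subgroup G := (P0 : Subgroup K).map K.subtype with hQ
  have hn : ∀ v ∈ Q, ((k : G)⁻¹ * x0) * v * ((k : G)⁻¹ * x0)⁻¹ ∈ Q := by
    rintro _ ⟨v, hv, rfl⟩
    have h1 : c v ∈ ((k • P0 : Sylow q K) : Subgroup K) := by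
      rw [hk]; exact Subgroup.mem_map_of_mem c hv
    rw [Sylow.coe_subgroup_smul, Subgroup.mem_pointwise_smul_iff_inv_smul_mem] at h1
    refine ⟨_, h1, ?_⟩
    show (((MulAut.conj k)⁻¹ (c v) : K) : G) = ((k : G)⁻¹ * x0) * v * ((k : G)⁻¹ * x0)⁻¹
    simp [c, MulAut.inv_apply, MulAut.conj_symm_apply, mul_assoc]
  obtain ⟨i, hi⟩ := Subgroup.mem_zpowers_iff.1 k.2.2
  rw [QuotientGroup.mk'_apply] at hi
  have hw0Q : w0 ∈ Q := ⟨⟨w0, hw0K⟩, hP0 (Subgroup.mem_zpowers _), rfl⟩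
  set x : G := w0 ^ i * ((k : G)⁻¹ * x0) with hx
  have hxQ : ∀ v ∈ Q, x * v * x⁻¹ ∈ Q := by
    intro v hv
    have := Q.mul_mem (Q.mul_mem (Q.zpow_mem hw0Q i) (hn v hv)) (Q.inv_mem (Q.zpow_mem hw0Q i))
    simpa [hx, mul_assoc] using this
  have hxL : x ∈ L := L.mul_mem (L.zpow_mem hw0L i) (L.mul_mem (L.inv_mem k.2.1) hx0L)
  have hxbar : (x : G ⧸ N) = a := by
    rw [hx, QuotientGroup.mk_mul, QuotientGroup.mk_mul, QuotientGroup.mk_zpow,
      QuotientGroup.mk_inv, hw0, hx0, ← hi, mul_inv_cancel_left]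
  refine ⟨x, hxL, ?_, hxbar⟩
  -- `x` is a 2-element
  have hxN : x ∉ N := fun hm => by
    rw [← hxbar, (QuotientGroup.eq_one_iff x).2 hm, orderOf_one] at ha
    omega
  obtain ⟨p, e, hp, he, hpe⟩ := (isPrimePow_nat_iff _).1 (h _ hxN)
  have hp2 : 2 = p := (Nat.prime_dvd_prime_iff_eq Nat.prime_two hp).1
    (Nat.prime_two.dvd_of_dvd_pow (show 2 ∣ p ^ e by
      rw [hpe, ← ha, ← hxbar]; exact orderOf_map_dvd (QuotientGroup.mk' N) x))
  subst hp2
  set u := x * x with hu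
  have huN : u ∈ N := by
    rw [← QuotientGroup.eq_one_iff, hu, QuotientGroup.mk_mul, hxbar, ← pow_two, ← ha, pow_orderOf_eq_one]
  by_contra hu1
  have huQ : ∀ v ∈ Q, u * v * u⁻¹ ∈ Q := fun v hv => by
    have := hxQ _ (hxQ v hv)
    simpa [hu, mul_assoc] using this
  -- an element of the coset `w0` fixed by `u`
  have hz : ∀ g ∈ Subgroup.zpowers u, ∀ v : G, v ∈ Q → (v : G ⧸ N) = w →
      g * v * g⁻¹ ∈ Q ∧ ((g * v * g⁻¹ : G) : G ⧸ N) = w := by
    intro g hg v hv hvw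
    obtain ⟨j, hj⟩ := (Submonoid.mem_powers_iff _ _).1 (mem_powers_iff_mem_zpowers.2 hg)
    subst hj
    refine ⟨?_, by simp [(QuotientGroup.eq_one_iff u).2 huN, hvw]⟩
    clear hvw hg
    induction j with
    | zero => simpa using hv
    | succ j ih =>
      have := huQ _ ih
      simpa [pow_succ', mul_assoc] using this
  let S := {v : G // v ∈ Q ∧ (v : G ⧸ N) = w}
  letI : MulAction (Subgroup.zpowers u) S :=
    { smul := fun g v => ⟨(g : G) * v.1 * (g : G)⁻¹, hz g g.2 v.1 v.2.1 v.2.2⟩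
      one_smul := fun v => Subtype.ext (by
        show ((1 : Subgroup.zpowers u) : G) * v.1 * ((1 : Subgroup.zpowers u) : G)⁻¹ = v.1
        simp)
      mul_smul := fun g g' v => Subtype.ext (by
        show ((g * g' : Subgroup.zpowers u) : G) * v.1 * ((g * g' : Subgroup.zpowers u) : G)⁻¹ =
          (g : G) * ((g' : G) * v.1 * (g' : G)⁻¹) * (g : G)⁻¹
        push_cast; group) }
  have hS : Nat.card S = Nat.card ↥(Q ⊓ N) := Nat.card_congr
    { toFun := fun v => ⟨w0⁻¹ * v.1, Subgroup.mem_inf.2 ⟨Q.mul_mem (Q.inv_mem hw0Q) v.2.1, by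
        rw [← QuotientGroup.eq_one_iff, QuotientGroup.mk_mul, QuotientGroup.mk_inv,
          hw0, v.2.2, inv_mul_cancel]⟩⟩
      invFun := fun t => ⟨w0 * t.1, Q.mul_mem hw0Q t.2.1, by
        rw [QuotientGroup.mk_mul, hw0, (QuotientGroup.eq_one_iff _).2 t.2.2, mul_one]⟩
      left_inv := fun v => Subtype.ext (by simp)
      right_inv := fun t => Subtype.ext (by simp) }
  have hQp : IsPGroup q Q := P0.isPGroup'.map _
  obtain ⟨d, hd⟩ := (hQp.to_le (inf_le_left : Q ⊓ N ≤ Q)).exists_card_eq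
  have huord : ∃ j, orderOf u = 2 ^ j := by
    obtain ⟨j, -, hj⟩ := (Nat.dvd_prime_pow Nat.prime_two).1
      (show orderOf u ∣ 2 ^ e by rw [hpe, hu, ← pow_two]; exact orderOf_pow_dvd 2)
    exact ⟨j, hj⟩
  obtain ⟨j, hj⟩ := huord
  haveI : Fact (Nat.Prime 2) := ⟨Nat.prime_two⟩
  obtain ⟨v, hv⟩ := (IsPGroup.of_card (n := j) (by rw [Nat.card_zpowers, hj]) :
    IsPGroup 2 (Subgroup.zpowers u)).nonempty_fixed_point_of_prime_not_dvd_card S (by
      rw [hS, hd]
      intro h2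
      exact hqodd ((Nat.prime_dvd_prime_iff_eq Nat.prime_two hq).1 (Nat.prime_two.dvd_of_dvd_pow h2)).symm)
  have hfix : u * v.1 * u⁻¹ = v.1 := congrArg Subtype.val (hv ⟨u, Subgroup.mem_zpowers u⟩)
  have hcomm : Commute v.1 u := (mul_inv_eq_iff_eq_mul.1 hfix).symm
  have hvN : v.1 ∉ N := fun hm => hw1 (v.2.2 ▸ (QuotientGroup.eq_one_iff v.1).2 hm)
  obtain ⟨dv, hdv⟩ := IsPGroup.iff_orderOf.1 hQp ⟨v.1, v.2.1⟩
  rw [← Subgroup.orderOf_coe] at hdv
  have hdv0 : dv ≠ 0 := fun h0 => hvN (by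
    have h1 : v.1 = 1 := orderOf_eq_one_iff.1 (by simpa [h0] using hdv)
    rw [h1]; exact N.one_mem)
  have hj0 : j ≠ 0 := fun h0 => hu1 (orderOf_eq_one_iff.1 (by simpa [h0] using hj))
  exact hqodd (prime_eq_of_commute h hvN huN hcomm hq Nat.prime_two
    (hdv ▸ dvd_pow_self q hdv0) (hj ▸ dvd_pow_self 2 hj0))

theorem solvable_quotient_of_radical_free {G : Type*} [Group G] [Finite G] (N : Subgroup G) [N.Normal]
    (hns : ¬ Group.IsSolvable ↥N) (h : PPOutside N)
    (hrad : ∀ M : Subgroup (G ⧸ N), M.Normal → Group.IsSolvable ↥M → M = ⊥) :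
    Group.IsSolvable (G ⧸ N) := by
  by_contra hQns
  have hcp : ∀ a : G ⧸ N, a ≠ 1 → IsPrimePow (orderOf a) := by
    intro a ha
    obtain ⟨g, rfl⟩ := QuotientGroup.mk_surjective a
    exact (h g fun hg => ha ((QuotientGroup.eq_one_iff g).2 hg)).dvd
      (orderOf_map_dvd (QuotientGroup.mk' N) g) (fun h1 => ha (orderOf_eq_one_iff.1 h1))
  have hsolodd : ∀ M : Subgroup (G ⧸ N), Odd (Nat.card M) → Group.IsSolvable ↥M := fun M hM =>
    isSolvable_of_odd_cp hM fun a ha => by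
      rw [← Subgroup.orderOf_coe]; exact hcp _ fun h1 => ha (Subtype.ext h1)
  have hev : 2 ∣ Nat.card (G ⧸ N) := by
    rw [← even_iff_two_dvd, ← Nat.not_odd_iff_even]
    exact fun ho => hQns (isSolvable_of_odd_cp ho hcp)
  haveI : Fact (Nat.Prime 2) := ⟨Nat.prime_two⟩
  obtain ⟨a, ha⟩ := exists_prime_orderOf_dvd_card' 2 hev
  have hpair : ∃ b : G ⧸ N, orderOf b = 2 ∧ b ≠ a ∧ Commute a b := by
    by_contra hcon
    push Not at hcon
    have hiso : Cfsg.IsIsolatedInvolution a := ⟨ha, fun g hg => by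
      by_contra hne
      exact hcon _ (((SemiconjBy.orderOf_eq g (show SemiconjBy g a (g * a * g⁻¹) by simp [SemiconjBy, mul_assoc])).symm.trans ha)) hne hg⟩
    obtain ⟨-, hcomm⟩ := (⟨trivial, CfsgLib.Invol.zStar hiso⟩ :
      True ∧ ∀ g : G ⧸ N, a * g * a⁻¹ * g⁻¹ ∈ Cfsg.pPrimeCore 2 (G ⧸ N))
    have hO : Cfsg.pPrimeCore 2 (G ⧸ N) = ⊥ := by
      refine hrad _ inferInstance (hsolodd _ ?_)
      exact Nat.coprime_two_left.1 (CfsgLib.Solvable.pPrimeCore_card_coprime 2 (G ⧸ N)).symm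
    have hcen : a ∈ Subgroup.center (G ⧸ N) := Subgroup.mem_center_iff.2 fun g => by
      have := hcomm g
      rw [hO, Subgroup.mem_bot, mul_inv_eq_one, mul_inv_eq_iff_eq_mul] at this
      exact this.symm
    have := hrad (Subgroup.center (G ⧸ N)) inferInstance
      (isSolvable_of_comm fun s t => Subtype.ext (Subgroup.mem_center_iff.1 t.2 s))
    rw [this, Subgroup.mem_bot] at hcen
    rw [hcen, orderOf_one] at ha
    omega
  obtain ⟨b, hb, hba, hab⟩ := hpair
  -- the odd Sylow subgroup of `N` and its normaliser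
  obtain ⟨r, hr, hr2, hrN⟩ : ∃ r : ℕ, r.Prime ∧ r ≠ 2 ∧ r ∣ Nat.card N := by
    by_contra hcon
    push Not at hcon
    refine hns ?_
    have h2 : IsPGroup 2 ↥N := IsPGroup.of_card (n := (Nat.card N).primeFactorsList.length)
      (Nat.eq_prime_pow_of_unique_prime_dvd Nat.card_pos.ne'
        fun {d} hd hdN => by_contra fun hne => hcon d hd hne hdN)
    haveI := h2.isNilpotent
    infer_instance
  haveI := Fact.mk hr
  let P : Sylow r N := default
  set R : Subgroup G := (P : Subgroup N).map N.subtype with hR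
  set L : Subgroup G := Subgroup.normalizer (R : Set G) with hL
  have hLN : L ⊔ N = ⊤ := Sylow.normalizer_sup_eq_top P
  have hlift : ∀ c : G ⧸ N, orderOf c = 2 → ∃ x : G, x * x = 1 ∧ (x : G ⧸ N) = c ∧
      ∀ v ∈ R, x * v * x⁻¹ = v⁻¹ := by
    intro c hc
    obtain ⟨w, hw1, hw, hcw⟩ := CfsgLib.Invol.exists_odd_inverted_of_notMem_normal_two hc fun M hM hMp hcM => by
      haveI := hM
      have : Group.IsSolvable ↥M := by haveI := hMp.isNilpotent; infer_instance
      rw [hrad M hM this, Subgroup.mem_bot] at hcM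
      rw [hcM, orderOf_one] at hc
      omega
    obtain ⟨x, hxL, hxx, hxc⟩ := exists_involution_lift N h L hLN hc hw1 hw hcw
    refine ⟨x, hxx, hxc, ?_⟩
    have hxN : x ∉ N := fun hm => by
      rw [← hxc, (QuotientGroup.eq_one_iff x).2 hm, orderOf_one] at hc
      omega
    have hxo : orderOf x = 2 := orderOf_eq_prime (by rw [pow_two, hxx]) fun h1 => hxN (h1 ▸ N.one_mem)
    let φ : R →* R :=
      { toFun := fun v => ⟨x * v * x⁻¹, (Subgroup.mem_normalizer_iff.1 hxL v).1 v.2⟩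
        map_one' := Subtype.ext (by simp)
        map_mul' := fun s t => Subtype.ext (by push_cast; group) }
    have hfpf : MonoidHom.FixedPointFree φ := by
      intro v hv
      by_contra hv1
      obtain ⟨d, hd⟩ := IsPGroup.iff_orderOf.1 (P.isPGroup'.map N.subtype) v
      have hd0 : d ≠ 0 := fun h0 => hv1 (orderOf_eq_one_iff.1 (by simpa [h0] using hd))
      have hvN : (v : G) ∈ N := by
        obtain ⟨y, -, hy⟩ := v.2
        exact hy ▸ y.2
      refine hr2 (prime_eq_of_commute h hxN hvN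
        (mul_inv_eq_iff_eq_mul.1 (congrArg Subtype.val hv : _)) Nat.prime_two hr ?_ ?_).symm
      · rw [hxo]
      · rw [Subgroup.orderOf_coe, hd]; exact dvd_pow_self r hd0
    have hinv : Function.Involutive φ := fun v => Subtype.ext (by
      show x * (x * v * x⁻¹) * x⁻¹ = v
      rw [show x * (x * (v : G) * x⁻¹) * x⁻¹ = (x * x) * v * (x * x)⁻¹ by group, hxx]
      simp)
    intro v hv
    exact congrArg Subtype.val (congrFun (hfpf.coe_eq_inv_of_involutive hinv) ⟨v, hv⟩)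
  obtain ⟨x, hxx, hxa, hxv⟩ := hlift a ha
  obtain ⟨y, hyy, hyb, hyv⟩ := hlift b hb
  have hz : orderOf (((x * y : G)) : G ⧸ N) = 2 := by
    rw [QuotientGroup.mk_mul, hxa, hyb]
    refine orderOf_eq_prime ?_ fun h1 => hba ?_
    · rw [hab.mul_pow, ← ha, pow_orderOf_eq_one, one_mul, ha, ← hb, pow_orderOf_eq_one]
    · rw [← inv_eq_of_mul_eq_one_right h1]
      exact inv_eq_of_mul_eq_one_right (by rw [← pow_two, ← ha, pow_orderOf_eq_one])
  have hzN : x * y ∉ N := fun hm => by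
    rw [(QuotientGroup.eq_one_iff _).2 hm, orderOf_one] at hz
    omega
  obtain ⟨v, hv⟩ := exists_prime_orderOf_dvd_card' (G := R) r (by
    rw [hR, Nat.card_congr (((P : Subgroup N).equivMapOfInjective _ N.subtype_injective).symm).toEquiv]
    exact P.dvd_card_of_dvd_card hrN)
  have hvN : (v : G) ∈ N := by
    obtain ⟨t, -, ht⟩ := v.2
    exact ht ▸ t.2
  refine hr2 (prime_eq_of_commute h hzN hvN ?_ Nat.prime_two hr ?_ ?_).symm
  · refine mul_inv_eq_iff_eq_mul.1 ?_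
    rw [show x * y * (v : G) * (x * y)⁻¹ = x * (y * v * y⁻¹) * x⁻¹ by group, hyv _ v.2,
      hxv _ (R.inv_mem v.2), inv_inv]
  · rw [← hz]; exact orderOf_map_dvd (QuotientGroup.mk' N) _
  · rw [Subgroup.orderOf_coe, hv]

theorem solvable_quotient {G : Type*} [Group G] [Finite G] (N : Subgroup G) [hN : N.Normal]
    (hns : ¬ Group.IsSolvable ↥N) (h : PPOutside N) : Group.IsSolvable (G ⧸ N) := by
  induction hn : N.index using Nat.strong_induction_on generalizing N with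
  | _ n ih =>
    by_cases hrad : ∀ M : Subgroup (G ⧸ N), M.Normal → Group.IsSolvable ↥M → M = ⊥
    · exact solvable_quotient_of_radical_free N hns h hrad
    push Not at hrad
    obtain ⟨M, hM, hMs, hMne⟩ := hrad
    set N₁ : Subgroup G := M.comap (QuotientGroup.mk' N) with hN₁
    have hle : N ≤ N₁ := fun g hg => by
      rw [hN₁, Subgroup.mem_comap, QuotientGroup.mk'_apply, (QuotientGroup.eq_one_iff g).2 hg]
      exact M.one_mem
    have hlt : N < N₁ := lt_of_le_of_ne hle fun he => hMne (by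
      rw [← Subgroup.map_comap_eq_self_of_surjective (QuotientGroup.mk'_surjective N) M, ← hN₁, ← he,
        QuotientGroup.map_mk'_self])
    haveI : N₁.Normal := hM.comap _
    have hns₁ : ¬ Group.IsSolvable ↥N₁ := fun hs => hns
      (solvable_of_solvable_injective (f := Subgroup.inclusion hle) (Subgroup.inclusion_injective hle))
    have hs := ih N₁.index (hn ▸ Subgroup.index_strictAnti hlt) N₁ hns₁
      (fun x hx => h x fun hxN => hx (hle hxN)) rfl
    haveI := hM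
    haveI := hMs
    haveI : Group.IsSolvable ((G ⧸ N) ⧸ M) := by
      have e : (M.map (MonoidHom.id (G ⧸ N))) = M := Subgroup.map_id M
      refine solvable_of_surjective (f := QuotientGroup.lift N₁
        ((QuotientGroup.mk' M).comp (QuotientGroup.mk' N)) fun g hg => ?_) ?_
      · exact (QuotientGroup.eq_one_iff _).2 hg
      · intro q
        obtain ⟨g', rfl⟩ := QuotientGroup.mk_surjective q
        obtain ⟨g, rfl⟩ := QuotientGroup.mk_surjective g'
        exact ⟨g, rfl⟩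
    exact solvable_of_ker_le_range M.subtype (QuotientGroup.mk' M)
      (by rw [QuotientGroup.ker_mk', Subgroup.range_subtype])


/-- Let N be a non-trivial normal subgroup of the finite group G such that every element of G outside N has prime power order. If N is not solvable, then G/N is solvable. -/
theorem result {G : Type*} [Group G] [Finite G] (N : Subgroup G) [N.Normal] (hN : N ≠ ⊥) (hns : ¬ Group.IsSolvable ↥N)
    (h : ∀ x : G, x ∉ N → IsPrimePow (orderOf x)) : Group.IsSolvable (G ⧸ N) := by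
  exact solvable_quotient N hns h

end Cfsg.Agent.S3901
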