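import Cfsg.Statements.S3903
import Cfsg.Agent.Lib.MaxCentralizer.PMaximal
import Mathlib.Algebra.IsPrimePow
-- import your own Cfsg.Agent.* helpers here

set_option autoImplicit false
set_option linter.style.haveILetI false
open Cfsg

open Subgroup

namespace Cfsg.Agent.S3903

universe u

theorem centralizer_pgroup {G : Type u} [Group G] [Finite G] (N : Subgroup G) [N.Normal] (x : G)
    (hx : x ∉ N) {p k : ℕ} [Fact p.Prime] (hk : orderOf x = p ^ k)
    (hpp : ∀ z : G, z ∉ N → IsPrimePow (orderOf z)) :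
    IsPGroup p (centralizer ({x} : Set G)) := by
  have hp : p.Prime := Fact.out
  refine IsPGroup.of_card (n := (Nat.card (centralizer ({x} : Set G))).primeFactorsList.length)
    (Nat.eq_prime_pow_of_unique_prime_dvd Nat.card_pos.ne' fun {r} hr hrd => ?_)
  by_contra hne
  haveI : Fact r.Prime := ⟨hr⟩
  obtain ⟨⟨y, hy⟩, hyo⟩ := exists_prime_orderOf_dvd_card' r hrd
  rw [← orderOf_coe] at hyo
  have hcomm : Commute x y := ((mem_centralizer_singleton_iff.1 hy) : y * x = x * y).symm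
  have hcop : (orderOf x).Coprime (orderOf y) := by
    rw [hk, hyo]
    exact ((Nat.coprime_primes hp hr).2 (Ne.symm hne)).pow_left k
  have hxy := hcomm.orderOf_mul_eq_mul_orderOf_of_coprime hcop
  by_cases hN : x * y ∈ N
  · apply hx
    have h1 := pow_mem hN r
    rw [hcomm.mul_pow, ← hyo, pow_orderOf_eq_one, mul_one, hyo] at h1
    obtain ⟨m, hm⟩ := exists_pow_eq_self_of_coprime (x := x) (n := r)
      (by rw [hk]; exact ((Nat.coprime_primes hr hp).2 hne).pow_right k)
    rw [← hm]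
    exact pow_mem h1 m
  · have h1 := hpp _ hN
    rw [hxy, hk, hyo, isPrimePow_nat_iff] at h1
    obtain ⟨s, e, hs, -, hse⟩ := h1
    have hr1 : r ∣ s ^ e := hse ▸ Dvd.intro_left _ rfl
    have hrs := (Nat.prime_dvd_prime_iff_eq hr hs).1 (hr.dvd_of_dvd_pow hr1)
    rcases Nat.eq_zero_or_pos k with rfl | hk0
    · rw [pow_zero] at hk
      exact hx (by rw [orderOf_eq_one_iff.1 hk]; exact one_mem N)
    · have hp1 : p ∣ s ^ e := hse ▸ Dvd.dvd.mul_right (dvd_pow_self p hk0.ne') r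
      exact hne (hrs.trans ((Nat.prime_dvd_prime_iff_eq hp hs).1 (hp.dvd_of_dvd_pow hp1)).symm)

theorem normalizer_two_group {G : Type u} [Group G] [Finite G] (N : Subgroup G) [N.Normal]
    (h2 : ∀ z : G, z ∉ N → ∃ k : ℕ, orderOf z = 2 ^ k)
    (hc : ∀ z : G, z ∉ N → IsPGroup 2 (centralizer ({z} : Set G)))
    (D : Subgroup G) (hD : IsPGroup 2 D) {x : G} (hxD : x ∈ D) (hx : x ∉ N) :
    IsPGroup 2 (normalizer (D : Set G)) := by
  haveI : Fact (Nat.Prime 2) := ⟨Nat.prime_two⟩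
  refine IsPGroup.of_card (n := (Nat.card (normalizer (D : Set G))).primeFactorsList.length)
    (Nat.eq_prime_pow_of_unique_prime_dvd Nat.card_pos.ne' fun {r} hr hrd => ?_)
  by_contra hne
  haveI : Fact r.Prime := ⟨hr⟩
  obtain ⟨⟨w, hw⟩, hwo⟩ := exists_prime_orderOf_dvd_card' r hrd
  rw [← orderOf_coe] at hwo
  change orderOf w = r at hwo
  have hwN : w ∈ N := by
    by_contra hwN
    obtain ⟨k, hk⟩ := h2 w hwN
    rw [hwo] at hk
    exact hne ((Nat.prime_dvd_prime_iff_eq hr Nat.prime_two).1 (hr.dvd_of_dvd_pow (dvd_of_eq hk)))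
  let W := zpowers w
  have hWp : IsPGroup r W := IsPGroup.of_card (n := 1) (by rw [Nat.card_zpowers, hwo, pow_one])
  have hWN : W ≤ N := zpowers_le.2 hwN
  have hWD : W ≤ normalizer (D : Set G) := zpowers_le.2 hw
  let A : Type u := {d : G // d ∈ D ∧ x⁻¹ * d ∈ N}
  have hact : ∀ (g : W) (d : A), (g : G) * d.1 * (g : G)⁻¹ ∈ D ∧
      x⁻¹ * ((g : G) * d.1 * (g : G)⁻¹) ∈ N := by
    intro g d
    refine ⟨(mem_normalizer_iff.1 (hWD g.2) _).1 d.2.1, ?_⟩
    have h1 : d.1⁻¹ * (g : G) * d.1⁻¹⁻¹ * (g : G)⁻¹ ∈ N :=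
      mul_mem (Normal.conj_mem inferInstance _ (hWN g.2) _) (inv_mem (hWN g.2))
    have h3 := mul_mem d.2.2 h1
    convert h3 using 1
    group
  letI : MulAction W A :=
    { smul := fun g d => ⟨(g : G) * d.1 * (g : G)⁻¹, hact g d⟩
      one_smul := fun d => Subtype.ext (show ((1 : W) : G) * d.1 * ((1 : W) : G)⁻¹ = d.1 by simp)
      mul_smul := fun a b d => Subtype.ext (show ((a * b : W) : G) * d.1 * ((a * b : W) : G)⁻¹ =
        (a : G) * ((b : G) * d.1 * (b : G)⁻¹) * (a : G)⁻¹ by rw [Subgroup.coe_mul]; group) }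
  have hcardA : Nat.card A = Nat.card (D ⊓ N : Subgroup G) := Nat.card_congr
    { toFun := fun d => ⟨x⁻¹ * d.1, Subgroup.mem_inf.2 ⟨mul_mem (inv_mem hxD) d.2.1, d.2.2⟩⟩
      invFun := fun m => ⟨x * m.1, mul_mem hxD m.2.1, by rw [inv_mul_cancel_left]; exact m.2.2⟩
      left_inv := fun d => Subtype.ext (mul_inv_cancel_left x d.1)
      right_inv := fun m => Subtype.ext (inv_mul_cancel_left x m.1) }
  have hndvd : ¬ r ∣ Nat.card A := by
    rw [hcardA]
    obtain ⟨k, hk⟩ := IsPGroup.iff_card.1 (hD.to_le (inf_le_left : D ⊓ N ≤ D))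
    rw [hk]
    exact fun hd => hne ((Nat.prime_dvd_prime_iff_eq hr Nat.prime_two).1 (hr.dvd_of_dvd_pow hd))
  obtain ⟨d, hd⟩ := hWp.nonempty_fixed_point_of_prime_not_dvd_card A hndvd
  have hdN : d.1 ∉ N := fun h => hx (by simpa using mul_mem h (inv_mem d.2.2))
  have hd1 : w * d.1 * w⁻¹ = d.1 := congrArg Subtype.val (hd ⟨w, mem_zpowers w⟩)
  obtain ⟨j, hj⟩ := hc _ hdN ⟨w, mem_centralizer_singleton_iff.2 (mul_inv_eq_iff_eq_mul.1 hd1)⟩
  have := orderOf_dvd_of_pow_eq_one (congrArg Subtype.val hj : w ^ 2 ^ j = 1)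
  rw [hwo] at this
  exact hne ((Nat.prime_dvd_prime_iff_eq hr Nat.prime_two).1 (hr.dvd_of_dvd_pow this))

theorem solvable_group {G : Type u} [Group G] [Finite G] (N : Subgroup G) [N.Normal] (hN : N ≠ ⊤)
    (h : ∀ x : G, x ∉ N → IsPrimePow (orderOf x) ∧ IsCoatom (centralizer ({x} : Set G))) :
    Group.IsSolvable G := by
  by_cases hodd : ∃ (x : G) (p k : ℕ), x ∉ N ∧ p.Prime ∧ p ≠ 2 ∧ orderOf x = p ^ k
  · obtain ⟨x, p, k, hx, hp, hp2, hk⟩ := hodd
    haveI : Fact p.Prime := ⟨hp⟩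
    exact CfsgLib.MaxCentralizer.solvable_of_maximal_pgroup hp2 _
      (centralizer_pgroup N x hx hk fun z hz => (h z hz).1) (h x hx).2
  push Not at hodd
  haveI : Fact (Nat.Prime 2) := ⟨Nat.prime_two⟩
  have h2 : ∀ z : G, z ∉ N → ∃ k : ℕ, orderOf z = 2 ^ k := by
    intro z hz
    obtain ⟨s, e, hs, -, hse⟩ := (isPrimePow_nat_iff _).1 (h z hz).1
    refine ⟨e, ?_⟩
    rcases eq_or_ne s 2 with rfl | hs2
    · exact hse.symm
    · exact absurd hse.symm (hodd z s e hz hs hs2)
  have hc : ∀ z : G, z ∉ N → IsPGroup 2 (centralizer ({z} : Set G)) := fun z hz => by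
    obtain ⟨k, hk⟩ := h2 z hz
    exact centralizer_pgroup N z hz hk fun w hw => (h w hw).1
  obtain ⟨x0, hx0⟩ : ∃ x0, x0 ∉ N := by
    by_contra hh
    push Not at hh
    exact hN (eq_top_iff.2 fun g _ => hh g)
  obtain ⟨P, hP⟩ := (hc x0 hx0).exists_le_sylow
  by_cases hPtop : (P : Subgroup G) = ⊤
  · exact CfsgLib.Solvable.isSolvable_of_isPGroup (p := 2)
      ((hPtop ▸ P.2 : IsPGroup 2 (⊤ : Subgroup G)).of_equiv topEquiv)
  have hPmax : IsCoatom (P : Subgroup G) := by
    rcases hP.eq_or_lt with e | hlt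
    · exact e ▸ (h x0 hx0).2
    · exact absurd ((h x0 hx0).2.2 _ hlt) hPtop
  have huniq : ∀ z ∈ (P : Subgroup G), z ∉ N → ∀ R : Sylow 2 G, z ∈ (R : Subgroup G) →
      (R : Subgroup G) = P := by
    intro z hzP hz R hzR
    by_contra hne
    obtain ⟨R', ⟨hzR', hne'⟩, hmax⟩ := Set.exists_max_image
      {T : Sylow 2 G | z ∈ (T : Subgroup G) ∧ (T : Subgroup G) ≠ P}
      (fun T => Nat.card ((P : Subgroup G) ⊓ (T : Subgroup G) : Subgroup G)) (Set.toFinite _) ⟨R, hzR, hne⟩
    set D := (P : Subgroup G) ⊓ (R' : Subgroup G)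
    have hN2 := normalizer_two_group N h2 hc D (P.2.to_le inf_le_left) ⟨hzP, hzR'⟩ hz
    obtain ⟨U, hU⟩ := hN2.exists_le_sylow
    have grow : ∀ T : Sylow 2 G, D ≤ (T : Subgroup G) → D ≠ T →
        D < (T : Subgroup G) ⊓ normalizer (D : Set G) := by
      intro T hDT hDne
      haveI := T.2.isNilpotent
      have hlt : D.subgroupOf T < ⊤ :=
        lt_top_iff_ne_top.2 fun e => hDne (le_antisymm hDT (subgroupOf_eq_top.1 e))
      obtain ⟨t, ht, ht'⟩ := SetLike.exists_of_lt (Group.normalizerCondition_of_isNilpotent _ hlt)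
      refine lt_of_le_of_ne (le_inf hDT le_normalizer) fun e => ht' (e.ge ⟨t.2, ?_⟩)
      refine mem_normalizer_iff.2 fun y => ⟨fun hy => ?_, fun hy => ?_⟩
      · exact (mem_normalizer_iff.1 ht ⟨y, hDT hy⟩).1 hy
      · have hyT : y ∈ (T : Subgroup G) := by
          have := mul_mem (mul_mem (inv_mem t.2) (hDT hy)) (t.2 : (t : G) ∈ (T : Subgroup G))
          convert this using 1
          simp [mul_assoc]
        exact (mem_normalizer_iff.1 ht ⟨y, hyT⟩).2 hy
    have hDP : D ≠ P := fun e => hne'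
      ((P.is_maximal' R'.2 (e.ge.trans inf_le_right)))
    have hUP : (U : Subgroup G) = P := by
      by_contra hUne
      have h1 := hmax U ⟨hU (le_normalizer (⟨hzP, hzR'⟩ : z ∈ D)), hUne⟩
      have h2' : D < (P : Subgroup G) ⊓ U :=
        (grow P inf_le_left hDP).trans_le (inf_le_inf_left _ hU)
      exact h1.not_gt ((Set.ncard_lt_ncard h2' (Set.toFinite _)))
    have hDR : D ≠ R' := fun e => hne' (R'.is_maximal' P.2 (e.ge.trans inf_le_left)).symm
    have h3 := grow R' inf_le_right hDR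
    refine h3.not_ge (le_inf ?_ inf_le_left)
    exact inf_le_right.trans (hU.trans hUP.le)
  have hcen : ∀ z ∈ (P : Subgroup G), z ∉ N → ∀ g ∈ (P : Subgroup G), g * z = z * g := by
    intro z hzP hz g hg
    obtain ⟨R, hR⟩ := (hc z hz).exists_le_sylow
    have hRP := huniq z hzP hz R (hR (mem_centralizer_singleton_iff.2 rfl))
    have : centralizer ({z} : Set G) = (P : Subgroup G) := by
      rcases (hR.trans hRP.le).eq_or_lt with e | hlt
      · exact e
      · exact absurd ((h z hz).2.2 _ hlt) hPtop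
    exact mem_centralizer_singleton_iff.1 (this ▸ hg)
  refine CfsgLib.MaxCentralizer.solvable_of_maximal_abelian_sylow P hPmax fun a ha b hb => ?_
  have hx0P : x0 ∈ (P : Subgroup G) := hP (mem_centralizer_singleton_iff.2 rfl)
  by_cases hbN : b ∈ N
  · have hbx : b * x0 ∉ N := fun e => hx0 (by simpa using mul_mem (inv_mem hbN) e)
    have e1 := hcen _ (mul_mem hb hx0P) hbx a ha
    have e2 := hcen x0 hx0P hx0 a ha
    apply mul_right_cancel (b := x0)
    calc a * b * x0 = b * x0 * a := by rw [mul_assoc, e1]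
      _ = b * (x0 * a) := mul_assoc _ _ _
      _ = b * a * x0 := by rw [← e2, mul_assoc]
  · exact hcen b hb hbN a ha

/-- Let N be a proper normal subgroup of the finite group G such that every element x of G outside N has prime power order and has centralizer C_G(x) a maximal subgroup of G. Then N is solvable. -/
theorem result {G : Type*} [Group G] [Finite G] (N : Subgroup G) [N.Normal] (hN : N ≠ ⊤)
    (h : ∀ x : G, x ∉ N → IsPrimePow (orderOf x) ∧ IsCoatom (Subgroup.centralizer ({x} : Set G))) : Group.IsSolvable ↥N := by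
  haveI := solvable_group N hN h
  infer_instance

end Cfsg.Agent.S3903
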