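import Cfsg.Statements.S3904
import Cfsg.Agent.Lib.MaxCentralizer.Quotient
-- import your own Cfsg.Agent.* helpers here

set_option autoImplicit false
open Cfsg

namespace Cfsg.Agent.S3904

/-- Let G be a non-abelian finite group in which the centralizer of every non-central element is a maximal subgroup. Then G/Z(G) is either an elementary abelian p-group for some prime p, or a minimal non-abelian group (non-abelian with all proper subgroups abelian) of order p^a · q for distinct primes p, q with a normal Sylow p-subgroup. -/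
theorem result {G : Type*} [Group G] [Finite G] (hna : ¬ IsMulCommutative G)
    (h : ∀ x : G, x ∉ Subgroup.center G → IsCoatom (Subgroup.centralizer ({x} : Set G))) :
    (∃ p : ℕ, p.Prime ∧ Cfsg.IsElementaryAbelian p (⊤ : Subgroup (G ⧸ Subgroup.center G))) ∨
    (¬ IsMulCommutative (G ⧸ Subgroup.center G) ∧ (∀ H : Subgroup (G ⧸ Subgroup.center G), H ≠ ⊤ → IsMulCommutative ↥H) ∧
      ∃ p q a : ℕ, p.Prime ∧ q.Prime ∧ p ≠ q ∧ Nat.card (G ⧸ Subgroup.center G) = p ^ a * q ∧
        ∀ P : Subgroup (G ⧸ Subgroup.center G), Nat.card ↥P = p ^ a → P.Normal) := by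
  classical
  haveI : (⊤ : Subgroup G).Normal := inferInstance
  have hc0 : Subgroup.centralizer ((⊤ : Subgroup G) : Set G) = Subgroup.center G := by
    rw [Subgroup.coe_top, Subgroup.centralizer_univ]
  have hN : CfsgLib.MaxCentralizer.Hyp (⊤ : Subgroup G) := fun x _ hx => h x (hc0 ▸ hx)
  let e0 : (⊤ : Subgroup G) ≃* G := Subgroup.topEquiv
  have he0 : (Subgroup.center (⊤ : Subgroup G)).map e0.toMonoidHom = Subgroup.center G := by
    refine le_antisymm ?_ fun y hy => ⟨⟨y, Subgroup.mem_top y⟩, ?_, rfl⟩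
    · rintro _ ⟨x, hx, rfl⟩
      rw [Subgroup.mem_center_iff]
      exact fun g => congrArg Subtype.val (Subgroup.mem_center_iff.mp hx ⟨g, Subgroup.mem_top g⟩)
    · exact Subgroup.mem_center_iff.mpr fun g => Subtype.ext (Subgroup.mem_center_iff.mp hy g)
  let e : (⊤ : Subgroup G) ⧸ Subgroup.center (⊤ : Subgroup G) ≃* G ⧸ Subgroup.center G :=
    QuotientGroup.congr _ _ e0 he0
  obtain ⟨p, hp, h'⟩ | ⟨K, X, p, q, hcf⟩ := CfsgLib.MaxCentralizer.dichotomy hN
  · obtain ⟨hcom, hexp⟩ := CfsgLib.MaxCentralizer.elementary_quotient h'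
    refine Or.inl ⟨p, hp, ⟨⟨fun a b => Subtype.ext ?_⟩⟩, fun a _ => ?_⟩
    · apply e.symm.injective
      rw [Subgroup.coe_mul, Subgroup.coe_mul, map_mul, map_mul]
      exact congrArg Subtype.val (hcom.is_comm.comm ⟨e.symm a, Subgroup.mem_top _⟩ ⟨e.symm b, Subgroup.mem_top _⟩)
    · apply e.symm.injective
      rw [map_pow, map_one]
      exact hexp _ (Subgroup.mem_top _)
  · obtain ⟨hKn, hKel, hfrob, hXc, -, hidx, ⟨a, ha⟩, hnab⟩ := CfsgLib.MaxCentralizer.frobenius_of_config hcf
    set Kb := CfsgLib.MaxCentralizer.bar (⊤ : Subgroup G) K with hKb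
    refine Or.inr ⟨fun hab => hnab ⟨⟨fun x y => e.injective ?_⟩⟩, fun H hH => ?_, p, q, a, hcf.hp, hcf.hq, hcf.hpq, ?_, fun P hP => ?_⟩
    · rw [map_mul, map_mul]; exact hab.is_comm.comm _ _
    · -- proper subgroups are abelian
      set H' := H.comap e.toMonoidHom with hH'
      have hH'ne : H' ≠ ⊤ := by
        intro h1
        apply hH
        rw [← Subgroup.map_comap_eq_self_of_surjective (f := e.toMonoidHom) e.surjective H, ← hH', h1, Subgroup.map_top_of_surjective e.toMonoidHom e.surjective]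
      suffices hab : ∀ x ∈ H', ∀ y ∈ H', x * y = y * x by
        refine ⟨⟨fun a b => Subtype.ext ?_⟩⟩
        apply e.symm.injective
        rw [Subgroup.coe_mul, Subgroup.coe_mul, map_mul, map_mul]
        exact hab _ (by change e _ ∈ H; rw [e.apply_symm_apply]; exact a.2) _ (by change e _ ∈ H; rw [e.apply_symm_apply]; exact b.2)
      by_cases hle : H' ≤ Kb
      · exact fun x hx y hy => congrArg Subtype.val (hKel.1.is_comm.comm ⟨x, hle hx⟩ ⟨y, hle hy⟩)
      haveI : Fact q.Prime := ⟨hcf.hq⟩
      have htop : H' ⊔ Kb = ⊤ := by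
        rw [← Subgroup.index_eq_one]
        have h1 := Subgroup.relIndex_mul_index (le_sup_right : Kb ≤ H' ⊔ Kb)
        rw [hidx] at h1
        rcases (Nat.dvd_prime hcf.hq).mp (Dvd.intro_left _ h1) with h2 | h2
        · exact h2
        · exfalso
          rw [h2] at h1
          have h3 : Kb.relIndex (H' ⊔ Kb) = 1 := Nat.eq_of_mul_eq_mul_right hcf.hq.pos (h1.trans (one_mul q).symm)
          exact hle (le_sup_left.trans (Subgroup.relIndex_eq_one.mp h3))
      have hIn : (Kb ⊓ H').Normal := by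
        rw [← Subgroup.normalizer_eq_top_iff, ← top_le_iff, ← htop]
        refine sup_le (fun g hg => CfsgLib.MaxCentralizer.mem_normalizer_of_conj_mem fun w hw => ?_)
          (fun g hg => CfsgLib.MaxCentralizer.mem_normalizer_of_conj_mem fun w hw => ?_)
        · exact Subgroup.mem_inf.mpr ⟨hKn.conj_mem w hw.1 g, H'.mul_mem (H'.mul_mem hg hw.2) (H'.inv_mem hg)⟩
        · have hgw : g * w = w * g := congrArg Subtype.val (hKel.1.is_comm.comm ⟨g, hg⟩ ⟨w, hw.1⟩)
          rw [hgw, mul_inv_cancel_right]; exact hw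
      set π := QuotientGroup.mk' (Subgroup.center (⊤ : Subgroup G))
      set B := ((Kb ⊓ H').comap π).map (⊤ : Subgroup G).subtype with hB
      have hBn : B.Normal := (hIn.comap π).map (⊤ : Subgroup G).subtype (fun g => ⟨⟨g, Subgroup.mem_top g⟩, rfl⟩)
      have hBK : B ≤ K := by
        rintro _ ⟨w, hw, rfl⟩
        exact (CfsgLib.MaxCentralizer.mk_mem_bar hcf.ctr_le_K w).mp hw.1
      have hZB : CfsgLib.MaxCentralizer.ctr (⊤ : Subgroup G) ≤ B := fun z hz => by
        refine ⟨⟨z, Subgroup.mem_top z⟩, ?_, rfl⟩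
        change π ⟨z, Subgroup.mem_top z⟩ ∈ Kb ⊓ H'
        rw [show π ⟨z, Subgroup.mem_top z⟩ = 1 from
          (QuotientGroup.eq_one_iff _).mpr ((CfsgLib.MaxCentralizer.mem_center_iff_ctr _).mpr hz)]
        exact one_mem _
      intro x hx y hy
      rcases hcf.K_min B hBn hZB hBK with hcase | hcase
      · have hinf : Kb ⊓ H' = ⊥ := by
          rw [eq_bot_iff]
          intro z hz
          obtain ⟨w, rfl⟩ := QuotientGroup.mk'_surjective _ z
          exact Subgroup.mem_bot.mpr ((QuotientGroup.eq_one_iff w).mpr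
            ((CfsgLib.MaxCentralizer.mem_center_iff_ctr w).mpr (hcase ▸ ⟨w, hz, rfl⟩)))
        have hcard : Nat.card H' ∣ q := by
          have h4 := Kb.relIndex_dvd_index_of_normal (K := H')
          rwa [← Subgroup.inf_relIndex_right, hinf, Subgroup.relIndex_bot_left, hidx] at h4
        haveI : IsCyclic H' := isCyclic_of_card_dvd_prime hcard
        exact congrArg Subtype.val (IsMulCommutative.is_comm.comm (⟨x, hx⟩ : H') ⟨y, hy⟩)
      · exfalso
        apply hH'ne
        rw [← htop, eq_comm, sup_eq_left]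
        intro z hz
        obtain ⟨w, rfl⟩ := QuotientGroup.mk'_surjective _ z
        obtain ⟨w', hw', he⟩ := hcase.ge ((CfsgLib.MaxCentralizer.mk_mem_bar hcf.ctr_le_K w).mp hz)
        obtain rfl : w' = w := Subtype.ext he
        exact hw'.2
    · rw [← Nat.card_congr e.toEquiv, ← Kb.card_mul_index, ha, hidx]
    · -- the Sylow subgroup is normal
      have hK' : Nat.card (Kb.map e.toMonoidHom) = p ^ a := by rw [Subgroup.card_map_of_injective (f := e.toMonoidHom) e.injective, ha]
      have hK'i : (Kb.map e.toMonoidHom).index = q := by rw [← hidx]; exact Subgroup.index_map_equiv Kb e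
      haveI : (Kb.map e.toMonoidHom).Normal := hKn.map _ e.surjective
      have hle : P ≤ Kb.map e.toMonoidHom := by
        have h1 : (Kb.map e.toMonoidHom).relIndex P ∣ Nat.gcd (p ^ a) q :=
          Nat.dvd_gcd (hP ▸ Subgroup.relIndex_dvd_card _ _) (hK'i ▸ Subgroup.relIndex_dvd_index_of_normal _ P)
        rw [Nat.Coprime.pow_left a ((Nat.coprime_primes hcf.hp hcf.hq).mpr hcf.hpq)] at h1
        exact Subgroup.relIndex_eq_one.mp (Nat.dvd_one.mp h1)
      rw [Subgroup.eq_of_le_of_card_ge hle (by rw [hP, hK'])]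
      infer_instance


end Cfsg.Agent.S3904
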