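import Cfsg.Statements.S3905
import Cfsg.Agent.Lib.MaxCentralizer.Quotient
-- import your own Cfsg.Agent.* helpers here

set_option autoImplicit false
open Cfsg

namespace Cfsg.Agent.S3905

/-- Let N be a normal subgroup of the finite group G such that for every element x of N outside the center of N the centralizer C_G(x) is a maximal subgroup of G. Then N/Z(N) is either an elementary abelian p-group for some prime p, or a Frobenius group whose kernel is an elementary abelian normal subgroup and whose complement has prime order. -/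
theorem result {G : Type*} [Group G] [Finite G] (N : Subgroup G) [N.Normal]
    (h : ∀ x : G, x ∈ N → x ∉ Subgroup.centralizer (N : Set G) → IsCoatom (Subgroup.centralizer ({x} : Set G))) :
    (∃ p : ℕ, p.Prime ∧ Cfsg.IsElementaryAbelian p (⊤ : Subgroup (↥N ⧸ Subgroup.center ↥N))) ∨
    (∃ (Q K : Subgroup (↥N ⧸ Subgroup.center ↥N)) (p : ℕ), p.Prime ∧ Cfsg.IsFrobeniusComplement Q ∧ (Nat.card ↥Q).Prime ∧
      K.Normal ∧ (K : Set (↥N ⧸ Subgroup.center ↥N)) = Cfsg.frobeniusKernel Q ∧ Cfsg.IsElementaryAbelian p K) := by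
  obtain ⟨p, hp, h'⟩ | ⟨K, X, p, q, hc⟩ := CfsgLib.MaxCentralizer.dichotomy (N := N) h
  · exact Or.inl ⟨p, hp, CfsgLib.MaxCentralizer.elementary_quotient h'⟩
  · obtain ⟨h1, h2, h3, h4, h5, -⟩ := CfsgLib.MaxCentralizer.frobenius_of_config hc
    exact Or.inr ⟨_, _, p, hc.hp, h3, h4 ▸ hc.hq, h1, h5, h2⟩


end Cfsg.Agent.S3905
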