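import Cfsg.Statements.S3908
import Cfsg.Agent.Lib.ConjAbelian.Basic
import Cfsg.Agent.Lib.Solvable.UniqueInvolution
-- import your own Cfsg.Agent.* helpers here

set_option autoImplicit false
open Cfsg

namespace Cfsg.Agent.S3908

/-- Let G be a finite group in which any two abelian subgroups of the same order are conjugate. Then a Sylow 2-subgroup of G is cyclic, elementary abelian or generalized quaternion, and for an odd prime p a Sylow p-subgroup of G is cyclic or has exponent dividing p. -/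
theorem result {G : Type*} [Group G] [Finite G] (hB : ∀ A B : Subgroup G, IsMulCommutative ↥A → IsMulCommutative ↥B → Nat.card ↥A = Nat.card ↥B → ∃ g : G, B = A.map (MulAut.conj g).toMonoidHom) :
    (∀ P : Sylow 2 G, IsCyclic ↥(P : Subgroup G) ∨ Cfsg.IsElementaryAbelian 2 (P : Subgroup G) ∨ ∃ k : ℕ, Nonempty (↥(P : Subgroup G) ≃* QuaternionGroup (2 ^ k))) ∧
    ∀ (p : ℕ) [Fact p.Prime], p ≠ 2 → ∀ P : Sylow p G, IsCyclic ↥(P : Subgroup G) ∨ ∀ x ∈ (P : Subgroup G), x ^ p = 1 := by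
  have h : CfsgLib.ConjAbelian.CA G := hB
  refine ⟨fun P => ?_, fun p _ hp P => h.cyclic_or_exponent hp P.isPGroup'⟩
  rcases h.pGroup_dichotomy P.isPGroup' with h1 | h1
  · refine Or.inr (Or.inl ⟨CfsgLib.ConjAbelian.isMulCommutative_of_comm fun a ha b hb => ?_, h1⟩)
    have h2 : ∀ x ∈ (P : Subgroup G), x⁻¹ = x := fun x hx =>
      inv_eq_of_mul_eq_one_right (by rw [← sq, h1 x hx])
    calc a * b = (a * b)⁻¹ := (h2 _ (mul_mem ha hb)).symm
      _ = b⁻¹ * a⁻¹ := mul_inv_rev a b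
      _ = b * a := by rw [h2 a ha, h2 b hb]
  · have huniq : ∀ u v : (P : Subgroup G), u ^ 2 = 1 → u ≠ 1 → v ^ 2 = 1 → v ≠ 1 → u = v := by
      intro u v hu hu1 hv hv1
      obtain ⟨j, rfl⟩ := Subgroup.mem_zpowers_iff.mp (h1 u v hu hu1 hv)
      obtain ⟨i, rfl | rfl⟩ := Int.even_or_odd' j
      · exact absurd (by rw [zpow_mul, zpow_ofNat, hu, one_zpow]) hv1
      · rw [zpow_add, zpow_mul, zpow_ofNat, hu, one_zpow, one_mul, zpow_one]
    rcases CfsgLib.Solvable.isCyclic_or_quaternion_of_unique_involution P.isPGroup' huniq with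
      h2 | h2
    · exact Or.inl h2
    · exact Or.inr (Or.inr h2)
end Cfsg.Agent.S3908
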