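import Cfsg.Statements.S3910
import Cfsg.Agent.Lib.ConjAbelian.Basic
-- import your own Cfsg.Agent.* helpers here

set_option autoImplicit false
open Cfsg

namespace Cfsg.Agent.S3910

/-- A finite nilpotent group in which any two abelian subgroups of the same order are conjugate is cyclic. -/
theorem result {G : Type*} [Group G] [Finite G] (hB : ∀ A B : Subgroup G, IsMulCommutative ↥A → IsMulCommutative ↥B → Nat.card ↥A = Nat.card ↥B → ∃ g : G, B = A.map (MulAut.conj g).toMonoidHom) (hnil : Group.IsNilpotent G) : IsCyclic G := by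
  have h : CfsgLib.ConjAbelian.CA G := hB
  have hex : ∀ p : Nat.Primes, ∃ (y : G) (k : ℕ), orderOf y = (p : ℕ) ^ k ∧
      ∀ (x : G) (j : ℕ), orderOf x = (p : ℕ) ^ j → j ≤ k := by
    intro p
    have := Fact.mk p.2
    obtain ⟨P⟩ := (inferInstance : Nonempty (Sylow p G))
    obtain ⟨y, hy⟩ := Finite.exists_max (fun x : (P : Subgroup G) => orderOf x)
    obtain ⟨k, hk⟩ := P.isPGroup'.exists_orderOf_eq_pow y
    refine ⟨y, k, by rw [Subgroup.orderOf_coe, hk], fun x j hx => ?_⟩
    obtain ⟨Q, hQ⟩ := (IsPGroup.of_card (n := j)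
      (show Nat.card (Subgroup.zpowers x) = (p : ℕ) ^ j by rw [Nat.card_zpowers, hx])).exists_le_sylow
    obtain ⟨g, rfl⟩ := MulAction.exists_smul_eq G P Q
    have hx' : g⁻¹ * x * g ∈ (P : Subgroup G) := by
      have := hQ (Subgroup.mem_zpowers x)
      rw [Sylow.coe_subgroup_smul, Subgroup.mem_pointwise_smul_iff_inv_smul_mem] at this
      simpa [MulAut.smul_def, mul_assoc] using this
    have h1 := hy ⟨g⁻¹ * x * g, hx'⟩
    rw [hk, Subgroup.orderOf_mk, show g⁻¹ * x * g = MulAut.conj g⁻¹ x by simp [mul_assoc],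
      MulEquiv.orderOf_eq, hx] at h1
    exact (Nat.pow_le_pow_iff_right p.2.one_lt).mp h1
  choose y k hy hmax using hex
  have hcomm : ∀ p q : Nat.Primes, y p * y q = y q * y p := by
    intro p q
    by_cases hpq : p = q
    · rw [hpq]
    have := Fact.mk p.2
    have h1 : IsPGroup (p : ℕ) (Subgroup.zpowers (y p)) :=
      IsPGroup.of_card (n := k p) (by rw [Nat.card_zpowers, hy])
    have h2 : (Nat.card (Subgroup.zpowers (y q))).Coprime p := by
      rw [Nat.card_zpowers, hy]
      exact ((Nat.coprime_primes q.2 p.2).mpr fun e => hpq (Subtype.ext e.symm)).pow_left _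
    exact Subgroup.mem_centralizer_iff.mp
      (CfsgLib.ConjAbelian.le_centralizer_of_nilpotent h1 h2 (Subgroup.mem_zpowers _)) _
      (Subgroup.mem_zpowers _)
  have htop : Subgroup.closure (Set.range y) = ⊤ := by
    rcases eq_top_or_exists_le_coatom (Subgroup.closure (Set.range y)) with e | ⟨M, hM, hle⟩
    · exact e
    exfalso
    have hMn : M.Normal :=
      (Group.isNilpotent_of_finite_tfae.out 0 2 rfl rfl).mp hnil M hM
    refine hM.1 (Subgroup.index_eq_one.mp ?_)
    by_contra hne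
    obtain ⟨q, hq, hqd⟩ := Nat.exists_prime_and_dvd hne
    have := Fact.mk hq
    obtain ⟨P⟩ := (inferInstance : Nonempty (Sylow q G))
    refine P.not_dvd_index (hqd.trans (Subgroup.index_dvd_of_le ?_))
    intro x hx
    obtain ⟨j, hj⟩ := P.isPGroup'.exists_orderOf_eq_pow ⟨x, hx⟩
    rw [Subgroup.orderOf_mk] at hj
    have hjk := hmax ⟨q, hq⟩ x j hj
    have hY : y ⟨q, hq⟩ ∈ M := hle (Subgroup.subset_closure ⟨_, rfl⟩)
    refine h.mem_of_orderOf_eq (pow_mem hY (q ^ (k ⟨q, hq⟩ - j))) ?_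
    rw [orderOf_pow, show orderOf (y ⟨q, hq⟩) = q ^ k ⟨q, hq⟩ from hy ⟨q, hq⟩, hj, Nat.gcd_eq_right (pow_dvd_pow q (Nat.sub_le _ _)),
      Nat.pow_div (Nat.sub_le _ _) hq.pos, Nat.sub_sub_self hjk]
  have hab : ∀ a b : G, a * b = b * a := by
    have h1 : Subgroup.closure (Set.range y) ≤ Subgroup.centralizer (Set.range y) :=
      (Subgroup.closure_le _).mpr (by
        rintro _ ⟨q, rfl⟩
        exact Subgroup.mem_centralizer_iff.mpr (by rintro _ ⟨p, rfl⟩; exact hcomm p q))
    rw [htop] at h1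
    have h2 : Subgroup.closure (Set.range y) ≤ Subgroup.center G :=
      (Subgroup.closure_le _).mpr fun u hu => Subgroup.mem_center_iff.mpr fun v =>
        (Subgroup.mem_centralizer_iff.mp (h1 (Subgroup.mem_top v)) u hu).symm
    rw [htop] at h2
    intro a b
    exact (Subgroup.mem_center_iff.mp (h2 (Subgroup.mem_top a)) b).symm
  obtain ⟨z, hz⟩ := @Monoid.exists_orderOf_eq_exponent G
    { (inferInstance : Group G).toMonoid with mul_comm := hab }
    (Monoid.ExponentExists.of_finite)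
  refine ⟨⟨z, fun x => ?_⟩⟩
  have hd : orderOf x ∣ orderOf z := hz ▸ Monoid.order_dvd_exponent x
  obtain ⟨g, hg⟩ := h (Subgroup.zpowers (z ^ (orderOf z / orderOf x))) (Subgroup.zpowers x)
    (CfsgLib.ConjAbelian.zpowers_comm _) (CfsgLib.ConjAbelian.zpowers_comm _)
    (by
      rw [Nat.card_zpowers, Nat.card_zpowers, orderOf_pow,
        Nat.gcd_eq_right (Nat.div_dvd_of_dvd hd), Nat.div_div_self hd (orderOf_pos z).ne'])
  obtain ⟨u, hu, hux⟩ := hg.le (Subgroup.mem_zpowers x)
  rw [MulEquiv.coe_toMonoidHom, MulAut.conj_apply, hab g u, mul_inv_cancel_right] at hux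
  have hsub : Subgroup.zpowers (z ^ (orderOf z / orderOf x)) ≤ Subgroup.zpowers z :=
    Subgroup.zpowers_le.mpr (Subgroup.npow_mem_zpowers z _)
  exact hux ▸ hsub hu
end Cfsg.Agent.S3910
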