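import Cfsg.Statements.S3917
import Mathlib.GroupTheory.SpecificGroups.Cyclic
import Cfsg.Agent.Lib.Solvable.Basic
-- import your own Cfsg.Agent.* helpers here

set_option autoImplicit false
open Cfsg

namespace Cfsg.Agent.S3917

/-- Say that a group has self-centralizing non-cyclic subgroups when every non-cyclic subgroup H satisfies C_G(H) ≤ H. A finite abelian group with self-centralizing non-cyclic subgroups is cyclic or elementary abelian of order p² for a prime p. -/
theorem result {G : Type*} [CommGroup G] [Finite G] (hX : (∀ H : Subgroup G, ¬ IsCyclic ↥H → Subgroup.centralizer (H : Set G) ≤ H)) :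
    IsCyclic G ∨ ∃ p : ℕ, p.Prime ∧ Nat.card G = p ^ 2 ∧ Monoid.exponent G = p := by
  classical
  by_cases hc : IsCyclic G
  · exact Or.inl hc
  refine Or.inr ?_
  obtain ⟨p, hp, x, hx, y, hy, hxy⟩ : ∃ p : ℕ, p.Prime ∧ ∃ x : G, orderOf x = p ∧
      ∃ y : G, orderOf y = p ∧ y ∉ Subgroup.zpowers x := by
    by_contra hne
    push Not at hne
    apply hc
    have := Fintype.ofFinite G
    have hK : ∀ n : ℕ, 0 < n → Nat.card (powMonoidHom n : G →* G).ker ≤ n := by
      intro n
      induction n using Nat.recOnMul with
      | zero => intro h; exact absurd h (lt_irrefl 0)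
      | one =>
        intro _
        have : (powMonoidHom 1 : G →* G).ker = ⊥ := by ext; simp
        rw [this, Subgroup.card_bot]
      | prime q hq =>
        intro _
        by_cases h1 : (powMonoidHom q : G →* G).ker = ⊥
        · rw [h1, Subgroup.card_bot]; exact hq.one_le
        obtain ⟨u, hu, hu1⟩ := (Subgroup.bot_or_exists_ne_one _).resolve_left h1
        have := Fact.mk hq
        have huo : orderOf u = q := orderOf_eq_prime (by simpa using hu) hu1
        have hle : (powMonoidHom q : G →* G).ker ≤ Subgroup.zpowers u := by
          intro v hv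
          by_cases hv1 : v = 1
          · rw [hv1]; exact one_mem _
          · exact hne q hq u huo v (orderOf_eq_prime (by simpa using hv) hv1)
        exact (Subgroup.card_le_of_le hle).trans (by rw [Nat.card_zpowers, huo])
      | mul a b iha ihb =>
        intro hab
        have ha : 0 < a := Nat.pos_of_mul_pos_right hab
        have hb : 0 < b := Nat.pos_of_mul_pos_left hab
        let f : (powMonoidHom (a * b) : G →* G).ker →* G :=
          (powMonoidHom a).comp (Subgroup.subtype _)
        have h1 : Nat.card f.ker ≤ Nat.card (powMonoidHom a : G →* G).ker :=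
          Nat.card_le_card_of_injective (fun z => ⟨((z.1 : _) : G), by
              have := MonoidHom.mem_ker.mp z.2
              simpa [f] using this⟩) (fun z w e => by
              have := congrArg Subtype.val e
              exact Subtype.ext (Subtype.ext this))
        have h2 : Nat.card f.range ≤ Nat.card (powMonoidHom b : G →* G).ker := by
          refine Subgroup.card_le_of_le ?_
          rintro _ ⟨z, rfl⟩
          have := MonoidHom.mem_ker.mp z.2
          simpa [f, ← pow_mul] using this
        rw [← Subgroup.card_mul_index f.ker, Subgroup.index_ker]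
        exact (Nat.mul_le_mul h1 h2).trans (Nat.mul_le_mul (iha ha) (ihb hb))
    refine isCyclic_of_card_pow_eq_one_le fun n hn => ?_
    refine le_trans ?_ (hK n hn)
    rw [Nat.card_eq_fintype_card, Fintype.card_subtype]
    exact le_of_eq (by congr 1; ext v; simp)
  let H : Subgroup G := Subgroup.zpowers x ⊔ Subgroup.zpowers y
  have hHp : ∀ v ∈ H, v ^ p = 1 := by
    have : H ≤ (powMonoidHom p : G →* G).ker := sup_le
      (Subgroup.zpowers_le.mpr (by simp [← hx, pow_orderOf_eq_one]))
      (Subgroup.zpowers_le.mpr (by simp [← hy, pow_orderOf_eq_one]))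
    exact fun v hv => by simpa using this hv
  have hdisj : Disjoint (Subgroup.zpowers x) (Subgroup.zpowers y) := by
    rw [disjoint_iff, eq_bot_iff]
    intro u hu
    by_contra hu1
    have := Fact.mk hp
    have huo : orderOf u = p := orderOf_eq_prime (hHp u (Subgroup.mem_sup_left hu.1)) hu1
    have h1 : Subgroup.zpowers u = Subgroup.zpowers x :=
      Subgroup.eq_of_le_of_card_ge (Subgroup.zpowers_le.mpr hu.1)
        (by rw [Nat.card_zpowers, Nat.card_zpowers, hx, huo])
    have h2 : Subgroup.zpowers u = Subgroup.zpowers y :=
      Subgroup.eq_of_le_of_card_ge (Subgroup.zpowers_le.mpr hu.2)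
        (by rw [Nat.card_zpowers, Nat.card_zpowers, hy, huo])
    exact hxy (h1 ▸ h2 ▸ Subgroup.mem_zpowers y)
  have hcard : Nat.card H = p ^ 2 := by
    rw [CfsgLib.Solvable.card_sup_of_disjoint (by rw [Subgroup.normalizer_eq_top]; exact le_top)
      hdisj, Nat.card_zpowers, Nat.card_zpowers, hx, hy, sq]
  have hnc : ¬ IsCyclic H := by
    intro hcyc
    have h1 : Monoid.exponent H ∣ p := Monoid.exponent_dvd_of_forall_pow_eq_one fun v =>
      Subtype.ext (by simpa using hHp v v.2)
    rw [IsCyclic.exponent_eq_card, hcard] at h1
    have := Nat.le_of_dvd hp.pos h1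
    nlinarith [hp.one_lt]
  have htop : H = ⊤ := by
    rw [eq_top_iff]
    refine le_trans ?_ (hX H hnc)
    intro v _
    exact Subgroup.mem_centralizer_iff.mpr fun u _ => mul_comm u v
  refine ⟨p, hp, by rw [← hcard, htop, Subgroup.card_top], ?_⟩
  have hdvd : Monoid.exponent G ∣ p :=
    Monoid.exponent_dvd_of_forall_pow_eq_one fun v => hHp v (htop ▸ Subgroup.mem_top v)
  rcases (Nat.dvd_prime hp).mp hdvd with h1 | h1
  · have := Monoid.order_dvd_exponent x
    rw [h1, Nat.dvd_one, hx] at this
    exact absurd this hp.ne_one
  · exact h1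
end Cfsg.Agent.S3917
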