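import Cfsg.Statements.S3918
import Cfsg.Agent.Lib.PGroup.Basic
import Cfsg.Agent.Lib.PGroup.CyclicMaximal
import Mathlib.GroupTheory.SpecificGroups.Cyclic
-- import your own Cfsg.Agent.* helpers here

set_option autoImplicit false
open Cfsg

namespace Cfsg.Agent.S3918

/-- Say that a group has self-centralizing non-cyclic subgroups when every non-cyclic subgroup H satisfies C_G(H) ≤ H. For an odd prime p, a finite non-abelian p-group has self-centralizing non-cyclic subgroups if and only if it has order p³. -/
theorem result {G : Type*} [Group G] [Finite G] {p : ℕ} [Fact p.Prime] (hp : p ≠ 2) (hG : IsPGroup p G) (hna : ¬ IsMulCommutative G) :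
    (∀ H : Subgroup G, ¬ IsCyclic ↥H → Subgroup.centralizer (H : Set G) ≤ H) ↔ Nat.card G = p ^ 3 := by
  have hpp : p.Prime := Fact.out
  obtain ⟨n, hn⟩ := hG.exists_card_eq
  have hn3 : 3 ≤ n := by
    by_contra hlt
    apply hna
    have : n = 0 ∨ n = 1 ∨ n = 2 := by omega
    rcases this with rfl | rfl | rfl
    · have : Subsingleton G := (Nat.card_eq_one_iff_unique.mp (by rw [hn, pow_zero])).1
      exact ⟨⟨fun a b => Subsingleton.elim _ _⟩⟩
    · have : IsCyclic G := isCyclic_of_prime_card (p := p) (by rw [hn, pow_one])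
      infer_instance
    · exact IsPGroup.isMulCommutative_of_card_eq_prime_sq hn
  constructor
  · intro hX
    -- a normal elementary abelian subgroup of order `p ^ 2`
    obtain ⟨E, hEn, hEc, hEexp⟩ : ∃ E : Subgroup G, E.Normal ∧ Nat.card E = p ^ 2 ∧
        ∀ x ∈ E, x ^ p = 1 := by
      obtain ⟨A, -, hAmax⟩ := exists_maximal_ge_of_wellFoundedGT
        (fun B : Subgroup G => B.Normal ∧ IsMulCommutative B) ⊥ ⟨inferInstance, inferInstance⟩
      obtain ⟨hAn, hAc⟩ := hAmax.prop
      have hCA := CfsgLib.PGroup.centralizer_eq_of_maximal_normal_abelian hG A hAc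
        fun B hB hB' hle => (hAmax.eq_of_le ⟨hB, hB'⟩ hle).symm
      by_cases hAcyc : IsCyclic A
      · have hlt : A < ⊤ := lt_top_iff_ne_top.mpr fun e => hna
          ⟨⟨fun a b => congrArg Subtype.val
            (hAc.is_comm.comm ⟨a, e ▸ Subgroup.mem_top a⟩ ⟨b, e ▸ Subgroup.mem_top b⟩)⟩⟩
        obtain ⟨x, -, hxA, hxp, hxc⟩ := CfsgLib.PGroup.exists_step hG A ⊤ hlt
        set X := A ⊔ Subgroup.zpowers x with hXdef
        have hXn : X.Normal := CfsgLib.PGroup.sup_zpowers_normal hxc
        have hXc : Nat.card X = p * Nat.card A := CfsgLib.PGroup.card_sup_zpowers hxA hxp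
        have hXnc : ¬ IsCyclic X := by
          intro hc
          apply hxA
          rw [← hCA]
          refine Subgroup.mem_centralizer_iff.mpr fun a ha => ?_
          let _ := IsCyclic.commGroup (α := X)
          exact congrArg Subtype.val (mul_comm (⟨a, Subgroup.mem_sup_left ha⟩ : X)
            ⟨x, Subgroup.mem_sup_right (Subgroup.mem_zpowers x)⟩)
        have hidx : (A.subgroupOf X).index = p := by
          have h1 := (A.subgroupOf X).card_mul_index
          rw [Nat.card_congr (Subgroup.subgroupOfEquivOfLe (le_sup_left : A ≤ X)).toEquiv, hXc,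
            mul_comm p] at h1
          exact Nat.eq_of_mul_eq_mul_left Nat.card_pos h1
        have hAXcyc : IsCyclic (A.subgroupOf X) :=
          isCyclic_of_surjective (Subgroup.subgroupOfEquivOfLe (le_sup_left : A ≤ X)).symm
            (MulEquiv.surjective _)
        obtain ⟨K, hKc, hKiff⟩ :=
          CfsgLib.PGroup.omega_of_cyclic_index_prime hp (hG.to_subgroup X) hXnc _ hAXcyc hidx
        refine ⟨K.map X.subtype, ⟨?_⟩, by rw [Subgroup.card_map_of_injective X.subtype_injective, hKc],
          ?_⟩
        · rintro _ ⟨k, hk, rfl⟩ g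
          refine ⟨⟨g * k * g⁻¹, hXn.conj_mem k k.2 g⟩, (hKiff _).mpr (Subtype.ext ?_), rfl⟩
          show (g * k * g⁻¹) ^ p = 1
          rw [conj_pow, show (k : G) ^ p = 1 from congrArg Subtype.val ((hKiff k).mp hk), mul_one,
            mul_inv_cancel]
        · rintro _ ⟨k, hk, rfl⟩
          exact congrArg Subtype.val ((hKiff k).mp hk)
      · let Ω : Subgroup G :=
          { carrier := {x | x ∈ A ∧ x ^ p = 1}
            one_mem' := ⟨one_mem A, one_pow p⟩
            mul_mem' := fun {a b} ha hb => ⟨mul_mem ha.1 hb.1, by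
              rw [(show Commute a b from congrArg Subtype.val
                (hAc.is_comm.comm ⟨a, ha.1⟩ ⟨b, hb.1⟩)).mul_pow, ha.2, hb.2, one_mul]⟩
            inv_mem' := fun {a} ha => ⟨inv_mem ha.1, by rw [inv_pow, ha.2, inv_one]⟩ }
        have hΩn : Ω.Normal := ⟨fun x hx g => ⟨hAn.conj_mem x hx.1 g, by
          rw [conj_pow, hx.2, mul_one, mul_inv_cancel]⟩⟩
        obtain ⟨a, ha⟩ := (hG.to_subgroup Ω).exists_card_eq
        have ha2 : 2 ≤ a := by
          by_contra hlt
          apply hAcyc
          refine CfsgLib.PGroup.isCyclic_of_unique_order_prime hp (hG.to_subgroup A) fun u v hu hu1 hv => ?_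
          have huΩ : (u : G) ∈ Ω := ⟨u.2, congrArg Subtype.val hu⟩
          have hvΩ : (v : G) ∈ Ω := ⟨v.2, congrArg Subtype.val hv⟩
          have huo : orderOf (u : G) = p :=
            orderOf_eq_prime (congrArg Subtype.val hu) fun e => hu1 (Subtype.ext e)
          have h1 : Subgroup.zpowers (u : G) = Ω :=
            Subgroup.eq_of_le_of_card_ge (Subgroup.zpowers_le.mpr huΩ) (by
              rw [ha, Nat.card_zpowers, huo]
              exact (Nat.pow_le_pow_right hpp.pos (show a ≤ 1 by omega)).trans (by rw [pow_one]))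
          rw [← h1] at hvΩ
          obtain ⟨i, hi⟩ := hvΩ
          exact ⟨i, Subtype.ext (by simpa using hi)⟩
        obtain ⟨B, hB, hBΩ, hBc⟩ := CfsgLib.PGroup.exists_normal_card_le hG 2 a Ω ha ha2
        exact ⟨B, hB, hBc, fun x hx => (hBΩ hx).2⟩
    have hEnc : ¬ IsCyclic E := fun hc => by
      have h1 : Monoid.exponent E ∣ p := Monoid.exponent_dvd_of_forall_pow_eq_one fun v =>
        Subtype.ext (by simpa using hEexp v v.2)
      rw [IsCyclic.exponent_eq_card, hEc] at h1
      have := Nat.le_of_dvd hpp.pos h1
      nlinarith [hpp.one_lt]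
    have hidx : (Subgroup.centralizer (E : Set G)).index ≤ p := by
      simpa using CfsgLib.PGroup.index_centralizer_le hG 2 E hEc
    have hC : Nat.card (Subgroup.centralizer (E : Set G)) ≤ p ^ 2 :=
      (Subgroup.card_le_of_le (hX E hEnc)).trans hEc.le
    have h2 : Nat.card G ≤ p ^ 3 := by
      rw [← (Subgroup.centralizer (E : Set G)).card_mul_index, pow_succ]
      exact Nat.mul_le_mul hC hidx
    rw [hn] at h2 ⊢
    rw [Nat.pow_le_pow_iff_right hpp.one_lt] at h2
    congr 1
    omega
  · intro hc H hH x hx
    obtain ⟨j, hj⟩ := (hG.to_subgroup H).exists_card_eq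
    by_contra hxH
    have hj3 : j ≤ 2 := by
      by_contra hlt
      apply hxH
      have : H = ⊤ := Subgroup.eq_top_of_le_card H (by
        rw [hc, hj]; exact Nat.pow_le_pow_right hpp.pos (by omega))
      rw [this]; exact Subgroup.mem_top x
    have hj2 : j = 2 := by
      by_contra hne
      apply hH
      have : j = 0 ∨ j = 1 := by omega
      rcases this with rfl | rfl
      · have : H = ⊥ := Subgroup.card_eq_one.mp (by rw [hj, pow_zero])
        subst this
        infer_instance
      · exact isCyclic_of_prime_card (p := p) (by rw [hj, pow_one])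
    subst hj2
    have hHc : IsMulCommutative H := IsPGroup.isMulCommutative_of_card_eq_prime_sq hj
    -- the centraliser is everything, so `H` is central
    have htop : Subgroup.centralizer (H : Set G) = ⊤ := by
      refine Subgroup.eq_top_of_le_card _ ?_
      have hlt : H < Subgroup.centralizer (H : Set G) :=
        lt_of_le_of_ne (Subgroup.le_centralizer H) fun e => hxH (e ▸ hx)
      obtain ⟨i, hi⟩ := (hG.to_subgroup (Subgroup.centralizer (H : Set G))).exists_card_eq
      have h1 : Nat.card H < Nat.card (Subgroup.centralizer (H : Set G)) :=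
        lt_of_not_ge fun hge => hlt.ne (Subgroup.eq_of_le_of_card_ge hlt.le hge)
      rw [hj, hi, Nat.pow_lt_pow_iff_right hpp.one_lt] at h1
      rw [hc, hi]
      exact Nat.pow_le_pow_right hpp.pos h1
    have hHZ : H ≤ Subgroup.center G := fun h hh => Subgroup.mem_center_iff.mpr fun g =>
      (Subgroup.mem_centralizer_iff.mp (htop ▸ Subgroup.mem_top g) h hh).symm
    apply hna
    have hidx : (Subgroup.center G).index ∣ p := by
      refine (Subgroup.index_dvd_of_le hHZ).trans (dvd_of_eq ?_)
      have h1 := H.card_mul_index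
      rw [hj, hc, pow_succ] at h1
      exact Nat.eq_of_mul_eq_mul_left (pow_pos hpp.pos 2) h1
    have : IsCyclic (G ⧸ Subgroup.center G) := by
      rcases (Nat.dvd_prime hpp).mp hidx with h1 | h1
      · have : Subsingleton (G ⧸ Subgroup.center G) :=
          (Nat.card_eq_one_iff_unique.mp (by rw [← Subgroup.index_eq_card, h1])).1
        infer_instance
      · exact isCyclic_of_prime_card (p := p) (by rw [← Subgroup.index_eq_card, h1])
    exact isMulCommutative_of_isCyclic_quotient_center_self G
end Cfsg.Agent.S3918
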