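import Cfsg.Statements.S3919
import Cfsg.Agent.Lib.PGroup.MaximalClass
import Cfsg.Agent.Lib.PNilpotent.ClassBound
import Cfsg.Agent.Lib.Solvable.UniqueInvolution
-- import your own Cfsg.Agent.* helpers here

set_option autoImplicit false
open Cfsg

namespace Cfsg.Agent.S3919

/-- Say that a group has self-centralizing non-cyclic subgroups when every non-cyclic subgroup H satisfies C_G(H) ≤ H. A finite non-abelian 2-group G of order 2^n has self-centralizing non-cyclic subgroups if and only if G has nilpotency class n − 1 (that is, G is dihedral, semidihedral or generalized quaternion). -/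
theorem result {G : Type*} [Group G] [Finite G] (hna : ¬ IsMulCommutative G) (n : ℕ) (hG : Nat.card G = 2 ^ n) :
    (∀ H : Subgroup G, ¬ IsCyclic ↥H → Subgroup.centralizer (H : Set G) ≤ H) ↔ (⊤ : Subgroup G).lowerCentralSeries (n - 2) ≠ ⊥ := by
  have : Fact (Nat.Prime 2) := ⟨Nat.prime_two⟩
  have hp2 : IsPGroup 2 G := IsPGroup.of_card hG
  have hnil := hp2.isNilpotent
  have hn3 : 3 ≤ n := by
    by_contra hlt
    apply hna
    have : n = 0 ∨ n = 1 ∨ n = 2 := by omega
    rcases this with rfl | rfl | rfl
    · have : Subsingleton G := (Nat.card_eq_one_iff_unique.mp (by rw [hG, pow_zero])).1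
      exact ⟨⟨fun a b => Subsingleton.elim _ _⟩⟩
    · have : IsCyclic G := isCyclic_of_prime_card (p := 2) (by rw [hG, pow_one])
      infer_instance
    · exact IsPGroup.isMulCommutative_of_card_eq_prime_sq (p := 2) hG
  have hiff : (⊤ : Subgroup G).lowerCentralSeries (n - 2) ≠ ⊥ ↔ Group.nilpotencyClass G = n - 1 := by
    rw [Ne, Subgroup.lowerCentralSeries_eq_bot_iff_nilpotencyClass_le]
    have h1 := CfsgLib.PNilpotent.class_le (p := 2) n G hG
    have h2 : max 1 (n - 1) = n - 1 := max_eq_right (by omega)
    omega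
  rw [hiff]
  constructor
  · intro hX
    -- a self centralising subgroup of order four
    obtain ⟨A, hAc, hA⟩ : ∃ A : Subgroup G, Nat.card A = 4 ∧ Subgroup.centralizer (A : Set G) = A := by
      by_cases huniq : ∀ u v : G, u ^ 2 = 1 → u ≠ 1 → v ^ 2 = 1 → v ≠ 1 → u = v
      · rcases CfsgLib.Solvable.isCyclic_or_quaternion_of_unique_involution hp2 huniq with
          hc | ⟨k, ⟨e⟩⟩
        · exact absurd (inferInstance : IsMulCommutative G) hna
        have : NeZero (2 ^ k) := ⟨(Nat.two_pow_pos k).ne'⟩
        set x := e.symm (QuaternionGroup.xa 0) with hx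
        refine ⟨Subgroup.zpowers x, by rw [Nat.card_zpowers, hx, MulEquiv.orderOf_eq,
          QuaternionGroup.orderOf_xa], le_antisymm ?_ (Subgroup.le_centralizer _)⟩
        intro y hy
        have h1 := congrArg e (Subgroup.mem_centralizer_iff.mp hy x (Subgroup.mem_zpowers x))
        rw [map_mul, map_mul, hx, e.apply_symm_apply] at h1
        have hnat : ∀ i : ZMod (2 * 2 ^ k), i + i = 0 → i = 0 ∨ i = ((2 ^ k : ℕ) : ZMod (2 * 2 ^ k)) := by
          intro i hi
          obtain ⟨m, hm, rfl⟩ : ∃ m : ℕ, m < 2 * 2 ^ k ∧ (m : ZMod (2 * 2 ^ k)) = i :=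
            ⟨i.val, i.val_lt, ZMod.natCast_zmod_val i⟩
          rw [← Nat.cast_add, ZMod.natCast_eq_zero_iff] at hi
          obtain ⟨c, hc⟩ := hi
          have hc2 : c < 2 := by
            by_contra hge
            have := Nat.mul_le_mul_left (2 * 2 ^ k) (show 2 ≤ c by omega)
            omega
          interval_cases c
          · left; rw [show m = 0 by omega, Nat.cast_zero]
          · right; rw [show m = 2 ^ k by omega]
        suffices h2 : e y ∈ Subgroup.zpowers (QuaternionGroup.xa 0 : QuaternionGroup (2 ^ k)) by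
          obtain ⟨i, hi⟩ := h2
          refine ⟨i, ?_⟩
          apply e.injective
          show e (x ^ i) = e y
          rw [map_zpow, hx, e.apply_symm_apply]
          exact hi
        rcases hey : e y with i | i <;> rw [hey] at h1
        · rw [QuaternionGroup.a_mul_xa, QuaternionGroup.xa_mul_a] at h1
          simp only [QuaternionGroup.xa.injEq, zero_add, zero_sub] at h1
          rcases hnat i (by linear_combination h1) with rfl | rfl
          · rw [QuaternionGroup.a_zero]; exact one_mem _
          · rw [← QuaternionGroup.xa_sq 0]; exact Subgroup.npow_mem_zpowers _ 2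
        · rw [QuaternionGroup.xa_mul_xa, QuaternionGroup.xa_mul_xa] at h1
          simp only [QuaternionGroup.a.injEq, add_zero, sub_zero] at h1
          rcases hnat i (by linear_combination h1) with rfl | rfl
          · exact Subgroup.mem_zpowers _
          · have h3 : (QuaternionGroup.xa ((2 ^ k : ℕ) : ZMod (2 * 2 ^ k)) : QuaternionGroup (2 ^ k)) =
                QuaternionGroup.xa 0 * QuaternionGroup.a ((2 ^ k : ℕ) : ZMod (2 * 2 ^ k)) := by
              rw [QuaternionGroup.xa_mul_a, zero_add]
            rw [h3, ← QuaternionGroup.xa_sq 0]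
            exact mul_mem (Subgroup.mem_zpowers _) (Subgroup.npow_mem_zpowers _ 2)
      · push Not at huniq
        obtain ⟨u, v, hu, hu1, hv, hv1, huv⟩ := huniq
        have : Nontrivial G := ⟨⟨u, 1, hu1⟩⟩
        obtain ⟨z, -, hz, hzo⟩ :=
          CfsgLib.PGroup.exists_central_orderOf_eq hp2 (⊤ : Subgroup G) top_ne_bot
        obtain ⟨t, ht, ht1, htz⟩ : ∃ t : G, t ^ 2 = 1 ∧ t ≠ 1 ∧ t ≠ z := by
          by_cases h : u = z
          · exact ⟨v, hv, hv1, fun e => huv (h.trans e.symm)⟩
          · exact ⟨u, hu, hu1, h⟩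
        have hto : orderOf t = 2 := orderOf_eq_prime ht ht1
        have hzt : Commute z t := (Subgroup.mem_center_iff.mp hz t).symm
        set A := Subgroup.zpowers z ⊔ Subgroup.zpowers t with hA
        have hdis : Disjoint (Subgroup.zpowers z) (Subgroup.zpowers t) := by
          rw [disjoint_iff, eq_bot_iff]
          intro w hw
          by_contra hw0
          have hw1 : w ≠ 1 := fun e => hw0 (e ▸ one_mem _)
          have h1 : ∀ s : G, orderOf s = 2 → w ∈ Subgroup.zpowers s → w = s := by
            intro s hs hws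
            obtain ⟨j, rfl⟩ := Subgroup.mem_zpowers_iff.mp hws
            have hs2 : s ^ 2 = 1 := hs ▸ pow_orderOf_eq_one s
            obtain ⟨i, rfl | rfl⟩ := Int.even_or_odd' j
            · exact absurd (by rw [zpow_mul, zpow_ofNat, hs2, one_zpow]) hw1
            · rw [zpow_add, zpow_mul, zpow_ofNat, hs2, one_zpow, one_mul, zpow_one]
          exact htz ((h1 t hto hw.2).symm.trans (h1 z hzo hw.1))
        have hnorm : Subgroup.zpowers t ≤ Subgroup.normalizer (Subgroup.zpowers z : Set G) :=
          (Subgroup.zpowers_le.mpr (Subgroup.mem_centralizer_iff.mpr (by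
            rintro _ ⟨i, rfl⟩
            exact (hzt.zpow_left i).eq))).trans (Subgroup.centralizer_le_normalizer _)
        have hAcard : Nat.card A = 4 := by
          rw [hA, CfsgLib.Solvable.card_sup_of_disjoint hnorm hdis, Nat.card_zpowers, Nat.card_zpowers,
            hzo, hto]
        have hA2 : ∀ w ∈ A, w ^ 2 = 1 := by
          intro w hw
          obtain ⟨_, ⟨i, rfl⟩, _, ⟨j, rfl⟩, rfl⟩ :=
            (CfsgLib.Solvable.mem_sup_of_le_normalizer hnorm).mp hw
          show (z ^ i * t ^ j) ^ 2 = 1
          rw [(hzt.zpow_zpow i j).mul_pow, ← zpow_natCast, ← zpow_natCast (t ^ j), ← zpow_mul,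
            ← zpow_mul, mul_comm i, mul_comm j, zpow_mul, zpow_mul, zpow_natCast, zpow_natCast, ht,
            show z ^ 2 = 1 from hzo ▸ pow_orderOf_eq_one z, one_zpow, one_zpow, one_mul]
        refine ⟨A, hAcard, le_antisymm (hX A fun hc => ?_) ?_⟩
        · have h1 : Monoid.exponent A ∣ 2 := Monoid.exponent_dvd_of_forall_pow_eq_one fun w =>
            Subtype.ext (by simpa using hA2 w w.2)
          rw [IsCyclic.exponent_eq_card, hAcard] at h1
          exact absurd (Nat.le_of_dvd two_pos h1) (by norm_num)
        · have : IsMulCommutative A := IsPGroup.isMulCommutative_of_card_eq_prime_sq (p := 2) hAcard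
          exact Subgroup.le_centralizer A
    exact CfsgLib.PGroup.MaxClass.class_of_self_centralizing n G hG A (by rw [hAc]; rfl) hA
  · intro hclass
    have hidx := CfsgLib.PGroup.MaxClass.index_four_of_klein (CfsgLib.PGroup.MaxClass.klein_of_class n hn3 hG hclass)
    obtain ⟨a, t, hao, htA, hgen, htt, hta, -, hZ2, hw⟩ := CfsgLib.PGroup.MaxClass.structure_two n hn3 hG hidx
    set A := Subgroup.zpowers a with hA
    set w := a ^ 2 ^ (n - 2) with hwdef
    have hAidx : A.index = 2 := by
      have h1 := A.card_mul_index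
      rw [hA, Nat.card_zpowers, hao, hG, show n = n - 1 + 1 by omega, pow_succ,
        show n - 1 + 1 - 1 = n - 1 by omega] at h1
      exact Nat.eq_of_mul_eq_mul_left (Nat.two_pow_pos _) h1
    have hwo : orderOf w = 2 := by
      rw [hwdef, orderOf_pow, hao, Nat.gcd_eq_right (pow_dvd_pow 2 (by omega)),
        Nat.pow_div (by omega) two_pos, show n - 1 - (n - 2) = 1 by omega, pow_one]
    have hZw : Subgroup.center G = Subgroup.zpowers w :=
      (Subgroup.eq_of_le_of_card_ge (Subgroup.zpowers_le.mpr hw)
        (by rw [hZ2, Nat.card_zpowers, hwo])).symm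
    have hinv : ∀ u ∈ A, u ^ 2 = 1 → u ∈ Subgroup.zpowers w := by
      intro u hu hu2
      by_cases hu1 : u = 1
      · rw [hu1]; exact one_mem _
      obtain ⟨i, rfl⟩ := hu
      have h1 : (orderOf a : ℤ) ∣ i * 2 := by
        rw [orderOf_dvd_iff_zpow_eq_one, zpow_mul, zpow_ofNat]
        exact hu2
      rw [hao, show n - 1 = (n - 2) + 1 by omega, pow_succ] at h1
      push_cast at h1
      obtain ⟨c, hc⟩ := Int.dvd_of_mul_dvd_mul_right (by norm_num) h1
      refine ⟨c, ?_⟩
      show w ^ c = a ^ i
      rw [hwdef, ← zpow_natCast, ← zpow_mul, hc]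
      push_cast
      rfl
    -- elements outside `A` act by inversion up to the centre
    have hfix : ∀ y, y ∉ A → ∀ u ∈ A, u * y = y * u → u ∈ Subgroup.zpowers w := by
      intro y hy u hu huy
      have hmem : y * t⁻¹ ∈ A := by
        rw [Subgroup.mul_mem_iff_of_index_two hAidx]
        exact iff_of_false hy fun hm => htA (by simpa using inv_mem hm)
      have hut : u * t = t * u := by
        obtain ⟨i, hi⟩ := hmem
        have hi' : a ^ i = y * t⁻¹ := hi
        obtain ⟨j, hj⟩ := hu
        have hj' : a ^ j = u := hj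
        have hc : Commute u (a ^ i) := hj' ▸ (Commute.refl a).zpow_zpow j i
        have ht' : t = (a ^ i)⁻¹ * y := by rw [hi']; group
        rw [ht']
        exact (hc.inv_right.mul_right huy).eq
      obtain ⟨j, rfl⟩ := hu
      obtain ⟨c, hc, hca⟩ : ∃ c ∈ Subgroup.center G, t * a * t⁻¹ = c * a⁻¹ :=
        ⟨_, hta, by group⟩
      have hcc : Commute c a⁻¹ := (Subgroup.mem_center_iff.mp hc a⁻¹).symm
      have h2 : a ^ j = c ^ j * (a ^ j)⁻¹ := by
        rw [← inv_zpow, ← hcc.mul_zpow, ← hca, conj_zpow]
        exact (by rw [← hut, mul_inv_cancel_right] : t * a ^ j * t⁻¹ = a ^ j).symm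
      have hc2 : (a ^ j) ^ 2 = c ^ j := by rw [sq, ← eq_mul_inv_iff_mul_eq]; exact h2
      have hcw : c ^ j ∈ Subgroup.zpowers w := hZw ▸ zpow_mem hc j
      by_cases h1 : c ^ j = 1
      · exact hinv _ (zpow_mem (Subgroup.mem_zpowers a) j) (hc2.trans h1)
      -- then `a ^ j` has order four, `j` is odd and the group would be commutative
      exfalso
      obtain ⟨i, rfl | rfl⟩ := Int.even_or_odd' j
      · refine h1 ?_
        obtain ⟨l, hl⟩ := hZw ▸ hc
        show c ^ (2 * i) = 1
        rw [← show w ^ l = c from hl, ← zpow_mul, mul_comm, mul_assoc, zpow_mul, zpow_ofNat,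
          ← hwo, pow_orderOf_eq_one, one_zpow]
      · have hc21 : c ^ 2 = 1 := by
          have h := Subgroup.orderOf_dvd_natCard _ hc
          rw [hZ2] at h
          exact orderOf_dvd_iff_pow_eq_one.mp h
        rw [zpow_add_one c, zpow_mul c, zpow_ofNat, hc21, one_zpow, one_mul] at hc2 h1
        have h4 : (a ^ (2 * i + 1)) ^ 4 = 1 := by
          rw [show (4 : ℕ) = 2 * 2 from rfl, pow_mul, hc2, hc21]
        have hn3' : n = 3 := by
          have h5 : (orderOf a : ℤ) ∣ (2 * i + 1) * 4 := by
            rw [orderOf_dvd_iff_zpow_eq_one, zpow_mul, zpow_ofNat]; exact h4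
          have h6 : orderOf a ∣ 4 := by
            rw [← Int.natCast_dvd_natCast]
            push_cast
            refine Int.dvd_of_dvd_mul_left_of_gcd_one (by rwa [mul_comm] at h5) ?_
            rw [hao]
            refine Int.isCoprime_iff_gcd_eq_one.mp ?_
            push_cast
            exact IsCoprime.pow_left (show IsCoprime (2 : ℤ) (2 * i + 1) from ⟨-i, 1, by ring⟩)
          rw [hao, show (4 : ℕ) = 2 ^ 2 from rfl, Nat.pow_dvd_pow_iff_le_right (by norm_num)] at h6
          omega
        apply h1
        -- `t` centralises `a`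
        have htc : t * a = a * t := by
          have h7 : a ^ (2 : ℕ) = w := by rw [hwdef, hn3']; rfl
          have h8 : c = w := by
            obtain ⟨l, hl⟩ := hZw ▸ hc
            obtain ⟨m, rfl | rfl⟩ := Int.even_or_odd' l
            · exfalso; apply h1
              rw [← hl]
              show w ^ (2 * m) = 1
              rw [zpow_mul, zpow_ofNat, ← hwo, pow_orderOf_eq_one, one_zpow]
            · rw [← hl]
              show w ^ (2 * m + 1) = w
              rw [zpow_add_one, zpow_mul, zpow_ofNat, ← hwo, pow_orderOf_eq_one, one_zpow, one_mul]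
          rw [← mul_inv_eq_iff_eq_mul, hca, h8, ← h7, sq, mul_assoc, mul_inv_cancel, mul_one]
        exfalso
        apply hna
        have ha : a ∈ Subgroup.center G := by
          rw [Subgroup.mem_center_iff]
          intro g
          have hle : A ⊔ Subgroup.zpowers t ≤ Subgroup.centralizer {a} := sup_le
            (Subgroup.zpowers_le.mpr (Subgroup.mem_centralizer_singleton_iff.mpr rfl))
            (Subgroup.zpowers_le.mpr (Subgroup.mem_centralizer_singleton_iff.mpr htc))
          exact Subgroup.mem_centralizer_singleton_iff.mp (hle (hgen ▸ Subgroup.mem_top g))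
        have hA2' := Subgroup.card_le_of_le (Subgroup.zpowers_le.mpr ha)
        rw [hZ2, Nat.card_zpowers, hao, hn3'] at hA2'
        norm_num at hA2'
    intro H hH x hx
    obtain ⟨y, hyH, hyA⟩ : ∃ y ∈ H, y ∉ A := by
      by_contra hall
      push Not at hall
      exact hH (isCyclic_of_injective (Subgroup.inclusion (show H ≤ A from hall))
        (Subgroup.inclusion_injective _))
    have hwH : Subgroup.zpowers w ≤ H := by
      obtain ⟨v, hvH, hvA, hv1⟩ : ∃ v ∈ H, v ∈ A ∧ v ≠ 1 := by
        by_contra hall
        push Not at hall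
        have hy2 : y * y = 1 := hall _ (mul_mem hyH hyH)
          ((Subgroup.mul_mem_iff_of_index_two hAidx).mpr Iff.rfl)
        apply hH
        refine ⟨⟨⟨y, hyH⟩, fun v => ?_⟩⟩
        by_cases hv : (v : G) ∈ A
        · exact ⟨0, by rw [show v = 1 from Subtype.ext (hall _ v.2 hv)]; simp⟩
        · have h1 := hall _ (mul_mem v.2 hyH) ((Subgroup.mul_mem_iff_of_index_two hAidx).mpr
            (iff_of_false hv hyA))
          refine ⟨1, Subtype.ext ?_⟩
          show ((⟨y, hyH⟩ : H) ^ (1 : ℤ) : H).1 = v
          rw [zpow_one]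
          exact (mul_right_cancel (h1.trans hy2.symm)).symm
      obtain ⟨k, hk⟩ := hp2.exists_orderOf_eq_pow v
      rcases Nat.eq_zero_or_pos k with rfl | hk0
      · exact absurd (orderOf_eq_one_iff.mp (hk.trans (pow_zero 2))) hv1
      have hu : orderOf (v ^ 2 ^ (k - 1)) = 2 := by
        rw [orderOf_pow, hk, Nat.gcd_eq_right (pow_dvd_pow 2 (Nat.sub_le k 1)),
          Nat.pow_div (Nat.sub_le k 1) two_pos, Nat.sub_sub_self hk0, pow_one]
      have h1 := hinv _ (pow_mem hvA _) (hu ▸ pow_orderOf_eq_one _)
      rw [← Subgroup.eq_of_le_of_card_ge (Subgroup.zpowers_le.mpr h1)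
        (by rw [Nat.card_zpowers, Nat.card_zpowers, hu, hwo])]
      exact Subgroup.zpowers_le.mpr (pow_mem hvH _)
    have hxy : x * y = y * x := (Subgroup.mem_centralizer_iff.mp hx y hyH).symm
    by_cases hxA : x ∈ A
    · exact hwH (hfix y hyA x hxA hxy)
    · have hm : x * y⁻¹ ∈ A := (Subgroup.mul_mem_iff_of_index_two hAidx).mpr
        (iff_of_false hxA fun h => hyA (by simpa using inv_mem h))
      have h1 := hfix y hyA _ hm
        ((show Commute x y from hxy).mul_left (Commute.refl y).inv_left).eq
      have := mul_mem (hwH h1) hyH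
      rwa [inv_mul_cancel_right] at this
end Cfsg.Agent.S3919
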