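import Cfsg.Statements.S3920
import Mathlib.GroupTheory.SpecificGroups.Dihedral
import Mathlib.GroupTheory.SpecificGroups.Cyclic
import Mathlib.Data.Nat.Factorization.Basic
-- import your own Cfsg.Agent.* helpers here

set_option autoImplicit false
open Cfsg

namespace Cfsg.Agent.S3920

/-- Say that a group has self-centralizing non-cyclic subgroups when every non-cyclic subgroup H satisfies C_G(H) ≤ H. For n ≥ 3, the dihedral group of order 2n has self-centralizing non-cyclic subgroups if and only if n is odd or a power of 2. -/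
theorem result (n : ℕ) (hn : 3 ≤ n) : (∀ H : Subgroup (DihedralGroup n), ¬ IsCyclic ↥H → Subgroup.centralizer (H : Set (DihedralGroup n)) ≤ H) ↔ (Odd n ∨ ∃ k : ℕ, n = 2 ^ k) := by
  open DihedralGroup in
  have : NeZero n := ⟨by omega⟩
  constructor
  · intro hX
    by_contra hne
    push Not at hne
    obtain ⟨hodd, hpow⟩ := hne
    obtain ⟨a, m, hm, hnm⟩ := Nat.exists_eq_two_pow_mul_odd (show n ≠ 0 by omega)
    have ha : 1 ≤ a := by
      by_contra ha
      apply hodd
      rw [hnm, show a = 0 by omega, pow_zero, one_mul]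
      exact hm
    have hm3 : 3 ≤ m := by
      rcases hm with ⟨c, hc⟩
      rcases Nat.eq_zero_or_pos c with rfl | hc0
      · exact absurd (by rw [hnm, hc]; simp) (hpow a)
      · omega
    have hdvd : 2 ^ a ∣ n := ⟨m, hnm⟩
    let φ := ZMod.castHom hdvd (ZMod (2 ^ a))
    let H : Subgroup (DihedralGroup n) :=
      { carrier := {x | match x with | r i => φ i = 0 | sr i => φ i = 0}
        one_mem' := map_zero φ
        mul_mem' := fun {x y} hx hy => by
          rcases x with i | i <;> rcases y with j | j <;>
            simp_all [r_mul_r, r_mul_sr, sr_mul_r, sr_mul_sr]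
        inv_mem' := fun {x} hx => by
          rcases x with i | i <;> simp_all [inv_r, inv_sr] }
    have hφ : ∀ c : ℕ, φ (c : ZMod n) = (c : ZMod (2 ^ a)) := fun c => map_natCast φ c
    have hrd : r ((2 ^ a : ℕ) : ZMod n) ∈ H := by
      show φ _ = 0
      rw [hφ, ZMod.natCast_self]
    have hs0 : sr (0 : ZMod n) ∈ H := map_zero φ
    have hnc : ¬ IsCyclic H := by
      intro hc
      let _ := IsCyclic.commGroup (α := H)
      have h1 := congrArg Subtype.val (mul_comm (⟨_, hrd⟩ : H) ⟨_, hs0⟩)
      simp only [Subgroup.coe_mul, r_mul_sr, sr_mul_r, sr.injEq, zero_sub, zero_add] at h1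
      have h2 : ((2 ^ a + 2 ^ a : ℕ) : ZMod n) = 0 := by
        push_cast
        push_cast at h1
        linear_combination -h1
      rw [ZMod.natCast_eq_zero_iff] at h2
      have := Nat.le_of_dvd (by positivity) h2
      rw [hnm] at this
      have := Nat.mul_le_mul_left (2 ^ a) hm3
      have := Nat.two_pow_pos a
      omega
    set h : ℕ := 2 ^ (a - 1) * m with hh
    have hh2 : n = h + h := by
      rw [hnm, hh, ← two_mul, ← mul_assoc, ← pow_succ', show a - 1 + 1 = a by omega]
    have hh0 : ((h : ℕ) : ZMod n) + (h : ZMod n) = 0 := by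
      rw [← Nat.cast_add, ← hh2, ZMod.natCast_self]
    have hmem : r (h : ZMod n) ∈ Subgroup.centralizer (H : Set (DihedralGroup n)) := by
      refine Subgroup.mem_centralizer_iff.mpr fun x _ => ?_
      rcases x with i | i
      · rw [r_mul_r, r_mul_r, add_comm]
      · rw [r_mul_sr, sr_mul_r]
        congr 1
        linear_combination hh0
    have h3 : φ (h : ZMod n) = 0 := hX H hnc hmem
    rw [hφ, ZMod.natCast_eq_zero_iff, hh, show (2 : ℕ) ^ a = 2 ^ (a - 1) * 2 by
      rw [← pow_succ, show a - 1 + 1 = a by omega]] at h3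
    have := Nat.dvd_of_mul_dvd_mul_left (Nat.two_pow_pos _) h3
    rcases hm with ⟨c, hc⟩
    omega
  · intro hcase H hH x hx
    open DihedralGroup in
    obtain ⟨i, hi⟩ : ∃ i, sr i ∈ H := by
      by_contra hall
      push Not at hall
      refine hH (isCyclic_of_injective (Subgroup.inclusion
        (show H ≤ Subgroup.zpowers (r (1 : ZMod n)) from fun y hy => ?_))
        (Subgroup.inclusion_injective _))
      rcases y with j | j
      · exact ⟨(j.val : ℤ), by
          show r 1 ^ (j.val : ℤ) = r j
          rw [zpow_natCast, r_one_pow, ZMod.natCast_zmod_val]⟩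
      · exact absurd hy (hall j)
    obtain ⟨j, hj, hj0⟩ : ∃ j, r j ∈ H ∧ j ≠ 0 := by
      by_contra hall
      push Not at hall
      refine hH ⟨⟨⟨sr i, hi⟩, fun y => ?_⟩⟩
      obtain ⟨y, hy⟩ := y
      rcases y with l | l
      · obtain rfl := hall l hy
        exact ⟨0, Subtype.ext (by simp [r_zero])⟩
      · have h1 := H.mul_mem hi hy
        rw [sr_mul_sr] at h1
        refine ⟨1, Subtype.ext ?_⟩
        show ((⟨sr i, hi⟩ : H) ^ (1 : ℤ) : H).1 = sr l
        rw [zpow_one]
        exact congrArg sr (sub_eq_zero.mp (hall _ h1)).symm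
    -- the rotations commuting with the reflection
    have hrot : ∀ c : ZMod n, c + c = 0 → r c ∈ H := by
      intro c hc
      rcases hcase with hodd | ⟨k, hk⟩
      · have hu : IsUnit ((2 : ℕ) : ZMod n) :=
          (ZMod.isUnit_iff_coprime 2 n).mpr (Nat.coprime_two_left.mpr hodd)
        have : c = 0 := hu.mul_right_eq_zero.mp (by push_cast; linear_combination hc)
        rw [this, r_zero]
        exact one_mem H
      · have hk1 : 1 ≤ k := by
          by_contra h
          rw [show k = 0 by omega] at hk
          omega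
        obtain ⟨l, hl, rfl⟩ : ∃ l : ℕ, l < n ∧ (l : ZMod n) = c :=
          ⟨c.val, c.val_lt, ZMod.natCast_zmod_val c⟩
        rw [← Nat.cast_add, ZMod.natCast_eq_zero_iff] at hc
        obtain ⟨q, hq⟩ := hc
        have hq2 : q < 2 := by
          by_contra hge
          have := Nat.mul_le_mul_left n (show 2 ≤ q by omega)
          omega
        interval_cases q
        · rw [show l = 0 by omega, Nat.cast_zero, r_zero]; exact one_mem H
        obtain ⟨b, hb⟩ := (Nat.dvd_prime_pow Nat.prime_two).mp
          (show orderOf (r j : DihedralGroup n) ∣ 2 ^ k from hk ▸ by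
            rw [orderOf_r]; exact Nat.div_dvd_of_dvd (Nat.gcd_dvd_left _ _))
        obtain ⟨hbk, hb⟩ := hb
        have hb1 : 1 ≤ b := by
          by_contra h
          rw [show b = 0 by omega, pow_zero, orderOf_eq_one_iff, ← r_zero] at hb
          exact hj0 (r.injEq _ _ |>.mp hb)
        have hp : orderOf ((r j : DihedralGroup n) ^ 2 ^ (b - 1)) = 2 := by
          rw [orderOf_pow, hb, Nat.gcd_eq_right (pow_dvd_pow 2 (Nat.sub_le b 1)),
            Nat.pow_div (Nat.sub_le b 1) two_pos, Nat.sub_sub_self hb1, pow_one]
        have hmem := H.pow_mem hj (2 ^ (b - 1))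
        rw [r_pow] at hp hmem
        set e := j * ((2 ^ (b - 1) : ℕ) : ZMod n)
        have he : e + e = 0 := by
          have h1 := pow_orderOf_eq_one (r e)
          rw [hp, sq, r_mul_r, ← r_zero] at h1
          exact r.injEq _ _ |>.mp h1
        obtain ⟨l', hl', he'⟩ : ∃ l' : ℕ, l' < n ∧ (l' : ZMod n) = e :=
          ⟨e.val, e.val_lt, ZMod.natCast_zmod_val e⟩
        rw [← he', ← Nat.cast_add, ZMod.natCast_eq_zero_iff] at he
        obtain ⟨q', hq'⟩ := he
        have hq2' : q' < 2 := by
          by_contra hge
          have := Nat.mul_le_mul_left n (show 2 ≤ q' by omega)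
          omega
        interval_cases q'
        · exfalso
          rw [← he', show l' = 0 by omega, Nat.cast_zero, r_zero, orderOf_one] at hp
          omega
        · rw [show l = l' by omega, he']
          exact hmem
    have hcomm := Subgroup.mem_centralizer_iff.mp hx _ hi
    rcases x with c | c
    · rw [sr_mul_r, r_mul_sr] at hcomm
      exact hrot c (by
        have := sr.injEq _ _ |>.mp hcomm
        linear_combination this)
    · rw [sr_mul_sr, sr_mul_sr] at hcomm
      have h1 := hrot (c - i) (by
        have := r.injEq _ _ |>.mp hcomm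
        linear_combination this)
      have h2 := H.mul_mem hi h1
      rw [sr_mul_r, add_sub_cancel] at h2
      exact h2
end Cfsg.Agent.S3920
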