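import Cfsg.Statements.S3921
import Cfsg.Agent.Lib.SelfCentNoncyclic.SemiEnd
import Cfsg.Agent.S0205
import Cfsg.Agent.S0252
import Cfsg.Agent.S0253
import Mathlib.FieldTheory.Finite.GaloisField

set_option autoImplicit false
open Cfsg

namespace Cfsg.Agent.S3921

/-- Say that a group has self-centralizing non-cyclic subgroups when every non-cyclic subgroup H satisfies C_G(H) ≤ H. A non-abelian finite simple group has self-centralizing non-cyclic subgroups if and only if it is isomorphic to PSL₂(q) with q = 4, q = 9, or q a prime of the form 2^k + 1 or 2^k − 1. -/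
theorem result {G : Type*} [Group G] [Finite G] [IsSimpleGroup G] (hna : ¬ IsMulCommutative G) :
    (∀ H : Subgroup G, ¬ IsCyclic ↥H → Subgroup.centralizer (H : Set G) ≤ H) ↔ ∃ (F : Type) (_ : Field F) (_ : Fintype F),
      (Fintype.card F = 4 ∨ Fintype.card F = 9 ∨ ((Fintype.card F).Prime ∧ ∃ k : ℕ, Fintype.card F = 2 ^ k + 1 ∨ Fintype.card F = 2 ^ k - 1)) ∧
      Nonempty (G ≃* Matrix.ProjectiveSpecialLinearGroup (Fin 2) F) := by
  constructor
  · intro hP
    have heven : Even (Nat.card G) := by
      by_contra h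
      have := Cfsg.Agent.S0205.result (G := G) (Nat.not_even_iff_odd.1 h)
      exact hna ⟨⟨fun a b => IsSimpleGroup.comm_iff_isSolvable.2 this a b⟩⟩
    obtain ⟨S, z, u, hz, hu, hne, hzS, huS, hcz, ⟨n, hn, hS⟩ | hS⟩ :=
      CfsgLib.SelfCentNoncyclic.exists_setting hP hna heven
    · obtain ⟨F, _, _, hq, he⟩ :=
        CfsgLib.SelfCentNoncyclic.dihedral_case hP S hz hu hne hzS huS hcz hn hS
      exact ⟨F, inferInstance, inferInstance, Or.inr hq, he⟩
    · obtain ⟨D⟩ := CfsgLib.TwoFusion.exists_qdGens hS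
      exact absurd hP fun hP => CfsgLib.SelfCentNoncyclic.semidihedral_false D hna hP
  · rintro ⟨F, _, _, hq, ⟨e⟩⟩
    rcases hq with h4 | hq
    · have : Fact (Nat.Prime 5) := ⟨by norm_num⟩
      obtain ⟨e₁⟩ := Cfsg.Agent.S0252.result h4
      obtain ⟨e₂⟩ := Cfsg.Agent.S0253.result (F := ZMod 5) (ZMod.card 5)
      exact CfsgLib.SelfCentNoncyclic.sc_of_mulEquiv (e.trans (e₁.trans e₂.symm))
        (CfsgLib.SelfCentNoncyclic.psl_sc (ZMod 5) (by rw [ZMod.card]; decide)
          (Or.inr ⟨by rw [ZMod.card]; norm_num, 2, Or.inl (by rw [ZMod.card]; norm_num)⟩))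
    · rcases (Fintype.card F).even_or_odd with hev | hodd
      · exfalso
        have h2 : Fintype.card F = 2 := by
          rcases hq with h9 | ⟨hp, -⟩
          · rw [h9] at hev; exact absurd hev (by decide)
          · exact (hp.eq_one_or_self_of_dvd 2 (even_iff_two_dvd.1 hev)).elim (by norm_num) Eq.symm
        have hc := CfsgLib.Linear.card_PSL_mul (n := Fin 2) (F := F)
        rw [CfsgLib.Linear.card_SL_two, h2, Fintype.card_fin, ← Nat.card_congr e.toEquiv] at hc
        norm_num at hc
        have : Fact (Nat.Prime 3) := ⟨Nat.prime_three⟩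
        obtain ⟨x, hx⟩ := exists_prime_orderOf_dvd_card' (G := G) 3 (by rw [hc]; norm_num)
        have h := (Subgroup.zpowers x).card_mul_index
        rw [Nat.card_zpowers, hx, hc] at h
        have hn := Subgroup.normal_of_index_eq_two (show (Subgroup.zpowers x).index = 2 by omega)
        rcases IsSimpleGroup.eq_bot_or_eq_top_of_normal _ hn with hb | ht
        · rw [hb, Subgroup.index_bot, hc] at h; omega
        · rw [ht, Subgroup.index_top] at h; omega
      · exact CfsgLib.SelfCentNoncyclic.sc_of_mulEquiv e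
          (CfsgLib.SelfCentNoncyclic.psl_sc F hodd hq)

end Cfsg.Agent.S3921
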