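import Cfsg.Statements.S3927
import Cfsg.Agent.Lib.Zipper.Applications
import Mathlib.GroupTheory.SemidirectProduct
-- import your own Cfsg.Agent.* helpers here

set_option autoImplicit false
open Cfsg

namespace Cfsg.Agent.S3927

/-- Let G be a finite group and α an automorphism of G with [G, α] = G, that is, the elements g·α(g)⁻¹ generate G. Then for every k ≥ 1 the iterated commutators [g, α, …, α] with k entries α — the values of the k-th iterate of the map c ↦ c·α(c)⁻¹ — also generate G. -/
theorem result {G : Type*} [Group G] [Finite G] (α : MulAut G) (hG : Subgroup.closure (Set.range (fun c : G => c * (α c)⁻¹)) = ⊤) (k : ℕ) (hk : 1 ≤ k) :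
    Subgroup.closure (Set.range ((fun c : G => c * (α c)⁻¹)^[k])) = ⊤ := by
  classical
  obtain ⟨k, rfl⟩ : ∃ j, k = j + 1 := ⟨k - 1, by omega⟩
  let f : G → G := fun c => c * (α c)⁻¹
  set H := Subgroup.closure (Set.range (f^[k + 1])) with hH
  let ψ : Subgroup.zpowers α →* MulAut G := (Subgroup.zpowers α).subtype
  have hfin : Finite (MulAut G) := Finite.of_injective (fun e : G ≃* G => (e : G → G))
    fun a b h => MulEquiv.ext (congrFun h)
  have : Finite (G ⋊[ψ] Subgroup.zpowers α) :=
    Finite.of_equiv _ SemidirectProduct.equivProd.symm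
  have hfa : ∀ (e : Subgroup.zpowers α) (c : G), f (ψ e c) = ψ e (f c) := by
    rintro ⟨e, i, rfl⟩ c
    show f ((α ^ i) c) = (α ^ i) (f c)
    have hc : α ((α ^ i) c) = (α ^ i) (α c) := by
      rw [← MulAut.mul_apply, ← MulAut.mul_apply, (Commute.self_zpow α i).eq]
    simp [f, hc]
  have hfb : ∀ (j : ℕ) (e : Subgroup.zpowers α) (c : G), f^[j] (ψ e c) = ψ e (f^[j] c) := by
    intro j
    induction j with
    | zero => exact fun e c => rfl
    | succ j ih => intro e c; rw [Function.iterate_succ_apply', ih, hfa, Function.iterate_succ_apply']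
  have hinv : ∀ (e : Subgroup.zpowers α) (c : G), c ∈ H → ψ e c ∈ H := by
    intro e c hc
    have h1 := Subgroup.mem_map_of_mem (ψ e).toMonoidHom hc
    rw [hH, MonoidHom.map_closure] at h1
    refine Subgroup.closure_mono ?_ h1
    rintro _ ⟨_, ⟨d, rfl⟩, rfl⟩
    exact ⟨ψ e d, hfb _ e d⟩
  let K : Subgroup (G ⋊[ψ] Subgroup.zpowers α) :=
    { carrier := {x | x.left ∈ H}
      one_mem' := one_mem H
      mul_mem' := fun {x y} hx hy => by
        show x.left * ψ x.right y.left ∈ H
        exact mul_mem hx (hinv _ _ hy)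
      inv_mem' := fun {x} hx => hinv _ _ (inv_mem hx) }
  let a : G ⋊[ψ] Subgroup.zpowers α := ⟨1, ⟨α, Subgroup.mem_zpowers α⟩⟩
  have hconj : ∀ c : G, SemidirectProduct.inl c * a * (SemidirectProduct.inl c)⁻¹ =
      (⟨f c, ⟨α, Subgroup.mem_zpowers α⟩⟩ : G ⋊[ψ] Subgroup.zpowers α) := fun c => by
    ext <;> simp [a, f, ψ]
  have hstep : ∀ c : G, (⟨c, ⟨α, Subgroup.mem_zpowers α⟩⟩ : G ⋊[ψ] Subgroup.zpowers α) * a *
      (⟨c, ⟨α, Subgroup.mem_zpowers α⟩⟩ : G ⋊[ψ] Subgroup.zpowers α)⁻¹ =
      (⟨f c, ⟨α, Subgroup.mem_zpowers α⟩⟩ : G ⋊[ψ] Subgroup.zpowers α) := fun c => by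
    ext <;> simp [a, f, ψ]
  have hiter : ∀ (j : ℕ) (c : G), (fun s => s * a * s⁻¹)^[j]
      (⟨c, ⟨α, Subgroup.mem_zpowers α⟩⟩ : G ⋊[ψ] Subgroup.zpowers α) =
      ⟨f^[j] c, ⟨α, Subgroup.mem_zpowers α⟩⟩ := by
    intro j
    induction j with
    | zero => exact fun c => rfl
    | succ j ih =>
      intro c
      rw [Function.iterate_succ_apply', ih, hstep, Function.iterate_succ_apply']
  have hall : ∀ x : G ⋊[ψ] Subgroup.zpowers α,
      (fun s => s * a * s⁻¹)^[k] (x * a * x⁻¹) ∈ K := by
    intro x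
    have h1 : x * a * x⁻¹ = SemidirectProduct.inl x.left * a * (SemidirectProduct.inl x.left)⁻¹ := by
      have hr : SemidirectProduct.inr x.right * a = a * SemidirectProduct.inr x.right := by
        ext
        · simp [a]
        · obtain ⟨i, hi⟩ := x.right.2
          simp [a, ← hi]
          exact DFunLike.congr_fun (Commute.zpow_self α i).eq _
      conv_lhs => rw [← SemidirectProduct.inl_left_mul_inr_right x]
      rw [mul_inv_rev, mul_assoc (SemidirectProduct.inl x.left), hr]
      simp [mul_assoc]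
    rw [h1, hconj, hiter, ← Function.iterate_succ_apply]
    exact Subgroup.subset_closure ⟨x.left, rfl⟩
  have hN : Subgroup.normalClosure
      ((Subgroup.zpowers a : Subgroup (G ⋊[ψ] Subgroup.zpowers α)) :
        Set (G ⋊[ψ] Subgroup.zpowers α)) = ⊤ := by
    set N := Subgroup.normalClosure
      ((Subgroup.zpowers a : Subgroup (G ⋊[ψ] Subgroup.zpowers α)) :
        Set (G ⋊[ψ] Subgroup.zpowers α))
    have haN : a ∈ N := Subgroup.subset_normalClosure (Subgroup.mem_zpowers a)
    have hl : ∀ c : G, SemidirectProduct.inl c ∈ N := by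
      have hle : (⊤ : Subgroup G) ≤ N.comap SemidirectProduct.inl := by
        rw [← hG, Subgroup.closure_le]
        rintro _ ⟨c, rfl⟩
        show SemidirectProduct.inl (f c) ∈ N
        have h1 := mul_mem (Subgroup.normalClosure_normal.conj_mem a haN
          (SemidirectProduct.inl c)) (inv_mem haN)
        rw [hconj] at h1
        convert h1 using 1
        ext <;> simp [a, ψ]
      exact fun c => hle (Subgroup.mem_top c)
    rw [eq_top_iff]
    intro x _
    obtain ⟨i, hi⟩ := x.right.2
    have h3 : (SemidirectProduct.inr (⟨α, Subgroup.mem_zpowers α⟩ : Subgroup.zpowers α) :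
        G ⋊[ψ] Subgroup.zpowers α) ^ i ∈ N := zpow_mem haN i
    rw [← map_zpow, show (⟨α, Subgroup.mem_zpowers α⟩ : Subgroup.zpowers α) ^ i = x.right from
      Subtype.ext (by rw [Subgroup.coe_zpow]; exact hi)] at h3
    have h4 := mul_mem (hl x.left) h3
    rwa [SemidirectProduct.inl_left_mul_inr_right] at h4
  have := CfsgLib.Zipper.eq_top_of_iterate_mem _ a K k hN (one_mem H) hall
  rw [eq_top_iff]
  intro c _
  exact (this.ge (Subgroup.mem_top (SemidirectProduct.inl c : G ⋊[ψ] Subgroup.zpowers α)) : c ∈ H)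
end Cfsg.Agent.S3927
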