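import Cfsg.Statements.S3937
import Cfsg.Agent.Lib.Zipper.Applications
import Cfsg.Agent.Lib.Components.Subnormal
import Cfsg.Agent.Lib.Solvable.Core
-- import your own Cfsg.Agent.* helpers here

set_option autoImplicit false
open Cfsg

namespace Cfsg.Agent.S3937

/-- Baer's characterization of the Fitting subgroup: in a finite group G, an element g lies in the Fitting subgroup if and only if g is a left Engel element, that is, for every x there is n with [x, g, g, …, g] = 1 (n entries g, [a, b] = aba⁻¹b⁻¹). -/
theorem result {G : Type*} [Group G] [Finite G] (g : G) :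
    g ∈ Cfsg.fittingSubgroup G ↔ ∀ x : G, ∃ n : ℕ, (List.replicate n g).foldl (fun a b => a * b * a⁻¹ * b⁻¹) x = 1 := by
  open scoped commutatorElement in
  let e : G → G := fun a => a * g * a⁻¹ * g⁻¹
  have hfold : ∀ (n : ℕ) (x : G),
      (List.replicate n g).foldl (fun a b => a * b * a⁻¹ * b⁻¹) x = e^[n] x := by
    intro n
    induction n with
    | zero => exact fun x => rfl
    | succ n ih => exact fun x => by rw [List.replicate_succ, List.foldl_cons, ih,
        Function.iterate_succ_apply]
  simp only [hfold]
  constructor
  · intro hg x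
    obtain ⟨n, hn⟩ := (Subgroup.isNilpotent_iff_lowerCentralSeries _).mp
      (CfsgLib.Solvable.fittingSubgroup_isNilpotent G)
    have hFn : (Cfsg.fittingSubgroup G).Normal := CfsgLib.Solvable.fittingSubgroup_normal G
    have key : ∀ i : ℕ, e^[i + 1] x ∈ (Cfsg.fittingSubgroup G).lowerCentralSeries i := by
      intro i
      induction i with
      | zero =>
        show x * g * x⁻¹ * g⁻¹ ∈ Cfsg.fittingSubgroup G
        exact mul_mem (hFn.conj_mem g hg x) (inv_mem hg)
      | succ i ih =>
        rw [Function.iterate_succ_apply']
        exact Subgroup.commutator_mem_commutator ih hg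
    exact ⟨n + 1, Subgroup.mem_bot.mp (hn ▸ key n)⟩
  · intro h
    have hsn : (Subgroup.zpowers g).IsSubnormal := by
      refine CfsgLib.Zipper.isSubnormal_zpowers_of_engel G g fun x => ?_
      obtain ⟨n, hn⟩ := h x
      refine ⟨n, ?_⟩
      have key : ∀ i : ℕ, (fun s => s * g * s⁻¹)^[i] (x * g * x⁻¹) = e^[i + 1] x * g := by
        intro i
        induction i with
        | zero => simp [e]
        | succ i ih =>
          rw [Function.iterate_succ_apply' (f := fun s => s * g * s⁻¹), ih,
            Function.iterate_succ_apply' (f := e) (n := i + 1)]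
          simp [e, mul_assoc]
      rw [key, Function.iterate_succ_apply', hn]
      simp [e]
    exact CfsgLib.Components.le_fitting_of_isSubnormal hsn
      (CfsgLib.Solvable.isNilpotent_of_comm fun a b => Subtype.ext (by
        obtain ⟨i, hi⟩ := a.2
        obtain ⟨j, hj⟩ := b.2
        show (a : G) * b = b * a
        rw [← hi, ← hj]
        exact ((Commute.refl g).zpow_zpow i j).eq)) (Subgroup.mem_zpowers g)
end Cfsg.Agent.S3937
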