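import Cfsg.Statements.S3939
import Cfsg.Agent.S3937
import Cfsg.Agent.Lib.ConjAbelian.CoreStructure
import Cfsg.Agent.Lib.PGroup.Basic
-- import your own Cfsg.Agent.* helpers here

set_option autoImplicit false
open Cfsg

namespace Cfsg.Agent.S3939

/-- In a finite group G the set of elements g such that the subgroup generated by g and x is nilpotent for every x ∈ G is exactly the hypercenter of G (the last term of the upper central series). -/
theorem result {G : Type*} [Group G] [Finite G] (g : G) :
    (∀ x : G, Group.IsNilpotent ↥(Subgroup.closure ({x, g} : Set G))) ↔ g ∈ ⨆ n : ℕ, Subgroup.upperCentralSeries G n := by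
  open scoped commutatorElement in
  classical
  obtain ⟨N, hN⟩ := WellFoundedGT.monotone_chain_condition
    (⟨fun n => Subgroup.upperCentralSeries G n, Subgroup.upperCentralSeries_mono G⟩ : ℕ →o Subgroup G)
  have hsup : (⨆ n : ℕ, Subgroup.upperCentralSeries G n) = Subgroup.upperCentralSeries G N :=
    le_antisymm (iSup_le fun n => (Subgroup.upperCentralSeries_mono G (le_max_right N n)).trans
      (hN (max N n) (le_max_left N n)).ge) (le_iSup (Subgroup.upperCentralSeries G) N)
  rw [hsup]
  constructor
  · intro h
    have hF : g ∈ Cfsg.fittingSubgroup G := by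
      rw [Cfsg.Agent.S3937.result g]
      intro x
      set K := Subgroup.closure ({x, g} : Set G)
      have hK : Group.IsNilpotent K := h x
      obtain ⟨n, hn⟩ := (Subgroup.isNilpotent_iff_lowerCentralSeries _).mp hK
      have hx : x ∈ K := Subgroup.subset_closure (by simp)
      have hg : g ∈ K := Subgroup.subset_closure (by simp)
      have key : ∀ i : ℕ, (List.replicate i g).foldl (fun a b => a * b * a⁻¹ * b⁻¹) x ∈
          K.lowerCentralSeries i := by
        intro i
        induction i with
        | zero => exact hx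
        | succ i ih =>
          rw [List.replicate_succ', List.foldl_append]
          exact Subgroup.commutator_mem_commutator ih hg
      exact ⟨n, Subgroup.mem_bot.mp (hn ▸ key n)⟩
    -- the prime power parts
    suffices hpart : ∀ (p : ℕ) [Fact p.Prime] (u : G) (j : ℕ), u ∈ Subgroup.zpowers g →
        orderOf u = p ^ j → u ∈ Subgroup.upperCentralSeries G N by
      have hle : Subgroup.zpowers g ≤ Subgroup.upperCentralSeries G N := by
        rw [← Subgroup.relIndex_eq_one]
        by_contra hne
        obtain ⟨q, hq, hqd⟩ := Nat.exists_prime_and_dvd hne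
        have := Fact.mk hq
        obtain ⟨S⟩ := (inferInstance : Nonempty (Sylow q (Subgroup.zpowers g)))
        refine S.not_dvd_index (hqd.trans (Subgroup.index_dvd_of_le ?_))
        intro v hv
        obtain ⟨j, hj⟩ := S.isPGroup'.exists_orderOf_eq_pow ⟨v, hv⟩
        rw [Subgroup.orderOf_mk] at hj
        exact hpart q v j v.2 (by rw [Subgroup.orderOf_coe]; exact hj)
      exact hle (Subgroup.mem_zpowers g)
    intro p _ u j hu huo
    have hp : p.Prime := Fact.out
    have hcomm : ∀ (q : ℕ), q.Prime → q ≠ p → ∀ (v : G) (i : ℕ), orderOf v = q ^ i → u * v = v * u := by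
      intro q hq hqp v i hv
      set K := Subgroup.closure ({v, g} : Set G)
      have hK : Group.IsNilpotent K := h v
      have hv' : v ∈ K := Subgroup.subset_closure (by simp)
      have hu' : u ∈ K := (Subgroup.zpowers_le.mpr (Subgroup.subset_closure (by simp))) hu
      have h1 := CfsgLib.ConjAbelian.le_centralizer_of_nilpotent (p := p)
        (S := Subgroup.zpowers (⟨u, hu'⟩ : K)) (K := Subgroup.zpowers (⟨v, hv'⟩ : K))
        (IsPGroup.of_card (n := j) (by rw [Nat.card_zpowers, Subgroup.orderOf_mk, huo]))
        (by rw [Nat.card_zpowers, Subgroup.orderOf_mk, hv]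
            exact ((Nat.coprime_primes hq hp).mpr hqp).pow_left i)
      exact congrArg Subtype.val (Subgroup.mem_centralizer_iff.mp (h1 (Subgroup.mem_zpowers _))
        _ (Subgroup.mem_zpowers _))
    have huP : u ∈ Cfsg.pCore p G :=
      CfsgLib.ConjAbelian.mem_pCore_of_mem_fitting ((Subgroup.zpowers_le.mpr hF) hu) huo
    let T : Set G := {v | ∃ (q i : ℕ), q.Prime ∧ q ≠ p ∧ orderOf v = q ^ i}
    set L := Subgroup.closure T with hL
    have hLn : L.Normal := ⟨fun v hv c => by
      have hle : L ≤ L.comap (MulAut.conj c).toMonoidHom := by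
        refine (Subgroup.closure_le _).mpr fun w ⟨q, i, hq, hqp, hw⟩ => Subgroup.subset_closure ?_
        refine ⟨q, i, hq, hqp, ?_⟩
        show orderOf (MulAut.conj c w) = q ^ i
        rw [MulEquiv.orderOf_eq, hw]
      exact hle hv⟩
    set C := Cfsg.pCore p G ⊓ Subgroup.centralizer (L : Set G) with hC
    have huC : u ∈ C := by
      refine ⟨huP, Subgroup.zpowers_le.mp (Subgroup.le_centralizer_iff.mp ?_)⟩
      refine (Subgroup.closure_le _).mpr fun v ⟨q, i, hq, hqp, hv⟩ => ?_
      exact Subgroup.mem_centralizer_iff.mpr (by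
        rintro _ ⟨k, rfl⟩
        exact ((show Commute u v from hcomm q hq hqp v i hv).zpow_left k).eq)
    suffices hCle : C ≤ Subgroup.upperCentralSeries G N from hCle huC
    by_contra hnle
    set Z := Subgroup.upperCentralSeries G N with hZ
    set π := QuotientGroup.mk' Z
    have hCn : C.Normal := by
      have := CfsgLib.Solvable.pCore_normal (p := p) G
      exact Subgroup.normal_inf_normal _ _
    have hCne : C.map π ≠ ⊥ := fun e => hnle (by
      have := (Subgroup.map_eq_bot_iff C).mp e
      rwa [QuotientGroup.ker_mk'] at this)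
    obtain ⟨S⟩ := (inferInstance : Nonempty (Sylow p G))
    let S' := S.mapSurjective (QuotientGroup.mk'_surjective Z)
    have hCp : IsPGroup p (C.map π) :=
      ((CfsgLib.Solvable.pCore_isPGroup p G).to_le inf_le_left).map π
    have := hCn.map π (QuotientGroup.mk'_surjective Z)
    have hCS : C.map π ≤ (S' : Subgroup (G ⧸ Z)) := hCp.le_sylow_of_normal S'
    obtain ⟨z, hzC, hzZ, hzo⟩ := CfsgLib.PGroup.exists_central_orderOf_eq (p := p) S'.isPGroup'
      ((C.map π).subgroupOf (S' : Subgroup (G ⧸ Z))) (by
        intro e
        rw [Subgroup.subgroupOf_eq_bot, disjoint_iff, inf_eq_left.mpr hCS] at e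
        exact hCne e)
    obtain ⟨c, hcC, hcz⟩ := hzC
    have hcentral : (z : G ⧸ Z) ∈ Subgroup.center (G ⧸ Z) := by
      have htop : (S : Subgroup G) ⊔ L = ⊤ := by
        rw [← Subgroup.index_eq_one]
        by_contra hne
        obtain ⟨q, hq, hqd⟩ := Nat.exists_prime_and_dvd hne
        have := Fact.mk hq
        by_cases hqp : q = p
        · subst hqp
          exact S.not_dvd_index (hqd.trans (Subgroup.index_dvd_of_le le_sup_left))
        · obtain ⟨R⟩ := (inferInstance : Nonempty (Sylow q G))
          refine R.not_dvd_index (hqd.trans (Subgroup.index_dvd_of_le ?_))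
          intro w hw
          obtain ⟨i, hi⟩ := R.isPGroup'.exists_orderOf_eq_pow ⟨w, hw⟩
          rw [Subgroup.orderOf_mk] at hi
          exact Subgroup.mem_sup_right (Subgroup.subset_closure ⟨q, i, hq, hqp, hi⟩)
      have hle : ((S : Subgroup G) ⊔ L).map π ≤ Subgroup.centralizer {(z : G ⧸ Z)} := by
        rw [Subgroup.map_sup]
        refine sup_le (fun w hw => ?_) ?_
        · rw [Subgroup.mem_centralizer_singleton_iff]
          exact congrArg Subtype.val (Subgroup.mem_center_iff.mp hzZ ⟨w, hw⟩)
        · rintro _ ⟨l, hl, rfl⟩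
          rw [Subgroup.mem_centralizer_singleton_iff,
            show (z : G ⧸ Z) = π c from hcz.symm, ← map_mul, ← map_mul,
            Subgroup.mem_centralizer_iff.mp hcC.2 l hl]
      rw [htop, Subgroup.map_top_of_surjective π (QuotientGroup.mk'_surjective Z)] at hle
      rw [Subgroup.mem_center_iff]
      intro w
      exact Subgroup.mem_centralizer_singleton_iff.mp (hle (Subgroup.mem_top w))
    have hcZ : c ∈ Z := by
      have h1 : c ∈ Subgroup.upperCentralSeries G (N + 1) := by
        rw [Subgroup.mem_upperCentralSeries_succ_iff]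
        intro y
        rw [← QuotientGroup.eq_one_iff]
        show π ⁅c, y⁆ = 1
        rw [map_commutatorElement, commutatorElement_eq_one_iff_mul_comm,
          show π c = (z : G ⧸ Z) from hcz]
        exact (Subgroup.mem_center_iff.mp hcentral (π y)).symm
      exact (hN (N + 1) (Nat.le_succ N)).ge h1
    have : (z : G ⧸ Z) = 1 :=
      (show (z : G ⧸ Z) = π c from hcz.symm).trans ((QuotientGroup.eq_one_iff c).mpr hcZ)
    rw [← Subgroup.orderOf_coe, this, orderOf_one] at hzo
    exact hp.ne_one hzo.symm
  · intro hg x
    set K := Subgroup.closure ({x, g} : Set G) with hKdef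
    have hres : ∀ (n : ℕ) (v : K), (v : G) ∈ Subgroup.upperCentralSeries G n →
        v ∈ Subgroup.upperCentralSeries K n := by
      intro n
      induction n with
      | zero =>
        intro v hv
        rw [Subgroup.upperCentralSeries_zero, Subgroup.mem_bot] at hv ⊢
        exact Subtype.ext hv
      | succ n ih =>
        intro v hv
        rw [Subgroup.mem_upperCentralSeries_succ_iff] at hv ⊢
        exact fun y => ih _ (hv (y : G))
    refine ⟨⟨N + 1, eq_top_iff.mpr fun v _ => ?_⟩⟩
    rw [Subgroup.mem_upperCentralSeries_succ_iff]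
    intro w
    rw [← QuotientGroup.eq_one_iff]
    set π := QuotientGroup.mk' (Subgroup.upperCentralSeries K N)
    show π ⁅v, w⁆ = 1
    rw [map_commutatorElement, commutatorElement_eq_one_iff_mul_comm]
    have hx : x ∈ K := Subgroup.subset_closure (by simp)
    have hg' : g ∈ K := Subgroup.subset_closure (by simp)
    have key : ∀ (u : G) (hu : u ∈ K), π ⟨u, hu⟩ ∈ Subgroup.zpowers (π ⟨x, hx⟩) := by
      intro u hu
      induction hu using Subgroup.closure_induction with
      | mem u hu =>
        rcases hu with rfl | rfl
        · exact Subgroup.mem_zpowers _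
        · have h1 : π ⟨u, hg'⟩ = 1 := (QuotientGroup.eq_one_iff _).mpr (hres N _ hg)
          rw [h1]; exact one_mem _
      | one => exact (map_one π).symm ▸ one_mem _
      | mul a b ha hb iha ihb => exact (map_mul π ⟨a, ha⟩ ⟨b, hb⟩) ▸ mul_mem iha ihb
      | inv a ha iha => exact (map_inv π ⟨a, ha⟩) ▸ inv_mem iha
    obtain ⟨i, hi⟩ := key v v.2
    obtain ⟨k, hk⟩ := key w w.2
    rw [← show (π ⟨x, hx⟩) ^ i = π v from hi, ← show (π ⟨x, hx⟩) ^ k = π w from hk]
    exact ((Commute.refl _).zpow_zpow i k).eq
end Cfsg.Agent.S3939
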