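import Cfsg.Statements.S3941
import Cfsg.Agent.Lib.LocalStr.Irreducible
import Mathlib.GroupTheory.SpecificGroups.Alternating.Simple
import Mathlib.GroupTheory.Perm.ViaEmbedding
-- import your own Cfsg.Agent.* helpers here

set_option autoImplicit false
open Cfsg

namespace Cfsg.Agent.S3941

/-- Let n ≥ 5 and p an odd prime with p ≤ n, and suppose that every proper subgroup of the alternating group of degree n whose order is divisible by p has a normal Sylow p-subgroup. Then n = p. -/
theorem result (n p : ℕ) (hn : 5 ≤ n) [Fact p.Prime] (hp : p ≠ 2) (hpn : p ≤ n)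
    (h : ∀ H : Subgroup ↥(alternatingGroup (Fin n)), H ≠ ⊤ → p ∣ Nat.card ↥H → Cfsg.IsPClosed p ↥H) : n = p := by
  classical
  by_contra hne
  obtain ⟨m, rfl⟩ : ∃ m, n = m + 1 := ⟨n - 1, by omega⟩
  have hm4 : 4 ≤ m := by omega
  have hpm : p ≤ m := by omega
  let ι : Fin m ↪ Fin (m + 1) := Fin.castSuccEmb
  let f : alternatingGroup (Fin m) →* alternatingGroup (Fin (m + 1)) :=
    ((Equiv.Perm.viaEmbeddingHom ι).comp (alternatingGroup (Fin m)).subtype).codRestrict _
      fun g => Equiv.Perm.mem_alternatingGroup.mpr (by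
        show Equiv.Perm.sign (Equiv.Perm.viaEmbedding (g : Equiv.Perm (Fin m)) ι) = 1
        rw [Equiv.Perm.viaEmbedding, Equiv.Perm.sign_extendDomain]
        exact Equiv.Perm.mem_alternatingGroup.mp g.2)
  have hf : Function.Injective f := fun a b e =>
    Subtype.ext (Equiv.Perm.viaEmbeddingHom_injective ι (congrArg Subtype.val e))
  have : Nontrivial (Fin m) := Fin.nontrivial_iff_two_le.mpr (by omega)
  have : Nontrivial (Fin (m + 1)) := Fin.nontrivial_iff_two_le.mpr (by omega)
  have hcm := two_mul_nat_card_alternatingGroup (α := Fin m)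
  rw [Nat.card_perm, Nat.card_eq_fintype_card (α := Fin m), Fintype.card_fin] at hcm
  have hcm1 := two_mul_nat_card_alternatingGroup (α := Fin (m + 1))
  rw [Nat.card_perm, Nat.card_eq_fintype_card (α := Fin (m + 1)), Fintype.card_fin] at hcm1
  have hdvd : p ∣ Nat.card (alternatingGroup (Fin m)) := by
    have h1 : p ∣ m.factorial := Nat.dvd_factorial (Fact.out : p.Prime).pos hpm
    rw [← hcm] at h1
    exact (((Nat.coprime_primes Fact.out Nat.prime_two).mpr hp)).dvd_of_dvd_mul_left h1
  have hrange : Nat.card f.range = Nat.card (alternatingGroup (Fin m)) :=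
    (Nat.card_congr (MonoidHom.ofInjective hf).toEquiv).symm
  have hne_top : f.range ≠ ⊤ := by
    intro e
    have h1 := congrArg (fun H : Subgroup (alternatingGroup (Fin (m + 1))) => Nat.card H) e
    simp only [Subgroup.card_top] at h1
    rw [hrange] at h1
    rw [← h1, hcm, Nat.factorial_succ] at hcm1
    have := Nat.factorial_pos m
    nlinarith
  have hcl : IsPClosed p (alternatingGroup (Fin m)) :=
    (CfsgLib.LocalStr.isPClosed_mulEquiv (MonoidHom.ofInjective hf)).mpr
      (h f.range hne_top (hrange ▸ hdvd))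
  obtain ⟨P⟩ := (inferInstance : Nonempty (Sylow p (alternatingGroup (Fin m))))
  have hPn := hcl P
  have hPne : (P : Subgroup (alternatingGroup (Fin m))) ≠ ⊥ := P.ne_bot_of_dvd_card hdvd
  by_cases hm5 : 5 ≤ m
  · have : IsSimpleGroup (alternatingGroup (Fin m)) := alternatingGroup.isSimpleGroup (by simpa using hm5)
    have htop := (Subgroup.Normal.eq_bot_or_eq_top hPn).resolve_left hPne
    obtain ⟨k, hk⟩ := P.isPGroup'.exists_card_eq
    rw [htop, Subgroup.card_top] at hk
    have h2 : 4 ∣ m.factorial := Nat.dvd_factorial (by norm_num) hm4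
    have h8 : 8 ∣ m.factorial := by
      have : (4 : ℕ).factorial ∣ m.factorial := Nat.factorial_dvd_factorial hm4
      exact (show (8 : ℕ) ∣ (4 : ℕ).factorial by decide).trans this
    rw [← hcm, hk] at h8
    have h4 : 4 ∣ p ^ k := Nat.dvd_of_mul_dvd_mul_left two_pos h8
    have h5 : 2 ∣ p := Nat.prime_two.dvd_of_dvd_pow ((show 2 ∣ 4 by norm_num).trans h4)
    exact hp ((Nat.prime_dvd_prime_iff_eq Nat.prime_two Fact.out).mp h5).symm
  · obtain rfl : m = 4 := by omega
    obtain rfl : p = 3 := by
      have := (Fact.out : p.Prime).two_le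
      have h4 : p ≠ 4 := fun e => absurd (e ▸ (Fact.out : p.Prime)) (by norm_num)
      omega
    -- two elements of order three generating an element of order two
    have huniq : ∀ Q : Sylow 3 (alternatingGroup (Fin 4)), Q = P := fun Q => by
      have := P.unique_of_normal hPn
      exact Subsingleton.elim _ _
    let a : alternatingGroup (Fin 4) :=
      ⟨Equiv.swap 0 1 * Equiv.swap 1 2, by rw [Equiv.Perm.mem_alternatingGroup]; decide⟩
    let b : alternatingGroup (Fin 4) :=
      ⟨Equiv.swap 1 2 * Equiv.swap 2 3, by rw [Equiv.Perm.mem_alternatingGroup]; decide⟩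
    have hmem : ∀ x : alternatingGroup (Fin 4), x ^ 3 = 1 → x ∈ (P : Subgroup _) := by
      intro x hx
      have hxp : IsPGroup 3 (Subgroup.zpowers x) := fun y => ⟨1, by
        obtain ⟨_, i, rfl⟩ := y
        apply Subtype.ext
        show (x ^ i) ^ 3 ^ 1 = 1
        rw [pow_one, ← zpow_natCast, ← zpow_mul, mul_comm, zpow_mul, zpow_natCast, hx, one_zpow]⟩
      obtain ⟨Q, hQ⟩ := hxp.exists_le_sylow
      exact huniq Q ▸ hQ (Subgroup.mem_zpowers x)
    have hab : a * b ∈ (P : Subgroup _) := mul_mem (hmem a (by decide)) (hmem b (by decide))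
    obtain ⟨k, hk⟩ := P.isPGroup'.exists_orderOf_eq_pow ⟨_, hab⟩
    rw [Subgroup.orderOf_mk] at hk
    have h2 : orderOf (a * b) = 2 := orderOf_eq_prime (by decide) (by decide)
    rw [h2] at hk
    rcases Nat.eq_zero_or_pos k with rfl | hk0
    · simp at hk
    · exact absurd ((Nat.prime_dvd_prime_iff_eq Nat.prime_three Nat.prime_two).mp
        (hk ▸ dvd_pow_self 3 hk0.ne')) (by norm_num)
end Cfsg.Agent.S3941
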