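import Cfsg.Statements.S3949
import Mathlib.Algebra.Order.Ring.Nat
import Mathlib.GroupTheory.OrderOfElement
-- import your own Cfsg.Agent.* helpers here

set_option autoImplicit false
open Cfsg

namespace Cfsg.Agent.S3949

/-- Let G be a finite group and α an automorphism of G of order 2 such that the elements g·α(g)⁻¹ generate G. Let j be a positive integer such that 2^j divides the order of no element inverted by α. Then the set of values of the j-th iterate of the map c ↦ c·α(c)⁻¹ is exactly the set of elements of odd order inverted by α. -/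
theorem result {G : Type*} [Group G] [Finite G] (α : MulAut G) (hα : orderOf α = 2) (hG : Subgroup.closure (Set.range (fun c : G => c * (α c)⁻¹)) = ⊤)
    (j : ℕ) (hj : ∀ g : G, α g = g⁻¹ → ¬ 2 ^ j ∣ orderOf g) :
    Set.range ((fun c : G => c * (α c)⁻¹)^[j]) = {g : G | Odd (orderOf g) ∧ α g = g⁻¹} := by
  obtain ⟨i, rfl⟩ : ∃ i, j = i + 1 :=
    Nat.exists_eq_succ_of_ne_zero fun h => hj 1 (by simp) (by simp [h])
  set f : G → G := fun c => c * (α c)⁻¹ with hf
  have h2 : ∀ x : G, α (α x) = x := fun x => by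
    have h := pow_orderOf_eq_one α
    rw [hα, sq] at h
    rw [← MulAut.mul_apply, h]
    rfl
  have hinv : ∀ c : G, α (f c) = (f c)⁻¹ := fun c => by simp [hf, h2]
  have hiv : ∀ t : G, α t = t⁻¹ → ∀ k : ℕ, α (t ^ k) = (t ^ k)⁻¹ := fun t ht k => by
    rw [map_pow, ht, inv_pow]
  have hit : ∀ (k : ℕ) (t : G), α t = t⁻¹ → f^[k] t = t ^ (2 ^ k) := by
    intro k
    induction k with
    | zero => simp
    | succ k ih =>
      intro t ht
      rw [Function.iterate_succ_apply', ih t ht, hf]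
      show t ^ 2 ^ k * (α (t ^ 2 ^ k))⁻¹ = _
      rw [hiv t ht, inv_inv, pow_succ 2 k, mul_comm (2 ^ k) 2, pow_mul', sq]
  ext g
  constructor
  · rintro ⟨c, rfl⟩
    rw [Function.iterate_succ_apply, hit i _ (hinv c)]
    set t := f c with htc
    refine ⟨?_, hiv t (hinv c) _⟩
    obtain ⟨e, m, hm, he⟩ := Nat.exists_eq_two_pow_mul_odd (orderOf_pos t).ne'
    have hei : e ≤ i := by
      by_contra hlt
      exact hj t (hinv c) (he ▸ Dvd.dvd.mul_right (pow_dvd_pow 2 (by omega)) m)
    have h1 : (t ^ 2 ^ i) ^ m = 1 := by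
      rw [← pow_mul]
      refine orderOf_dvd_iff_pow_eq_one.mp ?_
      rw [he]
      exact Nat.mul_dvd_mul (pow_dvd_pow 2 hei) dvd_rfl
    exact hm.of_dvd_nat (orderOf_dvd_of_pow_eq_one h1)
  · rintro ⟨hodd, hg⟩
    have hcop : Nat.Coprime (2 ^ (i + 1)) (orderOf g) :=
      Nat.Coprime.pow_left _ hodd.coprime_two_left
    obtain ⟨k, hk⟩ := exists_pow_eq_self_of_coprime (n := 2 ^ (i + 1)) hcop
    refine ⟨g ^ k, ?_⟩
    rw [hit _ _ (hiv g hg k), ← pow_mul, mul_comm, pow_mul, hk]
end Cfsg.Agent.S3949
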