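import Cfsg.Statements.S3950
import Cfsg.Agent.Lib.Schur.Bilinear
import Cfsg.Agent.Lib.Schur.CyclicBy
import Mathlib.GroupTheory.FiniteAbelian.Basic
import Mathlib.Algebra.GCDMonoid.FinsetLemmas
-- import your own Cfsg.Agent.* helpers here

set_option autoImplicit false
open Cfsg

namespace Cfsg.Agent.S3950

/-- A finite abelian group has trivial Schur multiplier if and only if it is cyclic. -/
theorem result {G : Type*} [CommGroup G] [Finite G] : Cfsg.HasCyclicSchurMultiplier G 1 ↔ IsCyclic G := by
  classical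
  open scoped commutatorElement in
  constructor
  · intro hM
    have := CfsgLib.Schur.hasCyclic_one_iff.mp hM
    obtain ⟨ι, hι, d, hd1, ⟨e⟩⟩ := CommGroup.equiv_prod_multiplicative_zmod_of_finite G
    have : ∀ i, NeZero (d i) := fun i => ⟨by have := hd1 i; omega⟩
    by_contra hnc
    obtain ⟨i, j, hij, hg⟩ : ∃ i j, i ≠ j ∧ Nat.gcd (d i) (d j) ≠ 1 := by
      by_contra hco
      push Not at hco
      refine hnc (IsCyclic.of_exponent_eq_card ?_)
      rw [Monoid.exponent_eq_of_mulEquiv e, Monoid.exponent_pi, Nat.card_congr e.toEquiv,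
        Nat.card_pi]
      rw [show (fun i => Monoid.exponent (Multiplicative (ZMod (d i)))) = d from funext fun i => by
          rw [Monoid.exponent_multiplicative, ZMod.exponent]]
      simp only [Nat.card_congr Multiplicative.toAdd, Nat.card_zmod]
      exact Finset.lcm_eq_prod fun a _ b _ hab => hco a b hab
    let c := Nat.gcd (d i) (d j)
    let a : G →* Multiplicative (ZMod c) :=
      ((ZMod.castHom (Nat.gcd_dvd_left (d i) (d j)) (ZMod c)).toAddMonoidHom.toMultiplicative).comp
        ((Pi.evalMonoidHom _ i).comp e.toMonoidHom)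
    let b : G →* Multiplicative (ZMod c) :=
      ((ZMod.castHom (Nat.gcd_dvd_right (d i) (d j)) (ZMod c)).toAddMonoidHom.toMultiplicative).comp
        ((Pi.evalMonoidHom _ j).comp e.toMonoidHom)
    let β : G →* G →* Multiplicative (ZMod c) :=
      { toFun := fun x =>
          { toFun := fun y => Multiplicative.ofAdd ((a x).toAdd * (b y).toAdd)
            map_one' := by simp
            map_mul' := fun y y' => by simp [mul_add, ofAdd_add] }
        map_one' := by ext y; simp
        map_mul' := fun x x' => by ext y; simp [add_mul, ofAdd_add] }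
    let x : CfsgLib.Schur.BilExt β := ⟨e.symm (Pi.mulSingle i (Multiplicative.ofAdd 1)), 1⟩
    let y : CfsgLib.Schur.BilExt β := ⟨e.symm (Pi.mulSingle j (Multiplicative.ofAdd 1)), 1⟩
    have hker : (CfsgLib.Schur.BilExt.toBase β).ker ≤
        Subgroup.center (CfsgLib.Schur.BilExt β) := by
      intro z hz
      have : z = CfsgLib.Schur.BilExt.incl β z.snd := CfsgLib.Schur.BilExt.ext hz rfl
      rw [this]
      exact CfsgLib.Schur.BilExt.incl_central β _
    have h0 := CfsgLib.Schur.ker_inf_commutator_eq_bot (CfsgLib.Schur.BilExt.toBase β)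
      (CfsgLib.Schur.BilExt.toBase_surjective β) hker
    have hxy : ⁅x, y⁆ = 1 := Subgroup.mem_bot.mp (h0.le
      ⟨by
        show ⁅x, y⁆ ∈ (CfsgLib.Schur.BilExt.toBase β).ker
        rw [MonoidHom.mem_ker, map_commutatorElement,
          commutatorElement_eq_one_iff_mul_comm]
        exact mul_comm _ _,
      Subgroup.commutator_mem_commutator (Subgroup.mem_top _) (Subgroup.mem_top _)⟩)
    rw [CfsgLib.Schur.BilExt.commutator_of_commute _ _ (mul_comm _ _)] at hxy
    have hax : a x.fst = Multiplicative.ofAdd 1 := by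
      simp [a, x, ZMod.cast_one (Nat.gcd_dvd_left (d i) (d j))]
    have hby : b y.fst = Multiplicative.ofAdd 1 := by
      simp [b, y, ZMod.cast_one (Nat.gcd_dvd_right (d i) (d j))]
    have hay : a y.fst = 1 := by
      simp [a, y, Pi.mulSingle_eq_of_ne hij]
    have h1 := congrArg CfsgLib.Schur.BilExt.snd hxy
    simp [β, hax, hby, hay, CfsgLib.Schur.BilExt.incl, CfsgLib.Schur.BilExt.one_snd] at h1
    have h2 : ((1 : ℕ) : ZMod c) = 0 := by
      rw [Nat.cast_one]
      exact h1
    rw [ZMod.natCast_eq_zero_iff] at h2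
    exact hg (Nat.dvd_one.mp h2)
  · intro hc
    refine CfsgLib.Schur.hasCyclic_one_of_forall fun Γ _ _ σ hσ => ?_
    obtain ⟨g, hg⟩ := IsCyclic.exists_generator (α := G)
    have h := CfsgLib.Schur.ker_inf_commutator_eq_bot_of_cyclic_by σ hσ.1 hσ.2.1 g g
      inferInstance
      (eq_top_iff.mpr fun x _ => Subgroup.zpowers_le.mpr
        (Subgroup.subset_closure (Set.mem_insert g {g})) (hg x))
      1 (one_dvd _) (by simp)
    exact eq_bot_iff.mpr fun z hz => h.le ⟨hz, hσ.2.2 hz⟩
end Cfsg.Agent.S3950
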