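import Cfsg.Statements.S3951
import Cfsg.Agent.Lib.Schur.Bilinear
import Cfsg.Agent.Lib.Schur.CyclicBy
import Mathlib.Data.ZMod.QuotientGroup
import Mathlib.Algebra.Group.Prod
-- import your own Cfsg.Agent.* helpers here

set_option autoImplicit false
open Cfsg

namespace Cfsg.Agent.S3951

/-- For positive integers `m` and `n` with `n` dividing `m`, the Schur multiplier of the abelian group `ZMod m × ZMod n` (written multiplicatively) is cyclic of order `n`. In particular the elementary abelian group of order `p ^ 2` has multiplier of order `p`. -/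
theorem result (m n : ℕ) [NeZero m] [NeZero n] (hnm : n ∣ m) : Cfsg.HasCyclicSchurMultiplier (Multiplicative (ZMod m × ZMod n)) n := by
  open scoped commutatorElement in
  let c : ZMod m →+* ZMod n := ZMod.castHom hnm (ZMod n)
  let β : Multiplicative (ZMod m × ZMod n) →* Multiplicative (ZMod m × ZMod n) →*
      Multiplicative (ZMod n) :=
    { toFun := fun x =>
        { toFun := fun y => Multiplicative.ofAdd (c x.toAdd.1 * y.toAdd.2)
          map_one' := by simp
          map_mul' := fun y y' => by rw [← ofAdd_add, ← mul_add]; rfl }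
      map_one' := by ext y; simp
      map_mul' := fun x x' => by
        ext y
        simp [add_mul, ofAdd_add] }
  refine ⟨⟨CfsgLib.Schur.BilExt β, inferInstance, inferInstance, CfsgLib.Schur.BilExt.toBase β,
    ⟨CfsgLib.Schur.BilExt.toBase_surjective β, ?_, ?_⟩, ?_⟩, ?_⟩
  · intro x hx
    have : x = CfsgLib.Schur.BilExt.incl β x.snd := CfsgLib.Schur.BilExt.ext hx rfl
    rw [this]
    exact CfsgLib.Schur.BilExt.incl_central β _
  · intro x hx
    have h : ⁅(⟨Multiplicative.ofAdd (1, 0), 1⟩ : CfsgLib.Schur.BilExt β),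
        ⟨Multiplicative.ofAdd (0, x.snd.toAdd), 1⟩⁆ = x := by
      rw [CfsgLib.Schur.BilExt.commutator_of_commute _ _ (mul_comm _ _)]
      refine CfsgLib.Schur.BilExt.ext (Eq.symm hx) ?_
      show Multiplicative.ofAdd (c 1 * x.snd.toAdd) * (Multiplicative.ofAdd (c 0 * (0 : ZMod n)))⁻¹ =
        x.snd
      simp
    rw [← h]
    exact Subgroup.commutator_mem_commutator (Subgroup.mem_top _) (Subgroup.mem_top _)
  · refine ⟨⟨⟨fun x => x.1.snd, fun k => ⟨CfsgLib.Schur.BilExt.incl β k, rfl⟩, fun x => ?_,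
      fun k => rfl⟩, fun x y => ?_⟩⟩
    · exact Subtype.ext (CfsgLib.Schur.BilExt.ext (Eq.symm x.2) rfl)
    · show x.1.snd * y.1.snd * β x.1.fst y.1.fst = x.1.snd * y.1.snd
      have hx : x.1.fst = 1 := x.2
      rw [hx, map_one, MonoidHom.one_apply, mul_one]
  · intro Γ _ _ σ hσ
    obtain ⟨a, ha⟩ := hσ.1 (Multiplicative.ofAdd (1, 0))
    obtain ⟨b, hb⟩ := hσ.1 (Multiplicative.ofAdd (0, 1))
    have hgen : Subgroup.closure ({a, b} : Set Γ) ⊔ Subgroup.center Γ = ⊤ := by
      rw [eq_top_iff]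
      intro g _
      have h : σ (a ^ (σ g).toAdd.1.val * b ^ (σ g).toAdd.2.val) = σ g := by
        rw [map_mul, map_pow, map_pow, ha, hb, ← ofAdd_nsmul, ← ofAdd_nsmul, ← ofAdd_add]
        simp
      have hz : (a ^ (σ g).toAdd.1.val * b ^ (σ g).toAdd.2.val)⁻¹ * g ∈ Subgroup.center Γ :=
        hσ.2.1 (by rw [MonoidHom.mem_ker, map_mul, map_inv, h, inv_mul_cancel])
      have := Subgroup.mul_mem_sup (mul_mem
        (pow_mem (Subgroup.subset_closure (Set.mem_insert a {b})) (σ g).toAdd.1.val)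
        (pow_mem (Subgroup.subset_closure (Set.mem_insert_of_mem a (Set.mem_singleton b)))
          (σ g).toAdd.2.val)) hz
      rwa [mul_inv_cancel_left] at this
    have hck : ⁅a, b⁆ ∈ σ.ker := by
      rw [MonoidHom.mem_ker, map_commutatorElement, commutatorElement_eq_one_iff_mul_comm]
      exact mul_comm _ _
    have hcc := Subgroup.mem_center_iff.mp (hσ.2.1 hck)
    have hcn : (Subgroup.zpowers ⁅a, b⁆).Normal := ⟨fun x hx g => by
      obtain ⟨k, rfl⟩ := hx
      rw [Subgroup.mem_center_iff.mp (zpow_mem (hσ.2.1 hck) k) g, mul_inv_cancel_right]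
      exact ⟨k, rfl⟩⟩
    let q := QuotientGroup.mk' (Subgroup.zpowers ⁅a, b⁆)
    have hbot : commutator (Γ ⧸ Subgroup.zpowers ⁅a, b⁆) = ⊥ := by
      refine CfsgLib.Schur.commutator_eq_bot_of_closure_sup_center (S := {q a, q b}) ?_ ?_
      · rw [eq_top_iff]
        intro y _
        obtain ⟨g, rfl⟩ := QuotientGroup.mk'_surjective (Subgroup.zpowers ⁅a, b⁆) y
        have hg := Subgroup.mem_map_of_mem q (hgen.ge (Subgroup.mem_top g))
        rw [Subgroup.map_sup, MonoidHom.map_closure, Set.image_pair] at hg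
        have hle' : (Subgroup.center Γ).map q ≤ Subgroup.center (Γ ⧸ Subgroup.zpowers ⁅a, b⁆) := by
          rintro _ ⟨z, hz, rfl⟩
          rw [Subgroup.mem_center_iff]
          intro w
          obtain ⟨w, rfl⟩ := QuotientGroup.mk'_surjective (Subgroup.zpowers ⁅a, b⁆) w
          rw [← map_mul, ← map_mul, Subgroup.mem_center_iff.mp hz w]
        exact (sup_le le_sup_left (hle'.trans le_sup_right)) hg
      · have hab : q a * q b = q b * q a := by
          rw [← commutatorElement_eq_one_iff_mul_comm, ← map_commutatorElement]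
          exact (QuotientGroup.eq_one_iff _).mpr (Subgroup.mem_zpowers _)
        rintro x (rfl | rfl) y (rfl | rfl)
        exacts [rfl, hab, hab.symm, rfl]
    have hD : commutator Γ ≤ Subgroup.zpowers ⁅a, b⁆ := fun x hx => by
      have h2 : (commutator Γ).map q = ⊥ := by
        rw [CfsgLib.Schur.map_commutator_eq_of_center q
          (by rw [MonoidHom.range_eq_top.mpr (QuotientGroup.mk'_surjective _), top_sup_eq]), hbot]
      have := h2.le (Subgroup.mem_map_of_mem q hx)
      rwa [Subgroup.mem_bot, QuotientGroup.mk'_apply, QuotientGroup.eq_one_iff] at this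
    have hpow : ∀ k : ℕ, ⁅a, b ^ k⁆ = ⁅a, b⁆ ^ k := by
      intro k
      induction k with
      | zero => simp
      | succ k ih =>
        calc ⁅a, b ^ (k + 1)⁆ = ⁅a, b ^ k⁆ * (b ^ k * ⁅a, b⁆ * (b ^ k)⁻¹) := by
              simp [commutatorElement_def, pow_succ, mul_assoc]
          _ = ⁅a, b⁆ ^ (k + 1) := by rw [hcc (b ^ k), mul_inv_cancel_right, ih, pow_succ]
    have hn : (⟨⁅a, b⁆, hck⟩ : σ.ker) ^ n = 1 := by
      have hbn : b ^ n ∈ σ.ker := by
        rw [MonoidHom.mem_ker, map_pow, hb, ← ofAdd_nsmul]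
        simp
      apply Subtype.ext
      rw [Subgroup.coe_pow, ← hpow n]
      exact commutatorElement_eq_one_iff_mul_comm.mpr
        (Subgroup.mem_center_iff.mp (hσ.2.1 hbn) a)
    refine ⟨AddMonoidHom.toMultiplicativeLeft (ZMod.lift n
      ⟨zmultiplesHom (Additive σ.ker) (Additive.ofMul ⟨⁅a, b⁆, hck⟩), ?_⟩), fun z => ?_⟩
    · rw [zmultiplesHom_apply, natCast_zsmul, ← ofMul_pow, hn]
      rfl
    · obtain ⟨k, hk⟩ := hD (hσ.2.2 z.2)
      refine ⟨Multiplicative.ofAdd (k : ZMod n), ?_⟩
      refine Eq.trans ?_ (Subtype.ext hk : (⟨⁅a, b⁆, hck⟩ : σ.ker) ^ k = z)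
      show Additive.toMul (ZMod.lift n _ ((k : ZMod n))) = _
      rw [ZMod.lift_coe]
      simp [zmultiplesHom_apply, toMul_zsmul]

end Cfsg.Agent.S3951
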