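import Cfsg.Statements.S3952
import Cfsg.Agent.Lib.Schur.Multiplier
import Cfsg.Agent.Lib.Char.Complete
import Cfsg.Agent.Lib.Char.CentralOver
import Mathlib.GroupTheory.FiniteAbelian.Duality
import Mathlib.RingTheory.RootsOfUnity.AlgebraicallyClosed
import Mathlib.Analysis.Complex.Polynomial.Basic
import Mathlib.LinearAlgebra.Determinant
-- import your own Cfsg.Agent.* helpers here

set_option autoImplicit false
open Cfsg

namespace Cfsg.Agent.S3952

/-- If `A` is the Schur multiplier of the finite group `Q`, then the square of the exponent of `A` divides the order of `Q`. -/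
theorem result {Q : Type*} [Group Q] [Finite Q] {A : Type*} [CommGroup A] (hA : Cfsg.HasSchurMultiplier Q A) : Monoid.exponent A ^ 2 ∣ Nat.card Q := by
  classical
  obtain ⟨⟨Γ, _, _, σ, hσ, ⟨eA⟩⟩, -⟩ := hA
  have : Finite A := Finite.of_equiv _ eA.toEquiv
  have := Fintype.ofFinite Γ
  have := Fintype.ofFinite σ.ker
  let instK : CommGroup σ.ker :=
    { (inferInstance : Group σ.ker) with
      mul_comm := fun a b => Subtype.ext (Subgroup.mem_center_iff.mp (hσ.2.1 b.2) a) }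
  have : NeZero (Monoid.exponent σ.ker) := ⟨Monoid.exponent_ne_zero_of_finite⟩
  have hexp : Monoid.exponent A = Monoid.exponent σ.ker :=
    (Monoid.exponent_eq_of_mulEquiv eA).symm
  rw [hexp]
  obtain ⟨ed⟩ := CommGroup.monoidHom_mulEquiv_of_hasEnoughRootsOfUnity σ.ker ℂ
  obtain ⟨z₀, hz₀⟩ := Monoid.exists_orderOf_eq_exponent (Monoid.ExponentExists.of_finite (G := σ.ker))
  let l : σ.ker →* ℂˣ := ed.symm z₀
  have hl : orderOf l = Monoid.exponent σ.ker := by rw [← hz₀, MulEquiv.orderOf_eq]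
  -- the central character of an irreducible character
  have hscal : ∀ χ : Cfsg.IrrCharacter Γ, ∃ (d : ℕ) (c : σ.ker →* ℂ),
      (χ : Γ → ℂ) 1 = d ∧ (∀ z : σ.ker, (χ : Γ → ℂ) z = c z * d) ∧ ∀ z, c z ^ d = 1 := by
    rintro ⟨χ, hχ⟩
    obtain ⟨n, ρ, hρ, rfl⟩ := hχ
    have h0 : ρ.character 1 = (n : ℂ) := by
      rw [Representation.char_one, Module.finrank_fin_fun]
    have hn : (n : ℂ) ≠ 0 := h0 ▸ CfsgLib.Char.IsIrrCharacter.apply_one_ne_zero ⟨n, ρ, hρ, rfl⟩
    have hc : ∀ z : σ.ker, ∃ c : ℂ, ρ z = c • (1 : Module.End ℂ (Fin n → ℂ)) := by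
      intro z
      obtain ⟨c, hc⟩ := CfsgLib.Char.exists_scalar_of_commute ρ (ρ z) fun h => by
        rw [← map_mul, ← map_mul, Subgroup.mem_center_iff.mp (hσ.2.1 z.2) h]
      exact ⟨c, hc⟩
    choose c hc using hc
    have hcz : ∀ z : σ.ker, ρ.character z = c z * n := fun z => by
      simp [Representation.character, hc z]
    let cm : σ.ker →* ℂ :=
      { toFun := c
        map_one' := by
          have := hcz 1
          rw [Subgroup.coe_one, h0] at this
          exact mul_right_cancel₀ hn (by rw [← this, one_mul])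
        map_mul' := fun x y => by
          have h1 := hcz (x * y)
          have h2 : ρ.character ((x * y : σ.ker) : Γ) = c x * c y * n := by
            simp [Representation.character, map_mul, hc x, hc y]
            ring
          exact mul_right_cancel₀ hn (h1.symm.trans h2) }
    refine ⟨n, cm, h0, hcz, fun z => ?_⟩
    let D : Γ →* ℂˣ := (LinearMap.det.comp ρ).toHomUnits
    have h1 : D z = 1 := Abelianization.commutator_subset_ker D (hσ.2.2 z.2)
    have h2 := congrArg Units.val h1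
    rw [MonoidHom.coe_toHomUnits, MonoidHom.comp_apply, hc z, LinearMap.det_smul, map_one,
      Module.finrank_fin_fun, mul_one, Units.val_one] at h2
    exact h2
  choose d c hd hc hcd using hscal
  let S := Finset.univ.filter fun χ : Cfsg.IrrCharacter Γ => ∀ z, c χ z = (l z : ℂ)
  have hdvd : ∀ χ ∈ S, Monoid.exponent σ.ker ∣ d χ := by
    intro χ hχ
    rw [← hl, orderOf_dvd_iff_pow_eq_one]
    refine MonoidHom.ext fun z => Units.ext ?_
    rw [MonoidHom.pow_apply, Units.val_pow_eq_pow_val, ← (Finset.mem_filter.mp hχ).2 z, hcd]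
    rfl
  have hsum : ((∑ χ ∈ S, d χ ^ 2 : ℕ) : ℂ) * (Nat.card σ.ker : ℂ) = (Nat.card Γ : ℂ) := by
    have h1 : ∑ z : σ.ker, ((l z⁻¹ : ℂˣ) : ℂ) *
        ∑ χ : Cfsg.IrrCharacter Γ, (χ : Γ → ℂ) 1 * (χ : Γ → ℂ) z = Nat.card Γ := by
      rw [Finset.sum_eq_single 1]
      · rw [CfsgLib.Char.sum_apply_one_mul, if_pos (by rfl)]
        simp
      · intro z _ hz
        have hz' : (z : Γ) ≠ 1 := fun h => hz (Subtype.ext h)
        rw [CfsgLib.Char.sum_apply_one_mul, if_neg hz', mul_zero]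
      · simp
    rw [← h1]
    simp only [Finset.mul_sum]
    rw [Finset.sum_comm, Nat.cast_sum, Finset.sum_mul]
    rw [← Finset.sum_subset (Finset.subset_univ S)]
    · refine Finset.sum_congr rfl fun χ hχ => ?_
      rw [Finset.sum_congr rfl (fun z _ => show ((l z⁻¹ : ℂˣ) : ℂ) * ((χ : Γ → ℂ) 1 * (χ : Γ → ℂ) z) =
        ((d χ ^ 2 : ℕ) : ℂ) from ?_)]
      · simp [Nat.card_eq_fintype_card, mul_comm]
      · rw [hd, hc, (Finset.mem_filter.mp hχ).2 z, map_inv, Nat.cast_pow]
        calc ((l z)⁻¹ : ℂˣ).val * ((d χ : ℂ) * ((l z : ℂ) * d χ))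
            = (((l z)⁻¹ : ℂˣ).val * (l z : ℂ)) * (d χ : ℂ) ^ 2 := by ring
          _ = (d χ : ℂ) ^ 2 := by simp
    · intro χ _ hχ
      obtain ⟨z₁, hz₁⟩ : ∃ z, c χ z ≠ (l z : ℂ) := by simpa [S] using hχ
      set T := ∑ z : σ.ker, ((l z⁻¹ : ℂˣ) : ℂ) * ((χ : Γ → ℂ) 1 * (χ : Γ → ℂ) z) with hT
      have h2 : ((l z₁⁻¹ : ℂˣ) : ℂ) * c χ z₁ * T = T := by
        rw [hT, Finset.mul_sum]
        refine Fintype.sum_equiv (Equiv.mulLeft z₁) _ _ fun z => ?_
        simp only [Equiv.coe_mulLeft, hd, hc, map_mul, mul_inv_rev, Units.val_mul]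
        ring
      have h3 : ((l z₁⁻¹ : ℂˣ) : ℂ) * c χ z₁ ≠ 1 := by
        intro h
        apply hz₁
        rw [map_inv] at h
        calc c χ z₁ = (l z₁ : ℂ) * (((l z₁)⁻¹ : ℂˣ).val * c χ z₁) := by simp
          _ = (l z₁ : ℂ) := by rw [h, mul_one]
      by_contra hT0
      exact h3 (mul_right_cancel₀ hT0 (by rw [one_mul]; exact h2))
  have hcard : (∑ χ ∈ S, d χ ^ 2) = Nat.card Q := by
    have h1 : (∑ χ ∈ S, d χ ^ 2) * Nat.card σ.ker = Nat.card Γ := by exact_mod_cast hsum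
    rw [Subgroup.card_eq_card_quotient_mul_card_subgroup σ.ker] at h1
    rw [Nat.eq_of_mul_eq_mul_right Nat.card_pos h1]
    exact Nat.card_congr (QuotientGroup.quotientKerEquivOfSurjective σ hσ.1).toEquiv
  rw [← hcard]
  exact Finset.dvd_sum fun χ hχ => pow_dvd_pow_of_dvd (hdvd χ hχ) 2
end Cfsg.Agent.S3952
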