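import Cfsg.Statements.S3953
import Cfsg.Agent.Lib.Schur.Transfer
-- import your own Cfsg.Agent.* helpers here

set_option autoImplicit false
open Cfsg

namespace Cfsg.Agent.S3953

/-- Let `P` be a Sylow `p`-subgroup of the finite group `G`, let `A` be the Schur multiplier of `G` and `B` that of `P`. Then the `p`-primary component of `A` is isomorphic to a direct factor of `B`: there are subgroups `C` and `D` of `B` meeting trivially and generating `B`, with `C` isomorphic to the `p`-primary component of `A`. -/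
theorem result {G : Type*} [Group G] [Finite G] (p : ℕ) [Fact p.Prime] (P : Sylow p G) {A B : Type*} [CommGroup A] [CommGroup B] (hA : Cfsg.HasSchurMultiplier G A) (hB : Cfsg.HasSchurMultiplier P B) : ∃ C D : Subgroup B, C ⊓ D = ⊥ ∧ C ⊔ D = ⊤ ∧ Nonempty (CommGroup.primaryComponent A p ≃* C) := by
  classical
  obtain ⟨eA⟩ := CfsgLib.Schur.hasSchurMultiplier_iff.mp hA
  obtain ⟨eB⟩ := CfsgLib.Schur.hasSchurMultiplier_iff.mp hB
  obtain ⟨eU⟩ := CfsgLib.Schur.mult_subPres_equiv (P : Subgroup G)
  obtain ⟨t, ht⟩ := CfsgLib.Schur.exists_multNorm (P : Subgroup G)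
  have hfA : Finite A := Finite.of_equiv _ eA.symm.toEquiv
  let e : B ≃* CfsgLib.Schur.mult (CfsgLib.Schur.subPres (P : Subgroup G)) := eB.trans eU.symm
  let s : B →* A := eA.symm.toMonoidHom.comp
    ((CfsgLib.Schur.multIncl (P : Subgroup G)).comp e.toMonoidHom)
  let r : A →* B := e.symm.toMonoidHom.comp (t.comp eA.toMonoidHom)
  have hsr : ∀ a, s (r a) = a ^ (P : Subgroup G).index := fun a => by
    simp [s, r, ht]
  let k := (Nat.card A) / p ^ (Nat.card A).factorization p
  have hpk : Nat.Coprime (p ^ (Nat.card A).factorization p) k :=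
    (Nat.coprime_ordCompl Fact.out Nat.card_pos.ne').pow_left _
  let T := CommGroup.primaryComponent A p
  have hT : ∀ a : A, a ∈ T ↔ a ^ (p ^ (Nat.card A).factorization p) = 1 := by
    intro a
    constructor
    · intro ha
      obtain ⟨n, hn⟩ := CommGroup.mem_primaryComponent.mp ha
      obtain ⟨m, -, hm⟩ := (Nat.dvd_prime_pow Fact.out).mp (orderOf_dvd_of_pow_eq_one hn)
      rw [← orderOf_dvd_iff_pow_eq_one, hm]
      refine Nat.pow_dvd_pow p ((Nat.Prime.pow_dvd_iff_le_factorization Fact.out
        Nat.card_pos.ne').mp ?_)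
      rw [← hm]
      exact orderOf_dvd_natCard a
    · exact fun ha => CommGroup.mem_primaryComponent.mpr ⟨_, ha⟩
  let f : B →* A := (powMonoidHom k).comp s
  have hfT : ∀ b, f b ∈ T := fun b => (hT _).mpr (by
    show (s b ^ k) ^ _ = 1
    rw [← pow_mul, mul_comm]
    show s b ^ (p ^ (Nat.card A).factorization p *
      (Nat.card A / p ^ (Nat.card A).factorization p)) = 1
    rw [Nat.ordProj_mul_ordCompl_eq_self]
    exact pow_card_eq_one')
  let g : T →* T := (f.comp (r.comp T.subtype)).codRestrict _ fun a => hfT _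
  have hg : Function.Bijective g := by
    have : Finite T := inferInstance
    refine Finite.injective_iff_bijective.mp ((injective_iff_map_eq_one g).mpr fun a ha => ?_)
    have h1 : (a : A) ^ ((P : Subgroup G).index * k) = 1 := by
      have := congrArg Subtype.val ha
      rw [pow_mul, ← hsr]
      exact this
    have h2 : (a : A) ^ (p ^ (Nat.card A).factorization p) = 1 := (hT _).mp a.2
    have hcop : Nat.Coprime ((P : Subgroup G).index * k) (p ^ (Nat.card A).factorization p) :=
      Nat.Coprime.mul_left (((Nat.Prime.coprime_iff_not_dvd Fact.out).mpr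
        P.not_dvd_index).symm.pow_right _) hpk.symm
    apply Subtype.ext
    have h3 := (pow_gcd_eq_one (m := (P : Subgroup G).index * k)).mpr ⟨h1, h2⟩
    rw [Nat.Coprime.gcd_eq_one hcop, pow_one] at h3
    exact h3
  let f' : B →* T := f.codRestrict _ hfT
  refine ⟨(r.comp T.subtype).range, f'.ker, ?_, ?_, ⟨MonoidHom.ofInjective
    (f := r.comp T.subtype) fun a b hab => hg.1 (Subtype.ext (congrArg f hab))⟩⟩
  · rw [eq_bot_iff]
    rintro _ ⟨⟨a, rfl⟩, hb⟩
    have : g a = 1 := hb
    rw [← map_one g] at this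
    rw [hg.1 this, map_one]
    exact one_mem _
  · rw [eq_top_iff]
    intro b _
    obtain ⟨a, ha⟩ := hg.2 (f' b)
    have h1 : (r (a : A))⁻¹ * b ∈ f'.ker := by
      rw [MonoidHom.mem_ker, map_mul, map_inv, ← ha]
      exact inv_mul_cancel (g a)
    have h2 : r (a : A) ∈ (r.comp T.subtype).range := ⟨a, rfl⟩
    simpa using Subgroup.mul_mem_sup h2 h1
end Cfsg.Agent.S3953
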