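import Cfsg.Statements.S3954
import Cfsg.Agent.Lib.Schur.Transfer
-- import your own Cfsg.Agent.* helpers here

set_option autoImplicit false
open Cfsg

namespace Cfsg.Agent.S3954

/-- Let `U` be a subgroup of index `m` in the finite group `G`, let `A` be the Schur multiplier of `G` and `B` that of `U`. Then the subgroup of `m`-th powers of `A` is isomorphic to a subgroup of `B`. -/
theorem result {G : Type*} [Group G] [Finite G] (U : Subgroup G) {A B : Type*} [CommGroup A] [CommGroup B] (hA : Cfsg.HasSchurMultiplier G A) (hB : Cfsg.HasSchurMultiplier U B) : ∃ C : Subgroup B, Nonempty ((powMonoidHom U.index : A →* A).range ≃* C) := by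
  obtain ⟨eA⟩ := CfsgLib.Schur.hasSchurMultiplier_iff.mp hA
  obtain ⟨eB⟩ := CfsgLib.Schur.hasSchurMultiplier_iff.mp hB
  obtain ⟨eU⟩ := CfsgLib.Schur.mult_subPres_equiv U
  let f : B →* A := eA.symm.toMonoidHom.comp
    ((CfsgLib.Schur.multIncl U).comp (eU.symm.toMonoidHom.comp eB.toMonoidHom))
  have hle : (powMonoidHom U.index : A →* A).range ≤ f.range := by
    rintro _ ⟨a, rfl⟩
    obtain ⟨w, hw⟩ := CfsgLib.Schur.exists_mult_pow U (eA a)
    refine ⟨eB.symm (eU w), ?_⟩
    simp [f, hw]
  have : Finite B := Finite.of_equiv _ eB.symm.toEquiv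
  obtain ⟨D, ⟨e⟩⟩ := CfsgLib.Schur.exists_subgroup_of_surjective f.rangeRestrict
    f.rangeRestrict_surjective ((powMonoidHom U.index : A →* A).range.subgroupOf f.range)
  exact ⟨D, ⟨(Subgroup.subgroupOfEquivOfLe hle).symm.trans e⟩⟩
end Cfsg.Agent.S3954
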