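import Cfsg.Statements.S3956
import Cfsg.Agent.Lib.Schur.Projective
-- import your own Cfsg.Agent.* helpers here

set_option autoImplicit false
universe u v
open Cfsg

namespace Cfsg.Agent.S3956

/-- Let `σ : Γ →* Q` be a finite stem extension of the finite group `Q` such that every homomorphism from `Q` to the quotient of `GL n ℂ` by its centre, for every `n`, lifts along `σ` to a homomorphism `Γ →* GL n ℂ`. Then `σ` is a Schur covering group of `Q`: for every finite stem extension `τ : Δ →* Q` with `Δ` in the same universe as `Q`, the kernel of `τ` is a homomorphic image of the kernel of `σ`. -/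
theorem result {Q : Type u} [Group Q] [Finite Q] {Γ : Type v} [Group Γ] [Finite Γ] (σ : Γ →* Q) (hσ : Cfsg.IsStemExtension σ) (hlift : ∀ (n : ℕ) (γ : Q →* (GL (Fin n) ℂ ⧸ Subgroup.center (GL (Fin n) ℂ))), ∃ ρ : Γ →* GL (Fin n) ℂ, (QuotientGroup.mk' (Subgroup.center (GL (Fin n) ℂ))).comp ρ = γ.comp σ) (Δ : Type u) [Group Δ] [Finite Δ] (τ : Δ →* Q) (hτ : Cfsg.IsStemExtension τ) : ∃ π : σ.ker →* τ.ker, Function.Surjective π := by
  refine CfsgLib.Schur.exists_surjection_of_fibre σ hσ τ hτ fun p hp hp1 => ?_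
  by_contra hne
  have hb : p.1.2 ∈ τ.ker := by
    rw [MonoidHom.mem_ker, ← CfsgLib.Schur.mem_fibre.mp p.2, hp1, map_one]
  let _instK : CommGroup τ.ker :=
    { (inferInstance : Group τ.ker) with
      mul_comm := fun a b => Subtype.ext (Subgroup.mem_center_iff.mp (hτ.2.1 b.2) a) }
  have : NeZero (Monoid.exponent τ.ker) := ⟨Monoid.exponent_ne_zero_of_finite⟩
  obtain ⟨χ, hχ⟩ := CommGroup.exists_apply_ne_one_of_hasEnoughRootsOfUnity τ.ker ℂ
    (a := ⟨p.1.2, hb⟩) (fun h => hne (congrArg Subtype.val h))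
  obtain ⟨n, ρ, hρc, hρ1⟩ := CfsgLib.Schur.exists_rep_of_central_char τ.ker hτ.2.1 χ
  let mk := QuotientGroup.mk' (Subgroup.center (GL (Fin n) ℂ))
  have hle : τ.ker ≤ (mk.comp ρ).ker := fun k hk => by
    rw [MonoidHom.mem_ker, MonoidHom.comp_apply]
    exact (QuotientGroup.eq_one_iff _).mpr (hρc ⟨k, hk⟩)
  let γ := τ.liftOfSurjective hτ.1 ⟨mk.comp ρ, hle⟩
  have hγ : ∀ d, γ (τ d) = mk (ρ d) := fun d =>
    MonoidHom.liftOfRightInverse_comp_apply τ (Function.surjInv hτ.1)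
      (Function.rightInverse_surjInv hτ.1) ⟨mk.comp ρ, hle⟩ d
  obtain ⟨ρσ, hρσ⟩ := hlift n γ
  have hagree := CfsgLib.Schur.eqOn_commutator_of_div_mem_center
    (f := ρ.comp (CfsgLib.Schur.fibreSnd σ τ)) (g := ρσ.comp (CfsgLib.Schur.fibreFst σ τ))
    (fun q => by
      rw [← QuotientGroup.eq_one_iff]
      show mk (ρ q.1.2 * (ρσ q.1.1)⁻¹) = 1
      have h1 : mk (ρσ q.1.1) = γ (σ q.1.1) := DFunLike.congr_fun hρσ q.1.1
      rw [map_mul, map_inv, h1, CfsgLib.Schur.mem_fibre.mp q.2, hγ, mul_inv_cancel]) p hp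
  refine hχ (hρ1 ⟨p.1.2, hb⟩ ?_)
  show ρ p.1.2 = 1
  refine hagree.trans ?_
  show ρσ p.1.1 = 1
  rw [hp1, map_one]
end Cfsg.Agent.S3956
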