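import Cfsg.Statements.S3957
import Cfsg.Agent.Lib.Schur.Multiplier
-- import your own Cfsg.Agent.* helpers here

set_option autoImplicit false
universe u v
open Cfsg

namespace Cfsg.Agent.S3957

/-- Let `Q` be a finite group with Schur multiplier `A` and let `τ : Δ →* Q` be a finite stem extension, `Δ` in the universe of `Q`. Then there is a finite stem extension `σ : Γ →* Q` with kernel isomorphic to `A` (a Schur covering group) and a surjective homomorphism `β : Γ →* Δ` with `τ ∘ β = σ`. -/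
theorem result {Q : Type u} [Group Q] [Finite Q] {A : Type v} [CommGroup A] (hA : Cfsg.HasSchurMultiplier Q A) {Δ : Type u} [Group Δ] [Finite Δ] (τ : Δ →* Q) (hτ : Cfsg.IsStemExtension τ) : ∃ (Γ : Type u) (_ : Group Γ) (_ : Finite Γ) (σ : Γ →* Q), Cfsg.IsStemExtension σ ∧ Nonempty (σ.ker ≃* A) ∧ ∃ β : Γ →* Δ, Function.Surjective β ∧ τ.comp β = σ := by
  obtain ⟨e⟩ := CfsgLib.Schur.hasSchurMultiplier_iff.mp hA
  obtain ⟨h, hh⟩ := CfsgLib.Schur.exists_lift (CfsgLib.Schur.pres Q) τ hτ.1 hτ.2.1 (MonoidHom.id Q)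
  have hh' : τ.comp h = CfsgLib.Schur.proj (CfsgLib.Schur.pres Q) := by simpa using hh
  set K := (CfsgLib.Schur.proj (CfsgLib.Schur.pres Q)).ker with hK
  have hmap : (CfsgLib.Schur.mult (CfsgLib.Schur.pres Q)).map h = τ.ker := by
    rw [CfsgLib.Schur.map_mult (CfsgLib.Schur.pres Q) (CfsgLib.Schur.pres_surjective Q) τ hτ.2.1
      h hh', inf_eq_left.mpr hτ.2.2]
  have hle : h.ker ≤ K := fun x hx => by
    rw [hK, MonoidHom.mem_ker, ← hh', MonoidHom.comp_apply, MonoidHom.mem_ker.mp hx, map_one]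
  have hsup : h.ker ⊔ CfsgLib.Schur.mult (CfsgLib.Schur.pres Q) = K := by
    refine le_antisymm (sup_le hle inf_le_left) fun x hx => ?_
    have h1 : h x ∈ τ.ker := by
      rw [MonoidHom.mem_ker, ← MonoidHom.comp_apply, hh']; exact hx
    rw [← hmap] at h1
    have h2 := Subgroup.mem_comap.mpr h1
    rwa [Subgroup.comap_map_eq, sup_comm] at h2
  obtain ⟨L, hLh, hsupL, hinf⟩ := CfsgLib.Schur.exists_complement_le Q h.ker hle hsup
  have hLn : L.Normal := ⟨fun n hn g => by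
    rwa [Subgroup.mem_center_iff.mp (CfsgLib.Schur.ker_proj_le_center _ (hle (hLh hn))) g,
      mul_inv_cancel_right]⟩
  obtain ⟨h1, h2, ⟨e'⟩⟩ := CfsgLib.Schur.cover_of_complement Q L (hLh.trans hle) hsupL hinf
  refine ⟨_, inferInstance, h1, _, h2, ⟨e'.trans e.symm⟩,
    QuotientGroup.lift L h hLh, fun d => ?_, QuotientGroup.monoidHom_ext _ hh'⟩
  obtain ⟨w, hw⟩ := CfsgLib.Schur.proj_surjective _ (CfsgLib.Schur.pres_surjective Q) (τ d)
  have h3 : (h w)⁻¹ * d ∈ τ.ker := by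
    rw [MonoidHom.mem_ker, map_mul, map_inv, ← MonoidHom.comp_apply τ h, hh', hw, inv_mul_cancel]
  rw [← hmap] at h3
  obtain ⟨m, -, hm⟩ := h3
  refine ⟨QuotientGroup.mk (w * m), ?_⟩
  show h (w * m) = d
  rw [map_mul, hm, mul_inv_cancel_left]
end Cfsg.Agent.S3957
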