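import Cfsg.Statements.S3960
import Cfsg.Agent.Lib.Schur.Perfect
-- import your own Cfsg.Agent.* helpers here

set_option autoImplicit false
universe u
open Cfsg

namespace Cfsg.Agent.S3960

/-- A finite perfect group `Q` has a universal central extension: a finite perfect group `G` in the universe of `Q` and a surjective homomorphism `π : G →* Q` with central kernel such that for every group `X` in that universe and every surjective homomorphism `ξ : X →* Q` with central kernel there is exactly one homomorphism `η : G →* X` with `ξ ∘ η = π`. -/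
theorem result {Q : Type u} [Group Q] [Finite Q] (hQ : Group.IsPerfect Q) : ∃ (G : Type u) (_ : Group G) (_ : Finite G) (π : G →* Q), Group.IsPerfect G ∧ Function.Surjective π ∧ π.ker ≤ Subgroup.center G ∧ ∀ (X : Type u) [Group X] (ξ : X →* Q), Function.Surjective ξ → ξ.ker ≤ Subgroup.center X → ∃! η : G →* X, ξ.comp η = π := by
  open CfsgLib.Schur in
  refine ⟨commutator (Cov (pres Q)), inferInstance, finite_covCommutator Q,
    (proj (pres Q)).comp (commutator (Cov (pres Q))).subtype, isPerfect_covCommutator Q hQ,
    covCommutator_surjective Q hQ, fun x hx => ?_, fun X _ ξ hξs hξ => ?_⟩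
  · rw [Subgroup.mem_center_iff]
    intro g
    exact Subtype.ext (Subgroup.mem_center_iff.mp
      (CfsgLib.Schur.ker_proj_le_center _ (show (x : _) ∈ _ from hx)) g.1)
  · obtain ⟨h, hh⟩ := CfsgLib.Schur.exists_lift (CfsgLib.Schur.pres Q) ξ hξs hξ (MonoidHom.id Q)
    refine ⟨h.comp (Subgroup.subtype _), MonoidHom.ext fun x => DFunLike.congr_fun hh x.1,
      fun η hη => ?_⟩
    refine CfsgLib.Schur.eq_of_div_mem_center (CfsgLib.Schur.isPerfect_covCommutator Q hQ)
      fun x => hξ ?_
    have h1 := DFunLike.congr_fun hη x
    have h2 := DFunLike.congr_fun hh x.1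
    simp only [MonoidHom.coe_comp, Function.comp_apply, Subgroup.coe_subtype,
      MonoidHom.id_apply] at h1 h2
    rw [MonoidHom.mem_ker, map_mul, map_inv, h1, MonoidHom.coe_comp, Function.comp_apply,
      Subgroup.coe_subtype, h2, mul_inv_cancel]
end Cfsg.Agent.S3960
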