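import Cfsg.Statements.S3961
import Cfsg.Agent.Lib.Schur.Perfect
-- import your own Cfsg.Agent.* helpers here

set_option autoImplicit false
universe u v
open Cfsg

namespace Cfsg.Agent.S3961

/-- Let `π : G →* Q` be a surjective homomorphism with central kernel from a finite perfect group `G` (a perfect cover of `Q`). Then `π` is universal, in the sense that every surjective homomorphism `ξ : X →* Q` with central kernel from a group `X` in the universe of `G` admits a homomorphism `η : G →* X` with `ξ ∘ η = π`, if and only if `G` has trivial Schur multiplier. -/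
theorem result {G : Type u} {Q : Type v} [Group G] [Group Q] [Finite G] (hG : Group.IsPerfect G) (π : G →* Q) (hπ : Function.Surjective π) (hker : π.ker ≤ Subgroup.center G) : (∀ (X : Type u) [Group X] (ξ : X →* Q), Function.Surjective ξ → ξ.ker ≤ Subgroup.center X → ∃ η : G →* X, ξ.comp η = π) ↔ Cfsg.HasCyclicSchurMultiplier G 1 := by
  constructor
  · intro huniv
    refine CfsgLib.Schur.hasCyclic_one_of_forall fun Δ _ _ τ hτ => ?_
    have hsup : commutator Δ ⊔ Subgroup.center Δ = ⊤ :=
      CfsgLib.Schur.commutator_sup_center_eq_top hG τ hτ.1 hτ.2.1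
    have htop : commutator Δ = ⊤ := by
      rw [eq_top_iff]
      intro d _
      have hd : τ d ∈ (commutator Δ).map τ := by
        rw [CfsgLib.Schur.map_commutator_eq_of_center τ
          (by rw [MonoidHom.range_eq_top.mpr hτ.1, top_sup_eq]), hG.commutator_eq_top]
        trivial
      obtain ⟨c, hc, hcd⟩ := hd
      have : c⁻¹ * d ∈ commutator Δ := hτ.2.2 (by simp [MonoidHom.mem_ker, hcd])
      simpa using mul_mem hc this
    have hΔ : Group.IsPerfect Δ := ⟨htop⟩
    have hcen : (π.comp τ).ker ≤ Subgroup.center Δ := by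
      intro k hk
      have hk' : τ k ∈ Subgroup.center G := hker hk
      rw [Subgroup.mem_center_iff]
      intro d
      have h := CfsgLib.Schur.eqOn_commutator_of_div_mem_center
        (f := (MulAut.conj k).toMonoidHom) (g := MonoidHom.id Δ)
        (fun z => hτ.2.1 (by
          simp [MonoidHom.mem_ker, (Subgroup.mem_center_iff.mp hk' (τ z)).symm]))
        d (htop ▸ Subgroup.mem_top d)
      simp only [MulEquiv.coe_toMonoidHom, MulAut.conj_apply, MonoidHom.id_apply] at h
      calc d * k = k * d * k⁻¹ * k := by rw [h]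
        _ = k * d := inv_mul_cancel_right _ _
    obtain ⟨η, hη⟩ := huniv Δ (π.comp τ) (hπ.comp hτ.1) hcen
    have hid : τ.comp η = MonoidHom.id G := by
      refine CfsgLib.Schur.eq_of_div_mem_center hG fun x => hker ?_
      have h1 : π (τ (η x)) = π x := DFunLike.congr_fun hη x
      simp [MonoidHom.mem_ker, h1]
    have hη' : η.range ⊔ Subgroup.center Δ = ⊤ := by
      rw [eq_top_iff]
      intro d _
      have h1 : τ (η (τ d)) = τ d := DFunLike.congr_fun hid (τ d)
      have h2 : (η (τ d))⁻¹ * d ∈ Subgroup.center Δ := hτ.2.1 (by simp [MonoidHom.mem_ker, h1])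
      have hr : η (τ d) ∈ η.range := ⟨τ d, rfl⟩
      have h3 := Subgroup.mul_mem_sup hr h2
      simpa using h3
    have hη'' : Function.Surjective η := fun d => by
      have hd : d ∈ (commutator G).map η := by
        rw [CfsgLib.Schur.map_commutator_eq_of_center η hη', htop]; trivial
      obtain ⟨g, -, hg⟩ := hd
      exact ⟨g, hg⟩
    rw [eq_bot_iff]
    intro d hd
    obtain ⟨g, rfl⟩ := hη'' d
    have : g = 1 := by
      have := DFunLike.congr_fun hid g
      simp only [MonoidHom.coe_comp, Function.comp_apply, MonoidHom.id_apply] at this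
      rw [← this, MonoidHom.mem_ker.mp hd]
    simp [this]
  · intro hM X _ ξ hξs hξ
    have := CfsgLib.Schur.hasCyclic_one_iff.mp hM
    let P := CfsgLib.Schur.fibre π ξ
    obtain ⟨h, hh⟩ := CfsgLib.Schur.exists_lift (CfsgLib.Schur.pres G)
      (CfsgLib.Schur.fibreFst π ξ) (CfsgLib.Schur.fibreFst_surjective π hξs)
      (CfsgLib.Schur.ker_fibreFst_le_center π hξ) (MonoidHom.id G)
    let p := (CfsgLib.Schur.proj (CfsgLib.Schur.pres G)).comp
      (commutator (CfsgLib.Schur.Cov (CfsgLib.Schur.pres G))).subtype
    have hp : Function.Bijective p := by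
      refine ⟨(injective_iff_map_eq_one p).mpr fun x hx => ?_,
        CfsgLib.Schur.covCommutator_surjective G hG⟩
      have : (⟨x.1, hx, x.2⟩ : CfsgLib.Schur.M G) = 1 := Subsingleton.elim _ _
      exact Subtype.ext (congrArg (fun y : CfsgLib.Schur.M G => y.1) this)
    let e := MulEquiv.ofBijective p hp
    refine ⟨(CfsgLib.Schur.fibreSnd π ξ).comp
      ((h.comp (Subgroup.subtype _)).comp e.symm.toMonoidHom), MonoidHom.ext fun g => ?_⟩
    have h1 := DFunLike.congr_fun hh (e.symm g).1
    have h2 : p (e.symm g) = g := e.apply_symm_apply g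
    have h3 := (h (e.symm g).1).2
    simp only [MonoidHom.coe_comp, Function.comp_apply, MonoidHom.id_apply] at h1
    show ξ (h (e.symm g).1).1.2 = π g
    rw [← CfsgLib.Schur.mem_fibre.mp h3]
    exact congrArg π (h1.trans h2)
end Cfsg.Agent.S3961
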