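import Cfsg.Statements.S3962
import Cfsg.Agent.Lib.Schur.Multiplier
-- import your own Cfsg.Agent.* helpers here

set_option autoImplicit false
open Cfsg

namespace Cfsg.Agent.S3962

/-- Let `G` be a perfect group and `π : G →* Q` a surjective homomorphism whose kernel is central. Then `π` maps the centre of `G` onto the centre of `Q`. Taking `π` to be the map to `G ⧸ Z(G)` shows that the central quotient of a perfect group has trivial centre. -/
theorem result {G Q : Type*} [Group G] [Group Q] (hG : Group.IsPerfect G) (π : G →* Q) (hπ : Function.Surjective π) (hker : π.ker ≤ Subgroup.center G) : (Subgroup.center G).map π = Subgroup.center Q := by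
  refine le_antisymm ?_ fun y hy => ?_
  · rintro _ ⟨x, hx, rfl⟩
    rw [Subgroup.mem_center_iff]
    intro q
    obtain ⟨g, rfl⟩ := hπ q
    rw [← map_mul, ← map_mul, Subgroup.mem_center_iff.mp hx g]
  · obtain ⟨x, rfl⟩ := hπ y
    refine ⟨x, Subgroup.mem_center_iff.mpr fun g => ?_, rfl⟩
    have h := CfsgLib.Schur.eqOn_commutator_of_div_mem_center
      (f := (MulAut.conj x).toMonoidHom) (g := MonoidHom.id G)
      (fun z => hker (by
        have := Subgroup.mem_center_iff.mp hy (π z)
        simp [MonoidHom.mem_ker, this, mul_assoc]
        rw [← mul_assoc, ← this]; simp [mul_assoc]))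
      g (hG.commutator_eq_top ▸ Subgroup.mem_top g)
    simp only [MulEquiv.coe_toMonoidHom, MulAut.conj_apply, MonoidHom.id_apply] at h
    calc g * x = x * g * x⁻¹ * x := by rw [h]
      _ = x * g := inv_mul_cancel_right _ _
end Cfsg.Agent.S3962
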