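import Cfsg.Statements.S3963
import Cfsg.Agent.Lib.Schur.CyclicBy
import Mathlib.Tactic.LinearCombination
import Mathlib.Tactic.Ring
-- import your own Cfsg.Agent.* helpers here

set_option autoImplicit false
open Cfsg

namespace Cfsg.Agent.S3963

/-- For every `n ≥ 1` the dicyclic (generalized quaternion) group of order `4 n` has trivial Schur multiplier. -/
theorem result (n : ℕ) [NeZero n] : Cfsg.HasCyclicSchurMultiplier (QuaternionGroup n) 1 := by
  refine CfsgLib.Schur.hasCyclic_one_of_forall fun Γ _ _ σ hσ => ?_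
  have h := CfsgLib.Schur.ker_inf_commutator_eq_bot_of_cyclic_by σ hσ.1 hσ.2.1
    (QuaternionGroup.a 1) (QuaternionGroup.xa 0) ?_ ?_ n ?_ ?_
  · exact (inf_eq_left.mpr hσ.2.2).symm.trans h
  · refine ⟨fun x hx g => ?_⟩
    obtain ⟨k, rfl⟩ := hx
    have hmem : ∀ j : ZMod (2 * n),
        QuaternionGroup.a j ∈ Subgroup.zpowers (QuaternionGroup.a (1 : ZMod (2 * n))) := fun j =>
      ⟨(j.val : ℤ), by
        simp only [zpow_natCast, QuaternionGroup.a_one_pow, ZMod.natCast_zmod_val]⟩
    suffices h : g * QuaternionGroup.a 1 * g⁻¹ ∈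
        Subgroup.zpowers (QuaternionGroup.a (1 : ZMod (2 * n))) by
      simpa [conj_zpow] using zpow_mem h k
    cases g with
    | a i => exact hmem _
    | xa i =>
      show QuaternionGroup.xa i * QuaternionGroup.a 1 * QuaternionGroup.xa ((n : ZMod (2 * n)) + i) ∈ _
      rw [QuaternionGroup.xa_mul_a, QuaternionGroup.xa_mul_xa]
      exact hmem _
  · refine eq_top_iff.mpr fun g _ => ?_
    have hA : ∀ j : ZMod (2 * n), QuaternionGroup.a j ∈ Subgroup.closure
        ({QuaternionGroup.a 1, QuaternionGroup.xa 0} : Set (QuaternionGroup n)) := fun j => by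
      have := pow_mem (Subgroup.subset_closure (Set.mem_insert (QuaternionGroup.a
        (1 : ZMod (2 * n))) {QuaternionGroup.xa 0})) j.val
      simpa [QuaternionGroup.a_one_pow] using this
    cases g with
    | a i => exact hA i
    | xa i =>
      have := mul_mem (Subgroup.subset_closure (Set.mem_insert_of_mem
        (QuaternionGroup.a (1 : ZMod (2 * n))) (Set.mem_singleton (QuaternionGroup.xa 0)))) (hA i)
      simpa using this
  · have h2 : 2 ∣ 2 * n := dvd_mul_right 2 n
    show n ∣ orderOf (QuaternionGroup.xa 0 * QuaternionGroup.a 1 *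
      QuaternionGroup.xa ((n : ZMod (2 * n)) + 0) * QuaternionGroup.a (-1))
    rw [QuaternionGroup.xa_mul_a, QuaternionGroup.xa_mul_xa, QuaternionGroup.a_mul_a]
    have hn0 : (n : ZMod (2 * n)) + ((n : ZMod (2 * n)) + 0) - (0 + 1) + -1 = -(2 : ℕ) := by
      have : ((2 * n : ℕ) : ZMod (2 * n)) = 0 := ZMod.natCast_self _
      push_cast at this ⊢
      linear_combination this
    rw [hn0, show QuaternionGroup.a (-((2 : ℕ) : ZMod (2 * n))) =
      (QuaternionGroup.a ((2 : ℕ) : ZMod (2 * n)))⁻¹ from rfl, orderOf_inv,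
      ← QuaternionGroup.a_one_pow, orderOf_pow, QuaternionGroup.orderOf_a_one,
      Nat.gcd_eq_right h2, Nat.mul_div_cancel_left n two_pos]
  · exact ⟨((2 : ℕ) : ℤ), by simp [QuaternionGroup.a_one_pow, sq]⟩
end Cfsg.Agent.S3963
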