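import Cfsg.Statements.S3964
import Cfsg.Agent.Lib.Schur.CyclicBy
-- import your own Cfsg.Agent.* helpers here

set_option autoImplicit false
open Cfsg

namespace Cfsg.Agent.S3964

/-- For odd `n` the dihedral group of order `2 n` has trivial Schur multiplier. -/
theorem result (n : ℕ) (hn : Odd n) : Cfsg.HasCyclicSchurMultiplier (DihedralGroup n) 1 := by
  obtain ⟨k, hk⟩ := hn
  have hn0 : NeZero n := ⟨by omega⟩
  refine CfsgLib.Schur.hasCyclic_one_of_forall fun Γ _ _ σ hσ => ?_
  have h := CfsgLib.Schur.ker_inf_commutator_eq_bot_of_cyclic_by σ hσ.1 hσ.2.1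
    (DihedralGroup.r 1) (DihedralGroup.sr 0) ?_ ?_ n ?_ ?_
  · exact (inf_eq_left.mpr hσ.2.2).symm.trans h
  · refine ⟨fun x hx g => ?_⟩
    obtain ⟨k, rfl⟩ := hx
    have hmem : ∀ j : ZMod n,
        DihedralGroup.r j ∈ Subgroup.zpowers (DihedralGroup.r (1 : ZMod n)) := fun j =>
      ⟨(j.val : ℤ), by simp⟩
    suffices h : g * DihedralGroup.r 1 * g⁻¹ ∈
        Subgroup.zpowers (DihedralGroup.r (1 : ZMod n)) by
      simpa [conj_zpow] using zpow_mem h k
    cases g with
    | r i => simp [hmem]
    | sr i => simp [hmem]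
  · refine eq_top_iff.mpr fun g _ => ?_
    have hA : ∀ j : ZMod n, DihedralGroup.r j ∈ Subgroup.closure
        ({DihedralGroup.r 1, DihedralGroup.sr 0} : Set (DihedralGroup n)) := fun j => by
      have := pow_mem (Subgroup.subset_closure (Set.mem_insert (DihedralGroup.r
        (1 : ZMod n)) {DihedralGroup.sr 0})) j.val
      simpa using this
    cases g with
    | r i => exact hA i
    | sr i =>
      have := mul_mem (Subgroup.subset_closure (Set.mem_insert_of_mem
        (DihedralGroup.r (1 : ZMod n)) (Set.mem_singleton (DihedralGroup.sr 0)))) (hA i)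
      simpa using this
  · have hcop : Nat.gcd n 2 = 1 := by
      subst hk
      simp
    show n ∣ orderOf (DihedralGroup.sr 0 * DihedralGroup.r 1 * DihedralGroup.sr 0 *
      DihedralGroup.r (-1))
    rw [DihedralGroup.sr_mul_r, DihedralGroup.sr_mul_sr, DihedralGroup.r_mul_r,
      show (0 : ZMod n) - (0 + 1) + -1 = -((2 : ℕ) : ZMod n) by push_cast; ring,
      show DihedralGroup.r (-((2 : ℕ) : ZMod n)) = (DihedralGroup.r ((2 : ℕ) : ZMod n))⁻¹ from rfl,
      orderOf_inv, ← DihedralGroup.r_one_pow, orderOf_pow, DihedralGroup.orderOf_r_one,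
      hcop, Nat.div_one]
  · rw [DihedralGroup.r_one_pow, ZMod.natCast_self, DihedralGroup.r_zero]
    exact one_mem _
end Cfsg.Agent.S3964
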