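import Cfsg.Statements.S3966
import Mathlib

set_option autoImplicit false
open Cfsg
open scoped commutatorElement

namespace Cfsg.Agent.S3966

noncomputable def quatToDihedral (n : ℕ) : QuaternionGroup n →* DihedralGroup n :=
  let c := ZMod.castHom (Dvd.intro_left 2 rfl : n ∣ 2 * n) (ZMod n)
  MonoidHom.mk' (fun
    | .a i => .r (c i)
    | .xa i => .sr (c i))
    (by
      rintro (i | i) (j | j) <;>
        simp [c, map_add, map_sub, map_natCast, QuaternionGroup.a_mul_a,
          QuaternionGroup.a_mul_xa, QuaternionGroup.xa_mul_a, QuaternionGroup.xa_mul_xa])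

theorem quatToDihedral_surjective (n : ℕ) : Function.Surjective (quatToDihedral n) := by
  rintro (i | i)
  · obtain ⟨j, hj⟩ := ZMod.castHom_surjective (Dvd.intro_left 2 rfl : n ∣ 2 * n) i
    exact ⟨.a j, by simp [quatToDihedral, ← hj]⟩
  · obtain ⟨j, hj⟩ := ZMod.castHom_surjective (Dvd.intro_left 2 rfl : n ∣ 2 * n) i
    exact ⟨.xa j, by simp [quatToDihedral, ← hj]⟩

theorem mem_ker_quatToDihedral {n : ℕ} [NeZero n] {g : QuaternionGroup n}
    (hg : g ∈ (quatToDihedral n).ker) : g = 1 ∨ g = .a (n : ZMod (2 * n)) := by
  rw [MonoidHom.mem_ker] at hg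
  rcases g with i | i
  · obtain ⟨k, rfl⟩ := ZMod.natCast_zmod_surjective (n := 2 * n) i
    simp only [quatToDihedral, MonoidHom.mk'_apply, map_natCast, DihedralGroup.one_def,
      DihedralGroup.r.injEq] at hg
    obtain ⟨m, rfl⟩ := (ZMod.natCast_eq_zero_iff _ _).mp hg
    rcases Nat.even_or_odd m with ⟨l, hl⟩ | ⟨l, hl⟩
    · left; rw [hl, show n * (l + l) = (2 * n) * l by ring]
      rw [QuaternionGroup.one_def, Nat.cast_mul, ZMod.natCast_self, zero_mul]
    · right; rw [hl, show n * (2 * l + 1) = (2 * n) * l + n by ring]
      rw [Nat.cast_add, Nat.cast_mul, ZMod.natCast_self, zero_mul, zero_add]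
  · simp only [quatToDihedral, MonoidHom.mk'_apply, DihedralGroup.one_def, reduceCtorEq] at hg


/-- For even `n ≥ 2` the dicyclic group of order `4 n` is a stem extension of the dihedral group of order `2 n` with kernel of order `2`: there is a surjective homomorphism `QuaternionGroup n →* DihedralGroup n` whose kernel is central, lies in the commutator subgroup and has two elements. Together with the order of the multiplier this exhibits the dicyclic group as a Schur covering group of the dihedral group. -/
theorem result (n : ℕ) [NeZero n] (hn : Even n) : ∃ σ : QuaternionGroup n →* DihedralGroup n, Cfsg.IsStemExtension σ ∧ Nat.card σ.ker = 2 := by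
  refine ⟨quatToDihedral n, ⟨quatToDihedral_surjective n, ?_, ?_⟩, ?_⟩
  · intro g hg
    rcases mem_ker_quatToDihedral hg with rfl | rfl
    · exact one_mem _
    · rw [Subgroup.mem_center_iff]
      have h2 : (n : ZMod (2 * n)) + n = 0 := by
        rw [← two_mul]; exact_mod_cast ZMod.natCast_self (2 * n)
      rintro (i | i)
      · simp [add_comm]
      · simp only [QuaternionGroup.xa_mul_a, QuaternionGroup.a_mul_xa]
        congr 1
        rw [sub_eq_add_neg, ← eq_neg_of_add_eq_zero_left h2]
  · intro g hg
    rcases mem_ker_quatToDihedral hg with rfl | rfl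
    · exact one_mem _
    · obtain ⟨k, hk⟩ := hn
      have h1 : (QuaternionGroup.a (n : ZMod (2 * n)) : QuaternionGroup n) =
          ⁅QuaternionGroup.a (k : ZMod (2 * n)), QuaternionGroup.xa 0⁆ := by
        rw [commutatorElement_def]
        have h2 : (n : ZMod (2 * n)) + n = 0 := by
          rw [← two_mul]; exact_mod_cast ZMod.natCast_self (2 * n)
        have hx : (QuaternionGroup.xa (0 : ZMod (2 * n)) : QuaternionGroup n)⁻¹ =
            .xa (n : ZMod (2 * n)) :=
          inv_eq_of_mul_eq_one_right (by
            rw [QuaternionGroup.xa_mul_xa, sub_zero, h2, QuaternionGroup.one_def])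
        have ha' : (QuaternionGroup.a (k : ZMod (2 * n)) : QuaternionGroup n)⁻¹ =
            .a (-(k : ZMod (2 * n))) :=
          inv_eq_of_mul_eq_one_right (by
            rw [QuaternionGroup.a_mul_a, add_neg_cancel, QuaternionGroup.one_def])
        rw [ha', hx]
        simp only [QuaternionGroup.a_mul_xa, QuaternionGroup.xa_mul_a, QuaternionGroup.xa_mul_xa]
        congr 1
        rw [hk] at h2 ⊢
        push_cast at h2 ⊢
        linear_combination -h2
      rw [h1, commutator_def]
      exact Subgroup.commutator_mem_commutator (Subgroup.mem_top _) (Subgroup.mem_top _)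
  · have h1 := Subgroup.card_mul_index (quatToDihedral n).ker
    rw [Subgroup.index_ker, MonoidHom.range_eq_top.mpr (quatToDihedral_surjective n),
      Subgroup.card_top, DihedralGroup.nat_card,
      Nat.card_eq_fintype_card (α := QuaternionGroup n), QuaternionGroup.card] at h1
    have hn0 : 0 < n := Nat.pos_of_ne_zero (NeZero.ne n)
    exact mul_right_cancel₀ (show 2 * n ≠ 0 by omega) (h1.trans (by ring))

end Cfsg.Agent.S3966
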