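import Cfsg.Statements.S3965
import Mathlib
import Cfsg.Agent.S3966

set_option autoImplicit false
open Cfsg

namespace Cfsg.Agent.S3965

theorem stem_ker_card_le_two {n : ℕ} [NeZero n] (hn : Even n) {Γ : Type} [Group Γ] [Finite Γ]
    (σ : Γ →* DihedralGroup n) (hs : Cfsg.IsStemExtension σ) : Nat.card σ.ker ≤ 2 := by
  obtain ⟨hsurj, hcen, hcomm⟩ := hs
  obtain ⟨a, ha⟩ := hsurj (.r 1)
  obtain ⟨b, hb⟩ := hsurj (.sr 0)
  have hz : ∀ w ∈ σ.ker, ∀ x : Γ, Commute x w :=
    fun w hw x => Subgroup.mem_center_iff.mp (hcen hw) x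
  set z := a * (b * a * b⁻¹) with hzdef
  have hzk : z ∈ σ.ker := by
    rw [MonoidHom.mem_ker, hzdef]
    simp only [map_mul, map_inv, ha, hb, DihedralGroup.inv_sr, DihedralGroup.sr_mul_r, DihedralGroup.sr_mul_sr, DihedralGroup.r_mul_r, DihedralGroup.one_def, DihedralGroup.r.injEq]
    ring
  have hbab : b * a * b⁻¹ = a⁻¹ * z := by rw [hzdef]; group
  set c := b * a * b⁻¹ * a⁻¹ with hcdef
  have hca : Commute a c := by
    rw [hcdef, hbab]
    exact ((Commute.refl a).inv_right.mul_right (hz z hzk a)).mul_right (Commute.refl a).inv_right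
  have hcb : b * c * b⁻¹ = c⁻¹ := by
    have e1 : b * c * b⁻¹ = (b * a * b⁻¹)⁻¹ * (b * z * b⁻¹) * (b * a * b⁻¹)⁻¹ := by
      rw [show c = a⁻¹ * z * a⁻¹ by rw [hcdef, hbab]]; group
    have e2 : b * z * b⁻¹ = z := by rw [(hz z hzk b).eq]; group
    have e3 : z⁻¹ * a * z = a := by rw [mul_assoc, (hz z hzk a).eq]; group
    rw [e1, e2, hcdef, hbab]
    calc (a⁻¹ * z)⁻¹ * z * (a⁻¹ * z)⁻¹ = (z⁻¹ * a * z) * z⁻¹ * a := by group
      _ = a * z⁻¹ * a := by rw [e3]
      _ = (a⁻¹ * z * a⁻¹)⁻¹ := by group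
  set K := Subgroup.zpowers c
  have hform : ∀ g : Γ, ∃ i : ℤ, ∃ w ∈ σ.ker, g = a ^ i * w ∨ g = b * a ^ i * w := by
    intro g
    cases hg : σ g with
    | r i =>
      refine ⟨(i.cast : ℤ), (a ^ (i.cast : ℤ))⁻¹ * g, ?_, Or.inl (by group)⟩
      rw [MonoidHom.mem_ker, map_mul, map_inv, map_zpow, hg, ha, DihedralGroup.r_one_zpow,
        ZMod.intCast_zmod_cast]
      exact inv_mul_cancel _
    | sr i =>
      refine ⟨(i.cast : ℤ), (b * a ^ (i.cast : ℤ))⁻¹ * g, ?_, Or.inr (by group)⟩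
      rw [MonoidHom.mem_ker, map_mul, map_inv, map_mul, map_zpow, hg, ha, hb,
        DihedralGroup.r_one_zpow, ZMod.intCast_zmod_cast, DihedralGroup.sr_mul_r, zero_add]
      exact inv_mul_cancel _
  have hKn : K.Normal := by
    refine ⟨fun x hx g => ?_⟩
    obtain ⟨m, rfl⟩ := hx
    obtain ⟨i, w, hw, rfl | rfl⟩ := hform g
    · refine ⟨m, ?_⟩
      have h1 : Commute (a ^ i * w) (c ^ m) :=
        (Commute.zpow_zpow hca i m).mul_left ((hz w hw (c ^ m)).symm)
      simp only
      rw [h1.eq, mul_inv_cancel_right]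
    · refine ⟨-m, ?_⟩
      have h1 : Commute (a ^ i * w) (c ^ m) :=
        (Commute.zpow_zpow hca i m).mul_left ((hz w hw (c ^ m)).symm)
      simp only
      rw [mul_assoc b (a ^ i) w, mul_assoc b, h1.eq]
      calc c ^ (-m) = (b * c * b⁻¹) ^ m := by rw [hcb, inv_zpow, zpow_neg]
        _ = b * c ^ m * b⁻¹ := conj_zpow
        _ = _ := by group
  let q := QuotientGroup.mk' K
  have hab : Commute (q a) (q b) := by
    have h : q c = 1 := (QuotientGroup.eq_one_iff c).mpr (Subgroup.mem_zpowers c)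
    rw [hcdef, map_mul, map_inv, map_mul, map_inv, map_mul] at h
    exact (show q b * q a = q a * q b by
      rwa [mul_inv_eq_one, mul_inv_eq_iff_eq_mul] at h).symm
  have hqw : ∀ w ∈ σ.ker, ∀ y, Commute y (q w) := by
    intro w hw y
    obtain ⟨x, rfl⟩ := QuotientGroup.mk'_surjective K y
    exact (hz w hw x).map q
  have hqa : ∀ y, Commute (q a) y := by
    intro y
    obtain ⟨g, rfl⟩ := QuotientGroup.mk'_surjective K y
    obtain ⟨i, w, hw, rfl | rfl⟩ := hform g
    · show Commute (q a) (q (a ^ i * w))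
      rw [map_mul, map_zpow]
      exact ((Commute.refl _).zpow_right i).mul_right (hqw w hw _)
    · show Commute (q a) (q (b * a ^ i * w))
      rw [map_mul, map_mul, map_zpow]
      exact (hab.mul_right ((Commute.refl _).zpow_right i)).mul_right (hqw w hw _)
  have hqb : ∀ y, Commute (q b) y := by
    intro y
    obtain ⟨g, rfl⟩ := QuotientGroup.mk'_surjective K y
    obtain ⟨i, w, hw, rfl | rfl⟩ := hform g
    · show Commute (q b) (q (a ^ i * w))
      rw [map_mul, map_zpow]
      exact (hab.symm.zpow_right i).mul_right (hqw w hw _)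
    · show Commute (q b) (q (b * a ^ i * w))
      rw [map_mul, map_mul, map_zpow]
      exact ((Commute.refl _).mul_right (hab.symm.zpow_right i)).mul_right (hqw w hw _)
  have hQ : ∀ x y : Γ ⧸ K, Commute x y := by
    intro x y
    obtain ⟨g, rfl⟩ := QuotientGroup.mk'_surjective K x
    obtain ⟨i, w, hw, rfl | rfl⟩ := hform g
    · show Commute (q (a ^ i * w)) y
      rw [map_mul, map_zpow]
      exact ((hqa y).zpow_left i).mul_left (hqw w hw y).symm
    · show Commute (q (b * a ^ i * w)) y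
      rw [map_mul, map_mul, map_zpow]
      exact ((hqb y).mul_left ((hqa y).zpow_left i)).mul_left (hqw w hw y).symm
  have hcommK : commutator Γ ≤ K := by
    rw [commutator_def, Subgroup.commutator_le]
    intro x _ y _
    rw [← QuotientGroup.eq_one_iff, ← QuotientGroup.mk'_apply, map_commutatorElement,
      commutatorElement_eq_one_iff_mul_comm]
    exact hQ _ _
  obtain ⟨h, hh⟩ := hn
  set f := c ^ h with hfdef
  have hσc : σ c = .r (-2) := by
    rw [hcdef, map_mul, map_inv, map_mul, map_inv, map_mul, ha, hb]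
    simp [DihedralGroup.inv_sr, DihedralGroup.inv_r]
    ring
  have hσck : ∀ k : ℤ, σ (c ^ k) = .r (-2 * k) := by
    intro k; rw [map_zpow, hσc, DihedralGroup.r_zpow]
  have hfk : f ∈ σ.ker := by
    rw [MonoidHom.mem_ker, hfdef, ← zpow_natCast c h, hσck, DihedralGroup.one_def]
    congr 1
    have : ((h + h : ℕ) : ZMod n) = 0 := by rw [← hh]; exact ZMod.natCast_self n
    push_cast at this ⊢
    linear_combination -this
  have hf2 : f ^ 2 = 1 := by
    have h1 : b * f * b⁻¹ = f⁻¹ := by rw [hfdef, ← conj_pow, hcb, inv_pow]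
    rw [(hz f hfk b).eq, mul_inv_cancel_right] at h1
    rw [pow_two]
    exact mul_eq_one_iff_eq_inv.mpr h1
  have hle : σ.ker ≤ Subgroup.zpowers f := by
    intro e he
    obtain ⟨k, rfl⟩ := hcommK (hcomm he)
    have h1 : σ (c ^ k) = 1 := he
    rw [hσck, DihedralGroup.one_def, DihedralGroup.r.injEq] at h1
    have h2 : ((2 * k : ℤ) : ZMod n) = 0 := by push_cast; linear_combination -h1
    obtain ⟨l, hl⟩ := (ZMod.intCast_zmod_eq_zero_iff_dvd _ n).mp h2
    refine ⟨l, ?_⟩
    simp only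
    rw [hfdef, ← zpow_natCast, ← zpow_mul]
    congr 1
    rw [hh] at hl; push_cast at hl
    linarith
  calc Nat.card σ.ker ≤ Nat.card (Subgroup.zpowers f) := Subgroup.card_le_of_le hle
    _ = orderOf f := Nat.card_zpowers f
    _ ≤ 2 := Nat.le_of_dvd two_pos (orderOf_dvd_of_pow_eq_one hf2)


/-- For even `n ≥ 2` the dihedral group of order `2 n` has Schur multiplier cyclic of order `2`. -/
theorem result (n : ℕ) [NeZero n] (hn : Even n) : Cfsg.HasCyclicSchurMultiplier (DihedralGroup n) 2 := by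
  have := Fact.mk Nat.prime_two
  obtain ⟨σ₀, hσ₀, hcard⟩ := Cfsg.Agent.S3966.result n hn
  have hA : Nat.card (Multiplicative (ZMod 2)) = 2 := by simp
  refine ⟨⟨QuaternionGroup n, inferInstance, inferInstance, σ₀, hσ₀,
    ⟨mulEquivOfPrimeCardEq hcard hA⟩⟩, ?_⟩
  intro Γ _ _ σ hσ
  have h := stem_ker_card_le_two hn σ hσ
  have h0 : 0 < Nat.card σ.ker := Nat.card_pos
  interval_cases hk : Nat.card σ.ker
  · refine ⟨1, fun x => ⟨1, ?_⟩⟩
    have : Subsingleton σ.ker := (Nat.card_eq_one_iff_unique.mp hk).1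
    exact Subsingleton.elim _ _
  · exact ⟨(mulEquivOfPrimeCardEq hA hk).toMonoidHom, MulEquiv.surjective _⟩

end Cfsg.Agent.S3965
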