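import Mathlib
import Cfsg.Prelude.Def_KGroupFacts
import Cfsg.Agent.Lib.Schur.Multiplier

/-!
The multiplier of a finite metacyclic group. Upper bound: in a stem extension the kernel is generated by
`c ^ (m / d)` where `c` is the commutator of the generators, and its order divides `d`, `l` and the
reduced geometric sum. Lower bound: a cyclic extension of a two-generated abelian group.
-/

set_option autoImplicit false

namespace Cfsg.Agent.S3967

open scoped commutatorElement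

/-- The arithmetic data: `m = d e`, `r = d R + 1`, `α R + β e = 1`, `Σ r^i = e S`. -/
structure Par where
  d : ℕ
  e : ℕ
  R : ℕ
  n : ℕ
  l : ℕ
  S : ℕ
  g : ℕ
  α : ℤ
  β : ℤ
  hd : 0 < d
  he : 0 < e
  hn : 0 < n
  hg : 0 < g
  hαβ : α * R + β * e = 1
  hS : ∑ i ∈ Finset.range n, (d * R + 1) ^ i = e * S
  gd : g ∣ d
  gl : g ∣ l
  gS : g ∣ S

variable (P : Par)

/-- The relations of the metacyclic group. -/
def Rel {G : Type*} [Group G] (a b : G) : Prop :=
  a ^ (P.d * P.e) = 1 ∧ b ^ P.n = a ^ (P.e * P.l) ∧ b * a * b⁻¹ = a ^ (P.d * P.R + 1)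

/-- The lattice of relations of the abelian normal subgroup of the cover. -/
def L : AddSubgroup (ℤ × ℤ) := AddSubgroup.closure {((P.d * P.e : ℤ), -P.α), (0, (P.g : ℤ))}

theorem mem_L {z : ℤ × ℤ} :
    z ∈ L P ↔ ∃ x y : ℤ, z.1 = x * (P.d * P.e) ∧ z.2 = -(x * P.α) + y * P.g := by
  rw [L, AddSubgroup.mem_closure_pair]
  constructor
  · rintro ⟨x, y, rfl⟩
    exact ⟨x, y, by simp, by simp⟩
  · rintro ⟨x, y, h1, h2⟩
    exact ⟨x, y, by ext <;> simp [h1, h2]⟩

/-- Multiples of `(d R, β)` by a multiple of `e` whose cofactor is divisible by `g` are relations. -/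
theorem shift_mem (q : ℤ) (hq : (P.g : ℤ) ∣ q) :
    (q * P.e * (P.d * P.R), q * P.e * P.β) ∈ L P := by
  obtain ⟨w, rfl⟩ := hq
  rw [mem_L]
  refine ⟨P.g * w * P.R, w, by ring, ?_⟩
  show (P.g : ℤ) * w * P.e * P.β = -(P.g * w * P.R * P.α) + w * P.g
  linear_combination ((P.g : ℤ) * w) * P.hαβ

/-- The endomorphism on the lattice. -/
def F : (ℤ × ℤ) →+ (ℤ × ℤ) where
  toFun z := ((P.d * P.R + 1 : ℤ) * z.1, P.β * z.1 + z.2)
  map_zero' := by simp
  map_add' z w := by ext <;> simp <;> ring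

theorem F_L : L P ≤ (L P).comap (F P) := by
  intro z hz
  obtain ⟨x, y, h1, h2⟩ := (mem_L P).1 hz
  obtain ⟨w, hw⟩ := Int.natCast_dvd_natCast.2 P.gd
  rw [AddSubgroup.mem_comap, mem_L]
  refine ⟨(P.d * P.R + 1) * x, y + w * x, ?_, ?_⟩
  · show ((P.d : ℤ) * P.R + 1) * z.1 = _
    rw [h1]; ring
  · show P.β * z.1 + z.2 = _
    rw [h1, h2]
    linear_combination (x * (P.d : ℤ)) * P.hαβ + x * hw

abbrev N : Type := (ℤ × ℤ) ⧸ L P

abbrev M : Type := Multiplicative (N P)

/-- The class of a lattice point. -/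
def el (i j : ℤ) : M P := Multiplicative.ofAdd (QuotientAddGroup.mk (i, j) : N P)

theorem el_eq_iff {i j i' j' : ℤ} : el P i j = el P i' j' ↔ (-i + i', -j + j') ∈ L P := by
  show (QuotientAddGroup.mk (i, j) : N P) = QuotientAddGroup.mk (i', j') ↔ _
  rw [QuotientAddGroup.eq]
  rfl

theorem el_mul (i j i' j' : ℤ) : el P i j * el P i' j' = el P (i + i') (j + j') := rfl

theorem el_surj (x : M P) : ∃ i j, x = el P i j := by
  obtain ⟨⟨i, j⟩, hz⟩ := QuotientAddGroup.mk_surjective (Multiplicative.toAdd x)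
  exact ⟨i, j, by rw [el, hz]; rfl⟩

theorem el_zero : el P 0 0 = 1 := rfl

theorem el_pow (i j : ℤ) : ∀ q : ℕ, el P i j ^ q = el P (q * i) (q * j)
  | 0 => by simp [el_zero]
  | q + 1 => by
    rw [pow_succ, el_pow i j q, el_mul]
    congr 1 <;> push_cast <;> ring

theorem el_zpow (i j q : ℤ) : el P i j ^ q = el P (q * i) (q * j) := by
  cases q with
  | ofNat q => simpa using el_pow P i j q
  | negSucc q =>
    rw [zpow_negSucc, el_pow, inv_eq_iff_mul_eq_one, el_mul, ← el_zero]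
    congr 1 <;> push_cast [Int.negSucc_eq] <;> ring

/-- The endomorphism of the abelian normal subgroup. -/
def fM : M P →* M P := AddMonoidHom.toMultiplicative (QuotientAddGroup.map _ _ (F P) (F_L P))

theorem fM_el (i j : ℤ) : fM P (el P i j) = el P ((P.d * P.R + 1) * i) (P.β * i + j) := rfl

theorem fM_iter (i j : ℤ) : ∀ q : ℕ, (fM P)^[q] (el P i j) =
    el P (i + i * ((∑ s ∈ Finset.range q, (P.d * P.R + 1) ^ s : ℕ) : ℤ) * (P.d * P.R))
      (j + i * ((∑ s ∈ Finset.range q, (P.d * P.R + 1) ^ s : ℕ) : ℤ) * P.β)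
  | 0 => by simp
  | q + 1 => by
    rw [Function.iterate_succ_apply', fM_iter i j q, fM_el, geom_sum_succ]
    congr 1 <;> push_cast <;> ring

theorem fM_period (x : M P) : (fM P)^[P.n] x = x := by
  obtain ⟨i, j, rfl⟩ := el_surj P x
  rw [fM_iter, P.hS, el_eq_iff]
  have := (L P).neg_mem (shift_mem P (i * P.S) ((Int.natCast_dvd_natCast.2 P.gS).mul_left i))
  convert this using 1
  rw [Prod.neg_mk]
  ext <;> push_cast <;> ring

theorem fM_bijective : Function.Bijective (fM P) := by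
  obtain ⟨q, hq⟩ : ∃ q, P.n = q + 1 := ⟨P.n - 1, by have := P.hn; omega⟩
  constructor
  · intro x y h
    rw [← fM_period P x, ← fM_period P y, hq, Function.iterate_succ_apply,
      Function.iterate_succ_apply, h]
  · intro y
    refine ⟨(fM P)^[q] y, ?_⟩
    rw [← Function.iterate_succ_apply' (fM P) q y]
    show (fM P)^[q + 1] y = y
    rw [← hq, fM_period]

noncomputable def phi : MulAut (M P) := MulEquiv.ofBijective (fM P) (fM_bijective P)

theorem phi_apply (x : M P) : phi P x = fM P x := rfl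

theorem phi_pow (x : M P) : ∀ q : ℕ, (phi P ^ q) x = (fM P)^[q] x
  | 0 => rfl
  | q + 1 => by
    rw [pow_succ', MulAut.mul_apply, phi_pow x q, Function.iterate_succ_apply']
    rfl

/-- The split extension. -/
abbrev E : Type := M P ⋊[zpowersHom (MulAut (M P)) (phi P)] Multiplicative ℤ

/-- The element to be killed. -/
noncomputable def x0 : E P := ⟨el P (-(P.e * P.l : ℤ)) 0, Multiplicative.ofAdd (P.n : ℤ)⟩

theorem zact (s : ℤ) (x : M P) :
    zpowersHom (MulAut (M P)) (phi P) (Multiplicative.ofAdd s) x = (phi P ^ s) x := rfl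

theorem phi_t : phi P (el P (-(P.e * P.l : ℤ)) 0) = el P (-(P.e * P.l : ℤ)) 0 := by
  rw [phi_apply, fM_el, el_eq_iff]
  have := shift_mem P (P.l : ℤ) (Int.natCast_dvd_natCast.2 P.gl)
  convert this using 1
  ext <;> simp <;> ring

theorem x0_central (y : E P) : y * x0 P = x0 P * y := by
  have h1 : ∀ s : ℤ, (phi P ^ s) (el P (-(P.e * P.l : ℤ)) 0) = el P (-(P.e * P.l : ℤ)) 0 := by
    intro s
    induction s with
    | zero => rfl
    | succ q ih => rw [add_comm, zpow_add, zpow_one, MulAut.mul_apply, ih, phi_t]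
    | pred q ih =>
      rw [sub_eq_neg_add, zpow_add, zpow_neg_one, MulAut.mul_apply, ih, MulAut.inv_apply,
        MulEquiv.symm_apply_eq, phi_t]
  have h2 : (phi P ^ (P.n : ℤ)) y.left = y.left := by rw [zpow_natCast, phi_pow, fM_period]
  apply SemidirectProduct.ext
  · obtain ⟨s, hs⟩ : ∃ s : ℤ, y.right = Multiplicative.ofAdd s := ⟨_, rfl⟩
    simp only [SemidirectProduct.mul_left, x0, hs, zact, h1, h2]
    exact mul_comm _ _
  · exact mul_comm _ _

instance x0_normal : (Subgroup.zpowers (x0 P)).Normal := by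
  refine ⟨fun z hz y => ?_⟩
  obtain ⟨q, rfl⟩ := hz
  exact ⟨q, by
    show x0 P ^ q = y * x0 P ^ q * y⁻¹
    rw [(Commute.zpow_right (show Commute y (x0 P) from x0_central P y) q).eq, mul_inv_cancel_right]⟩

/-- The cover. -/
abbrev Cv : Type := E P ⧸ Subgroup.zpowers (x0 P)

noncomputable def cvA : Cv P := QuotientGroup.mk (SemidirectProduct.inl (el P 1 0))
noncomputable def cvB : Cv P := QuotientGroup.mk (SemidirectProduct.inr (Multiplicative.ofAdd 1))
noncomputable def cvK : Cv P := QuotientGroup.mk (SemidirectProduct.inl (el P 0 1))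

theorem cv_surj (y : Cv P) : ∃ i j s : ℤ, y = cvA P ^ i * cvK P ^ j * cvB P ^ s := by
  obtain ⟨y, rfl⟩ := QuotientGroup.mk_surjective y
  obtain ⟨i, j, hij⟩ := el_surj P y.left
  refine ⟨i, j, Multiplicative.toAdd y.right, ?_⟩
  conv_lhs => rw [← SemidirectProduct.inl_left_mul_inr_right y, hij]
  rw [cvA, cvB, cvK, ← QuotientGroup.mk_zpow, ← QuotientGroup.mk_zpow, ← QuotientGroup.mk_zpow,
    ← map_zpow, ← map_zpow, ← map_zpow, ← QuotientGroup.mk_mul, ← QuotientGroup.mk_mul, ← map_mul,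
    el_zpow, el_zpow, el_mul]
  have e1 : el P (i * 1 + j * 0) (i * 0 + j * 1) = el P i j := by congr 1 <;> ring
  rw [e1, ← ofAdd_zsmul, smul_eq_mul, mul_one]
  rfl

theorem inl_eq_one {x : M P}
    (h : (QuotientGroup.mk (SemidirectProduct.inl x) : Cv P) = 1) : x = 1 := by
  obtain ⟨q, hq⟩ := (QuotientGroup.eq_one_iff _).1 h
  have h1 := congrArg SemidirectProduct.rightHom hq
  rw [map_zpow, SemidirectProduct.rightHom_inl] at h1
  have h2 : q * (P.n : ℤ) = 0 := by
    simpa [x0] using congrArg Multiplicative.toAdd h1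
  have hn := P.hn
  rcases mul_eq_zero.1 h2 with rfl | h3
  · have h4 : (SemidirectProduct.inl x : E P) = 1 := by rw [← hq]; exact zpow_zero _
    exact SemidirectProduct.inl_injective (h4.trans (map_one _).symm)
  · omega

theorem cvK_pow_eq_one {q : ℤ} (h : cvK P ^ q = 1) : (P.g : ℤ) ∣ q := by
  rw [cvK, ← QuotientGroup.mk_zpow, ← map_zpow, el_zpow] at h
  have h1 := inl_eq_one P h
  rw [← el_zero, el_eq_iff, mem_L] at h1
  obtain ⟨x, y, h2, h3⟩ := h1
  have hd := P.hd
  have he := P.he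
  have hx : x = 0 := by
    have h4 : x * ((P.d : ℤ) * P.e) = 0 := by simpa using h2.symm
    rcases mul_eq_zero.1 h4 with h5 | h5
    · exact h5
    · exfalso
      rcases mul_eq_zero.1 h5 with h6 | h6 <;> omega
  exact ⟨-y, by subst hx; simp at h3; linarith⟩

theorem cvK_pow_g : cvK P ^ P.g = 1 := by
  rw [cvK, ← QuotientGroup.mk_pow, ← map_pow, el_pow, ← QuotientGroup.mk_one,
    ← map_one (SemidirectProduct.inl : M P →* E P), ← el_zero]
  congr 2
  rw [el_eq_iff, mem_L]
  exact ⟨0, -1, by simp, by simp⟩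

theorem cvK_central : cvK P ∈ Subgroup.center (Cv P) := by
  rw [Subgroup.mem_center_iff]
  intro y
  obtain ⟨y, rfl⟩ := QuotientGroup.mk_surjective y
  rw [cvK, ← QuotientGroup.mk_mul, ← QuotientGroup.mk_mul]
  congr 1
  have h0 : phi P (el P 0 1) = el P 0 1 := by
    rw [phi_apply, fM_el]; congr 1 <;> ring
  have h1 : ∀ s : ℤ, (phi P ^ s) (el P 0 1) = el P 0 1 := by
    intro s
    induction s with
    | zero => rfl
    | succ q ih => rw [add_comm, zpow_add, zpow_one, MulAut.mul_apply, ih, h0]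
    | pred q ih =>
      rw [sub_eq_neg_add, zpow_add, zpow_neg_one, MulAut.mul_apply, ih, MulAut.inv_apply,
        MulEquiv.symm_apply_eq, h0]
  obtain ⟨s, hs⟩ : ∃ s : ℤ, y.right = Multiplicative.ofAdd s := ⟨_, rfl⟩
  apply SemidirectProduct.ext
  · simp only [SemidirectProduct.mul_left, SemidirectProduct.left_inl, SemidirectProduct.right_inl,
      hs, zact, h1, map_one, MulAut.one_apply]
    exact mul_comm _ _
  · simp

theorem cv_conj : cvB P * cvA P * (cvB P)⁻¹ = cvA P ^ (P.d * P.R + 1) * cvK P ^ P.β := by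
  rw [cvA, cvB, cvK, ← QuotientGroup.mk_inv, ← QuotientGroup.mk_mul, ← QuotientGroup.mk_mul,
    ← QuotientGroup.mk_pow, ← QuotientGroup.mk_zpow, ← QuotientGroup.mk_mul, ← map_pow, ← map_zpow,
    ← map_mul, ← map_inv, ← SemidirectProduct.inl_aut, zact, zpow_one]
  congr 2
  rw [phi_apply, fM_el, el_pow, el_zpow, el_mul]
  congr 1 <;> push_cast <;> ring

theorem cv_pow_m : cvA P ^ (P.d * P.e) = cvK P ^ P.α := by
  rw [cvA, cvK, ← QuotientGroup.mk_pow, ← QuotientGroup.mk_zpow, ← map_pow, ← map_zpow, el_pow,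
    el_zpow]
  congr 2
  rw [el_eq_iff, mem_L]
  exact ⟨-1, 0, by simp, by simp⟩

theorem cv_pow_n : cvB P ^ P.n = cvA P ^ (P.e * P.l) := by
  rw [cvA, cvB, ← QuotientGroup.mk_pow, ← QuotientGroup.mk_pow, QuotientGroup.eq,
    ← map_pow (SemidirectProduct.inr : Multiplicative ℤ →* E P),
    ← map_pow (SemidirectProduct.inl : M P →* E P),
    ← map_inv (SemidirectProduct.inr : Multiplicative ℤ →* E P), el_pow]
  refine ⟨-1, ?_⟩
  show x0 P ^ (-1 : ℤ) = _
  rw [zpow_neg_one, inv_eq_iff_mul_eq_one]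
  apply SemidirectProduct.ext
  · simp only [SemidirectProduct.mul_left, SemidirectProduct.left_inl, SemidirectProduct.right_inl,
      SemidirectProduct.left_inr, SemidirectProduct.right_inr, SemidirectProduct.mul_right,
      SemidirectProduct.one_left, x0, map_one, one_mul, mul_one, ← ofAdd_nsmul, ← ofAdd_neg, zact]
    rw [← MulAut.mul_apply, ← zpow_add, show (P.n : ℤ) + -(P.n • (1 : ℤ)) = 0 by simp, zpow_zero,
      MulAut.one_apply, el_mul]
    simp [el_zero]
  · simp [x0, ← ofAdd_nsmul, ← ofAdd_neg, ← ofAdd_add]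

theorem cv_finite : Finite (Cv P) := by
  refine Finite.of_surjective (fun q : Fin (P.d * P.e) × Fin P.g × Fin P.n =>
    cvA P ^ (q.1 : ℕ) * cvK P ^ (q.2.1 : ℕ) * cvB P ^ (q.2.2 : ℕ)) fun y => ?_
  have hd := P.hd
  have he := P.he
  have hn := P.hn
  have hg := P.hg
  have hde : 0 < P.d * P.e := Nat.mul_pos hd he
  obtain ⟨i, j, s, rfl⟩ := cv_surj P y
  obtain ⟨s0, hs0⟩ : ∃ s0 : ℕ, (s % (P.n : ℤ)) = s0 :=
    ⟨_, (Int.toNat_of_nonneg (Int.emod_nonneg _ (by omega))).symm⟩
  have hK : ∀ u, Commute (cvK P) u := fun u => (Subgroup.mem_center_iff.1 (cvK_central P) u).symm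
  have hBs : cvB P ^ s = cvA P ^ ((P.e * P.l : ℕ) * (s / (P.n : ℤ))) * cvB P ^ s0 := by
    conv_lhs => rw [← Int.mul_ediv_add_emod s P.n, hs0]
    rw [zpow_add, zpow_mul, zpow_natCast, zpow_natCast, cv_pow_n, zpow_mul, zpow_natCast]
  set i' := i + (P.e * P.l : ℕ) * (s / (P.n : ℤ))
  obtain ⟨i0, hi0⟩ : ∃ i0 : ℕ, (i' % ((P.d * P.e : ℕ) : ℤ)) = i0 :=
    ⟨_, (Int.toNat_of_nonneg (Int.emod_nonneg _ (by omega))).symm⟩
  have hAi : cvA P ^ i' = cvA P ^ i0 * cvK P ^ (P.α * (i' / ((P.d * P.e : ℕ) : ℤ))) := by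
    conv_lhs => rw [← Int.emod_add_mul_ediv i' ((P.d * P.e : ℕ) : ℤ), hi0]
    rw [zpow_add, zpow_natCast, zpow_mul, zpow_natCast, cv_pow_m, zpow_mul]
  set j' := P.α * (i' / ((P.d * P.e : ℕ) : ℤ)) + j
  obtain ⟨j0, hj0⟩ : ∃ j0 : ℕ, (j' % (P.g : ℤ)) = j0 :=
    ⟨_, (Int.toNat_of_nonneg (Int.emod_nonneg _ (by omega))).symm⟩
  have hKj : cvK P ^ j' = cvK P ^ j0 := by
    conv_lhs => rw [← Int.emod_add_mul_ediv j' (P.g : ℤ), hj0]
    rw [zpow_add, zpow_natCast, zpow_mul, zpow_natCast, cvK_pow_g, one_zpow, mul_one]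
  have b1 : i0 < P.d * P.e := by
    have := Int.emod_lt_of_pos i' (show (0 : ℤ) < ((P.d * P.e : ℕ) : ℤ) by exact_mod_cast hde)
    omega
  have b2 : j0 < P.g := by
    have := Int.emod_lt_of_pos j' (show (0 : ℤ) < (P.g : ℤ) by omega)
    omega
  have b3 : s0 < P.n := by
    have := Int.emod_lt_of_pos s (show (0 : ℤ) < (P.n : ℤ) by omega)
    omega
  refine ⟨(⟨i0, b1⟩, ⟨j0, b2⟩, ⟨s0, b3⟩), ?_⟩
  show cvA P ^ i0 * cvK P ^ j0 * cvB P ^ s0 = _
  conv_rhs =>
    rw [hBs, ← mul_assoc, mul_assoc (cvA P ^ i), ((hK _).zpow_left j).eq, ← mul_assoc (cvA P ^ i),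
      ← zpow_add, hAi, mul_assoc (cvA P ^ i0), ← zpow_add, hKj]

/-- The map to any group with the metacyclic relations. -/
theorem exists_proj {G : Type} [Group G] (a b : G) (h : Rel P a b) :
    ∃ σ : Cv P →* G, σ (cvA P) = a ∧ σ (cvB P) = b ∧ σ (cvK P) = 1 := by
  obtain ⟨ha, hb, hc⟩ := h
  let f0 : (ℤ × ℤ) →+ Additive G :=
    (zmultiplesHom (Additive G) (Additive.ofMul a)).comp (AddMonoidHom.fst ℤ ℤ)
  have hf0 : L P ≤ f0.ker := by
    intro z hz
    obtain ⟨x, y, h1, -⟩ := (mem_L P).1 hz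
    show f0 z = 0
    apply Additive.toMul.injective
    show a ^ z.1 = 1
    rw [h1, mul_comm, zpow_mul, show ((P.d : ℤ) * P.e) = ((P.d * P.e : ℕ) : ℤ) by push_cast; rfl,
      zpow_natCast, ha, one_zpow]
  let fn : M P →* G := AddMonoidHom.toMultiplicativeLeft (QuotientAddGroup.lift (L P) f0 hf0)
  have hfn : ∀ i j, fn (el P i j) = a ^ i := fun i j => rfl
  have hstep : ∀ x, fn (phi P x) = b * fn x * b⁻¹ := by
    intro x
    obtain ⟨i, j, rfl⟩ := el_surj P x
    rw [phi_apply, fM_el, hfn, hfn, ← conj_zpow, hc, ← zpow_natCast, ← zpow_mul]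
    congr 1
  have hall : ∀ (s : ℤ) x, fn ((phi P ^ s) x) = b ^ s * fn x * (b ^ s)⁻¹ := by
    intro s
    induction s with
    | zero => intro x; simp
    | succ q ih =>
      intro x
      rw [add_comm, zpow_add, zpow_one, MulAut.mul_apply, hstep, ih, zpow_add b, zpow_one]
      group
    | pred q ih =>
      intro x
      rw [sub_eq_neg_add, zpow_add, zpow_neg_one, MulAut.mul_apply, MulAut.inv_apply]
      have h1 := hstep ((phi P).symm ((phi P ^ (-(q : ℤ))) x))
      rw [MulEquiv.apply_symm_apply, ih] at h1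
      rw [zpow_add b, zpow_neg_one]
      calc fn ((phi P).symm ((phi P ^ (-(q : ℤ))) x))
          = b⁻¹ * (b * fn ((phi P).symm ((phi P ^ (-(q : ℤ))) x)) * b⁻¹) * b := by group
        _ = _ := by rw [← h1]; group
  let σ0 : E P →* G := SemidirectProduct.lift fn (zpowersHom G b) fun s => by
    refine MonoidHom.ext fun x => ?_
    exact hall (Multiplicative.toAdd s) x
  have hk : Subgroup.zpowers (x0 P) ≤ σ0.ker := by
    rw [Subgroup.zpowers_le, MonoidHom.mem_ker]
    show fn (el P _ _) * b ^ (P.n : ℤ) = 1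
    rw [hfn, zpow_natCast, hb, zpow_neg, ← Nat.cast_mul, zpow_natCast, inv_mul_cancel]
  refine ⟨QuotientGroup.lift _ σ0 hk, ?_, ?_, ?_⟩
  · show σ0 (SemidirectProduct.inl (el P 1 0)) = a
    rw [SemidirectProduct.lift_inl, hfn, zpow_one]
  · show σ0 (SemidirectProduct.inr (Multiplicative.ofAdd 1)) = b
    rw [SemidirectProduct.lift_inr]; exact zpow_one b
  · show σ0 (SemidirectProduct.inl (el P 0 1)) = 1
    rw [SemidirectProduct.lift_inl, hfn, zpow_zero]

/-- The quotient of the cover by its kernel satisfies the relations, with `a` of order `d e`. -/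
theorem exists_section :
    ∃ (H : Type) (_ : Group H) (π : Cv P →* H), Rel P (π (cvA P)) (π (cvB P)) ∧
      (∀ y, π y = 1 → y ∈ Subgroup.zpowers (cvK P)) ∧
      ∀ i : ℤ, π (cvA P) ^ i = 1 → ((P.d * P.e : ℕ) : ℤ) ∣ i := by
  have hn : (Subgroup.zpowers (cvK P)).Normal := ⟨fun z hz y => by
    have : z ∈ Subgroup.center (Cv P) := Subgroup.zpowers_le.2 (cvK_central P) hz
    rwa [Subgroup.mem_center_iff.1 this y, mul_inv_cancel_right]⟩
  have hk : (QuotientGroup.mk' (Subgroup.zpowers (cvK P))) (cvK P) = 1 :=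
    (QuotientGroup.eq_one_iff _).2 (Subgroup.mem_zpowers _)
  refine ⟨_, inferInstance, QuotientGroup.mk' (Subgroup.zpowers (cvK P)), ⟨?_, ?_, ?_⟩,
    fun y hy => (QuotientGroup.eq_one_iff _).1 hy, fun i hi => ?_⟩
  · rw [← map_pow, cv_pow_m, map_zpow, hk, one_zpow]
  · rw [← map_pow, ← map_pow, cv_pow_n]
  · rw [← map_inv, ← map_mul, ← map_mul, cv_conj, map_mul, map_zpow, hk, one_zpow, mul_one, map_pow]
  · rw [← map_zpow] at hi
    obtain ⟨q, hq⟩ := (QuotientGroup.eq_one_iff _).1 hi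
    simp only at hq
    rw [cvA, cvK, ← QuotientGroup.mk_zpow, ← QuotientGroup.mk_zpow, ← map_zpow, ← map_zpow,
      eq_comm, ← inv_mul_eq_one, ← QuotientGroup.mk_inv, ← QuotientGroup.mk_mul, ← map_inv,
      ← map_mul, el_zpow, el_zpow, ← zpow_neg_one, el_zpow, el_mul] at hq
    have h1 := inl_eq_one P hq
    rw [← el_zero, el_eq_iff, mem_L] at h1
    obtain ⟨x, y, h2, -⟩ := h1
    exact ⟨x, by push_cast; simp at h2; linarith⟩

/-- The kernel of a stem extension is cyclic of order dividing `gcd(l, d, S)`. -/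
theorem upper {G : Type} [Group G] (a b : G) (h : Rel P a b)
    (hgen : Subgroup.closure ({a, b} : Set G) = ⊤)
    (hord : ∀ i : ℤ, a ^ i = 1 → ((P.d * P.e : ℕ) : ℤ) ∣ i)
    (hg : P.g = Nat.gcd P.l (Nat.gcd P.d P.S))
    {Γ : Type} [Group Γ] [Finite Γ] (σ : Γ →* G) (hσ : Cfsg.IsStemExtension σ) :
    ∃ π : Multiplicative (ZMod P.g) →* σ.ker, Function.Surjective π := by
  obtain ⟨hsurj, hcen, hcomm⟩ := hσ
  obtain ⟨ha, hb, hc⟩ := h
  obtain ⟨A, hA⟩ := hsurj a
  obtain ⟨B, hB⟩ := hsurj b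
  have hcen' : ∀ z ∈ σ.ker, ∀ y, Commute z y := fun z hz y =>
    (Subgroup.mem_center_iff.1 (hcen hz) y).symm
  set D := P.d * P.R with hD
  set z := (A ^ (D + 1))⁻¹ * (B * A * B⁻¹) with hz
  have hzk : z ∈ σ.ker := by
    rw [MonoidHom.mem_ker, hz, map_mul, map_inv, map_pow, map_mul, map_mul, map_inv, hA, hB, hc,
      inv_mul_cancel]
  set c := A ^ D * z with hcdef
  have hBA : B * A * B⁻¹ = A ^ (D + 1) * z := by rw [hz, mul_inv_cancel_left]
  have hAc : Commute A c := ((Commute.refl A).pow_right D).mul_right (hcen' z hzk A).symm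
  have hBA' : B * A * B⁻¹ = A * c := by rw [hBA, hcdef, pow_succ', mul_assoc]
  have hcp : ∀ q : ℕ, c ^ q = A ^ (D * q) * z ^ q := fun q => by
    rw [hcdef, (hcen' z hzk _).symm.mul_pow, ← pow_mul A D q]
  have hBc : B * c * B⁻¹ = c ^ (D + 1) := by
    rw [hcp, hcdef]
    calc B * (A ^ D * z) * B⁻¹ = (B * A ^ D * B⁻¹) * (B * z * B⁻¹) := by group
      _ = (B * A * B⁻¹) ^ D * z := by
          rw [conj_pow, ← (hcen' z hzk B).eq, mul_inv_cancel_right]
      _ = A ^ (D * (D + 1)) * z ^ (D + 1) := by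
          rw [hBA, (hcen' z hzk _).symm.mul_pow, ← pow_mul, mul_comm (D + 1) D, mul_assoc, ← pow_succ]
  -- generation
  set H := Subgroup.closure ({A, B} : Set Γ) with hH
  have hsup : H ⊔ σ.ker = ⊤ := by
    rw [← Subgroup.comap_map_eq, hH, MonoidHom.map_closure, Set.image_pair, hA, hB, hgen,
      Subgroup.comap_top]
  have hHtop : H = ⊤ := by
    have h1 : H.subtype.range ⊔ Subgroup.center Γ = ⊤ := by
      rw [Subgroup.range_subtype, eq_top_iff, ← hsup]
      exact sup_le_sup_left hcen _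
    have h2 := CfsgLib.Schur.map_commutator_eq_of_center H.subtype h1
    rw [← hsup, left_eq_sup]
    exact hcomm.trans (h2 ▸ Subgroup.map_subtype_le _)
  -- the derived subgroup
  have hnorm : (Subgroup.zpowers c).Normal := by
    rw [← Subgroup.normalizer_eq_top_iff, eq_top_iff, ← hHtop, hH, Subgroup.closure_le]
    have key : ∀ u, u * c * u⁻¹ ∈ Subgroup.zpowers c →
        u ∈ Subgroup.normalizer (Subgroup.zpowers c : Set Γ) := by
      intro u hu
      have h1 : ∀ x ∈ Subgroup.zpowers c, u * x * u⁻¹ ∈ Subgroup.zpowers c := by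
        rintro x ⟨q, rfl⟩
        show u * c ^ q * u⁻¹ ∈ _
        rw [← conj_zpow]
        exact Subgroup.zpow_mem _ hu q
      rw [Subgroup.mem_normalizer_iff]
      intro x
      refine ⟨h1 x, fun hx => ?_⟩
      have himg : (Subgroup.zpowers c).map (MulAut.conj u).toMonoidHom = Subgroup.zpowers c :=
        Subgroup.eq_of_le_of_card_ge (by rintro _ ⟨y, hy, rfl⟩; exact h1 y hy)
          (by rw [Subgroup.card_map_of_injective (MulAut.conj u).injective])
      obtain ⟨y, hy, hy2⟩ : u * x * u⁻¹ ∈ (Subgroup.zpowers c).map (MulAut.conj u).toMonoidHom := by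
        rw [himg]; exact hx
      exact ((MulAut.conj u).injective hy2) ▸ hy
    rintro u (rfl | rfl)
    · exact key u (by rw [hAc.eq, mul_inv_cancel_right]; exact Subgroup.mem_zpowers c)
    · exact key u (by rw [hBc]; exact pow_mem (Subgroup.mem_zpowers c) _)
  have hder : commutator Γ ≤ Subgroup.zpowers c := by
    set q := QuotientGroup.mk' (Subgroup.zpowers c)
    have hAB : q A * q B = q B * q A := by
      have h1 : q (B * A * B⁻¹) = q A := by
        rw [hBA', map_mul, show q c = 1 from (QuotientGroup.eq_one_iff c).2 (Subgroup.mem_zpowers c),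
          mul_one]
      rw [map_mul, map_mul, map_inv, mul_inv_eq_iff_eq_mul] at h1
      exact h1.symm
    have h2 : ∀ u v, q u * q v = q v * q u := by
      have h3 : Subgroup.map q ⊤ = Subgroup.closure {q A, q B} := by
        rw [← hHtop, hH, MonoidHom.map_closure, Set.image_pair]
      have h4 : Subgroup.closure {q A, q B} ≤
          Subgroup.centralizer (Subgroup.closure {q A, q B} : Set (Γ ⧸ Subgroup.zpowers c)) := by
        rw [Subgroup.centralizer_closure, Subgroup.closure_le]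
        rintro w hw
        rw [SetLike.mem_coe, Subgroup.mem_centralizer_iff]
        rintro v (rfl | rfl) <;> rcases hw with rfl | rfl
        exacts [rfl, hAB, hAB.symm, rfl]
      intro u v
      exact (Subgroup.mem_centralizer_iff.1 (h4 (h3 ▸ Subgroup.mem_map_of_mem q (Subgroup.mem_top v)))
        _ (h3 ▸ Subgroup.mem_map_of_mem q (Subgroup.mem_top u)))
    rw [commutator_def, Subgroup.commutator_le]
    intro u _ v _
    rw [← QuotientGroup.eq_one_iff]
    show q ⁅u, v⁆ = 1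
    rw [map_commutatorElement, commutatorElement_eq_one_iff_mul_comm]
    exact h2 u v
  set k := c ^ P.e with hk
  have hzσ : σ z = 1 := MonoidHom.mem_ker.1 hzk
  have hσc : σ c = a ^ D := by rw [hcdef, map_mul, map_pow, hA, hzσ, mul_one]
  have hkk : k ∈ σ.ker := by
    rw [MonoidHom.mem_ker, hk, map_pow, hσc, ← pow_mul,
      show D * P.e = P.d * P.e * P.R by rw [hD]; ring, pow_mul, ha, one_pow]
  have hkgen : ∀ x ∈ σ.ker, ∃ j : ℤ, k ^ j = x := by
    intro x hx
    obtain ⟨i, rfl⟩ := hder (hcomm hx)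
    simp only at hx ⊢
    rw [MonoidHom.mem_ker, map_zpow, hσc, ← zpow_natCast, ← zpow_mul] at hx
    obtain ⟨w, hw⟩ := hord _ hx
    have he : (P.e : ℤ) ∣ i := by
      have hco : IsCoprime (P.e : ℤ) (P.R : ℤ) := ⟨P.β, P.α, by linear_combination P.hαβ⟩
      refine hco.dvd_of_dvd_mul_left ⟨w, ?_⟩
      have hd0 : (P.d : ℤ) ≠ 0 := by have := P.hd; omega
      apply mul_left_cancel₀ hd0
      rw [hD] at hw
      push_cast at hw
      linear_combination hw
    obtain ⟨j, rfl⟩ := he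
    exact ⟨j, by rw [hk, zpow_mul, zpow_natCast]⟩
  -- the order of `k`
  have hfix : ∀ q : ℕ, Commute B (A ^ q) → c ^ q = 1 := fun q hq => by
    have h1 : (B * A * B⁻¹) ^ q = A ^ q := by rw [conj_pow, hq.eq, mul_inv_cancel_right]
    rw [hBA, (hcen' z hzk _).symm.mul_pow, ← pow_mul, show (D + 1) * q = q + D * q by ring, pow_add,
      mul_assoc, ← hcp, mul_eq_left] at h1
    exact h1
  have hkd : k ^ P.d = 1 := by
    rw [hk, ← pow_mul, mul_comm]
    exact hfix _ (hcen' _ (by rw [MonoidHom.mem_ker, map_pow, hA, ha]) B).symm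
  have hu : (A ^ (P.e * P.l))⁻¹ * B ^ P.n ∈ σ.ker := by
    rw [MonoidHom.mem_ker, map_mul, map_inv, map_pow, map_pow, hA, hB, hb, inv_mul_cancel]
  have hBn : B ^ P.n = A ^ (P.e * P.l) * ((A ^ (P.e * P.l))⁻¹ * B ^ P.n) := by
    rw [mul_inv_cancel_left]
  have hkl : k ^ P.l = 1 := by
    rw [hk, ← pow_mul]
    refine hfix _ ?_
    have h1 : Commute B (B ^ P.n * ((A ^ (P.e * P.l))⁻¹ * B ^ P.n)⁻¹) :=
      ((Commute.refl B).pow_right _).mul_right ((hcen' _ hu B).symm.inv_right)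
    rwa [mul_inv_rev, inv_inv, mul_inv_cancel_left] at h1
  have hkS : k ^ P.S = 1 := by
    have h1 : ∀ q : ℕ, B ^ q * A * (B ^ q)⁻¹ =
        A * c ^ (∑ s ∈ Finset.range q, (D + 1) ^ s) := by
      intro q
      induction q with
      | zero => simp
      | succ q ih =>
        rw [geom_sum_succ, pow_succ' B q]
        calc B * B ^ q * A * (B * B ^ q)⁻¹ = B * (B ^ q * A * (B ^ q)⁻¹) * B⁻¹ := by group
          _ = (B * A * B⁻¹) * (B * c ^ (∑ s ∈ Finset.range q, (D + 1) ^ s) * B⁻¹) := by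
              rw [ih]; group
          _ = _ := by
              rw [← conj_pow, hBA', hBc, ← pow_mul, mul_assoc, ← pow_succ']
    have h2 : B ^ P.n * A * (B ^ P.n)⁻¹ = A := by
      rw [((show Commute (B ^ P.n) A by
        rw [hBn]; exact ((Commute.refl A).pow_left _).mul_left (hcen' _ hu A))).eq,
        mul_inv_cancel_right]
    have h3 := (h1 P.n).symm.trans h2
    rw [hD, P.hS, pow_mul, mul_eq_left] at h3
    exact h3
  have hkg : k ^ P.g = 1 := by
    rw [← orderOf_dvd_iff_pow_eq_one] at hkd hkl hkS ⊢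
    rw [hg]
    exact Nat.dvd_gcd hkl (Nat.dvd_gcd hkd hkS)
  let k' : Additive σ.ker := Additive.ofMul ⟨k, hkk⟩
  let π0 : ZMod P.g →+ Additive σ.ker := ZMod.lift P.g ⟨zmultiplesHom _ k', by
    apply Additive.toMul.injective
    show (⟨k, hkk⟩ : σ.ker) ^ (P.g : ℤ) = 1
    exact Subtype.ext (by simpa using hkg)⟩
  refine ⟨AddMonoidHom.toMultiplicativeLeft π0, fun x => ?_⟩
  obtain ⟨j, hj⟩ := hkgen x x.2
  refine ⟨Multiplicative.ofAdd (j : ZMod P.g), ?_⟩
  show Additive.toMul (π0 (j : ZMod P.g)) = x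
  rw [ZMod.lift_coe]
  exact Subtype.ext (by simpa [k'] using hj)

/-- The multiplier of a group with generators subject to exactly the relations. -/
theorem multiplier {G : Type} [Group G] (a b : G) (h : Rel P a b)
    (hgen : Subgroup.closure ({a, b} : Set G) = ⊤)
    (huniv : ∀ (H : Type) [Group H] (x y : H), Rel P x y → ∃ ψ : G →* H, ψ a = x ∧ ψ b = y)
    (hg : P.g = Nat.gcd P.l (Nat.gcd P.d P.S)) : Cfsg.HasCyclicSchurMultiplier G P.g := by
  obtain ⟨σ, hσA, hσB, hσK⟩ := exists_proj P a b h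
  obtain ⟨H, _, π, hrel, hker, hord⟩ := exists_section P
  obtain ⟨ψ, hψa, hψb⟩ := huniv H _ _ hrel
  have hπK : π (cvK P) = 1 := by
    have h2 := congrArg π (cv_conj P)
    rw [map_mul, map_mul, map_mul, map_inv, hrel.2.2, map_pow, map_zpow, left_eq_mul] at h2
    have h1 := congrArg π (cv_pow_m P)
    rw [map_pow, hrel.1, map_zpow] at h1
    have h3 : π (cvK P) ^ (P.α * P.R + P.β * P.e) = 1 := by
      rw [zpow_add, zpow_mul, zpow_mul, ← h1, h2, one_zpow, one_zpow, mul_one]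
    rwa [P.hαβ, zpow_one] at h3
  have hcomp : ∀ y, ψ (σ y) = π y := by
    intro y
    obtain ⟨i, j, s, rfl⟩ := cv_surj P y
    simp only [map_mul, map_zpow, hσA, hσB, hσK, one_zpow, mul_one, hψa, hψb, hπK]
  have hsurj : Function.Surjective σ := by
    rw [← MonoidHom.range_eq_top, eq_top_iff, ← hgen, Subgroup.closure_le]
    rintro x (rfl | rfl)
    exacts [⟨_, hσA⟩, ⟨_, hσB⟩]
  have hkerσ : σ.ker = Subgroup.zpowers (cvK P) := by
    refine le_antisymm (fun y hy => hker y ?_) (Subgroup.zpowers_le.2 hσK)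
    rw [← hcomp, MonoidHom.mem_ker.1 hy, map_one]
  have horda : ∀ i : ℤ, a ^ i = 1 → ((P.d * P.e : ℕ) : ℤ) ∣ i := fun i hi => hord i (by
    rw [← hψa, ← map_zpow, hi, map_one])
  refine ⟨⟨Cv P, inferInstance, cv_finite P, σ, ⟨hsurj, ?_, ?_⟩, ⟨?_⟩⟩,
    fun Γ _ _ τ hτ => upper P a b h hgen horda hg τ hτ⟩
  · rw [hkerσ]; exact Subgroup.zpowers_le.2 (cvK_central P)
  · rw [hkerσ, Subgroup.zpowers_le]
    have hK : ∀ u, Commute (cvK P) u := fun u => (Subgroup.mem_center_iff.1 (cvK_central P) u).symm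
    have h1 : ⁅cvB P, cvA P⁆ = cvA P ^ (P.d * P.R) * cvK P ^ P.β := by
      rw [commutatorElement_def, cv_conj, pow_succ, mul_assoc (cvA P ^ (P.d * P.R)),
        ← ((hK (cvA P)).zpow_left P.β).eq]
      group
    have h2 : cvK P = ⁅cvB P, cvA P⁆ ^ P.e := by
      rw [h1, ((hK _).zpow_left P.β).symm.mul_pow, ← pow_mul,
        show P.d * P.R * P.e = P.d * P.e * P.R by ring, pow_mul, cv_pow_m, ← zpow_natCast,
        ← zpow_natCast (cvK P ^ P.β), ← zpow_mul, ← zpow_mul, ← zpow_add, P.hαβ, zpow_one]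
    rw [h2]
    exact pow_mem (Subgroup.commutator_mem_commutator (Subgroup.mem_top _) (Subgroup.mem_top _)) _
  · have hord2 : orderOf (cvK P) = P.g :=
      Nat.dvd_antisymm (orderOf_dvd_of_pow_eq_one (cvK_pow_g P))
        (Int.natCast_dvd_natCast.1 (cvK_pow_eq_one P (by rw [zpow_natCast, pow_orderOf_eq_one])))
    have e : Multiplicative (ZMod (Nat.card (Subgroup.zpowers (cvK P)))) ≃* Subgroup.zpowers (cvK P) :=
      zmodCyclicMulEquiv inferInstance
    rw [Nat.card_zpowers, hord2] at e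
    exact (MulEquiv.subgroupCongr hkerσ).trans e.symm

/-- Let `m, n ≥ 1`, `r ≥ 1` with `r ^ n ≡ 1 (mod m)`, and `l` a natural number; put `d = gcd(m, r - 1)`, `t = m l / d` and `h = d · gcd(m, 1 + r + ⋯ + r^(n-1)) / m`. The group presented by generators `a, b` and relations `a ^ m = 1`, `b ^ n = a ^ t`, `b a b⁻¹ = a ^ r` (a metacyclic group of order `m n`) has Schur multiplier cyclic of order `gcd(l, h)`. -/
theorem result (m n r l : ℕ) (hm : 0 < m) (hn : 0 < n) (hr : 0 < r) (hrn : r ^ n ≡ 1 [MOD m]) : Cfsg.HasCyclicSchurMultiplier (PresentedGroup ({FreeGroup.of true ^ m, (FreeGroup.of false) ^ n * (FreeGroup.of true ^ (m * l / Nat.gcd m (r - 1)))⁻¹, FreeGroup.of false * FreeGroup.of true * (FreeGroup.of false)⁻¹ * (FreeGroup.of true ^ r)⁻¹} : Set (FreeGroup Bool))) (Nat.gcd l (Nat.gcd m (r - 1) * Nat.gcd m (∑ i ∈ Finset.range n, r ^ i) / m)) := by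
  set d := Nat.gcd m (r - 1) with hd
  have hd0 : 0 < d := Nat.gcd_pos_of_pos_left _ hm
  obtain ⟨e, R, hco, hme, hrR⟩ := Nat.exists_coprime m (r - 1)
  have hme' : m = d * e := by rw [hme, mul_comm]
  have hr' : r = d * R + 1 := by rw [mul_comm, ← hrR]; omega
  have he0 : 0 < e := by
    rcases Nat.eq_zero_or_pos e with h | h
    · rw [h, mul_zero] at hme'; omega
    · exact h
  have heS : e ∣ ∑ i ∈ Finset.range n, r ^ i := by
    have h1 : m ∣ (∑ i ∈ Finset.range n, r ^ i) * (d * R) := by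
      have h2 := geom_sum_mul_add (d * R) n
      rw [← hr'] at h2
      have h3 : 1 ≤ r ^ n := Nat.one_le_pow _ _ hr
      have h4 := (Nat.modEq_iff_dvd' h3).1 hrn.symm
      rwa [← h2, Nat.add_sub_cancel] at h4
    rw [hme', show (∑ i ∈ Finset.range n, r ^ i) * (d * R) = d * (R * ∑ i ∈ Finset.range n, r ^ i) by
      ring] at h1
    exact hco.dvd_of_dvd_mul_left ((Nat.mul_dvd_mul_iff_left hd0).1 h1)
  obtain ⟨S, hS⟩ := heS
  have hh : d * Nat.gcd m (∑ i ∈ Finset.range n, r ^ i) / m = Nat.gcd d S := by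
    rw [hS, hme', mul_comm d e, Nat.gcd_mul_left, ← mul_assoc, mul_comm d e,
      Nat.mul_div_cancel_left _ (Nat.mul_pos he0 hd0)]
  rw [hh]
  have ht : m * l / d = e * l := by
    rw [hme', mul_assoc, Nat.mul_div_cancel_left _ hd0]
  have hαβ : Nat.gcdA R e * R + Nat.gcdB R e * e = 1 := by
    have h := Nat.gcd_eq_gcd_ab R e
    rw [hco.symm.gcd_eq_one, Nat.cast_one] at h
    rw [h]; ring
  let P : Par :=
    { d := d, e := e, R := R, n := n, l := l, S := S, g := Nat.gcd l (Nat.gcd d S),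
      α := Nat.gcdA R e, β := Nat.gcdB R e, hd := hd0, he := he0, hn := hn,
      hg := Nat.gcd_pos_of_pos_right _ (Nat.gcd_pos_of_pos_left _ hd0),
      hαβ := hαβ, hS := by rw [← hr']; exact hS,
      gd := (Nat.gcd_dvd_right _ _).trans (Nat.gcd_dvd_left _ _),
      gl := Nat.gcd_dvd_left _ _,
      gS := (Nat.gcd_dvd_right _ _).trans (Nat.gcd_dvd_right _ _) }
  refine multiplier P (PresentedGroup.of true) (PresentedGroup.of false) ?_ ?_ ?_ rfl
  · refine ⟨?_, ?_, ?_⟩
    · show (PresentedGroup.of true) ^ (d * e) = 1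
      rw [← hme']
      exact PresentedGroup.one_of_mem (Set.mem_insert _ _)
    · show (PresentedGroup.of false) ^ n = (PresentedGroup.of true) ^ (e * l)
      rw [← ht, ← mul_inv_eq_one]
      exact PresentedGroup.one_of_mem (Set.mem_insert_of_mem _ (Set.mem_insert _ _))
    · show _ = (PresentedGroup.of true) ^ (d * R + 1)
      rw [← hr', ← mul_inv_eq_one]
      exact PresentedGroup.one_of_mem (Set.mem_insert_of_mem _ (Set.mem_insert_of_mem _ rfl))
  · rw [eq_top_iff, ← PresentedGroup.closure_range_of, Subgroup.closure_le]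
    rintro _ ⟨(_ | _), rfl⟩ <;> exact Subgroup.subset_closure (by simp)
  · intro H _ x y hxy
    obtain ⟨h1, h2, h3⟩ := hxy
    refine ⟨PresentedGroup.toGroup (f := fun u : Bool => bif u then x else y) ?_,
      PresentedGroup.toGroup.of _, PresentedGroup.toGroup.of _⟩
    rintro w (rfl | rfl | rfl)
    · simp only [map_pow, FreeGroup.lift_apply_of, cond_true]
      rw [hme']; exact h1
    · simp only [map_mul, map_inv, map_pow, FreeGroup.lift_apply_of, cond_true, cond_false]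
      rw [ht, mul_inv_eq_one]; exact h2
    · simp only [map_mul, map_inv, map_pow, FreeGroup.lift_apply_of, cond_true, cond_false]
      rw [hr', mul_inv_eq_one]; exact h3

end Cfsg.Agent.S3967
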