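import Cfsg.Statements.S3968
import Mathlib
import Cfsg.Agent.Lib.Char.Integral

set_option autoImplicit false
open Cfsg

namespace Cfsg.Agent.S3968

open Module

theorem eq_one_of_not_scalar {G : Type*} [Group G] [Finite G] {V : Type*} [AddCommGroup V]
    [Module ℂ V] [FiniteDimensional ℂ V] (ρ : Representation ℂ G V) (hinj : Function.Injective ρ)
    (g : G) (ω : ℂ) (h : ρ g = ω • (1 : V →ₗ[ℂ] V)) : g ∈ Subgroup.center G := by
  rw [Subgroup.mem_center_iff]
  intro x
  apply hinj
  rw [map_mul, map_mul, h]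
  ext v
  simp

/-- If the trace vanishes on `Z ∖ 1` then the order of `Z` divides the dimension. -/
theorem card_dvd_finrank {Z : Type*} [Group Z] [Finite Z] {V : Type*} [AddCommGroup V]
    [Module ℂ V] [FiniteDimensional ℂ V] (σ : Representation ℂ Z V)
    (h0 : ∀ z : Z, z ≠ 1 → σ.character z = 0) : Nat.card Z ∣ finrank ℂ V := by
  classical
  have := Fintype.ofFinite Z
  have hZ : (Nat.card Z : ℂ) ≠ 0 := Nat.cast_ne_zero.mpr Nat.card_pos.ne'
  have : Invertible (Nat.card Z : ℂ) := invertibleOfNonzero hZ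
  have h := Representation.card_inv_mul_sum_char_eq_finrank σ
  rw [Finset.sum_eq_single (1 : Z) (fun z _ hz => h0 z hz) (by simp), Representation.char_one,
    inv_mul_eq_iff_eq_mul₀ hZ] at h
  exact Dvd.intro _ (by exact_mod_cast h.symm)

/-- The commutant of a regular cyclic group of prime order is commutative. -/
theorem commute_of_commute {Z : Type*} [Group Z] [Finite Z] (hab : ∀ a b : Z, a * b = b * a)
    {V : Type*} [AddCommGroup V]
    [Module ℂ V] [FiniteDimensional ℂ V] (σ : Representation ℂ Z V)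
    (hcard : Nat.card Z = finrank ℂ V) (h0 : ∀ z : Z, z ≠ 1 → σ.character z = 0)
    (A B : V →ₗ[ℂ] V) (hA : ∀ z, σ z * A = A * σ z) (hB : ∀ z, σ z * B = B * σ z) :
    A * B = B * A := by
  classical
  have := Fintype.ofFinite Z
  have hZ : (Nat.card Z : ℂ) ≠ 0 := Nat.cast_ne_zero.mpr Nat.card_pos.ne'
  have : Invertible (Nat.card Z : ℂ) := invertibleOfNonzero hZ
  have hdim : finrank ℂ (Representation.linHom σ σ).invariants = Nat.card Z := by
    have h := Representation.card_inv_mul_sum_char_eq_finrank (Representation.linHom σ σ)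
    simp only [Representation.char_linHom] at h
    rw [Finset.sum_eq_single (1 : Z) (fun z _ hz => by rw [h0 z hz, mul_zero]) (by simp),
      inv_one, Representation.char_one, ← hcard, ← mul_assoc, inv_mul_cancel₀ hZ, one_mul] at h
    exact_mod_cast h.symm
  have hmem : ∀ (T : V →ₗ[ℂ] V), (∀ z, σ z * T = T * σ z) →
      T ∈ (Representation.linHom σ σ).invariants := by
    intro T hT
    rw [Representation.mem_invariants]
    intro z
    show σ z * (T * σ z⁻¹) = T
    rw [← mul_assoc, hT, mul_assoc, ← map_mul, mul_inv_cancel, map_one, mul_one]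
  let v : Z → (Representation.linHom σ σ).invariants := fun y =>
    ⟨σ y, hmem _ fun z => by rw [← map_mul, ← map_mul, hab]⟩
  have hli : LinearIndependent ℂ v := by
    apply LinearIndependent.of_comp (Submodule.subtype _)
    rw [Fintype.linearIndependent_iff]
    intro c hc y
    have h1 : ∑ x : Z, c x • σ x = 0 := hc
    have h2 := congrArg (fun T : V →ₗ[ℂ] V => LinearMap.trace ℂ V (T * σ y⁻¹)) h1
    simp only [Finset.sum_mul, smul_mul_assoc, zero_mul, map_zero, map_sum, map_smul, ← map_mul,
      smul_eq_mul] at h2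
    rw [Finset.sum_eq_single y] at h2
    · rw [mul_inv_cancel, map_one, LinearMap.trace_one, ← hcard] at h2
      exact (mul_eq_zero.mp h2).resolve_right hZ
    · intro x _ hx
      have := h0 (x * y⁻¹) (fun e => hx (mul_inv_eq_one.mp e))
      rw [show LinearMap.trace ℂ V (σ (x * y⁻¹)) = σ.character (x * y⁻¹) from rfl, this, mul_zero]
    · simp
  have hspan := hli.span_eq_top_of_card_eq_finrank
    (by rw [hdim, Nat.card_eq_fintype_card])
  have hcomm : ∀ T : V →ₗ[ℂ] V, (∀ z, σ z * T = T * σ z) →
      ∀ W ∈ (Representation.linHom σ σ).invariants, W * T = T * W := by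
    intro T hT W hW
    have hW' : (⟨W, hW⟩ : (Representation.linHom σ σ).invariants) ∈ Submodule.span ℂ (Set.range v) :=
      hspan ▸ Submodule.mem_top
    obtain ⟨c, hc⟩ := (Submodule.mem_span_range_iff_exists_fun ℂ).mp hW'
    have hW'' : W = ∑ x : Z, c x • σ x := by
      have := congrArg Subtype.val hc
      simp only [AddSubmonoidClass.coe_finsetSum, SetLike.val_smul] at this
      exact this.symm
    rw [hW'', Finset.sum_mul, Finset.mul_sum]
    exact Finset.sum_congr rfl fun x _ => by rw [smul_mul_assoc, mul_smul_comm, hT]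
  exact hcomm B hB A (hmem A hA)


/-- Let `p` be a prime and `G` a finite group with a faithful irreducible complex character of degree `p` (so `G` is an irreducible linear group in `p` variables). If `p ^ 2` divides the order of `G`, then the centre of `G` is nontrivial. -/
theorem result {G : Type*} [Group G] [Finite G] (p : ℕ) (hp : p.Prime) (χ : Cfsg.IrrCharacter G) (hdeg : χ.1 1 = p) (hfaith : ∀ g : G, χ.1 g = χ.1 1 → g = 1) (hdiv : p ^ 2 ∣ Nat.card G) : Subgroup.center G ≠ ⊥ := by
  classical
  obtain ⟨n, ρ, hρ, hχ⟩ := χ.2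
  have := Fact.mk hp
  have hn : finrank ℂ (Fin n → ℂ) = p := by
    have h1 := Representation.char_one ρ
    rw [hχ, hdeg] at h1
    exact_mod_cast h1.symm
  have hinj : Function.Injective ρ := by
    intro a b hab
    have h1 : ρ (a * b⁻¹) = 1 := by rw [map_mul, hab, ← map_mul, mul_inv_cancel, map_one]
    refine mul_inv_eq_one.mp (hfaith _ ?_)
    rw [← hχ]
    show LinearMap.trace ℂ _ (ρ (a * b⁻¹)) = LinearMap.trace ℂ _ (ρ 1)
    rw [h1, map_one ρ]
  intro hcen
  obtain ⟨P⟩ : Nonempty (Sylow p G) := inferInstance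
  have hP2 : p ^ 2 ∣ Nat.card (P : Subgroup G) := by
    rw [Sylow.card_eq_multiplicity]
    exact pow_dvd_pow p ((hp.pow_dvd_iff_le_factorization Nat.card_pos.ne').mp hdiv)
  set Z := Subgroup.center (P : Subgroup G)
  let σ : Representation ℂ Z (Fin n → ℂ) :=
    ρ.comp ((P : Subgroup G).subtype.comp Z.subtype)
  have h0 : ∀ z : Z, z ≠ 1 → σ.character z = 0 := by
    intro z hz
    show ρ.character ((z : (P : Subgroup G)) : G) = 0
    have hidx : ¬ p ∣ (Subgroup.centralizer ({((z : (P : Subgroup G)) : G)} : Set G)).index :=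
      fun h => P.not_dvd_index (h.trans (Subgroup.index_dvd_of_le fun y hy => by
        rw [Subgroup.mem_centralizer_singleton_iff]
        exact congrArg Subtype.val (Subgroup.mem_center_iff.mp z.2 ⟨y, hy⟩)))
    refine (CfsgLib.Char.char_eq_zero_or_norm_eq_finrank ρ _ (by
      rw [hn]; exact (Nat.Prime.coprime_iff_not_dvd hp).mpr hidx)).resolve_right fun hnorm => ?_
    obtain ⟨ω, hω⟩ := CfsgLib.Char.eq_smul_one_of_norm_character_eq ρ _ hnorm
    have := eq_one_of_not_scalar ρ hinj _ ω hω
    rw [hcen, Subgroup.mem_bot] at this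
    exact hz (Subtype.ext (Subtype.ext this))
  have hdZ : Nat.card Z ∣ p := (card_dvd_finrank σ h0).trans hn.dvd
  have : Nontrivial (P : Subgroup G) := by
    rw [← Finite.one_lt_card_iff_nontrivial]
    exact lt_of_lt_of_le (Nat.one_lt_pow two_ne_zero hp.one_lt) (Nat.le_of_dvd Nat.card_pos hP2)
  have := P.2.center_nontrivial
  have hZp : Nat.card Z = p := ((Nat.dvd_prime hp).mp hdZ).resolve_left
    (fun h => (Finite.one_lt_card_iff_nontrivial.mpr this).ne' h)
  have hab : ∀ a b : (P : Subgroup G), a * b = b * a := by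
    intro a b
    apply Subtype.ext
    apply hinj
    simp only [Subgroup.coe_mul, map_mul]
    refine commute_of_commute
      (fun x y => Subtype.ext (Subgroup.mem_center_iff.mp y.2 x.1)) σ (hZp.trans hn.symm) h0 _ _
      (fun z => ?_) (fun z => ?_)
    · show ρ ((z : (P : Subgroup G)) : G) * ρ (a : G) = ρ (a : G) * ρ ((z : (P : Subgroup G)) : G)
      rw [← map_mul, ← map_mul, ← Subgroup.coe_mul, ← Subgroup.coe_mul,
        Subgroup.mem_center_iff.mp z.2 a]
    · show ρ ((z : (P : Subgroup G)) : G) * ρ (b : G) = ρ (b : G) * ρ ((z : (P : Subgroup G)) : G)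
      rw [← map_mul, ← map_mul, ← Subgroup.coe_mul, ← Subgroup.coe_mul,
        Subgroup.mem_center_iff.mp z.2 b]
  have htop : Z = ⊤ := by
    rw [Subgroup.eq_top_iff']
    exact fun x => Subgroup.mem_center_iff.mpr fun y => hab y x
  rw [htop, Subgroup.card_top] at hZp
  rw [hZp] at hP2
  have := Nat.le_of_dvd hp.pos hP2
  have := Nat.lt_of_lt_of_le (lt_self_pow₀ hp.one_lt (by norm_num : 1 < 2)) this
  omega

end Cfsg.Agent.S3968
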