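import Cfsg.Statements.S3969
import Mathlib

set_option autoImplicit false
open Cfsg

namespace Cfsg.Agent.S3969

theorem trivial_of_trivial_on_omega {P : Type*} [CommGroup P] [Finite P] {p q : ℕ} (hp : p.Prime)
    (hP : IsPGroup p P) (hqp : q.Coprime p) (φ : MulAut P) (hφ : φ ^ q = 1)
    (hfix : ∀ y : P, y ^ p = 1 → φ y = y) : φ = 1 := by
  have key : ∀ (k : ℕ) (x : P), x ^ p ^ k = 1 → φ x = x := by
    intro k
    induction k with
    | zero => intro x hx; rw [pow_zero, pow_one] at hx; rw [hx, map_one]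
    | succ k ih =>
      intro x hx
      set y := φ x / x with hy
      have hyp : y ^ p = 1 := by
        rw [hy, div_pow, ← map_pow, ih (x ^ p) (by rw [← pow_mul, ← pow_succ']; exact hx), div_self']
      have hn : ∀ n : ℕ, (φ ^ n) x = y ^ n * x := by
        intro n
        induction n with
        | zero => simp
        | succ n ihn =>
          rw [pow_succ', MulAut.mul_apply, ihn, map_mul, map_pow, hfix y hyp, pow_succ, mul_assoc]
          rw [show φ x = y * x from (div_mul_cancel (φ x) x).symm]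
      have hyq : y ^ q = 1 := by
        have := hn q
        rw [hφ, MulAut.one_apply] at this
        exact mul_eq_right.mp this.symm
      have : y = 1 := orderOf_eq_one_iff.mp (Nat.eq_one_of_dvd_coprimes hqp
        (orderOf_dvd_of_pow_eq_one hyq) (orderOf_dvd_of_pow_eq_one hyp))
      exact div_eq_one.mp this
  ext x
  obtain ⟨k, hk⟩ := hP x
  exact key k x hk

/-- A prime `q ≠ p` dividing the order of an automorphism of an abelian `p`-group of rank `d`
divides some `p ^ i - 1`, `i ≤ d`. -/
theorem exists_dvd_pow_sub_one {P : Type*} [CommGroup P] [Finite P] {p q : ℕ} (hp : p.Prime)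
    (hq : q.Prime) (hqp : q ≠ p) (hP : IsPGroup p P) (φ : MulAut P) (hφ : φ ^ q = 1) (hφ1 : φ ≠ 1) :
    ∃ i ∈ Finset.Icc 1 (Group.rank P), q ∣ p ^ i - 1 := by
  have := Fact.mk hp
  have := Fact.mk hq
  let ν : P →* P := powMonoidHom p
  set Ω := ν.ker
  have hΩ : Nat.card Ω ∣ p ^ Group.rank P := by
    have h1 := Subgroup.card_mul_index Ω
    have h2 := Subgroup.card_mul_index ν.range
    rw [Subgroup.index_ker] at h1
    have h3 : Nat.card Ω = ν.range.index := by
      refine mul_right_cancel₀ (Nat.card_pos (α := ν.range)).ne' ?_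
      rw [h1, mul_comm, h2]
    rw [h3, Subgroup.index_eq_card]
    refine (card_dvd_exponent_pow_rank' (n := p) _ fun g => ?_).trans
      (pow_dvd_pow p (Group.rank_le_of_surjective (QuotientGroup.mk' ν.range)
        (QuotientGroup.mk'_surjective _)))
    obtain ⟨x, rfl⟩ := QuotientGroup.mk'_surjective ν.range g
    rw [← map_pow]
    exact (QuotientGroup.eq_one_iff _).mpr ⟨x, rfl⟩
  have hinv : ∀ ψ : MulAut P, ∀ x ∈ Ω, ψ x ∈ Ω := fun ψ x hx => by
    have hx' : x ^ p = 1 := hx
    show (ψ x) ^ p = 1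
    rw [← map_pow, hx', map_one]
  let _act : MulAction (Subgroup.zpowers φ) Ω :=
    { smul := fun ψ x => ⟨(ψ : MulAut P) x, hinv ψ x x.2⟩
      one_smul := fun x => Subtype.ext rfl
      mul_smul := fun a b x => Subtype.ext rfl }
  have hqg : IsPGroup q (Subgroup.zpowers φ) :=
    IsPGroup.of_card (n := 1) (by rw [Nat.card_zpowers, orderOf_eq_prime hφ hφ1, pow_one])
  have hmod := hqg.card_modEq_card_fixedPoints Ω
  let F : Subgroup Ω :=
    { carrier := MulAction.fixedPoints (Subgroup.zpowers φ) Ω
      one_mem' := fun ψ => Subtype.ext (map_one (ψ : MulAut P))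
      mul_mem' := fun {a b} ha hb ψ => Subtype.ext (by
        show (ψ : MulAut P) ((a : P) * b) = (a : P) * b
        rw [map_mul, show (ψ : MulAut P) (a : P) = a from congrArg Subtype.val (ha ψ),
          show (ψ : MulAut P) (b : P) = b from congrArg Subtype.val (hb ψ)])
      inv_mem' := fun {a} ha ψ => Subtype.ext (by
        show (ψ : MulAut P) ((a : P)⁻¹) = (a : P)⁻¹
        rw [map_inv, show (ψ : MulAut P) (a : P) = a from congrArg Subtype.val (ha ψ)]) }
  obtain ⟨e, he, hΩe⟩ := (Nat.dvd_prime_pow hp).mp hΩ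
  obtain ⟨f, hfe, hFf⟩ := (Nat.dvd_prime_pow hp).mp (hΩe ▸ Subgroup.card_subgroup_dvd_card F)
  have hne : f ≠ e := by
    rintro rfl
    apply hφ1
    refine trivial_of_trivial_on_omega hp hP ((Nat.coprime_primes hq hp).mpr hqp) φ hφ fun y hy => ?_
    have htop : F = ⊤ := Subgroup.eq_top_of_card_eq F (hFf.trans hΩe.symm)
    have hm : (⟨y, hy⟩ : Ω) ∈ F := htop ▸ Subgroup.mem_top _
    exact congrArg Subtype.val (hm ⟨φ, Subgroup.mem_zpowers φ⟩)
  refine ⟨e - f, Finset.mem_Icc.mpr ⟨by omega, by omega⟩, ?_⟩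
  have h4 : p ^ e ≡ p ^ f [MOD q] := by
    have : Nat.card (MulAction.fixedPoints (Subgroup.zpowers φ) Ω) = p ^ f := hFf
    rwa [hΩe, this] at hmod
  have h5 : q ∣ p ^ f * (p ^ (e - f) - 1) := by
    rw [Nat.mul_sub, mul_one, ← pow_add, Nat.add_sub_cancel' hfe]
    exact (Nat.modEq_iff_dvd' (Nat.pow_le_pow_right hp.pos hfe)).mp h4.symm
  exact (((Nat.coprime_primes hq hp).mpr hqp).pow_right f).dvd_of_dvd_mul_left h5

/-- Burnside: abelian Sylow subgroup whose automorphisms of prime order coprime to `p` do not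
occur. -/
theorem hasNormalPComplement_of_no_prime {G : Type*} [Group G] [Finite G] {p : ℕ} [Fact p.Prime]
    (P : Sylow p G) (hab : IsMulCommutative (P : Subgroup G))
    (h : ∀ q : ℕ, q.Prime → q ∣ Nat.card G → q ≠ p →
      ∀ i ∈ Finset.Icc 1 (Group.rank (P : Subgroup G)), ¬ q ∣ p ^ i - 1) :
    Cfsg.HasNormalPComplement p G := by
  have hp : p.Prime := Fact.out
  suffices hNC : Subgroup.normalizer ((P : Subgroup G) : Set G) ≤
      Subgroup.centralizer ((P : Subgroup G) : Set G) from
    ⟨P, (MonoidHom.transferSylow P hNC).ker, MonoidHom.normal_ker _,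
      MonoidHom.ker_transferSylow_isComplement' P hNC⟩
  set N := Subgroup.normalizer ((P : Subgroup G) : Set G)
  set C := (Subgroup.centralizer ((P : Subgroup G) : Set G)).subgroupOf N
  have hPC : (P : Subgroup G) ≤ Subgroup.centralizer ((P : Subgroup G) : Set G) :=
    Subgroup.le_centralizer (P : Subgroup G)
  rw [← Subgroup.subgroupOf_eq_top]
  show C = ⊤
  rw [← Subgroup.index_eq_one]
  by_contra hne
  obtain ⟨q, hq, hqd⟩ := Nat.exists_prime_and_dvd hne
  have := Fact.mk hq
  have hCn : C.Normal := inferInstance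
  have hqp : q ≠ p := by
    rintro rfl
    apply (P.subtype (Subgroup.le_normalizer (H := (P : Subgroup G)))).not_dvd_index
    refine hqd.trans (Subgroup.index_dvd_of_le ?_)
    rw [Sylow.coe_subtype]
    exact Subgroup.comap_mono hPC
  obtain ⟨c, hc⟩ := exists_prime_orderOf_dvd_card' (G := N ⧸ C) q hqd
  obtain ⟨g, rfl⟩ := QuotientGroup.mk'_surjective C c
  have hmem : ∀ x : (P : Subgroup G), (g : G) * x * (g : G)⁻¹ ∈ (P : Subgroup G) :=
    fun x => (Subgroup.mem_normalizer_iff.mp g.2 _).mp x.2
  let Ψ : N →* MulAut (P : Subgroup G) := (P : Subgroup G).normalizerMonoidHom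
  have hker : Ψ.ker = C := Subgroup.normalizerMonoidHom_ker _
  let _cg : CommGroup (P : Subgroup G) :=
    { (inferInstance : Group (P : Subgroup G)) with mul_comm := fun a b => hab.is_comm.comm a b }
  obtain ⟨i, hi, hdvd⟩ := exists_dvd_pow_sub_one hp hq hqp P.2 (Ψ g)
    (by
      rw [← map_pow, ← MonoidHom.mem_ker, hker, ← QuotientGroup.eq_one_iff, QuotientGroup.mk_pow,
        ← hc]
      exact pow_orderOf_eq_one _)
    (fun h1 => by
      rw [← MonoidHom.mem_ker, hker, ← QuotientGroup.eq_one_iff] at h1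
      rw [QuotientGroup.mk'_apply, h1, orderOf_one] at hc
      exact hq.one_lt.ne hc)
  exact h q hq ((hqd.trans (Subgroup.index_dvd_card C)).trans (Subgroup.card_subgroup_dvd_card N))
    hqp i hi hdvd


/-- Let `P` be an abelian Sylow `p`-subgroup of the finite group `G`, generated by `d` elements (`d` its minimal number of generators). If the order of `G` is coprime to `(p - 1)(p ^ 2 - 1) ⋯ (p ^ d - 1)`, then `G` has a normal `p`-complement. (The classical statement needs only the largest number of cyclic factors of `P` of equal order in place of `d`; the form here follows from it.) -/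
theorem result {G : Type*} [Group G] [Finite G] (p : ℕ) [Fact p.Prime] (P : Sylow p G) (hab : IsMulCommutative (P : Subgroup G)) (hcop : Nat.Coprime (Nat.card G) (∏ i ∈ Finset.Icc 1 (Group.rank (P : Subgroup G)), (p ^ i - 1))) : Cfsg.HasNormalPComplement p G := by
  refine hasNormalPComplement_of_no_prime P hab fun q hq hqG _ i hi hdvd => ?_
  have h := hdvd.trans (Finset.dvd_prod_of_mem (fun j => p ^ j - 1) hi)
  exact hq.one_lt.ne' (Nat.eq_one_of_dvd_coprimes hcop hqG h)

end Cfsg.Agent.S3969
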