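import Cfsg.Statements.S3970
import Mathlib
import Cfsg.Agent.S3969

set_option autoImplicit false
open Cfsg

namespace Cfsg.Agent.S3970

universe u

theorem solvable_aux : ∀ (n : ℕ) (G : Type u) [Group G] [Finite G], Nat.card G = n →
    (∀ p : ℕ, p.Prime → p ∣ Nat.card G → (∃ q : ℕ, q.Prime ∧ q ∣ Nat.card G ∧ p < q) →
      ∀ P : Sylow p G, IsMulCommutative (P : Subgroup G) ∧ Group.rank (P : Subgroup G) ≤ 2) →
    ¬ 12 ∣ Nat.card G → Group.IsSolvable G := by
  intro n
  induction n using Nat.strong_induction_on with
  | _ n IH =>
  intro G _ _ hn h h12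
  rcases eq_or_ne (Nat.card G) 1 with h1 | h1
  · have : Subsingleton G := (Nat.card_eq_one_iff_unique.mp h1).1
    infer_instance
  set p := (Nat.card G).minFac
  have hp : p.Prime := Nat.minFac_prime h1
  have := Fact.mk hp
  have hpG : p ∣ Nat.card G := Nat.minFac_dvd _
  by_cases hq : ∃ q : ℕ, q.Prime ∧ q ∣ Nat.card G ∧ p < q
  swap
  · push Not at hq
    have : IsPGroup p G := by
      refine IsPGroup.of_card (n := (Nat.card G).primeFactorsList.length) ?_
      exact Nat.eq_prime_pow_of_unique_prime_dvd Nat.card_pos.ne' fun {r} hr hrd =>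
        le_antisymm (hq r hr hrd) (Nat.minFac_le_of_dvd hr.two_le hrd)
    have : Group.IsNilpotent G := this.isNilpotent
    infer_instance
  obtain ⟨P⟩ : Nonempty (Sylow p G) := inferInstance
  obtain ⟨hab, hrk⟩ := h p hp hpG hq P
  obtain ⟨P', N, hNn, hN⟩ : Cfsg.HasNormalPComplement p G := by
    refine Cfsg.Agent.S3969.hasNormalPComplement_of_no_prime P hab fun r hr hrG hrp i hi hdvd => ?_
    have hlt : p < r := lt_of_le_of_ne (Nat.minFac_le_of_dvd hr.two_le hrG) hrp.symm
    have h2 := hp.two_le
    rcases Finset.mem_Icc.mp hi with ⟨hi1, hi2⟩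
    have hi2' : i ≤ 2 := hi2.trans hrk
    interval_cases i
    · have := Nat.le_of_dvd (by simp; omega) hdvd
      simp at this; omega
    · rw [show p ^ 2 - 1 = (p + 1) * (p - 1) by rw [← Nat.sq_sub_sq, one_pow]] at hdvd
      rcases hr.dvd_mul.mp hdvd with hd | hd
      · have hle := Nat.le_of_dvd (by omega) hd
        have hre : r = p + 1 := by omega
        have hp2 : p = 2 := by
          rcases hp.eq_two_or_odd with e | e
          · exact e
          · rcases hr.eq_two_or_odd with e' | e' <;> omega
        -- `4 ∤ |G|`, so `P` has order two and rank at most one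
        have hPc : Nat.card (P : Subgroup G) = 2 := by
          have hv : Nat.card (P : Subgroup G) = p ^ (Nat.card G).factorization p :=
            Sylow.card_eq_multiplicity P
          have hdG : Nat.card (P : Subgroup G) ∣ Nat.card G := Subgroup.card_subgroup_dvd_card _
          generalize (Nat.card G).factorization p = v at hv
          rcases v with _ | _ | v
          · exact absurd (P.ne_bot_of_dvd_card hpG) (by
              rw [not_not, ← Subgroup.card_eq_one, hv, pow_zero])
          · rw [hv, zero_add, pow_one, hp2]
          · exfalso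
            apply h12
            refine Nat.Coprime.mul_dvd_of_dvd_of_dvd (show Nat.Coprime 3 4 by decide) ?_ ?_
            · rw [show 3 = r by omega]; exact hrG
            · refine dvd_trans ?_ hdG
              rw [hv, hp2, pow_succ, pow_succ, mul_assoc]
              exact dvd_mul_left _ _
        have := Fact.mk Nat.prime_two
        have hc : IsCyclic (P : Subgroup G) := isCyclic_of_prime_card hPc
        obtain ⟨g, hg⟩ := hc.exists_zpow_surjective
        have : Group.rank (P : Subgroup G) ≤ 1 := by
          have := Group.rank_le (G := (P : Subgroup G)) (S := {g}) (by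
            rw [Finset.coe_singleton, ← Subgroup.zpowers_eq_closure, Subgroup.eq_top_iff']
            exact hg)
          simpa using this
        omega
      · have := Nat.le_of_dvd (by omega) hd; omega
  have hlt : Nat.card N < n := by
    rw [← hn, ← hN.card_mul_card]
    refine lt_mul_of_one_lt_right Nat.card_pos ?_
    refine lt_of_le_of_ne Nat.card_pos fun e => P'.ne_bot_of_dvd_card hpG ?_
    exact Subgroup.card_eq_one.mp e.symm
  have hNsol : Group.IsSolvable N := by
    refine IH _ hlt N rfl (fun r hr hrN hex R => ?_) (fun h12' =>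
      h12 (h12'.trans (Subgroup.card_subgroup_dvd_card N)))
    have := Fact.mk hr
    obtain ⟨s, hs, hsN, hrs⟩ := hex
    obtain ⟨R', hR'⟩ := (R.2.map N.subtype).exists_le_sylow
    obtain ⟨hab', hrk'⟩ := h r hr (hrN.trans (Subgroup.card_subgroup_dvd_card N))
      ⟨s, hs, hsN.trans (Subgroup.card_subgroup_dvd_card N), hrs⟩ R'
    have hrp : r ≠ p := by
      intro e
      obtain ⟨k, hk⟩ := IsPGroup.iff_card.mp P'.2
      have hidx : N.index = Nat.card (P' : Subgroup G) := hN.symm.index_eq_card
      have hcop : ¬ p ∣ Nat.card N := by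
        rw [← hN.index_eq_card]; exact P'.not_dvd_index
      exact hcop (e ▸ hrN)
    -- a Sylow subgroup of `N` is one of `G`
    have hcard : Nat.card ((R : Subgroup N).map N.subtype) = Nat.card (R' : Subgroup G) := by
      rw [Subgroup.card_map_of_injective N.subtype_injective, Sylow.card_eq_multiplicity,
        Sylow.card_eq_multiplicity, ← hN.card_mul_card,
        Nat.factorization_mul Nat.card_pos.ne' Nat.card_pos.ne', Finsupp.add_apply]
      obtain ⟨k, hk⟩ := IsPGroup.iff_card.mp P'.2
      rw [hk, hp.factorization_pow, Finsupp.single_eq_of_ne hrp, add_zero]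
    have heq := Subgroup.eq_of_le_of_card_ge hR' hcard.ge
    let e : (R : Subgroup N) ≃* (R' : Subgroup G) :=
      ((R : Subgroup N).equivMapOfInjective N.subtype N.subtype_injective).trans
        (MulEquiv.subgroupCongr heq)
    refine ⟨⟨⟨fun a b => e.injective ?_⟩⟩, ?_⟩
    · rw [map_mul, map_mul]; exact hab'.is_comm.comm _ _
    · exact (Group.rank_congr e).trans_le hrk'
  have hP : IsPGroup p (G ⧸ N) := by
    obtain ⟨k, hk⟩ := IsPGroup.iff_card.mp P'.2
    exact IsPGroup.of_card (n := k) (by rw [← Subgroup.index_eq_card, hN.symm.index_eq_card, hk])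
  have : Group.IsNilpotent (G ⧸ N) := hP.isNilpotent
  exact Group.isSolvable_of_ker_le_range N.subtype (QuotientGroup.mk' N) (by simp)


/-- Let `G` be a finite group such that for every prime `p` dividing its order, other than the largest such prime, the Sylow `p`-subgroups are abelian and generated by at most two elements, and suppose `12` does not divide the order of `G`. Then `G` is solvable. In particular a group of cube-free order not divisible by `12` is solvable. -/
theorem result {G : Type*} [Group G] [Finite G] (h : ∀ p : ℕ, p.Prime → p ∣ Nat.card G → (∃ q : ℕ, q.Prime ∧ q ∣ Nat.card G ∧ p < q) → ∀ P : Sylow p G, IsMulCommutative (P : Subgroup G) ∧ Group.rank (P : Subgroup G) ≤ 2) (h12 : ¬ 12 ∣ Nat.card G) : Group.IsSolvable G := by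
  exact solvable_aux _ G rfl h h12

end Cfsg.Agent.S3970
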