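import Cfsg.Statements.S3971
import Mathlib
import Cfsg.Agent.Lib.Transfer.Tate
import Cfsg.Agent.Lib.Transfer.PGroup
import Cfsg.Agent.Lib.Solvable.CoprimeAction

set_option autoImplicit false
open Cfsg

namespace Cfsg.Agent.S3971

theorem two_group_automizer {G : Type*} [Group G] [Finite G] {a n : ℕ}
    (hG : Nat.card G = 2 ^ a * n) (hn : Odd n) (h3 : ¬ 3 ∣ n) {x : G}
    (hx : orderOf x = 2 ^ (a - 1)) (D : Subgroup G) (hD : IsPGroup 2 D) (g : G)
    (hg : g ∈ Subgroup.normalizer (D : Set G)) (hgc : Nat.Coprime (orderOf g) 2) :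
    g ∈ Subgroup.centralizer (D : Set G) := by
  have := Fact.mk Nat.prime_two
  -- a cyclic subgroup `E` of `D` of index at most two
  obtain ⟨P, hDP⟩ := hD.exists_le_sylow
  obtain ⟨P', hP'⟩ := (IsPGroup.of_card (p := 2) (n := a - 1)
    ((Nat.card_zpowers x).trans hx)).exists_le_sylow
  obtain ⟨u, hu⟩ := MulAction.exists_smul_eq G P' P
  set y := u * x * u⁻¹ with hy_def
  have hyord : orderOf y = 2 ^ (a - 1) := by
    rw [← hx]; exact (MulAut.conj u).orderOf_eq x
  have hy : y ∈ (P : Subgroup G) := by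
    rw [← hu, Sylow.coe_subgroup_smul, Subgroup.mem_pointwise_smul_iff_inv_smul_mem]
    simp only [MulAut.smul_def]
    rw [show (MulAut.conj u)⁻¹ y = x by simp [hy_def, mul_assoc]]
    exact hP' (Subgroup.mem_zpowers x)
  have hPc : Nat.card (P : Subgroup G) = 2 ^ a := by
    rw [Sylow.card_eq_multiplicity, hG, Nat.factorization_mul (by positivity)
      (fun h => by simp [h] at hn), Finsupp.add_apply, Nat.prime_two.factorization_pow,
      Finsupp.single_eq_same, Nat.factorization_eq_zero_of_not_dvd hn.not_two_dvd_nat, add_zero]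
  have hidx : (Subgroup.zpowers y).relIndex (P : Subgroup G) ≤ 2 := by
    have h1 := Subgroup.card_mul_index ((Subgroup.zpowers y).subgroupOf (P : Subgroup G))
    rw [Nat.card_congr (Subgroup.subgroupOfEquivOfLe (Subgroup.zpowers_le.mpr hy)).toEquiv,
      Nat.card_zpowers, hyord, hPc] at h1
    by_contra h
    push Not at h
    have h2 : 2 ^ a ≤ 2 ^ (a - 1) * 2 := by
      rw [← pow_succ]; exact Nat.pow_le_pow_right two_pos (by omega)
    have h3' : 2 ^ (a - 1) * 3 ≤ 2 ^ a := by
      rw [← h1]; exact Nat.mul_le_mul_left _ h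
    have := Nat.two_pow_pos (a - 1)
    omega
  set E := (Subgroup.zpowers y).subgroupOf D
  have hEcyc : IsCyclic E :=
    isCyclic_of_injective (MonoidHom.codRestrict ((D.subtype).comp E.subtype) (Subgroup.zpowers y)
      fun z => z.2) fun z w h => Subtype.ext (Subtype.ext (congrArg
        (fun t : Subgroup.zpowers y => (t : G)) h))
  have hE2 : E.index ≤ 2 := by
    refine le_trans ?_ hidx
    exact Subgroup.relIndex_le_of_le_right hDP Subgroup.index_ne_zero_of_finite
  obtain ⟨e, he⟩ := hEcyc.exists_zpow_surjective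
  obtain ⟨d, hgen⟩ : ∃ d : D, Subgroup.closure ({(e : D), d} : Set D) = ⊤ := by
    by_cases hall : ∀ d : D, d ∈ E
    · refine ⟨e, Subgroup.eq_top_iff' _ |>.mpr fun d => ?_⟩
      obtain ⟨k, hk⟩ := he ⟨d, hall d⟩
      rw [show d = (e : D) ^ k from (congrArg Subtype.val hk).symm]
      exact zpow_mem (Subgroup.subset_closure (by simp)) _
    · push Not at hall
      obtain ⟨d, hd⟩ := hall
      refine ⟨d, ?_⟩
      set K := Subgroup.closure ({(e : D), d} : Set D)
      have hEK : E ≤ K := fun z hz => by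
        obtain ⟨k, hk⟩ := he ⟨z, hz⟩
        rw [show z = (e : D) ^ k from (congrArg Subtype.val hk).symm]
        exact zpow_mem (Subgroup.subset_closure (by simp)) _
      have h1 := Subgroup.relIndex_mul_index hEK
      have h2 : E.relIndex K ≠ 1 := fun h =>
        hd (Subgroup.relIndex_eq_one.mp h (Subgroup.subset_closure (by simp)))
      have h4 : E.relIndex K ≠ 0 := fun h => by
        rw [h, zero_mul] at h1; exact Subgroup.index_ne_zero_of_finite h1.symm
      have h5 : K.index ≠ 0 := Subgroup.index_ne_zero_of_finite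
      rw [← Subgroup.index_eq_one]
      by_contra h6
      have : 2 * 2 ≤ E.index := h1 ▸ Nat.mul_le_mul (by omega) (by omega)
      omega
  -- the Frattini quotient has order at most four
  set Φ := frattini D
  have hΦn : Φ.Normal := inferInstance
  set q := QuotientGroup.mk' Φ
  have hcard4 : Nat.card (D ⧸ Φ) ≤ 4 := by
    have hcomm : ∀ s t : D ⧸ Φ, s * t = t * s := by
      intro s t
      obtain ⟨s, rfl⟩ := QuotientGroup.mk'_surjective Φ s
      obtain ⟨t, rfl⟩ := QuotientGroup.mk'_surjective Φ t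
      have := hD.isNilpotent
      rw [← commutatorElement_eq_one_iff_mul_comm, ← map_commutatorElement, QuotientGroup.mk'_apply,
        QuotientGroup.eq_one_iff]
      exact CfsgLib.Transfer.commutator_le_frattini
        (Subgroup.commutator_mem_commutator (Subgroup.mem_top _) (Subgroup.mem_top _))
    have hsq : ∀ s : D, q s ^ 2 = 1 := fun s => by
      rw [← map_pow, QuotientGroup.mk'_apply, QuotientGroup.eq_one_iff]
      exact CfsgLib.Transfer.pow_mem_frattini hD s
    have hz : ∀ (w : D ⧸ Φ), w ^ 2 = 1 → ∀ i : ℤ, ∃ j : Fin 2, w ^ i = w ^ (j : ℕ) := by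
      intro w hw i
      refine ⟨⟨(i % 2).toNat, by omega⟩, ?_⟩
      conv_lhs => rw [← Int.emod_add_mul_ediv i 2, zpow_add, zpow_mul,
        show w ^ (2 : ℤ) = 1 from (zpow_natCast w 2).trans hw, one_zpow, mul_one]
      rw [← zpow_natCast, Int.toNat_of_nonneg (by omega)]
    have hsur : Function.Surjective fun i : Fin 2 × Fin 2 =>
        q (e : D) ^ (i.1 : ℕ) * q d ^ (i.2 : ℕ) := by
      intro w
      have hw : w ∈ Subgroup.closure ({q (e : D), q d} : Set (D ⧸ Φ)) := by
        rw [show ({q (e : D), q d} : Set (D ⧸ Φ)) = q '' {(e : D), d} by rw [Set.image_pair],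
          ← MonoidHom.map_closure, hgen,
          Subgroup.map_top_of_surjective q (QuotientGroup.mk'_surjective Φ)]
        trivial
      let _cg : CommGroup (D ⧸ Φ) :=
        { (inferInstance : Group (D ⧸ Φ)) with mul_comm := hcomm }
      obtain ⟨i, j, rfl⟩ := Subgroup.mem_closure_pair.mp hw
      obtain ⟨i', hi'⟩ := hz _ (hsq (e : D)) i
      obtain ⟨j', hj'⟩ := hz _ (hsq d) j
      exact ⟨(i', j'), by simp only [hi', hj']⟩
    exact (Nat.card_le_card_of_surjective _ hsur).trans (by simp)
  -- the action on the quotient is trivial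
  set A := Subgroup.zpowers g
  have hAD : A ≤ Subgroup.normalizer (D : Set G) := Subgroup.zpowers_le.mpr hg
  have hcop : (Nat.card A).Coprime (Nat.card D) := by
    obtain ⟨k, hk⟩ := IsPGroup.iff_card.mp hD
    rw [Nat.card_zpowers, hk]
    exact hgc.pow_right k
  let φ : MulAut D := D.normalizerMonoidHom ⟨g, hg⟩
  let ψ : MulAut (D ⧸ Φ) := QuotientGroup.congr Φ Φ φ
    (Subgroup.characteristic_iff_map_eq.mp inferInstance φ)
  have hψval : ∀ z : D, ψ (QuotientGroup.mk z) = QuotientGroup.mk (φ z) := fun z => rfl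
  have hφg : φ ^ orderOf g = 1 := by
    rw [← map_pow]
    have : (⟨g, hg⟩ : Subgroup.normalizer (D : Set G)) ^ orderOf g = 1 :=
      Subtype.ext (by simp [pow_orderOf_eq_one])
    rw [this, map_one]
  have hψn : ∀ (k : ℕ) (z : D), (ψ ^ k) (QuotientGroup.mk z) = QuotientGroup.mk ((φ ^ k) z) := by
    intro k
    induction k with
    | zero => simp
    | succ k ih => intro z; rw [pow_succ', pow_succ', MulAut.mul_apply, ih, hψval]; rfl
  have hψ1 : ψ = 1 := by
    by_contra hne
    have hord : orderOf ψ ∣ orderOf g := by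
      apply orderOf_dvd_of_pow_eq_one
      ext w
      obtain ⟨z, rfl⟩ := QuotientGroup.mk'_surjective Φ w
      show (ψ ^ orderOf g) (QuotientGroup.mk z) = QuotientGroup.mk z
      rw [hψn, hφg, MulAut.one_apply]
    have hone : orderOf ψ ≠ 1 := fun h => hne (orderOf_eq_one_iff.mp h)
    obtain ⟨r, hr, hrd⟩ := Nat.exists_prime_and_dvd hone
    have := Fact.mk hr
    have hr2 : r ≠ 2 := fun h =>
      Nat.Prime.not_coprime_iff_dvd.mpr ⟨2, Nat.prime_two, h ▸ hrd.trans hord, dvd_refl 2⟩ hgc
    have hr3 : r ≠ 3 := by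
      intro h
      have h31 : 3 ∣ 2 ^ a * n := hG ▸ h ▸ hrd.trans (hord.trans (orderOf_dvd_natCard g))
      rcases (Nat.prime_three).dvd_mul.mp h31 with h' | h'
      · exact absurd (Nat.prime_three.dvd_of_dvd_pow h') (by norm_num)
      · exact h3 h'
    have hω : orderOf (ψ ^ (orderOf ψ / r)) = r :=
      orderOf_pow_orderOf_div (orderOf_pos ψ).ne' hrd
    have hr5 : 5 ≤ r := by
      have := hr.two_le
      by_contra h
      interval_cases r <;> norm_num at *
    have hinj : Function.Injective ((ψ ^ (orderOf ψ / r) : MulAut (D ⧸ Φ)) : D ⧸ Φ → D ⧸ Φ) :=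
      (ψ ^ (orderOf ψ / r)).injective
    classical
    have := Fintype.ofFinite (D ⧸ Φ)
    have hdvd : r ∣ Fintype.card (Equiv.Perm (D ⧸ Φ)) := by
      have h := orderOf_dvd_natCard
        ((MulAut.toPerm (D ⧸ Φ)) (ψ ^ (orderOf ψ / r)))
      rw [orderOf_injective (MulAut.toPerm (D ⧸ Φ)) (fun a b h => MulEquiv.ext fun w =>
        congrArg (fun σ : Equiv.Perm (D ⧸ Φ) => σ w) h), hω, Nat.card_eq_fintype_card] at h
      exact h
    rw [Fintype.card_perm, hr.dvd_factorial, ← Nat.card_eq_fintype_card] at hdvd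
    omega
  have hmain : A ≤ Subgroup.centralizer (D : Set G) := by
    refine CfsgLib.Solvable.le_centralizer_of_trivial_on_frattini_quotient
      (hcop.coprime_dvd_right (Subgroup.card_subgroup_dvd_card _)) ?_
    intro c hc z hz
    obtain ⟨i, rfl⟩ := hc
    have hgi : ∀ k : ℕ, ∀ z : D, (((φ ^ k) z : D) : G) = g ^ k * z * (g ^ k)⁻¹ := by
      intro k
      induction k with
      | zero => simp
      | succ k ih =>
        intro z
        rw [pow_succ', MulAut.mul_apply]
        show g * (((φ ^ k) z : D) : G) * g⁻¹ = _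
        rw [ih, pow_succ']; group
    obtain ⟨k, hk⟩ : ∃ k : ℕ, g ^ k = g ^ i :=
      ⟨(i % (orderOf g : ℤ)).toNat, by
        rw [← zpow_natCast, Int.toNat_of_nonneg (Int.emod_nonneg _ (by
          exact_mod_cast (orderOf_pos g).ne')), zpow_mod_orderOf]⟩
    have hfix : QuotientGroup.mk ((φ ^ k) ⟨z, hz⟩) = (QuotientGroup.mk (⟨z, hz⟩ : D) : D ⧸ Φ) := by
      rw [← hψn, hψ1, one_pow, MulAut.one_apply]
    have hmem : (φ ^ k) ⟨z, hz⟩ * (⟨z, hz⟩ : D)⁻¹ ∈ Φ := by
      rw [← QuotientGroup.eq_one_iff, QuotientGroup.mk_mul, QuotientGroup.mk_inv, hfix,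
        mul_inv_cancel]
    exact ⟨_, hmem, by simp [hgi, hk, mul_assoc]⟩
  exact hmain (Subgroup.mem_zpowers g)


/-- Let `G` be a finite group of order `2 ^ a * n` with `n` odd and not divisible by `3`, and suppose `G` has an element of order `2 ^ (a - 1)` (so a Sylow `2`-subgroup has a cyclic subgroup of index at most `2`). Then `G` has a normal subgroup of order `n`. -/
theorem result {G : Type*} [Group G] [Finite G] (a n : ℕ) (hG : Nat.card G = 2 ^ a * n) (hn : Odd n) (h3 : ¬ 3 ∣ n) (hx : ∃ x : G, orderOf x = 2 ^ (a - 1)) : ∃ N : Subgroup G, N.Normal ∧ Nat.card N = n := by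
  obtain ⟨x, hx⟩ := hx
  have := Fact.mk Nat.prime_two
  obtain ⟨P, N, hNn, hN⟩ := CfsgLib.Transfer.hasNormalPComplement_of_frobenius (p := 2)
    (fun D hD g hg hgc => two_group_automizer hG hn h3 hx D hD g hg hgc)
  refine ⟨N, hNn, ?_⟩
  have h1 := hN.card_mul_card
  rw [Sylow.card_eq_multiplicity, hG, Nat.factorization_mul (by positivity)
    (fun h => by simp [h] at hn), Finsupp.add_apply, Nat.prime_two.factorization_pow,
    Finsupp.single_eq_same, Nat.factorization_eq_zero_of_not_dvd hn.not_two_dvd_nat, add_zero,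
    mul_comm] at h1
  exact mul_left_cancel₀ (by positivity) h1

end Cfsg.Agent.S3971
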