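import Mathlib
import Cfsg.Agent.Lib.BGroup.CyclicSylow

/-!
A transitive group of degree p^m with a full cycle is doubly transitive or imprimitive (Schur); any
nontrivial block system is fixed blockwise by the element of order p of the cycle.
-/

set_option autoImplicit false

namespace Cfsg.Agent.S3972

open scoped Pointwise

/-- Let `p` be a prime, `m ≥ 2`, and `G` a transitive but not doubly transitive permutation group on `p ^ m` points containing a permutation of order `p ^ m` (necessarily a full cycle). Then `G` is imprimitive, and the normal closure in `G` of the `p ^ (m - 1)`-th power of that permutation is an intransitive normal subgroup. -/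
theorem result {Ω : Type*} [Fintype Ω] [DecidableEq Ω] (p m : ℕ) (hp : p.Prime) (hm : 2 ≤ m) (hΩ : Fintype.card Ω = p ^ m) (G : Subgroup (Equiv.Perm Ω)) (htr : MulAction.IsPretransitive G Ω) (h2 : ¬ MulAction.IsMultiplyPretransitive G Ω 2) (g : G) (hg : orderOf g = p ^ m) : ¬ MulAction.IsPreprimitive G Ω ∧ ¬ MulAction.IsPretransitive (Subgroup.normalClosure ({g ^ (p ^ (m - 1))} : Set G)) Ω := by
  haveI : Fact p.Prime := ⟨hp⟩
  haveI := htr
  set z := g ^ p ^ (m - 1) with hz
  have hz1 : z ≠ 1 := fun h => by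
    have h1 := Nat.le_of_dvd (pow_pos hp.pos _) (hg ▸ orderOf_dvd_of_pow_eq_one h)
    exact absurd h1 (not_le.mpr (Nat.pow_lt_pow_right hp.one_lt (by omega)))
  obtain ⟨a, ha⟩ : ∃ a : Ω, z • a ≠ a := by
    by_contra hall
    push Not at hall
    exact hz1 (Subtype.ext (Equiv.ext hall))
  -- the point `a` has trivial stabiliser in the cyclic group
  have hstab : ∀ j : ℕ, g ^ j • a = a → p ^ m ∣ j := by
    intro j hj
    by_contra hn
    apply ha
    obtain ⟨i, hi, hgcd⟩ := (Nat.dvd_prime_pow hp).mp (Nat.gcd_dvd_right j (p ^ m))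
    have him : i ≤ m - 1 := by
      by_contra h
      apply hn
      have : i = m := by omega
      rw [← this, ← hgcd]; exact Nat.gcd_dvd_left _ _
    have h1 : g ^ j ∈ MulAction.stabilizer G a := hj
    have h2 : g ^ (p ^ m) ∈ MulAction.stabilizer G a := by
      rw [← hg, pow_orderOf_eq_one]; exact one_mem _
    have h3 : g ^ Nat.gcd j (p ^ m) ∈ MulAction.stabilizer G a := by
      rw [← zpow_natCast, Nat.gcd_eq_gcd_ab, zpow_add, zpow_mul, zpow_mul, zpow_natCast, zpow_natCast]
      exact mul_mem (zpow_mem h1 _) (zpow_mem h2 _)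
    rw [hgcd] at h3
    have h4 : z ∈ MulAction.stabilizer G a := by
      rw [hz, show p ^ (m - 1) = p ^ i * p ^ (m - 1 - i) by rw [← pow_add]; congr 1; omega, pow_mul]
      exact pow_mem h3 _
    exact h4
  let C : Subgroup G := Subgroup.zpowers g
  have hbij : Function.Bijective fun c : C => c • a := by
    refine (Nat.bijective_iff_injective_and_card _).mpr ⟨?_, ?_⟩
    · intro x y h
      have hm' : y⁻¹ * x ∈ MulAction.stabilizer C a := by
        rw [MulAction.mem_stabilizer_iff, mul_smul, show x • a = y • a from h, inv_smul_smul]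
      obtain ⟨j, hj⟩ := mem_powers_iff_mem_zpowers.mpr (y⁻¹ * x : C).2
      have h5 : g ^ j • a = a := by
        simp only at hj; rw [hj]; exact hm'
      have h6 : ((y⁻¹ * x : C) : G) = 1 := by
        rw [← hj]; exact orderOf_dvd_iff_pow_eq_one.mp (hg ▸ hstab j h5)
      exact (inv_mul_eq_one.mp (Subtype.ext h6)).symm
    · rw [Nat.card_zpowers, hg, Nat.card_eq_fintype_card, hΩ]
  haveI : MulAction.IsPretransitive C Ω := MulAction.IsPretransitive.mk fun x y => by
    obtain ⟨c, rfl⟩ := hbij.2 x
    obtain ⟨d, rfl⟩ := hbij.2 y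
    exact ⟨d * c⁻¹, by rw [mul_smul, inv_smul_smul]⟩
  have hfree : ∀ b : Ω, MulAction.stabilizer C b = ⊥ := by
    intro b
    obtain ⟨c, rfl⟩ := hbij.2 b
    rw [Subgroup.eq_bot_iff_forall]
    intro d hd
    have h1 : (d * c) • a = c • a := by rw [mul_smul]; exact hd
    exact mul_eq_right.mp (hbij.1 h1)
  haveI : Nonempty Ω := ⟨a⟩
  have hnp : ¬ MulAction.IsPreprimitive G Ω := by
    intro hprim
    apply h2
    haveI : IsMulCommutative C := IsCyclic.isMulCommutative
    refine CfsgLib.BGroup.two_pretransitive_of_regular C hfree p ?_ ?_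
    · letI : CommGroup C := IsCyclic.commGroup
      have h := IsCyclic.card_powMonoidHom_ker C p
      rw [Nat.gcd_eq_right (by rw [Nat.card_zpowers, hg]; exact dvd_pow_self p (by omega))] at h
      exact (Nat.card_congr (Equiv.subtypeEquivRight fun x => by simp [MonoidHom.mem_ker])).trans h
    · rw [Nat.card_zpowers, hg]
      intro h
      exact absurd h (Nat.ne_of_gt (by
        calc p = p ^ 1 := (pow_one p).symm
          _ < p ^ m := Nat.pow_lt_pow_right hp.one_lt (by omega)))
  refine ⟨hnp, fun hN => hnp ?_⟩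
  refine MulAction.IsPreprimitive.of_isTrivialBlock_base a fun {B} haB hB => ?_
  by_contra htriv
  rw [MulAction.IsTrivialBlock] at htriv
  push Not at htriv
  obtain ⟨hns, hnu⟩ := htriv
  apply hnu
  -- every translate of `B` is fixed by `z`
  have hzB : z • B = B := by
    obtain ⟨b, hbB, hba⟩ := hns.exists_ne a
    obtain ⟨c, hc⟩ := hbij.2 b
    obtain ⟨j, hj⟩ := mem_powers_iff_mem_zpowers.mpr c.2
    simp only at hj hc
    have h1 : g ^ j ∈ MulAction.stabilizer G B := hB.smul_eq_of_nonempty ⟨b, ⟨a, haB, by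
      rw [hj]; exact hc⟩, hbB⟩
    have hn : ¬ p ^ m ∣ j := fun h => hba (by
      rw [← hc]; show (c : G) • a = a
      rw [← hj, orderOf_dvd_iff_pow_eq_one.mp (hg ▸ h), one_smul])
    obtain ⟨i, hi, hgcd⟩ := (Nat.dvd_prime_pow hp).mp (Nat.gcd_dvd_right j (p ^ m))
    have him : i ≤ m - 1 := by
      by_contra h
      apply hn
      have : i = m := by omega
      rw [← this, ← hgcd]; exact Nat.gcd_dvd_left _ _
    have h2 : g ^ (p ^ m) ∈ MulAction.stabilizer G B := by
      rw [← hg, pow_orderOf_eq_one]; exact one_mem _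
    have h3 : g ^ Nat.gcd j (p ^ m) ∈ MulAction.stabilizer G B := by
      rw [← zpow_natCast, Nat.gcd_eq_gcd_ab, zpow_add, zpow_mul, zpow_mul, zpow_natCast, zpow_natCast]
      exact mul_mem (zpow_mem h1 _) (zpow_mem h2 _)
    rw [hgcd] at h3
    show z ∈ MulAction.stabilizer G B
    rw [hz, show p ^ (m - 1) = p ^ i * p ^ (m - 1 - i) by rw [← pow_add]; congr 1; omega, pow_mul]
    exact pow_mem h3 _
  have hzall : ∀ x : G, z • x • B = x • B := by
    intro x
    obtain ⟨c, hc⟩ := hbij.2 (x • a)
    simp only at hc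
    have hxB : x • B = (c : G) • B := by
      have h1 : (c : G)⁻¹ * x ∈ MulAction.stabilizer G B := hB.smul_eq_of_mem haB (by
        rw [mul_smul, ← hc]; show (c : G)⁻¹ • (c : G) • a ∈ B
        rw [inv_smul_smul]; exact haB)
      rw [MulAction.mem_stabilizer_iff, mul_smul, inv_smul_eq_iff] at h1
      exact h1
    obtain ⟨i, hi⟩ := c.2
    simp only at hi
    rw [hxB, smul_smul, show z * (c : G) = (c : G) * z by
      rw [← hi, hz]; exact ((Commute.refl g).pow_left _ |>.zpow_right i).eq, mul_smul, hzB]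
  have hcore : Subgroup.normalClosure ({z} : Set G) ≤ (MulAction.stabilizer G B).normalCore := by
    refine Subgroup.normalClosure_le_normal ?_
    rintro _ rfl x
    show x * z * x⁻¹ ∈ MulAction.stabilizer G B
    rw [MulAction.mem_stabilizer_iff, mul_smul, mul_smul, hzall x⁻¹, smul_inv_smul]
  refine Set.eq_univ_of_forall fun w => ?_
  haveI := hN
  obtain ⟨x, hx⟩ := MulAction.exists_smul_eq (Subgroup.normalClosure ({z} : Set G)) a w
  have h1 : (x : G) • B = B := (Subgroup.normalCore_le _) (hcore x.2)
  rw [← h1, ← hx]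
  exact Set.smul_mem_smul_set haB

end Cfsg.Agent.S3972
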