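import Cfsg.Statements.S3973
import Mathlib
import Cfsg.Agent.Lib.Schur.Multiplier

set_option autoImplicit false
open Cfsg
open scoped commutatorElement

namespace Cfsg.Agent.S3973

open CfsgLib.Schur

theorem rank_bound (n : ℕ) (rels : Finset (FreeGroup (Fin n)))
    [Finite (PresentedGroup (rels : Set (FreeGroup (Fin n))))] :
    ∃ S : Finset (mult (PresentedGroup.mk (rels : Set (FreeGroup (Fin n))))),
      S.card ≤ rels.card - n ∧ Subgroup.closure (S : Set (mult (PresentedGroup.mk (rels : Set (FreeGroup (Fin n)))))) = ⊤ := by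
  classical
  set φ := PresentedGroup.mk (rels : Set (FreeGroup (Fin n))) with hφ
  set R := (proj φ).ker with hR
  let _cg : CommGroup R :=
    { (inferInstance : Group R) with
      mul_comm := fun a b => Subtype.ext (Subgroup.mem_center_iff.mp (ker_proj_le_center φ b.2) a) }
  let expo : FreeGroup (Fin n) →* Multiplicative (Fin n → ℤ) :=
    FreeGroup.lift fun i => Multiplicative.ofAdd (Pi.single i 1)
  have hle : relComm φ ≤ expo.ker := by
    rw [relComm, Subgroup.commutator_le]
    intro a _ b _
    rw [MonoidHom.mem_ker, map_commutatorElement, commutatorElement_eq_one_iff_mul_comm, mul_comm]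
  let ψ : Cov φ →* Multiplicative (Fin n → ℤ) := QuotientGroup.lift _ expo hle
  have hrel : ∀ r : rels, covMk φ (r : FreeGroup (Fin n)) ∈ R := fun r => by
    rw [hR, MonoidHom.mem_ker, proj_covMk]
    exact PresentedGroup.one_of_mem (Finset.mem_coe.mpr r.2)
  let v : rels → Additive R := fun r => Additive.ofMul ⟨covMk φ (r : FreeGroup (Fin n)), hrel r⟩
  let L : (rels → ℤ) →ₗ[ℤ] Additive R := Fintype.linearCombination ℤ v
  have hLsurj : Function.Surjective L := by
    have hgen : ∀ x, x ∈ R → x ∈ Subgroup.closure (Set.range fun r : rels =>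
        covMk φ (r : FreeGroup (Fin n))) := by
      intro x hx
      obtain ⟨f, rfl⟩ := QuotientGroup.mk'_surjective _ x
      rw [hR, MonoidHom.mem_ker, proj_covMk, hφ, PresentedGroup.mk_eq_one_iff] at hx
      set K := Subgroup.closure (Set.range fun r : rels => covMk φ (r : FreeGroup (Fin n)))
      have hKR : K ≤ R := by
        rw [Subgroup.closure_le]; rintro _ ⟨r, rfl⟩; exact hrel r
      have hKn : (K.comap (covMk φ)).Normal := ⟨fun a ha g => by
        rw [Subgroup.mem_comap] at ha ⊢
        rw [map_mul, map_mul, map_inv,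
          Subgroup.mem_center_iff.mp (ker_proj_le_center φ (hKR ha)), mul_inv_cancel_right]
        exact ha⟩
      refine (Subgroup.normalClosure_le_normal (N := K.comap (covMk φ)) ?_) hx
      intro r hr
      exact Subgroup.subset_closure ⟨⟨r, Finset.mem_coe.mp hr⟩, rfl⟩
    intro a
    have hmem := hgen _ (Additive.toMul a).2
    have hr : ∀ x : R, (x : Cov φ) ∈ Subgroup.closure (Set.range fun r : rels =>
        covMk φ (r : FreeGroup (Fin n))) → ∃ c, L c = Additive.ofMul x := by
      intro x hx
      have hx' : x ∈ (AddSubgroup.toSubgroup' L.toAddMonoidHom.range) := by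
        have hc : Subgroup.closure (Set.range fun r : rels => covMk φ (r : FreeGroup (Fin n))) ≤
            (AddSubgroup.toSubgroup' L.toAddMonoidHom.range).map R.subtype := by
          rw [Subgroup.closure_le]
          rintro _ ⟨r, rfl⟩
          refine ⟨⟨_, hrel r⟩, ⟨Pi.single r 1, ?_⟩, rfl⟩
          show L (Pi.single r 1) = v r
          simp [L, Fintype.linearCombination_apply_single]
        obtain ⟨y, hy, hyx⟩ := hc hx
        rw [Subgroup.subtype_apply, SetLike.coe_eq_coe] at hyx
        exact hyx ▸ hy
      exact hx'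
    exact hr _ hmem
  let π : Additive R →ₗ[ℤ] (Fin n → ℤ) :=
    (MonoidHom.toAdditiveLeft (ψ.comp R.subtype)).toIntLinearMap
  let T := π.comp L
  let U : Submodule ℤ (rels → ℤ) := Submodule.comap L
    (AddSubgroup.toIntSubmodule (Subgroup.toAddSubgroup ((mult φ).subgroupOf R)))
  have hUker : U ≤ LinearMap.ker T := by
    intro c hc
    have hc' : ((Additive.toMul (L c) : R) : Cov φ) ∈ mult φ := hc
    have hcom : commutator (Cov φ) ≤ ψ.ker := Abelianization.commutator_subset_ker ψ
    rw [LinearMap.mem_ker]
    exact hcom hc'.2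
  have hfr : Module.finrank ℤ (LinearMap.range T) = n := by
    refine le_antisymm ((Submodule.finrank_le _).trans (by simp)) ?_
    set N : ℕ := Nat.card (PresentedGroup (rels : Set (FreeGroup (Fin n))))
    have hN : (N : ℤ) ≠ 0 := Nat.cast_ne_zero.mpr Nat.card_pos.ne'
    have hmem : ∀ i, (N : ℤ) • (Pi.single i 1 : Fin n → ℤ) ∈ LinearMap.range T := by
      intro i
      have hi : covMk φ (FreeGroup.of i ^ N) ∈ R := by
        rw [hR, MonoidHom.mem_ker, proj_covMk, map_pow]; exact pow_card_eq_one'
      obtain ⟨c, hc⟩ := hLsurj (Additive.ofMul ⟨_, hi⟩)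
      refine ⟨c, ?_⟩
      show π (L c) = _
      rw [hc]
      show Multiplicative.toAdd (expo (FreeGroup.of i ^ N)) = _
      rw [map_pow, toAdd_pow, natCast_zsmul]
      simp [expo]
    have hli : LinearIndependent ℤ (fun i : Fin n =>
        (⟨(N : ℤ) • (Pi.single i 1 : Fin n → ℤ), hmem i⟩ : LinearMap.range T)) := by
      apply LinearIndependent.of_comp (LinearMap.range T).subtype
      rw [Fintype.linearIndependent_iff]
      intro g hg i
      have := congrFun hg i
      simp [Finset.sum_apply, Pi.single_apply] at this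
      exact this.resolve_right Nat.card_pos.ne'
    simpa using hli.fintype_card_le_finrank
  have hker : Module.finrank ℤ (LinearMap.ker T) ≤ rels.card - n := by
    have := Submodule.finrank_quotient_add_finrank (LinearMap.ker T)
    rw [T.quotKerEquivRange.finrank_eq] at this
    rw [hfr, Module.finrank_fintype_fun_eq_card, Fintype.card_coe] at this
    omega
  let b := Module.finBasis ℤ U
  have hUr : Module.finrank ℤ U ≤ rels.card - n := (Submodule.finrank_mono hUker).trans hker
  have hmemU : ∀ c ∈ U, ((Additive.toMul (L c) : R) : Cov φ) ∈ mult φ := fun c hc => hc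
  refine ⟨Finset.univ.image fun j => ⟨_, hmemU _ (b j).2⟩,
    Finset.card_image_le.trans (by simpa using hUr), ?_⟩
  rw [Subgroup.eq_top_iff']
  intro x
  obtain ⟨c, hc⟩ := hLsurj (Additive.ofMul ⟨(x : Cov φ), x.2.1⟩)
  have hcU : c ∈ U := by
    show L c ∈ (AddSubgroup.toIntSubmodule (Subgroup.toAddSubgroup ((mult φ).subgroupOf R)))
    rw [hc]
    exact x.2
  let ev : U →+ Additive (mult φ) :=
    AddMonoidHom.mk' (fun d => Additive.ofMul ⟨_, hmemU d.1 d.2⟩) fun d e => by
      apply Additive.toMul.injective
      apply Subtype.ext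
      simp
  have hx : ev ⟨c, hcU⟩ = Additive.ofMul x := by
    apply Additive.toMul.injective
    apply Subtype.ext
    show ((Additive.toMul (L c) : R) : Cov φ) = x
    rw [hc]; rfl
  have hsum := congrArg ev (b.sum_repr ⟨c, hcU⟩)
  rw [hx, map_sum] at hsum
  have hsum' : x = ∏ j, (⟨_, hmemU _ (b j).2⟩ : mult φ) ^ (b.repr ⟨c, hcU⟩ j) := by
    have := congrArg Additive.toMul hsum.symm
    rw [toMul_ofMul, toMul_sum] at this
    refine this.trans (Finset.prod_congr rfl fun j _ => ?_)
    rw [map_zsmul, toMul_zsmul]; rfl
  rw [hsum']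
  exact Subgroup.prod_mem _ fun j _ => Subgroup.zpow_mem _
    (Subgroup.subset_closure (by simp)) _


/-- If a finite group is presented by `n` generators and a finite set of `r` relators, then its Schur multiplier can be generated by `r - n` elements. In particular a finite group with a presentation having as many relators as generators has trivial Schur multiplier. -/
theorem result (n : ℕ) (rels : Finset (FreeGroup (Fin n))) [Finite (PresentedGroup (rels : Set (FreeGroup (Fin n))))] {A : Type*} [CommGroup A] [Finite A] (hA : Cfsg.HasSchurMultiplier (PresentedGroup (rels : Set (FreeGroup (Fin n)))) A) : Group.rank A ≤ rels.card - n := by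
  classical
  obtain ⟨S, hS, hgen⟩ := rank_bound n rels
  obtain ⟨⟨Γ, _, _, σ, hσ, ⟨e⟩⟩, -⟩ := hA
  obtain ⟨π, hπ⟩ := CfsgLib.Schur.exists_hom_onto_stem _
    (PresentedGroup.mk_surjective (rels : Set (FreeGroup (Fin n)))) σ hσ
  let f := e.toMonoidHom.comp π
  have hf : Function.Surjective f := e.surjective.comp hπ
  refine (Group.rank_le (S := S.image f) ?_).trans (Finset.card_image_le.trans hS)
  rw [Finset.coe_image, ← MonoidHom.map_closure, hgen]
  exact Subgroup.map_top_of_surjective f hf

end Cfsg.Agent.S3973
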