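import Cfsg.Statements.S3974
import Mathlib
import Cfsg.Agent.Lib.Schur.Multiplier

set_option autoImplicit false
universe u v
open Cfsg
open scoped commutatorElement

namespace Cfsg.Agent.S3974

open CfsgLib.Schur

variable {Q : Type u} [Group Q] [Finite Q]

/-- The abelianised cover, as the abelianisation of the free group. -/
theorem covAb_surjective : Function.Surjective (covAb Q) := fun y => by
  obtain ⟨f, rfl⟩ := QuotientGroup.mk'_surjective _ y
  exact ⟨covMk (pres Q) f, rfl⟩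

/-- The image of `ker (proj)` is the kernel of the map onto the abelianisation of `Q`. -/
theorem map_ker_eq : ∃ π : Abelianization (FreeGroup Q) →* Abelianization Q,
    Function.Surjective π ∧ π.ker = (proj (pres Q)).ker.map (covAb Q) := by
  let π : Abelianization (FreeGroup Q) →* Abelianization Q := Abelianization.map (pres Q)
  have hπ : ∀ x, π (covAb Q x) = Abelianization.of (proj (pres Q) x) := by
    intro x
    obtain ⟨f, rfl⟩ := QuotientGroup.mk'_surjective _ x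
    rfl
  refine ⟨π, fun y => ?_, le_antisymm (fun y hy => ?_) ?_⟩
  · obtain ⟨q, rfl⟩ := QuotientGroup.mk'_surjective _ y
    obtain ⟨f, hf⟩ := pres_surjective Q q
    exact ⟨Abelianization.of f, by show Abelianization.of (pres Q f) = _; rw [hf]; rfl⟩
  · obtain ⟨x, rfl⟩ := covAb_surjective y
    rw [MonoidHom.mem_ker, hπ, ← MonoidHom.mem_ker, Abelianization.ker_of,
      ← map_commutator_eq_of_center (proj (pres Q))
        (by rw [MonoidHom.range_eq_top.mpr (proj_surjective _ (pres_surjective Q)), top_sup_eq])]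
      at hy
    obtain ⟨c, hc, hcx⟩ := hy
    refine ⟨x * c⁻¹, ?_, ?_⟩
    · show x * c⁻¹ ∈ (proj (pres Q)).ker
      rw [MonoidHom.mem_ker, map_mul, map_inv, hcx, mul_inv_cancel]
    · have h1 : covAb Q c = 1 := by rw [← MonoidHom.mem_ker, covAb_ker]; exact hc
      rw [map_mul, map_inv, h1, inv_one, mul_one]
  · rintro _ ⟨x, hx, rfl⟩
    have hx' : proj (pres Q) x = 1 := hx
    rw [MonoidHom.mem_ker, hπ, hx', map_one]

theorem index_map_ker : ((proj (pres Q)).ker.map (covAb Q)).index = Nat.card (Abelianization Q) := by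
  obtain ⟨π, hπ, hker⟩ := map_ker_eq (Q := Q)
  rw [← hker, Subgroup.index_ker, MonoidHom.range_eq_top.mpr hπ, Subgroup.card_top]

theorem pow_mem_map_ker (y : Abelianization (FreeGroup Q)) :
    y ^ Nat.card (Abelianization Q) ∈ (proj (pres Q)).ker.map (covAb Q) := by
  obtain ⟨π, -, hker⟩ := map_ker_eq (Q := Q)
  rw [← hker, MonoidHom.mem_ker, map_pow]
  exact pow_card_eq_one'

/-- A cover is the image of `Cov`, compatibly, with kernel a complement of the multiplier. -/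
theorem exists_param {Γ : Type u} [Group Γ] [Finite Γ] (σ : Γ →* Q) (hσ : Cfsg.IsStemExtension σ)
    (e : Nonempty (σ.ker ≃* M Q)) :
    ∃ h : Cov (pres Q) →* Γ, σ.comp h = proj (pres Q) ∧ Function.Surjective h ∧
      h.ker ⊓ mult (pres Q) = ⊥ ∧ h.ker ≤ (proj (pres Q)).ker ∧
      h.ker.map (covAb Q) = (proj (pres Q)).ker.map (covAb Q) := by
  obtain ⟨e⟩ := e
  obtain ⟨h, hh⟩ := exists_lift (pres Q) σ hσ.1 hσ.2.1 (MonoidHom.id Q)
  have hh' : σ.comp h = proj (pres Q) := by simpa using hh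
  have hmap : (mult (pres Q)).map h = σ.ker := by
    rw [map_mult (pres Q) (pres_surjective Q) σ hσ.2.1 h hh', inf_eq_left.mpr hσ.2.2]
  have hsurj : Function.Surjective h := by
    intro g
    obtain ⟨w, hw⟩ := proj_surjective _ (pres_surjective Q) (σ g)
    have h1 : (h w)⁻¹ * g ∈ σ.ker := by
      rw [MonoidHom.mem_ker, map_mul, map_inv, ← MonoidHom.comp_apply σ h, hh', hw, inv_mul_cancel]
    rw [← hmap] at h1
    obtain ⟨m, -, hm⟩ := h1
    exact ⟨w * m, by rw [map_mul, hm, mul_inv_cancel_left]⟩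
  let m : M Q →* σ.ker := (h.comp (mult (pres Q)).subtype).codRestrict _
    fun x => hmap.le (Subgroup.mem_map_of_mem h x.2)
  have hm : Function.Injective m := by
    have hs : Function.Surjective m := fun y => by
      obtain ⟨x, hx, hxy⟩ := Subgroup.mem_map.mp (hmap.ge y.2)
      exact ⟨⟨x, hx⟩, Subtype.ext hxy⟩
    exact (hs.bijective_of_nat_card_le (Nat.card_congr e.toEquiv).ge).1
  have hinf : h.ker ⊓ mult (pres Q) = ⊥ := by
    rw [eq_bot_iff]
    rintro x ⟨hx, hxm⟩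
    have := hm (a₁ := ⟨x, hxm⟩) (a₂ := 1) (by rw [map_one]; exact Subtype.ext hx)
    exact Subgroup.mem_bot.mpr (congrArg Subtype.val this)
  have hle : h.ker ≤ (proj (pres Q)).ker := fun x hx => by
    rw [MonoidHom.mem_ker, ← hh', MonoidHom.comp_apply, MonoidHom.mem_ker.mp hx, map_one]
  refine ⟨h, hh', hsurj, hinf, hle, le_antisymm (Subgroup.map_mono hle) ?_⟩
  rintro _ ⟨x, hx, rfl⟩
  have h1 : h x ∈ σ.ker := by
    have hx' : proj (pres Q) x = 1 := hx
    rw [MonoidHom.mem_ker, ← MonoidHom.comp_apply, hh', hx']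
  rw [← hmap] at h1
  obtain ⟨c, hc, hcx⟩ := h1
  refine ⟨x * c⁻¹, ?_, ?_⟩
  · show x * c⁻¹ ∈ h.ker
    rw [MonoidHom.mem_ker, map_mul, map_inv, hcx, mul_inv_cancel]
  · have h2 : covAb Q c = 1 := by rw [← MonoidHom.mem_ker, covAb_ker]; exact hc.2
    rw [map_mul, map_inv, h2, inv_one, mul_one]

theorem covers_iso (hcop : Nat.Coprime (Nat.card (Abelianization Q)) (Nat.card (M Q)))
    {Γ₁ Γ₂ : Type u} [Group Γ₁] [Finite Γ₁] [Group Γ₂] [Finite Γ₂] (σ₁ : Γ₁ →* Q) (σ₂ : Γ₂ →* Q)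
    (hs₁ : Cfsg.IsStemExtension σ₁) (hs₂ : Cfsg.IsStemExtension σ₂)
    (e₁ : Nonempty (σ₁.ker ≃* M Q)) (e₂ : Nonempty (σ₂.ker ≃* M Q)) :
    ∃ e : Γ₁ ≃* Γ₂, σ₂.comp e.toMonoidHom = σ₁ := by
  obtain ⟨h₁, hh₁, hsu₁, hinf₁, hle₁, hab₁⟩ := exists_param σ₁ hs₁ e₁
  obtain ⟨h₂, hh₂, -, -, -, -⟩ := exists_param σ₂ hs₂ e₂
  let instK : CommGroup σ₂.ker :=
    { (inferInstance : Group σ₂.ker) with
      mul_comm := fun a b => Subtype.ext (Subgroup.mem_center_iff.mp (hs₂.2.1 b.2) a) }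
  set d := Nat.card (Abelianization Q)
  let χ : h₁.ker →* σ₂.ker := (h₂.comp h₁.ker.subtype).codRestrict _ fun x => by
    show σ₂ (h₂ x.1) = 1
    rw [← MonoidHom.comp_apply σ₂ h₂, hh₂, MonoidHom.mem_ker.mp (hle₁ x.2)]
  let ι : h₁.ker →* Abelianization (FreeGroup Q) := (covAb Q).comp h₁.ker.subtype
  have hι : Function.Injective ι := (injective_iff_map_eq_one ι).mpr fun x hx => by
    apply Subtype.ext
    show (x : Cov (pres Q)) = 1
    rw [← Subgroup.mem_bot, ← hinf₁]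
    exact ⟨x.2, hle₁ x.2, by rw [← covAb_ker]; exact hx⟩
  have hpow : ∀ y : Abelianization (FreeGroup Q), y ^ d ∈ ι.range := fun y => by
    have h1 := pow_mem_map_ker y
    rw [← hab₁] at h1
    obtain ⟨x, hx, hxy⟩ := h1
    exact ⟨⟨x, hx⟩, hxy⟩
  let r : Abelianization (FreeGroup Q) →* ι.range := (powMonoidHom d).codRestrict _ hpow
  obtain ⟨⟨c, hc⟩⟩ : Nonempty {c : ℕ // ∀ a : σ₂.ker, (a ^ d) ^ c = a} := by
    obtain ⟨e₂⟩ := e₂
    obtain ⟨hc1, hc2⟩ := (Nat.chineseRemainder hcop 0 1).2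
    obtain ⟨c, hc⟩ := Nat.modEq_zero_iff_dvd.mp hc1
    refine ⟨⟨c, fun a => ?_⟩⟩
    rw [← pow_mul, ← hc]
    conv_rhs => rw [← pow_one a]
    refine pow_eq_pow_iff_modEq.mpr (hc2.of_dvd ?_)
    rw [← Nat.card_congr e₂.toEquiv]
    exact orderOf_dvd_natCard a
  let ψ : Cov (pres Q) →* σ₂.ker :=
    ((powMonoidHom c).comp χ).comp (((MonoidHom.ofInjective hι).symm.toMonoidHom.comp r).comp (covAb Q))
  have hψ : ∀ x : h₁.ker, ψ x.1 = χ x := by
    intro x
    have h1 : r (covAb Q x.1) = MonoidHom.ofInjective hι (x ^ d) := Subtype.ext (by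
      show (covAb Q x.1) ^ d = ι (x ^ d)
      rw [map_pow]; rfl)
    show (χ ((MonoidHom.ofInjective hι).symm (r (covAb Q x.1)))) ^ c = χ x
    rw [h1, MulEquiv.symm_apply_apply, map_pow, hc]
  have hψc : ∀ x (g : Γ₂), g * (ψ x : Γ₂) = (ψ x : Γ₂) * g := fun x g =>
    Subgroup.mem_center_iff.mp (hs₂.2.1 (ψ x).2) g
  let g₂ : Cov (pres Q) →* Γ₂ := MonoidHom.mk' (fun x => h₂ x * ((ψ x)⁻¹ : σ₂.ker)) fun x y => by
    simp only [map_mul, mul_inv]
    rw [Subgroup.coe_mul]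
    have := Subgroup.mem_center_iff.mp (hs₂.2.1 ((ψ x)⁻¹).2) (h₂ y)
    calc h₂ x * h₂ y * ((((ψ x)⁻¹ : σ₂.ker) : Γ₂) * (((ψ y)⁻¹ : σ₂.ker) : Γ₂))
        = h₂ x * (h₂ y * (((ψ x)⁻¹ : σ₂.ker) : Γ₂)) * (((ψ y)⁻¹ : σ₂.ker) : Γ₂) := by
          simp [mul_assoc]
      _ = _ := by rw [this]; simp [mul_assoc]
  have hg₂σ : σ₂.comp g₂ = proj (pres Q) := by
    refine MonoidHom.ext fun x => ?_
    show σ₂ (h₂ x * (((ψ x)⁻¹ : σ₂.ker) : Γ₂)) = _
    rw [map_mul, MonoidHom.mem_ker.mp ((ψ x)⁻¹).2, mul_one, ← MonoidHom.comp_apply σ₂ h₂, hh₂]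
  have hker : h₁.ker ≤ g₂.ker := fun x hx => by
    show h₂ x * (((ψ x)⁻¹ : σ₂.ker) : Γ₂) = 1
    rw [show ψ x = χ ⟨x, hx⟩ from hψ ⟨x, hx⟩, Subgroup.coe_inv]
    exact mul_inv_cancel _
  let e := h₁.liftOfSurjective hsu₁ ⟨g₂, hker⟩
  have he : ∀ x, e (h₁ x) = g₂ x := fun x =>
    MonoidHom.liftOfRightInverse_comp_apply h₁ (Function.surjInv hsu₁)
      (Function.rightInverse_surjInv hsu₁) ⟨g₂, hker⟩ x
  have hes : σ₂.comp e = σ₁ := by
    refine MonoidHom.ext fun g => ?_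
    obtain ⟨x, rfl⟩ := hsu₁ g
    rw [MonoidHom.comp_apply, he, ← MonoidHom.comp_apply σ₂ g₂, hg₂σ, ← hh₁, MonoidHom.comp_apply]
  have hmap : (mult (pres Q)).map g₂ = σ₂.ker := by
    rw [map_mult (pres Q) (pres_surjective Q) σ₂ hs₂.2.1 g₂ hg₂σ, inf_eq_left.mpr hs₂.2.2]
  have hsurj : Function.Surjective e := by
    intro g
    obtain ⟨w, hw⟩ := proj_surjective _ (pres_surjective Q) (σ₂ g)
    have h1 : (g₂ w)⁻¹ * g ∈ σ₂.ker := by
      rw [MonoidHom.mem_ker, map_mul, map_inv, ← MonoidHom.comp_apply σ₂ g₂, hg₂σ, hw,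
        inv_mul_cancel]
    rw [← hmap] at h1
    obtain ⟨m, -, hm⟩ := h1
    exact ⟨h₁ (w * m), by rw [he, map_mul, hm, mul_inv_cancel_left]⟩
  have hcard : Nat.card Γ₁ ≤ Nat.card Γ₂ := by
    obtain ⟨e₁⟩ := e₁
    obtain ⟨e₂⟩ := e₂
    rw [← Subgroup.card_mul_index σ₁.ker, ← Subgroup.card_mul_index σ₂.ker, Subgroup.index_ker,
      Subgroup.index_ker, MonoidHom.range_eq_top.mpr hs₁.1, MonoidHom.range_eq_top.mpr hs₂.1,
      Nat.card_congr e₁.toEquiv, Nat.card_congr e₂.toEquiv]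
  exact ⟨MulEquiv.ofBijective e (hsurj.bijective_of_nat_card_le hcard), hes⟩

theorem not_coprime_covers
    (hcop : ¬ Nat.Coprime (Nat.card (Abelianization Q)) (Nat.card (M Q))) :
    ∃ (Γ₁ Γ₂ : Type u) (_ : Group Γ₁) (_ : Finite Γ₁) (_ : Group Γ₂) (_ : Finite Γ₂)
      (σ₁ : Γ₁ →* Q) (σ₂ : Γ₂ →* Q), Cfsg.IsStemExtension σ₁ ∧ Cfsg.IsStemExtension σ₂ ∧
      Nonempty (σ₁.ker ≃* M Q) ∧ Nonempty (σ₂.ker ≃* M Q) ∧
      ∀ e : Γ₁ ≃* Γ₂, σ₂.comp e.toMonoidHom ≠ σ₁ := by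
  classical
  have := Fintype.ofFinite Q
  obtain ⟨r, hr, hrd, hrM⟩ := Nat.Prime.not_coprime_iff_dvd.mp hcop
  have := Fact.mk hr
  obtain ⟨L, hLK, hsup, hinf⟩ := exists_complement Q
  have hnorm : ∀ S : Subgroup (Cov (pres Q)), S ≤ (proj (pres Q)).ker → S.Normal := fun S hS =>
    ⟨fun n hn g => by
      rwa [Subgroup.mem_center_iff.mp (ker_proj_le_center _ (hS hn)) g, mul_inv_cancel_right]⟩
  have := hnorm L hLK
  let instL : CommGroup L :=
    { (inferInstance : Group L) with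
      mul_comm := fun a b => Subtype.ext (Subgroup.mem_center_iff.mp
        (ker_proj_le_center _ (hLK b.2)) a) }
  -- the image of `L` has finite index divisible by `r`
  have himg : L.map (covAb Q) = (proj (pres Q)).ker.map (covAb Q) := by
    rw [← hsup, Subgroup.map_sup]
    have : (mult (pres Q)).map (covAb Q) = ⊥ := by
      rw [eq_bot_iff]
      rintro _ ⟨x, hx, rfl⟩
      rw [Subgroup.mem_bot, ← MonoidHom.mem_ker, covAb_ker]
      exact hx.2
    rw [this, sup_bot_eq]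
  obtain ⟨y, hy, hyr⟩ : ∃ y : Abelianization (FreeGroup Q),
      y ∉ L.map (covAb Q) ∧ y ^ r ∈ L.map (covAb Q) := by
    obtain ⟨π, hπ, hker⟩ := map_ker_eq (Q := Q)
    obtain ⟨a, ha⟩ := exists_prime_orderOf_dvd_card' r hrd
    obtain ⟨y, rfl⟩ := hπ a
    refine ⟨y, fun h => ?_, ?_⟩
    · rw [himg, ← hker, MonoidHom.mem_ker] at h
      rw [h, orderOf_one] at ha
      exact hr.one_lt.ne ha
    · rw [himg, ← hker, MonoidHom.mem_ker, map_pow, ← ha, pow_orderOf_eq_one]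
  obtain ⟨l₀, hl₀, hl₀y⟩ := hyr
  -- an element of the multiplier which is not an `r`-th power
  obtain ⟨a, ha⟩ : ∃ a : M Q, ∀ b : M Q, b ^ r ≠ a := by
    by_contra h
    push Not at h
    obtain ⟨c, hc⟩ := exists_prime_orderOf_dvd_card' (G := M Q) r hrM
    have hinj := Finite.injective_iff_surjective.mpr (show Function.Surjective
      (fun b : M Q => b ^ r) from h)
    have : c = 1 := hinj (show c ^ r = 1 ^ r by rw [one_pow, ← hc, pow_orderOf_eq_one])
    rw [this, orderOf_one] at hc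
    exact hr.one_lt.ne hc
  -- an integral functional on `L` not divisible by `r` at `l₀`
  let f : Additive L →ₗ[ℤ] FreeAbelianGroup Q :=
    (MonoidHom.toAdditive ((covAb Q).comp L.subtype)).toIntLinearMap
  obtain ⟨ev, hev⟩ : ∃ ev : Additive L →+ ℤ, ¬ (r : ℤ) ∣ ev (Additive.ofMul ⟨l₀, hl₀⟩) := by
    let S := LinearMap.range f
    obtain ⟨n, b⟩ := Submodule.basisOfPid (FreeAbelianGroup.basis Q) S
    let s₀ : S := f.rangeRestrict (Additive.ofMul ⟨l₀, hl₀⟩)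
    have hs₀ : ∃ i, ¬ (r : ℤ) ∣ b.repr s₀ i := by
      by_contra h
      push Not at h
      choose k hk using h
      let s : S := ∑ i, k i • b i
      have hs : (r : ℤ) • s = s₀ := by
        apply b.repr.injective
        ext i
        rw [map_zsmul, Finsupp.smul_apply, show b.repr s i = k i by
          simp [s, map_sum, Finsupp.single_apply], hk i, smul_eq_mul]
      obtain ⟨t, ht⟩ := s.2
      apply hy
      refine ⟨((Additive.toMul t : L) : Cov (pres Q)), (Additive.toMul t : L).2, ?_⟩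
      have h1 : (r : ℤ) • f t = f (Additive.ofMul ⟨l₀, hl₀⟩) := by
        rw [ht]; exact congrArg Subtype.val hs
      have hne : (r : ℤ) ≠ 0 := Nat.cast_ne_zero.mpr hr.ne_zero
      have h2 : (r : ℤ) • f t =
          (r : ℤ) • (show FreeAbelianGroup Q from Additive.ofMul y) := by
        rw [h1]
        show Additive.ofMul (covAb Q l₀) = (r : ℤ) • Additive.ofMul y
        rw [hl₀y, natCast_zsmul, ← ofMul_pow]
      have h3 := congrArg (FreeAbelianGroup.basis Q).repr h2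
      rw [map_zsmul, map_zsmul] at h3
      exact (FreeAbelianGroup.basis Q).repr.injective (smul_right_injective _ hne h3)
    obtain ⟨i, hi⟩ := hs₀
    exact ⟨((b.coord i).comp f.rangeRestrict).toAddMonoidHom, hi⟩
  let φ : L →* M Q := (zpowersHom (M Q) a).comp (AddMonoidHom.toMultiplicativeRight ev)
  have hφ : ∀ b : M Q, b ^ r ≠ φ ⟨l₀, hl₀⟩ := by
    intro b hb
    have h1 : φ ⟨l₀, hl₀⟩ = a ^ ev (Additive.ofMul ⟨l₀, hl₀⟩) := rfl
    obtain ⟨u, v, huv⟩ := ((Nat.prime_iff_prime_int.mp hr).coprime_iff_not_dvd.mpr hev)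
    refine ha (a ^ u * b ^ v) ?_
    calc (a ^ u * b ^ v) ^ r = a ^ (u * r) * (b ^ r) ^ v := by
          rw [mul_pow, zpow_mul, zpow_natCast, ← zpow_natCast (b ^ v), ← zpow_mul, mul_comm v,
            zpow_mul, zpow_natCast]
      _ = a ^ (u * r + v * ev (Additive.ofMul ⟨l₀, hl₀⟩)) := by
          rw [hb, h1, ← zpow_mul, ← zpow_add, mul_comm v]
      _ = a := by rw [huv, zpow_one]
  let τ : L →* Cov (pres Q) := MonoidHom.mk' (fun l => (l : Cov (pres Q)) * (φ l : Cov (pres Q)))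
    fun l l' => by
      rw [map_mul, Subgroup.coe_mul, Subgroup.coe_mul]
      have := Subgroup.mem_center_iff.mp (mult_le_center _ (φ l).2) (l' : Cov (pres Q))
      calc (l : Cov (pres Q)) * l' * ((φ l : Cov (pres Q)) * φ l')
          = (l : Cov (pres Q)) * ((l' : Cov (pres Q)) * φ l) * φ l' := by simp [mul_assoc]
        _ = _ := by rw [this]; simp [mul_assoc]
  have hτmem : ∀ l, τ l ∈ (proj (pres Q)).ker := fun l => mul_mem (hLK l.2) (φ l).2.1
  set L' := τ.range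
  have hL'K : L' ≤ (proj (pres Q)).ker := by rintro _ ⟨l, rfl⟩; exact hτmem l
  have := hnorm L' hL'K
  have hsup' : L' ⊔ mult (pres Q) = (proj (pres Q)).ker := by
    refine le_antisymm (sup_le hL'K inf_le_left) ?_
    rw [← hsup]
    refine sup_le (fun x hx => ?_) le_sup_right
    have h2 := mul_mem (Subgroup.mem_sup_left (T := mult (pres Q))
        (⟨⟨x, hx⟩, rfl⟩ : τ ⟨x, hx⟩ ∈ L'))
      (Subgroup.mem_sup_right (S := L') (inv_mem (φ ⟨x, hx⟩).2))
    have h3 : τ ⟨x, hx⟩ * ((φ ⟨x, hx⟩ : Cov (pres Q)))⁻¹ = x := mul_inv_cancel_right _ _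
    rwa [h3] at h2
  have hinf' : L' ⊓ mult (pres Q) = ⊥ := by
    rw [eq_bot_iff]
    intro x hx
    obtain ⟨⟨l, rfl⟩, hm⟩ := Subgroup.mem_inf.mp hx
    have hl : (l : Cov (pres Q)) ∈ mult (pres Q) := by
      have := mul_mem hm (inv_mem (φ l).2)
      rwa [show τ l * ((φ l : Cov (pres Q)))⁻¹ = l from mul_inv_cancel_right _ _] at this
    have hl1 : l = 1 := Subtype.ext (Subgroup.mem_bot.mp (hinf ▸ ⟨l.2, hl⟩))
    rw [hl1, map_one]
    exact one_mem _
  obtain ⟨f1, hs1, he1⟩ := cover_of_complement Q L hLK hsup hinf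
  obtain ⟨f2, hs2, he2⟩ := cover_of_complement Q L' hL'K hsup' hinf'
  refine ⟨Cov (pres Q) ⧸ L, Cov (pres Q) ⧸ L', inferInstance, f1, inferInstance, f2, _, _, hs1,
    hs2, he1, he2, ?_⟩
  intro e he
  let g₁ : Cov (pres Q) →* Cov (pres Q) ⧸ L' := e.toMonoidHom.comp (QuotientGroup.mk' L)
  have hg₁ : ∀ x, (QuotientGroup.lift L' (proj (pres Q)) hL'K) (g₁ x) = proj (pres Q) x := fun x =>
    DFunLike.congr_fun he (QuotientGroup.mk' L x)
  have hcen : ∀ z, z ∈ (QuotientGroup.lift L' (proj (pres Q)) hL'K).ker →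
      ∀ g, g * z = z * g := fun z hz g => Subgroup.mem_center_iff.mp (hs2.2.1 hz) g
  have hmem : ∀ x, (QuotientGroup.mk' L' x)⁻¹ * g₁ x ∈
      (QuotientGroup.lift L' (proj (pres Q)) hL'K).ker := fun x => by
    rw [MonoidHom.mem_ker, map_mul, map_inv, hg₁]
    exact inv_mul_cancel _
  let δ : Cov (pres Q) →* (QuotientGroup.lift L' (proj (pres Q)) hL'K).ker :=
    MonoidHom.mk' (fun x => ⟨_, hmem x⟩) fun x x' => Subtype.ext (by
      show (QuotientGroup.mk' L' (x * x'))⁻¹ * g₁ (x * x') =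
        ((QuotientGroup.mk' L' x)⁻¹ * g₁ x) * ((QuotientGroup.mk' L' x')⁻¹ * g₁ x')
      rw [← mul_assoc, ← hcen _ (hmem x) ((QuotientGroup.mk' L' x')⁻¹), map_mul, map_mul]
      group)
  obtain ⟨f⟩ := he2
  have hl₀φ : δ l₀ = δ l₀ := rfl
  -- `δ` factors through the abelianisation
  have hc : commutator (Cov (pres Q)) ≤ δ.ker := by
    rw [_root_.commutator_def, Subgroup.commutator_le]
    intro u _ v _
    rw [MonoidHom.mem_ker, map_commutatorElement, commutatorElement_eq_one_iff_mul_comm]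
    exact Subtype.ext (hcen _ (δ v).2 _)
  rw [← covAb_ker] at hc
  let ξ := (covAb Q).liftOfSurjective covAb_surjective ⟨δ, hc⟩
  have hξ : ∀ x, ξ (covAb Q x) = δ x := fun x =>
    MonoidHom.liftOfRightInverse_comp_apply (covAb Q) (Function.surjInv covAb_surjective)
      (Function.rightInverse_surjInv covAb_surjective) ⟨δ, hc⟩ x
  have hδ : δ l₀ = (ξ y) ^ r := by rw [← hξ, hl₀y, map_pow]
  -- the multiplier maps isomorphically to the kernel
  let m : M Q →* (QuotientGroup.lift L' (proj (pres Q)) hL'K).ker :=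
    ((QuotientGroup.mk' L').comp (mult (pres Q)).subtype).codRestrict _
      fun x => MonoidHom.mem_ker.mpr (MonoidHom.mem_ker.mp x.2.1 : proj (pres Q) x.1 = 1)
  have hm : Function.Bijective m := by
    refine Function.Injective.bijective_of_nat_card_le ?_ (Nat.card_congr f.toEquiv).le
    refine (injective_iff_map_eq_one m).mpr fun x hx => Subtype.ext ?_
    show (x : Cov (pres Q)) = 1
    rw [← Subgroup.mem_bot, ← hinf']
    exact ⟨(QuotientGroup.eq_one_iff _).mp (congrArg Subtype.val hx), x.2⟩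
  have hδl : δ l₀ = m (φ ⟨l₀, hl₀⟩) := by
    apply Subtype.ext
    show (QuotientGroup.mk' L' l₀)⁻¹ * g₁ l₀ =
      QuotientGroup.mk' L' (φ ⟨l₀, hl₀⟩ : Cov (pres Q))
    have h1 : g₁ l₀ = 1 := by
      show e (QuotientGroup.mk' L l₀) = 1
      rw [show QuotientGroup.mk' L l₀ = 1 from (QuotientGroup.eq_one_iff _).mpr hl₀, map_one]
    rw [h1, mul_one, inv_eq_iff_mul_eq_one, ← map_mul, QuotientGroup.mk'_apply,
      QuotientGroup.eq_one_iff]
    exact ⟨⟨l₀, hl₀⟩, rfl⟩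
  obtain ⟨b, hb⟩ := hm.2 (ξ y)
  exact hφ b (hm.1 (by rw [map_pow, hb, ← hδ, hδl]))


/-- Let `Q` be a finite group with Schur multiplier `A`. Any two Schur covering groups of `Q` (finite stem extensions `σ₁ : Γ₁ →* Q`, `σ₂ : Γ₂ →* Q` with kernels isomorphic to `A`, `Γ₁, Γ₂` in the universe of `Q`) are isomorphic over `Q` — there is a group isomorphism `e : Γ₁ ≃* Γ₂` with `σ₂ ∘ e = σ₁` — if and only if the order of the commutator quotient of `Q` is coprime to the order of `A`. In particular a finite perfect group has a unique Schur covering group up to isomorphism over it. -/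
theorem result {Q : Type u} [Group Q] [Finite Q] {A : Type v} [CommGroup A] (hA : Cfsg.HasSchurMultiplier Q A) : (∀ (Γ₁ Γ₂ : Type u) [Group Γ₁] [Finite Γ₁] [Group Γ₂] [Finite Γ₂] (σ₁ : Γ₁ →* Q) (σ₂ : Γ₂ →* Q), Cfsg.IsStemExtension σ₁ → Cfsg.IsStemExtension σ₂ → Nonempty (σ₁.ker ≃* A) → Nonempty (σ₂.ker ≃* A) → ∃ e : Γ₁ ≃* Γ₂, σ₂.comp e.toMonoidHom = σ₁) ↔ Nat.Coprime (Nat.card (Abelianization Q)) (Nat.card A) := by
  obtain ⟨eA⟩ := CfsgLib.Schur.hasSchurMultiplier_iff.mp hA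
  rw [Nat.card_congr eA.toEquiv]
  constructor
  · intro h
    by_contra hcop
    obtain ⟨Γ₁, Γ₂, _, _, _, _, σ₁, σ₂, hs1, hs2, ⟨e1⟩, ⟨e2⟩, hne⟩ := not_coprime_covers hcop
    obtain ⟨e, he⟩ := h Γ₁ Γ₂ σ₁ σ₂ hs1 hs2 ⟨e1.trans eA.symm⟩ ⟨e2.trans eA.symm⟩
    exact hne e he
  · intro hcop Γ₁ Γ₂ _ _ _ _ σ₁ σ₂ hs1 hs2 ⟨e1⟩ ⟨e2⟩
    exact covers_iso hcop σ₁ σ₂ hs1 hs2 ⟨e1.trans eA⟩ ⟨e2.trans eA⟩

end Cfsg.Agent.S3974
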