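import Cfsg.Statements.S3976
import Mathlib
import Cfsg.Agent.S3975

set_option autoImplicit false
open Cfsg

namespace Cfsg.Agent.S3976


/-- Let `p` be a prime and `G` a group of order `p ^ m`. For every `s ≤ m` the number of normal subgroups of `G` of order `p ^ s` is congruent to `1` modulo `p`. -/
theorem result {G : Type*} [Group G] [Finite G] (p m s : ℕ) (hp : p.Prime) (hG : Nat.card G = p ^ m) (hs : s ≤ m) : Nat.card {H : Subgroup G // H.Normal ∧ Nat.card H = p ^ s} ≡ 1 [MOD p] := by
  have := Fact.mk hp
  let Ω := {H : Subgroup G // Nat.card H = p ^ s}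
  letI act : MulAction (ConjAct G) Ω :=
    { smul := fun g H => ⟨H.1.map (MulDistribMulAction.toMonoidHom G g), by
        rw [Subgroup.card_map_of_injective (MulAction.injective g)]; exact H.2⟩
      one_smul := fun H => Subtype.ext (show H.1.map (MulDistribMulAction.toMonoidHom G
          (1 : ConjAct G)) = H.1 by
        ext x; simp)
      mul_smul := fun g h H => Subtype.ext (show H.1.map (MulDistribMulAction.toMonoidHom G
          (g * h)) = (H.1.map (MulDistribMulAction.toMonoidHom G h)).map
            (MulDistribMulAction.toMonoidHom G g) by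
        rw [Subgroup.map_map]; congr 1; ext x; simp [mul_smul]) }
  have hpg : IsPGroup p (ConjAct G) := IsPGroup.of_card (n := m) hG
  have h1 := hpg.card_modEq_card_fixedPoints Ω
  have h2 := Cfsg.Agent.S3975.result (G := G) p s hp (hG ▸ pow_dvd_pow p hs)
  refine (Nat.ModEq.trans ?_ h1.symm).trans h2
  refine congrArg (· % p) (Nat.card_congr ?_)
  refine
    { toFun := fun H => ⟨⟨H.1, H.2.2⟩, ?_⟩
      invFun := fun H => ⟨H.1.1, ?_, H.1.2⟩
      left_inv := fun H => rfl
      right_inv := fun H => rfl }
  · intro g
    apply Subtype.ext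
    show H.1.map (MulDistribMulAction.toMonoidHom G g) = H.1
    refine Subgroup.eq_of_le_of_card_ge ?_ ?_
    · rintro x ⟨y, hy, rfl⟩
      show g • y ∈ H.1
      rw [ConjAct.smul_def]
      exact H.2.1.conj_mem y hy _
    · rw [Subgroup.card_map_of_injective (MulAction.injective g)]
  · refine ⟨fun x hx g => ?_⟩
    have h := congrArg Subtype.val (H.2 (ConjAct.toConjAct g))
    have h' : H.1.1.map (MulDistribMulAction.toMonoidHom G (ConjAct.toConjAct g)) =
        H.1.1 := h
    rw [← h']
    exact ⟨x, hx, by simp [ConjAct.smul_def]⟩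

end Cfsg.Agent.S3976
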