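import Cfsg.Statements.S3977
import Mathlib

set_option autoImplicit false
open Cfsg
open scoped commutatorElement

namespace Cfsg.Agent.S3977

universe u

theorem mul_pow_class_two {G : Type u} [Group G] {x y : G}
    (hc : ∀ g : G, Commute g ⁅y, x⁆) :
    ∀ n : ℕ, (x * y) ^ n = ⁅y, x⁆ ^ n.choose 2 * (x ^ n * y ^ n) := by
  set c := ⁅y, x⁆ with hcdef
  have hyx : y * x = c * (x * y) := by rw [hcdef, commutatorElement_def]; group
  have hyn : ∀ n : ℕ, y ^ n * x = c ^ n * (x * y ^ n) := by
    intro n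
    induction n with
    | zero => simp
    | succ n ih =>
      calc y ^ (n + 1) * x = y ^ n * (y * x) := by rw [pow_succ]; group
        _ = y ^ n * c * (x * y) := by rw [hyx]; group
        _ = c * y ^ n * (x * y) := by rw [(hc (y ^ n)).eq]
        _ = c * (y ^ n * x) * y := by group
        _ = c * (c ^ n * (x * y ^ n)) * y := by rw [ih]
        _ = c ^ (n + 1) * (x * y ^ (n + 1)) := by rw [pow_succ' c, pow_succ y]; group
  intro n
  induction n with
  | zero => simp
  | succ n ih =>
    have hcn : x ^ n * c ^ n = c ^ n * x ^ n := ((hc x).pow_pow n n).eq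
    calc (x * y) ^ (n + 1) = (x * y) ^ n * (x * y) := pow_succ _ _
      _ = c ^ n.choose 2 * (x ^ n * (y ^ n * x)) * y := by rw [ih]; group
      _ = c ^ n.choose 2 * (x ^ n * c ^ n * (x * y ^ n)) * y := by rw [hyn]; group
      _ = c ^ n.choose 2 * (c ^ n * x ^ n * (x * y ^ n)) * y := by rw [hcn]
      _ = c ^ (n.choose 2 + n) * (x ^ (n + 1) * y ^ (n + 1)) := by
        rw [pow_add, pow_succ x, pow_succ y]; group
      _ = _ := by rw [Nat.choose_succ_succ, Nat.choose_one_right, add_comm]

theorem cyclic_of_unique {p : ℕ} (hp : p.Prime) {s : ℕ} (hs : 1 ≤ s) (h2 : p ≠ 2 ∨ 2 ≤ s) :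
    ∀ (m : ℕ) (G : Type u) [Group G] [Finite G], Nat.card G = p ^ m → s < m →
      (∀ H K : Subgroup G, Nat.card H = p ^ s → Nat.card K = p ^ s → H = K) → IsCyclic G := by
  intro m
  induction m using Nat.strong_induction_on with
  | _ m IH =>
  intro G _ _ hG hsm huniq
  have := Fact.mk hp
  have hP : IsPGroup p G := IsPGroup.of_card hG
  have hnil : Group.IsNilpotent G := hP.isNilpotent
  by_contra hnc
  obtain ⟨H, hH⟩ := Sylow.exists_subgroup_card_pow_prime p (G := G) (n := s)
    (hG ▸ pow_dvd_pow p hsm.le)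
  -- every element lies in a subgroup of index `p`
  have hmax : ∀ x : G, ∃ M : Subgroup G, x ∈ M ∧ Nat.card M = p ^ (m - 1) := by
    intro x
    obtain ⟨i, hi, hix⟩ := (Nat.dvd_prime_pow hp).mp (hG ▸ orderOf_dvd_natCard x)
    have him : i ≤ m - 1 := by
      rcases Nat.lt_or_eq_of_le hi with h | h
      · omega
      · exact absurd (isCyclic_of_orderOf_eq_card x (by rw [hix, h, hG])) hnc
    obtain ⟨M, hM, hxM⟩ := Sylow.exists_subgroup_card_pow_prime_le p
      (hG ▸ pow_dvd_pow p (by omega : m - 1 ≤ m)) (Subgroup.zpowers x)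
      ((Nat.card_zpowers x).trans hix) him
    exact ⟨M, hxM (Subgroup.mem_zpowers x), hM⟩
  have hidx : ∀ M : Subgroup G, Nat.card M = p ^ (m - 1) → M.index = p := by
    intro M hM
    have h := Subgroup.card_mul_index M
    rw [hM, hG, show p ^ m = p ^ (m - 1) * p by rw [← pow_succ]; congr 1; omega] at h
    exact mul_left_cancel₀ (pow_pos hp.pos _).ne' h
  have hnorm : ∀ M : Subgroup G, Nat.card M = p ^ (m - 1) → M.Normal := by
    intro M hM
    apply Subgroup.normal_of_index_eq_minFac_card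
    rw [hidx M hM, hG, hp.pow_minFac (by omega)]
  rcases Nat.lt_or_eq_of_le (show s + 1 ≤ m by omega) with hlt | heq
  swap
  · -- the subgroup of order `p ^ s` is the only maximal one
    have : ∀ x : G, x ∈ H := fun x => by
      obtain ⟨M, hxM, hM⟩ := hmax x
      rwa [huniq H M hH (hM.trans (by congr 1; omega))]
    have := Subgroup.eq_top_iff' H |>.mpr this
    rw [this, Subgroup.card_top, hG] at hH
    exact absurd (Nat.pow_right_injective hp.two_le hH) (by omega)
  have hcyc : ∀ M : Subgroup G, Nat.card M = p ^ (m - 1) → IsCyclic M := by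
    intro M hM
    refine IH (m - 1) (by omega) M hM (by omega) fun A B hA hB => ?_
    exact Subgroup.map_injective M.subtype_injective (huniq _ _
      ((Subgroup.card_map_of_injective M.subtype_injective).trans hA)
      ((Subgroup.card_map_of_injective M.subtype_injective).trans hB))
  obtain ⟨M1, -, hM1⟩ := hmax 1
  obtain ⟨x2, hx2⟩ : ∃ x, x ∉ M1 := by
    by_contra h
    push Not at h
    have := Subgroup.eq_top_iff' M1 |>.mpr h
    rw [this, Subgroup.card_top, hG] at hM1
    exact absurd (Nat.pow_right_injective hp.two_le hM1) (by omega)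
  obtain ⟨M2, hx2M, hM2⟩ := hmax x2
  set D := M1 ⊓ M2 with hD
  have := hnorm M1 hM1
  have := hnorm M2 hM2
  have hcomm : ∀ M : Subgroup G, Nat.card M = p ^ (m - 1) → ∀ a ∈ M, ∀ b ∈ M, a * b = b * a := by
    intro M hM a ha b hb
    have := (hcyc M hM).isMulCommutative
    exact setLike_mul_comm ha hb
  have hsup : M1 ⊔ M2 = ⊤ := by
    have hlt' : M1 < M1 ⊔ M2 := lt_of_le_of_ne le_sup_left fun e =>
      hx2 (e ▸ le_sup_right (a := M1) hx2M)
    have h1 := Subgroup.relIndex_mul_index hlt'.le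
    rw [hidx M1 hM1] at h1
    rcases (Nat.dvd_prime hp).mp (Dvd.intro_left _ h1) with h | h
    · exact Subgroup.index_eq_one.mp h
    · rw [h] at h1
      exact absurd (Subgroup.relIndex_eq_one.mp (mul_right_cancel₀ hp.ne_zero (h1.trans (one_mul p).symm)))
        (not_le_of_gt hlt')
  have hDc : D ≤ Subgroup.center G := by
    intro d hd
    rw [Subgroup.mem_center_iff]
    intro g
    have : g ∈ Subgroup.centralizer ({d} : Set G) := by
      refine (sup_le (fun a ha => ?_) (fun a ha => ?_) : M1 ⊔ M2 ≤ _) (hsup ▸ Subgroup.mem_top g)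
      · exact Subgroup.mem_centralizer_singleton_iff.mpr (hcomm M1 hM1 a ha d hd.1)
      · exact Subgroup.mem_centralizer_singleton_iff.mpr (hcomm M2 hM2 a ha d hd.2)
    exact Subgroup.mem_centralizer_singleton_iff.mp this
  have hpowM : ∀ M : Subgroup G, Nat.card M = p ^ (m - 1) → ∀ x : G, x ^ p ∈ M := by
    intro M hM x
    have := hnorm M hM
    rw [← hidx M hM]
    exact Subgroup.pow_index_mem M x
  have hpow : ∀ x : G, x ^ p ∈ D := fun x => ⟨hpowM M1 hM1 x, hpowM M2 hM2 x⟩
  have hcm : ∀ x y : G, ⁅x, y⁆ ∈ D := by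
    have key : ∀ M : Subgroup G, Nat.card M = p ^ (m - 1) → ∀ x y : G, ⁅x, y⁆ ∈ M := by
      intro M hM x y
      have := hnorm M hM
      have hc : IsCyclic (G ⧸ M) := isCyclic_of_prime_card (p := p) (hidx M hM)
      have := hc.isMulCommutative
      rw [← QuotientGroup.eq_one_iff, ← QuotientGroup.mk'_apply, map_commutatorElement,
        commutatorElement_eq_one_iff_mul_comm]
      exact this.is_comm.comm _ _
    exact fun x y => ⟨key M1 hM1 x y, key M2 hM2 x y⟩
  have hcen : ∀ x y g : G, Commute g ⁅x, y⁆ := fun x y g =>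
    Subgroup.mem_center_iff.mp (hDc (hcm x y)) g
  have hcp : ∀ x y : G, ⁅x, y⁆ ^ p = 1 := by
    intro x y
    set c := ⁅x, y⁆
    have hn : ∀ n : ℕ, x ^ n * y * (x ^ n)⁻¹ = c ^ n * y := by
      intro n
      induction n with
      | zero => simp
      | succ n ih =>
        calc x ^ (n + 1) * y * (x ^ (n + 1))⁻¹ = x * (x ^ n * y * (x ^ n)⁻¹) * x⁻¹ := by
              rw [pow_succ']; group
          _ = (x * c ^ n) * (y * x⁻¹) := by rw [ih]; group
          _ = c ^ n * x * (y * x⁻¹) := by rw [((hcen x y x).pow_right n).eq]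
          _ = c ^ n * (c * y) := by simp only [c, commutatorElement_def]; group
          _ = c ^ (n + 1) * y := by rw [pow_succ]; group
    have h1 := hn p
    rw [← Subgroup.mem_center_iff.mp (hDc (hpow x)) y, mul_inv_cancel_right] at h1
    exact mul_eq_right.mp h1.symm
  set N := p ^ s
  have hdvd : p ∣ N.choose 2 := by
    rw [Nat.choose_two_right]
    rcases h2 with h2 | h2
    · have hc : Nat.Coprime p 2 := (Nat.coprime_primes hp Nat.prime_two).mpr h2
      refine hc.dvd_of_dvd_mul_right ?_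
      rw [Nat.div_mul_cancel (Nat.even_mul_pred_self N).two_dvd]
      exact (dvd_pow_self p (by omega : s ≠ 0)).mul_right _
    · by_cases hp2 : p = 2
      · subst hp2
        obtain ⟨k, rfl⟩ : ∃ k, s = k + 2 := ⟨s - 2, by omega⟩
        refine ⟨2 ^ k * (N - 1), ?_⟩
        rw [Nat.div_eq_of_eq_mul_left two_pos]
        show N * (N - 1) = 2 * (2 ^ k * (N - 1)) * 2
        simp only [N]; ring
      · have hc : Nat.Coprime p 2 := (Nat.coprime_primes hp Nat.prime_two).mpr hp2
        refine hc.dvd_of_dvd_mul_right ?_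
        rw [Nat.div_mul_cancel (Nat.even_mul_pred_self N).two_dvd]
        exact (dvd_pow_self p (by omega : s ≠ 0)).mul_right _
  let f : G →* G := MonoidHom.mk' (fun x => x ^ N) fun x y => by
    skip
    rw [mul_pow_class_two (fun g => hcen y x g) N]
    obtain ⟨k, hk⟩ := hdvd
    rw [hk, pow_mul, hcp, one_pow, one_mul]
  have hker : f.ker ≤ H := by
    intro x hx
    have hx' : x ^ N = 1 := hx
    obtain ⟨i, hi, hix⟩ := (Nat.dvd_prime_pow hp).mp (orderOf_dvd_of_pow_eq_one hx')
    obtain ⟨K, hK, hxK⟩ := Sylow.exists_subgroup_card_pow_prime_le p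
      (hG ▸ pow_dvd_pow p hsm.le) (Subgroup.zpowers x) ((Nat.card_zpowers x).trans hix) hi
    rw [huniq H K hH hK]
    exact hxK (Subgroup.mem_zpowers x)
  -- the image is small
  have hDcard : Nat.card D ∣ p ^ (m - 2) := by
    have hne : D < M1 := lt_of_le_of_ne inf_le_left fun e =>
      hx2 (by
        have hle : M1 ≤ M2 := inf_eq_left.mp e
        rw [Subgroup.eq_of_le_of_card_ge hle (hM2.trans hM1.symm).le]; exact hx2M)
    obtain ⟨j, hj, hjD⟩ := (Nat.dvd_prime_pow hp).mp
      (hM1 ▸ Subgroup.card_dvd_of_le hne.le : Nat.card D ∣ p ^ (m - 1))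
    rcases Nat.lt_or_eq_of_le hj with h | h
    · rw [hjD]; exact pow_dvd_pow p (by omega)
    · exact absurd (Subgroup.eq_of_le_of_card_ge hne.le (by rw [hjD, h, hM1])) hne.ne
  have : IsCyclic D := by
    have := hcyc M1 hM1
    exact isCyclic_of_injective (Subgroup.inclusion (inf_le_left : D ≤ M1))
      (Subgroup.inclusion_injective _)
  obtain ⟨d, hd⟩ := IsCyclic.exists_zpow_surjective (G := D)
  have hrange : f.range ≤ Subgroup.zpowers ((d : G) ^ p ^ (s - 1)) := by
    rintro _ ⟨x, rfl⟩
    obtain ⟨k, hk⟩ := hd ⟨x ^ p, hpow x⟩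
    refine ⟨k, ?_⟩
    have hk' : (d : G) ^ k = x ^ p := congrArg Subtype.val hk
    show ((d : G) ^ p ^ (s - 1)) ^ k = x ^ N
    rw [← zpow_natCast, zpow_comm, hk', zpow_natCast, ← pow_mul, ← pow_succ', Nat.sub_add_cancel hs]
  have hord : orderOf ((d : G) ^ p ^ (s - 1)) ∣ p ^ (m - s - 1) := by
    apply orderOf_dvd_of_pow_eq_one
    rw [← pow_mul, ← pow_add, show s - 1 + (m - s - 1) = m - 2 by omega]
    exact orderOf_dvd_iff_pow_eq_one.mp ((Subgroup.orderOf_dvd_natCard D d.2).trans hDcard)
  have h1 := Subgroup.card_mul_index f.ker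
  rw [Subgroup.index_ker, hG] at h1
  have h3 : Nat.card f.range ≤ p ^ (m - s - 1) :=
    (Subgroup.card_le_of_le hrange).trans
      ((Nat.card_zpowers _).le.trans (Nat.le_of_dvd (pow_pos hp.pos _) hord))
  have h4 : Nat.card f.ker ≤ p ^ s := (Subgroup.card_le_of_le hker).trans hH.le
  have h5 : p ^ m ≤ p ^ s * p ^ (m - s - 1) := h1 ▸ Nat.mul_le_mul h4 h3
  rw [← pow_add] at h5
  have := (Nat.pow_le_pow_iff_right hp.one_lt).mp h5
  omega


/-- Let `p` be a prime and `G` a group of order `p ^ m` which has exactly one subgroup of order `p ^ s`, where `1 ≤ s < m`, and where `s ≥ 2` if `p = 2`. Then `G` is cyclic. (For `p = 2` and `s = 1` the generalized quaternion groups also occur; that case is the classical criterion for a unique involution.) -/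
theorem result {G : Type*} [Group G] [Finite G] (p m s : ℕ) (hp : p.Prime) (hG : Nat.card G = p ^ m) (hs : 1 ≤ s) (hsm : s < m) (h2 : p ≠ 2 ∨ 2 ≤ s) (huniq : ∀ H K : Subgroup G, Nat.card H = p ^ s → Nat.card K = p ^ s → H = K) : IsCyclic G := by
  exact cyclic_of_unique hp hs h2 m G hG hsm huniq

end Cfsg.Agent.S3977
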