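import Cfsg.Statements.S3978
import Mathlib
import Cfsg.Agent.S3955
import Cfsg.Agent.S3956
import Cfsg.Agent.Lib.Schur.Projective

set_option autoImplicit false
open Cfsg

namespace Cfsg.Agent.S3978


/-- A finite group `Q` has trivial Schur multiplier if and only if, for every `n`, every homomorphism from `Q` to the projective general linear group (the quotient of `GL n ℂ` by its centre) lifts to a homomorphism into `GL n ℂ`. -/
theorem result {Q : Type*} [Group Q] [Finite Q] : Cfsg.HasCyclicSchurMultiplier Q 1 ↔ ∀ (n : ℕ) (γ : Q →* (GL (Fin n) ℂ ⧸ Subgroup.center (GL (Fin n) ℂ))), ∃ ρ : Q →* GL (Fin n) ℂ, (QuotientGroup.mk' (Subgroup.center (GL (Fin n) ℂ))).comp ρ = γ := by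
  constructor
  · intro h n γ
    obtain ⟨ρ, hρ⟩ := Cfsg.Agent.S3955.result h (MonoidHom.id Q)
      ⟨Function.surjective_id, by rw [MonoidHom.ker_id]; exact bot_le,
        by rw [MonoidHom.ker_id]; exact bot_le⟩
      (by
        rw [MonoidHom.ker_id]
        have : Unique (Multiplicative (ZMod 1)) :=
          ⟨⟨1⟩, fun t => Multiplicative.toAdd.injective (Subsingleton.elim _ _)⟩
        exact ⟨MulEquiv.ofUnique⟩) n γ
    exact ⟨ρ, by rw [hρ, MonoidHom.comp_id]⟩
  · intro hl
    have hid : Cfsg.IsStemExtension (MonoidHom.id Q) :=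
      ⟨Function.surjective_id, by rw [MonoidHom.ker_id]; exact bot_le,
        by rw [MonoidHom.ker_id]; exact bot_le⟩
    rw [CfsgLib.Schur.hasCyclic_one_iff]
    obtain ⟨Γ, _, _, τ, hτ, ⟨e⟩⟩ := CfsgLib.Schur.exists_cover Q
    obtain ⟨π, hπ⟩ := Cfsg.Agent.S3956.result (MonoidHom.id Q) hid
      (fun n γ => by rw [MonoidHom.comp_id]; exact hl n γ) Γ τ hτ
    have : Subsingleton (MonoidHom.id Q).ker := by rw [MonoidHom.ker_id]; infer_instance
    exact (e.surjective.comp hπ).subsingleton

end Cfsg.Agent.S3978
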