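import Cfsg.Statements.S3979
import Mathlib

set_option autoImplicit false
open Cfsg

namespace Cfsg.Agent.S3979


/-- A finite cyclic group has trivial Schur multiplier: every finite stem extension of it is an isomorphism, said through `HasCyclicSchurMultiplier G 1`. -/
theorem result {G : Type*} [Group G] [Finite G] [IsCyclic G] : Cfsg.HasCyclicSchurMultiplier G 1 := by
  have hk : Nat.card (Multiplicative (ZMod 1)) = 1 := by simp
  refine ⟨⟨G, inferInstance, inferInstance, MonoidHom.id G, ⟨Function.surjective_id, ?_, ?_⟩, ?_⟩, ?_⟩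
  · rw [MonoidHom.ker_id]; exact bot_le
  · rw [MonoidHom.ker_id]; exact bot_le
  · rw [MonoidHom.ker_id]
    have : Subsingleton (⊥ : Subgroup G) := inferInstance
    exact ⟨{ toFun := fun _ => 1, invFun := fun _ => 1, left_inv := fun _ => Subsingleton.elim _ _,
             right_inv := fun _ => Subsingleton.elim _ _, map_mul' := fun _ _ => Subsingleton.elim _ _ }⟩
  · intro Γ _ _ σ ⟨hsurj, hcen, hcomm⟩
    have hker : σ.ker = ⊥ := by
      rw [eq_bot_iff]
      refine hcomm.trans ?_
      rw [commutator_def, Subgroup.commutator_le]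
      intro a _ b _
      rw [Subgroup.mem_bot, commutatorElement_eq_one_iff_mul_comm]
      exact commutative_of_cyclic_center_quotient σ hcen a b
    refine ⟨1, fun x => ⟨1, ?_⟩⟩
    rw [map_one]
    exact Subtype.ext (by simpa using ((Subgroup.mem_bot.mp (hker.le x.2))).symm)

end Cfsg.Agent.S3979
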