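import Cfsg.Statements.S3980
import Mathlib
import Cfsg.Agent.Lib.Schur.Product

set_option autoImplicit false
universe u v w
open Cfsg
open scoped TensorProduct

namespace Cfsg.Agent.S3980


/-- Let `Q₁` and `Q₂` be finite groups whose commutator quotients have coprime orders, with Schur multipliers `A` and `B`. Then the Schur multiplier of `Q₁ × Q₂` is isomorphic to `A × B`. -/
theorem result {Q₁ : Type u} {Q₂ : Type v} [Group Q₁] [Group Q₂] [Finite Q₁] [Finite Q₂] {A B : Type w} [CommGroup A] [CommGroup B] (hA : Cfsg.HasSchurMultiplier Q₁ A) (hB : Cfsg.HasSchurMultiplier Q₂ B) (hcop : Nat.Coprime (Nat.card (Abelianization Q₁)) (Nat.card (Abelianization Q₂))) : Cfsg.HasSchurMultiplier (Q₁ × Q₂) (A × B) := by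
  obtain ⟨a⟩ := CfsgLib.Schur.hasSchurMultiplier_iff.mp hA
  obtain ⟨c⟩ := CfsgLib.Schur.hasSchurMultiplier_iff.mp
    (CfsgLib.Schur.hasSchurMultiplier_prod hA hB)
  apply CfsgLib.Schur.hasSchurMultiplier_iff.mpr
  have hz : ∀ t : TensorProduct ℤ (Additive (Abelianization Q₁)) (Additive (Abelianization Q₂)),
      t = 0 := by
    intro t
    induction t using TensorProduct.induction_on with
    | zero => rfl
    | add x y hx hy => rw [hx, hy, add_zero]
    | tmul x y =>
      have h1 : (Nat.card (Abelianization Q₁) : ℤ) • x = 0 := by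
        rw [natCast_zsmul]; exact card_nsmul_eq_zero' (x := x)
      have h2 : (Nat.card (Abelianization Q₂) : ℤ) • y = 0 := by
        rw [natCast_zsmul]; exact card_nsmul_eq_zero' (x := y)
      obtain ⟨u, v, huv⟩ := hcop.isCoprime
      calc x ⊗ₜ[ℤ] y = ((u * (Nat.card (Abelianization Q₁) : ℤ) + v * (Nat.card (Abelianization Q₂) : ℤ)) • x) ⊗ₜ[ℤ] y := by
            rw [huv, one_smul]
        _ = 0 := by
          rw [add_smul, mul_smul, mul_smul, h1, smul_zero, zero_add, ← mul_smul,
            TensorProduct.smul_tmul, mul_smul, h2, smul_zero, TensorProduct.tmul_zero]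
  have : Unique (CfsgLib.Schur.AbTensor Q₁ Q₂) :=
    ⟨⟨1⟩, fun t => hz (Multiplicative.toAdd t)⟩
  exact ⟨(MulEquiv.prodCongr (MulEquiv.refl A) (MulEquiv.prodUnique (M := B)
    (N := CfsgLib.Schur.AbTensor Q₁ Q₂)).symm).trans c⟩

end Cfsg.Agent.S3980
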