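import Cfsg.Statements.S3981
import Mathlib

set_option autoImplicit false
open Cfsg

namespace Cfsg.Agent.S3981


/-- Let p be an odd prime, Q a p-subgroup of the finite group G and y an involution normalizing Q. Then Q is maximal among the p-subgroups of G normalized by y if and only if the image of y in N_G(Q) ⧸ Q neither inverts nor centralizes any element of order p there; the latter is phrased inside N_G(Q): for every x in N_G(Q) outside Q with x ^ p ∈ Q, neither y x y⁻¹ x nor y x y⁻¹ x⁻¹ lies in Q. -/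
theorem result {G : Type*} [Group G] [Finite G] (p : ℕ) [Fact p.Prime] (hp2 : p ≠ 2) (Q : Subgroup G) (hQ : IsPGroup p ↥Q) (y : G) (hy : orderOf y = 2) (hyQ : y ∈ Subgroup.normalizer (Q : Set G)) : (∀ R : Subgroup G, IsPGroup p ↥R → Q ≤ R → y ∈ Subgroup.normalizer (R : Set G) → R = Q) ↔ ∀ x : G, x ∈ Subgroup.normalizer (Q : Set G) → x ∉ Q → x ^ p ∈ Q → (y * x * y⁻¹ * x ∉ Q ∧ y * x * y⁻¹ * x⁻¹ ∉ Q) := by
  have hp := (Fact.out : p.Prime)
  have hy2 : y * y = 1 := by rw [← pow_two, ← hy]; exact pow_orderOf_eq_one y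
  have hyi : y⁻¹ = y := inv_eq_of_mul_eq_one_right hy2
  constructor
  · intro hmax x hxN hxQ hxp
    by_contra hcon
    rw [not_and_or, not_not, not_not] at hcon
    set R := Subgroup.zpowers x ⊔ Q
    have hle : Subgroup.zpowers x ≤ Subgroup.normalizer (Q : Set G) := by
      rw [Subgroup.zpowers_le]; exact hxN
    have hxpg : IsPGroup p (Subgroup.zpowers x) := by
      obtain ⟨k, hk⟩ := hQ ⟨x ^ p, hxp⟩
      have h1 : x ^ (p ^ (k + 1)) = 1 := by
        rw [pow_succ', pow_mul]
        simpa using congrArg Subtype.val hk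
      obtain ⟨i, -, hi⟩ := (Nat.dvd_prime_pow hp).mp (orderOf_dvd_of_pow_eq_one h1)
      exact IsPGroup.of_card ((Nat.card_zpowers x).trans hi)
    have hyxy : y * x * y⁻¹ ∈ R := by
      rcases hcon with h | h
      · have := mul_mem (le_sup_right (a := Subgroup.zpowers x) h)
          (inv_mem (le_sup_left (b := Q) (Subgroup.mem_zpowers x)))
        rwa [mul_inv_cancel_right] at this
      · have := mul_mem (le_sup_right (a := Subgroup.zpowers x) h)
          (le_sup_left (b := Q) (Subgroup.mem_zpowers x))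
        rwa [inv_mul_cancel_right] at this
    have hconj : R ≤ R.comap (MulAut.conj y).toMonoidHom := by
      refine sup_le (Subgroup.zpowers_le.mpr ?_) fun z hz => ?_
      · exact hyxy
      · exact le_sup_right (a := Subgroup.zpowers x) ((Subgroup.mem_normalizer_iff.mp hyQ z).mp hz)
    have hyR : y ∈ Subgroup.normalizer (R : Set G) := by
      rw [Subgroup.mem_normalizer_iff]
      refine fun z => ⟨fun hz => hconj hz, fun hz => ?_⟩
      have h2 : y * (y * z * y⁻¹) * y⁻¹ ∈ R := hconj hz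
      rwa [show y * (y * z * y⁻¹) * y⁻¹ = (y * y) * z * (y * y)⁻¹ by group, hy2, one_mul, inv_one,
        mul_one] at h2
    have hR : R = Q := hmax R (hxpg.to_sup_of_normal_right' hQ hle) le_sup_right hyR
    exact hxQ (hR ▸ le_sup_left (b := Q) (Subgroup.mem_zpowers x))
  · intro h R hR hQR hyR
    by_contra hne
    have hlt : Q < R := lt_of_le_of_ne hQR (Ne.symm hne)
    have : Group.IsNilpotent R := hR.isNilpotent
    have hlt' : Q.subgroupOf R < ⊤ := lt_top_iff_ne_top.mpr fun e =>
      hne (le_antisymm (Subgroup.subgroupOf_eq_top.mp e) hQR)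
    obtain ⟨r, hrn, hrq⟩ := SetLike.exists_of_lt
      (Group.normalizerCondition_of_isNilpotent (G := R) _ hlt')
    set N := R ⊓ Subgroup.normalizer (Q : Set G) with hNdef
    have hQN : Q ≤ N := le_inf hQR Subgroup.le_normalizer
    have hrN : (r : G) ∈ N := by
      refine ⟨r.2, Subgroup.mem_normalizer_iff.mpr fun z => ?_⟩
      rw [Subgroup.mem_normalizer_iff] at hrn
      constructor
      · intro hz
        have := (hrn ⟨z, hQR hz⟩).mp (Subgroup.mem_subgroupOf.mpr hz)
        simpa [Subgroup.mem_subgroupOf] using this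
      · intro hz
        have hzR : z ∈ R := by
          have := mul_mem (mul_mem (inv_mem r.2) (hQR hz)) r.2
          simpa [mul_assoc] using this
        have := (hrn ⟨z, hzR⟩).mpr (by simpa [Subgroup.mem_subgroupOf] using hz)
        simpa [Subgroup.mem_subgroupOf] using this
    set Q' := Q.subgroupOf N
    have hQ'n : Q'.Normal := Subgroup.normal_subgroupOf_of_le_normalizer inf_le_right
    have : Nontrivial (N ⧸ Q') := by
      refine ⟨QuotientGroup.mk (⟨r, hrN⟩ : N), 1, fun e => hrq ?_⟩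
      rw [QuotientGroup.eq_one_iff, Subgroup.mem_subgroupOf] at e
      exact Subgroup.mem_subgroupOf.mpr e
    have hNp : IsPGroup p (N ⧸ Q') :=
      ((hR.to_le (inf_le_left : N ≤ R)).to_quotient Q')
    have := hNp.center_nontrivial
    obtain ⟨k, hk0, hk⟩ := (hNp.to_subgroup (Subgroup.center (N ⧸ Q'))).nontrivial_iff_card.mp this
    obtain ⟨z, hz⟩ := exists_prime_orderOf_dvd_card' p (hk ▸ dvd_pow_self p hk0.ne')
    obtain ⟨x, hx⟩ := QuotientGroup.mk'_surjective Q' (z : N ⧸ Q')
    have hmemQ : ∀ w : N, QuotientGroup.mk' Q' w = 1 ↔ (w : G) ∈ Q := fun w =>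
      (QuotientGroup.eq_one_iff w).trans Subgroup.mem_subgroupOf
    have hxQ : (x : G) ∉ Q := by
      rw [← hmemQ, hx]
      intro e
      rw [OneMemClass.coe_eq_one] at e
      rw [e, orderOf_one] at hz
      exact hp.one_lt.ne hz
    have hxp : (x : G) ^ p ∈ Q := by
      rw [← SubmonoidClass.coe_pow, ← hmemQ, map_pow, hx, ← SubmonoidClass.coe_pow,
        OneMemClass.coe_eq_one, ← hz]
      exact pow_orderOf_eq_one z
    obtain ⟨h1, h2⟩ := h x x.2.2 hxQ hxp
    have huN : y * x * y⁻¹ ∈ N :=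
      Subgroup.mem_inf.mpr ⟨(Subgroup.mem_normalizer_iff.mp hyR _).mp x.2.1,
        mul_mem (mul_mem hyQ x.2.2) (inv_mem hyQ)⟩
    set u : N := ⟨y * x * y⁻¹, huN⟩
    have hcomm : QuotientGroup.mk' Q' x * QuotientGroup.mk' Q' u =
        QuotientGroup.mk' Q' u * QuotientGroup.mk' Q' x := by
      rw [hx]; exact (Subgroup.mem_center_iff.mp z.2 _).symm
    have hsw : (x : G)⁻¹ * (y * x * y⁻¹)⁻¹ * (x * (y * x * y⁻¹)) ∈ Q := by
      have h3 : QuotientGroup.mk' Q' (x⁻¹ * u⁻¹ * (x * u)) = 1 := by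
        rw [map_mul, map_mul, map_mul, map_inv, map_inv, hcomm]; group
      exact (hmemQ _).mp h3
    set w : G := y * x * y⁻¹ * x
    have hwN : w ∈ Subgroup.normalizer (Q : Set G) := mul_mem huN.2 x.2.2
    have hwp : w ^ p ∈ Q := by
      have h3 : QuotientGroup.mk' Q' ((u * x) ^ p) = 1 := by
        rw [map_pow, map_mul, (show Commute (QuotientGroup.mk' Q' u) (QuotientGroup.mk' Q' x) from
          hcomm.symm).mul_pow, ← map_pow, ← map_pow]
        rw [(hmemQ (x ^ p)).mpr hxp, (hmemQ (u ^ p)).mpr ?_, one_mul]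
        show (y * x * y⁻¹) ^ p ∈ Q
        rw [conj_pow]
        exact (Subgroup.mem_normalizer_iff.mp hyQ _).mp hxp
      exact (hmemQ _).mp h3
    apply (h w hwN h1 hwp).2
    have h4 : y * w * y⁻¹ = x * (y * x * y⁻¹) := by
      show y * (y * x * y⁻¹ * x) * y⁻¹ = x * (y * x * y⁻¹)
      rw [show y * (y * x * y⁻¹ * x) * y⁻¹ = (y * y) * x * y⁻¹ * x * y⁻¹ by group, hy2, hyi]
      group
    rw [h4]
    have h5 := (Subgroup.mem_normalizer_iff.mp hwN _).mp hsw
    rwa [show w * ((x : G)⁻¹ * (y * x * y⁻¹)⁻¹ * (x * (y * x * y⁻¹))) * w⁻¹ =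
      x * (y * x * y⁻¹) * w⁻¹ by simp only [w]; group] at h5

end Cfsg.Agent.S3981
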