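import Cfsg.Statements.S3982
import Mathlib

set_option autoImplicit false
open Cfsg

namespace Cfsg.Agent.S3982


/-- Let p be an odd prime and G a finite group of even order divisible by p in which the centralizer of every non-identity p-element has odd order. If some nontrivial p-subgroup of G has a normalizer of even order, then the normalizer of every Sylow p-subgroup of G has even order. -/
theorem result {G : Type*} [Group G] [Finite G] (p : ℕ) [Fact p.Prime] (hp2 : p ≠ 2) (hpG : p ∣ Nat.card G) (h2G : 2 ∣ Nat.card G) (hC : ∀ g : G, g ≠ 1 → (∃ k : ℕ, orderOf g = p ^ k) → Odd (Nat.card ↥(Subgroup.centralizer ({g} : Set G)))) (Q : Subgroup G) (hQ : IsPGroup p ↥Q) (hQ1 : Q ≠ ⊥) (hev : Even (Nat.card ↥(Subgroup.normalizer (Q : Set G)))) (P : Sylow p G) : Even (Nat.card ↥(Subgroup.normalizer ((P : Subgroup G) : Set G))) := by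
  have hp := (Fact.out : p.Prime)
  have := Fact.mk Nat.prime_two
  have hpord : ∀ {H : Subgroup G}, IsPGroup p H → ∀ g ∈ H, ∃ k : ℕ, orderOf g = p ^ k := by
    intro H hH g hg
    obtain ⟨k, hk⟩ := (IsPGroup.iff_orderOf.mp hH) ⟨g, hg⟩
    exact ⟨k, by simpa [Subgroup.orderOf_mk] using hk⟩
  -- a maximal invariant subgroup
  obtain ⟨t0, ht0⟩ := exists_prime_orderOf_dvd_card' 2 (even_iff_two_dvd.mp hev)
  set t : G := (t0 : G)
  have ht : orderOf t = 2 := by rw [Subgroup.orderOf_coe]; exact ht0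
  have htQ : t ∈ Subgroup.normalizer (Q : Set G) := t0.2
  have ht2 : t * t = 1 := by rw [← pow_two, ← ht]; exact pow_orderOf_eq_one t
  have hti : t⁻¹ = t := inv_eq_of_mul_eq_one_right ht2
  obtain ⟨R, ⟨hQR, hR, htR⟩, hmax⟩ := (Set.toFinite
    {R : Subgroup G | Q ≤ R ∧ IsPGroup p R ∧ t ∈ Subgroup.normalizer (R : Set G)}).exists_maximal
    ⟨Q, le_rfl, hQ, htQ⟩
  have hR1 : R ≠ ⊥ := fun h => hQ1 (le_bot_iff.mp (h ▸ hQR))
  have hnc : ∀ g ∈ R, t * g * t⁻¹ = g → g = 1 := by
    intro g hg he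
    by_contra hg1
    have hodd := hC g hg1 (hpord hR g hg)
    have : t ∈ Subgroup.centralizer ({g} : Set G) := by
      rw [Subgroup.mem_centralizer_singleton_iff]; exact mul_inv_eq_iff_eq_mul.mp he
    have h2 := orderOf_dvd_natCard (⟨t, this⟩ : Subgroup.centralizer ({g} : Set G))
    rw [Subgroup.orderOf_mk, ht] at h2
    exact (Nat.not_even_iff_odd.mpr hodd) (even_iff_two_dvd.mpr h2)
  -- `t` inverts `R`
  have hinv : ∀ g ∈ R, t * g * t⁻¹ = g⁻¹ := by
    let φ : R →* R := (MonoidHom.mk' (fun r : R => (⟨t * r * t⁻¹,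
      (Subgroup.mem_normalizer_iff.mp htR _).mp r.2⟩ : R)) fun a b => Subtype.ext (by
        simp only [Subgroup.coe_mul]; group))
    have hfp : MonoidHom.FixedPointFree φ := fun r hr =>
      Subtype.ext (hnc r r.2 (congrArg Subtype.val hr))
    have hinvol : Function.Involutive φ := fun r => Subtype.ext (by
      show t * (t * (r : G) * t⁻¹) * t⁻¹ = r
      rw [show t * (t * (r : G) * t⁻¹) * t⁻¹ = (t * t) * r * (t * t)⁻¹ by group, ht2]; group)
    intro g hg
    exact congrArg Subtype.val (congrFun (hfp.coe_eq_inv_of_involutive hinvol) ⟨g, hg⟩)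
  set N := Subgroup.normalizer (R : Set G)
  set C := Subgroup.centralizer (R : Set G)
  have hCN : C ≤ N := Subgroup.centralizer_le_normalizer _
  have hRC : R ≤ C := by
    intro a ha
    rw [Subgroup.mem_centralizer_iff]
    intro b hb
    have h1 := hinv (a * b) (mul_mem ha hb)
    rw [show t * (a * b) * t⁻¹ = (t * a * t⁻¹) * (t * b * t⁻¹) by group, hinv a ha, hinv b hb,
      mul_inv_rev] at h1
    have := congrArg (·⁻¹) h1
    simpa using this
  have hCodd : Odd (Nat.card C) := by
    obtain ⟨g, hg, hg1⟩ := (Subgroup.bot_or_exists_ne_one R).resolve_left hR1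
    exact (hC g hg1 (hpord hR g hg)).of_dvd_nat
      (Subgroup.card_dvd_of_le (Subgroup.centralizer_le (Set.singleton_subset_iff.mpr hg)))
  have hCconj : ∀ x ∈ N, ∀ c ∈ C, x * c * x⁻¹ ∈ C := by
    intro x hx c hc
    rw [Subgroup.mem_centralizer_iff] at hc ⊢
    intro b hb
    have hb' : x⁻¹ * b * x ∈ R := by
      have := (Subgroup.mem_normalizer_iff.mp (inv_mem hx) b).mp hb
      rwa [inv_inv] at this
    have := hc _ hb'
    calc b * (x * c * x⁻¹) = x * ((x⁻¹ * b * x) * c) * x⁻¹ := by group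
      _ = x * (c * (x⁻¹ * b * x)) * x⁻¹ := by rw [this]
      _ = x * c * x⁻¹ * b := by group
  have hcom : ∀ x ∈ N, x * t * x⁻¹ * t⁻¹ ∈ C := by
    intro x hx
    rw [Subgroup.mem_centralizer_iff]
    intro b hb
    have hb' : x⁻¹ * b * x ∈ R := by
      have := (Subgroup.mem_normalizer_iff.mp (inv_mem hx) b).mp hb
      rwa [inv_inv] at this
    have e1 := hinv _ (inv_mem hb')
    rw [inv_inv] at e1
    have e2 := hinv _ hb
    calc b * (x * t * x⁻¹ * t⁻¹) = x * (x⁻¹ * b * x) * t * x⁻¹ * t⁻¹ := by group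
      _ = x * (t * (x⁻¹ * b * x)⁻¹ * t⁻¹) * t * x⁻¹ * t⁻¹ := by rw [e1]
      _ = x * t * x⁻¹ * t⁻¹ * (t * b⁻¹ * t⁻¹) := by group
      _ = x * t * x⁻¹ * t⁻¹ * b := by
        rw [show t * b⁻¹ * t⁻¹ = (t * b * t⁻¹)⁻¹ by group, e2, inv_inv]
  -- a `p`-element of `C` lies in `R`
  have hCp : ∀ x ∈ C, (∃ k : ℕ, orderOf x = p ^ k) → x ∈ R := by
    -- an invariant Sylow subgroup of `C`
    let γ : C →* C := MonoidHom.mk' (fun c : C => (⟨t * c * t⁻¹, hCconj t htR c c.2⟩ : C))
      fun a b => Subtype.ext (by simp only [Subgroup.coe_mul]; group)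
    have hγinv : ∀ c, γ (γ c) = c := fun c => Subtype.ext (by
      show t * (t * (c : G) * t⁻¹) * t⁻¹ = c
      rw [show t * (t * (c : G) * t⁻¹) * t⁻¹ = (t * t) * c * (t * t)⁻¹ by group, ht2]; group)
    let e : C ≃* C :=
      { toFun := γ, invFun := γ, left_inv := hγinv, right_inv := hγinv, map_mul' := γ.map_mul }
    have hsurj : Function.Surjective e.toMonoidHom := e.surjective
    let f : Sylow p C → Sylow p C := Sylow.mapSurjective hsurj
    have hf : Function.Involutive f := fun S => Sylow.ext (by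
      show (S.1.map e.toMonoidHom).map e.toMonoidHom = S.1
      rw [Subgroup.map_map, show e.toMonoidHom.comp e.toMonoidHom = MonoidHom.id C from
        MonoidHom.ext hγinv, Subgroup.map_id])
    obtain ⟨S, hS⟩ : ∃ S, f S = S := by
      classical
      have := Fintype.ofFinite (Sylow p C)
      have hodd : ¬ 2 ∣ Fintype.card (Sylow p C) := by
        rw [← Nat.card_eq_fintype_card]
        intro h
        obtain ⟨S⟩ : Nonempty (Sylow p C) := inferInstance
        have h3 := (h.trans ((Sylow.card_dvd_index S).trans (Subgroup.index_dvd_card _)))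
        exact (Nat.not_even_iff_odd.mpr hCodd) (even_iff_two_dvd.mpr h3)
      obtain ⟨S, hS⟩ := Equiv.Perm.exists_fixed_point_of_prime (p := 2) (n := 1) hodd
        (σ := hf.toPerm) (Equiv.ext fun S => by rw [pow_one, pow_two]; exact hf S)
      exact ⟨S, hS⟩
    have hRS : R.subgroupOf C ≤ (S : Subgroup C) := by
      have hn : (R.subgroupOf C).Normal :=
        Subgroup.normal_subgroupOf_of_le_normalizer hCN
      have hp' : IsPGroup p (R.subgroupOf C) :=
        hR.of_equiv (Subgroup.subgroupOfEquivOfLe hRC).symm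
      have := hp'.to_sup_of_normal_left S.2
      rw [← sup_eq_right]
      exact S.3 this le_sup_right
    set S' := (S : Subgroup C).map C.subtype
    have htS : t ∈ Subgroup.normalizer (S' : Set G) := by
      have h1 : ∀ c ∈ (S : Subgroup C), γ c ∈ (S : Subgroup C) := fun c hc => by
        have h2 : γ c ∈ ((f S : Sylow p C) : Subgroup C) := ⟨c, hc, rfl⟩
        rwa [hS] at h2
      have h2 : ∀ z, z ∈ S' → t * z * t⁻¹ ∈ S' := by
        rintro z ⟨c, hc, rfl⟩
        exact ⟨γ c, h1 c hc, rfl⟩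
      rw [Subgroup.mem_normalizer_iff]
      refine fun z => ⟨h2 z, fun hz => ?_⟩
      have := h2 _ hz
      rwa [show t * (t * z * t⁻¹) * t⁻¹ = (t * t) * z * (t * t)⁻¹ by group, ht2, one_mul,
        inv_one, mul_one] at this
    have hle : R ≤ S' := fun z hz => ⟨⟨z, hRC hz⟩, hRS (Subgroup.mem_subgroupOf.mpr hz), rfl⟩
    have hS'R : S' ≤ R := hmax ⟨hQR.trans hle, S.2.map _, htS⟩ hle
    intro x hx ⟨k, hk⟩
    have hxp : IsPGroup p (Subgroup.zpowers (⟨x, hx⟩ : C)) := IsPGroup.of_card (n := k) (by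
      rw [Nat.card_zpowers, Subgroup.orderOf_mk, hk])
    obtain ⟨S1, hS1⟩ := hxp.exists_le_sylow
    obtain ⟨c, hc⟩ := MulAction.exists_smul_eq C S S1
    have h1 : (⟨x, hx⟩ : C) ∈ (S1 : Subgroup C) := hS1 (Subgroup.mem_zpowers _)
    rw [← hc, Sylow.coe_subgroup_smul, Subgroup.mem_pointwise_smul_iff_inv_smul_mem] at h1
    have h3 : (c : G)⁻¹ * x * c ∈ R := hS'R ⟨_, h1, by simp [MulAut.smul_def]⟩
    have := (Subgroup.mem_normalizer_iff.mp (hCN c.2) _).mp h3
    rwa [show (c : G) * ((c : G)⁻¹ * x * c) * (c : G)⁻¹ = x by group] at this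
  -- no larger `p`-group
  have hmaxN : ∀ x ∈ N, (∃ k : ℕ, orderOf x = p ^ k) → x ∈ R := by
    intro x hx ⟨k, hk⟩
    set d := x * t * x⁻¹ * t⁻¹
    have hd : d ∈ C := hcom x hx
    -- `d t` is an involution, conjugate to `t` by an element of `C`
    obtain ⟨m, hm⟩ := hCodd
    have hdinv : t * d * t⁻¹ = d⁻¹ := by
      show t * (x * t * x⁻¹ * t⁻¹) * t⁻¹ = (x * t * x⁻¹ * t⁻¹)⁻¹
      rw [mul_inv_rev, mul_inv_rev, mul_inv_rev, inv_inv, inv_inv, hti]
      calc t * (x * t * x⁻¹ * t) * t = t * x * t * x⁻¹ * (t * t) := by group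
        _ = t * (x * (t * x⁻¹)) := by rw [ht2]; group
    have hd1 : d ^ (2 * m + 1) = 1 := by
      have := orderOf_dvd_natCard (⟨d, hd⟩ : C)
      rw [hm, orderOf_dvd_iff_pow_eq_one] at this
      simpa using congrArg Subtype.val this
    set c := d ^ (m + 1)
    have hc : c ∈ C := pow_mem hd _
    have htc : t * c * t⁻¹ = c⁻¹ := by rw [← conj_pow, hdinv, inv_pow]
    have hcc : c * c = d := by
      rw [← pow_add, show m + 1 + (m + 1) = 2 * m + 1 + 1 by ring, pow_succ, hd1, one_mul]
    set y := c⁻¹ * x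
    have hyN : y ∈ N := mul_mem (inv_mem (hCN hc)) hx
    have hyt : Commute t y := by
      have e1 : x * t * x⁻¹ = c * c * t := by rw [hcc]; simp only [d]; group
      have e2 : c⁻¹ * (c * c * t) * c = t := by
        calc c⁻¹ * (c * c * t) * c = c * (t * c * t⁻¹) * t := by group
          _ = t := by rw [htc]; group
      rw [← e1] at e2
      have e3 : y * t * y⁻¹ = t := by
        calc y * t * y⁻¹ = c⁻¹ * (x * t * x⁻¹) * c := by simp only [y]; group
          _ = t := e2
      exact (mul_inv_eq_iff_eq_mul.mp e3).symm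
    -- the order of `y` is prime to `p`
    have hyp : Nat.Coprime p (orderOf y) := by
      rw [Nat.Prime.coprime_iff_not_dvd hp]
      intro h
      set w := y ^ (orderOf y / p)
      have hw : orderOf w = p := orderOf_pow_orderOf_div (orderOf_pos y).ne' h
      have hw1 : w ≠ 1 := fun e => by rw [e, orderOf_one] at hw; exact hp.one_lt.ne hw
      have hodd := hC w hw1 ⟨1, by rw [hw, pow_one]⟩
      have htw : t ∈ Subgroup.centralizer ({w} : Set G) :=
        Subgroup.mem_centralizer_singleton_iff.mpr (hyt.pow_right _).eq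
      have h2 := orderOf_dvd_natCard (⟨t, htw⟩ : Subgroup.centralizer ({w} : Set G))
      rw [Subgroup.orderOf_mk, ht] at h2
      exact (Nat.not_even_iff_odd.mpr hodd) (even_iff_two_dvd.mpr h2)
    let C' := C.subgroupOf N
    have hC'n : C'.Normal := by
      refine ⟨fun a ha b => ?_⟩
      rw [Subgroup.mem_subgroupOf] at ha ⊢
      exact hCconj b b.2 a ha
    have hqy : QuotientGroup.mk' C' ⟨y, hyN⟩ = QuotientGroup.mk' C' ⟨x, hx⟩ := by
      rw [QuotientGroup.mk'_apply, QuotientGroup.mk'_apply, QuotientGroup.eq,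
        Subgroup.mem_subgroupOf]
      show y⁻¹ * x ∈ C
      have h0 := hCconj _ (inv_mem hx) _ hc
      rwa [show x⁻¹ * c * x⁻¹⁻¹ = y⁻¹ * x by simp only [y]; group] at h0
    have h1 : orderOf (QuotientGroup.mk' C' (⟨x, hx⟩ : N)) = 1 := by
      refine Nat.eq_one_of_dvd_coprimes (hyp.pow_left k) ?_ ?_
      · refine (orderOf_map_dvd _ _).trans ?_
        rw [Subgroup.orderOf_mk, hk]
      · rw [← hqy]
        refine (orderOf_map_dvd _ _).trans ?_
        rw [Subgroup.orderOf_mk]
    rw [orderOf_eq_one_iff, QuotientGroup.mk'_apply, QuotientGroup.eq_one_iff,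
      Subgroup.mem_subgroupOf] at h1
    exact hCp x h1 ⟨k, hk⟩
  obtain ⟨P', hP'⟩ := hR.exists_le_sylow
  have hPR : (P' : Subgroup G) = R := by
    refine le_antisymm (Subgroup.subgroupOf_eq_top.mp ?_) hP'
    by_contra hne
    have : Group.IsNilpotent (P' : Subgroup G) := P'.2.isNilpotent
    obtain ⟨r, hrn, hrR⟩ := SetLike.exists_of_lt
      (Group.normalizerCondition_of_isNilpotent (G := (P' : Subgroup G)) _ (lt_top_iff_ne_top.mpr hne))
    refine hrR (Subgroup.mem_subgroupOf.mpr (hmaxN _ ?_ (hpord P'.2 r r.2)))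
    rw [Subgroup.mem_normalizer_iff] at hrn ⊢
    intro z
    constructor
    · intro hz
      have := (hrn ⟨z, hP' hz⟩).mp (Subgroup.mem_subgroupOf.mpr hz)
      simpa [Subgroup.mem_subgroupOf] using this
    · intro hz
      have hzP : z ∈ (P' : Subgroup G) := by
        have := mul_mem (mul_mem (inv_mem r.2) (hP' hz)) r.2
        simpa [mul_assoc] using this
      have := (hrn ⟨z, hzP⟩).mpr (by simpa [Subgroup.mem_subgroupOf] using hz)
      simpa [Subgroup.mem_subgroupOf] using this
  have heven : Even (Nat.card (Subgroup.normalizer ((P' : Subgroup G) : Set G))) := by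
    rw [hPR, even_iff_two_dvd, ← ht, ← Subgroup.orderOf_mk (H := N) t htR]
    exact orderOf_dvd_natCard _
  obtain ⟨g, rfl⟩ := MulAction.exists_smul_eq G P' P
  convert heven using 1
  have hidx := (Sylow.card_eq_index_normalizer (g • P')).symm.trans (Sylow.card_eq_index_normalizer P')
  have e1 := Subgroup.card_mul_index (Subgroup.normalizer ((P' : Subgroup G) : Set G))
  have e2 := Subgroup.card_mul_index (Subgroup.normalizer (((g • P' : Sylow p G) : Subgroup G) : Set G))
  change _ = Subgroup.index (Subgroup.normalizer ((P' : Subgroup G) : Set G)) at hidx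
  refine mul_right_cancel₀ (b := Subgroup.index (Subgroup.normalizer ((P' : Subgroup G) : Set G))) Subgroup.index_ne_zero_of_finite ?_
  rw [e1, ← hidx]
  exact e2

end Cfsg.Agent.S3982
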