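import Cfsg.Statements.S3983
import Mathlib
import Cfsg.Agent.Lib.Counting.TI

set_option autoImplicit false
open scoped Pointwise
open Cfsg

namespace Cfsg.Agent.S3983


/-- Let P be a Sylow p-subgroup of the finite group G that meets each conjugate g P g⁻¹ with g outside N_G(P) trivially, and let U be a subgroup of G of order divisible by p. Then a Sylow p-subgroup Q of U has the same property inside U: Q meets each conjugate u Q u⁻¹ with u ∈ U outside N_U(Q) trivially. -/
theorem result {G : Type*} [Group G] [Finite G] (p : ℕ) [Fact p.Prime] (P : Sylow p G) (hTI : ∀ g : G, g ∉ Subgroup.normalizer ((P : Subgroup G) : Set G) → (P : Subgroup G) ⊓ (MulAut.conj g • (P : Subgroup G)) = ⊥) (U : Subgroup G) (hU : p ∣ Nat.card ↥U) (Q : Sylow p ↥U) : ∀ u : ↥U, u ∉ Subgroup.normalizer ((Q : Subgroup ↥U) : Set ↥U) → (Q : Subgroup ↥U) ⊓ (MulAut.conj u • (Q : Subgroup ↥U)) = ⊥ := by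
  obtain ⟨P1, hP1⟩ := (Q.2.map U.subtype).exists_le_sylow
  have hT := CfsgLib.TI.ti_sylow P P1 hTI
  have hQeq : (P1 : Subgroup G).comap U.subtype = (Q : Subgroup U) :=
    Q.3 (P1.2.comap_of_injective U.subtype U.subtype_injective)
      (Subgroup.map_le_iff_le_comap.mp hP1)
  have hmem : ∀ v : U, v ∈ (Q : Subgroup U) ↔ (v : G) ∈ (P1 : Subgroup G) := fun v => by
    rw [← hQeq]; rfl
  refine CfsgLib.TI.ti_intro fun u x hx hux hx1 => ?_
  have hn := CfsgLib.TI.ti_elim hT ((hmem x).mp hx)
    (g := (u : G)) (by simpa using (hmem _).mp hux) (fun h => hx1 (Subtype.ext h))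
  rw [Subgroup.mem_normalizer_iff] at hn ⊢
  intro v
  simp only [hmem, Subgroup.coe_mul, InvMemClass.coe_inv]
  exact hn v

end Cfsg.Agent.S3983
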