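import Cfsg.Statements.S3984
import Mathlib
import Cfsg.Agent.Lib.Counting.TI

set_option autoImplicit false
open scoped Pointwise
open Cfsg

namespace Cfsg.Agent.S3984


/-- Let P be a Sylow p-subgroup of the finite group G that meets each conjugate g P g⁻¹ with g outside N_G(P) trivially, and let N be a normal subgroup of G of order prime to p. Then every Sylow p-subgroup Q of G ⧸ N meets each conjugate x Q x⁻¹ with x outside its normalizer trivially. -/
theorem result {G : Type*} [Group G] [Finite G] (p : ℕ) [Fact p.Prime] (P : Sylow p G) (hTI : ∀ g : G, g ∉ Subgroup.normalizer ((P : Subgroup G) : Set G) → (P : Subgroup G) ⊓ (MulAut.conj g • (P : Subgroup G)) = ⊥) (N : Subgroup G) [N.Normal] (hN : (Nat.card ↥N).Coprime p) (Q : Sylow p (G ⧸ N)) : ∀ x : G ⧸ N, x ∉ Subgroup.normalizer ((Q : Subgroup (G ⧸ N)) : Set (G ⧸ N)) → (Q : Subgroup (G ⧸ N)) ⊓ (MulAut.conj x • (Q : Subgroup (G ⧸ N))) = ⊥ := by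
  obtain ⟨P1, hP1⟩ := Sylow.mapSurjective_surjective (QuotientGroup.mk'_surjective N) p Q
  have hT := CfsgLib.TI.ti_sylow P P1 hTI
  have hQ : (Q : Subgroup (G ⧸ N)) = (P1 : Subgroup G).map (QuotientGroup.mk' N) := by
    rw [← hP1]; rfl
  refine CfsgLib.TI.ti_intro fun x y hy hxy hy1 => ?_
  obtain ⟨g, rfl⟩ := QuotientGroup.mk'_surjective N x
  rw [hQ] at hy hxy ⊢
  obtain ⟨a, ha, rfl⟩ := Subgroup.mem_map.mp hy
  obtain ⟨b, hb, hb'⟩ := Subgroup.mem_map.mp hxy
  set M := (P1 : Subgroup G) ⊔ N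
  have hP1M : (P1 : Subgroup G) ≤ M := le_sup_left
  have hcM : g⁻¹ * a * g ∈ M := by
    have h : b⁻¹ * (g⁻¹ * a * g) ∈ N := by
      rw [← QuotientGroup.eq_one_iff, ← QuotientGroup.mk'_apply, map_mul, map_inv, hb']
      simp only [QuotientGroup.mk'_apply, QuotientGroup.mk_mul, QuotientGroup.mk_inv, mul_inv_rev, inv_inv]
      group
    have : g⁻¹ * a * g = b * (b⁻¹ * (g⁻¹ * a * g)) := by group
    rw [this]
    exact mul_mem (le_sup_left (a := (P1 : Subgroup G)) hb) (le_sup_right (a := (P1 : Subgroup G)) h)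
  obtain ⟨k, hk⟩ := CfsgLib.TI.sylow_orderOf_eq_pow P1 ha
  have hp : IsPGroup p (Subgroup.zpowers (⟨g⁻¹ * a * g, hcM⟩ : M)) := by
    refine IsPGroup.of_card (n := k) ?_
    rw [Nat.card_zpowers, Subgroup.orderOf_mk]
    have := (MulAut.conj g⁻¹).orderOf_eq a
    rw [MulAut.conj_apply, inv_inv] at this
    rw [this, hk]
  obtain ⟨S, hS⟩ := hp.exists_le_sylow
  obtain ⟨m, hm⟩ := MulAction.exists_smul_eq M (P1.subtype hP1M) S
  have hc' : (m : G)⁻¹ * (g⁻¹ * a * g) * m ∈ (P1 : Subgroup G) := by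
    have h1 : (⟨g⁻¹ * a * g, hcM⟩ : M) ∈ (S : Subgroup M) := hS (Subgroup.mem_zpowers _)
    rw [← hm, Sylow.coe_subgroup_smul, CfsgLib.TI.mem_conj_smul_iff, Sylow.coe_subtype,
      Subgroup.mem_subgroupOf] at h1
    simpa using h1
  obtain ⟨c, hc, n, hn, hcn⟩ := Subgroup.mem_sup_of_normal_right.mp m.2
  have hn' : g * (m : G) ∈ Subgroup.normalizer ((P1 : Subgroup G) : Set G) :=
    CfsgLib.TI.ti_elim hT ha (by
      rwa [show (g * (m : G))⁻¹ * a * (g * m) = (m : G)⁻¹ * (g⁻¹ * a * g) * m by group])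
      (fun h => hy1 (by rw [h, map_one]))
  have h2 : g * (m : G) * n⁻¹ * (c⁻¹) = g := by rw [← hcn]; group
  have h3 : QuotientGroup.mk' N g = QuotientGroup.mk' N (g * m * c⁻¹) := by
    conv_lhs => rw [← h2]
    rw [map_mul, map_mul (QuotientGroup.mk' N) (g * m) n⁻¹,
      (show QuotientGroup.mk' N n⁻¹ = 1 from (QuotientGroup.eq_one_iff _).mpr (inv_mem hn)),
      mul_one, ← map_mul]
  rw [h3]
  exact Subgroup.le_normalizer_map (QuotientGroup.mk' N) (Subgroup.mem_map_of_mem _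
    (mul_mem hn' (Subgroup.le_normalizer (inv_mem hc))))

end Cfsg.Agent.S3984
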