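import Cfsg.Statements.S3985
import Mathlib
import Cfsg.Agent.Lib.Counting.TI

set_option autoImplicit false
open scoped Pointwise
open Cfsg

namespace Cfsg.Agent.S3985

open scoped Pointwise

theorem conj_eq_of_le_normalizer {G : Type*} [Group G] {p : ℕ} (P : Sylow p G) (g : G)
    (h : (MulAut.conj g • (P : Subgroup G)) ≤ Subgroup.normalizer ((P : Subgroup G) : Set G)) :
    g ∈ Subgroup.normalizer ((P : Subgroup G) : Set G) := by
  have hc : IsPGroup p (MulAut.conj g • (P : Subgroup G) : Subgroup G) := (g • P).2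
  have hsup := hc.to_sup_of_normal_right' P.2 h
  have h1 : (MulAut.conj g • (P : Subgroup G)) ⊔ (P : Subgroup G) = P := P.3 hsup le_sup_right
  have h2 : MulAut.conj g • (P : Subgroup G) = ((g • P : Sylow p G) : Subgroup G) := rfl
  rw [h2, sup_eq_right] at h1
  have h3 : g • P = P := Sylow.ext ((g • P).3 P.2 h1).symm
  exact Sylow.smul_eq_iff_mem_normalizer.mp h3

theorem centralizes_of_fixes {G : Type*} [Group G] [Finite G] {p : ℕ} [Fact p.Prime]
    (P : Sylow p G) (hcyc : IsCyclic (P : Subgroup G)) {g x : G} (hx : x ∈ (P : Subgroup G))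
    (hx1 : x ≠ 1) (hgn : g ∈ Subgroup.normalizer ((P : Subgroup G) : Set G))
    (hgx : g * x = x * g) : g ∈ Subgroup.centralizer ((P : Subgroup G) : Set G) := by
  set N := Subgroup.normalizer ((P : Subgroup G) : Set G)
  have hp := (Fact.out : p.Prime)
  obtain ⟨a, ha⟩ := IsCyclic.exists_zpow_surjective (G := (P : Subgroup G))
  obtain ⟨e, he⟩ := CfsgLib.TI.sylow_orderOf_eq_pow P a.2
  obtain ⟨j, hj⟩ := ha ⟨x, hx⟩
  obtain ⟨k, hk⟩ := ha ⟨g * a * g⁻¹, (Subgroup.mem_normalizer_iff.mp hgn a).mp a.2⟩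
  have hj' : (a : G) ^ j = x := congrArg Subtype.val hj
  have hk' : g * a * g⁻¹ = (a : G) ^ k := (congrArg Subtype.val hk).symm
  have hk1 : (p : ℤ) ∣ k - 1 := by
    have h1 : (g * a * g⁻¹) ^ j = (a : G) ^ j := by
      rw [conj_zpow, hj', hgx, mul_inv_cancel_right]
    rw [hk', ← zpow_mul, zpow_eq_zpow_iff_modEq, Int.modEq_iff_dvd, he] at h1
    have h2 : ((p ^ e : ℕ) : ℤ) ∣ j * (k - 1) := by
      have := dvd_neg.mpr h1
      rwa [show -(j - k * j) = j * (k - 1) by ring] at this
    by_contra hnd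
    have hcop : IsCoprime ((p ^ e : ℕ) : ℤ) (k - 1) := by
      push_cast
      exact ((Nat.prime_iff_prime_int.mp hp).coprime_iff_not_dvd.mpr hnd).pow_left
    have h3 := hcop.dvd_of_dvd_mul_right h2
    apply hx1
    rw [← hj', ← zpow_zero (a : G), zpow_eq_zpow_iff_modEq, he]
    exact (Int.modEq_zero_iff_dvd).mpr h3
  have hpow : ∀ m : ℕ, g ^ m * a * (g ^ m)⁻¹ = (a : G) ^ (k ^ m) := by
    intro m
    induction m with
    | zero => simp
    | succ m ih =>
      rw [show g ^ (m + 1) * a * (g ^ (m + 1))⁻¹ = g * (g ^ m * a * (g ^ m)⁻¹) * g⁻¹ by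
        rw [pow_succ']; group, ih, ← conj_zpow, hk', ← zpow_mul, pow_succ' k m]
  have hkk : (a : G) ^ (k ^ p ^ e) = a := by
    have h := (dvd_sub_pow_of_dvd_sub hk1 e : ((p : ℤ) ^ (e + 1)) ∣ k ^ p ^ e - 1 ^ p ^ e)
    rw [one_pow] at h
    conv_rhs => rw [← zpow_one (a : G)]
    rw [zpow_eq_zpow_iff_modEq, he, Int.modEq_iff_dvd]
    have h' := dvd_neg.mpr ((pow_dvd_pow (p : ℤ) e.le_succ).trans h)
    rw [neg_sub] at h'
    exact_mod_cast h'
  have hgm : g ^ p ^ e ∈ Subgroup.centralizer ((P : Subgroup G) : Set G) := by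
    rw [Subgroup.mem_centralizer_iff]
    intro y hy
    obtain ⟨i, hi⟩ := ha ⟨y, hy⟩
    have hi' : (a : G) ^ i = y := congrArg Subtype.val hi
    have hca : Commute (g ^ p ^ e) (a : G) := by
      have := hpow (p ^ e)
      rw [hkk] at this
      exact mul_inv_eq_iff_eq_mul.mp this
    rw [← hi']
    exact (hca.zpow_right i).eq.symm
  set C := (Subgroup.centralizer ((P : Subgroup G) : Set G)).subgroupOf N
  have : IsMulCommutative (P : Subgroup G) := hcyc.isMulCommutative
  have hPC : (P : Subgroup G) ≤ Subgroup.centralizer ((P : Subgroup G) : Set G) :=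
    Subgroup.le_centralizer (P : Subgroup G)
  have hCn : C.Normal := inferInstance
  have hidx : ¬ p ∣ C.index := by
    intro hd
    apply (P.subtype (Subgroup.le_normalizer (H := (P : Subgroup G)))).not_dvd_index
    refine hd.trans (Subgroup.index_dvd_of_le ?_)
    rw [Sylow.coe_subtype]
    exact Subgroup.comap_mono hPC
  have h1 : (⟨g, hgn⟩ : N) ^ p ^ e ∈ C := by
    rw [Subgroup.mem_subgroupOf]; simpa using hgm
  have h2 : (⟨g, hgn⟩ : N) ∈ C := by
    rw [← QuotientGroup.eq_one_iff (N := C), ← orderOf_eq_one_iff]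
    refine Nat.eq_one_of_dvd_coprimes
      (((Nat.Prime.coprime_iff_not_dvd hp).mpr hidx).pow_left e) ?_ (orderOf_dvd_natCard _)
    apply orderOf_dvd_of_pow_eq_one
    rw [← QuotientGroup.mk_pow, QuotientGroup.eq_one_iff]
    exact h1
  exact Subgroup.mem_subgroupOf.mp h2


/-- Let P be a cyclic Sylow p-subgroup of the finite group G. Then P meets each conjugate g P g⁻¹ with g outside N_G(P) trivially if and only if P is weakly self-centralizing: C_G(x) = C_G(P) for every non-identity x ∈ P. -/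
theorem result {G : Type*} [Group G] [Finite G] (p : ℕ) [Fact p.Prime] (P : Sylow p G) (hcyc : IsCyclic ↥(P : Subgroup G)) : (∀ g : G, g ∉ Subgroup.normalizer ((P : Subgroup G) : Set G) → (P : Subgroup G) ⊓ (MulAut.conj g • (P : Subgroup G)) = ⊥) ↔ ∀ x : G, x ∈ (P : Subgroup G) → x ≠ 1 → Subgroup.centralizer ({x} : Set G) = Subgroup.centralizer ((P : Subgroup G) : Set G) := by
  have : IsMulCommutative (P : Subgroup G) := hcyc.isMulCommutative
  constructor
  · intro hTI x hx hx1
    apply le_antisymm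
    · intro g hg
      rw [Subgroup.mem_centralizer_singleton_iff] at hg
      refine centralizes_of_fixes P hcyc hx hx1 (CfsgLib.TI.ti_elim hTI hx ?_ hx1) hg
      rwa [mul_assoc, ← hg, inv_mul_cancel_left]
    · exact Subgroup.centralizer_le (Set.singleton_subset_iff.mpr hx)
  · intro h
    refine CfsgLib.TI.ti_intro fun g x hx hgx hx1 => conj_eq_of_le_normalizer P g ?_
    intro y hy
    apply Subgroup.centralizer_le_normalizer _
    rw [← h x hx hx1, Subgroup.mem_centralizer_singleton_iff]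
    rw [CfsgLib.TI.mem_conj_smul_iff] at hy
    have hc := congrArg Subtype.val
      (this.is_comm.comm (⟨_, hy⟩ : (P : Subgroup G)) ⟨_, hgx⟩)
    simp only [Subgroup.coe_mul] at hc
    calc y * x = g * ((g⁻¹ * y * g) * (g⁻¹ * x * g)) * g⁻¹ := by group
      _ = g * ((g⁻¹ * x * g) * (g⁻¹ * y * g)) * g⁻¹ := by rw [hc]
      _ = x * y := by group

end Cfsg.Agent.S3985
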