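import Cfsg.Statements.S3986
import Mathlib
import Cfsg.Agent.Lib.Counting.TI

set_option autoImplicit false
open Cfsg

namespace Cfsg.Agent.S3986


/-- Let p be a prime and G a finite group. Then some Sylow p-subgroup of G is a direct factor of G (it is normal and has a normal complement) if and only if every element of p-power order commutes with every element whose order is a power of a prime other than p. -/
theorem result {G : Type*} [Group G] [Finite G] (p : ℕ) [Fact p.Prime] : (∃ (P : Sylow p G) (K : Subgroup G), (P : Subgroup G).Normal ∧ K.Normal ∧ (P : Subgroup G) ⊓ K = ⊥ ∧ (P : Subgroup G) ⊔ K = ⊤) ↔ ∀ x y : G, (∃ a : ℕ, orderOf x = p ^ a) → (∃ q b : ℕ, q.Prime ∧ q ≠ p ∧ orderOf y = q ^ b) → x * y = y * x := by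
  constructor
  · rintro ⟨P, K, hPn, hKn, hinf, hsup⟩ x y ⟨a, ha⟩ ⟨q, b, hq, hqp, hy⟩
    have hxP : x ∈ (P : Subgroup G) := by
      have hx : IsPGroup p (Subgroup.zpowers x) := IsPGroup.of_card ((Nat.card_zpowers x).trans ha)
      obtain ⟨P', hP'⟩ := hx.exists_le_sylow
      have : Unique (Sylow p G) := Sylow.unique_of_normal P hPn
      rw [Subsingleton.elim P' P] at hP'
      exact hP' (Subgroup.mem_zpowers x)
    have hyK : y ∈ K := by
      have hc : Subgroup.IsComplement' K (P : Subgroup G) :=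
        Subgroup.isComplement'_of_disjoint_and_mul_eq_univ
          (disjoint_iff.mpr (by rw [inf_comm]; exact hinf))
          (by rw [← Subgroup.normal_mul, sup_comm, hsup, Subgroup.coe_top])
      rw [← QuotientGroup.eq_one_iff, ← orderOf_eq_one_iff]
      obtain ⟨k, hk⟩ := IsPGroup.iff_card.mp P.2
      refine Nat.eq_one_of_dvd_coprimes
        (((Nat.coprime_primes hq Fact.out).mpr hqp).pow b k) ?_ ?_
      · exact hy ▸ orderOf_map_dvd (QuotientGroup.mk' K) y
      · rw [← hk, ← hc.symm.index_eq_card]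
        exact orderOf_dvd_natCard _
    exact Subgroup.commute_of_normal_of_disjoint _ _ hPn hKn (disjoint_iff.mpr hinf) x y hxP hyK
  · intro h
    obtain ⟨P⟩ : Nonempty (Sylow p G) := inferInstance
    have hpow : ∀ {q : ℕ}, q.Prime → q ≠ p → ∀ (Q : Sylow q G) (y : G), y ∈ (Q : Subgroup G) →
        y ∈ Subgroup.centralizer ((P : Subgroup G) : Set G) := by
      intro q hq hqp Q y hy x hx
      have := Fact.mk hq
      obtain ⟨b, hb⟩ := CfsgLib.TI.sylow_orderOf_eq_pow Q hy
      exact h x y (CfsgLib.TI.sylow_orderOf_eq_pow P hx) ⟨q, b, hq, hqp, hb⟩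
    have hPn : (P : Subgroup G).Normal := by
      rw [← Subgroup.normalizer_eq_top_iff]
      refine CfsgLib.TI.eq_top_of_sylow_le _ fun q hq => ?_
      by_cases hqp : q = p
      · subst hqp; exact ⟨P, Subgroup.le_normalizer⟩
      · obtain ⟨Q⟩ : Nonempty (Sylow q G) := inferInstance
        exact ⟨Q, fun y hy => Subgroup.centralizer_le_normalizer _ (hpow hq hqp Q y hy)⟩
    obtain ⟨k, hk⟩ := IsPGroup.iff_card.mp P.2
    obtain ⟨K, hK⟩ := Subgroup.exists_right_complement'_of_coprime (N := (P : Subgroup G)) (by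
      rw [hk]
      exact ((Nat.Prime.coprime_iff_not_dvd Fact.out).mpr P.not_dvd_index).pow_left k)
    have hKC : K ≤ Subgroup.centralizer ((P : Subgroup G) : Set G) := by
      rw [← Subgroup.subgroupOf_eq_top]
      refine CfsgLib.TI.eq_top_of_sylow_le _ fun q hq => ?_
      have := Fact.mk hq
      obtain ⟨Q⟩ : Nonempty (Sylow q K) := inferInstance
      refine ⟨Q, fun y hy => ?_⟩
      rw [Subgroup.mem_subgroupOf]
      by_cases hqp : q = p
      · subst hqp
        have hidx : K.index = Nat.card (P : Subgroup G) := hK.index_eq_card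
        have hcop : Nat.Coprime q (Nat.card K) := (Nat.Prime.coprime_iff_not_dvd hq).mpr
          (by rw [← hK.symm.index_eq_card]; exact P.not_dvd_index)
        obtain ⟨b, hb⟩ := CfsgLib.TI.sylow_orderOf_eq_pow Q hy
        have h1 : orderOf y = 1 := Nat.eq_one_of_dvd_coprimes (hcop.pow_left b)
          (dvd_of_eq hb) (orderOf_dvd_natCard y)
        rw [orderOf_eq_one_iff.mp h1]
        exact one_mem _
      · obtain ⟨Q', hQ'⟩ := (Q.2.map K.subtype).exists_le_sylow
        exact hpow hq hqp Q' y (hQ' (Subgroup.mem_map_of_mem K.subtype hy))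
    refine ⟨P, K, hPn, ⟨fun y hy g => ?_⟩, disjoint_iff.mp hK.disjoint, hK.sup_eq_top⟩
    obtain ⟨⟨⟨u, hu⟩, ⟨v, hv⟩⟩, rfl⟩ := hK.2 g
    simp only
    have h1 : v * y * v⁻¹ ∈ K := mul_mem (mul_mem hv hy) (inv_mem hv)
    have h2 := hKC h1 u hu
    rw [show u * v * y * (u * v)⁻¹ = u * (v * y * v⁻¹) * u⁻¹ by group, h2, mul_inv_cancel_right]
    exact h1

end Cfsg.Agent.S3986
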