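import Cfsg.Statements.S3987
import Mathlib
import Cfsg.Agent.S3986
import Cfsg.Agent.Lib.Counting.TI

set_option autoImplicit false
open Cfsg

namespace Cfsg.Agent.S3987

theorem centralizer_inf_le {G : Type*} [Group G] (x y : G) :
    Subgroup.centralizer ({x} : Set G) ⊓ Subgroup.centralizer ({y} : Set G) ≤
      Subgroup.centralizer ({x * y} : Set G) := by
  intro g hg
  obtain ⟨hgx, hgy⟩ := Subgroup.mem_inf.mp hg
  rw [Subgroup.mem_centralizer_singleton_iff] at hgx hgy
  rw [Subgroup.mem_centralizer_singleton_iff]
  exact (Commute.mul_right (show Commute g x from hgx) (show Commute g y from hgy)).eq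

theorem mem_zpowers_mul {G : Type*} [Group G] (x y : G) (h : Commute x y)
    (hcop : Nat.Coprime (orderOf x) (orderOf y)) : x ∈ Subgroup.zpowers (x * y) := by
  obtain ⟨h1, h2⟩ := (Nat.chineseRemainder hcop 1 0).2
  set e : ℕ := (Nat.chineseRemainder hcop 1 0 : ℕ)
  refine ⟨(e : ℤ), ?_⟩
  simp only [zpow_natCast]
  rw [h.mul_pow, orderOf_dvd_iff_pow_eq_one.mp (Nat.modEq_zero_iff_dvd.mp h2), mul_one]
  conv_rhs => rw [← pow_one x]
  exact pow_eq_pow_iff_modEq.mpr h1


/-- Let p be a prime and G a finite group. Then some Sylow p-subgroup of G is a direct factor of G (normal with a normal complement) if and only if for every element x of p-power order and every element y whose order is a power of a prime other than p, the conjugacy class of x y has as many elements as the product of the sizes of the classes of x and of y. -/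
theorem result {G : Type*} [Group G] [Finite G] (p : ℕ) [Fact p.Prime] : (∃ (P : Sylow p G) (K : Subgroup G), (P : Subgroup G).Normal ∧ K.Normal ∧ (P : Subgroup G) ⊓ K = ⊥ ∧ (P : Subgroup G) ⊔ K = ⊤) ↔ ∀ x y : G, (∃ a : ℕ, orderOf x = p ^ a) → (∃ q b : ℕ, q.Prime ∧ q ≠ p ∧ orderOf y = q ^ b) → (Subgroup.centralizer ({x * y} : Set G)).index = (Subgroup.centralizer ({x} : Set G)).index * (Subgroup.centralizer ({y} : Set G)).index := by
  rw [Cfsg.Agent.S3986.result p]
  constructor
  · intro hcomm x y hx hy
    set Cx := Subgroup.centralizer ({x} : Set G)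
    set Cy := Subgroup.centralizer ({y} : Set G)
    obtain ⟨a, ha⟩ := hx
    obtain ⟨q, b, hq, hqp, hb⟩ := hy
    have hxy : Commute x y := hcomm x y ⟨a, ha⟩ ⟨q, b, hq, hqp, hb⟩
    have hcop : Nat.Coprime (orderOf x) (orderOf y) := by
      rw [ha, hb]; exact ((Nat.coprime_primes Fact.out hq).mpr hqp.symm).pow a b
    have heq : Subgroup.centralizer ({x * y} : Set G) = Cx ⊓ Cy := by
      refine le_antisymm (fun g hg => ?_) (centralizer_inf_le x y)
      rw [Subgroup.mem_centralizer_singleton_iff] at hg
      have hc : ∀ z ∈ Subgroup.zpowers (x * y), g * z = z * g := by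
        rintro z ⟨k, rfl⟩
        exact ((show Commute g (x * y) from hg).zpow_right k).eq
      refine ⟨?_, ?_⟩
      · exact Subgroup.mem_centralizer_singleton_iff.mpr (hc x (mem_zpowers_mul x y hxy hcop))
      · refine Subgroup.mem_centralizer_singleton_iff.mpr (hc y ?_)
        have := mem_zpowers_mul y x hxy.symm hcop.symm
        rwa [← hxy.eq] at this
    rw [heq]
    refine le_antisymm (Subgroup.index_inf_le) ?_
    refine Nat.le_of_dvd (Nat.pos_of_ne_zero Subgroup.index_ne_zero_of_finite) ?_
    refine Nat.Coprime.mul_dvd_of_dvd_of_dvd ?_ (Subgroup.index_dvd_of_le inf_le_left)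
      (Subgroup.index_dvd_of_le inf_le_right)
    refine Nat.coprime_of_dvd fun r hr hrx hry => ?_
    have := Fact.mk hr
    obtain ⟨R⟩ : Nonempty (Sylow r G) := inferInstance
    by_cases hrp : r = p
    · subst hrp
      refine R.not_dvd_index (hry.trans (Subgroup.index_dvd_of_le fun z hz => ?_))
      rw [Subgroup.mem_centralizer_singleton_iff]
      exact hcomm z y (CfsgLib.TI.sylow_orderOf_eq_pow R hz) ⟨q, b, hq, hqp, hb⟩
    · refine R.not_dvd_index (hrx.trans (Subgroup.index_dvd_of_le fun z hz => ?_))
      rw [Subgroup.mem_centralizer_singleton_iff]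
      obtain ⟨c, hc⟩ := CfsgLib.TI.sylow_orderOf_eq_pow R hz
      exact (hcomm x z ⟨a, ha⟩ ⟨r, c, hr, hrp, hc⟩).symm
  · intro hmul x y hx hy
    have h1 := hmul x y hx hy
    have hle := centralizer_inf_le x y
    have h3 : (Subgroup.centralizer ({x * y} : Set G)).index =
        (Subgroup.centralizer ({x} : Set G) ⊓ Subgroup.centralizer ({y} : Set G)).index :=
      le_antisymm (Nat.le_of_dvd (Nat.pos_of_ne_zero Subgroup.index_ne_zero_of_finite)
        (Subgroup.index_dvd_of_le hle)) (h1 ▸ Subgroup.index_inf_le)
    have h2 : Subgroup.centralizer ({x} : Set G) ⊓ Subgroup.centralizer ({y} : Set G) =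
        Subgroup.centralizer ({x * y} : Set G) := by
      refine Subgroup.eq_of_le_of_card_ge hle (le_of_eq ?_)
      have e1 := Subgroup.card_mul_index (Subgroup.centralizer ({x * y} : Set G))
      have e2 := Subgroup.card_mul_index
        (Subgroup.centralizer ({x} : Set G) ⊓ Subgroup.centralizer ({y} : Set G))
      rw [h3] at e1
      exact mul_right_cancel₀ Subgroup.index_ne_zero_of_finite (e1.trans e2.symm)
    have hmem : x * y ∈ Subgroup.centralizer ({x * y} : Set G) :=
      Subgroup.mem_centralizer_singleton_iff.mpr rfl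
    rw [← h2] at hmem
    have h4 := Subgroup.mem_centralizer_singleton_iff.mp hmem.1
    rw [mul_assoc] at h4
    exact (mul_left_cancel h4).symm

end Cfsg.Agent.S3987
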