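import Mathlib
import Cfsg.Prelude.Def_Transfer
import Cfsg.Agent.Lib.Fusion.FrobeniusCriterion
import Cfsg.Agent.Lib.Solvable.Core
import Cfsg.Agent.Lib.PLocal.PSolvable

/-!
A group whose class products of p-elements with prime power p'-elements are single classes is
p-solvable. If a q-element `y` acts nontrivially on a p-group inside a minimal normal subgroup `N`,
some `x * y = y'` gives a translation invariance of the class of `y` by a normal subgroup meeting
`N` nontrivially, which is absurd; so Frobenius' criterion applies to `N`.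
-/

set_option autoImplicit false

namespace Cfsg.Agent.S3989

open Subgroup

universe u

/-- The class product hypothesis. -/
def MulHyp (p : ℕ) (G : Type u) [Group G] : Prop :=
  ∀ x y : G, (∃ a : ℕ, orderOf x = p ^ a) → (∃ q b : ℕ, q.Prime ∧ q ≠ p ∧ orderOf y = q ^ b) →
    ∀ z : G, IsConj (x * y) z ↔ ∃ a b : G, z = a * x * a⁻¹ * (b * y * b⁻¹)

theorem isPSolvable_extend {G : Type u} [Group G] [Finite G] {p : ℕ} [hp : Fact p.Prime]
    (N : Subgroup G) [N.Normal] (hN : IsPGroup p N ∨ (Nat.card N).Coprime p)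
    (hq : Cfsg.IsPSolvable p (G ⧸ N)) : Cfsg.IsPSolvable p G := by
  have hsurj := QuotientGroup.mk'_surjective N
  obtain ⟨m, H, h0, hl, hm, hnor, hfac⟩ := hq
  have h0' : (H 0).comap (QuotientGroup.mk' N) = N := by
    rw [h0, MonoidHom.comap_bot, QuotientGroup.ker_mk']
  refine ⟨m + 1, Fin.cons ⊥ fun i => (H i).comap (QuotientGroup.mk' N), rfl, ?_, ?_, ?_, ?_⟩
  · rw [← Fin.succ_last, Fin.cons_succ, hl, Subgroup.comap_top]
  · refine Fin.monotone_iff_le_succ.mpr fun i => ?_
    induction i using Fin.cases with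
    | zero => exact bot_le
    | succ i =>
      rw [Fin.cons_succ, ← Fin.succ_castSucc, Fin.cons_succ]
      exact Subgroup.comap_mono (hm i.castSucc_le_succ)
  · intro i
    induction i using Fin.cases with
    | zero => rw [Fin.cons_zero]; infer_instance
    | succ i => rw [Fin.cons_succ]; exact (hnor i).comap _
  · intro i
    induction i using Fin.cases with
    | zero =>
      rw [Fin.cons_succ, Fin.castSucc_zero, Fin.cons_zero, h0', Subgroup.relIndex_bot_left]
      rcases hN with hN | hN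
      · exact Or.inl (IsPGroup.iff_card.mp hN)
      · exact Or.inr hN
    | succ i =>
      rw [Fin.cons_succ, ← Fin.succ_castSucc, Fin.cons_succ, Subgroup.relIndex_comap,
        Subgroup.map_comap_eq_self_of_surjective hsurj]
      exact hfac i

/-- Elements of prime power order lift. -/
theorem exists_lift {G H : Type u} [Group G] [Finite G] [Group H] (f : G →* H)
    (hf : Function.Surjective f) {q : ℕ} (hq : q.Prime) {h : H} (hh : ∃ a : ℕ, orderOf h = q ^ a) :
    ∃ g : G, f g = h ∧ ∃ a : ℕ, orderOf g = q ^ a := by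
  obtain ⟨a, ha⟩ := hh
  obtain ⟨g, rfl⟩ := hf h
  set k := (orderOf g).factorization q
  set m := orderOf g / q ^ k with hm
  have hkm : q ^ k * m = orderOf g := Nat.ordProj_mul_ordCompl_eq_self _ q
  have hco : Nat.Coprime m (orderOf (f g)) :=
    ha ▸ (Nat.coprime_ordCompl hq (orderOf_pos g).ne').symm.pow_right a
  obtain ⟨j, hj⟩ := exists_pow_eq_self_of_coprime hco
  refine ⟨(g ^ m) ^ j, by rw [map_pow, map_pow, hj], ?_⟩
  have h1 : orderOf ((g ^ m) ^ j) ∣ q ^ k := by
    apply orderOf_dvd_of_pow_eq_one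
    rw [← pow_mul, ← pow_mul, show m * (j * q ^ k) = q ^ k * m * j by ring, hkm, pow_mul,
      pow_orderOf_eq_one, one_pow]
  obtain ⟨b, -, hb⟩ := (Nat.dvd_prime_pow hq).mp h1
  exact ⟨b, hb⟩

theorem MulHyp.quotient {G : Type u} [Group G] [Finite G] {p : ℕ} [hp : Fact p.Prime]
    (h : MulHyp p G) (N : Subgroup G) [N.Normal] : MulHyp p (G ⧸ N) := by
  intro x y hx hy z
  constructor
  · intro hz
    obtain ⟨c, hc⟩ := isConj_iff.mp hz
    exact ⟨c, c, by rw [← hc]; group⟩
  · rintro ⟨a, b, rfl⟩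
    obtain ⟨q, e, hq, hqp, he⟩ := hy
    obtain ⟨x', rfl, hx'⟩ := exists_lift (QuotientGroup.mk' N) (QuotientGroup.mk'_surjective N)
      hp.out hx
    obtain ⟨y', rfl, d, hy'⟩ := exists_lift (QuotientGroup.mk' N) (QuotientGroup.mk'_surjective N)
      hq ⟨e, he⟩
    obtain ⟨a', rfl⟩ := QuotientGroup.mk'_surjective N a
    obtain ⟨b', rfl⟩ := QuotientGroup.mk'_surjective N b
    obtain ⟨c, hc⟩ := isConj_iff.mp
      ((h x' y' hx' ⟨q, d, hq, hqp, hy'⟩ (a' * x' * a'⁻¹ * (b' * y' * b'⁻¹))).mpr ⟨a', b', rfl⟩)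
    refine isConj_iff.mpr ⟨QuotientGroup.mk' N c, ?_⟩
    simp only [← map_mul, ← map_inv]
    rw [hc]

/-- The translations fixing the class of `y`. -/
def transl {G : Type u} [Group G] [Finite G] (y : G) : Subgroup G where
  carrier := {n | ∀ z, IsConj y z → IsConj y (n * z)}
  one_mem' := fun z hz => by rwa [one_mul]
  mul_mem' := fun {a b} ha hb z hz => by rw [mul_assoc]; exact ha _ (hb z hz)
  inv_mem' := fun {a} ha => by
    have h1 : ∀ n : ℕ, ∀ z, IsConj y z → IsConj y (a ^ n * z) := by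
      intro n
      induction n with
      | zero => intro z hz; rwa [pow_zero, one_mul]
      | succ n ih => intro z hz; rw [pow_succ', mul_assoc]; exact ha _ (ih z hz)
    have h2 : a⁻¹ = a ^ (orderOf a - 1) := inv_eq_of_mul_eq_one_right (by
      rw [← pow_succ', Nat.sub_add_cancel (orderOf_pos a), pow_orderOf_eq_one])
    intro z hz
    rw [h2]
    exact h1 _ z hz

theorem transl_normal {G : Type u} [Group G] [Finite G] (y : G) : (transl y).Normal := by
  constructor
  intro n hn g z hz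
  have h1 : IsConj y (g⁻¹ * z * g) :=
    hz.trans (isConj_iff.mpr ⟨g⁻¹, by group⟩)
  exact (hn _ h1).trans (isConj_iff.mpr ⟨g, by group⟩)

theorem aux (p : ℕ) [hp : Fact p.Prime] : ∀ (n : ℕ) (G : Type u) [Group G] [Finite G],
    Nat.card G = n → MulHyp p G → Cfsg.IsPSolvable p G := by
  intro n
  induction n using Nat.strong_induction_on with
  | _ n ih =>
  intro G _ _ hn h
  rcases subsingleton_or_nontrivial G with hG | hG
  · exact ⟨0, fun _ => ⊥, rfl, Subsingleton.elim _ _, monotone_const, fun _ => inferInstance,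
      fun i => i.elim0⟩
  obtain ⟨N, hNn, hN1, -, hmin⟩ := CfsgLib.Solvable.exists_minimal_normal_le (⊤ : Subgroup G)
    top_ne_bot
  have hlt : Nat.card (G ⧸ N) < n := by
    rw [← hn, ← Subgroup.card_mul_index N, ← Subgroup.index_eq_card]
    exact lt_mul_left (Nat.pos_of_ne_zero Subgroup.index_ne_zero_of_finite)
      (Subgroup.one_lt_card_iff_ne_bot N |>.2 hN1)
  refine isPSolvable_extend N ?_ (ih _ hlt (G ⧸ N) rfl (h.quotient N))
  by_contra hcon
  push Not at hcon
  obtain ⟨hNp, hNc⟩ := hcon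
  -- no normal p-complement in N
  have hnpc : ¬ Cfsg.HasNormalPComplement p N := by
    intro hK
    obtain ⟨K, hK⟩ := CfsgLib.NPC.hasNormalPComplement_iff.1 hK
    have hKG : (K.map N.subtype).Normal := by
      refine ⟨?_⟩
      rintro _ ⟨k, hk, rfl⟩ g
      refine ⟨⟨g * k * g⁻¹, hNn.conj_mem _ k.2 g⟩, ?_, rfl⟩
      rw [SetLike.mem_coe, CfsgLib.NPC.mem_iff_coprime hK]
      have he : orderOf (⟨g * k * g⁻¹, hNn.conj_mem _ k.2 g⟩ : N) = orderOf k := by
        rw [← Subgroup.orderOf_coe, ← Subgroup.orderOf_coe k]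
        exact orderOf_injective (MulAut.conj g).toMonoidHom (MulAut.conj g).injective (k : G)
      rw [he]
      exact (CfsgLib.NPC.mem_iff_coprime hK).1 hk
    obtain ⟨-, hco, e, he⟩ := hK
    rcases hmin _ hKG (Subgroup.map_subtype_le K) with h1 | h1
    · have h2 : K = ⊥ := (Subgroup.map_eq_bot_iff_of_injective _ N.subtype_injective).mp h1
      rw [h2, Subgroup.index_bot] at he
      exact hNp (IsPGroup.of_card he)
    · rw [← Subgroup.card_map_of_injective N.subtype_injective, h1] at hco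
      exact hNc hco
  obtain ⟨U, hU, y0, hy0U, q, b, hq, hqp, hy0o, u0, hu0, hne0⟩ :
      ∃ U : Subgroup N, IsPGroup p U ∧ ∃ y ∈ Subgroup.normalizer (U : Set N),
        ∃ q b : ℕ, q.Prime ∧ q ≠ p ∧ orderOf y = q ^ b ∧ ∃ u ∈ U, u * y ≠ y * u := by
    by_contra hall
    push Not at hall
    apply hnpc
    apply CfsgLib.NPC.frobenius_criterion
    intro U hU
    have key : ∀ m : ℕ, ∀ g ∈ Subgroup.normalizer (U : Set N), orderOf g = m → Nat.Coprime m p →
        g ∈ Subgroup.centralizer (U : Set N) := by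
      intro m
      induction m using Nat.recOnPosPrimePosCoprime with
      | zero => intro g _ hg; exact absurd hg (orderOf_pos g).ne'
      | one => intro g _ hg _; rw [orderOf_eq_one_iff.mp hg]; exact one_mem _
      | prime_pow q k hq hk =>
        intro g hg hgo hco
        have hqp : q ≠ p := by
          rintro rfl
          exact hq.ne_one (Nat.eq_one_of_dvd_coprimes hco (dvd_pow_self q hk.ne') dvd_rfl)
        rw [Subgroup.mem_centralizer_iff]
        exact fun u hu => hall U hU g hg q k hq hqp hgo u hu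
      | coprime a b _ _ hab iha ihb =>
        intro g hg hgo hco
        have hga : orderOf (g ^ b) = a := by
          rw [orderOf_pow_of_dvd (by omega) (hgo ▸ dvd_mul_left b a), hgo, Nat.mul_div_cancel _
            (by omega)]
        have hgb : orderOf (g ^ a) = b := by
          rw [orderOf_pow_of_dvd (by omega) (hgo ▸ dvd_mul_right a b), hgo, Nat.mul_div_cancel_left _
            (by omega)]
        have h1 := iha _ (pow_mem hg b) hga (hco.coprime_dvd_left (dvd_mul_right a b))
        have h2 := ihb _ (pow_mem hg a) hgb (hco.coprime_dvd_left (dvd_mul_left b a))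
        have he := Nat.gcd_eq_gcd_ab a b
        rw [show Nat.gcd a b = 1 from hab, Nat.cast_one] at he
        rw [← zpow_one g, he, zpow_add, zpow_mul, zpow_mul, zpow_natCast, zpow_natCast]
        exact mul_mem (zpow_mem h2 _) (zpow_mem h1 _)
    exact fun g hg hco => key _ g hg rfl hco
  set y : G := (y0 : G) with hy
  set u : G := (u0 : G) with hu
  set x : G := u * y * u⁻¹ * y⁻¹ with hx
  have hx0 : u0 * (y0 * u0⁻¹ * y0⁻¹) ∈ U :=
    mul_mem hu0 ((Subgroup.mem_normalizer_iff.mp hy0U _).mp (inv_mem hu0))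
  have hxN : x ∈ N := by
    have h1 : ((u0 * (y0 * u0⁻¹ * y0⁻¹) : N) : G) = x := by
      rw [hx, hu, hy]; push_cast; group
    rw [← h1]; exact SetLike.coe_mem _
  have hxp : ∃ a : ℕ, orderOf x = p ^ a := by
    obtain ⟨a, ha⟩ := hU.exists_orderOf_eq_pow ⟨_, hx0⟩
    refine ⟨a, ?_⟩
    rw [← ha, ← Subgroup.orderOf_coe, ← Subgroup.orderOf_coe (u0 * (y0 * u0⁻¹ * y0⁻¹) : N)]
    congr 1
    rw [hx, hu, hy]; push_cast; group
  have hx1 : x ≠ 1 := fun e => hne0 (Subtype.ext (by
    show u * y = y * u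
    calc u * y = u * y * u⁻¹ * y⁻¹ * (y * u) := by group
      _ = y * u := by rw [← hx, e, one_mul]))
  have hxip : ∃ a : ℕ, orderOf x⁻¹ = p ^ a := by simpa using hxp
  have hyo : orderOf y = q ^ b := by rw [hy, Subgroup.orderOf_coe]; exact hy0o
  have hy2o : orderOf (u * y * u⁻¹) = q ^ b := by
    rw [← hyo]; exact orderOf_injective (MulAut.conj u).toMonoidHom (MulAut.conj u).injective y
  obtain ⟨c, hc⟩ : ∃ c : G, c * x ≠ x * c := by
    by_contra hall
    push Not at hall
    have hxn : (Subgroup.zpowers x).Normal := ⟨fun a ha g => by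
      obtain ⟨i, rfl⟩ := ha
      exact ⟨i, by rw [(Commute.zpow_right (hall g) i).eq, mul_inv_cancel_right]⟩⟩
    rcases hmin _ hxn (Subgroup.zpowers_le.mpr hxN) with h1 | h1
    · exact hx1 (Subgroup.zpowers_eq_bot.mp h1)
    · obtain ⟨a, ha⟩ := hxp
      exact hNp (h1 ▸ IsPGroup.of_card (n := a) (by rw [Nat.card_zpowers, ha]))
  have hn' : x⁻¹ * (c * x * c⁻¹) ∈ transl y := by
    intro z hz
    obtain ⟨d, rfl⟩ := isConj_iff.mp hz
    have h1 := (h x y hxp ⟨q, b, hq, hqp, hyo⟩ (c * x * c⁻¹ * (d * y * d⁻¹))).mpr ⟨c, d, rfl⟩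
    rw [show x * y = u * y * u⁻¹ by rw [hx]; group] at h1
    obtain ⟨e, he⟩ := isConj_iff.mp h1
    have h2 := (h x⁻¹ (u * y * u⁻¹) hxip ⟨q, b, hq, hqp, hy2o⟩
      (x⁻¹ * (c * x * c⁻¹ * (d * y * d⁻¹)))).mpr ⟨1, e, by rw [← he]; group⟩
    rw [show x⁻¹ * (u * y * u⁻¹) = y by rw [hx]; group] at h2
    rw [show x⁻¹ * (c * x * c⁻¹) * (d * y * d⁻¹) = x⁻¹ * (c * x * c⁻¹ * (d * y * d⁻¹)) by group]
    exact h2
  have hn1 : x⁻¹ * (c * x * c⁻¹) ≠ 1 := fun e => hc (by
    rw [inv_mul_eq_one] at e
    conv_rhs => rw [e]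
    group)
  have hnN : x⁻¹ * (c * x * c⁻¹) ∈ N := mul_mem (inv_mem hxN) (hNn.conj_mem x hxN c)
  haveI := transl_normal y
  have hNT : N ≤ transl y := by
    rcases hmin (transl y ⊓ N) inferInstance inf_le_right with h1 | h1
    · exact absurd (Subgroup.mem_bot.mp (h1 ▸ ⟨hn', hnN⟩)) hn1
    · exact h1 ▸ inf_le_left
  have h3 := hNT (inv_mem y0.2) y (IsConj.refl y)
  rw [inv_mul_cancel, isConj_one_left] at h3
  apply hne0
  have h4 : y0 = 1 := Subtype.ext h3
  rw [h4, mul_one, one_mul]

/-- Let p be a prime and G a finite group such that for every element x of p-power order and every element y whose order is a power of a prime other than p, the conjugacy class of x y is the set of all products of a conjugate of x with a conjugate of y. Then G is p-solvable. -/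
theorem result {G : Type*} [Group G] [Finite G] (p : ℕ) [Fact p.Prime] (h : ∀ x y : G, (∃ a : ℕ, orderOf x = p ^ a) → (∃ q b : ℕ, q.Prime ∧ q ≠ p ∧ orderOf y = q ^ b) → ∀ z : G, IsConj (x * y) z ↔ ∃ a b : G, z = a * x * a⁻¹ * (b * y * b⁻¹)) : Cfsg.IsPSolvable p G :=
  aux p _ G rfl h

end Cfsg.Agent.S3989
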