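import Cfsg.Statements.S3994
import Cfsg.Agent.Lib.Counting.Frobenius

set_option autoImplicit false
open Cfsg

namespace Cfsg.Agent.S3994


/-- Let G be a finite group and n a positive integer. The number of elements of G whose order is divisible by n is either 0 or divisible by the largest divisor of the order of G that is coprime to n. -/
theorem result {G : Type*} [Group G] [Finite G] (n : ℕ) (hn : 0 < n) :
    Nat.card {g : G // n ∣ orderOf g} = 0 ∨
      (Nat.card G / Nat.gcd (Nat.card G) (n ^ Nat.card G)) ∣ Nat.card {g : G // n ∣ orderOf g} := by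
  right
  classical
  have := Fintype.ofFinite G
  set N := Nat.card G
  have hN : 0 < N := Nat.card_pos
  set d := Nat.gcd N (n ^ N)
  have hd : d ∣ N := Nat.gcd_dvd_left _ _
  have hM0 : N / d ≠ 0 := fun h => by
    have := Nat.div_mul_cancel hd; rw [h, zero_mul] at this; omega
  rw [Nat.dvd_iff_prime_pow_dvd_dvd]
  intro q j hq hj
  by_cases hqn : q ∣ n
  · -- `q` does not divide `N / d`
    rcases Nat.eq_zero_or_pos j with rfl | hjp
    · simp
    exfalso
    have hqd : q ∣ N / d := (dvd_pow_self q hjp.ne').trans hj
    set e := N.factorization q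
    have h1 : q ^ e ∣ d := Nat.dvd_gcd (Nat.ordProj_dvd _ _)
      ((pow_dvd_pow_of_dvd hqn e).trans (pow_dvd_pow n (by
        exact (Nat.factorization_lt q hN.ne').le)))
    have h2 : q ^ (e + 1) ∣ N := by
      rw [← Nat.div_mul_cancel hd, pow_succ, mul_comm (N / d) d]
      exact Nat.mul_dvd_mul h1 hqd
    exact Nat.pow_succ_factorization_not_dvd hN.ne' hq h2
  · have hqN : q ^ j ∣ N := hj.trans (Nat.div_dvd_of_dvd hd)
    refine (pow_dvd_pow q ((hq.pow_dvd_iff_le_factorization hN.ne').mp hqN)).trans ?_
    set b := N.factorization q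
    set k := N / q ^ b
    have hb : q ^ b ∣ N := Nat.ordProj_dvd _ _
    have hk : Nat.Coprime k (q ^ b) :=
      ((Nat.coprime_ordCompl hq hN.ne').pow_left b).symm
    have hall : ∀ g : G, g ^ (k * q ^ b) = 1 := fun g => by
      rw [Nat.div_mul_cancel hb]; exact pow_card_eq_one'
    have hcount : Nat.card {g : G // n ∣ orderOf g} = ∑ y : G, if y ^ k = 1 ∧ n ∣ orderOf y then
        Nat.card {x : Subgroup.centralizer ({y} : Set G) // x ^ q ^ b = 1} else 0 := by
      let e : {g : G // n ∣ orderOf g} ≃
          {z : Σ y : {y : G // y ^ k = 1},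
            {x : Subgroup.centralizer ({y.1} : Set G) // x ^ q ^ b = 1} // n ∣ orderOf z.1.1} :=
        ((Equiv.subtypeSubtypeEquivSubtype (q := fun g : G => n ∣ orderOf g)
            (p := fun g : G => g ^ (k * q ^ b) = 1) (fun {g} _ => hall g)).symm).trans
          ((CfsgLib.Counting.splitEquiv k (q ^ b) hk).subtypeEquiv fun g => by
            have hmul := CfsgLib.Counting.splitEquiv_fst_mul k (q ^ b) hk g
            set z := CfsgLib.Counting.splitEquiv k (q ^ b) hk g
            have hc : Commute z.1.1 (z.2.1 : G) :=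
              (Subgroup.mem_centralizer_singleton_iff.mp z.2.1.2).symm
            have hy : orderOf z.1.1 ∣ k := orderOf_dvd_of_pow_eq_one z.1.2
            have hx : orderOf (z.2.1 : G) ∣ q ^ b := by
              rw [Subgroup.orderOf_coe]; exact orderOf_dvd_of_pow_eq_one z.2.2
            rw [← hmul, hc.orderOf_mul_eq_mul_orderOf_of_coprime
              ((hk.coprime_dvd_left hy).coprime_dvd_right hx)]
            exact (Nat.Coprime.dvd_mul_right (Nat.Coprime.coprime_dvd_right hx
              (((Nat.Prime.coprime_iff_not_dvd hq).mpr hqn).symm.pow_right b))))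
      rw [Nat.card_congr e]
      let e2 : {z : Σ y : {y : G // y ^ k = 1},
            {x : Subgroup.centralizer ({y.1} : Set G) // x ^ q ^ b = 1} // n ∣ orderOf z.1.1} ≃
          Σ y : {y : G // y ^ k = 1 ∧ n ∣ orderOf y},
            {x : Subgroup.centralizer ({y.1} : Set G) // x ^ q ^ b = 1} :=
        { toFun := fun z => ⟨⟨z.1.1.1, z.1.1.2, z.2⟩, z.1.2⟩
          invFun := fun z => ⟨⟨⟨z.1.1, z.1.2.1⟩, z.2⟩, z.1.2.2⟩
          left_inv := fun z => rfl
          right_inv := fun z => rfl }
      rw [Nat.card_congr e2, Nat.card_sigma]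
      exact (Finset.sum_subtype _ (p := fun y : G => y ^ k = 1 ∧ n ∣ orderOf y) (by simp) (fun y =>
          Nat.card {x : Subgroup.centralizer ({y} : Set G) // x ^ q ^ b = 1})).symm.trans
        (Finset.sum_filter _ _)
    rw [hcount]
    have h := CfsgLib.Counting.gcd_dvd_sum_conjInvariant (q ^ b)
      (fun y : G => if y ^ k = 1 ∧ n ∣ orderOf y then
        Nat.card {x : Subgroup.centralizer ({y} : Set G) // x ^ q ^ b = 1} else 0)
      (fun g y => by
        simp only [conj_pow, conj_eq_one_iff, CfsgLib.Counting.card_centralizer_solutions_conj]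
        rw [show orderOf (g * y * g⁻¹) = orderOf y from
          (MulAut.conj g).orderOf_eq y])
      (fun y => by
        split
        · exact CfsgLib.Counting.frobenius_prime_pow hq b
        · exact dvd_zero _)
    rwa [Nat.gcd_eq_left hb] at h

end Cfsg.Agent.S3994
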