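import Cfsg.Statements.S3995
import Cfsg.Agent.Lib.Counting.OrderValues
import Cfsg.Agent.S0016

set_option autoImplicit false
open Cfsg
open CfsgLib.OrderValues

namespace Cfsg.Agent.S3995

universe u

theorem exists_small_copy (R : Type u) [Group R] [Finite R] :
    ∃ (P : Type) (_ : Group P) (_ : Finite P), Nonempty (R ≃* P) := by
  let e : R ≃ {i : Fin (Nat.card R) // True} :=
    (Finite.equivFin R).trans (Equiv.subtypeUnivEquiv fun _ => trivial).symm
  letI := e.symm.group
  exact ⟨_, ‹_›, inferInstance, ⟨(e.symm.mulEquiv).symm⟩⟩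

/-- Let G be a finite group such that the numbers of elements of each order that occurs in G (the numbers #{g : o(g) = m}, m ranging over the element orders of G) take exactly two values, 1 and some n ≠ 1. Then either G is a p-group of exponent p and order at least 3 for some prime p, or G is the quaternion group of order 8, or G is cyclic of order 4, or G ≅ Z₂ × P for a p-group P of exponent p with p an odd prime. -/
theorem result {G : Type*} [Group G] [Finite G] (n : ℕ) (hn : n ≠ 1) (h : ((fun m : ℕ => Nat.card {g : G // orderOf g = m}) '' Set.range (orderOf : G → ℕ)) = {1, n}) :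
    (∃ p : ℕ, p.Prime ∧ IsPGroup p G ∧ 3 ≤ Nat.card G ∧ Monoid.exponent G = p) ∨
      Nonempty (G ≃* QuaternionGroup 2) ∨ (IsCyclic G ∧ Nat.card G = 4) ∨
      (∃ (p : ℕ) (P : Type) (_ : Group P) (_ : Finite P), p.Prime ∧ p ≠ 2 ∧ IsPGroup p P ∧ Monoid.exponent P = p ∧
        Nonempty (G ≃* Multiplicative (ZMod 2) × P)) := by
  classical
  have hmem : ∀ m, (∃ g : G, orderOf g = m) → cnt G m = 1 ∨ cnt G m = n := fun m ⟨g, hg⟩ => by
    have : cnt G m ∈ (fun m : ℕ => Nat.card {g : G // orderOf g = m}) '' Set.range (orderOf : G → ℕ) :=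
      ⟨m, ⟨g, hg⟩, rfl⟩
    rw [h] at this
    simpa using this
  have hbig : ∀ m, 3 ≤ m → (∃ g : G, orderOf g = m) → cnt G m = n := fun m hm he =>
    (hmem m he).resolve_left (by have := two_le_cnt hm he; omega)
  have hT : TwoVal G n n := fun m hm he => Or.inl (hbig m hm he)
  obtain ⟨g0, hg0⟩ : ∃ g : G, cnt G (orderOf g) = n := by
    have : n ∈ ({1, n} : Set ℕ) := by simp
    rw [← h] at this
    obtain ⟨_, ⟨g, rfl⟩, hg⟩ := this
    exact ⟨g, hg⟩
  have hg01 : g0 ≠ 1 := fun e => hn (by rw [← hg0, e, orderOf_one, cnt_one])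
  have hcard2 : 2 ≤ Nat.card G := by
    have : Nontrivial G := ⟨⟨g0, 1, hg01⟩⟩
    exact Finite.one_lt_card
  have huniq : ∀ r s, r.Prime → s.Prime → 3 ≤ r → 3 ≤ s → r ∣ Nat.card G → s ∣ Nat.card G → r = s := by
    intro r s hr hs hr3 hs3 hrG hsG
    by_contra hrs
    exact lt_irrefl n (same_class hT hr hs hrs hr3 hs3 hrG hsG (hbig r hr3 (exists_prime_order hr hrG))
      (hbig s hs3 (exists_prime_order hs hsG))).2.1
  have hexp : ∀ r, r.Prime → 3 ≤ r → r ∣ Nat.card G → ∀ g : G, orderOf g ≠ r ^ 2 := by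
    intro r hr hr3 hrG g hg
    have := Fact.mk hr
    have h1 := hbig (r ^ 2) (le_trans hr3 (Nat.le_self_pow two_ne_zero r)) ⟨g, hg⟩
    have h2 : (cnt G (r ^ 2) : ZMod r) = 0 := by
      rw [ZMod.natCast_eq_zero_iff]
      refine dvd_trans ?_ (CfsgLib.Counting.totient_dvd_card_orderOf (r ^ 2))
      rw [Nat.totient_prime_pow hr (by norm_num)]
      exact dvd_mul_of_dvd_left (by simp) _
    rw [h1, ← hbig r hr3 (exists_prime_order hr hrG), cast_cnt_prime hr hrG] at h2
    exact neg_ne_zero.mpr one_ne_zero h2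
  have hexp2 : ∀ r, r.Prime → 3 ≤ r → r ∣ Nat.card G → ∀ g : G, ¬ r ^ 2 ∣ orderOf g := fun r hr hr3 hrG g hd => by
    obtain ⟨x, hx⟩ := exists_of_dvd hd ⟨g, rfl⟩
    exact hexp r hr hr3 hrG x hx
  by_cases h2 : 2 ∣ Nat.card G
  swap
  · -- odd order
    left
    obtain ⟨r, hr, hrG⟩ := Nat.exists_prime_and_dvd (n := Nat.card G) (by omega)
    have hr3 : 3 ≤ r := by
      have := hr.two_le
      have : r ≠ 2 := fun e => h2 (e ▸ hrG)
      omega
    have := Fact.mk hr
    have hp : IsPGroup r G := IsPGroup.of_card (Nat.eq_prime_pow_of_unique_prime_dvd (by omega)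
      fun {d} hd hdd => huniq d r hd hr (by
        have := hd.two_le
        have : d ≠ 2 := fun e => h2 (e ▸ hdd)
        omega) hr3 hdd hrG)
    refine ⟨r, hr, hp, le_trans hr3 (Nat.le_of_dvd (by omega) hrG), ?_⟩
    refine Nat.dvd_antisymm (Monoid.exponent_dvd_of_forall_pow_eq_one fun g => ?_) ?_
    · obtain ⟨k, hk⟩ := IsPGroup.iff_orderOf.mp hp g
      rcases Nat.lt_or_ge k 2 with hk2 | hk2
      · exact orderOf_dvd_iff_pow_eq_one.mp (hk ▸ (pow_dvd_pow r (Nat.lt_succ_iff.mp hk2)).trans (pow_one r).dvd)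
      · exact absurd (hk ▸ pow_dvd_pow r hk2) (hexp2 r hr hr3 hrG g)
    · obtain ⟨g, hg⟩ := exists_prime_order (G := G) hr hrG
      exact hg ▸ Monoid.order_dvd_exponent g
  have := Fact.mk Nat.prime_two
  by_cases hz : cnt G 2 = 1
  swap
  · -- exponent two
    left
    have h2n : cnt G 2 = n := (hmem 2 (exists_prime_order Nat.prime_two h2)).resolve_left hz
    have hle : ∀ g : G, orderOf g ≤ 2 := fun g => by
      by_contra hg
      have h1 := hbig (orderOf g) (by omega) ⟨g, rfl⟩
      exact cast_cnt_two h2 (by rw [h2n, ← h1]; exact two_dvd_cnt (by omega))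
    have hsq : ∀ g : G, g ^ 2 = 1 := fun g => by
      refine orderOf_dvd_iff_pow_eq_one.mp ?_
      have h1 := hle g
      have h3 := orderOf_pos g
      interval_cases orderOf g <;> norm_num
    refine ⟨2, Nat.prime_two, fun g => ⟨1, by rw [pow_one]; exact hsq g⟩, ?_, ?_⟩
    · have h3 := cast_cnt_two h2
      have h4 : cnt G 2 ≤ Nat.card G := Finite.card_subtype_le _
      have h5 : 0 < cnt G 2 := cnt_pos (exists_prime_order Nat.prime_two h2)
      omega
    · refine Nat.dvd_antisymm (Monoid.exponent_dvd_of_forall_pow_eq_one hsq) ?_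
      obtain ⟨g, hg⟩ := exists_prime_order (G := G) Nat.prime_two h2
      exact hg ▸ Monoid.order_dvd_exponent g
  obtain ⟨z, hzo, hzc, hzu⟩ := central_involution hz
  have h8 : ∀ g : G, ¬ 8 ∣ orderOf g := by
    intro g hd
    have e8 := hbig 8 (by norm_num) (exists_of_dvd hd ⟨g, rfl⟩)
    have e4 := hbig 4 (by norm_num) (exists_of_dvd ((by norm_num : 4 ∣ 8).trans hd) ⟨g, rfl⟩)
    have hs := dvd_sum_cnt (G := G) (((by norm_num : 4 ∣ 8).trans hd).trans (orderOf_dvd_natCard g))
    rw [show Nat.divisors 4 = {1, 2, 4} by decide] at hs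
    simp [cnt_one, hz, e4] at hs
    have h3 : 4 ∣ n := e8 ▸ ((show 4 ∣ Nat.totient 8 from by decide).trans
      (CfsgLib.Counting.totient_dvd_card_orderOf 8))
    omega
  by_cases hodd : ∃ r, r.Prime ∧ 3 ≤ r ∧ r ∣ Nat.card G
  · obtain ⟨r, hr, hr3, hrG⟩ := hodd
    have := Fact.mk hr
    have hno4 : ∀ g : G, ¬ 4 ∣ orderOf g := by
      intro g hd
      have e4 := hbig 4 (by norm_num) (exists_of_dvd hd ⟨g, rfl⟩)
      have hc : r.Coprime 4 := by
        rw [show 4 = 2 ^ 2 by norm_num]
        exact ((Nat.coprime_primes hr Nat.prime_two).mpr (by omega)).pow_right 2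
      have er := hbig r hr3 (exists_prime_order hr hrG)
      have h1 : ¬ r ∣ cnt G 4 := by
        rw [← ZMod.natCast_eq_zero_iff, e4, ← er, cast_cnt_prime hr hrG]
        exact neg_ne_zero.mpr one_ne_zero
      have h3 := totient_mul_le hr hc h1
      rw [show Nat.totient 4 = 2 by decide, er] at h3
      have h4 := two_le_cnt hr3 (exists_prime_order hr hrG)
      have h5 := hbig (r * 4) (by omega) (exists_of_cnt_pos (by omega))
      omega
    obtain ⟨R⟩ := (inferInstance : Nonempty (Sylow r G))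
    have hRe : ∀ x : (R : Subgroup G), x ^ r = 1 := fun x => by
      obtain ⟨k, hk⟩ := IsPGroup.iff_orderOf.mp R.2 x
      rw [← Subgroup.orderOf_coe] at hk
      refine Subtype.ext ?_
      rw [Subgroup.coe_pow, Subgroup.coe_one]
      rcases Nat.lt_or_ge k 2 with hk2 | hk2
      · exact orderOf_dvd_iff_pow_eq_one.mp (hk ▸ (pow_dvd_pow r (Nat.lt_succ_iff.mp hk2)).trans (pow_one r).dvd)
      · exact absurd (hk ▸ pow_dvd_pow r hk2) (hexp2 r hr hr3 hrG x)
    obtain ⟨T⟩ := (inferInstance : Nonempty (Sylow 2 G))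
    have hT2 : ∀ x ∈ (T : Subgroup G), x ∈ Subgroup.zpowers z := by
      intro x hx
      obtain ⟨k, hk⟩ := IsPGroup.iff_orderOf.mp T.2 ⟨x, hx⟩
      rw [Subgroup.orderOf_mk] at hk
      rcases Nat.lt_or_ge k 2 with hk2 | hk2
      · interval_cases k
        · rw [show x = 1 from orderOf_eq_one_iff.mp (by simpa using hk)]; exact one_mem _
        · rw [hzu x (by simpa using hk)]; exact Subgroup.mem_zpowers z
      · exact absurd (show 4 ∣ orderOf x from hk ▸ (pow_dvd_pow 2 hk2)) (hno4 x)
    have hTc : Nat.card (T : Subgroup G) ∣ 2 :=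
      (Subgroup.card_dvd_of_le hT2).trans (by rw [Nat.card_zpowers, hzo])
    set f : (Subgroup.zpowers z) × (R : Subgroup G) →* G :=
      MonoidHom.noncommCoprod (Subgroup.zpowers z).subtype (R : Subgroup G).subtype fun a b => by
        obtain ⟨i, hi⟩ := Subgroup.mem_zpowers_iff.mp a.2
        show Commute (a : G) (b : G)
        rw [← hi]
        exact (hzc _).zpow_left i with hf
    have hfi : Function.Injective f := by
      rw [injective_iff_map_eq_one]
      rintro ⟨a, b⟩ hab
      have hab' : (a : G) * (b : G) = 1 := hab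
      have hb2 : (b : G) ∈ Subgroup.zpowers z := by
        rw [eq_inv_of_mul_eq_one_right hab']; exact inv_mem a.2
      have hbd : orderOf (b : G) ∣ 1 := by
        rw [← (Nat.coprime_primes Nat.prime_two hr).mpr (by omega : 2 ≠ r)]
        refine Nat.dvd_gcd (hzo ▸ orderOf_dvd_of_mem_zpowers hb2) ?_
        rw [Subgroup.orderOf_coe]
        exact orderOf_dvd_of_pow_eq_one (hRe b)
      have hb1 : (b : G) = 1 := orderOf_eq_one_iff.mp (Nat.dvd_one.mp hbd)
      rw [hb1, mul_one] at hab'
      exact Prod.ext (Subtype.ext hab') (Subtype.ext hb1)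
    have hcard : Nat.card ((Subgroup.zpowers z) × (R : Subgroup G)) = Nat.card G := by
      refine le_antisymm (Nat.card_le_card_of_injective f hfi) (Nat.le_of_dvd Nat.card_pos ?_)
      rw [Nat.card_prod, Nat.card_zpowers, hzo, R.card_eq_multiplicity]
      refine (Nat.factorization_prime_le_iff_dvd Nat.card_pos.ne'
        (Nat.mul_ne_zero two_ne_zero (pow_ne_zero _ hr.ne_zero))).mp fun p hp => ?_
      by_cases hpG : p ∣ Nat.card G
      swap
      · rw [Nat.factorization_eq_zero_of_not_dvd hpG]; exact Nat.zero_le _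
      rw [Nat.factorization_mul two_ne_zero (pow_ne_zero _ hr.ne_zero), Finsupp.add_apply,
        Nat.prime_two.factorization, hr.factorization_pow]
      rcases Nat.lt_or_ge p 3 with hp3 | hp3
      · obtain rfl : p = 2 := by have := hp.two_le; omega
        have h3 := T.card_eq_multiplicity
        have h4 : (Nat.card G).factorization 2 ≤ 1 := by
          by_contra h5
          have h6 := Nat.pow_le_pow_right two_pos (show 2 ≤ (Nat.card G).factorization 2 by omega)
          have h7 := Nat.le_of_dvd two_pos hTc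
          omega
        simp only [Finsupp.single_eq_same]
        omega
      · obtain rfl := huniq p r hp hr hp3 hr3 hpG hrG
        simp
    have hfb : Function.Bijective f := (Nat.bijective_iff_injective_and_card f).mpr ⟨hfi, hcard⟩
    obtain ⟨P, iP, iF, ⟨e⟩⟩ := exists_small_copy (R : Subgroup G)
    have hcz : IsCyclic (Subgroup.zpowers z) := inferInstance
    let e2 : Multiplicative (ZMod 2) ≃* Subgroup.zpowers z :=
      (mulEquivOfPrimeCardEq (p := 2) (by simp) (by rw [Nat.card_zpowers, hzo]))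
    refine Or.inr (Or.inr (Or.inr ⟨r, P, iP, iF, hr, by omega, R.2.of_equiv e, ?_,
      ⟨(MulEquiv.ofBijective f hfb).symm.trans (e2.symm.prodCongr e)⟩⟩))
    rw [← Monoid.exponent_eq_of_mulEquiv e]
    refine Nat.dvd_antisymm (Monoid.exponent_dvd_of_forall_pow_eq_one hRe) ?_
    have h4 : r ∣ Nat.card (R : Subgroup G) := R.dvd_card_of_dvd_card hrG
    obtain ⟨x, hx⟩ := exists_prime_orderOf_dvd_card' (G := (R : Subgroup G)) r h4
    exact hx.symm.dvd.trans (Monoid.order_dvd_exponent x)
  -- a `2`-group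
  push Not at hodd
  have hp : IsPGroup 2 G := IsPGroup.of_card (Nat.eq_prime_pow_of_unique_prime_dvd (by omega)
    fun {d} hd hdd => by
      by_contra hd2
      exact hodd d hd (by have := hd.two_le; omega) hdd)
  have h4le : ∀ g : G, orderOf g ≤ 4 := fun g => by
    obtain ⟨k, hk⟩ := IsPGroup.iff_orderOf.mp hp g
    rcases Nat.lt_or_ge k 3 with h3 | h3
    · rw [hk]; exact (Nat.pow_le_pow_right two_pos (Nat.lt_succ_iff.mp h3)).trans (by norm_num)
    · exact absurd (hk ▸ (pow_dvd_pow 2 h3) : 8 ∣ orderOf g) (h8 g)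
  have hu : ∀ H K : Subgroup G, Nat.card H = 2 → Nat.card K = 2 → H = K := by
    intro H K hH hK
    have key : ∀ H : Subgroup G, Nat.card H = 2 → H = Subgroup.zpowers z := fun H hH => by
      obtain ⟨x, hx⟩ := exists_prime_orderOf_dvd_card' (G := H) 2 hH.symm.dvd
      have hxz : (x : G) = z := hzu _ (by rw [Subgroup.orderOf_coe, hx])
      exact (Subgroup.eq_of_le_of_card_ge (Subgroup.zpowers_le.mpr (hxz ▸ x.2))
        (by rw [Nat.card_zpowers, hzo, hH])).symm
    rw [key H hH, key K hK]
  have hcyc : IsCyclic G → IsCyclic G ∧ Nat.card G = 4 := by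
    intro hc
    refine ⟨hc, ?_⟩
    obtain ⟨a, ha⟩ := hc.exists_generator
    have h1 := h4le a
    rw [orderOf_eq_card_of_forall_mem_zpowers ha] at h1
    obtain ⟨k, hk⟩ := IsPGroup.iff_card.mp hp
    rcases Nat.lt_or_ge k 2 with h3 | h3
    · exfalso
      have h4 : Nat.card G = 2 := by interval_cases k <;> omega
      refine hn ?_
      have h5 := orderOf_dvd_natCard g0
      rw [h4] at h5
      have h6 : orderOf g0 = 2 := ((Nat.dvd_prime Nat.prime_two).mp h5).resolve_left
        fun e => hg01 (orderOf_eq_one_iff.mp e)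
      rw [← hg0, h6, hz]
    · have := Nat.pow_le_pow_right two_pos h3
      omega
  rcases Cfsg.Agent.S0016.result 2 hp hu with hc | ⟨-, k, ⟨q⟩⟩
  · exact Or.inr (Or.inr (Or.inl (hcyc hc)))
  have hk : k ≤ 1 := by
    have h1 := h4le (q.symm (QuaternionGroup.a 1))
    rw [MulEquiv.orderOf_eq, QuaternionGroup.orderOf_a_one] at h1
    by_contra hk
    have := Nat.pow_le_pow_right two_pos (show 2 ≤ k by omega)
    omega
  interval_cases k
  · refine Or.inr (Or.inr (Or.inl (hcyc ?_)))
    have hc : IsCyclic (QuaternionGroup (2 ^ 0)) := by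
      refine isCyclic_of_orderOf_eq_card (QuaternionGroup.xa 0) ?_
      rw [QuaternionGroup.orderOf_xa, Nat.card_eq_fintype_card, QuaternionGroup.card]
      norm_num
    exact isCyclic_of_surjective q.symm.toMonoidHom q.symm.surjective
  · exact Or.inr (Or.inl ⟨q⟩)

end Cfsg.Agent.S3995
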