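import Cfsg.Statements.S3996
import Cfsg.Agent.Lib.Counting.OrderValues

set_option autoImplicit false
open Cfsg
open CfsgLib.OrderValues

namespace Cfsg.Agent.S3996

theorem twoVal {G : Type*} [Group G] [Finite G]
    (h : (((fun m : ℕ => Nat.card {g : G // orderOf g = m}) '' Set.range (orderOf : G → ℕ))).ncard = 3) :
    ∃ a b : ℕ, a ≠ b ∧ TwoVal G a b ∧ ∀ m, (∃ g : G, orderOf g = m) → cnt G m ≠ 1 → cnt G m = a ∨ cnt G m = b := by
  set V := (fun m : ℕ => Nat.card {g : G // orderOf g = m}) '' Set.range (orderOf : G → ℕ) with hV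
  have hmem : ∀ m, (∃ g : G, orderOf g = m) → cnt G m ∈ V := fun m ⟨g, hg⟩ => ⟨m, ⟨g, hg⟩, rfl⟩
  have h1 : (1 : ℕ) ∈ V := cnt_one (G := G) ▸ hmem 1 ⟨1, orderOf_one⟩
  have hV' : (V \ {1}).ncard = 2 := by
    rw [Set.ncard_sdiff_singleton_of_mem h1, h]
  obtain ⟨a, b, hab, he⟩ := Set.ncard_eq_two.mp hV'
  have key : ∀ m, (∃ g : G, orderOf g = m) → cnt G m ≠ 1 → cnt G m = a ∨ cnt G m = b := fun m hm hne => by
    have : cnt G m ∈ V \ {1} := ⟨hmem m hm, hne⟩
    rw [he] at this
    simpa using this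
  exact ⟨a, b, hab, fun m hm he => key m he (by have := two_le_cnt hm he; omega), key⟩

theorem cast_sum_four {G : Type*} [Group G] [Finite G] {r : ℕ} (hr : r.Prime) (hr3 : 3 ≤ r)
    (hrG : r ∣ Nat.card G) (h4 : 4 ∣ Nat.card G) (hz : cnt G 2 = 1) :
    (cnt G 4 : ZMod r) + cnt G (4 * r) = 0 := by
  have hc : Nat.Coprime 4 r := by
    rw [show 4 = 2 ^ 2 by norm_num]
    exact ((Nat.coprime_primes Nat.prime_two hr).mpr (by omega)).pow_left 2
  have h := (dvd_mul_left r 4).trans (dvd_sum_cnt (hc.mul_dvd_of_dvd_of_dvd h4 hrG))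
  have hodd : Odd r := hr.odd_of_ne_two (by omega)
  have e : ∑ d ∈ (4 * r).divisors, cnt G d = 2 + cnt G 4 + cnt G r + cnt G r + cnt G (4 * r) := by
    rw [sum_divisors_mul_prime _ (by norm_num) hr hc, show Nat.divisors 4 = {1, 2, 4} by decide]
    simp [cnt_one, hz, cnt_two_mul hz hodd]
    ring
  rw [e] at h
  have h2 := (ZMod.natCast_eq_zero_iff _ r).mpr h
  push_cast at h2
  rw [cast_cnt_prime hr hrG] at h2
  linear_combination h2

/-- An element of order four and two odd primes are incompatible with a unique involution. -/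
theorem no_four {G : Type*} [Group G] [Finite G] {a b r s : ℕ} (h : TwoVal G a b) (hz : cnt G 2 = 1)
    (h4 : ∃ g : G, orderOf g = 4) (hr : r.Prime) (hs : s.Prime) (hrs : r ≠ s) (hr3 : 3 ≤ r)
    (hs3 : 3 ≤ s) (hrG : r ∣ Nat.card G) (hsG : s ∣ Nat.card G) : False := by
  suffices key : ∀ {a b r s : ℕ}, TwoVal G a b → r.Prime → s.Prime → r ≠ s → 3 ≤ r → 3 ≤ s →
      r ∣ Nat.card G → s ∣ Nat.card G → cnt G r = a → (cnt G s = a ∨ cnt G s = b ∧ cnt G 4 = a) → False by
    rcases h r hr3 (exists_prime_order hr hrG) with e | e <;>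
      rcases h s hs3 (exists_prime_order hs hsG) with e' | e'
    · exact key h hr hs hrs hr3 hs3 hrG hsG e (Or.inl e')
    · rcases h 4 (by norm_num) h4 with e4 | e4
      · exact key h hr hs hrs hr3 hs3 hrG hsG e (Or.inr ⟨e', e4⟩)
      · exact key h.symm hs hr hrs.symm hs3 hr3 hsG hrG e' (Or.inr ⟨e, e4⟩)
    · rcases h 4 (by norm_num) h4 with e4 | e4
      · exact key h hs hr hrs.symm hs3 hr3 hsG hrG e' (Or.inr ⟨e, e4⟩)
      · exact key h.symm hr hs hrs hr3 hs3 hrG hsG e (Or.inr ⟨e', e4⟩)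
    · exact key h.symm hr hs hrs hr3 hs3 hrG hsG e (Or.inl e')
  intro a b r s h hr hs hrs hr3 hs3 hrG hsG hra hcase
  have := Fact.mk hr
  have := Fact.mk hs
  have h4G : 4 ∣ Nat.card G := by obtain ⟨g, hg⟩ := h4; exact hg ▸ orderOf_dvd_natCard g
  have hc4 : ∀ {t : ℕ}, t.Prime → 3 ≤ t → t.Coprime 4 := fun {t} ht ht3 => by
    rw [show 4 = 2 ^ 2 by norm_num]
    exact ((Nat.coprime_primes ht Nat.prime_two).mpr (by omega)).pow_right 2
  have ha : 2 ≤ a := hra ▸ two_le_cnt hr3 (exists_prime_order hr hrG)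
  have ea : (a : ZMod r) = -1 := hra ▸ cast_cnt_prime hr hrG
  have htot : Nat.totient 4 = 2 := by decide
  -- `N(4t)` for a prime `t` of the first class
  have h4t : ∀ {t : ℕ}, t.Prime → 3 ≤ t → t ∣ Nat.card G → cnt G t = a → ¬ t ∣ cnt G 4 →
      cnt G (4 * t) = b := by
    intro t ht ht3 htG hta hnd
    have h2 := totient_mul_le ht (hc4 ht ht3) hnd
    rw [htot, hta, mul_comm t 4] at h2
    exact (h (4 * t) (by omega) (exists_of_cnt_pos (by omega))).resolve_left fun e => by omega
  rcases hcase with hsa | ⟨hsb, h4a⟩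
  · obtain ⟨hN, hab, hbr, hbs⟩ := same_class h hr hs hrs hr3 hs3 hrG hsG hra hsa
    have e := cast_sum_four hr hr3 hrG h4G hz
    rcases h 4 (by norm_num) h4 with h4a | h4b
    · have hnr : ¬ r ∣ cnt G 4 := by
        rw [← ZMod.natCast_eq_zero_iff, h4a, ea]; exact neg_ne_zero.mpr one_ne_zero
      have hns : ¬ s ∣ cnt G 4 := by
        rw [← ZMod.natCast_eq_zero_iff, h4a, ← hsa, cast_cnt_prime hs hsG]
        exact neg_ne_zero.mpr one_ne_zero
      have h4r := h4t hr hr3 hrG hra hnr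
      have h4s := h4t hs hs3 hsG hsa hns
      have h1 : ¬ s ∣ cnt G (4 * r) := by
        rw [← ZMod.natCast_eq_zero_iff, h4r, hbs]; exact one_ne_zero
      have hc : s.Coprime (4 * r) := (hc4 hs hs3).mul_right ((Nat.coprime_primes hs hr).mpr hrs.symm)
      have h2 := totient_mul_le hs hc h1
      rw [Nat.totient_mul (hc4 hr hr3).symm, htot, Nat.totient_prime hr, hsa, mul_comm s] at h2
      have h3 : 4 * a ≤ cnt G (4 * r * s) :=
        le_trans (Nat.mul_le_mul_right a (show 4 ≤ 2 * (r - 1) by omega)) h2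
      have hlast : cnt G (4 * r * s) = b := by
        refine (h (4 * r * s) ?_ (exists_of_cnt_pos (by omega))).resolve_left fun e => by omega
        have := Nat.le_mul_of_pos_right (4 * r) hs.pos
        omega
      have hr_odd : Odd r := hr.odd_of_ne_two (by omega)
      have hs_odd : Odd s := hs.odd_of_ne_two (by omega)
      have hsum := (Dvd.intro_left 4 rfl : r ∣ 4 * r).trans ((dvd_mul_right (4 * r) s).trans
        (dvd_sum_cnt (G := G) (hc.symm.mul_dvd_of_dvd_of_dvd
          ((hc4 hr hr3).symm.mul_dvd_of_dvd_of_dvd h4G hrG) hsG)))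
      have e' : ∑ d ∈ (4 * r * s).divisors, cnt G d = 2 + 5 * a + 4 * b + cnt G (4 * r * s) := by
        rw [sum_divisors_mul_prime _ (by positivity) hs hc.symm,
          sum_divisors_mul_prime _ (by norm_num) hr (hc4 hr hr3).symm,
          sum_divisors_mul_prime _ (by norm_num) hr (hc4 hr hr3).symm,
          show Nat.divisors 4 = {1, 2, 4} by decide]
        simp [cnt_one, hz, cnt_two_mul hz hr_odd, cnt_two_mul hz hs_odd, mul_assoc,
          cnt_two_mul hz (hr_odd.mul hs_odd), h4a, hra, hsa, hN, h4r, h4s]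
        ring
      rw [e', hlast] at hsum
      have h5 := (ZMod.natCast_eq_zero_iff _ r).mpr hsum
      push_cast at h5
      rw [ea, hbr] at h5
      have h6 : ((2 : ℕ) : ZMod r) = 0 := by push_cast; linear_combination h5
      have := Nat.le_of_dvd (by norm_num) ((ZMod.natCast_eq_zero_iff _ _).mp h6)
      omega
    · have hnr : ¬ r ∣ cnt G 4 := by
        rw [← ZMod.natCast_eq_zero_iff, h4b, hbr]; exact one_ne_zero
      rw [h4b, h4t hr hr3 hrG hra hnr, hbr] at e
      have h6 : ((2 : ℕ) : ZMod r) = 0 := by push_cast; linear_combination e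
      have := Nat.le_of_dvd (by norm_num) ((ZMod.natCast_eq_zero_iff _ _).mp h6)
      omega
  · have hnr : ¬ r ∣ cnt G 4 := by
      rw [← ZMod.natCast_eq_zero_iff, h4a, ea]; exact neg_ne_zero.mpr one_ne_zero
    have e := cast_sum_four hr hr3 hrG h4G hz
    rw [h4a, h4t hr hr3 hrG hra hnr, ea] at e
    have h1 : ¬ r ∣ cnt G s := by
      rw [← ZMod.natCast_eq_zero_iff, hsb, show (b : ZMod r) = 1 by linear_combination e]
      exact one_ne_zero
    have h2 := totient_mul_le hr ((Nat.coprime_primes hr hs).mpr hrs) h1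
    obtain ⟨g, hg⟩ := exists_of_cnt_pos (G := G) (m := r * s) (lt_of_lt_of_le
      (Nat.mul_pos (Nat.totient_pos.mpr hs.pos) (cnt_pos (exists_prime_order hr hrG))) h2)
    exact diff_class h hr hs hrs hr3 hs3 hrG hsG hra hsb g hg

/-- A finite group in which the numbers of elements of each order that occurs (the numbers #{g : o(g) = m}, m ranging over the element orders) take exactly three different values is solvable. -/
theorem result {G : Type*} [Group G] [Finite G] (h : (((fun m : ℕ => Nat.card {g : G // orderOf g = m}) '' Set.range (orderOf : G → ℕ))).ncard = 3) : Group.IsSolvable G := by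
  classical
  obtain ⟨a, b, hab, hT, hkey⟩ := twoVal h
  have h2le := card_odd_primes_le_two hT
  by_cases h2 : 2 ∣ Nat.card G
  swap
  · refine isSolvable_of_two_primes ?_
    rwa [Finset.erase_eq_of_notMem (fun hm => h2 (Nat.dvd_of_mem_primeFactors hm))] at h2le
  have hmem : 2 ∈ (Nat.card G).primeFactors := Nat.mem_primeFactors.mpr ⟨Nat.prime_two, h2, Nat.card_pos.ne'⟩
  by_cases hodd2 : ((Nat.card G).primeFactors.erase 2).card ≤ 1
  · refine isSolvable_of_two_primes ?_
    rw [← Finset.card_erase_add_one hmem]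
    omega
  obtain ⟨r, hr', s, hs', hrs⟩ := Finset.one_lt_card.mp (not_le.mp hodd2)
  rw [Finset.mem_erase, Nat.mem_primeFactors] at hr' hs'
  obtain ⟨hr2, hr, hrG, -⟩ := hr'
  obtain ⟨hs2, hs, hsG, -⟩ := hs'
  have hr3 : 3 ≤ r := by have := hr.two_le; omega
  have hs3 : 3 ≤ s := by have := hs.two_le; omega
  by_cases hz : cnt G 2 = 1
  swap
  · exfalso
    obtain ⟨c, hT'⟩ : ∃ c, TwoVal G c c := by
      rcases hkey 2 (exists_prime_order Nat.prime_two h2) hz with e | e
      · refine ⟨b, fun m hm he => Or.inl ?_⟩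
        exact (hT m hm he).resolve_left fun e' =>
          cast_cnt_two h2 (by rw [e, ← e']; exact two_dvd_cnt hm)
      · refine ⟨a, fun m hm he => Or.inl ?_⟩
        exact (hT m hm he).resolve_right fun e' =>
          cast_cnt_two h2 (by rw [e, ← e']; exact two_dvd_cnt hm)
    have hc := same_class hT' hr hs hrs hr3 hs3 hrG hsG
      ((hT' r hr3 (exists_prime_order hr hrG)).elim id id) ((hT' s hs3 (exists_prime_order hs hsG)).elim id id)
    exact lt_irrefl _ hc.2.1
  by_cases h4 : ∃ g : G, orderOf g = 4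
  · exact (no_four hT hz h4 hr hs hrs hr3 hs3 hrG hsG).elim
  obtain ⟨z, hzo, hzc, huniq⟩ := central_involution hz
  have hn : (Subgroup.zpowers z).Normal := ⟨fun w hw g => by
    obtain ⟨k, rfl⟩ := Subgroup.mem_zpowers_iff.mp hw
    rw [← ((hzc g).zpow_left k).eq, mul_inv_cancel_right]
    exact zpow_mem (Subgroup.mem_zpowers z) k⟩
  have hodd : ¬ 2 ∣ Nat.card (G ⧸ Subgroup.zpowers z) := by
    intro hd
    have := Fact.mk Nat.prime_two
    obtain ⟨x, hx⟩ := exists_prime_orderOf_dvd_card' (G := G ⧸ Subgroup.zpowers z) 2 hd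
    obtain ⟨g, rfl⟩ := QuotientGroup.mk'_surjective _ x
    set o := orderOf g
    have h2o : 2 ∣ o := hx ▸ orderOf_map_dvd _ g
    by_cases h4o : 4 ∣ o
    · exact h4 (exists_of_dvd h4o ⟨g, rfl⟩)
    obtain ⟨d, hd'⟩ := h2o
    have hdodd : Odd d := by
      rw [← Nat.not_even_iff_odd]
      intro he
      obtain ⟨e, rfl⟩ := even_iff_two_dvd.mp he
      exact h4o ⟨e, by rw [hd']; ring⟩
    have h1 : g ^ d = z := huniq _ (by
      rw [orderOf_pow_of_dvd hdodd.pos.ne' (show d ∣ o from ⟨2, by rw [hd', mul_comm]⟩)]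
      show o / d = 2
      rw [hd', Nat.mul_div_cancel _ hdodd.pos])
    have h2' : QuotientGroup.mk' (Subgroup.zpowers z) g ^ d = 1 := by
      rw [← map_pow, h1]; exact (QuotientGroup.eq_one_iff z).mpr (Subgroup.mem_zpowers z)
    have := hx ▸ orderOf_dvd_of_pow_eq_one h2'
    exact (Nat.not_even_iff_odd.mpr hdodd) (even_iff_two_dvd.mpr this)
  have hq : Group.IsSolvable (G ⧸ Subgroup.zpowers z) := by
    refine isSolvable_of_two_primes (le_trans (Finset.card_le_card fun p hp => ?_) h2le)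
    rw [Nat.mem_primeFactors] at hp
    exact Finset.mem_erase.mpr ⟨fun e => hodd (e ▸ hp.2.1), Nat.mem_primeFactors.mpr ⟨hp.1,
      hp.2.1.trans (Subgroup.card_quotient_dvd_card _), Nat.card_pos.ne'⟩⟩
  have hzs : Group.IsSolvable (Subgroup.zpowers z) :=
    Group.isSolvable_of_comm fun x y => Subtype.ext (by
      obtain ⟨i, hi⟩ := Subgroup.mem_zpowers_iff.mp x.2
      obtain ⟨j, hj⟩ := Subgroup.mem_zpowers_iff.mp y.2
      show (x : G) * y = y * x
      rw [← hi, ← hj, ← zpow_add, ← zpow_add, add_comm])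
  exact Group.isSolvable_of_ker_le_range (Subgroup.zpowers z).subtype
    (QuotientGroup.mk' (Subgroup.zpowers z)) (by simp)

end Cfsg.Agent.S3996
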