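import Cfsg.Statements.S3997
import Cfsg.Agent.Lib.Counting.Frobenius

set_option autoImplicit false
open Cfsg

namespace Cfsg.Agent.S3997


/-- Let G and H be finite groups with the same order type: for every m they have the same number of elements of order m. If G is nilpotent then so is H. -/
theorem result {G H : Type*} [Group G] [Finite G] [Group H] [Finite H] (hT : (∀ m : ℕ, Nat.card {g : G // orderOf g = m} = Nat.card {h : H // orderOf h = m})) (hG : Group.IsNilpotent G) :
    Group.IsNilpotent H := by
  refine (Group.isNilpotent_of_finite_tfae (G := H)).out 0 3 |>.mpr ?_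
  replace hG := ((Group.isNilpotent_of_finite_tfae (G := G)).out 0 3).mp hG
  intro p hp Q
  have := hG p hp
  obtain ⟨P⟩ : Nonempty (Sylow p G) := inferInstance
  have hPn := this P
  have hcard : Nat.card H = Nat.card G := (CfsgLib.Counting.card_congr_of_orderType hT).symm
  have hsol : Nat.card {g : G // g ^ Nat.card (P : Subgroup G) = 1} ≤ Nat.card (P : Subgroup G) := by
    refine Nat.card_le_card_of_injective (fun g => ⟨g.1, ?_⟩) (fun a b h => Subtype.ext (by simpa using h))
    obtain ⟨k, hk⟩ := IsPGroup.iff_card.mp P.2
    have hp' : IsPGroup p (Subgroup.zpowers g.1) := by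
      obtain ⟨j, _, hj⟩ := (Nat.dvd_prime_pow hp.out).mp ((orderOf_dvd_of_pow_eq_one g.2).trans hk.dvd)
      exact IsPGroup.of_card ((Nat.card_zpowers g.1).trans hj)
    obtain ⟨P', hP'⟩ := hp'.exists_le_sylow
    have : Unique (Sylow p G) := Sylow.unique_of_normal P hPn
    rw [Subsingleton.elim P' P] at hP'
    exact hP' (Subgroup.mem_zpowers g.1)
  have hcnt : Nat.card {g : H // g ^ Nat.card (P : Subgroup G) = 1} ≤ Nat.card (P : Subgroup G) := by
    rwa [← CfsgLib.Counting.card_pow_eq_one_congr hT]
  have hQ : Nat.card (Q : Subgroup H) = Nat.card (P : Subgroup G) := by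
    rw [Sylow.card_eq_multiplicity, Sylow.card_eq_multiplicity, hcard]
  have := (CfsgLib.Counting.eq_solutions_of_card (Q : Subgroup H) _ hQ hcnt).2
  exact Subgroup.normal_of_characteristic _

end Cfsg.Agent.S3997
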