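import Cfsg.Statements.S3998
import Cfsg.Agent.Lib.Counting.Frobenius

set_option autoImplicit false
open Cfsg

namespace Cfsg.Agent.S3998

universe u

theorem exists_normal_prime_order {G : Type u} [Group G] [Finite G] [Nontrivial G]
    (hG : Cfsg.IsSupersolvable G) :
    ∃ R : Subgroup G, R.Normal ∧ (Nat.card R).Prime := by
  obtain ⟨n, H, h0, hl, hn, hs⟩ := hG
  by_cases hex : ∃ i, H i ≠ ⊥
  · obtain ⟨i, hi, hmin⟩ : ∃ i : Fin n, H i.succ ≠ ⊥ ∧ H i.castSucc = ⊥ := by
      by_contra hcon
      push Not at hcon
      have : ∀ i, H i = ⊥ := by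
        intro i
        induction i using Fin.induction with
        | zero => exact h0
        | succ i ih => by_contra h; exact hcon i h ih
      obtain ⟨i, hi⟩ := hex; exact hi (this i)
    obtain ⟨g, hg⟩ := hs i
    rw [hmin, bot_sup_eq] at hg
    have hg1 : g ≠ 1 := fun h => hi (by rw [hg, h, Subgroup.zpowers_one_eq_bot])
    have hord : orderOf g ≠ 1 := fun h => hg1 (orderOf_eq_one_iff.mp h)
    obtain ⟨r, hr, hrd⟩ := Nat.exists_prime_and_dvd hord
    refine ⟨Subgroup.zpowers (g ^ (orderOf g / r)), ⟨fun z hz x => ?_⟩, ?_⟩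
    · have hK : (Subgroup.zpowers g).Normal := hg ▸ hn i.succ
      obtain ⟨k, rfl⟩ := hz
      obtain ⟨j, hj⟩ := hK.conj_mem g (Subgroup.mem_zpowers g) x
      refine ⟨j * k, ?_⟩
      simp only at hj ⊢
      rw [← conj_zpow, ← conj_pow, ← hj]
      simp only [← zpow_natCast, ← zpow_mul]
      congr 1
      ring
    · rw [Nat.card_zpowers, orderOf_pow_orderOf_div (orderOf_pos g).ne' hrd]
      exact hr
  · push Not at hex
    exfalso
    rw [hex] at hl
    exact bot_ne_top hl

theorem supersolvable_quotient {G : Type u} [Group G] (hG : Cfsg.IsSupersolvable G)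
    (N : Subgroup G) [N.Normal] : Cfsg.IsSupersolvable (G ⧸ N) := by
  obtain ⟨n, H, h0, hl, hn, hs⟩ := hG
  refine ⟨n, fun i => (H i).map (QuotientGroup.mk' N), ?_, ?_, fun i => ?_, fun i => ?_⟩
  · simp [h0]
  · simp only [hl]; exact Subgroup.map_top_of_surjective _ (QuotientGroup.mk'_surjective N)
  · exact (hn i).map _ (QuotientGroup.mk'_surjective N)
  · obtain ⟨g, hg⟩ := hs i
    exact ⟨QuotientGroup.mk' N g, by simp only [hg, Subgroup.map_sup, MonoidHom.map_zpowers]⟩

/-- A finite supersolvable group has, for every `q`, a normal Hall subgroup for the primes `≥ q`. -/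
theorem exists_big_hall {G : Type u} [Group G] [Finite G] (hG : Cfsg.IsSupersolvable G) (q : ℕ) :
    ∃ N : Subgroup G, N.Normal ∧ (∀ p : ℕ, p.Prime → p ∣ Nat.card N → q ≤ p) ∧
      (∀ p : ℕ, p.Prime → p ∣ N.index → p < q) := by
  induction hn : Nat.card G using Nat.strong_induction_on generalizing G with
  | _ n IH =>
  subst hn
  rcases subsingleton_or_nontrivial G with hs | hnt
  · refine ⟨⊥, inferInstance, fun p hp h => ?_, fun p hp h => ?_⟩
    · rw [Subgroup.card_bot, Nat.dvd_one] at h; exact absurd h hp.one_lt.ne'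
    · rw [Subgroup.index_bot, Nat.card_unique, Nat.dvd_one] at h; exact absurd h hp.one_lt.ne'
  obtain ⟨R, hRn, hr⟩ := exists_normal_prime_order hG
  have hlt : Nat.card (G ⧸ R) < Nat.card G := by
    rw [Subgroup.card_eq_card_quotient_mul_card_subgroup R]
    exact lt_mul_of_one_lt_right Nat.card_pos hr.one_lt
  obtain ⟨N, hNn, hNb, hNi⟩ := IH _ hlt (supersolvable_quotient hG R) rfl
  set M := N.comap (QuotientGroup.mk' R)
  have hRM : R ≤ M := fun x hx => by
    show QuotientGroup.mk' R x ∈ N
    rw [(QuotientGroup.eq_one_iff x).mpr hx |> fun h => (h : QuotientGroup.mk' R x = 1)]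
    exact one_mem N
  have hMi : M.index = N.index :=
    Subgroup.index_comap_of_surjective N (QuotientGroup.mk'_surjective R)
  have hMc : Nat.card M = Nat.card N * Nat.card R := by
    have h1 := Subgroup.card_mul_index M
    have h2 := Subgroup.card_mul_index N
    have h3 := Subgroup.card_eq_card_quotient_mul_card_subgroup R
    rw [hMi] at h1
    have hi : 0 < N.index := Nat.pos_of_ne_zero Subgroup.index_ne_zero_of_finite
    nlinarith
  have hMn : M.Normal := hNn.comap _
  by_cases hrq : q ≤ Nat.card R
  · refine ⟨M, hMn, fun p hp h => ?_, fun p hp h => hNi p hp (hMi ▸ h)⟩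
    rw [hMc] at h
    rcases hp.dvd_mul.mp h with h | h
    · exact hNb p hp h
    · exact ((Nat.prime_dvd_prime_iff_eq hp hr).mp h) ▸ hrq
  · push Not at hrq
    set a := Nat.card N
    set r := Nat.card R
    have hcop : Nat.Coprime r a := (Nat.Prime.coprime_iff_not_dvd hr).mpr fun h =>
      absurd (hNb r hr h) (by omega)
    set R' := R.subgroupOf M
    have hR' : Nat.card R' = r := Nat.card_congr (Subgroup.subgroupOfEquivOfLe hRM).toEquiv
    have hR'i : R'.index = a := by
      have h1 := Subgroup.card_mul_index R'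
      rw [hR', hMc, mul_comm a r] at h1
      exact mul_left_cancel₀ hr.ne_zero h1
    obtain ⟨K, hK⟩ := Subgroup.exists_right_complement'_of_coprime (N := R') (by rwa [hR', hR'i])
    have hKc : Nat.card K = a := by
      have h1 := hK.card_mul
      rw [hR', hMc, mul_comm a r] at h1
      exact mul_left_cancel₀ hr.ne_zero h1
    -- `K` centralises `R`
    have hcomm : ∀ x : M, x ∈ K → ∀ z : M, z ∈ R' → x * z = z * x := by
      intro x hx z hz
      have : IsCyclic R' := by
        have := Fact.mk hr
        exact isCyclic_of_prime_card hR'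
      let φ : K →* MulAut R' := (MulAut.conjNormal (H := R')).comp K.subtype
      have h1 : orderOf (φ ⟨x, hx⟩) ∣ a :=
        (orderOf_map_dvd φ _).trans (hKc ▸ orderOf_dvd_natCard _)
      have h2 : orderOf (φ ⟨x, hx⟩) ∣ r - 1 := by
        have := orderOf_dvd_natCard (φ ⟨x, hx⟩)
        rwa [IsCyclic.card_mulAut, hR', Nat.totient_prime hr] at this
      have hca : Nat.Coprime a (r - 1) := Nat.coprime_of_dvd fun p hp hpa hpr => by
        have h3 := hNb p hp hpa
        have h4 : 0 < r - 1 := by have := hr.two_le; omega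
        have := Nat.le_of_dvd h4 hpr
        omega
      have h3 : φ ⟨x, hx⟩ = 1 := orderOf_eq_one_iff.mp (Nat.eq_one_of_dvd_coprimes hca h1 h2)
      have h5 := congrArg (fun f : MulAut R' => ((f ⟨z, hz⟩ : R') : M)) h3
      simp only [φ, MonoidHom.comp_apply, Subgroup.coe_subtype, MulAut.conjNormal_apply,
        MulAut.one_apply] at h5
      exact mul_inv_eq_iff_eq_mul.mp h5
    have hKsol : ∀ x : M, x ^ a = 1 → x ∈ K := by
      intro x hx
      obtain ⟨⟨z, k⟩, hzk⟩ := hK.2 x
      simp only at hzk
      have hc : Commute (z : M) (k : M) := (hcomm k k.2 z z.2).symm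
      have hk1 : (k : M) ^ a = 1 := by
        have := orderOf_dvd_natCard k
        simp only [SetLike.coe_sort_coe] at this
        rw [hKc, orderOf_dvd_iff_pow_eq_one] at this
        simpa using congrArg Subtype.val this
      have hz1 : (z : M) ^ a = 1 := by
        rw [← hzk, hc.mul_pow, hk1, mul_one] at hx; exact hx
      have hz2 : (z : M) ^ r = 1 := by
        have := orderOf_dvd_natCard z
        simp only [SetLike.coe_sort_coe] at this
        rw [hR', orderOf_dvd_iff_pow_eq_one] at this
        simpa using congrArg Subtype.val this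
      have : (z : M) = 1 := orderOf_eq_one_iff.mp (Nat.eq_one_of_dvd_coprimes hcop
        (orderOf_dvd_of_pow_eq_one hz2) (orderOf_dvd_of_pow_eq_one hz1))
      rw [← hzk, this, one_mul]
      exact k.2
    have hchar : K.Characteristic := (CfsgLib.Counting.eq_solutions_of_card K a hKc (by
      rw [← hKc]
      refine Nat.card_le_card_of_injective
        (fun g : {g : M // g ^ Nat.card K = 1} => (⟨g.1, hKsol g.1 (hKc ▸ g.2)⟩ : K))
        (fun g h he => Subtype.ext (by simpa using he)))).2
    refine ⟨K.map M.subtype, ConjAct.normal_of_characteristic_of_normal, ?_, ?_⟩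
    · intro p hp h
      rw [Subgroup.card_map_of_injective M.subtype_injective, hKc] at h
      exact hNb p hp h
    · intro p hp h
      rw [Subgroup.index_map_subtype] at h
      have h6 : K.index = r := by
        have h1 := Subgroup.card_mul_index K
        rw [hKc, hMc] at h1
        exact mul_left_cancel₀ (Nat.card_pos (α := N)).ne' h1
      rcases hp.dvd_mul.mp h with h | h
      · rw [h6] at h; rw [(Nat.prime_dvd_prime_iff_eq hp hr).mp h]; exact hrq
      · exact hNi p hp (hMi ▸ h)

theorem sylow_tower {G H : Type*} [Group G] [Finite G] [Group H] [Finite H]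
    (hT : ∀ m : ℕ, Nat.card {g : G // orderOf g = m} = Nat.card {h : H // orderOf h = m})
    (hG : Cfsg.IsSupersolvable G) (j : ℕ) :
    ∀ q : ℕ, Nat.card H + 1 ≤ q + j → ∃ N : Subgroup H, N.Normal ∧ Group.IsSolvable N ∧
      (∀ p : ℕ, p.Prime → p ∣ Nat.card N → q ≤ p) ∧
      (∀ p : ℕ, p.Prime → p ∣ N.index → p < q) := by
  induction j with
  | zero =>
    intro q hq
    refine ⟨⊥, inferInstance, inferInstance, fun p hp h => ?_, fun p hp h => ?_⟩
    · rw [Subgroup.card_bot, Nat.dvd_one] at h; exact absurd h hp.one_lt.ne'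
    · rw [Subgroup.index_bot] at h; have := Nat.le_of_dvd Nat.card_pos h; omega
  | succ j ih =>
    intro q hq
    obtain ⟨N, hNn, hNs, hNb, hNi⟩ := ih (q + 1) (by omega)
    by_cases hqp : q.Prime
    · have := Fact.mk hqp
      obtain ⟨A, hAn, hAb, hAi⟩ := exists_big_hall hG q
      obtain ⟨Q⟩ : Nonempty (Sylow q H) := inferInstance
      set P : Subgroup H := N ⊔ (Q : Subgroup H)
      have hcop : Nat.Coprime (Nat.card N) (Nat.card (Q : Subgroup H)) := by
        rw [Sylow.card_eq_multiplicity]
        refine Nat.Coprime.pow_right _ ((Nat.Prime.coprime_iff_not_dvd hqp).mpr fun h => ?_).symm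
        have := hNb q hqp h; omega
      have hd : Disjoint N (Q : Subgroup H) := disjoint_iff.mpr (Subgroup.inf_eq_bot_of_coprime hcop)
      have hcard : Nat.card P = Nat.card N * Nat.card (Q : Subgroup H) := by
        rw [← Nat.card_prod]
        refine (Nat.card_congr (Equiv.ofBijective
          (fun z : N × (Q : Subgroup H) => (⟨(z.1 : H) * z.2,
            mul_mem (le_sup_left (a := N) (b := (Q : Subgroup H)) z.1.2)
              (le_sup_right (a := N) (b := (Q : Subgroup H)) z.2.2)⟩ : P)) ⟨?_, ?_⟩)).symm
        · intro a b hab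
          exact Subgroup.mul_injective_of_disjoint hd (by simpa using congrArg Subtype.val hab)
        · rintro ⟨x, hx⟩
          obtain ⟨a, ha, b, hb, rfl⟩ := Subgroup.mem_sup_of_normal_left.mp hx
          exact ⟨(⟨a, ha⟩, ⟨b, hb⟩), rfl⟩
      have hPb : ∀ p : ℕ, p.Prime → p ∣ Nat.card P → q ≤ p := by
        intro p hp h
        rw [hcard, Sylow.card_eq_multiplicity] at h
        rcases hp.dvd_mul.mp h with h | h
        · have := hNb p hp h; omega
        · exact le_of_eq ((Nat.prime_dvd_prime_iff_eq hp hqp).mp (hp.dvd_of_dvd_pow h)).symm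
      have hPi : ∀ p : ℕ, p.Prime → p ∣ P.index → p < q := by
        intro p hp h
        have h1 := hNi p hp (h.trans (Subgroup.index_dvd_of_le le_sup_left))
        rcases Nat.lt_or_eq_of_le (Nat.lt_succ_iff.mp h1) with h2 | h2
        · exact h2
        · exact absurd (h.trans (Subgroup.index_dvd_of_le le_sup_right))
            (by subst h2; exact Q.not_dvd_index)
      have hPA : Nat.card P = Nat.card A := by
        have hc1 : Nat.Coprime (Nat.card P) A.index := Nat.coprime_of_dvd fun p hp h1 h2 =>
          absurd (hPb p hp h1) (not_le.mpr (hAi p hp h2))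
        have hc2 : Nat.Coprime (Nat.card A) P.index := Nat.coprime_of_dvd fun p hp h1 h2 =>
          absurd (hAb p hp h1) (not_le.mpr (hPi p hp h2))
        have hGH := CfsgLib.Counting.card_congr_of_orderType hT
        rw [← Subgroup.card_mul_index A, ← Subgroup.card_mul_index P] at hGH
        exact Nat.dvd_antisymm (hc1.dvd_of_dvd_mul_right (hGH ▸ dvd_mul_right _ _))
          (hc2.dvd_of_dvd_mul_right (hGH.symm ▸ dvd_mul_right _ _))
      have hAcnt : Nat.card {g : G // g ^ Nat.card A = 1} ≤ Nat.card A := by
        refine Nat.card_le_card_of_injective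
          (fun g : {g : G // g ^ Nat.card A = 1} => (⟨g.1, ?_⟩ : A))
          (fun g h he => Subtype.ext (by simpa using he))
        rw [← QuotientGroup.eq_one_iff, ← orderOf_eq_one_iff]
        refine Nat.eq_one_of_dvd_coprimes (Nat.coprime_of_dvd (m := Nat.card A) (n := A.index)
          fun p hp h1 h2 => absurd (hAb p hp h1) (not_le.mpr (hAi p hp h2))) ?_ ?_
        · exact orderOf_dvd_of_pow_eq_one (by
            rw [← QuotientGroup.mk_pow, g.2, QuotientGroup.mk_one])
        · exact orderOf_dvd_natCard _
      rw [← hPA, CfsgLib.Counting.card_pow_eq_one_congr hT] at hAcnt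
      have hchar := (CfsgLib.Counting.eq_solutions_of_card P _ rfl hAcnt).2
      refine ⟨P, Subgroup.normal_of_characteristic P, ?_, hPb, hPi⟩
      -- solvability of `P`
      let N' := N.subgroupOf P
      have hN' : Group.IsSolvable N' :=
        solvable_of_solvable_injective (f := (Subgroup.subgroupOfEquivOfLe (H := N) (K := P)
          le_sup_left).toMonoidHom) (MulEquiv.injective _)
      have hq' : IsPGroup q (P ⧸ N') := by
        refine IsPGroup.of_card (n := (Nat.card H).factorization q) ?_
        have h1 := Subgroup.card_eq_card_quotient_mul_card_subgroup N'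
        rw [hcard, Nat.card_congr (Subgroup.subgroupOfEquivOfLe (H := N) (K := P)
          le_sup_left).toEquiv, Sylow.card_eq_multiplicity, mul_comm] at h1
        exact (mul_right_cancel₀ (Nat.card_pos (α := N)).ne' h1).symm
      have : Group.IsNilpotent (P ⧸ N') := hq'.isNilpotent
      exact solvable_of_ker_le_range N'.subtype (QuotientGroup.mk' N') (by simp)
    · refine ⟨N, hNn, hNs, fun p hp h => (Nat.le_succ q).trans (hNb p hp h), fun p hp h => ?_⟩
      have := hNi p hp h
      rcases Nat.lt_or_eq_of_le (Nat.lt_succ_iff.mp this) with h2 | h2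
      · exact h2
      · exact absurd (h2 ▸ hp) hqp


/-- Let G and H be finite groups with the same order type (for every m the same number of elements of order m). If G is supersolvable then H is solvable. -/
theorem result {G H : Type*} [Group G] [Finite G] [Group H] [Finite H] (hT : (∀ m : ℕ, Nat.card {g : G // orderOf g = m} = Nat.card {h : H // orderOf h = m})) (hG : Cfsg.IsSupersolvable G) :
    Group.IsSolvable H := by
  obtain ⟨N, hNn, hNs, -, hNi⟩ := sylow_tower hT hG (Nat.card H + 1) 0 (by omega)
  have htop : N = ⊤ := by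
    rw [← Subgroup.index_eq_one]
    by_contra h
    obtain ⟨p, hp, hpd⟩ := Nat.exists_prime_and_dvd h
    exact absurd (hNi p hp hpd) (Nat.not_lt_zero p)
  subst htop
  exact solvable_of_surjective (f := Subgroup.topEquiv.toMonoidHom) (MulEquiv.surjective _)

end Cfsg.Agent.S3998
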