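import Cfsg.Statements.S4022
import Mathlib
import Cfsg.Agent.Lib.Solvable.Hall
import Cfsg.Agent.Lib.Solvable.Core
import Cfsg.Agent.Lib.Solvable.SchurZassenhaus

set_option autoImplicit false
open Cfsg

namespace Cfsg.Agent.S4022

universe u

open scoped Pointwise
open CfsgLib.Solvable

theorem quot_pgroup {G : Type*} [Group G] [Finite G] (N : Subgroup G) [N.Normal] {p : ℕ}
    [Fact p.Prime] (Q : Subgroup (G ⧸ N)) (hQ : IsPGroup p Q) :
    ∃ P : Subgroup G, IsPGroup p P ∧ P.map (QuotientGroup.mk' N) = Q ∧
      Nat.card P = p ^ (Nat.card N * Nat.card Q).factorization p := by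
  set f := QuotientGroup.mk' N
  have hf : Function.Surjective f := QuotientGroup.mk'_surjective N
  let P : Sylow p (Q.comap f) := default
  refine ⟨(P : Subgroup (Q.comap f)).map (Q.comap f).subtype, P.2.map _, ?_, ?_⟩
  · have hs : Function.Surjective (f.subgroupComap Q) := f.subgroupComap_surjective_of_surjective Q hf
    have htop : (P : Subgroup (Q.comap f)).map (f.subgroupComap Q) = ⊤ :=
      ((P.mapSurjective hs).3 (hQ.to_subgroup ⊤) le_top).symm
    have hcomp : f.comp (Q.comap f).subtype = Q.subtype.comp (f.subgroupComap Q) := by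
      ext x; rfl
    rw [Subgroup.map_map, hcomp, ← Subgroup.map_map, htop, ← MonoidHom.range_eq_map, Q.range_subtype]
  · rw [Subgroup.card_map_of_injective (Subgroup.subtype_injective _), Sylow.card_eq_multiplicity,
      card_comap_mk']

theorem cyclic_subgroup_eq {G : Type*} [Group G] [Finite G] {C A B : Subgroup G} (hC : IsCyclic C)
    (hA : A ≤ C) (hB : B ≤ C) (h : Nat.card A = Nat.card B) : A = B := by
  classical
  have := Fintype.ofFinite C
  let S : Finset C := Finset.univ.filter fun x => x ^ Nat.card A = 1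
  have hS : S.card ≤ Nat.card A := IsCyclic.card_pow_eq_one_le Nat.card_pos
  have key : ∀ D : Subgroup G, D ≤ C → Nat.card D = Nat.card A →
      (D.subgroupOf C : Set C) = (S : Set C) := by
    intro D hD hDA
    refine Set.eq_of_subset_of_ncard_le ?_ ?_
    · intro x hx
      have hd : orderOf (x : G) ∣ Nat.card D := Subgroup.orderOf_dvd_natCard D hx
      rw [Subgroup.orderOf_coe, hDA] at hd
      simpa [S] using orderOf_dvd_iff_pow_eq_one.mp hd
    · rw [Set.ncard_coe_finset, ← Nat.card_coe_set_eq]
      refine hS.trans (le_of_eq ?_)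
      rw [← hDA, ← Nat.card_congr (Subgroup.subgroupOfEquivOfLe hD).toEquiv]
      rfl
  have he : A.subgroupOf C = B.subgroupOf C :=
    SetLike.coe_injective ((key A hA rfl).trans (key B hB h.symm).symm)
  rwa [Subgroup.subgroupOf_inj, inf_eq_left.mpr hA, inf_eq_left.mpr hB] at he

theorem lift_conj {G : Type*} [Group G] [Finite G] (N : Subgroup G) [N.Normal] {H K : Subgroup G}
    (h : ∃ g : G ⧸ N, MulAut.conj g • H.map (QuotientGroup.mk' N) = K.map (QuotientGroup.mk' N)) :
    ∃ g : G, MulAut.conj g • H ⊔ N = K ⊔ N := by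
  obtain ⟨g, hg⟩ := h
  obtain ⟨g, rfl⟩ := QuotientGroup.mk'_surjective N g
  refine ⟨g, ?_⟩
  rw [← map_conj_smul] at hg
  simpa [Subgroup.comap_map_eq, QuotientGroup.ker_mk'] using
    congrArg (Subgroup.comap (QuotientGroup.mk' N)) hg

theorem card_map_mul {G : Type*} [Group G] [Finite G] (N : Subgroup G) [N.Normal] (H : Subgroup G) :
    Nat.card (H.map (QuotientGroup.mk' N)) * Nat.card (N ⊓ H : Subgroup G) = Nat.card H := by
  have h1 : Nat.card (H.map (QuotientGroup.mk' N)) = N.relIndex H := by
    rw [← Subgroup.relIndex_ker, QuotientGroup.ker_mk']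
  rw [h1, mul_comm, card_inf_mul_relIndex]

theorem conj_quot {G : Type*} [Group G] [Finite G] (N : Subgroup G) [N.Normal] {H K : Subgroup G}
    (hHN : N ≤ H) (hKN : N ≤ K)
    (h : ∃ g : G ⧸ N, MulAut.conj g • H.map (QuotientGroup.mk' N) = K.map (QuotientGroup.mk' N)) :
    ∃ g : G, MulAut.conj g • H = K := by
  obtain ⟨g, hg⟩ := lift_conj N h
  refine ⟨g, ?_⟩
  have h1 : N ≤ MulAut.conj g • H := by
    intro x hx
    rw [Subgroup.mem_pointwise_smul_iff_inv_smul_mem]
    exact hHN (by simpa [MulAut.smul_def] using Subgroup.Normal.conj_mem ‹_› x hx g⁻¹)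
  rwa [sup_eq_left.mpr h1, sup_eq_left.mpr hKN] at hg

theorem conj_coprime {G : Type*} [Group G] [Finite G] [Group.IsSolvable G] (N : Subgroup G)
    [N.Normal] {H K : Subgroup G} (hcard : Nat.card H = Nat.card K)
    (hcop : (Nat.card N).Coprime (Nat.card H))
    (h : ∃ g : G ⧸ N, MulAut.conj g • H.map (QuotientGroup.mk' N) = K.map (QuotientGroup.mk' N)) :
    ∃ g : G, MulAut.conj g • H = K := by
  obtain ⟨g, hg⟩ := lift_conj N h
  obtain ⟨n, -, hn⟩ := exists_conj_eq_of_coprime (N := N) (B := MulAut.conj g • H) (B' := K)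
    Subgroup.le_normalizer_of_normal
    (by rw [sup_comm, hg]; exact le_sup_left)
    (by rw [card_conj_smul, hcard]) (by rw [card_conj_smul]; exact hcop)
    (Or.inl inferInstance)
  exact ⟨n * g, by rw [← conj_smul_conj_smul]; exact hn⟩

theorem cyclic_quot {G : Type*} [Group G] [Finite G] (N : Subgroup G) [N.Normal] {p : ℕ}
    [Fact p.Prime] (h : ∀ P : Subgroup G, IsPGroup p P → IsCyclic P) (Q : Subgroup (G ⧸ N))
    (hQ : IsPGroup p Q) : IsCyclic Q := by
  obtain ⟨P, hP, hPQ, -⟩ := quot_pgroup N Q hQ
  have := h P hP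
  rw [← hPQ]
  exact isCyclic_of_surjective _ ((QuotientGroup.mk' N).subgroupMap_surjective P)

theorem cyclic_primes : ∀ (n : ℕ) (G : Type u) [Group G] [Finite G] [Group.IsSolvable G],
    Nat.card G ≤ n → ∀ H K : Subgroup G, Nat.card H = Nat.card K →
    (∀ p : ℕ, p.Prime → p ∣ Nat.card H → ∀ P : Subgroup G, IsPGroup p P → IsCyclic P) →
    ∃ g : G, MulAut.conj g • H = K := by
  intro n
  induction n with
  | zero => intro G _ _ _ hn; exact absurd (Nat.card_pos (α := G)) (by omega)
  | succ n ih =>
    intro G _ _ _ hn H K hHK hcyc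
    rcases subsingleton_or_nontrivial G with hs | hs
    · exact ⟨1, Subsingleton.elim _ _⟩
    obtain ⟨N, hNn, hN1, -, hNmin⟩ := exists_minimal_normal_le (⊤ : Subgroup G) top_ne_bot
    obtain ⟨hNc, q, hq, hNq⟩ := minimal_normal_elementary_abelian N hN1 hNmin
    have := Fact.mk hq
    have hNp : IsPGroup q N := fun x => ⟨1, Subtype.ext (by simpa using hNq x x.2)⟩
    obtain ⟨k, hk⟩ := IsPGroup.iff_card.mp hNp
    have hquot : Nat.card (G ⧸ N) ≤ n := by
      have h1 := Subgroup.card_eq_card_quotient_mul_card_subgroup N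
      have h2 : 2 ≤ Nat.card N := N.one_lt_card_iff_ne_bot.mpr hN1
      have h3 : 0 < Nat.card (G ⧸ N) := Nat.card_pos
      nlinarith
    have hred : Nat.card (H.map (QuotientGroup.mk' N)) = Nat.card (K.map (QuotientGroup.mk' N)) →
        ∃ g : G ⧸ N, MulAut.conj g • H.map (QuotientGroup.mk' N) = K.map (QuotientGroup.mk' N) := by
      intro he
      refine ih (G ⧸ N) hquot _ _ he fun p hp hpd Q hQ => ?_
      have := Fact.mk hp
      exact cyclic_quot N (hcyc p hp (hpd.trans (Subgroup.card_map_dvd H _))) Q hQ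
    by_cases hqH : q ∣ Nat.card H
    · have hN : Nat.card N = q := by
        have := hcyc q hq hqH N hNp
        have h1 : Monoid.exponent N ∣ q :=
          Monoid.exponent_dvd_of_forall_pow_eq_one fun x => Subtype.ext (by simpa using hNq x x.2)
        rw [IsCyclic.exponent_eq_card] at h1
        exact ((Nat.dvd_prime hq).mp h1).resolve_left (Subgroup.card_eq_one.not.mpr hN1)
      have hle : ∀ L : Subgroup G, q ∣ Nat.card L → N ≤ L := by
        intro L hL
        obtain ⟨x, hx⟩ := exists_prime_orderOf_dvd_card' (G := L) q hL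
        have hx' : Nat.card (Subgroup.zpowers (x : G)) = q := by
          rw [Nat.card_zpowers, Subgroup.orderOf_coe, hx]
        have hP := IsPGroup.to_sup_of_normal_right
          (IsPGroup.of_card (n := 1) (by rw [pow_one]; exact hx') :
            IsPGroup q (Subgroup.zpowers (x : G))) hNp
        rw [cyclic_subgroup_eq (hcyc q hq hqH _ hP) le_sup_right le_sup_left (hN.trans hx'.symm)]
        exact Subgroup.zpowers_le.mpr x.2
      have h1 := hle H hqH
      have h2 := hle K (hHK ▸ hqH)
      refine conj_quot N h1 h2 (hred ?_)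
      have e1 := card_map_mul N H
      have e2 := card_map_mul N K
      rw [inf_eq_left.mpr h1] at e1
      rw [inf_eq_left.mpr h2, ← hHK, ← e1] at e2
      exact (Nat.eq_of_mul_eq_mul_right Nat.card_pos e2).symm
    · have hcop : (Nat.card N).Coprime (Nat.card H) := by
        rw [hk]; exact Nat.Coprime.pow_left _ (hq.coprime_iff_not_dvd.mpr hqH)
      refine conj_coprime N hHK hcop (hred ?_)
      have e1 := card_map_mul N H
      have e2 := card_map_mul N K
      rw [(Subgroup.disjoint_of_coprime_natCard hcop).eq_bot, Subgroup.card_bot, mul_one] at e1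
      rw [(Subgroup.disjoint_of_coprime_natCard (hHK ▸ hcop)).eq_bot, Subgroup.card_bot, mul_one] at e2
      rw [e1, e2, hHK]

theorem main : ∀ (n : ℕ) (G : Type u) [Group G] [Finite G] [Group.IsSolvable G],
    Nat.card G ≤ n →
    (∀ p : ℕ, p.Prime → ∀ H K : Subgroup G, IsPGroup p H → IsPGroup p K → Nat.card H = Nat.card K →
      ∃ g : G, MulAut.conj g • H = K) →
    ∀ r : ℕ, (∀ p : ℕ, p.Prime → p ≠ r → ∀ P : Subgroup G, IsPGroup p P → IsCyclic P) →
    ∀ H K : Subgroup G, Nat.card H = Nat.card K → ∃ g : G, MulAut.conj g • H = K := by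
  intro n
  induction n with
  | zero => intro G _ _ _ hn; exact absurd (Nat.card_pos (α := G)) (by omega)
  | succ n ih =>
    intro G _ _ _ hn hD r hcyc H K hHK
    rcases subsingleton_or_nontrivial G with hs | hs
    · exact ⟨1, Subsingleton.elim _ _⟩
    obtain ⟨N, hNn, hN1, -, hNmin⟩ := exists_minimal_normal_le (⊤ : Subgroup G) top_ne_bot
    obtain ⟨hNc, q, hq, hNq⟩ := minimal_normal_elementary_abelian N hN1 hNmin
    have := Fact.mk hq
    have hNp : IsPGroup q N := fun x => ⟨1, Subtype.ext (by simpa using hNq x x.2)⟩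
    obtain ⟨k, hk⟩ := IsPGroup.iff_card.mp hNp
    have huniq : ∀ L : Subgroup G, Nat.card L = q ^ k → L = N := by
      intro L hL
      obtain ⟨g, hg⟩ := hD q hq N L hNp (IsPGroup.of_card hL) (hk.trans hL.symm)
      rw [← hg, conj_smul_eq_self_iff]
      rw [Subgroup.normalizer_eq_top_iff.mpr hNn]; exact Subgroup.mem_top g
    have hquot : Nat.card (G ⧸ N) ≤ n := by
      have h1 := Subgroup.card_eq_card_quotient_mul_card_subgroup N
      have h2 : 2 ≤ Nat.card N := N.one_lt_card_iff_ne_bot.mpr hN1
      have h3 : 0 < Nat.card (G ⧸ N) := Nat.card_pos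
      nlinarith
    have hred : Nat.card (H.map (QuotientGroup.mk' N)) = Nat.card (K.map (QuotientGroup.mk' N)) →
        ∃ g : G ⧸ N, MulAut.conj g • H.map (QuotientGroup.mk' N) = K.map (QuotientGroup.mk' N) := by
      intro he
      refine ih (G ⧸ N) hquot ?_ r ?_ _ _ he
      · intro p hp A B hA hB hAB
        have := Fact.mk hp
        obtain ⟨P, hP, hPA, hPc⟩ := quot_pgroup N A hA
        obtain ⟨R, hR, hRB, hRc⟩ := quot_pgroup N B hB
        obtain ⟨g, hg⟩ := hD p hp P R hP hR (by rw [hPc, hRc, hAB])
        exact ⟨QuotientGroup.mk' N g, by rw [← hPA, ← hRB, ← hg, map_conj_smul]⟩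
      · intro p hp hpr Q hQ
        have := Fact.mk hp
        exact cyclic_quot N (hcyc p hp hpr) Q hQ
    by_cases hbig : q ^ k ∣ Nat.card H
    · have hle : ∀ L : Subgroup G, q ^ k ∣ Nat.card L → N ≤ L := by
        intro L hL
        obtain ⟨M, hM⟩ := Sylow.exists_subgroup_card_pow_prime q hL
        rw [← huniq (M.map L.subtype)
          (by rw [Subgroup.card_map_of_injective L.subtype_injective, hM])]
        exact Subgroup.map_subtype_le M
      have h1 := hle H hbig
      have h2 := hle K (hHK ▸ hbig)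
      refine conj_quot N h1 h2 (hred ?_)
      have e1 := card_map_mul N H
      have e2 := card_map_mul N K
      rw [inf_eq_left.mpr h1] at e1
      rw [inf_eq_left.mpr h2, ← hHK, ← e1] at e2
      exact (Nat.eq_of_mul_eq_mul_right Nat.card_pos e2).symm
    by_cases hqH : q ∣ Nat.card H
    swap
    · have hcop : (Nat.card N).Coprime (Nat.card H) := by
        rw [hk]; exact Nat.Coprime.pow_left _ (hq.coprime_iff_not_dvd.mpr hqH)
      refine conj_coprime N hHK hcop (hred ?_)
      have e1 := card_map_mul N H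
      have e2 := card_map_mul N K
      rw [(Subgroup.disjoint_of_coprime_natCard hcop).eq_bot, Subgroup.card_bot, mul_one] at e1
      rw [(Subgroup.disjoint_of_coprime_natCard (hHK ▸ hcop)).eq_bot, Subgroup.card_bot, mul_one] at e2
      rw [e1, e2, hHK]
    -- the proper nontrivial `q`-part lies in `N`
    have hqr : q = r := by
      by_contra hqr
      have := hcyc q hq hqr N hNp
      have h1 : Monoid.exponent N ∣ q :=
        Monoid.exponent_dvd_of_forall_pow_eq_one fun x => Subtype.ext (by simpa using hNq x x.2)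
      rw [IsCyclic.exponent_eq_card, hk] at h1
      exact hbig (h1.trans hqH)
    subst hqr
    obtain ⟨j, hj⟩ : ∃ j, (Nat.card H).factorization q = j := ⟨_, rfl⟩
    have hjk : j < k := by
      by_contra hjk
      exact hbig ((pow_dvd_pow q (le_of_not_gt hjk)).trans (hj ▸ Nat.ordProj_dvd _ _))
    have hNd : q ^ k ∣ Nat.card G := hk ▸ Subgroup.card_subgroup_dvd_card N
    have hsmall : ∀ L : Subgroup G, Nat.card L = Nat.card H →
        ∃ A : Subgroup G, Nat.card (N ⊓ L : Subgroup G) = q ^ j ∧ A ≤ L ∧
          A ≤ Subgroup.normalizer ((N ⊓ L : Subgroup G) : Set G) ∧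
          (N ⊓ L) ⊔ A = L ∧ Nat.card A = Nat.card H / q ^ j := by
      intro L hL
      obtain ⟨S⟩ : Nonempty (Sylow q L) := inferInstance
      have hS : Nat.card ((S : Subgroup L).map L.subtype) = q ^ j := by
        rw [Subgroup.card_map_of_injective L.subtype_injective, S.card_eq_multiplicity, hL, hj]
      obtain ⟨M, hMc, hMS⟩ := Sylow.exists_subgroup_card_pow_prime_le q hNd
        ((S : Subgroup L).map L.subtype) hS hjk.le
      rw [huniq M hMc] at hMS
      have hI : Nat.card (N ⊓ L : Subgroup G) = q ^ j := by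
        refine Nat.dvd_antisymm ?_ (hS ▸ Subgroup.card_dvd_of_le (le_inf hMS (Subgroup.map_subtype_le _)))
        obtain ⟨i, -, hi⟩ := (Nat.dvd_prime_pow hq).mp
          (hk ▸ Subgroup.card_dvd_of_le (inf_le_left : N ⊓ L ≤ N))
        have hd : q ^ i ∣ Nat.card H := by
          rw [← hi, ← hL]; exact Subgroup.card_dvd_of_le inf_le_right
        rw [hi]
        exact pow_dvd_pow q (hj ▸ (hq.pow_dvd_iff_le_factorization Nat.card_pos.ne').mp hd)
      have hn : (N.subgroupOf L).Normal := Subgroup.Normal.comap hNn _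
      have hcI : Nat.card (N.subgroupOf L) = q ^ j := by
        rw [← hI, ← Subgroup.inf_subgroupOf_right N L,
          Nat.card_congr (Subgroup.subgroupOfEquivOfLe (inf_le_right : N ⊓ L ≤ L)).toEquiv]
      have hindex : (N.subgroupOf L).index = Nat.card H / q ^ j := by
        have := Subgroup.card_mul_index (N.subgroupOf L)
        rw [hcI, hL] at this
        rw [← this, Nat.mul_div_cancel_left _ (pow_pos hq.pos j)]
      obtain ⟨A, hA⟩ := Subgroup.exists_right_complement'_of_coprime (N := N.subgroupOf L) (by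
        rw [hcI, hindex, ← hj]
        exact Nat.Coprime.pow_left _ (Nat.coprime_ordCompl hq Nat.card_pos.ne'))
      refine ⟨A.map L.subtype, hI, Subgroup.map_subtype_le A, ?_, ?_, ?_⟩
      · refine (Subgroup.map_subtype_le A).trans ?_
        intro x hx
        rw [Subgroup.mem_normalizer_iff]
        intro y
        simp only [Subgroup.mem_inf]
        constructor
        · rintro ⟨hy1, hy2⟩
          exact ⟨hNn.conj_mem y hy1 x, L.mul_mem (L.mul_mem hx hy2) (L.inv_mem hx)⟩
        · rintro ⟨hy1, hy2⟩
          refine ⟨?_, ?_⟩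
          · have := hNn.conj_mem _ hy1 x⁻¹
            simpa [mul_assoc] using this
          · have := L.mul_mem (L.mul_mem (L.inv_mem hx) hy2) hx
            simpa [mul_assoc] using this
      · have := congrArg (Subgroup.map L.subtype) hA.sup_eq_top
        rwa [Subgroup.map_sup, Subgroup.subgroupOf_map_subtype, ← MonoidHom.range_eq_map,
          Subgroup.range_subtype] at this
      · rw [Subgroup.card_map_of_injective L.subtype_injective, ← hA.symm.index_eq_card, hindex]
    obtain ⟨A, hAc, hAH, hAn, hAsup, hA⟩ := hsmall H rfl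
    obtain ⟨B, hBc, hBK, hBn, hBsup, hB⟩ := hsmall K hHK.symm
    obtain ⟨g, hg⟩ := hD q hq _ _ (IsPGroup.of_card hAc) (IsPGroup.of_card hBc) (hAc.trans hBc.symm)
    set M := Subgroup.normalizer ((N ⊓ K : Subgroup G) : Set G)
    have hA' : MulAut.conj g • A ≤ M := by
      intro x hx
      rw [Subgroup.mem_pointwise_smul_iff_inv_smul_mem] at hx
      obtain ⟨y, hy, rfl⟩ : ∃ y ∈ A, g * y * g⁻¹ = x := ⟨_, hx, by simp [MulAut.smul_def]; group⟩
      rw [← conj_smul_eq_self_iff, ← hg, conj_smul_conj_smul, show g * y * g⁻¹ * g = g * y by group,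
        ← conj_smul_conj_smul, conj_smul_eq_self_iff.mpr (hAn hy)]
    have hMsol : Group.IsSolvable M := inferInstance
    obtain ⟨m, hm⟩ := cyclic_primes _ M le_rfl ((MulAut.conj g • A).subgroupOf M) (B.subgroupOf M)
      (by rw [Nat.card_congr (Subgroup.subgroupOfEquivOfLe hA').toEquiv,
        Nat.card_congr (Subgroup.subgroupOfEquivOfLe hBn).toEquiv, card_conj_smul, hA, hB])
      (by
        intro p hp hpd P hP
        rw [Nat.card_congr (Subgroup.subgroupOfEquivOfLe hA').toEquiv, card_conj_smul, hA] at hpd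
        have hpq : p ≠ q := by
          rintro rfl
          exact Nat.not_dvd_ordCompl hq Nat.card_pos.ne' (hj.symm ▸ hpd)
        have := hcyc p hp hpq (P.map M.subtype) (hP.map _)
        exact isCyclic_of_injective ((P.equivMapOfInjective M.subtype M.subtype_injective)).toMonoidHom
          (MulEquiv.injective _))
    refine ⟨(m : G) * g, ?_⟩
    have hm' : MulAut.conj (m : G) • (MulAut.conj g • A) = B := by
      have h1 := congrArg (Subgroup.map M.subtype) hm
      rw [map_conj_smul, Subgroup.map_subgroupOf_eq_of_le hA', Subgroup.map_subgroupOf_eq_of_le hBn] at h1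
      exact h1
    rw [← hAsup, ← hBsup, Subgroup.smul_sup, ← conj_smul_conj_smul, ← conj_smul_conj_smul, hm', hg,
      conj_smul_eq_self_iff.mpr m.2]


/-- Let G be a finite solvable group in which, for every prime p, any two p-subgroups of the same order are conjugate, and suppose the Sylow p-subgroups of G are cyclic for all primes p with at most one exception. Then any two subgroups of G of the same order are conjugate. -/
theorem result {G : Type*} [Group G] [Finite G]
    [Group.IsSolvable G] (hD : ∀ p : ℕ, p.Prime → ∀ H K : Subgroup G, IsPGroup p H → IsPGroup p K → Nat.card H = Nat.card K →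
      ∃ g : G, K = H.map (MulAut.conj g).toMonoidHom)
    (r : ℕ) (hcyc : ∀ p : ℕ, p.Prime → p ≠ r → ∀ P : Sylow p G, IsCyclic P) :
    ∀ H K : Subgroup G, Nat.card H = Nat.card K → ∃ g : G, K = H.map (MulAut.conj g).toMonoidHom := by
  intro H K hHK
  obtain ⟨g, hg⟩ := main _ G le_rfl (fun p hp A B hA hB hAB => by
      obtain ⟨g, hg⟩ := hD p hp A B hA hB hAB
      exact ⟨g, by rw [CfsgLib.Solvable.conj_smul_eq_map]; exact hg.symm⟩) r
    (fun p hp hpr P hP => by
      have := Fact.mk hp
      obtain ⟨S, hS⟩ := hP.exists_le_sylow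
      have := hcyc p hp hpr S
      exact isCyclic_of_injective (Subgroup.inclusion hS) (Subgroup.inclusion_injective hS)) H K hHK
  exact ⟨g, by rw [← CfsgLib.Solvable.conj_smul_eq_map]; exact hg.symm⟩

end Cfsg.Agent.S4022
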