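import Cfsg.Statements.S3999
import Mathlib
import Cfsg.Agent.Lib.Counting.Frobenius
import Cfsg.Agent.Lib.Solvable.Basic
import Cfsg.Agent.Lib.Solvable.Core
import Cfsg.Agent.Lib.Solvable.Hall
import Cfsg.Agent.Lib.Frobenius.ComplementSylow
import Cfsg.Agent.Lib.Char.Burnside
import Cfsg.Agent.S0042
import Cfsg.Agent.S4022

set_option autoImplicit false
open Cfsg

namespace Cfsg.Agent.S3999

universe u

/-- Counting: cyclic Sylow subgroups and a minimal number of solutions force a normal subgroup. -/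
theorem exists_normal_of_count : ∀ (d : ℕ) (C : Type u) [Group C] [Finite C],
    d ∣ Nat.card C → d.Coprime (Nat.card C / d) →
    (∀ p : ℕ, p.Prime → p ∣ d → ∀ Q : Subgroup C, IsPGroup p Q → IsCyclic Q) →
    Nat.card {g : C // g ^ d = 1} = d →
    ∃ H : Subgroup C, H.Normal ∧ Nat.card H = d ∧ Group.IsSolvable H := by
  intro d
  induction d using Nat.strong_induction_on with
  | _ d ih =>
  intro C _ _ hdC hcop hcyc hcnt
  have hd0 : d ≠ 0 := ne_zero_of_dvd_ne_zero Nat.card_pos.ne' hdC
  by_cases hd1 : d = 1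
  · exact ⟨⊥, inferInstance, by rw [Subgroup.card_bot, hd1], inferInstance⟩
  set p := d.minFac with hp'
  have hp : p.Prime := Nat.minFac_prime hd1
  have := Fact.mk hp
  set a := d.factorization p with ha
  set e := d / p ^ a with he
  have hde : p ^ a * e = d := Nat.ordProj_mul_ordCompl_eq_self d p
  have hpe : p.Coprime e := Nat.coprime_ordCompl hp hd0
  have he0 : 0 < e := Nat.ordCompl_pos p hd0
  have ha0 : a ≠ 0 := (hp.factorization_pos_of_dvd hd0 (Nat.minFac_dvd d)).ne'
  have he1 : Nat.Coprime (p - 1) e := by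
    refine Nat.coprime_of_dvd fun r hr h1 h2 => ?_
    have h3 := Nat.minFac_le_of_dvd hr.two_le (dvd_trans h2 (hde ▸ dvd_mul_left e (p ^ a)))
    have h4 := Nat.le_of_dvd (by have := hp.two_le; omega) h1
    have := hp.two_le
    omega
  have hdesc : ∀ i j : ℕ, i + j = a →
      Nat.card {g : C // g ^ (p ^ j * e) = 1} = p ^ j * e := by
    intro i
    induction i with
    | zero => intro j hj; rw [zero_add] at hj; subst hj; rw [hde, hcnt]
    | succ i ihi =>
      intro j hj
      have hup := ihi (j + 1) (by omega)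
      classical
      have := Fintype.ofFinite C
      rw [Nat.card_eq_fintype_card, Fintype.card_subtype] at hup ⊢
      set A := Finset.univ.filter fun g : C => g ^ (p ^ (j + 1) * e) = 1 with hA
      set B := Finset.univ.filter fun g : C => g ^ (p ^ j * e) = 1 with hB
      have hBA : B ⊆ A := by
        intro g hg
        simp only [hA, hB, Finset.mem_filter, Finset.mem_univ, true_and] at hg ⊢
        rw [pow_succ', mul_assoc, mul_comm, pow_mul, hg, one_pow]
      have hordA : ∀ g ∈ A \ B, p ^ (j + 1) ∣ orderOf g ∧ orderOf g ∣ p ^ (j + 1) * e := by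
        intro g hg
        simp only [hA, hB, Finset.mem_sdiff, Finset.mem_filter, Finset.mem_univ, true_and] at hg
        have h1 := orderOf_dvd_of_pow_eq_one hg.1
        refine ⟨?_, h1⟩
        obtain ⟨u, v, hu, hv, huv⟩ := exists_dvd_and_dvd_of_dvd_mul h1
        obtain ⟨i', hi', rfl⟩ := (Nat.dvd_prime_pow hp).mp hu
        rcases eq_or_lt_of_le hi' with h | h
        · exact h ▸ huv.symm ▸ dvd_mul_right _ _
        · exact absurd (orderOf_dvd_iff_pow_eq_one.mp
            (huv.symm ▸ Nat.mul_dvd_mul (pow_dvd_pow p (Nat.lt_succ_iff.mp h)) hv)) hg.2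
      have hdiv : p ^ j * (p - 1) ∣ (A \ B).card := by
        rw [Finset.card_eq_sum_card_image (fun g => orderOf g) (A \ B)]
        refine Finset.dvd_sum fun n _ => ?_
        rcases Finset.eq_empty_or_nonempty ((A \ B).filter fun g => orderOf g = n) with h | ⟨g, hg⟩
        · rw [h, Finset.card_empty]; exact dvd_zero _
        rw [Finset.mem_filter] at hg
        obtain ⟨hgAB, hgn⟩ := hg
        have hn := hordA g hgAB
        rw [hgn] at hn
        have hfib : ((A \ B).filter fun g => orderOf g = n) = Finset.univ.filter fun g : C => orderOf g = n := by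
          refine Finset.Subset.antisymm (fun x hx => ?_) (fun x hx => ?_)
          · rw [Finset.mem_filter] at hx ⊢; exact ⟨Finset.mem_univ _, hx.2⟩
          · rw [Finset.mem_filter] at hx
            simp only [hA, hB, Finset.mem_sdiff, Finset.mem_filter, Finset.mem_univ, true_and] at hgAB ⊢
            refine ⟨⟨orderOf_dvd_iff_pow_eq_one.mp (hx.2 ▸ hn.2), fun h => hgAB.2 ?_⟩, hx.2⟩
            have h1 := orderOf_dvd_of_pow_eq_one h
            rw [hx.2, ← hgn] at h1
            exact orderOf_dvd_iff_pow_eq_one.mp h1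
        rw [hfib, ← Fintype.card_subtype, ← Nat.card_eq_fintype_card]
        refine dvd_trans ?_ (CfsgLib.Counting.totient_dvd_card_orderOf n)
        rw [← Nat.totient_prime_pow_succ hp j]
        exact Nat.totient_dvd_of_dvd hn.1
      have hk : p ^ j * e ∣ B.card := by
        have h1 := CfsgLib.Counting.frobenius_dvd (G := C) (p ^ j * e)
        rw [Nat.gcd_eq_left ((Nat.mul_dvd_mul_right (pow_dvd_pow p (by omega : j ≤ a)) e).trans
          (hde ▸ hdC)), Nat.card_eq_fintype_card, Fintype.card_subtype] at h1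
        exact h1
      obtain ⟨k, hk⟩ := hk
      have hk0 : k ≠ 0 := by
        rintro rfl
        rw [mul_zero, Finset.card_eq_zero] at hk
        have h1 : (1 : C) ∈ B := by
          simp only [hB, Finset.mem_filter, Finset.mem_univ, true_and, one_pow]
        rw [hk] at h1
        exact Finset.notMem_empty _ h1
      have hlt : B.card < A.card := by
        refine Finset.card_lt_card (Finset.ssubset_iff_subset_ne.mpr ⟨hBA, fun h => ?_⟩)
        obtain ⟨Q, hQ⟩ := Sylow.exists_subgroup_card_pow_prime (G := C) p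
          ((pow_dvd_pow p (by omega : j + 1 ≤ a)).trans ((hde ▸ dvd_mul_right (p ^ a) e).trans hdC))
        have := hcyc p hp (Nat.minFac_dvd d) Q (IsPGroup.of_card hQ)
        obtain ⟨g, hg⟩ := IsCyclic.exists_generator (α := Q)
        have hgo : orderOf (g : C) = p ^ (j + 1) := by
          rw [Subgroup.orderOf_coe, orderOf_eq_card_of_forall_mem_zpowers hg, hQ]
        have hgA : (g : C) ∈ A := by
          simp only [hA, Finset.mem_filter, Finset.mem_univ, true_and]
          exact orderOf_dvd_iff_pow_eq_one.mp (hgo ▸ dvd_mul_right _ _)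
        rw [← h] at hgA
        simp only [hB, Finset.mem_filter, Finset.mem_univ, true_and] at hgA
        have h1 := orderOf_dvd_of_pow_eq_one hgA
        rw [hgo] at h1
        have h2 := (Nat.Coprime.pow_left (j + 1) hpe).dvd_of_dvd_mul_right h1
        exact absurd ((Nat.pow_dvd_pow_iff_le_right hp.one_lt).mp h2) (by omega)
      rw [Finset.card_sdiff_of_subset hBA, hup, hk,
        show p ^ (j + 1) * e = p ^ j * e * p by ring, ← Nat.mul_sub, mul_assoc] at hdiv
      have h2 := Nat.dvd_of_mul_dvd_mul_left (pow_pos hp.pos j) hdiv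
      have h3 := he1.dvd_of_dvd_mul_left h2
      have hkp : k < p := by
        rw [hup, hk, show p ^ (j + 1) * e = p ^ j * e * p by ring] at hlt
        exact Nat.lt_of_mul_lt_mul_left hlt
      have hk1 : k = 1 := by
        have h4 := Nat.le_of_dvd (by omega) h3
        omega
      rw [hk, hk1, mul_one]
  have hE := hdesc a 0 (by omega)
  rw [pow_zero, one_mul] at hE
  have hediv : e ∣ d := hde ▸ dvd_mul_left e (p ^ a)
  have helt : e < d := by
    rw [← hde]
    exact lt_mul_of_one_lt_left he0 (Nat.one_lt_pow ha0 hp.one_lt)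
  have hecop : e.Coprime (Nat.card C / e) := by
    have : Nat.card C / e = p ^ a * (Nat.card C / d) := by
      obtain ⟨c, hc⟩ := hdC
      rw [hc, Nat.mul_div_cancel_left c (Nat.pos_of_ne_zero hd0), ← hde, mul_comm (p ^ a) e,
        mul_assoc, Nat.mul_div_cancel_left _ he0]
    rw [this]
    exact Nat.Coprime.mul_right ((hpe.symm).pow_right a) (hcop.coprime_dvd_left hediv)
  obtain ⟨H, hHn, hHc, hHs⟩ := ih e helt C (hediv.trans hdC) hecop
    (fun r hr hrd => hcyc r hr (hrd.trans hediv)) hE
  obtain ⟨Q, hQ⟩ := Sylow.exists_subgroup_card_pow_prime (G := C) p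
    ((hde ▸ dvd_mul_right (p ^ a) e).trans hdC)
  have hU : Nat.card (H ⊔ Q : Subgroup C) = d := by
    rw [CfsgLib.Solvable.card_sup_of_disjoint (by rw [Subgroup.normalizer_eq_top_iff.mpr hHn]; exact le_top)
      (Subgroup.disjoint_of_coprime_natCard (by rw [hHc, hQ]; exact hpe.symm.pow_right a)), hHc, hQ,
      mul_comm, hde]
  have hchar := (CfsgLib.Counting.eq_solutions_of_card (H ⊔ Q) d hU hcnt.le).2
  refine ⟨H ⊔ Q, inferInstance, hU, ?_⟩
  have hQn : Group.IsNilpotent Q := (IsPGroup.of_card hQ).isNilpotent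
  have hQs : Group.IsSolvable Q := inferInstance
  let f : Q →* (H ⊔ Q : Subgroup C) ⧸ H.subgroupOf (H ⊔ Q) :=
    (QuotientGroup.mk' _).comp (Subgroup.inclusion le_sup_right)
  have hf : Function.Surjective f := by
    intro x
    obtain ⟨⟨x, hx⟩, rfl⟩ := QuotientGroup.mk'_surjective _ x
    obtain ⟨h, hh, q, hq, rfl⟩ := (CfsgLib.Solvable.mem_sup_of_le_normalizer
      (by rw [Subgroup.normalizer_eq_top_iff.mpr hHn]; exact le_top)).mp hx
    refine ⟨⟨q, hq⟩, QuotientGroup.eq.mpr ?_⟩
    rw [Subgroup.mem_subgroupOf]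
    show q⁻¹ * (h * q) ∈ H
    have := hHn.conj_mem h hh q⁻¹
    simpa [mul_assoc] using this
  have hq' : Group.IsSolvable ((H ⊔ Q : Subgroup C) ⧸ H.subgroupOf (H ⊔ Q)) :=
    Group.isSolvable_of_surjective hf
  exact Group.isSolvable_of_ker_le_range (Subgroup.inclusion (le_sup_left : H ≤ H ⊔ Q))
    (QuotientGroup.mk' (H.subgroupOf (H ⊔ Q))) (by
      rw [QuotientGroup.ker_mk']
      intro x hx
      exact ⟨⟨(x : C), hx⟩, Subtype.ext rfl⟩)

/-- In a solvable group whose `2`- and `3`-subgroups are two-generated, the elements of order prime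
to `6` form a normal subgroup. -/
theorem exists_normal_hall : ∀ (n : ℕ) (C : Type u) [Group C] [Finite C], Nat.card C = n →
    Group.IsSolvable C →
    (∀ p : ℕ, p.Prime → p ≤ 3 → ∀ Q : Subgroup C, IsPGroup p Q →
      ∃ x y : C, Q = Subgroup.closure {x, y}) →
    ∃ H : Subgroup C, H.Normal ∧ (∀ r : ℕ, r.Prime → r ∣ Nat.card H → 5 ≤ r) ∧
      (∀ r : ℕ, r.Prime → r ∣ H.index → r ≤ 3) := by
  intro n
  induction n using Nat.strong_induction_on with
  | _ n ih =>
  intro C _ _ hn hsol hgen
  rcases subsingleton_or_nontrivial C with hs | hs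
  · exact ⟨⊤, inferInstance, fun r hr h => absurd (Nat.eq_one_of_dvd_one (by
      rwa [Subgroup.card_top, Nat.card_unique] at h)) hr.one_lt.ne', fun r hr h => absurd
      (Nat.eq_one_of_dvd_one (by rwa [Subgroup.index_top] at h)) hr.one_lt.ne'⟩
  obtain ⟨N, hNn, hN1, -, hNmin⟩ :=
    CfsgLib.Solvable.exists_minimal_normal_le (⊤ : Subgroup C) top_ne_bot
  obtain ⟨hNc, p, hp, hNp⟩ := CfsgLib.Solvable.minimal_normal_elementary_abelian N hN1 hNmin
  have := Fact.mk hp
  have hNpg : IsPGroup p N := fun x => ⟨1, Subtype.ext (by simpa using hNp x x.2)⟩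
  obtain ⟨k, hk⟩ := IsPGroup.iff_card.mp hNpg
  have hlt : Nat.card (C ⧸ N) < n := by
    have h1 := Subgroup.card_eq_card_quotient_mul_card_subgroup N
    have h2 : 2 ≤ Nat.card N := N.one_lt_card_iff_ne_bot.mpr hN1
    have h3 : 0 < Nat.card (C ⧸ N) := Nat.card_pos
    nlinarith
  obtain ⟨H, hH, hH1, hH2⟩ := ih _ hlt (C ⧸ N) rfl inferInstance (fun r hr hr3 Q hQ => by
    have := Fact.mk hr
    obtain ⟨R, hR, hRQ, -⟩ := Cfsg.Agent.S4022.quot_pgroup N Q hQ
    obtain ⟨x, y, rfl⟩ := hgen r hr hr3 R hR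
    refine ⟨QuotientGroup.mk' N x, QuotientGroup.mk' N y, ?_⟩
    rw [← hRQ, MonoidHom.map_closure, Set.image_pair])
  set U := H.comap (QuotientGroup.mk' N) with hU
  have hUn : U.Normal := hH.comap _
  have hUcard : Nat.card U = Nat.card N * Nat.card H := CfsgLib.Solvable.card_comap_mk' N H
  have hUidx : U.index = H.index := Subgroup.index_comap_of_surjective _ (QuotientGroup.mk'_surjective N)
  by_cases hp5 : 5 ≤ p
  · refine ⟨U, hUn, fun r hr h => ?_, fun r hr h => hH2 r hr (hUidx ▸ h)⟩
    rw [hUcard] at h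
    rcases hr.dvd_mul.mp h with h | h
    · rw [hk] at h
      rw [(Nat.prime_dvd_prime_iff_eq hr hp).mp (hr.dvd_of_dvd_pow h)]; exact hp5
    · exact hH1 r hr h
  have hp3 : p ≤ 3 := by
    rcases hp.eq_two_or_odd' with rfl | ⟨j, hj⟩
    · omega
    · omega
  have hNsmall : Nat.card N ≤ p * p := by
    obtain ⟨x, y, hxy⟩ := hgen p hp hp3 N hNpg
    have hx : x ∈ N := hxy ▸ Subgroup.subset_closure (Set.mem_insert _ _)
    have hy : y ∈ N := hxy ▸ Subgroup.subset_closure (Set.mem_insert_of_mem _ rfl)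
    have hle : N ≤ Subgroup.zpowers x ⊔ Subgroup.zpowers y := by
      rw [hxy, Subgroup.closure_le]
      rintro z (rfl | rfl)
      · exact Subgroup.mem_sup_left (Subgroup.mem_zpowers _)
      · exact Subgroup.mem_sup_right (Subgroup.mem_zpowers _)
    have hcomm : y * x = x * y := congrArg Subtype.val (hNc.is_comm.comm ⟨y, hy⟩ ⟨x, hx⟩)
    have hnorm : Subgroup.zpowers y ≤ Subgroup.normalizer ((Subgroup.zpowers x : Subgroup C) : Set C) := by
      rw [Subgroup.zpowers_le, Subgroup.mem_normalizer_iff_map_conj_eq, MonoidHom.map_zpowers]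
      show Subgroup.zpowers (y * x * y⁻¹) = _
      rw [hcomm, mul_inv_cancel_right]
    have hd := CfsgLib.Solvable.card_sup_dvd hnorm
    rw [Nat.card_zpowers, Nat.card_zpowers] at hd
    calc Nat.card N ≤ Nat.card (Subgroup.zpowers x ⊔ Subgroup.zpowers y : Subgroup C) :=
          Subgroup.card_le_of_le hle
      _ ≤ orderOf x * orderOf y := Nat.le_of_dvd (Nat.mul_pos (orderOf_pos x) (orderOf_pos y)) hd
      _ ≤ p * p := Nat.mul_le_mul (Nat.le_of_dvd hp.pos (orderOf_dvd_of_pow_eq_one (hNp x hx)))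
          (Nat.le_of_dvd hp.pos (orderOf_dvd_of_pow_eq_one (hNp y hy)))
  -- elements of order prime to `6` centralize `N`
  have hcent : ∀ b : C, (∀ r : ℕ, r.Prime → r ∣ orderOf b → 5 ≤ r) → ∀ v ∈ N, b * v = v * b := by
    intro b hb v hv
    let act : Subgroup.zpowers b →* Equiv.Perm N :=
      { toFun := fun g => (MulAut.conjNormal (H := N) (g : C)).toEquiv
        map_one' := by ext w; simp
        map_mul' := fun g h => by ext w; simp [mul_assoc] }
    letI : MulAction (Subgroup.zpowers b) N := MulAction.compHom _ act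
    have hsmul : ∀ (g : Subgroup.zpowers b) (w : N), ((g • w : N) : C) = g * w * (g : C)⁻¹ :=
      fun g w => MulAut.conjNormal_apply (g : C) w
    set O := MulAction.orbit (Subgroup.zpowers b) (⟨v, hv⟩ : N)
    by_contra hne
    have hO1 : Nat.card O ≠ 1 := by
      intro h
      rw [Nat.card_eq_one_iff_unique] at h
      have h1 := congrArg (fun w : O => ((w : N) : C)) (h.1.elim
        (⟨_, ⟨⟨b, Subgroup.mem_zpowers b⟩, rfl⟩⟩ : O) ⟨⟨v, hv⟩, MulAction.mem_orbit_self _⟩)
      simp only [hsmul] at h1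
      exact hne (mul_inv_eq_iff_eq_mul.mp h1)
    have hOd : Nat.card O ∣ orderOf b := by
      rw [← Nat.card_zpowers b]
      have h1 := Subgroup.card_mul_index (MulAction.stabilizer (Subgroup.zpowers b) (⟨v, hv⟩ : N))
      rw [MulAction.index_stabilizer, ← Nat.card_coe_set_eq] at h1
      exact Dvd.intro_left _ h1
    obtain ⟨r, hr, hrO⟩ := Nat.exists_prime_and_dvd hO1
    have hO5 : 5 ≤ Nat.card O := (hb r hr (hrO.trans hOd)).trans
      (Nat.le_of_dvd (by have : Nonempty O := ⟨⟨_, MulAction.mem_orbit_self _⟩⟩; exact Nat.card_pos) hrO)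
    have hv1 : v ≠ 1 := fun h => hne (by rw [h, mul_one, one_mul])
    let o1 : O ⊕ {w : N // w = 1} → N := Sum.elim (fun w => w.1) (fun w => w.1)
    have hO_one : ∀ w : O, (w.1 : N) ≠ 1 := by
      rintro ⟨_, g, rfl⟩ h
      have h1 := congrArg (fun w : N => (w : C)) h
      simp only [hsmul, Subgroup.coe_one] at h1
      exact hv1 (conj_eq_one_iff.mp h1)
    rcases hp.eq_two_or_odd with rfl | hodd
    · have h4 : Nat.card O + 1 ≤ Nat.card N := by
        have hinj : Function.Injective o1 := by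
          rintro (w | w) (w' | w') h
          · exact congrArg Sum.inl (Subtype.ext h)
          · exact absurd (h.trans w'.2) (hO_one w)
          · exact absurd (h.symm.trans w.2) (hO_one w')
          · exact congrArg Sum.inr (Subtype.ext h)
        have := Nat.card_le_card_of_injective o1 hinj
        rw [Nat.card_sum, Nat.card_unique (α := {w : N // w = 1})] at this
        exact this
      omega
    · -- `O` and `O⁻¹` are disjoint
      let o2 : O ⊕ O → N := Sum.elim (fun w => w.1) (fun w => w.1⁻¹)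
      have hdisj : ∀ w w' : O, (w.1 : N) ≠ (w'.1 : N)⁻¹ := by
        rintro ⟨_, g, rfl⟩ ⟨_, g', rfl⟩ h
        have h0 : g • (⟨v, hv⟩ : N) = (g' • (⟨v, hv⟩ : N))⁻¹ := h
        set d := g'⁻¹ * g with hd
        have hinvsmul : ∀ (h : Subgroup.zpowers b) (w : N), h • w⁻¹ = (h • w)⁻¹ := fun h w =>
          map_inv (MulAut.conjNormal (H := N) (h : C)) w
        have h1 : d • (⟨v, hv⟩ : N) = (⟨v, hv⟩ : N)⁻¹ := by
          rw [hd, mul_smul, h0, hinvsmul, inv_smul_smul]
        have h2 : (d * d) • (⟨v, hv⟩ : N) = ⟨v, hv⟩ := by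
          rw [mul_smul, h1, hinvsmul, h1, inv_inv]
        have hoddd : Odd (orderOf d) := by
          rw [← Subgroup.orderOf_coe]
          refine Nat.not_even_iff_odd.mp fun he => ?_
          have := hb 2 Nat.prime_two ((even_iff_two_dvd.mp he).trans
            (orderOf_dvd_of_mem_zpowers d.2))
          omega
        have h3 : d • (⟨v, hv⟩ : N) = ⟨v, hv⟩ := by
          obtain ⟨j, hj⟩ := hoddd
          have h4 : ∀ i : ℕ, (d * d) ^ i • (⟨v, hv⟩ : N) = ⟨v, hv⟩ := by
            intro i
            induction i with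
            | zero => rw [pow_zero, one_smul]
            | succ i ihi => rw [pow_succ, mul_smul, h2, ihi]
          have h5 : (d * d) ^ (j + 1) = d := by
            rw [← pow_two, ← pow_mul, show 2 * (j + 1) = (2 * j + 1) + 1 by ring, pow_succ, ← hj,
              pow_orderOf_eq_one, one_mul]
          have h6 := h4 (j + 1)
          rwa [h5] at h6
        have h7 : (⟨v, hv⟩ : N) * ⟨v, hv⟩ = 1 :=
          mul_eq_one_iff_eq_inv.mpr (h3.symm.trans h1)
        have h8 : orderOf v ∣ 2 :=
          orderOf_dvd_of_pow_eq_one (by rw [pow_two]; exact congrArg Subtype.val h7)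
        rw [orderOf_eq_prime (hNp v hv) hv1] at h8
        rw [(Nat.prime_dvd_prime_iff_eq hp Nat.prime_two).mp h8] at hodd
        norm_num at hodd
      have hinj : Function.Injective o2 := by
        rintro (w | w) (w' | w') h
        · exact congrArg Sum.inl (Subtype.ext h)
        · exact absurd h (hdisj w w')
        · exact absurd h.symm (hdisj w' w)
        · exact congrArg Sum.inr (Subtype.ext (inv_injective h))
      have := Nat.card_le_card_of_injective o2 hinj
      rw [Nat.card_sum] at this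
      have hp3' : p * p ≤ 9 := Nat.mul_le_mul hp3 hp3
      omega
  -- split off `N`
  have hcop : Nat.Coprime (Nat.card N) (Nat.card H) := by
    rw [hk]
    exact Nat.Coprime.pow_left k (hp.coprime_iff_not_dvd.mpr fun h => by
      have := hH1 p hp h; omega)
  have hNU : N ≤ U := fun x hx => by
    rw [hU, Subgroup.mem_comap, QuotientGroup.mk'_apply, (QuotientGroup.eq_one_iff x).mpr hx]
    exact one_mem _
  have hcard1 : Nat.card (N.subgroupOf U) = Nat.card N :=
    Nat.card_congr (Subgroup.subgroupOfEquivOfLe hNU).toEquiv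
  have hidx1 : (N.subgroupOf U).index = Nat.card H := by
    have h1 := Subgroup.card_mul_index (N.subgroupOf U)
    rw [hcard1, hUcard] at h1
    exact Nat.eq_of_mul_eq_mul_left Nat.card_pos h1
  obtain ⟨B, hB⟩ := Subgroup.exists_right_complement'_of_coprime (N := N.subgroupOf U)
    (by rw [hcard1, hidx1]; exact hcop)
  set B' := B.map U.subtype with hB'
  have hB'card : Nat.card B' = Nat.card H := by
    rw [Subgroup.card_map_of_injective U.subtype_injective, ← hB.symm.index_eq_card, hidx1]
  have hBc : ∀ b ∈ B', ∀ v ∈ N, b * v = v * b := fun b hb => hcent b fun r hr hrd =>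
    hH1 r hr (hB'card ▸ hrd.trans (Subgroup.orderOf_dvd_natCard B' hb))
  have hB'n : B'.Normal := by
    refine ⟨fun b hb g => ?_⟩
    have hbU : g * b * g⁻¹ ∈ U := hUn.conj_mem b (Subgroup.map_subtype_le B hb) g
    obtain ⟨⟨v, b1⟩, hvb⟩ := hB.2 ⟨_, hbU⟩
    have he : ((v : U) : C) * ((b1 : U) : C) = g * b * g⁻¹ := congrArg Subtype.val hvb
    have hb1 : ((b1 : U) : C) ∈ B' := ⟨(b1 : U), b1.2, rfl⟩
    have hvN : ((v : U) : C) ∈ N := v.2
    have hc : Commute ((v : U) : C) ((b1 : U) : C) := (hBc _ hb1 _ hvN).symm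
    have hpowb : ∀ z ∈ B', z ^ Nat.card H = 1 := fun z hz =>
      orderOf_dvd_iff_pow_eq_one.mp (hB'card ▸ Subgroup.orderOf_dvd_natCard B' hz)
    have h1 : (g * b * g⁻¹) ^ Nat.card H = 1 := by
      rw [conj_pow, hpowb b hb, mul_one, mul_inv_cancel]
    rw [← he, hc.mul_pow, hpowb _ hb1, mul_one] at h1
    have h2 := Nat.dvd_gcd (Subgroup.orderOf_dvd_natCard N hvN) (orderOf_dvd_of_pow_eq_one h1)
    rw [hcop, Nat.dvd_one, orderOf_eq_one_iff] at h2
    rw [← he, h2, one_mul]
    exact hb1
  refine ⟨B', hB'n, fun r hr h => hH1 r hr (hB'card ▸ h), fun r hr h => ?_⟩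
  have hidx : B'.index = Nat.card N * H.index := by
    have h1 := Subgroup.card_mul_index B'
    have h2 := Subgroup.card_mul_index U
    rw [hUcard, hUidx] at h2
    rw [hB'card, ← h2] at h1
    refine Nat.eq_of_mul_eq_mul_left (Nat.card_pos (α := H)) (h1.trans ?_)
    ring
  rw [hidx] at h
  rcases hr.dvd_mul.mp h with h | h
  · rw [hk] at h
    rw [(Nat.prime_dvd_prime_iff_eq hr hp).mp (hr.dvd_of_dvd_pow h)]; exact hp3
  · exact hH2 r hr h


open CfsgLib.Frobenius in
/-- In a Frobenius group the number of solutions of `g ^ d = 1` comes from the complement. -/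
theorem count_solutions {G : Type*} [Group G] [Finite G] (N C : Subgroup G) [N.Normal]
    (hc : Subgroup.IsComplement' N C) (hF : Cfsg.IsFrobeniusComplement C) (d : ℕ)
    (hd : d.Coprime (Nat.card N)) :
    Nat.card {g : G // g ^ d = 1} + Nat.card N =
      1 + Nat.card N * Nat.card {h : C // h ^ d = 1} := by
  classical
  have := Fintype.ofFinite G
  have hone : ∀ {K : Type _} [Group K] [Finite K], Nat.card {g : K // g ^ d = 1} =
      1 + Nat.card {g : K // g ^ d = 1 ∧ g ≠ 1} := by
    intro K _ _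
    have h1 : Nat.card {g : {g : K // g ^ d = 1} // g.1 = 1} = 1 :=
      Nat.card_eq_one_iff_unique.mpr ⟨⟨fun x y => Subtype.ext (Subtype.ext (x.2.trans y.2.symm))⟩,
        ⟨⟨1, one_pow d⟩, rfl⟩⟩
    rw [← Nat.card_congr (Equiv.sumCompl fun g : {g : K // g ^ d = 1} => g.1 = 1), Nat.card_sum, h1]
    congr 1
    exact Nat.card_congr ⟨fun g => ⟨g.1.1, g.1.2, g.2⟩, fun g => ⟨⟨g.1, g.2.1⟩, g.2.2⟩,
      fun _ => rfl, fun _ => rfl⟩
  let J : N × {h : C // h ^ d = 1 ∧ h ≠ 1} → {g : G // g ^ d = 1 ∧ g ≠ 1} := fun q =>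
    ⟨(q.1 : G) * q.2.1 * (q.1 : G)⁻¹,
      by rw [conj_pow, ← Subgroup.coe_pow, q.2.2.1, Subgroup.coe_one, mul_one, mul_inv_cancel],
      fun h => q.2.2.2 (Subtype.ext (conj_eq_one_iff.mp h))⟩
  have hJ : Function.Bijective J := by
    constructor
    · rintro ⟨n, h⟩ ⟨n', h'⟩ e
      have e' : (n : G) * h.1 * (n : G)⁻¹ = (n' : G) * h'.1 * (n' : G)⁻¹ := congrArg Subtype.val e
      set x := (n' : G)⁻¹ * n with hx
      have hxh : x * h.1 * x⁻¹ = h'.1 := by
        rw [hx]
        calc (n' : G)⁻¹ * n * h.1 * ((n' : G)⁻¹ * n)⁻¹ = (n' : G)⁻¹ * (n * h.1 * (n : G)⁻¹) * n' := by group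
          _ = _ := by rw [e']; group
      have hxC : x ∈ C := by
        have h1 := mem_of_conj_mem hF (g := x⁻¹) h.1.2 (by rw [inv_inv, hxh]; exact h'.1.2) (fun e => h.2.2 (Subtype.ext e))
        exact inv_mem_iff.mp h1
      have hxN : x ∈ N := mul_mem (inv_mem n'.2) n.2
      have hx1 : x = 1 := Subgroup.disjoint_def.mp hc.disjoint hxN hxC
      rw [hx1, one_mul, inv_one, mul_one] at hxh
      exact Prod.ext (Subtype.ext (inv_mul_eq_one.mp hx1).symm)
        (Subtype.ext (Subtype.ext hxh))
    · rintro ⟨g, hg, hg1⟩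
      have hgN : g ∉ N := by
        intro h
        have h1 := Nat.dvd_gcd (orderOf_dvd_of_pow_eq_one hg) (Subgroup.orderOf_dvd_natCard N h)
        rw [hd, Nat.dvd_one, orderOf_eq_one_iff] at h1
        exact hg1 h1
      rw [← SetLike.mem_coe, kernel_eq_of_isComplement' hc hF] at hgN
      simp only [Cfsg.frobeniusKernel, Set.mem_ofPred_eq, not_or, not_forall, not_not] at hgN
      obtain ⟨-, x, hx⟩ := hgN
      rw [mem_conjSMul_iff] at hx
      obtain ⟨⟨n, c⟩, rfl⟩ := hc.2 x
      have hmem : (n : G)⁻¹ * g * n ∈ C := by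
        have := mul_mem (mul_mem c.2 hx) (inv_mem c.2)
        simpa [mul_assoc] using this
      refine ⟨⟨n, ⟨⟨_, hmem⟩, Subtype.ext ?_, fun h => hg1 ?_⟩⟩, Subtype.ext ?_⟩
      · rw [Subgroup.coe_pow, Subgroup.coe_one]
        have := conj_pow (a := (n : G)⁻¹) (b := g) (i := d)
        rw [inv_inv] at this
        rw [this, hg, mul_one, inv_mul_cancel]
      · have h2 : (n : G)⁻¹ * g * n = 1 := congrArg Subtype.val h
        rw [show g = (n : G) * ((n : G)⁻¹ * g * n) * (n : G)⁻¹ by group, h2]; group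
      · show (n : G) * ((n : G)⁻¹ * g * n) * (n : G)⁻¹ = g
        group
  have h1 := Nat.card_congr (Equiv.ofBijective J hJ)
  rw [Nat.card_prod] at h1
  rw [hone (K := G), hone (K := C), ← h1]
  ring

theorem two_generated {G : Type*} [Group G] [Finite G] {K H : Subgroup G} [K.Normal]
    (hc : Subgroup.IsComplement' K H) (hK : K ≠ ⊥)
    (hfpf : ∀ h ∈ H, h ≠ 1 → K ⊓ Subgroup.centralizer {h} = ⊥) {p : ℕ} [Fact p.Prime]
    (Q : Subgroup H) (hQ : IsPGroup p Q) : ∃ x y : H, Q = Subgroup.closure {x, y} := by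
  rcases CfsgLib.Frobenius.sylow_cyclic_or_quaternion hc hK hfpf Q hQ with h | ⟨-, n, ⟨e⟩⟩
  · obtain ⟨x, hx⟩ := (Subgroup.isCyclic_iff_exists_zpowers_eq_top Q).mp h
    exact ⟨x, x, by rw [Set.pair_eq_singleton, ← Subgroup.zpowers_eq_closure, hx]⟩
  · have : NeZero (2 ^ n) := ⟨pow_ne_zero n two_ne_zero⟩
    have htop : (⊤ : Subgroup (QuaternionGroup (2 ^ n))) =
        Subgroup.closure {QuaternionGroup.a 1, QuaternionGroup.xa 0} := by
      refine (eq_top_iff.mpr fun g _ => ?_).symm
      have ha : ∀ i, QuaternionGroup.a i ∈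
          Subgroup.closure ({QuaternionGroup.a 1, QuaternionGroup.xa 0} : Set (QuaternionGroup (2 ^ n))) := by
        intro i
        rw [← ZMod.natCast_zmod_val i, ← QuaternionGroup.a_one_pow]
        exact pow_mem (Subgroup.subset_closure (Set.mem_insert _ _)) _
      rcases g with i | i
      · exact ha i
      · rw [show QuaternionGroup.xa i = QuaternionGroup.xa 0 * QuaternionGroup.a i by
          rw [QuaternionGroup.xa_mul_a, zero_add]]
        exact mul_mem (Subgroup.subset_closure (Set.mem_insert_of_mem _ rfl)) (ha i)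
    refine ⟨(e.symm (QuaternionGroup.a 1) : H), (e.symm (QuaternionGroup.xa 0) : H), ?_⟩
    have h := congrArg (Subgroup.map (Q.subtype.comp e.symm.toMonoidHom)) htop
    rw [MonoidHom.map_closure, Set.image_pair, ← MonoidHom.range_eq_map, MonoidHom.range_comp,
      MonoidHom.range_eq_top_of_surjective _ e.symm.surjective, ← MonoidHom.range_eq_map,
      Subgroup.range_subtype] at h
    exact h

/-- The counting criterion for solvability of a Frobenius group. -/
theorem solvable_iff {G : Type u} [Group G] [Finite G] (N C : Subgroup G) [N.Normal]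
    (hc : Subgroup.IsComplement' N C) (hF : Cfsg.IsFrobeniusComplement C) (hNsol : Group.IsSolvable N)
    (hcop : (Nat.card C).Coprime (Nat.card N))
    (a b d : ℕ) (hcard : Nat.card C = 2 ^ a * 3 ^ b * d) (h2 : ¬ 2 ∣ d) (h3 : ¬ 3 ∣ d) :
    Group.IsSolvable G ↔ Nat.card {g : G // g ^ d = 1} + Nat.card N = 1 + Nat.card N * d := by
  have hN1 : N ≠ ⊥ := by
    rintro rfl
    exact hF.2.1 (Subgroup.isComplement'_bot_left.mp hc)
  have hfpf : ∀ h ∈ C, h ≠ 1 → N ⊓ Subgroup.centralizer {h} = ⊥ := fun h hh h1 =>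
    CfsgLib.Frobenius.fpf_of_isFrobeniusComplement hc hF hh h1
  have hd0 : d ≠ 0 := fun h => h2 (h ▸ dvd_zero 2)
  have hdC : d ∣ Nat.card C := hcard ▸ dvd_mul_left d _
  have h5 : ∀ r : ℕ, r.Prime → r ∣ d → 5 ≤ r := by
    intro r hr hrd
    by_contra hlt
    have := hr.two_le
    interval_cases r
    · exact h2 hrd
    · exact h3 hrd
    · exact absurd hr (by norm_num)
  have hcard' : Nat.card C / d = 2 ^ a * 3 ^ b := by
    rw [hcard, Nat.mul_div_cancel _ (Nat.pos_of_ne_zero hd0)]
  have hsmall : ∀ r : ℕ, r.Prime → r ∣ 2 ^ a * 3 ^ b → r ≤ 3 := by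
    intro r hr h
    rcases hr.dvd_mul.mp h with h | h
    · exact le_trans (Nat.le_of_dvd (by norm_num) (hr.dvd_of_dvd_pow h)) (by norm_num)
    · exact Nat.le_of_dvd (by norm_num) (hr.dvd_of_dvd_pow h)
  have hdcop : d.Coprime (2 ^ a * 3 ^ b) :=
    Nat.coprime_of_dvd fun r hr h1 h2 => by have := h5 r hr h1; have := hsmall r hr h2; omega
  have hGC : Group.IsSolvable G ↔ Group.IsSolvable C := by
    refine ⟨fun h => inferInstance, fun h => ?_⟩
    have hq : Group.IsSolvable (G ⧸ N) :=
      Group.isSolvable_of_surjective (f := hc.symm.QuotientMulEquiv.symm.toMonoidHom)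
        hc.symm.QuotientMulEquiv.symm.surjective
    exact Group.isSolvable_of_ker_le_range N.subtype (QuotientGroup.mk' N) (by simp)
  rw [count_solutions N C hc hF d (hcop.coprime_dvd_left hdC), hGC]
  suffices h : Group.IsSolvable C ↔ Nat.card {h : C // h ^ d = 1} = d by
    rw [h]
    exact ⟨fun e => by rw [e], fun e =>
      Nat.eq_of_mul_eq_mul_left Nat.card_pos (Nat.add_left_cancel e)⟩
  constructor
  · intro hsol
    obtain ⟨H, hHn, hH1, hH2⟩ := exists_normal_hall _ C rfl hsol (fun p hp _ Q hQ => by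
      have := Fact.mk hp
      exact two_generated hc hN1 hfpf Q hQ)
    have hHd : Nat.card H = d := by
      have h1 := Subgroup.card_mul_index H
      rw [hcard] at h1
      refine Nat.dvd_antisymm ?_ ?_
      · refine (Nat.Coprime.dvd_of_dvd_mul_left ?_ (h1 ▸ dvd_mul_right _ _))
        exact Nat.coprime_of_dvd fun r hr e1 e2 => by
          have := hH1 r hr e1; have := hsmall r hr e2; omega
      · refine (Nat.Coprime.dvd_of_dvd_mul_right ?_ (h1.symm ▸ dvd_mul_left d (2 ^ a * 3 ^ b)))
        exact Nat.coprime_of_dvd fun r hr e1 e2 => by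
          have := h5 r hr e1; have := hH2 r hr e2; omega
    rw [← hHd]
    refine Nat.card_congr (Equiv.subtypeEquivRight fun h => ⟨fun hh => ?_, fun hh => ?_⟩)
    · rw [← QuotientGroup.eq_one_iff, ← orderOf_eq_one_iff]
      refine Nat.dvd_one.mp ?_
      have hidx : H.index = 2 ^ a * 3 ^ b := by
        have h1 := Subgroup.card_mul_index H
        rw [hcard, hHd, mul_comm _ d] at h1
        exact Nat.eq_of_mul_eq_mul_left (Nat.pos_of_ne_zero hd0) h1
      rw [← hdcop]
      refine Nat.dvd_gcd ((orderOf_map_dvd (QuotientGroup.mk' H) h).trans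
        (orderOf_dvd_of_pow_eq_one (hHd ▸ hh))) ?_
      exact hidx ▸ orderOf_dvd_natCard _
    · exact orderOf_dvd_iff_pow_eq_one.mp (Subgroup.orderOf_dvd_natCard H hh)
  · intro hcnt
    obtain ⟨H, hHn, hHc, hHs⟩ := exists_normal_of_count d C hdC (hcard'.symm ▸ hdcop)
      (fun p hp hpd Q hQ => by
        have := Fact.mk hp
        rcases CfsgLib.Frobenius.sylow_cyclic_or_quaternion hc hN1 hfpf Q hQ with h | ⟨h, -⟩
        · exact h
        · have := h5 p hp hpd; omega) hcnt
    have hq : Group.IsSolvable (C ⧸ H) := by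
      refine CfsgLib.Char.isSolvable_of_card_eq_prime_pow_mul (a := a) (b := b)
        Nat.prime_two Nat.prime_three ?_
      have h1 := Subgroup.card_eq_card_quotient_mul_card_subgroup H
      rw [hHc, hcard] at h1
      exact (Nat.eq_of_mul_eq_mul_right (Nat.pos_of_ne_zero hd0) h1).symm
    exact Group.isSolvable_of_ker_le_range H.subtype (QuotientGroup.mk' H) (by simp)

theorem six_split : ∀ c : ℕ, c ≠ 0 → ∃ a b d : ℕ, c = 2 ^ a * 3 ^ b * d ∧ ¬ 2 ∣ d ∧ ¬ 3 ∣ d := by
  intro c hc
  refine ⟨c.factorization 2, (ordCompl[2] c).factorization 3, ordCompl[3] (ordCompl[2] c), ?_, ?_,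
    Nat.not_dvd_ordCompl Nat.prime_three (Nat.ordCompl_pos 2 hc).ne'⟩
  · rw [mul_assoc, Nat.ordProj_mul_ordCompl_eq_self, Nat.ordProj_mul_ordCompl_eq_self]
  · intro h
    exact Nat.not_dvd_ordCompl Nat.prime_two hc (h.trans (Nat.ordCompl_dvd _ _))

theorem main {F : Type*} {G : Type*} [Group F] [Finite F] [Group G] [Finite G] {C : Subgroup F}
    (hF : Cfsg.IsFrobeniusComplement C)
    (hT : ∀ m : ℕ, Nat.card {g : F // orderOf g = m} = Nat.card {h : G // orderOf h = m}) :
    (∃ D : Subgroup G, Cfsg.IsFrobeniusComplement D) ∧ (Group.IsSolvable G ↔ Group.IsSolvable F) := by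
  obtain ⟨N, hNk, hNn, hNil⟩ := Cfsg.Agent.S0042.result C hF
  obtain ⟨-, hNC⟩ := CfsgLib.Frobenius.normal_isComplement'_of_coe_eq hF hNk
  have hNcard : C.index = Nat.card N := hNC.index_eq_card
  have hcop : (Nat.card C).Coprime (Nat.card N) := hNcard ▸ CfsgLib.Frobenius.coprime_card_index hF
  have hGF : Nat.card G = Nat.card N * Nat.card C := by
    rw [← CfsgLib.Counting.card_congr_of_orderType hT, hNC.card_mul_card]
  set m := Nat.card N with hm
  set c := Nat.card C with hcdef
  have hm1 : 2 ≤ m := hNcard ▸ CfsgLib.Frobenius.index_ge_two hF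
  have hc1 : 2 ≤ c := CfsgLib.Frobenius.card_ge_two hF
  -- the `p`-elements of `G`
  have hsyl : ∀ p : ℕ, p.Prime → p ∣ m → ∀ [Fact p.Prime] (P : Sylow p G),
      (P : Subgroup G).Normal ∧ (Nat.card (P : Subgroup G)).Coprime c ∧
        Nat.card (P : Subgroup G) = p ^ m.factorization p := by
    intro p hp hpm _ P
    have hpc : ¬ p ∣ c := fun h => hp.not_dvd_one (hcop ▸ Nat.dvd_gcd h hpm)
    have hval : (Nat.card G).factorization p = m.factorization p := by
      rw [hGF, Nat.factorization_mul (by omega) (by omega), Finsupp.add_apply,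
        Nat.factorization_eq_zero_of_not_dvd hpc, add_zero]
    have hPc : Nat.card (P : Subgroup G) = p ^ m.factorization p := by
      rw [P.card_eq_multiplicity, hval]
    obtain ⟨Q⟩ : Nonempty (Sylow p N) := inferInstance
    have hQn : (Q : Subgroup N).Normal := (Group.isNilpotent_of_finite_tfae.out 0 3 rfl rfl).mp hNil p ⟨hp⟩ Q
    have hcnt : Nat.card {g : G // g ^ p ^ m.factorization p = 1} ≤ p ^ m.factorization p := by
      rw [← CfsgLib.Counting.card_pow_eq_one_congr hT, hm]
      conv_rhs => rw [← Q.card_eq_multiplicity]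
      have hmem : ∀ g : F, g ^ p ^ (Nat.card N).factorization p = 1 → g ∈ N := by
        intro g hg
        rw [← QuotientGroup.eq_one_iff, ← orderOf_eq_one_iff]
        refine Nat.dvd_one.mp ?_
        rw [← (Nat.Coprime.pow_left ((Nat.card N).factorization p) (hp.coprime_iff_not_dvd.mpr hpc))]
        refine Nat.dvd_gcd ((orderOf_map_dvd (QuotientGroup.mk' N) g).trans (orderOf_dvd_of_pow_eq_one hg)) ?_
        have h1 := orderOf_dvd_natCard (G := F ⧸ N) (g : F ⧸ N)
        rw [← Subgroup.index_eq_card, hNC.symm.index_eq_card] at h1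
        exact h1
      refine Nat.card_le_card_of_injective (fun g => (⟨⟨g.1, hmem g.1 g.2⟩, ?_⟩ : (Q : Subgroup N)))
        fun g g' h => Subtype.ext (congrArg (fun q : (Q : Subgroup N) => ((q : N) : F)) h)
      have hp' : IsPGroup p (Subgroup.zpowers (⟨g.1, hmem g.1 g.2⟩ : N)) := by
        obtain ⟨i, -, hi⟩ := (Nat.dvd_prime_pow hp).mp (orderOf_dvd_of_pow_eq_one g.2)
        refine IsPGroup.of_card (n := i) ?_
        rw [Nat.card_zpowers, ← Subgroup.orderOf_coe]; exact hi
      obtain ⟨Q', hQ'⟩ := hp'.exists_le_sylow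
      have : Q' = Q := by
        have := Sylow.unique_of_normal Q hQn
        exact Subsingleton.elim _ _
      exact this ▸ hQ' (Subgroup.mem_zpowers _)
    have hch := (CfsgLib.Counting.eq_solutions_of_card (P : Subgroup G) _ hPc hcnt).2
    exact ⟨inferInstance, hPc ▸ Nat.Coprime.pow_left _ (hp.coprime_iff_not_dvd.mpr hpc), hPc⟩
  -- the kernel of `G`
  set S : Set (Subgroup G) := {M | M.Normal ∧ (Nat.card M).Coprime c} with hS
  set M := sSup S with hMdef
  have hM : M.Normal ∧ (Nat.card M).Coprime c := by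
    refine CfsgLib.Solvable.sSup_induction_normal (P := fun K : Subgroup G => (Nat.card K).Coprime c)
      ?_ ?_ (Set.toFinite S) (fun K hK => hK)
    · simp
    · intro K L hK _ h1 h2
      haveI := hK
      exact Nat.Coprime.coprime_dvd_left (CfsgLib.Solvable.card_sup_dvd_mul K L) (h1.mul_left h2)
  have hMn := hM.1
  have hMcard : Nat.card M = m := by
    refine Nat.dvd_antisymm (hM.2.dvd_of_dvd_mul_right (hGF ▸ Subgroup.card_subgroup_dvd_card M)) ?_
    rw [Nat.dvd_iff_prime_pow_dvd_dvd]
    intro p k hp hpk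
    rcases Nat.eq_zero_or_pos k with rfl | hk
    · simp
    have := Fact.mk hp
    obtain ⟨P⟩ : Nonempty (Sylow p G) := inferInstance
    obtain ⟨h1, h2, h3⟩ := hsyl p hp ((dvd_pow_self p hk.ne').trans hpk) P
    refine dvd_trans ?_ (Subgroup.card_dvd_of_le (le_sSup (show (P : Subgroup G) ∈ S from ⟨h1, h2⟩)))
    rw [h3]
    exact pow_dvd_pow p ((hp.pow_dvd_iff_le_factorization (by omega)).mp hpk)
  have hMidx : M.index = c := by
    have h1 := Subgroup.card_mul_index M
    rw [hMcard, hGF] at h1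
    exact Nat.eq_of_mul_eq_mul_left (by omega) h1
  have hMsol : Group.IsSolvable M := by
    have : Group.IsNilpotent M := by
      refine (Group.isNilpotent_of_finite_tfae.out 0 3 rfl rfl).mpr ?_
      intro p hp P
      have hP' := P.2.map M.subtype
      by_cases hpm : p ∣ m
      · obtain ⟨P0, hP0⟩ := hP'.exists_le_sylow
        obtain ⟨h1, h2, h3⟩ := hsyl p hp.out hpm P0
        have heq : (P : Subgroup M).map M.subtype = P0 := by
          refine Subgroup.eq_of_le_of_card_ge hP0 (le_of_eq ?_)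
          rw [Subgroup.card_map_of_injective M.subtype_injective, P.card_eq_multiplicity, h3, hMcard]
        have := h1.comap M.subtype
        rwa [← heq, Subgroup.comap_map_eq_self_of_injective M.subtype_injective] at this
      · have hb : (P : Subgroup M) = ⊥ := Subgroup.card_eq_one.mp (by
          rw [P.card_eq_multiplicity, hMcard, Nat.factorization_eq_zero_of_not_dvd hpm, pow_zero])
        rw [hb]; infer_instance
    infer_instance
  obtain ⟨D, hD⟩ := Subgroup.exists_right_complement'_of_coprime (N := M)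
    (by rw [hMcard, hMidx]; exact hcop.symm)
  have hDcard : Nat.card D = c := by rw [← hD.symm.index_eq_card, hMidx]
  have hDF : Cfsg.IsFrobeniusComplement D := by
    refine CfsgLib.Frobenius.isFrobeniusComplement_of_fpf hD
      (fun h => by rw [h, Subgroup.card_bot] at hMcard; omega)
      (fun h => by rw [h, Subgroup.card_bot] at hDcard; omega) fun h hh h1 => ?_
    rw [eq_bot_iff]
    rintro k hk'
    obtain ⟨hk, hkc⟩ := Subgroup.mem_inf.mp hk'
    rw [Subgroup.mem_bot]
    by_contra hk1
    rw [Subgroup.mem_centralizer_singleton_iff] at hkc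
    obtain ⟨p, hp, hpk⟩ := Nat.exists_prime_and_dvd (n := orderOf k) (fun e => hk1 (orderOf_eq_one_iff.mp e))
    obtain ⟨q, hq, hqh⟩ := Nat.exists_prime_and_dvd (n := orderOf h) (fun e => h1 (orderOf_eq_one_iff.mp e))
    have hpm : p ∣ m := hMcard ▸ hpk.trans (Subgroup.orderOf_dvd_natCard M hk)
    have hqc : q ∣ c := hDcard ▸ hqh.trans (Subgroup.orderOf_dvd_natCard D hh)
    have hpq : p.Coprime q := (hcop.symm.coprime_dvd_left hpm).coprime_dvd_right hqc
    have hko : orderOf (k ^ (orderOf k / p)) = p := orderOf_pow_orderOf_div (orderOf_pos k).ne' hpk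
    have hho : orderOf (h ^ (orderOf h / q)) = q := orderOf_pow_orderOf_div (orderOf_pos h).ne' hqh
    have hpqo : orderOf (k ^ (orderOf k / p) * h ^ (orderOf h / q)) = p * q := by
      rw [Commute.orderOf_mul_eq_mul_orderOf_of_coprime
        ((show Commute k h from hkc).pow_pow _ _) (by rw [hko, hho]; exact hpq), hko, hho]
    have hpos : 0 < Nat.card {g : F // orderOf g = p * q} := by
      rw [hT]
      have : Nonempty {g : G // orderOf g = p * q} := ⟨⟨_, hpqo⟩⟩
      exact Nat.card_pos
    obtain ⟨⟨g, hg⟩⟩ := (Nat.card_pos_iff.mp hpos).1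
    have hg1 : orderOf (g ^ q) = p := by
      rw [orderOf_pow_of_dvd hq.ne_zero (hg ▸ dvd_mul_left q p), hg, Nat.mul_div_cancel _ hq.pos]
    have hg2 : orderOf (g ^ p) = q := by
      rw [orderOf_pow_of_dvd hp.ne_zero (hg ▸ dvd_mul_right p q), hg, Nat.mul_div_cancel_left _ hp.pos]
    have hgN : g ^ q ∈ N := by
      rw [← QuotientGroup.eq_one_iff, ← orderOf_eq_one_iff]
      refine Nat.dvd_one.mp ?_
      rw [← (show Nat.gcd p c = 1 from hcop.symm.coprime_dvd_left hpm)]
      refine Nat.dvd_gcd (hg1 ▸ orderOf_map_dvd (QuotientGroup.mk' N) (g ^ q)) ?_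
      have h1 := orderOf_dvd_natCard (G := F ⧸ N) ((g ^ q : F) : F ⧸ N)
      rw [← Subgroup.index_eq_card, hNC.symm.index_eq_card] at h1
      exact h1
    have hgp : g ^ p ∉ N := fun e => by
      have h1 := hg2 ▸ Subgroup.orderOf_dvd_natCard N e
      exact hq.not_dvd_one (hcop ▸ Nat.dvd_gcd hqc h1)
    rw [← SetLike.mem_coe, hNk] at hgp
    simp only [Cfsg.frobeniusKernel, Set.mem_ofPred_eq, not_or, not_forall, not_not] at hgp
    obtain ⟨hgp1, x, hx⟩ := hgp
    rw [CfsgLib.Frobenius.mem_conjSMul_iff] at hx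
    have hfix := CfsgLib.Frobenius.fpf_of_isFrobeniusComplement hNC hF hx
      (fun e => hgp1 (by rw [show g ^ p = x * (x⁻¹ * g ^ p * x) * x⁻¹ by group, e]; group))
    have hmem : x⁻¹ * g ^ q * x ∈ N ⊓ Subgroup.centralizer {x⁻¹ * g ^ p * x} := by
      refine ⟨by simpa using hNn.conj_mem _ hgN x⁻¹, Subgroup.mem_centralizer_singleton_iff.mpr ?_⟩
      rw [show x⁻¹ * g ^ q * x * (x⁻¹ * g ^ p * x) = x⁻¹ * (g ^ q * g ^ p) * x by group,
        show x⁻¹ * g ^ p * x * (x⁻¹ * g ^ q * x) = x⁻¹ * (g ^ p * g ^ q) * x by group,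
        (Commute.pow_pow (Commute.refl g) q p).eq]
    rw [hfix, Subgroup.mem_bot] at hmem
    have : g ^ q = 1 := by
      rw [show g ^ q = x * (x⁻¹ * g ^ q * x) * x⁻¹ by group, hmem]; group
    rw [this, orderOf_one] at hg1
    exact hp.one_lt.ne hg1
  refine ⟨⟨D, hDF⟩, ?_⟩
  obtain ⟨a, b, d, habd, h2, h3⟩ := six_split c (by omega)
  have hNsol : Group.IsSolvable N := by have := hNil; infer_instance
  rw [solvable_iff M D hD hDF hMsol (by rw [hDcard, hMcard]; exact hcop) a b d (hDcard.trans habd) h2 h3,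
    solvable_iff N C hNC hF hNsol hcop a b d habd h2 h3, hMcard,
    CfsgLib.Counting.card_pow_eq_one_congr hT]

/-- Let F be a finite Frobenius group (it has a Frobenius complement) and G a finite group with the same order type as F (for every m the same number of elements of order m). Then G is a Frobenius group; moreover G is solvable if and only if F is. -/
theorem result {F G : Type*} [Group F] [Finite F] [Group G] [Finite G] (hF : (∃ C : Subgroup F, Cfsg.IsFrobeniusComplement C)) (hT : (∀ m : ℕ, Nat.card {g : F // orderOf g = m} = Nat.card {h : G // orderOf h = m})) :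
    (∃ C : Subgroup G, Cfsg.IsFrobeniusComplement C) ∧ (Group.IsSolvable G ↔ Group.IsSolvable F) := by
  obtain ⟨C, hC⟩ := hF
  exact main hC hT

end Cfsg.Agent.S3999
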