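import Cfsg.Statements.S4001
import Cfsg.Agent.Lib.Frobenius.TwoFrobenius

set_option autoImplicit false
open Cfsg

namespace Cfsg.Agent.S4001

open Subgroup CfsgLib.TwoFrob

/-- Let G be a 2-Frobenius group: it has normal subgroups H < K with K a Frobenius group with kernel H and G/H a Frobenius group with kernel K/H. Then G is solvable; K/H has odd order coprime to the order of H and to the order of G/K (it is the image of an odd-order Hall subgroup); G/K is cyclic; and the prime graph of G has exactly two connected components, both complete: for distinct primes p, q dividing the order of G, G has an element of order pq exactly when p and q either both divide the order of K/H or both do not. -/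
theorem result {G : Type*} [Group G] [Finite G] (H K : Subgroup G) [H.Normal] [K.Normal] (hlt : H < K)
    (hK : ∃ C : Subgroup ↥K, Cfsg.IsFrobeniusComplement C ∧ Cfsg.frobeniusKernel C = (H.subgroupOf K : Set ↥K))
    (hGH : ∃ C : Subgroup (G ⧸ H), Cfsg.IsFrobeniusComplement C ∧ Cfsg.frobeniusKernel C = (K.map (QuotientGroup.mk' H) : Set (G ⧸ H))) :
    Group.IsSolvable G ∧ Odd (Nat.card (↥K ⧸ H.subgroupOf K)) ∧
      Nat.Coprime (Nat.card (↥K ⧸ H.subgroupOf K)) (Nat.card ↥H * Nat.card (G ⧸ K)) ∧ IsCyclic (G ⧸ K) ∧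
      ∀ p q : ℕ, p.Prime → q.Prime → p ≠ q → p ∣ Nat.card G → q ∣ Nat.card G →
        ((∃ g : G, orderOf g = p * q) ↔ (p ∣ Nat.card (↥K ⧸ H.subgroupOf K) ↔ q ∣ Nat.card (↥K ⧸ H.subgroupOf K))) := by
  obtain ⟨C, hC, hCk⟩ := hK
  obtain ⟨D, hD, hDk⟩ := hGH
  have hle : H ≤ K := hlt.le
  set N := H.subgroupOf K with hN
  set π := QuotientGroup.mk' H with hπ
  set Kb := K.map π with hKb
  have hπs : Function.Surjective π := QuotientGroup.mk'_surjective H
  obtain ⟨hNn, hNC⟩ := CfsgLib.Frobenius.normal_isComplement'_of_coe_eq hC hCk.symm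
  obtain ⟨hKbn, hKD⟩ := CfsgLib.Frobenius.normal_isComplement'_of_coe_eq hD hDk.symm
  have hCc : Nat.card C = Nat.card (↥K ⧸ N) := by
    rw [← Subgroup.index_eq_card]; exact hNC.symm.index_eq_card.symm
  have hHc : Nat.card N = Nat.card H := Nat.card_congr (subgroupOfEquivOfLe hle).toEquiv
  -- the complement is isomorphic to `K/H`
  let f : C →* G ⧸ H := π.comp (K.subtype.comp C.subtype)
  have hfi : Function.Injective f := by
    rw [injective_iff_map_eq_one]
    intro c hc
    exact Subtype.ext (disjoint_def.1 hNC.disjoint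
      (mem_subgroupOf.mpr ((QuotientGroup.eq_one_iff _).mp hc)) c.2)
  have hfr : f.range = Kb := by
    refine le_antisymm ?_ ?_
    · rintro _ ⟨c, rfl⟩
      exact mem_map_of_mem π (c : K).2
    · rintro _ ⟨k, hk, rfl⟩
      obtain ⟨⟨n, c⟩, hnc⟩ := hNC.2 ⟨k, hk⟩
      refine ⟨c, ?_⟩
      have h1 : ((n : K) : G) * ((c : K) : G) = k := congrArg Subtype.val hnc
      show π ((c : K) : G) = π k
      rw [← h1, map_mul, show π ((n : K) : G) = 1 from
        (QuotientGroup.eq_one_iff _).mpr (mem_subgroupOf.mp n.2), one_mul]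
  let eC : C ≃* Kb := (MonoidHom.ofInjective hfi).trans (MulEquiv.subgroupCongr hfr)
  have hKbc : Nat.card Kb = Nat.card C := Nat.card_congr eC.symm.toEquiv
  have hD' : Nat.card D = Nat.card (G ⧸ K) := by
    rw [← hKD.symm.index_eq_card, index_eq_card]
    exact Nat.card_congr (QuotientGroup.quotientQuotientEquivQuotient H K hle).toEquiv
  have hca : (Nat.card C).Coprime (Nat.card H) := by
    rw [← hHc, ← hNC.index_eq_card]; exact CfsgLib.Frobenius.coprime_card_index hC
  have hcd : (Nat.card C).Coprime (Nat.card (G ⧸ K)) := by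
    rw [← hKbc, ← hKD.index_eq_card, ← hD']; exact (CfsgLib.Frobenius.coprime_card_index hD).symm
  have hKbne : Kb ≠ ⊥ := fun h => hC.1 (Subgroup.card_eq_one.mp (by rw [← hKbc, h, card_bot]))
  have hfpfD : ∀ y ∈ D, y ≠ 1 → Kb ⊓ Subgroup.centralizer {y} = ⊥ := fun y hy hy1 =>
    CfsgLib.Frobenius.fpf_of_isFrobeniusComplement hKD hD hy hy1
  have hfpfC : ∀ y ∈ C, y ≠ 1 → N ⊓ Subgroup.centralizer {y} = ⊥ := fun y hy hy1 =>
    CfsgLib.Frobenius.fpf_of_isFrobeniusComplement hNC hC hy hy1
  have hNne : N ≠ ⊥ := fun h => by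
    have := hNC.index_eq_card
    exact hC.2.1 (index_eq_one.mp (hNC.index_eq_card.trans (by rw [h, card_bot])))
  -- odd order
  have hodd : Odd (Nat.card C) := by
    rw [← Nat.not_even_iff_odd]
    intro heven
    obtain ⟨⟨s, hsC, hs2, hsu, -⟩, -⟩ :=
      CfsgLib.Frobenius.unique_involution hNC hNne hfpfC (even_iff_two_dvd.mp heven)
    set z := eC ⟨s, hsC⟩ with hz
    have hz2 : orderOf z = 2 := by rw [hz, MulEquiv.orderOf_eq, ← hs2, ← Subgroup.orderOf_coe]
    obtain ⟨y, hy, hy1⟩ := (D.bot_or_exists_ne_one).resolve_left hD.1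
    have hconj : MulAut.conjNormal (H := Kb) y z = z := by
      obtain ⟨w, hw⟩ := eC.surjective (MulAut.conjNormal (H := Kb) y z)
      have hwo : orderOf (w : K) = 2 := by
        rw [Subgroup.orderOf_coe, ← eC.orderOf_eq, hw, MulEquiv.orderOf_eq, hz2]
      rw [← hw, hz]
      exact congrArg eC (Subtype.ext (hsu w w.2 hwo))
    have hmem : (z : G ⧸ H) ∈ Kb ⊓ Subgroup.centralizer {y} := by
      refine ⟨z.2, mem_centralizer_singleton_iff.mpr ?_⟩
      have h1 : y * (z : G ⧸ H) * y⁻¹ = z := by
        rw [← MulAut.conjNormal_apply y z, hconj]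
      exact (mul_inv_eq_iff_eq_mul.mp h1).symm
    rw [hfpfD y hy hy1, mem_bot] at hmem
    rw [show z = 1 from Subtype.ext hmem, orderOf_one] at hz2
    omega
  -- cyclic
  have hKbnil : Group.IsNilpotent Kb := by
    obtain ⟨N', hN', -, hnil⟩ := Cfsg.Agent.S0042.result D hD
    have : N' = Kb := SetLike.coe_injective (hN'.trans hDk)
    rwa [← this]
  have hCcyc : IsCyclic C := by
    have : Group.IsNilpotent C := Group.nilpotent_of_mulEquiv eC.symm
    have : IsZGroup C := ⟨fun p hp P => by
      have := Fact.mk hp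
      rcases CfsgLib.Frobenius.sylow_cyclic_or_quaternion hNC hNne hfpfC (P : Subgroup C) P.2 with h | ⟨h, -⟩
      · exact h
      · by_cases hP1 : (P : Subgroup C) = ⊥
        · rw [hP1]; infer_instance
        · exfalso
          subst h
          have h2 := (P.2.card_eq_or_dvd).resolve_left fun h1 => hP1 (Subgroup.card_eq_one.mp h1)
          exact (Nat.not_even_iff_odd.mpr hodd) (even_iff_two_dvd.mpr (h2.trans (card_subgroup_dvd_card _)))⟩
    infer_instance
  have hKbcyc : IsCyclic Kb := isCyclic_of_surjective eC.toMonoidHom eC.surjective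
  have hDcyc : IsCyclic D := by
    have hinj : Function.Injective ((MulAut.conjNormal (H := Kb)).comp D.subtype) := by
      rw [injective_iff_map_eq_one]
      intro y hy
      by_contra hy1
      obtain ⟨w, hw, hw1⟩ := (Kb.bot_or_exists_ne_one).resolve_left hKbne
      have hmem : w ∈ Kb ⊓ Subgroup.centralizer {(y : G ⧸ H)} := by
        refine ⟨hw, mem_centralizer_singleton_iff.mpr ?_⟩
        have h1 : (y : G ⧸ H) * w * (y : G ⧸ H)⁻¹ = w := by
          have h2 : MulAut.conjNormal (H := Kb) (y : G ⧸ H) = 1 := hy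
          rw [← MulAut.conjNormal_apply (y : G ⧸ H) (⟨w, hw⟩ : Kb), h2]
          rfl
        exact (mul_inv_eq_iff_eq_mul.mp h1).symm
      rw [hfpfD _ y.2 (fun e => hy1 (Subtype.ext e)), mem_bot] at hmem
      exact hw1 hmem
    have : IsMulCommutative D := ⟨⟨fun x y => hinj (by
      rw [map_mul, map_mul]
      exact (CfsgLib.FusionPStable.mulAut_commute_of_isCyclic hKbcyc _ _).eq)⟩⟩
    exact CfsgLib.Frobenius.isCyclic_of_commutative_le hKD hKbne hfpfD le_rfl
  have hQcyc : IsCyclic (G ⧸ K) := by
    let g : D →* G ⧸ K := ((QuotientGroup.quotientQuotientEquivQuotient H K hle).toMonoidHom.comp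
      ((QuotientGroup.mk' (K.map π)).comp D.subtype))
    refine isCyclic_of_surjective g fun x => ?_
    obtain ⟨x, rfl⟩ := (QuotientGroup.quotientQuotientEquivQuotient H K hle).surjective x
    obtain ⟨x, rfl⟩ := QuotientGroup.mk'_surjective (K.map π) x
    obtain ⟨⟨k, d⟩, rfl⟩ := hKD.2 x
    refine ⟨d, ?_⟩
    show (QuotientGroup.quotientQuotientEquivQuotient H K hle)
        (QuotientGroup.mk' (K.map π) (d : G ⧸ H)) = _
    congr 1
    show QuotientGroup.mk' (K.map π) (d : G ⧸ H) = QuotientGroup.mk' (K.map π) ((k : G ⧸ H) * d)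
    rw [map_mul, show QuotientGroup.mk' (K.map π) (k : G ⧸ H) = 1 from
      (QuotientGroup.eq_one_iff _).mpr k.2, one_mul]
  have hHnil : Group.IsNilpotent H := by
    obtain ⟨N', hN', -, hnil⟩ := Cfsg.Agent.S0042.result C hC
    have : N' = N := SetLike.coe_injective (hN'.trans hCk)
    subst this
    exact Group.nilpotent_of_mulEquiv (subgroupOfEquivOfLe hle)
  have hsol : Group.IsSolvable G := by
    have hs : Group.IsSolvable (G ⧸ H) := by
      have h1 : Group.IsSolvable Kb := by have := hKbnil; infer_instance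
      have h2 : Group.IsSolvable ((G ⧸ H) ⧸ K.map π) := by
        have : Group.IsSolvable D := by
          let _ : CommGroup D := IsCyclic.commGroup
          exact Group.isSolvable_of_comm mul_comm
        exact Group.isSolvable_of_surjective (f := hKD.symm.QuotientMulEquiv.symm.toMonoidHom)
          hKD.symm.QuotientMulEquiv.symm.surjective
      exact Group.isSolvable_of_ker_le_range Kb.subtype (QuotientGroup.mk' (K.map π)) (by simp [hKb])
    have h1 : Group.IsSolvable H := by have := hHnil; infer_instance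
    exact Group.isSolvable_of_ker_le_range H.subtype π (by simp [hπ])
  refine ⟨hsol, hCc ▸ hodd, hCc ▸ hca.mul_right hcd, hQcyc, ?_⟩
  rw [← hCc]
  -- no edge across
  have hno : ∀ p q : ℕ, p.Prime → q.Prime → p ∣ Nat.card C → ¬ q ∣ Nat.card C →
      ¬ ∃ g : G, orderOf g = p * q := by
    rintro p q hp hq hpc hqc ⟨g, hg⟩
    set x := g ^ q with hxdef
    set y := g ^ p with hydef
    have hx : orderOf x = p := by
      rw [hxdef, orderOf_pow_of_dvd hq.ne_zero (hg ▸ dvd_mul_left q p), hg, Nat.mul_div_cancel _ hq.pos]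
    have hy : orderOf y = q := by
      rw [hydef, orderOf_pow_of_dvd hp.ne_zero (hg ▸ dvd_mul_right p q), hg, Nat.mul_div_cancel_left _ hp.pos]
    have hxy : Commute y x := Commute.pow_pow (Commute.refl g) p q
    have hxK : x ∈ K := by
      rw [← QuotientGroup.eq_one_iff, ← orderOf_eq_one_iff, ← Nat.dvd_one,
        ← (hcd.coprime_dvd_left hpc)]
      exact Nat.dvd_gcd (hx ▸ orderOf_map_dvd (QuotientGroup.mk' K) x) (orderOf_dvd_natCard _)
    have hxH : x ∉ H := fun h => hp.not_dvd_one (by
      rw [← hca.coprime_dvd_left hpc]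
      exact Nat.dvd_gcd dvd_rfl (hx ▸ H.orderOf_dvd_natCard h))
    have hx1 : π x ≠ 1 := fun h => hxH ((QuotientGroup.eq_one_iff x).mp h)
    have hyKb : π y ∈ Kb := mem_kernel_of_commute hD hDk.symm (mem_map_of_mem π hxK) hx1 (hxy.map π)
    have hyH : y ∈ H := by
      rw [← QuotientGroup.eq_one_iff, ← orderOf_eq_one_iff, ← Nat.dvd_one,
        ← ((hq.coprime_iff_not_dvd).mpr hqc)]
      exact Nat.dvd_gcd (hy ▸ orderOf_map_dvd π y) (hKbc ▸ Kb.orderOf_dvd_natCard hyKb)
    have hmemN : (⟨x, hxK⟩ : K) ∈ N := by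
      refine mem_kernel_of_commute hC hCk.symm (n := ⟨y, hle hyH⟩) (mem_subgroupOf.mpr hyH) ?_
        (Subtype.ext hxy.symm.eq)
      intro h
      rw [show y = 1 from congrArg Subtype.val h, orderOf_one] at hy
      exact hq.one_lt.ne hy
    exact hxH (mem_subgroupOf.mp hmemN)
  -- mixed edge
  have hmix : ∀ p q : ℕ, p.Prime → q.Prime → p ≠ q → p ∣ Nat.card H → q ∣ Nat.card (G ⧸ K) →
      ¬ q ∣ Nat.card H → ∃ g : G, orderOf g = p * q := by
    intro p q hp hq hpq hpH hqd hqH
    have := Fact.mk hp
    have := Fact.mk hq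
    obtain ⟨P⟩ := (inferInstance : Nonempty (Sylow p H))
    have hPn : (P : Subgroup H).Normal :=
      (Group.isNilpotent_of_finite_tfae.out 0 3 rfl rfl).mp hHnil p ⟨hp⟩ P
    have : (P : Subgroup H).Characteristic := Sylow.characteristic_of_normal P hPn
    set V := (P : Subgroup H).map H.subtype with hV
    have : V.Normal := inferInstance
    obtain ⟨r, hr, hrc⟩ := Nat.exists_prime_and_dvd (n := Nat.card C)
      (fun h => hC.1 (Subgroup.card_eq_one.mp h))
    have := Fact.mk hr
    obtain ⟨R⟩ := (inferInstance : Nonempty (Sylow r K))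
    set W := normalizer (((R : Subgroup K).map K.subtype : Subgroup G) : Set G) with hW
    have htop : W ⊔ K = ⊤ := Sylow.normalizer_sup_eq_top R
    set R' := (R : Subgroup K).map K.subtype with hR'
    have hqK : ¬ q ∣ Nat.card K := by
      rw [← N.card_mul_index, hHc, index_eq_card, ← hCc]
      intro h
      rcases hq.dvd_mul.mp h with h | h
      · exact hqH h
      · exact hq.not_dvd_one (by rw [← hcd]; exact Nat.dvd_gcd h hqd)
    have hqW : q ∣ Nat.card W := by
      have h1 : Nat.card G ∣ Nat.card K * Nat.card W := by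
        rw [← card_top (G := G), ← htop, sup_comm]
        exact CfsgLib.Solvable.card_sup_dvd_mul K W
      exact (hq.dvd_mul.mp ((hqd.trans (by
        rw [← index_eq_card]; exact K.index_dvd_card)).trans h1)).resolve_left hqK
    obtain ⟨⟨y, hyW⟩, hyo⟩ := exists_prime_orderOf_dvd_card' q hqW
    rw [← Subgroup.orderOf_coe] at hyo
    change orderOf y = q at hyo
    have hrH : ¬ r ∣ Nat.card H := fun h => hr.not_dvd_one (hca ▸ Nat.dvd_gcd hrc h)
    have hpr : p ≠ r := fun h => hrH (h ▸ hpH)
    have hVp : IsPGroup p V := P.2.map _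
    have hRp : IsPGroup r R' := R.2.map _
    have hVne : V ≠ ⊥ := by
      rw [Ne, map_eq_bot_iff_of_injective _ H.subtype_injective]
      exact P.ne_bot_of_dvd_card hpH
    have hrK : r ∣ Nat.card K := by
      rw [← N.card_mul_index, index_eq_card, ← hCc]; exact dvd_mul_of_dvd_right hrc _
    have hR1 : R' ≠ ⊥ := by
      rw [Ne, map_eq_bot_iff_of_injective _ K.subtype_injective]
      exact R.ne_bot_of_dvd_card hrK
    set U := V ⊔ R' with hU
    by_contra hnone
    have hycl : ∀ z ∈ zpowers y, z ≠ 1 → ∀ u ∈ U, Commute z u → u = 1 := by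
      intro z hz hz1 u hu hzu
      obtain ⟨v, hv, w, hw, rfl⟩ := Subgroup.mem_sup_of_normal_left.mp hu
      have hzo : orderOf z = q := by
        have h1 := (zpowers y).orderOf_dvd_natCard hz
        rw [Nat.card_zpowers, hyo] at h1
        exact ((Nat.dvd_prime hq).mp h1).resolve_left fun h => hz1 (orderOf_eq_one_iff.mp h)
      have hw1 : w = 1 := by
        by_contra hw1
        have hwK : w ∈ K := by obtain ⟨w', -, rfl⟩ := hw; exact w'.2
        have hwH : w ∉ H := fun h => by
          obtain ⟨i, hi⟩ := hRp ⟨w, hw⟩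
          have h1 : orderOf w ∣ 1 := by
            rw [← (hr.coprime_iff_not_dvd.mpr hrH).pow_left i]
            exact Nat.dvd_gcd (orderOf_dvd_of_pow_eq_one (congrArg Subtype.val hi))
              (H.orderOf_dvd_natCard h)
          exact hw1 (orderOf_eq_one_iff.mp (Nat.dvd_one.mp h1))
        have hvH : π v = 1 := by
          obtain ⟨v', -, rfl⟩ := hv
          exact (QuotientGroup.eq_one_iff _).mpr v'.2
        have hc : Commute (π z) (π w) := by
          have := hzu.map π
          rwa [map_mul, hvH, one_mul] at this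
        have hz' : π z ∈ Kb := mem_kernel_of_commute hD hDk.symm (mem_map_of_mem π hwK)
          (fun h => hwH ((QuotientGroup.eq_one_iff w).mp h)) hc
        obtain ⟨k, hk, hkz⟩ := hz'
        have hzK : z ∈ K := by
          have : k⁻¹ * z ∈ H := QuotientGroup.eq.mp hkz
          simpa using mul_mem hk (hle this)
        exact hqK (hzo ▸ K.orderOf_dvd_natCard hzK)
      subst hw1
      rw [mul_one] at hzu ⊢
      by_contra hv1
      obtain ⟨i, hi⟩ := hVp ⟨v, hv⟩
      obtain ⟨v', hv'⟩ : ∃ v', orderOf v' = p ∧ Commute z v' := by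
        obtain ⟨j, -, hj⟩ := (Nat.dvd_prime_pow hp).mp
          (orderOf_dvd_of_pow_eq_one (congrArg Subtype.val hi) : orderOf v ∣ p ^ i)
        have hdvd : p ∣ orderOf v := by
          rcases Nat.eq_zero_or_pos j with rfl | hjp
          · exact absurd (orderOf_eq_one_iff.mp (by simpa using hj)) hv1
          · rw [hj]; exact dvd_pow_self p hjp.ne'
        exact ⟨_, orderOf_pow_orderOf_div (orderOf_pos v).ne' hdvd, hzu.pow_right _⟩
      exact hnone (exists_orderOf_mul hp hq hpq hv'.1 hzo hv'.2.symm)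
    have hle' : W ≤ normalizer (V : Set G) ⊓ W :=
      le_inf (by rw [normalizer_eq_top_iff.mpr ‹V.Normal›]; exact le_top) le_rfl
    have hynU : y ∈ normalizer (U : Set G) := by
      have hy2 := Subgroup.mem_inf.mp (hle' hyW)
      exact Subgroup.normalizer_inf_normalizer_le_normalizer_sup V R' ⟨hy2.1, hy2.2⟩
    have hUnil := isNilpotent_of_fpf_element (U := U)
      (fun h => by rw [h, orderOf_one] at hyo; exact hq.one_lt.ne hyo) hynU hycl
    obtain ⟨v, hvo⟩ := exists_prime_orderOf_dvd_card' (G := V) p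
      (hVp.card_eq_or_dvd.resolve_left fun h => hVne (Subgroup.card_eq_one.mp h))
    obtain ⟨w, hwo⟩ := exists_prime_orderOf_dvd_card' (G := R') r
      (hRp.card_eq_or_dvd.resolve_left fun h => hR1 (Subgroup.card_eq_one.mp h))
    have hc := commute_of_nilpotent (G := U) hpr (x := Subgroup.inclusion le_sup_left v)
      (y := Subgroup.inclusion le_sup_right w)
      (by rw [orderOf_injective _ (Subgroup.inclusion_injective _), hvo])
      (by rw [orderOf_injective _ (Subgroup.inclusion_injective _), hwo])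
    refine hno r p hr hp hrc (fun h => hp.not_dvd_one (hca ▸ Nat.dvd_gcd h hpH)) ?_
    exact exists_orderOf_mul hr hp hpr.symm (x := (w : G)) (y := (v : G))
      (by rw [Subgroup.orderOf_coe, hwo]) (by rw [Subgroup.orderOf_coe, hvo])
      (congrArg Subtype.val hc.eq).symm
  intro p q hp hq hpq hpG hqG
  have := Fact.mk hp
  have := Fact.mk hq
  by_cases hpc : p ∣ Nat.card C <;> by_cases hqc : q ∣ Nat.card C <;> simp only [hpc, hqc, iff_self, iff_true, iff_false, not_true]
  · obtain ⟨a, ha⟩ := exists_orderOf_of_cyclic (A := C)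
      (((Nat.coprime_primes hp hq).mpr hpq).mul_dvd_of_dvd_of_dvd hpc hqc)
    exact ⟨((a : K) : G), by rw [Subgroup.orderOf_coe, Subgroup.orderOf_coe, ha]⟩
  · exact hno p q hp hq hpc hqc
  · rw [mul_comm]; exact hno q p hq hp hqc hpc
  · have hG : Nat.card G = Nat.card H * Nat.card C * Nat.card (G ⧸ K) := by
      have h1 := N.card_mul_index
      rw [hHc, index_eq_card, ← hCc] at h1
      rw [h1, ← index_eq_card, Subgroup.card_mul_index]
    have hsplit : ∀ r : ℕ, r.Prime → r ∣ Nat.card G → ¬ r ∣ Nat.card C →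
        r ∣ Nat.card H ∨ r ∣ Nat.card (G ⧸ K) := fun r hr h hc => by
      rw [hG] at h
      rcases hr.dvd_mul.mp h with h | h
      · exact Or.inl ((hr.dvd_mul.mp h).resolve_right hc)
      · exact Or.inr h
    by_cases hpH : p ∣ Nat.card H <;> by_cases hqH : q ∣ Nat.card H
    · obtain ⟨x, hx⟩ := exists_prime_orderOf_dvd_card' (G := H) p hpH
      obtain ⟨y, hy⟩ := exists_prime_orderOf_dvd_card' (G := H) q hqH
      have := hHnil
      exact exists_orderOf_mul hp hq hpq (x := (x : G)) (y := (y : G)) (by rw [Subgroup.orderOf_coe, hx])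
        (by rw [Subgroup.orderOf_coe, hy]) (congrArg Subtype.val (commute_of_nilpotent hpq hx hy).eq)
    · exact hmix p q hp hq hpq hpH ((hsplit q hq hqG hqc).resolve_left hqH) hqH
    · rw [mul_comm]; exact hmix q p hq hp hpq.symm hqH ((hsplit p hp hpG hpc).resolve_left hpH) hpH
    · have := hQcyc
      obtain ⟨a, ha⟩ := exists_orderOf_of_cyclic (A := G ⧸ K)
        (((Nat.coprime_primes hp hq).mpr hpq).mul_dvd_of_dvd_of_dvd
          ((hsplit p hp hpG hpc).resolve_left hpH) ((hsplit q hq hqG hqc).resolve_left hqH))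
      exact exists_orderOf_of_image _ (QuotientGroup.mk'_surjective K) ha

end Cfsg.Agent.S4001
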