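import Cfsg.Statements.S4002
import Mathlib
import Cfsg.Agent.Lib.Counting.ThreePrimes

set_option autoImplicit false
open Cfsg

namespace Cfsg.Agent.S4002

theorem exists_three_primes {n : ℕ} (hn : 7 ≤ n) : ∃ p q r : ℕ, p.Prime ∧ q.Prime ∧ r.Prime ∧
    p < q ∧ q < r ∧ r ≤ n ∧ n < p * q := by
  rcases Nat.lt_or_ge n 15 with h | h
  · exact ⟨3, 5, 7, by norm_num, by norm_num, by norm_num, by norm_num, by norm_num, hn, by omega⟩
  rcases Nat.lt_or_ge n 35 with h' | h'
  · exact ⟨5, 7, 11, by norm_num, by norm_num, by norm_num, by norm_num, by norm_num, by omega,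
      by omega⟩
  obtain ⟨r, hr, hr1, hr2⟩ := Nat.exists_prime_lt_and_le_two_mul (n / 2) (by omega)
  obtain ⟨q, hq, hq1, hq2⟩ := Nat.exists_prime_lt_and_le_two_mul (n / 4) (by omega)
  obtain ⟨p, hp, hp1, hp2⟩ := Nat.exists_prime_lt_and_le_two_mul (n / 8) (by omega)
  refine ⟨p, q, r, hp, hq, hr, by omega, by omega, by omega, ?_⟩
  have h8 : n < 8 * p := by omega
  have h4 : n < 4 * q := by omega
  nlinarith


/-- If the set of element orders of a finite group G is {1, 2, …, n} with n ≥ 7, then G is not solvable. -/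
theorem result {G : Type*} [Group G] [Finite G] (n : ℕ) (hn : 7 ≤ n) (h : Set.range (orderOf : G → ℕ) = {k : ℕ | 1 ≤ k ∧ k ≤ n}) : ¬ Group.IsSolvable G := by
  intro hsol
  obtain ⟨p, q, r, hp, hq, hr, hpq, hqr, hrn, hbig⟩ := exists_three_primes hn
  have hdvd : ∀ a : ℕ, a.Prime → a ≤ n → a ∣ Nat.card G := by
    intro a ha han
    obtain ⟨g, hg⟩ : a ∈ Set.range (orderOf : G → ℕ) := h ▸ ⟨ha.pos, han⟩
    exact hg ▸ orderOf_dvd_natCard g
  obtain ⟨g, hg⟩ := CfsgLib.ThreePrimes.exists_adjacent (G := G) hp hq hr hpq.ne (hpq.trans hqr).ne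
    hqr.ne (hdvd p hp (by omega)) (hdvd q hq (by omega)) (hdvd r hr hrn)
  have hmem : orderOf g ∈ Set.range (orderOf : G → ℕ) := Set.mem_range_self g
  rw [h] at hmem
  obtain ⟨-, hle⟩ := hmem
  have h1 : p * q ≤ p * r := Nat.mul_le_mul_left p hqr.le
  have h2 : p * r ≤ q * r := Nat.mul_le_mul_right r hpq.le
  rcases hg with hg | hg | hg <;> omega

end Cfsg.Agent.S4002
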