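import Cfsg.Statements.S4003
import Cfsg.Agent.Lib.Counting.Kulakoff

set_option autoImplicit false
open Cfsg

namespace Cfsg.Agent.S4003

theorem dvd_sum_class {G : Type*} [Group G] [Fintype G] (d : ℕ) (f : G → ℕ)
    (hf : ∀ g y : G, f (g * y * g⁻¹) = f y)
    (hdiv : ∀ y : G, d ∣ (Subgroup.centralizer ({y} : Set G)).index * f y) : d ∣ ∑ y, f y := by
  classical
  rw [← Finset.sum_fiberwise Finset.univ ConjClasses.mk f]
  refine Finset.dvd_sum fun c _ => ?_
  obtain ⟨a, rfl⟩ := ConjClasses.mk_surjective c
  have hfib : ∀ y ∈ Finset.univ.filter (fun y : G => ConjClasses.mk y = ConjClasses.mk a), f y = f a := by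
    intro y hy
    have h := (Finset.mem_filter.mp hy).2
    obtain ⟨g, hg⟩ := isConj_iff.mp (ConjClasses.mk_eq_mk_iff_isConj.mp h)
    rw [← hf g y, hg]
  rw [Finset.sum_congr rfl hfib, Finset.sum_const, smul_eq_mul]
  have hcard : (Finset.univ.filter (fun y : G => ConjClasses.mk y = ConjClasses.mk a)).card =
      (Subgroup.centralizer ({a} : Set G)).index := by
    have h1 : (ConjClasses.mk a).carrier.ncard = (Subgroup.centralizer ({a} : Set G)).index := by
      rw [← ConjAct.orbit_eq_carrier_conjClasses, ← MulAction.index_stabilizer,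
        ConjAct.stabilizer_eq_centralizer]
      rfl
    rw [← h1, Set.ncard_eq_toFinset_card']
    congr 1
    ext y
    simp [ConjClasses.carrier_eq_preimage_mk]
  rw [hcard]
  exact hdiv a

/-- Let G be a finite group, p an odd prime dividing the order of G whose Sylow p-subgroups are not cyclic, and n = p^s·m with s > 1 and m coprime to p. Then the number of elements of G of order n is a multiple of p^s. -/
theorem result {G : Type*} [Group G] [Finite G] (p : ℕ) [Fact p.Prime] (hodd : p ≠ 2) (hpG : p ∣ Nat.card G)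
    (P : Sylow p G) (hP : ¬ IsCyclic ↥(P : Subgroup G)) (s m : ℕ) (hs : 1 < s) (hm : Nat.Coprime p m) :
    p ^ s ∣ Nat.card {g : G // orderOf g = p ^ s * m} := by
  classical
  have := Fintype.ofFinite G
  have hp : p.Prime := Fact.out
  have hcop : Nat.Coprime m (p ^ s) := hm.symm.pow_right s
  let S := Σ y : {y : G // orderOf y = m},
    {x : Subgroup.centralizer ({y.1} : Set G) // orderOf x = p ^ s}
  have hmk : ∀ t : S, orderOf (t.1.1 * (t.2.1 : G)) = p ^ s * m := fun t => by
    have hc : Commute t.1.1 (t.2.1 : G) :=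
      (Subgroup.mem_centralizer_singleton_iff.mp t.2.1.2).symm
    rw [hc.orderOf_mul_eq_mul_orderOf_of_coprime (by rw [t.1.2, Subgroup.orderOf_coe, t.2.2]; exact hcop),
      t.1.2, Subgroup.orderOf_coe, t.2.2, mul_comm]
  let e := CfsgLib.Counting.splitEquiv (G := G) m (p ^ s) hcop
  have hbij : Function.Bijective (fun t : S => (⟨t.1.1 * (t.2.1 : G), hmk t⟩ :
      {g : G // orderOf g = p ^ s * m})) := by
    constructor
    · rintro ⟨⟨y, hy⟩, ⟨x, hx⟩⟩ ⟨⟨y', hy'⟩, ⟨x', hx'⟩⟩ h
      have h1 : y * (x : G) = y' * (x' : G) := congrArg Subtype.val h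
      let a : Σ z : {z : G // z ^ m = 1}, {w : Subgroup.centralizer ({z.1} : Set G) // w ^ p ^ s = 1} :=
        ⟨⟨y, hy ▸ pow_orderOf_eq_one y⟩, ⟨x, hx ▸ pow_orderOf_eq_one x⟩⟩
      let b : Σ z : {z : G // z ^ m = 1}, {w : Subgroup.centralizer ({z.1} : Set G) // w ^ p ^ s = 1} :=
        ⟨⟨y', hy' ▸ pow_orderOf_eq_one y'⟩, ⟨x', hx' ▸ pow_orderOf_eq_one x'⟩⟩
      have h2 : a = b := e.symm.injective (Subtype.ext h1)
      have h3 : y = y' := congrArg (fun z => z.1.1) h2
      subst h3
      have h4 : (x : G) = x' := mul_left_cancel h1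
      have h5 : x = x' := Subtype.ext h4
      subst h5
      rfl
    · rintro ⟨g, hg⟩
      set t := e ⟨g, by rw [mul_comm, ← hg]; exact pow_orderOf_eq_one g⟩ with ht
      have hgt : t.1.1 * (t.2.1 : G) = g :=
        CfsgLib.Counting.splitEquiv_fst_mul m (p ^ s) hcop _
      have hd1 : orderOf t.1.1 ∣ m := orderOf_dvd_of_pow_eq_one t.1.2
      have hd2 : orderOf t.2.1 ∣ p ^ s := orderOf_dvd_of_pow_eq_one t.2.2
      have hc : Commute t.1.1 (t.2.1 : G) :=
        (Subgroup.mem_centralizer_singleton_iff.mp t.2.1.2).symm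
      have hprod : orderOf t.1.1 * orderOf t.2.1 = m * p ^ s := by
        rw [← Subgroup.orderOf_coe t.2.1, ← hc.orderOf_mul_eq_mul_orderOf_of_coprime
          (by rw [Subgroup.orderOf_coe]; exact (hcop.coprime_dvd_left hd1).coprime_dvd_right hd2),
          hgt, hg, mul_comm]
      have e2 : orderOf t.2.1 = p ^ s := Nat.dvd_antisymm hd2 <| by
        refine (hcop.symm.coprime_dvd_right hd1).dvd_of_dvd_mul_left ?_
        rw [hprod]; exact dvd_mul_left _ _
      have e1 : orderOf t.1.1 = m := by
        rw [e2] at hprod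
        exact Nat.eq_of_mul_eq_mul_right (pow_pos hp.pos s) hprod
      exact ⟨⟨⟨t.1.1, e1⟩, ⟨t.2.1, e2⟩⟩, Subtype.ext hgt⟩
  rw [← Nat.card_congr (Equiv.ofBijective _ hbij), Nat.card_sigma]
  set N : G → ℕ := fun y =>
    Nat.card {x : Subgroup.centralizer ({y} : Set G) // orderOf x = p ^ s} with hN
  have hsum : (∑ y : {y : G // orderOf y = m}, N y.1) = ∑ y : G, if orderOf y = m then N y else 0 := by
    rw [← Finset.sum_filter]
    exact (Finset.sum_subtype (Finset.univ.filter fun y : G => orderOf y = m) (by simp) N).symm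
  rw [hsum]
  refine dvd_sum_class _ _ (fun g y => ?_) fun y => ?_
  · have h1 : orderOf (g * y * g⁻¹) = orderOf y := (MulAut.conj g).orderOf_eq y
    rw [h1]
    refine if_congr Iff.rfl ?_ rfl
    let f : Subgroup.centralizer ({g * y * g⁻¹} : Set G) ≃* Subgroup.centralizer ({y} : Set G) :=
      { toFun := fun x => ⟨g⁻¹ * x * g, Subgroup.mem_centralizer_singleton_iff.mpr (by
          have := Subgroup.mem_centralizer_singleton_iff.mp x.2
          calc g⁻¹ * (x : G) * g * y = g⁻¹ * ((x : G) * (g * y * g⁻¹)) * g := by group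
            _ = g⁻¹ * (g * y * g⁻¹ * x) * g := by rw [this]
            _ = y * (g⁻¹ * x * g) := by group)⟩
        invFun := fun x => ⟨g * x * g⁻¹, Subgroup.mem_centralizer_singleton_iff.mpr (by
          have := Subgroup.mem_centralizer_singleton_iff.mp x.2
          calc g * (x : G) * g⁻¹ * (g * y * g⁻¹) = g * ((x : G) * y) * g⁻¹ := by group
            _ = g * (y * x) * g⁻¹ := by rw [this]
            _ = g * y * g⁻¹ * (g * x * g⁻¹) := by group)⟩
        left_inv := fun x => Subtype.ext (show g * (g⁻¹ * (x : G) * g) * g⁻¹ = x by group)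
        right_inv := fun x => Subtype.ext (show g⁻¹ * (g * (x : G) * g⁻¹) * g = x by group)
        map_mul' := fun x z => Subtype.ext (show g⁻¹ * ((x : G) * z) * g =
          g⁻¹ * x * g * (g⁻¹ * z * g) by group) }
    exact Nat.card_congr (Equiv.subtypeEquiv f.toEquiv fun x => by
      rw [MulEquiv.toEquiv_eq_coe, MulEquiv.coe_toEquiv, f.orderOf_eq])
  · split_ifs
    swap
    · rw [mul_zero]; exact dvd_zero _
    obtain ⟨Q⟩ : Nonempty (Sylow p (Subgroup.centralizer ({y} : Set G))) := inferInstance
    by_cases hQ : IsCyclic (Q : Subgroup (Subgroup.centralizer ({y} : Set G)))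
    · have h1 : p ^ (s - 1) ∣ N y := (dvd_mul_right _ (p - 1)).trans
        ((dvd_of_eq (Nat.totient_prime_pow hp (by omega)).symm).trans
          (CfsgLib.Counting.totient_dvd_card_orderOf _))
      have h2 : p ∣ (Subgroup.centralizer ({y} : Set G)).index := by
        by_contra h2
        have hQp := Q.2.map (Subgroup.centralizer ({y} : Set G)).subtype
        obtain ⟨R, hR⟩ := hQp.exists_le_sylow
        refine hP ?_
        have heq : (Q : Subgroup _).map (Subgroup.centralizer ({y} : Set G)).subtype = R := by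
          refine Subgroup.eq_of_le_of_card_ge hR (le_of_eq ?_)
          rw [Subgroup.card_map_of_injective (Subgroup.subtype_injective _), R.card_eq_multiplicity,
            Q.card_eq_multiplicity, ← Subgroup.card_mul_index (Subgroup.centralizer ({y} : Set G)),
            Nat.factorization_mul Nat.card_pos.ne' Subgroup.index_ne_zero_of_finite, Finsupp.add_apply,
            Nat.factorization_eq_zero_of_not_dvd h2, add_zero]
        have hRc : IsCyclic (R : Subgroup G) := by
          rw [← heq]
          exact isCyclic_of_surjective (Subgroup.equivMapOfInjective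
            (Q : Subgroup (Subgroup.centralizer ({y} : Set G))) (Subgroup.centralizer ({y} : Set G)).subtype
            (Subgroup.subtype_injective _)).toMonoidHom (MulEquiv.surjective _)
        exact isCyclic_of_surjective (R.equiv P).toMonoidHom (MulEquiv.surjective _)
      calc p ^ s = p * p ^ (s - 1) := by rw [← pow_succ']; congr 1; omega
        _ ∣ _ := Nat.mul_dvd_mul h2 h1
    · exact dvd_mul_of_dvd_right (CfsgLib.Counting.dvd_card_orderOf_of_noncyclic hodd Q hQ hs) _

end Cfsg.Agent.S4003
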