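import Cfsg.Statements.S4004
import Cfsg.Agent.Lib.Counting.OrderValues
import Cfsg.Agent.Lib.Hughes.Kegel
import Cfsg.Agent.Lib.Solvable.Core
import Cfsg.Agent.Lib.Frobenius.Fpf
import Mathlib

set_option autoImplicit false
open Cfsg
open CfsgLib.OrderValues
open Subgroup
open scoped IsMulCommutative

namespace Cfsg.Agent.S4004

universe u

theorem sylow_pow {G : Type u} [Group G] [Finite G] {r : ℕ} [Fact r.Prime]
    (hsq : ∀ g : G, ¬ r ^ 2 ∣ orderOf g) {H : Subgroup G} (hH : IsPGroup r H) :
    ∀ x ∈ H, x ^ r = 1 := by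
  intro x hx
  obtain ⟨k, hk⟩ := IsPGroup.iff_orderOf.mp hH ⟨x, hx⟩
  rw [Subgroup.orderOf_mk] at hk
  rcases Nat.lt_or_ge k 2 with h | h
  · exact orderOf_dvd_iff_pow_eq_one.mp
      ((dvd_of_eq hk).trans ((pow_dvd_pow r (Nat.lt_succ_iff.mp h)).trans (pow_one r).dvd))
  · exact absurd ((pow_dvd_pow r h).trans (dvd_of_eq hk.symm)) (hsq x)

/-- All orders in `{1, r, s}` and a nontrivial normal `r`-subgroup: a Frobenius group with
complement of prime order. -/
theorem frobenius {G : Type u} [Group G] [Finite G] {r s : ℕ} (hr : r.Prime) (hs : s.Prime)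
    (hrs : r ≠ s) (hrG : r ∣ Nat.card G) (hsG : s ∣ Nat.card G)
    (hord : ∀ g : G, g ≠ 1 → orderOf g = r ∨ orderOf g = s) (hP1 : Cfsg.pCore r G ≠ ⊥) :
    ∃ C : Subgroup G, Cfsg.IsFrobeniusComplement C ∧ (Nat.card C).Prime := by
  have := Fact.mk hr
  have := Fact.mk hs
  have hsq : ∀ {t : ℕ}, t.Prime → ∀ g : G, ¬ t ^ 2 ∣ orderOf g := by
    intro t ht g hd
    rcases eq_or_ne g 1 with rfl | hg
    · rw [orderOf_one] at hd
      exact ht.not_dvd_one ((dvd_pow_self t two_ne_zero).trans hd)
    · obtain ⟨q, hq, hqg⟩ : ∃ q : ℕ, q.Prime ∧ orderOf g = q :=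
        (hord g hg).elim (fun e => ⟨r, hr, e⟩) fun e => ⟨s, hs, e⟩
      rw [hqg] at hd
      obtain rfl : t = q := (Nat.prime_dvd_prime_iff_eq ht hq).mp ((dvd_pow_self t two_ne_zero).trans hd)
      exact absurd (Nat.le_of_dvd ht.pos hd) (not_le.mpr (lt_self_pow₀ ht.one_lt (by norm_num)))
  have hno : ∀ x y : G, orderOf x = r → orderOf y = s → ¬ Commute x y := by
    intro x y hx hy hc
    have h1 := orderOf_mul_of_commute ((Nat.coprime_primes hr hs).mpr hrs) hx hy hc
    have h2 := hr.two_le
    have h3 := hs.two_le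
    have hne : x * y ≠ 1 := fun e => by rw [e, orderOf_one] at h1; nlinarith
    rcases hord _ hne with e | e <;> rw [e] at h1
    · have := Nat.mul_le_mul_left r h3; omega
    · have := Nat.mul_le_mul_right s h2; omega
  set P := Cfsg.pCore r G with hP
  have hPn : P.Normal := CfsgLib.Solvable.pCore_normal r G
  have hPp := CfsgLib.Solvable.pCore_isPGroup r G
  set W := (Subgroup.center P).map P.subtype with hW
  have hWn : W.Normal := inferInstance
  have hWle : W ≤ P := map_subtype_le _
  have hWne : W ≠ ⊥ := by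
    rw [Ne, map_eq_bot_iff_of_injective _ P.subtype_injective]
    have : Nontrivial P := (nontrivial_iff_ne_bot P).mpr hP1
    have := hPp.center_nontrivial
    exact (nontrivial_iff_ne_bot _).mp inferInstance
  have hWc : IsMulCommutative W := ⟨⟨by
    rintro ⟨_, a, ha, rfl⟩ ⟨_, b, hb, rfl⟩
    exact Subtype.ext (congrArg Subtype.val (mem_center_iff.mp hb a) : (a : G) * b = b * a)⟩⟩
  have hWr : ∀ w ∈ W, w ^ r = 1 := fun w hw => sylow_pow (hsq hr) hPp w (hWle hw)
  have hfix : ∀ a : G, orderOf a = s → ∀ w ∈ W, Commute a w → w = 1 := fun a ha w hw hc =>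
    by_contra fun hw1 => hno w a (orderOf_eq_prime (hWr w hw) hw1) ha hc.symm
  obtain ⟨S⟩ := (inferInstance : Nonempty (Sylow s G))
  have hSs := sylow_pow (hsq hs) S.2
  have hSc : Nat.card (S : Subgroup G) = s := by
    obtain ⟨j, hj⟩ := IsPGroup.iff_card.mp S.2
    have hj0 : j ≠ 0 := fun e => by
      rw [e, pow_zero] at hj
      have := S.dvd_card_of_dvd_card hsG
      rw [hj] at this
      exact hs.not_dvd_one this
    by_contra hne
    have hj2 : 2 ≤ j := by
      by_contra h
      exact hne (by rw [hj, show j = 1 by omega, pow_one])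
    obtain ⟨A, hA⟩ := Sylow.exists_subgroup_card_pow_prime (G := (S : Subgroup G)) s (n := 2)
      (by rw [hj]; exact pow_dvd_pow s hj2)
    refine hWne (CfsgLib.Frobenius.eq_bot_of_elementary_fpf (A := A.map (S : Subgroup G).subtype)
      (by rw [normalizer_eq_top_iff.mpr hWn]; exact le_top) (fun a ha ha1 => ?_) hs
      (by rw [card_map_of_injective (subtype_injective _), hA])
      fun a ha => hSs a (map_subtype_le A ha))
    rw [eq_bot_iff]
    intro w hw'
    obtain ⟨hw, hwc⟩ := Subgroup.mem_inf.mp hw'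
    exact mem_bot.mpr (hfix a (orderOf_eq_prime (hSs a (map_subtype_le A ha)) ha1) w hw
      (mem_centralizer_singleton_iff.mp hwc).symm)
  obtain ⟨k, hk⟩ := IsPGroup.iff_card.mp hPp
  by_cases hrQ : r ∣ Nat.card (G ⧸ P)
  · exfalso
    set π := QuotientGroup.mk' P with hπ
    have hsQ : s ∣ Nat.card (G ⧸ P) := by
      have h1 := hsG
      rw [Subgroup.card_eq_card_quotient_mul_card_subgroup P, hk] at h1
      exact (hs.dvd_mul.mp h1).resolve_right fun h =>
        hrs.symm ((Nat.prime_dvd_prime_iff_eq hs hr).mp (hs.dvd_of_dvd_pow h))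
    have hordQ : ∀ x : G ⧸ P, x ≠ 1 → orderOf x = r ∨ orderOf x = s := by
      intro x hx
      obtain ⟨g, rfl⟩ := QuotientGroup.mk'_surjective P x
      have hg : g ≠ 1 := fun e => hx (by rw [e, map_one])
      have hd := orderOf_map_dvd π g
      have h1 : orderOf (π g) ≠ 1 := fun e => hx (orderOf_eq_one_iff.mp e)
      rcases hord g hg with e | e <;> rw [e] at hd
      · exact Or.inl (((Nat.dvd_prime hr).mp hd).resolve_left h1)
      · exact Or.inr (((Nat.dvd_prime hs).mp hd).resolve_left h1)
    have hQsol : Group.IsSolvable (G ⧸ P) := by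
      refine isSolvable_of_two_primes (le_trans (Finset.card_le_card (t := {r, s}) fun p hp => ?_)
        Finset.card_le_two)
      rw [Nat.mem_primeFactors] at hp
      have := Fact.mk hp.1
      obtain ⟨x, hx⟩ := exists_prime_orderOf_dvd_card' (G := G ⧸ P) p hp.2.1
      rcases hordQ x (fun e => by rw [e, orderOf_one] at hx; exact hp.1.one_lt.ne hx) with e | e <;>
        simp [← hx, e]
    have : Nontrivial (G ⧸ P) := Finite.one_lt_card_iff_nontrivial.mp
      (lt_of_lt_of_le hr.one_lt (Nat.le_of_dvd Nat.card_pos hrQ))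
    obtain ⟨Z, hZn, hZ1, -, hZmin⟩ :=
      CfsgLib.Solvable.exists_minimal_normal_le (⊤ : Subgroup (G ⧸ P)) top_ne_bot
    obtain ⟨hZab, p, hp, hZp⟩ := CfsgLib.Solvable.minimal_normal_elementary_abelian Z hZ1 hZmin
    have := Fact.mk hp
    have hZpg : IsPGroup p Z := fun x => ⟨1, Subtype.ext (by simpa using hZp x x.2)⟩
    obtain ⟨z, hz, hz1⟩ := (Z.bot_or_exists_ne_one).resolve_left hZ1
    have hzo := orderOf_eq_prime (hZp z hz) hz1
    obtain rfl : p = s := by
      rcases hordQ z hz1 with e | e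
      · obtain rfl : p = r := hzo.symm.trans e
        exact absurd ((CfsgLib.Solvable.pCore_eq_bot_iff).mp
          (CfsgLib.Solvable.pCore_quotient_eq_bot P rfl) Z hZn hZpg) hZ1
      · exact hzo.symm.trans e
    have hZc : Nat.card Z = p := by
      refine le_antisymm ?_ ?_
      · let TQ : Sylow p (G ⧸ P) := S.mapSurjective (f := π) (QuotientGroup.mk'_surjective P)
        refine (card_le_of_le (hZpg.le_sylow_of_normal TQ)).trans ?_
        exact (Nat.le_of_dvd Nat.card_pos (Subgroup.card_map_dvd (H := (S : Subgroup G)) π)).trans hSc.le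
      · calc p = Nat.card (zpowers z) := by rw [Nat.card_zpowers, hzo]
          _ ≤ _ := card_le_of_le (zpowers_le.mpr hz)
    -- the action of `G/P` on `W`
    have hker : P ≤ (MulAut.conjNormal (H := W)).ker := by
      intro g hg
      rw [MonoidHom.mem_ker]
      refine MulEquiv.ext fun w => Subtype.ext ?_
      rw [MulAut.conjNormal_apply]
      obtain ⟨_, a, ha, rfl⟩ := w
      exact mul_inv_eq_iff_eq_mul.mpr (congrArg Subtype.val (mem_center_iff.mp ha ⟨g, hg⟩))
    let α : G ⧸ P →* MulAut W := QuotientGroup.lift P MulAut.conjNormal hker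
    have hα : ∀ g : G, α (π g) = MulAut.conjNormal g := fun g => rfl
    let _ : Fintype Z := Fintype.ofFinite _
    have hNZ : ∀ u : W, ∏ x : Z, α (x : G ⧸ P) u = 1 := by
      intro u
      set T := ∏ x : Z, α (x : G ⧸ P) u with hT
      have hfixT : α z T = T := by
        rw [hT, map_prod]
        refine Fintype.prod_equiv (Equiv.mulLeft (⟨z, hz⟩ : Z)) _ _ fun x => ?_
        show α z (α (x : G ⧸ P) u) = α (z * (x : G ⧸ P)) u
        rw [map_mul, MulAut.mul_apply]
      obtain ⟨g, rfl⟩ := QuotientGroup.mk'_surjective P z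
      have hg : orderOf g = p := by
        have h1 := orderOf_map_dvd π g
        rw [hzo] at h1
        rcases hord g (fun e => hz1 (by rw [e, map_one])) with e | e
        · rw [e] at h1
          exact absurd ((Nat.prime_dvd_prime_iff_eq hs hr).mp h1) hrs.symm
        · exact e
      refine Subtype.ext (hfix g hg T T.2 (mul_inv_eq_iff_eq_mul.mp ?_))
      have h2 := congrArg Subtype.val hfixT
      rwa [hα, MulAut.conjNormal_apply] at h2
    have hnorm : ∀ (x : G ⧸ P), orderOf x = r → ∀ u : W,
        ∏ i ∈ Finset.range r, α (x ^ i) u = 1 := by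
      intro x hx u
      obtain ⟨g, rfl⟩ := QuotientGroup.mk'_surjective P x
      have hlift : ∀ y : G, π y = π g → y ^ r = 1 := by
        intro y hy
        have hy1 : y ≠ 1 := fun e => by rw [← hy, e, map_one, orderOf_one] at hx; exact hr.one_lt.ne hx
        refine orderOf_dvd_iff_pow_eq_one.mp (dvd_of_eq ((hord y hy1).resolve_right fun e => ?_))
        have h1 := orderOf_map_dvd π y
        rw [hy, hx, e] at h1
        exact hrs ((Nat.prime_dvd_prime_iff_eq hr hs).mp h1)
      have h2 := CfsgLib.Hughes.mul_pow_eq_prod u g r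
      rw [hlift _ (by rw [map_mul, show π (u : G) = 1 from (QuotientGroup.eq_one_iff _).mpr (hWle u.2),
        one_mul]), hlift g rfl, mul_one] at h2
      refine Subtype.ext ?_
      rw [Subgroup.coe_one, h2]
      refine congrArg Subtype.val (Finset.prod_congr rfl fun i _ => ?_)
      rw [← map_pow, hα]
    obtain ⟨τ, hτ⟩ := exists_prime_orderOf_dvd_card' (G := G ⧸ P) r hrQ
    have hterm : ∀ i ∈ Finset.range r, i ≠ 0 → ∀ u : W,
        ∏ x : Z, α ((x : G ⧸ P) * τ ^ i * (x : G ⧸ P)⁻¹) u = 1 := by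
      intro i hi hi0 u
      rw [Finset.mem_range] at hi
      have hio : orderOf (τ ^ i) = r := by
        rw [Nat.Coprime.orderOf_pow (by
          rw [hτ]; exact hr.coprime_iff_not_dvd.mpr fun h => by
            have := Nat.le_of_dvd (by omega) h; omega), hτ]
      set t := τ ^ i
      let φ : Z → Z := fun x => ⟨(x : G ⧸ P) * t * (x : G ⧸ P)⁻¹ * t⁻¹, by
        rw [show (x : G ⧸ P) * t * (x : G ⧸ P)⁻¹ * t⁻¹ = x * (t * (x : G ⧸ P)⁻¹ * t⁻¹) by group]
        exact mul_mem x.2 (hZn.conj_mem _ (inv_mem x.2) t)⟩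
      have hφ : Function.Injective φ := by
        intro x y hxy
        have h1 := congrArg Subtype.val hxy
        simp only [φ] at h1
        have h2 : ((y : G ⧸ P)⁻¹ * x) * t = t * ((y : G ⧸ P)⁻¹ * x) := by
          have h3 : (x : G ⧸ P) * t * (x : G ⧸ P)⁻¹ = y * t * (y : G ⧸ P)⁻¹ := mul_right_cancel h1
          calc ((y : G ⧸ P)⁻¹ * x) * t = (y : G ⧸ P)⁻¹ * ((x : G ⧸ P) * t * (x : G ⧸ P)⁻¹) * x := by group
            _ = t * ((y : G ⧸ P)⁻¹ * x) := by rw [h3]; group
        by_contra hne
        have hw1 : (y : G ⧸ P)⁻¹ * x ≠ 1 := fun e => hne (Subtype.ext (inv_mul_eq_one.mp e).symm)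
        have hwo : orderOf ((y : G ⧸ P)⁻¹ * x) = p :=
          orderOf_eq_prime (hZp _ (mul_mem (inv_mem y.2) x.2)) hw1
        have h4 := orderOf_mul_of_commute ((Nat.coprime_primes hr hs).mpr hrs) hio hwo
          (show Commute t _ from h2.symm)
        have h5 := hr.two_le
        have h6 := hs.two_le
        rcases hordQ _ (fun e : t * ((y : G ⧸ P)⁻¹ * x) = 1 => by rw [e, orderOf_one] at h4; nlinarith) with e | e <;>
          rw [e] at h4
        · have := Nat.mul_le_mul_left r h6; omega
        · have := Nat.mul_le_mul_right p h5; omega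
      have hbij : Function.Bijective φ := (Finite.injective_iff_bijective).mp hφ
      rw [← hNZ (α t u)]
      refine Fintype.prod_bijective φ hbij _ _ fun x => ?_
      rw [← MulAut.mul_apply, ← map_mul]
      simp only [φ]
      rw [inv_mul_cancel_right]
    obtain ⟨w, hw, hw1⟩ := (W.bot_or_exists_ne_one).resolve_left hWne
    set u : W := ⟨w, hw⟩
    have hall : ∏ i ∈ Finset.range r, ∏ x : Z, α ((x : G ⧸ P) * τ ^ i * (x : G ⧸ P)⁻¹) u = 1 := by
      rw [Finset.prod_comm]
      refine Finset.prod_eq_one fun x _ => ?_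
      rw [← hnorm ((x : G ⧸ P) * τ * (x : G ⧸ P)⁻¹) (((MulAut.conj (x : G ⧸ P)).orderOf_eq τ).trans hτ) u]
      exact Finset.prod_congr rfl fun i _ => by rw [conj_pow]
    rw [Finset.prod_eq_single_of_mem 0 (Finset.mem_range.mpr hr.pos) fun i hi hi0 => hterm i hi hi0 u] at hall
    simp only [pow_zero, mul_one, mul_inv_cancel, map_one, MulAut.one_apply, Finset.prod_const,
      Finset.card_univ, ← Nat.card_eq_fintype_card, hZc] at hall
    have h5 : w ^ p = 1 := congrArg Subtype.val hall
    have h6 : orderOf w ∣ 1 := by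
      rw [← (Nat.coprime_primes hr hs).mpr hrs]
      exact Nat.dvd_gcd (orderOf_dvd_of_pow_eq_one (hWr w hw)) (orderOf_dvd_of_pow_eq_one h5)
    exact hw1 (orderOf_eq_one_iff.mp (Nat.dvd_one.mp h6))
  · -- `P` is the Sylow `r`-subgroup
    have hQ : Nat.card (G ⧸ P) = s := by
      have hj : ∃ j, Nat.card (G ⧸ P) = s ^ j := ⟨_, Nat.eq_prime_pow_of_unique_prime_dvd Nat.card_pos.ne'
        fun {d} hd hdd => by
          have := Fact.mk hd
          obtain ⟨g, hg⟩ := exists_prime_orderOf_dvd_card' (G := G) d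
            (hdd.trans (card_quotient_dvd_card P))
          rcases hord g (fun e => by rw [e, orderOf_one] at hg; exact hd.one_lt.ne hg) with e | e
          · exact absurd ((hg ▸ e : d = r) ▸ hdd) hrQ
          · exact hg ▸ e⟩
      obtain ⟨j, hj⟩ := hj
      have h1 := S.card_eq_multiplicity
      rw [hSc, Subgroup.card_eq_card_quotient_mul_card_subgroup P, hj, hk,
        Nat.factorization_mul (pow_ne_zero _ hs.ne_zero) (pow_ne_zero _ hr.ne_zero), Finsupp.add_apply,
        hs.factorization_pow, hr.factorization_pow, Finsupp.single_eq_same,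
        Finsupp.single_eq_of_ne hrs.symm, add_zero] at h1
      rw [hj, ← h1]
    have hcop : (Nat.card P).Coprime (Nat.card (S : Subgroup G)) := by
      rw [hk, hSc]; exact ((Nat.coprime_primes hr hs).mpr hrs).pow_left k
    have hc : P.IsComplement' (S : Subgroup G) := isComplement'_of_coprime
      (by rw [Subgroup.card_eq_card_quotient_mul_card_subgroup P, hQ, hSc, mul_comm]) hcop
    refine ⟨S, CfsgLib.Frobenius.isFrobeniusComplement_of_fpf hc hP1 (fun h => by
      rw [h, card_bot] at hSc; exact hs.one_lt.ne hSc) fun a ha ha1 => ?_, by rw [hSc]; exact hs⟩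
    rw [eq_bot_iff]
    intro u hu'
    obtain ⟨hu, huc⟩ := Subgroup.mem_inf.mp hu'
    refine mem_bot.mpr (by_contra fun hu1 => hno u a ?_ ?_ (mem_centralizer_singleton_iff.mp huc))
    · exact orderOf_eq_prime (sylow_pow (hsq hr) hPp u hu) hu1
    · exact orderOf_eq_prime (hSs a ha) ha1

/-- Let G be a finite group of odd order in which the numbers of elements of each order that occurs (the numbers #{g : o(g) = m}, m ranging over the element orders of G) take exactly three different values. Then the order of G has at most two prime divisors; and if it has exactly two, then every Sylow subgroup of G for a prime dividing its order has prime exponent, G is a Frobenius group, and some Frobenius complement of G has prime order. -/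
theorem result {G : Type*} [Group G] [Finite G] (hodd : Odd (Nat.card G)) (h : (((fun m : ℕ => Nat.card {g : G // orderOf g = m}) '' Set.range (orderOf : G → ℕ))).ncard = 3) :
    (Nat.card G).primeFactors.card ≤ 2 ∧
      ((Nat.card G).primeFactors.card = 2 →
        (∀ (p : ℕ) [Fact p.Prime] (P : Sylow p G), p ∣ Nat.card G → Monoid.exponent ↥(P : Subgroup G) = p) ∧
        ∃ C : Subgroup G, Cfsg.IsFrobeniusComplement C ∧ (Nat.card ↥C).Prime) := by
  classical
  set V := (fun m : ℕ => Nat.card {g : G // orderOf g = m}) '' Set.range (orderOf : G → ℕ) with hV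
  have hmem : ∀ m, (∃ g : G, orderOf g = m) → cnt G m ∈ V := fun m ⟨g, hg⟩ => ⟨m, ⟨g, hg⟩, rfl⟩
  have h1 : (1 : ℕ) ∈ V := cnt_one (G := G) ▸ hmem 1 ⟨1, orderOf_one⟩
  obtain ⟨a, b, -, he⟩ := Set.ncard_eq_two.mp
    (show (V \ {1}).ncard = 2 by rw [Set.ncard_sdiff_singleton_of_mem h1, h])
  have hT : TwoVal G a b := fun m hm hex => by
    have hin : cnt G m ∈ V \ {1} :=
      ⟨hmem m hex, fun e : cnt G m = 1 => by have := two_le_cnt hm hex; omega⟩
    rw [he] at hin
    simpa using hin
  have hne2 : ∀ {p : ℕ}, p.Prime → p ∣ Nat.card G → 3 ≤ p := fun {p} hp hpd => by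
    have := hp.two_le
    have : p ≠ 2 := fun e => (Nat.not_even_iff_odd.mpr hodd) (even_iff_two_dvd.mpr (e ▸ hpd))
    omega
  have hle := card_odd_primes_le_two hT
  rw [Finset.erase_eq_of_notMem fun hm =>
    (Nat.not_even_iff_odd.mpr hodd) (even_iff_two_dvd.mpr (Nat.dvd_of_mem_primeFactors hm))] at hle
  refine ⟨hle, fun h2 => ?_⟩
  obtain ⟨r, s, hrs, hpair⟩ := Finset.card_eq_two.mp h2
  have hall : ∀ p : ℕ, p.Prime → p ∣ Nat.card G → p = r ∨ p = s := fun p hp hpd => by
    have : p ∈ (Nat.card G).primeFactors := Nat.mem_primeFactors.mpr ⟨hp, hpd, Nat.card_pos.ne'⟩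
    rw [hpair] at this
    simpa using this
  obtain ⟨hr, hrG, -⟩ := Nat.mem_primeFactors.mp (show r ∈ (Nat.card G).primeFactors by rw [hpair]; simp)
  obtain ⟨hs, hsG, -⟩ := Nat.mem_primeFactors.mp (show s ∈ (Nat.card G).primeFactors by rw [hpair]; simp)
  have hr3 := hne2 hr hrG
  have hs3 := hne2 hs hsG
  have hsqr : ∀ g : G, ¬ r ^ 2 ∣ orderOf g := fun g hd => by
    obtain ⟨x, hx⟩ := exists_of_dvd hd ⟨g, rfl⟩
    exact not_sq hT hr hs hrs hr3 hs3 hrG hsG x hx
  have hsqs : ∀ g : G, ¬ s ^ 2 ∣ orderOf g := fun g hd => by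
    obtain ⟨x, hx⟩ := exists_of_dvd hd ⟨g, rfl⟩
    exact not_sq hT hs hr hrs.symm hs3 hr3 hsG hrG x hx
  have := Fact.mk hr
  have := Fact.mk hs
  have hcls : cnt G r ≠ cnt G s := by
    intro he'
    suffices key : ∀ {a b : ℕ}, TwoVal G a b → cnt G r = a → cnt G s = a → False by
      rcases hT r hr3 (exists_prime_order hr hrG) with e | e
      · exact key hT e (he' ▸ e)
      · exact key hT.symm e (he' ▸ e)
    intro a b hT hra hsa
    obtain ⟨hN, hab, -, -⟩ := same_class hT hr hs hrs hr3 hs3 hrG hsG hra hsa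
    have key : ∀ {t : ℕ} [Fact t.Prime], t ∣ Nat.card G → cnt G t = a →
        (∀ g : G, ¬ t ^ 2 ∣ orderOf g) → t ^ (Nat.card G).factorization t ∣ 1 + a := by
      intro t _ htG hta hsq
      have ht : t.Prime := Fact.out
      have h5 := CfsgLib.Counting.frobenius_dvd (G := G) (t ^ (Nat.card G).factorization t)
      rw [Nat.gcd_eq_left (Nat.ordProj_dvd _ _)] at h5
      have he2 : Nat.card {g : G // g ^ t ^ (Nat.card G).factorization t = 1} =
          Nat.card {g : G // g ^ t = 1} := Nat.card_congr (Equiv.subtypeEquivRight fun g => by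
        constructor
        · intro hg
          obtain ⟨i, -, hi⟩ := (Nat.dvd_prime_pow ht).mp (orderOf_dvd_of_pow_eq_one hg)
          refine orderOf_dvd_iff_pow_eq_one.mp (hi ▸ ?_)
          rcases Nat.lt_or_ge i 2 with h6 | h6
          · exact (pow_dvd_pow t (Nat.lt_succ_iff.mp h6)).trans (pow_one t).dvd
          · exact absurd ((pow_dvd_pow t h6).trans hi.symm.dvd) (hsq g)
        · intro hg
          obtain ⟨j, hj⟩ := Nat.exists_eq_succ_of_ne_zero (ht.factorization_pos_of_dvd Nat.card_pos.ne' htG).ne'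
          rw [hj, pow_succ', pow_mul, hg, one_pow])
      rw [he2, card_pow_eq_sum ht.ne_zero, ht.divisors, Finset.sum_insert (by simpa using ht.one_lt.ne),
        Finset.sum_singleton, cnt_one, hta] at h5
      exact h5
    have hprod : Nat.card G ∣ 1 + a := by
      conv_lhs => rw [← Nat.prod_factorization_pow_eq_self (n := Nat.card G) Nat.card_pos.ne']
      rw [Finsupp.prod_of_support_subset _ (s := {r, s}) (by rw [Nat.support_factorization, hpair]) _
        (fun i _ => pow_zero i), Finset.prod_pair hrs]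
      exact Nat.Coprime.mul_dvd_of_dvd_of_dvd (((Nat.coprime_primes hr hs).mpr hrs).pow _ _)
        (key hrG hra hsqr) (key hsG hsa hsqs)
    have hsum : 1 + a + a + b ≤ Nat.card G := by
      have h6 := card_pow_eq_sum (G := G) (m := r * s) (Nat.mul_ne_zero hr.ne_zero hs.ne_zero)
      rw [sum_divisors_mul_prime _ hr.ne_zero hs ((Nat.coprime_primes hr hs).mpr hrs)] at h6
      simp only [hr.divisors, Finset.sum_insert (show (1 : ℕ) ∉ ({r} : Finset ℕ) by
        simpa using hr.one_lt.ne), Finset.sum_singleton, one_mul, cnt_one, hra, hsa, hN] at h6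
      have h7 : Nat.card {g : G // g ^ (r * s) = 1} ≤ Nat.card G := Finite.card_subtype_le _
      omega
    have := Nat.le_of_dvd (by omega) hprod
    omega
  have hEq : ∀ g : G, g ≠ 1 → orderOf g = r ∨ orderOf g = s := by
    intro g hg
    have hno : ¬ r * s ∣ orderOf g := fun hd => by
      obtain ⟨x, hx⟩ := exists_of_dvd hd ⟨g, rfl⟩
      rcases hT r hr3 (exists_prime_order hr hrG) with e1 | e1 <;>
        rcases hT s hs3 (exists_prime_order hs hsG) with e2 | e2
      · exact hcls (e1.trans e2.symm)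
      · exact diff_class hT hr hs hrs hr3 hs3 hrG hsG e1 e2 x hx
      · exact diff_class hT.symm hr hs hrs hr3 hs3 hrG hsG e1 e2 x hx
      · exact hcls (e1.trans e2.symm)
    obtain ⟨p, hp, hpd⟩ := Nat.exists_prime_and_dvd (n := orderOf g) fun e => hg (orderOf_eq_one_iff.mp e)
    have honly : ∀ q, q.Prime → q ∣ orderOf g → q = p := fun q hq hqd => by
      by_contra hne
      have hh := Nat.Coprime.mul_dvd_of_dvd_of_dvd ((Nat.coprime_primes hq hp).mpr hne) hqd hpd
      rcases hall p hp (hpd.trans (orderOf_dvd_natCard g)) with rfl | rfl <;>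
        rcases hall q hq (hqd.trans (orderOf_dvd_natCard g)) with rfl | rfl
      · exact hne rfl
      · exact hno (by rwa [mul_comm])
      · exact hno hh
      · exact hne rfl
    have hpow := Nat.eq_prime_pow_of_unique_prime_dvd (orderOf_pos g).ne' fun {d} hd hdd => honly d hd hdd
    set i := (orderOf g).primeFactorsList.length with hi
    have hsqp : ¬ p ^ 2 ∣ orderOf g := by
      rcases hall p hp (hpd.trans (orderOf_dvd_natCard g)) with rfl | rfl
      · exact hsqr g
      · exact hsqs g
    have hi1 : i = 1 := by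
      rcases Nat.lt_trichotomy i 1 with h6 | h6 | h6
      · exact absurd (orderOf_eq_one_iff.mp (by rw [hpow, show i = 0 by omega, pow_zero])) hg
      · exact h6
      · exact absurd (hpow ▸ pow_dvd_pow p h6) hsqp
    rw [hpow, hi1, pow_one]
    exact hall p hp (hpd.trans (orderOf_dvd_natCard g))
  constructor
  · intro p _ P hpG
    have hp : p.Prime := Fact.out
    have hsqp : ∀ g : G, ¬ p ^ 2 ∣ orderOf g := by
      rcases hall p hp hpG with rfl | rfl
      · exact hsqr
      · exact hsqs
    refine Nat.dvd_antisymm (Monoid.exponent_dvd_of_forall_pow_eq_one fun x =>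
      Subtype.ext (by simpa using sylow_pow hsqp P.2 x x.2)) ?_
    obtain ⟨x, hx⟩ := exists_prime_orderOf_dvd_card' (G := (P : Subgroup G)) p (P.dvd_card_of_dvd_card hpG)
    exact hx.symm.dvd.trans (Monoid.order_dvd_exponent x)
  · have hsol : Group.IsSolvable G := isSolvable_of_two_primes hle
    have : Nontrivial G := Finite.one_lt_card_iff_nontrivial.mp
      (lt_of_lt_of_le hr.one_lt (Nat.le_of_dvd Nat.card_pos hrG))
    obtain ⟨Z, hZn, hZ1, -, hZmin⟩ :=
      CfsgLib.Solvable.exists_minimal_normal_le (⊤ : Subgroup G) top_ne_bot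
    obtain ⟨-, p, hp, hZp⟩ := CfsgLib.Solvable.minimal_normal_elementary_abelian Z hZ1 hZmin
    obtain ⟨z, hz, hz1⟩ := (Z.bot_or_exists_ne_one).resolve_left hZ1
    have := Fact.mk hp
    have hzo := orderOf_eq_prime (hZp z hz) hz1
    have hcore : Cfsg.pCore p G ≠ ⊥ := fun h0 => hZ1 ((CfsgLib.Solvable.pCore_eq_bot_iff).mp h0 Z hZn
      fun x => ⟨1, Subtype.ext (by simpa using hZp x x.2)⟩)
    rcases hEq z hz1 with e | e
    · obtain rfl : p = r := hzo.symm.trans e
      exact frobenius hp hs hrs hrG hsG hEq hcore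
    · obtain rfl : p = s := hzo.symm.trans e
      exact frobenius hp hr hrs.symm hsG hrG (fun g hg => (hEq g hg).symm) hcore

end Cfsg.Agent.S4004
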