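import Cfsg.Statements.S4005
import Mathlib
import Cfsg.Agent.Lib.Char.Burnside
import Cfsg.Agent.Lib.Solvable.Core
import Cfsg.Agent.Lib.Frobenius.Fpf

set_option autoImplicit false
open Cfsg

namespace Cfsg.Agent.S4005

theorem finish {G : Type*} [Group G] [Finite G] (hle : ∀ g : G, orderOf g ≤ 3)
    (h3 : ∃ g : G, orderOf g = 3) (h2 : ∃ g : G, orderOf g = 2) :
    (∃ N : Subgroup G, N.Normal ∧ Cfsg.IsElementaryAbelian 3 N ∧ N.index = 2) ∨
      (∃ N : Subgroup G, N.Normal ∧ Cfsg.IsElementaryAbelian 2 N ∧ N.index = 3) := by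
  classical
  have := Fact.mk Nat.prime_two
  have := Fact.mk Nat.prime_three
  have hpow : ∀ g : G, g ^ 2 = 1 ∨ g ^ 3 = 1 := by
    intro g
    have h1 := hle g
    have h0 := orderOf_pos g
    have h := pow_orderOf_eq_one g
    generalize orderOf g = k at *
    interval_cases k
    · exact Or.inl (by rw [pow_one] at h; rw [h, one_pow])
    · exact Or.inl h
    · exact Or.inr h
  have hmix : ∀ x y : G, x * y = y * x → x ^ 2 = 1 → y ^ 3 = 1 → x = 1 ∨ y = 1 := by
    intro x y hxy hx hy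
    by_contra h
    push Not at h
    have e := Commute.orderOf_mul_eq_mul_orderOf_of_coprime (x := x) (y := y) hxy
      (by rw [orderOf_eq_prime hx h.1, orderOf_eq_prime hy h.2]; norm_num)
    rw [orderOf_eq_prime hx h.1, orderOf_eq_prime hy h.2] at e
    have := hle (x * y)
    omega
  have hprimes : ∀ r : ℕ, r.Prime → r ∣ Nat.card G → r = 2 ∨ r = 3 := by
    intro r hr hrd
    have := Fact.mk hr
    obtain ⟨x, hx⟩ := exists_prime_orderOf_dvd_card' (G := G) r hrd
    have := hle x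
    have := hr.two_le
    omega
  -- orders
  let T : Sylow 2 G := default
  let R : Sylow 3 G := default
  obtain ⟨a, ha⟩ := IsPGroup.iff_card.mp T.2
  obtain ⟨b, hb⟩ := IsPGroup.iff_card.mp R.2
  have hGcard : Nat.card G = 2 ^ a * 3 ^ b := by
    have hd : 2 ^ a * 3 ^ b ∣ Nat.card G :=
      Nat.Coprime.mul_dvd_of_dvd_of_dvd (Nat.Coprime.pow _ _ (by norm_num))
        (ha ▸ Subgroup.card_subgroup_dvd_card _) (hb ▸ Subgroup.card_subgroup_dvd_card _)
    obtain ⟨c, hc⟩ := hd
    by_contra hne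
    obtain ⟨r, hr, hrc⟩ := Nat.exists_prime_and_dvd (n := c)
      (fun h => hne (by rw [hc, h, mul_one]))
    rcases hprimes r hr (hc ▸ dvd_mul_of_dvd_right hrc _) with rfl | rfl
    · refine T.not_dvd_index ?_
      have := Subgroup.card_mul_index (T : Subgroup G)
      rw [ha, hc, mul_assoc] at this
      rw [mul_left_cancel₀ (pow_ne_zero a two_ne_zero) this]
      exact dvd_mul_of_dvd_right hrc _
    · refine R.not_dvd_index ?_
      have := Subgroup.card_mul_index (R : Subgroup G)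
      rw [hb, hc, mul_comm (2 ^ a), mul_assoc] at this
      rw [mul_left_cancel₀ (pow_ne_zero b three_ne_zero) this]
      exact dvd_mul_of_dvd_right hrc _
  obtain ⟨t, ht⟩ := h2
  obtain ⟨u, hu⟩ := h3
  have ha1 : a ≠ 0 := by
    rintro rfl
    have := ht ▸ orderOf_dvd_natCard t
    rw [hGcard, pow_zero, one_mul] at this
    exact absurd (Nat.prime_two.dvd_of_dvd_pow this) (by norm_num)
  have hb1 : b ≠ 0 := by
    rintro rfl
    have := hu ▸ orderOf_dvd_natCard u
    rw [hGcard, pow_zero, mul_one] at this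
    exact absurd (Nat.prime_three.dvd_of_dvd_pow this) (by norm_num)
  have hexp : ∀ (p : ℕ) (H : Subgroup G), p = 2 ∨ p = 3 → IsPGroup p H → ∀ x ∈ H, x ^ p = 1 := by
    intro p H hp hH x hx
    obtain ⟨k, hk⟩ := hH ⟨x, hx⟩
    have hk' : x ^ p ^ k = 1 := congrArg Subtype.val hk
    have hd := orderOf_dvd_of_pow_eq_one hk'
    rcases hp with rfl | rfl <;> rcases hpow x with h | h
    · exact h
    · have h1 : orderOf x ∣ 1 := by
        rw [← Nat.Coprime.pow_left k (show Nat.Coprime 2 3 by norm_num)]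
        exact Nat.dvd_gcd hd (orderOf_dvd_of_pow_eq_one h)
      rw [orderOf_eq_one_iff.mp (Nat.dvd_one.mp h1), one_pow]
    · have h1 : orderOf x ∣ 1 := by
        rw [← Nat.Coprime.pow_left k (show Nat.Coprime 3 2 by norm_num)]
        exact Nat.dvd_gcd hd (orderOf_dvd_of_pow_eq_one h)
      rw [orderOf_eq_one_iff.mp (Nat.dvd_one.mp h1), one_pow]
    · exact h
  by_cases ha2 : a = 1
  · -- index two: inverted by an involution
    left
    subst ha2
    have hidx : (R : Subgroup G).index = 2 := by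
      have := Subgroup.card_mul_index (R : Subgroup G)
      rw [hb, hGcard, mul_comm (2 ^ 1), pow_one] at this
      exact mul_left_cancel₀ (pow_ne_zero b three_ne_zero) this
    have hn : (R : Subgroup G).Normal := Subgroup.normal_of_index_eq_two hidx
    refine ⟨R, hn, ⟨?_, hexp 3 R (Or.inr rfl) R.2⟩, hidx⟩
    have ht2 : t ^ 2 = 1 := ht ▸ pow_orderOf_eq_one t
    have ht2' : t * t = 1 := by rwa [pow_two] at ht2
    let ψ : (R : Subgroup G) →* (R : Subgroup G) := MonoidHom.mk' (fun x => ⟨t * x * t⁻¹,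
      hn.conj_mem x x.2 t⟩) fun x y => Subtype.ext (by simp only [Subgroup.coe_mul]; group)
    have hfp : MonoidHom.FixedPointFree ψ := by
      intro x hx
      have e : t * (x : G) * t⁻¹ = x := congrArg Subtype.val hx
      rcases hmix t x (mul_inv_eq_iff_eq_mul.mp e) ht2 (hexp 3 R (Or.inr rfl) R.2 x x.2) with h | h
      · rw [h, orderOf_one] at ht; omega
      · exact Subtype.ext h
    have hinv : Function.Involutive ψ := fun x => Subtype.ext (by
      show t * (t * (x : G) * t⁻¹) * t⁻¹ = x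
      rw [show t * (t * (x : G) * t⁻¹) * t⁻¹ = (t * t) * x * (t * t)⁻¹ by group, ht2']; group)
    exact ⟨⟨fun x y => (hfp.commute_all_of_involutive hinv x y).eq⟩⟩
  right
  have h4 : 2 ^ 2 ∣ Nat.card G := hGcard ▸ dvd_mul_of_dvd_left (pow_dvd_pow 2 (by omega)) _
  obtain ⟨E, hE⟩ := Sylow.exists_subgroup_card_pow_prime 2 h4
  have hfpf : ∀ (p q : ℕ) (A V : Subgroup G), (p = 2 ∧ q = 3) ∨ (p = 3 ∧ q = 2) →
      (∀ x ∈ A, x ^ p = 1) → (∀ x ∈ V, x ^ q = 1) → ∀ x ∈ A, x ≠ 1 → V ⊓ Subgroup.centralizer {x} = ⊥ := by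
    intro p q A V hpq hA hV x hx hx1
    rw [eq_bot_iff]
    rintro y hy'
    obtain ⟨hy, hyc⟩ := Subgroup.mem_inf.mp hy'
    rw [Subgroup.mem_centralizer_singleton_iff] at hyc
    rw [Subgroup.mem_bot]
    rcases hpq with ⟨rfl, rfl⟩ | ⟨rfl, rfl⟩
    · exact (hmix x y hyc.symm (hA x hx) (hV y hy)).resolve_left hx1
    · exact (hmix y x hyc (hV y hy) (hA x hx)).resolve_right hx1
  have : Nontrivial G := ⟨⟨t, 1, fun h => by rw [h, orderOf_one] at ht; omega⟩⟩
  have hsol : Group.IsSolvable G :=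
    CfsgLib.Char.isSolvable_of_card_eq_prime_pow_mul Nat.prime_two Nat.prime_three hGcard
  obtain ⟨N, hNn, hN1, -, hNmin⟩ := CfsgLib.Solvable.exists_minimal_normal_le (⊤ : Subgroup G) top_ne_bot
  obtain ⟨hNc, p, hp, hNp⟩ := CfsgLib.Solvable.minimal_normal_elementary_abelian N hN1 hNmin
  obtain ⟨x, hxN, hx1⟩ := (N.bot_or_exists_ne_one).resolve_left hN1
  have := Fact.mk hp
  have hp3 : p ≤ 3 := orderOf_eq_prime (hNp x hxN) hx1 ▸ hle x
  have hp2 : p = 2 := by
    by_contra hp2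
    have hp3' : p = 3 := by have := hp.two_le; omega
    subst hp3'
    have hexE : ∀ x ∈ E, x ^ 2 = 1 := hexp 2 E (Or.inl rfl) (IsPGroup.of_card hE)
    exact hN1 (CfsgLib.Frobenius.eq_bot_of_elementary_fpf
      ((Subgroup.normalizer_eq_top_iff.mpr hNn).symm ▸ le_top)
      (hfpf 2 3 E N (Or.inl ⟨rfl, rfl⟩) hexE hNp) Nat.prime_two hE hexE)
  subst hp2
  have hb2 : b = 1 := by
    by_contra hb2
    have h9 : 3 ^ 2 ∣ Nat.card G := hGcard ▸ dvd_mul_of_dvd_right (pow_dvd_pow 3 (by omega)) _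
    obtain ⟨F, hF⟩ := Sylow.exists_subgroup_card_pow_prime 3 h9
    have hexF : ∀ x ∈ F, x ^ 3 = 1 := hexp 3 F (Or.inr rfl) (IsPGroup.of_card hF)
    exact hN1 (CfsgLib.Frobenius.eq_bot_of_elementary_fpf
      ((Subgroup.normalizer_eq_top_iff.mpr hNn).symm ▸ le_top)
      (hfpf 3 2 F N (Or.inr ⟨rfl, rfl⟩) hexF hNp) Nat.prime_three hF hexF)
  subst hb2
  have hidx : (T : Subgroup G).index = 3 := by
    have := Subgroup.card_mul_index (T : Subgroup G)
    rw [ha, hGcard, pow_one] at this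
    exact mul_left_cancel₀ (pow_ne_zero a two_ne_zero) this
  have hT2 : ∀ x ∈ (T : Subgroup G), x ^ 2 = 1 := hexp 2 T (Or.inl rfl) T.2
  have hcomm : ∀ x ∈ (T : Subgroup G), ∀ y ∈ (T : Subgroup G), x * y = y * x := by
    intro x hx y hy
    have e1 := inv_eq_of_mul_eq_one_right (by rw [← pow_two]; exact hT2 x hx : x * x = 1)
    have e2 := inv_eq_of_mul_eq_one_right (by rw [← pow_two]; exact hT2 y hy : y * y = 1)
    have e3 := inv_eq_of_mul_eq_one_right
      (by rw [← pow_two]; exact hT2 _ (mul_mem hx hy) : x * y * (x * y) = 1)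
    rw [mul_inv_rev, e1, e2] at e3
    exact e3.symm
  refine ⟨T, ?_, ⟨⟨⟨fun x y => Subtype.ext (hcomm x x.2 y y.2)⟩⟩, hT2⟩, hidx⟩
  by_contra hnn
  obtain ⟨g, hg⟩ : ∃ g : G, ¬ ∀ y ∈ (T : Subgroup G), g * y * g⁻¹ ∈ (T : Subgroup G) := by
    by_contra h
    push Not at h
    exact hnn ⟨fun y hy g => h g y hy⟩
  push Not at hg
  obtain ⟨y, hy, hyg⟩ := hg
  set T' := (T : Subgroup G).map (MulAut.conj g).toMonoidHom
  have hy' : g * y * g⁻¹ ∈ T' := ⟨y, hy, rfl⟩
  have hidx' : T'.index = 3 := by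
    rw [← hidx]; exact Subgroup.index_map_equiv _ (MulAut.conj g)
  have hI : T' ⊓ (T : Subgroup G) ≠ ⊥ := by
    intro hI
    have h1 := Subgroup.inf_relIndex_right T' (T : Subgroup G)
    rw [hI, Subgroup.relIndex_bot_left, ha] at h1
    have h2 : T'.relIndex (T : Subgroup G) ≤ T'.relIndex ⊤ :=
      Subgroup.relIndex_le_of_le_right le_top (by rw [Subgroup.relIndex_top_right, hidx']; norm_num)
    rw [Subgroup.relIndex_top_right, hidx', ← h1] at h2
    have : 2 ^ 2 ≤ 2 ^ a := Nat.pow_le_pow_right (by norm_num) (by omega)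
    omega
  obtain ⟨z, ⟨hz', hz⟩, hz1⟩ := (Subgroup.bot_or_exists_ne_one _).resolve_left hI
  have hle' : (T : Subgroup G) ≤ Subgroup.centralizer {z} := fun w hw =>
    Subgroup.mem_centralizer_singleton_iff.mpr (hcomm w hw z hz)
  have hd := Subgroup.index_dvd_of_le hle'
  rw [hidx] at hd
  rcases (Nat.dvd_prime Nat.prime_three).mp hd with h | h
  · have huc : u ∈ Subgroup.centralizer {z} := by
      rw [Subgroup.index_eq_one.mp h]; exact Subgroup.mem_top u
    rcases hmix z u (Subgroup.mem_centralizer_singleton_iff.mp huc).symm (hT2 z hz)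
      (hu ▸ pow_orderOf_eq_one u) with h | h
    · exact hz1 h
    · rw [h, orderOf_one] at hu; omega
  · apply hyg
    have heq : (T : Subgroup G) = Subgroup.centralizer {z} := Subgroup.eq_of_le_of_card_ge hle' (by
      have e1 := Subgroup.card_mul_index (T : Subgroup G)
      have e2 := Subgroup.card_mul_index (Subgroup.centralizer {z})
      rw [hidx] at e1; rw [h] at e2
      omega)
    rw [heq, Subgroup.mem_centralizer_singleton_iff]
    obtain ⟨w, hw, rfl⟩ := hz'
    show g * y * g⁻¹ * (g * w * g⁻¹) = g * w * g⁻¹ * (g * y * g⁻¹)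
    rw [show g * y * g⁻¹ * (g * w * g⁻¹) = g * (y * w) * g⁻¹ by group, hcomm y hy w hw]
    group


/-- A finite group whose set of element orders is exactly {1, 2, 3} has either a normal elementary abelian 3-subgroup of index 2 or a normal elementary abelian 2-subgroup of index 3. -/
theorem result {G : Type*} [Group G] [Finite G] (h : Set.range (orderOf : G → ℕ) = {k : ℕ | 1 ≤ k ∧ k ≤ 3}) :
    (∃ N : Subgroup G, N.Normal ∧ Cfsg.IsElementaryAbelian 3 N ∧ N.index = 2) ∨
      (∃ N : Subgroup G, N.Normal ∧ Cfsg.IsElementaryAbelian 2 N ∧ N.index = 3) := by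
  refine finish (fun g => ?_) ?_ ?_
  · have h1 : orderOf g ∈ Set.range (orderOf : G → ℕ) := ⟨g, rfl⟩
    rw [h] at h1; exact h1.2
  · exact h.symm.subset (show (3 : ℕ) ∈ {k : ℕ | 1 ≤ k ∧ k ≤ 3} by simp)
  · exact h.symm.subset (show (2 : ℕ) ∈ {k : ℕ | 1 ≤ k ∧ k ≤ 3} by simp)

end Cfsg.Agent.S4005
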