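import Cfsg.Statements.S4006
import Cfsg.Agent.Lib.Char.Burnside
import Cfsg.Agent.Lib.Solvable.Core
import Cfsg.Agent.Lib.Solvable.FpfThreeClass
import Cfsg.Agent.Lib.Frobenius.Fpf
import Cfsg.Agent.Lib.StdForm.FpfThree
import Cfsg.Agent.S0016
import Mathlib

set_option autoImplicit false
open Cfsg
open Subgroup
open scoped commutatorElement

namespace Cfsg.Agent.S4006

universe u

/-- Commuting elements of `2`-power and of `3`-power order are trivial. -/
def Mix (G : Type u) [Group G] : Prop :=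
  ∀ x y : G, orderOf x = 2 → orderOf y = 3 → ¬ Commute x y

section Quot

variable {G : Type u} [Group G] [Finite G]

theorem orders_le {g : G} (h : orderOf g ≤ 4) : g ^ 4 = 1 ∨ g ^ 3 = 1 := by
  have h0 := orderOf_pos g
  have h1 := pow_orderOf_eq_one g
  generalize orderOf g = k at *
  interval_cases k
  · left; rw [pow_one] at h1; rw [h1, one_pow]
  · left; rw [show 4 = 2 * 2 by norm_num, pow_mul, h1, one_pow]
  · exact Or.inr h1
  · exact Or.inl h1

theorem mix (hle : ∀ g : G, orderOf g ≤ 4) : Mix G := fun x y hx hy hc => by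
  have h := hc.orderOf_mul_eq_mul_orderOf_of_coprime (by rw [hx, hy]; norm_num)
  rw [hx, hy] at h
  have := hle (x * y)
  omega

theorem le_quotient (hle : ∀ g : G, orderOf g ≤ 4) (N : Subgroup G) [N.Normal] (g : G ⧸ N) :
    orderOf g ≤ 4 := by
  obtain ⟨x, rfl⟩ := QuotientGroup.mk'_surjective N g
  exact (Nat.le_of_dvd (orderOf_pos x) (orderOf_map_dvd _ x)).trans (hle x)

theorem primes (hle : ∀ g : G, orderOf g ≤ 4) {r : ℕ} (hr : r.Prime) (hrd : r ∣ Nat.card G) :
    r = 2 ∨ r = 3 := by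
  have := Fact.mk hr
  obtain ⟨x, hx⟩ := exists_prime_orderOf_dvd_card' (G := G) r hrd
  have h1 := hle x
  have h2 := hr.two_le
  by_contra h
  have : r = 4 := by omega
  rw [this] at hr
  exact absurd hr (by norm_num)

theorem solvable (hle : ∀ g : G, orderOf g ≤ 4) : Group.IsSolvable G := by
  refine CfsgLib.Char.isSolvable_of_card_eq_prime_pow_mul (a := (Nat.card G).factorization 2)
    (b := (Nat.card G).factorization 3) Nat.prime_two Nat.prime_three ?_
  conv_lhs => rw [← Nat.prod_factorization_pow_eq_self (n := Nat.card G) Nat.card_pos.ne']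
  rw [Finsupp.prod_of_support_subset _ (s := {2, 3}) ?_ _ (fun i _ => pow_zero i)]
  · simp
  · intro r hr
    rw [Nat.support_factorization, Nat.mem_primeFactors] at hr
    rcases primes hle hr.1 hr.2.1 with rfl | rfl <;> simp

theorem exists_orderOf_in {p : ℕ} [Fact p.Prime] {H : Subgroup G} (hH : IsPGroup p H) (h : H ≠ ⊥) :
    ∃ x ∈ H, orderOf x = p := by
  obtain ⟨x, hx⟩ := exists_prime_orderOf_dvd_card' (G := H) p
    (hH.card_eq_or_dvd.resolve_left fun e => h (card_eq_one.mp e))
  exact ⟨x, x.2, by rw [Subgroup.orderOf_coe, hx]⟩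

theorem pow_of_pgroup (hle : ∀ g : G, orderOf g ≤ 4) {p : ℕ} [Fact p.Prime] {H : Subgroup G}
    (hH : IsPGroup p H) {x : G} (hx : x ∈ H) :
    (p = 2 → x ^ 4 = 1) ∧ (p = 3 → x ^ 3 = 1) := by
  obtain ⟨k, hk⟩ := IsPGroup.iff_orderOf.mp hH ⟨x, hx⟩
  rw [Subgroup.orderOf_mk] at hk
  have h4 := hle x
  have h1 := pow_orderOf_eq_one x
  rw [hk] at h4 h1
  refine ⟨fun h => ?_, fun h => ?_⟩ <;> subst h
  · have : k ≤ 2 := (Nat.pow_le_pow_iff_right (by norm_num)).mp (h4.trans (by norm_num : 4 ≤ 2 ^ 2))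
    obtain ⟨j, hj⟩ := pow_dvd_pow 2 this
    rw [show 4 = 2 ^ k * j from hj ▸ rfl, pow_mul, h1, one_pow]
  · have : k ≤ 1 := by
      by_contra hk2
      have := Nat.pow_le_pow_right (show 0 < 3 by norm_num) (show 2 ≤ k by omega)
      omega
    obtain ⟨j, hj⟩ := pow_dvd_pow 3 this
    rw [show 3 = 3 ^ k * j from hj ▸ (pow_one 3).symm, pow_mul, h1, one_pow]

/-- A `2`-group normalizing a nontrivial `3`-group without elements of order `6` has one involution. -/
theorem unique_involution (hle : ∀ g : G, orderOf g ≤ 4) {N T : Subgroup G} [N.Normal]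
    (hN : IsPGroup 3 N) (hN1 : N ≠ ⊥) {s t : G} (hs : s ∈ T) (ht : t ∈ T) (hT : IsPGroup 2 T)
    (hs2 : orderOf s = 2) (ht2 : orderOf t = 2) :
    s = t ∧ ∀ x ∈ N, ∀ y ∈ N, x * y = y * x := by
  have := Fact.mk Nat.prime_two
  have := Fact.mk Nat.prime_three
  have hfix : ∀ z ∈ T, z ≠ 1 → ∀ x ∈ N, Commute z x → x = 1 := by
    intro z hz hz1 x hx hc
    by_contra hx1
    obtain ⟨z', hz', hzo⟩ := exists_orderOf_in (p := 2) (hT.to_le (zpowers_le.mpr hz))
      (zpowers_ne_bot.mpr hz1)
    obtain ⟨k, rfl⟩ := mem_zpowers_iff.mp hz'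
    exact mix hle _ x hzo (orderOf_eq_prime ((pow_of_pgroup hle hN hx).2 rfl) hx1) (hc.zpow_left k)
  have hinv : ∀ z ∈ T, orderOf z = 2 → ∀ x ∈ N, z * x * z⁻¹ = x⁻¹ := by
    intro z hz hzo x hx
    have hfp : MonoidHom.FixedPointFree (MulAut.conjNormal (H := N) z : N →* N) := fun w hw =>
      Subtype.ext (hfix z hz (fun e => by rw [e, orderOf_one] at hzo; omega) w w.2
        (mul_inv_eq_iff_eq_mul.mp (congrArg Subtype.val hw)))
    have hzz : z * z = 1 := by rw [← pow_two, ← hzo, pow_orderOf_eq_one]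
    have hi : Function.Involutive (MulAut.conjNormal (H := N) z : N →* N) := fun w => by
      show MulAut.conjNormal z (MulAut.conjNormal z w) = w
      rw [← MulAut.mul_apply, ← map_mul, hzz, map_one]; rfl
    exact congrArg Subtype.val (congrFun (hfp.coe_eq_inv_of_involutive hi) ⟨x, hx⟩)
  constructor
  · by_contra hne
    have hst : s * t ≠ 1 := fun h => hne (by
      rw [eq_inv_of_mul_eq_one_left h, inv_eq_of_mul_eq_one_right]
      rw [← pow_two, ← ht2, pow_orderOf_eq_one])
    obtain ⟨x, hx, hx1⟩ := (N.bot_or_exists_ne_one).resolve_left hN1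
    refine hx1 (hfix (s * t) (mul_mem hs ht) hst x hx ?_)
    refine mul_inv_eq_iff_eq_mul.mp ?_
    rw [show s * t * x * (s * t)⁻¹ = s * (t * x * t⁻¹) * s⁻¹ by group, hinv t ht ht2 x hx,
      hinv s hs hs2 _ (inv_mem hx), inv_inv]
  · intro x hx y hy
    have h1 := hinv s hs hs2 (x * y) (mul_mem hx hy)
    rw [show s * (x * y) * s⁻¹ = (s * x * s⁻¹) * (s * y * s⁻¹) by group, hinv s hs hs2 x hx,
      hinv s hs hs2 y hy] at h1
    have h2 := congrArg (·⁻¹) h1
    simp only [mul_inv_rev, inv_inv] at h2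
    exact h2.symm

end Quot

variable {G : Type u} [Group G] [Finite G]

/-- The case of a nontrivial normal `3`-subgroup. -/
theorem case_three (hle : ∀ g : G, orderOf g ≤ 4) (h4 : ∃ g : G, orderOf g = 4)
    (hN1 : Cfsg.pCore 3 G ≠ ⊥) :
    ∃ (N : Subgroup G) (_ : N.Normal), Cfsg.IsElementaryAbelian 3 N ∧
      ((IsCyclic (G ⧸ N) ∧ N.index = 4) ∨ Nonempty (G ⧸ N ≃* QuaternionGroup 2)) := by
  have := Fact.mk Nat.prime_two
  have := Fact.mk Nat.prime_three
  set N := Cfsg.pCore 3 G with hN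
  have hNn : N.Normal := CfsgLib.Solvable.pCore_normal 3 G
  have hNp := CfsgLib.Solvable.pCore_isPGroup 3 G
  obtain ⟨g4, hg4⟩ := h4
  obtain ⟨T, hT⟩ := (IsPGroup.of_card (n := 2) (by rw [Nat.card_zpowers, hg4]; norm_num) :
    IsPGroup 2 (zpowers g4)).exists_le_sylow
  have hg2 : orderOf (g4 ^ 2) = 2 := by
    rw [orderOf_pow_of_dvd two_ne_zero (by rw [hg4]; norm_num), hg4]
  have hgT : g4 ^ 2 ∈ (T : Subgroup G) := hT (pow_mem (mem_zpowers g4) 2)
  have hel : Cfsg.IsElementaryAbelian 3 N :=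
    ⟨⟨⟨fun x y => Subtype.ext ((unique_involution hle hNp hN1 hgT hgT T.2 hg2 hg2).2 x x.2 y y.2)⟩⟩,
      fun x hx => (pow_of_pgroup hle hNp hx).2 rfl⟩
  refine ⟨N, hNn, hel, ?_⟩
  set π := QuotientGroup.mk' N with hπ
  have hdisj : Disjoint (T : Subgroup G) N := IsPGroup.disjoint_of_ne 2 3 (by norm_num) _ _ T.2 hNp
  let f : (T : Subgroup G) →* G ⧸ N := π.comp (T : Subgroup G).subtype
  have hfi : Function.Injective f := by
    rw [injective_iff_map_eq_one]
    exact fun x hx => Subtype.ext (Subgroup.disjoint_def.mp hdisj x.2 ((QuotientGroup.eq_one_iff _).mp hx))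
  -- the quotient is a `2`-group
  have hQ2 : ¬ 3 ∣ Nat.card (G ⧸ N) := by
    intro h3
    have hsol : Group.IsSolvable (G ⧸ N) := solvable (le_quotient hle N)
    have : Nontrivial (G ⧸ N) := Finite.one_lt_card_iff_nontrivial.mp
      (lt_of_lt_of_le (by norm_num) (Nat.le_of_dvd Nat.card_pos h3))
    obtain ⟨W, hWn, hW1, -, hWmin⟩ :=
      CfsgLib.Solvable.exists_minimal_normal_le (⊤ : Subgroup (G ⧸ N)) top_ne_bot
    obtain ⟨-, p, hp, hWp⟩ := CfsgLib.Solvable.minimal_normal_elementary_abelian W hW1 hWmin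
    have := Fact.mk hp
    have hWpg : IsPGroup p W := fun x => ⟨1, Subtype.ext (by simpa using hWp x x.2)⟩
    obtain ⟨w, hw, hwo⟩ := exists_orderOf_in hWpg hW1
    rcases primes (le_quotient hle N) hp (hwo ▸ orderOf_dvd_natCard w) with rfl | rfl
    swap
    · exact hW1 ((CfsgLib.Solvable.pCore_eq_bot_iff).mp (CfsgLib.Solvable.pCore_quotient_eq_bot N rfl)
        W hWn hWpg)
    obtain ⟨S, hS⟩ := hWpg.exists_le_sylow
    let TQ : Sylow 2 (G ⧸ N) := T.mapSurjective (f := π) (QuotientGroup.mk'_surjective N)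
    have hWT : W ≤ (TQ : Subgroup (G ⧸ N)) := hWpg.le_sylow_of_normal TQ
    have huniq : ∀ a b : G ⧸ N, a ∈ W → b ∈ W → orderOf a = 2 → orderOf b = 2 → a = b := by
      intro a b ha hb hao hbo
      obtain ⟨a', ha', rfl⟩ := hWT ha
      obtain ⟨b', hb', rfl⟩ := hWT hb
      have ha2 : orderOf a' = 2 := by
        rw [← Subgroup.orderOf_mk _ ha', ← orderOf_injective f hfi]; exact hao
      have hb2 : orderOf b' = 2 := by
        rw [← Subgroup.orderOf_mk _ hb', ← orderOf_injective f hfi]; exact hbo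
      rw [(unique_involution hle hNp hN1 ha' hb' T.2 ha2 hb2).1]
    obtain ⟨x, hx⟩ := exists_prime_orderOf_dvd_card' (G := G ⧸ N) 3 h3
    refine mix (le_quotient hle N) w x hwo hx ?_
    have h1 := huniq w (x * w * x⁻¹) hw (hWn.conj_mem w hw x) hwo
      (((MulAut.conj x).orderOf_eq w).trans hwo)
    exact (mul_inv_eq_iff_eq_mul.mp h1.symm).symm
  have hfb : Function.Bijective f := by
    refine (Nat.bijective_iff_injective_and_card _).mpr ⟨hfi, ?_⟩
    rw [T.card_eq_multiplicity]
    have hd : 2 ^ (Nat.card (G ⧸ N)).factorization 2 = Nat.card (G ⧸ N) := by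
      have hj := Nat.eq_prime_pow_of_unique_prime_dvd (n := Nat.card (G ⧸ N)) (p := 2) Nat.card_pos.ne'
        fun {d} hd' hdd => (primes (le_quotient hle N) hd' hdd).resolve_right fun h => hQ2 (h ▸ hdd)
      conv_lhs => rw [hj, Nat.prime_two.factorization_pow, Finsupp.single_eq_same]
      exact hj.symm
    rw [← hd]
    congr 1
    obtain ⟨k, hk⟩ := IsPGroup.iff_card.mp hNp
    rw [Subgroup.card_eq_card_quotient_mul_card_subgroup N, hk,
      Nat.factorization_mul Nat.card_pos.ne' (pow_ne_zero k three_ne_zero), Finsupp.add_apply,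
      Nat.factorization_eq_zero_of_not_dvd (n := 3 ^ k) (fun h => absurd
        (Nat.prime_two.dvd_of_dvd_pow h) (by norm_num)), add_zero]
  let e : (T : Subgroup G) ≃* G ⧸ N := MulEquiv.ofBijective f hfb
  have huniqT : ∀ H K : Subgroup (T : Subgroup G), Nat.card H = 2 → Nat.card K = 2 → H = K := by
    intro H K hH hK
    obtain ⟨x, hx, hxo⟩ := exists_orderOf_in (T.2.to_subgroup H) (fun h => by rw [h, card_bot] at hH; omega)
    obtain ⟨y, hy, hyo⟩ := exists_orderOf_in (T.2.to_subgroup K) (fun h => by rw [h, card_bot] at hK; omega)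
    have hxy : x = y := Subtype.ext (unique_involution hle hNp hN1 x.2 y.2 T.2
      (by rw [Subgroup.orderOf_coe]; exact hxo) (by rw [Subgroup.orderOf_coe]; exact hyo)).1
    have e1 : zpowers x = H := eq_of_le_of_card_ge (zpowers_le.mpr hx) (by rw [Nat.card_zpowers, hxo, hH])
    have e2 : zpowers y = K := eq_of_le_of_card_ge (zpowers_le.mpr hy) (by rw [Nat.card_zpowers, hyo, hK])
    rw [← e1, ← e2, hxy]
  have hcyc4 : IsCyclic (T : Subgroup G) → IsCyclic (G ⧸ N) ∧ N.index = 4 := by
    intro hc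
    refine ⟨isCyclic_of_surjective e.toMonoidHom e.surjective, ?_⟩
    rw [index_eq_card, ← Nat.card_congr e.toEquiv]
    obtain ⟨a, ha⟩ := hc.exists_generator
    refine le_antisymm ?_ ?_
    · rw [← orderOf_eq_card_of_forall_mem_zpowers ha, ← Subgroup.orderOf_coe]; exact hle _
    · calc 4 = Nat.card (zpowers g4) := by rw [Nat.card_zpowers, hg4]
        _ ≤ _ := card_le_of_le hT
  rcases Cfsg.Agent.S0016.result 2 T.2 huniqT with hc | ⟨-, n, ⟨q⟩⟩
  · exact Or.inl (hcyc4 hc)
  have hn : n ≤ 1 := by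
    have h1 := hle ((q.symm (QuaternionGroup.a 1) : (T : Subgroup G)) : G)
    rw [Subgroup.orderOf_coe, MulEquiv.orderOf_eq, QuaternionGroup.orderOf_a_one] at h1
    by_contra h
    have := Nat.pow_le_pow_right (show 0 < 2 by norm_num) (show 2 ≤ n by omega)
    omega
  interval_cases n
  · refine Or.inl (hcyc4 ?_)
    have hc : IsCyclic (QuaternionGroup (2 ^ 0)) := by
      refine isCyclic_of_orderOf_eq_card (QuaternionGroup.xa 0) ?_
      rw [QuaternionGroup.orderOf_xa, Nat.card_eq_fintype_card, QuaternionGroup.card]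
      norm_num
    exact isCyclic_of_surjective q.symm.toMonoidHom q.symm.surjective
  · exact Or.inr ⟨e.symm.trans q⟩

/-- A group of order six with an involution inverting nothing trivially is `S₃`. -/
theorem iso_perm_three {Q : Type u} [Group Q] [Finite Q] (hQ : Nat.card Q = 6) (hmix : Mix Q) :
    Nonempty (Q ≃* Equiv.Perm (Fin 3)) := by
  classical
  have := Fact.mk Nat.prime_two
  have := Fact.mk Nat.prime_three
  obtain ⟨s, hs⟩ := exists_prime_orderOf_dvd_card' (G := Q) 2 (by rw [hQ]; norm_num)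
  obtain ⟨r, hr⟩ := exists_prime_orderOf_dvd_card' (G := Q) 3 (by rw [hQ]; norm_num)
  set S := zpowers s with hS
  have hSc : Nat.card S = 2 := by rw [Nat.card_zpowers, hs]
  have hSi : Nat.card (Q ⧸ S) = 3 := by
    have h := S.card_mul_index
    rw [hSc, hQ, index_eq_card] at h
    omega
  let f : Q →* Equiv.Perm (Q ⧸ S) := MulAction.toPermHom Q (Q ⧸ S)
  have hfi : Function.Injective f := by
    rw [← MonoidHom.ker_eq_bot_iff, ← Subgroup.normalCore_eq_ker]
    by_contra hne
    have hle := S.normalCore_le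
    have heq : S.normalCore = S := eq_of_le_of_card_ge hle (by
      rw [hSc]; exact (one_lt_card_iff_ne_bot _).mpr hne)
    have hn : S.Normal := heq ▸ S.normalCore_normal
    have h1 := hn.conj_mem s (mem_zpowers s) r
    obtain ⟨i, hi⟩ := (mem_zpowers_iff.mp h1)
    have h2 : r * s * r⁻¹ = s := by
      have hm : s ^ i = s ^ (i % 2) := by
        rw [← zpow_mod_orderOf, hs]; rfl
      rw [← hi, hm]
      rcases Int.emod_two_eq_zero_or_one i with h | h <;> rw [h]
      · exfalso
        rw [hm, h, zpow_zero] at hi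
        have h3 := conj_eq_one_iff.mp hi.symm
        rw [h3, orderOf_one] at hs
        omega
      · exact zpow_one s
    exact hmix s r hs hr (mul_inv_eq_iff_eq_mul.mp h2).symm
  let _ : Fintype (Q ⧸ S) := Fintype.ofFinite _
  have hfb : Function.Bijective f := (Nat.bijective_iff_injective_and_card _).mpr
    ⟨hfi, by rw [hQ, Nat.card_perm, hSi]; rfl⟩
  exact ⟨(MulEquiv.ofBijective f hfb).trans
    (Equiv.permCongrHom (Fintype.equivFinOfCardEq (by rw [← Nat.card_eq_fintype_card, hSi])))⟩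

/-- The case of trivial `3`-core. -/
theorem case_two (hle : ∀ g : G, orderOf g ≤ 4) (h3 : ∃ g : G, orderOf g = 3)
    (h4 : ∃ g : G, orderOf g = 4) (hO3 : Cfsg.pCore 3 G = ⊥) :
    ∃ (N : Subgroup G) (_ : N.Normal),
      (IsPGroup 2 ↥N ∧ Monoid.exponent ↥N = 4 ∧ Group.nilpotencyClass ↥N ≤ 2 ∧ N.index = 3) ∨
      (Cfsg.IsElementaryAbelian 2 N ∧ Nonempty (G ⧸ N ≃* Equiv.Perm (Fin 3))) := by
  have := Fact.mk Nat.prime_two
  have := Fact.mk Nat.prime_three
  obtain ⟨g3, hg3⟩ := h3
  have hsol : Group.IsSolvable G := solvable hle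
  set U := Cfsg.pCore 2 G with hU
  have hUn : U.Normal := CfsgLib.Solvable.pCore_normal 2 G
  have hUp := CfsgLib.Solvable.pCore_isPGroup 2 G
  have hU4 : ∀ u ∈ U, u ^ 4 = 1 := fun u hu => (pow_of_pgroup hle hUp hu).1 rfl
  have hUfix : ∀ u ∈ U, ∀ r : G, orderOf r = 3 → Commute r u → u = 1 := by
    intro u hu r hr hc
    by_contra hu1
    obtain ⟨u', hu', huo⟩ := exists_orderOf_in (p := 2) (hUp.to_le (zpowers_le.mpr hu))
      (zpowers_ne_bot.mpr hu1)
    obtain ⟨k, rfl⟩ := mem_zpowers_iff.mp hu'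
    exact mix hle _ r huo hr (hc.symm.zpow_left k)
  have hGnt : Nontrivial G := ⟨⟨g3, 1, fun h => by rw [h, orderOf_one] at hg3; omega⟩⟩
  obtain ⟨W0, hW0n, hW01, hW0c, hW0U⟩ : ∃ W : Subgroup G, W.Normal ∧ W ≠ ⊥ ∧ IsMulCommutative W ∧
      W ≤ U := by
    obtain ⟨W, hWn, hW1, -, hWmin⟩ :=
      CfsgLib.Solvable.exists_minimal_normal_le (⊤ : Subgroup G) top_ne_bot
    obtain ⟨hWc, p, hp, hWp⟩ := CfsgLib.Solvable.minimal_normal_elementary_abelian W hW1 hWmin
    have := Fact.mk hp
    have hWpg : IsPGroup p W := fun x => ⟨1, Subtype.ext (by simpa using hWp x x.2)⟩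
    obtain ⟨w, hw, hwo⟩ := exists_orderOf_in hWpg hW1
    rcases primes hle hp (hwo ▸ orderOf_dvd_natCard w) with rfl | rfl
    · exact ⟨W, hWn, hW1, hWc, CfsgLib.Solvable.le_pCore hWn hWpg⟩
    · exact absurd ((CfsgLib.Solvable.pCore_eq_bot_iff).mp hO3 W hWn hWpg) hW1
  obtain ⟨R⟩ := (inferInstance : Nonempty (Sylow 3 G))
  -- the Sylow `3`-subgroup has order three
  obtain ⟨b, hb⟩ := IsPGroup.iff_card.mp R.2
  have hb1 : b = 1 := by
    by_contra hb1
    have hb0 : b ≠ 0 := by
      rintro rfl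
      have h := R.card_eq_multiplicity
      rw [hb] at h
      have h' : (Nat.card G).factorization 3 ≠ 0 := (Nat.prime_three.factorization_pos_of_dvd
        Nat.card_pos.ne' (hg3 ▸ orderOf_dvd_natCard g3)).ne'
      exact absurd h.symm (ne_of_gt (Nat.one_lt_pow h' (by norm_num)))
    obtain ⟨A, hA⟩ := Sylow.exists_subgroup_card_pow_prime (G := (R : Subgroup G)) 3 (n := 2)
      (by rw [hb]; exact pow_dvd_pow 3 (by omega))
    refine hW01 (CfsgLib.Frobenius.eq_bot_of_elementary_fpf (A := A.map (R : Subgroup G).subtype)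
      (by rw [normalizer_eq_top_iff.mpr hW0n]; exact le_top) (fun a ha ha1 => ?_) Nat.prime_three
      (by rw [card_map_of_injective (subtype_injective _), hA])
      fun a ha => (pow_of_pgroup hle R.2 (map_subtype_le A ha)).2 rfl)
    rw [eq_bot_iff]
    intro u hu'
    obtain ⟨hu, huc⟩ := Subgroup.mem_inf.mp hu'
    exact mem_bot.mpr (hUfix u (hW0U hu) a (orderOf_eq_prime ((pow_of_pgroup hle R.2 (map_subtype_le A ha)).2 rfl) ha1)
      (mem_centralizer_singleton_iff.mp huc).symm)
  subst hb1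
  rw [pow_one] at hb
  set π := QuotientGroup.mk' U with hπ
  have hQle := le_quotient hle U
  have hQO2 : Cfsg.pCore 2 (G ⧸ U) = ⊥ := CfsgLib.Solvable.pCore_quotient_eq_bot U rfl
  have hQ3 : 3 ∣ Nat.card (G ⧸ U) := by
    obtain ⟨k, hk⟩ := IsPGroup.iff_card.mp hUp
    have h1 := hg3 ▸ orderOf_dvd_natCard g3
    rw [Subgroup.card_eq_card_quotient_mul_card_subgroup U, hk] at h1
    exact (Nat.prime_three.dvd_mul.mp h1).resolve_right fun h =>
      absurd (Nat.prime_three.dvd_of_dvd_pow h) (by norm_num)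
  have hQsol : Group.IsSolvable (G ⧸ U) := solvable hQle
  have : Nontrivial (G ⧸ U) := Finite.one_lt_card_iff_nontrivial.mp
    (lt_of_lt_of_le (by norm_num) (Nat.le_of_dvd Nat.card_pos hQ3))
  obtain ⟨Z, hZn, hZ1, -, hZmin⟩ :=
    CfsgLib.Solvable.exists_minimal_normal_le (⊤ : Subgroup (G ⧸ U)) top_ne_bot
  obtain ⟨-, p, hp, hZp⟩ := CfsgLib.Solvable.minimal_normal_elementary_abelian Z hZ1 hZmin
  have := Fact.mk hp
  have hZpg : IsPGroup p Z := fun x => ⟨1, Subtype.ext (by simpa using hZp x x.2)⟩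
  obtain ⟨z, hz, hzo⟩ := exists_orderOf_in hZpg hZ1
  obtain rfl : p = 3 := (primes hQle hp (hzo ▸ orderOf_dvd_natCard z)).resolve_left fun h => by
    subst h
    exact hZ1 ((CfsgLib.Solvable.pCore_eq_bot_iff).mp hQO2 Z hZn hZpg)
  let RQ : Sylow 3 (G ⧸ U) := R.mapSurjective (f := π) (QuotientGroup.mk'_surjective U)
  have hRQ : Nat.card (RQ : Subgroup (G ⧸ U)) ≤ 3 := (Nat.le_of_dvd Nat.card_pos
    (Subgroup.card_map_dvd (H := (R : Subgroup G)) π)).trans hb.le
  have hZc : Nat.card Z = 3 := by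
    refine le_antisymm ((card_le_of_le (hZpg.le_sylow_of_normal RQ)).trans hRQ) ?_
    calc 3 = Nat.card (zpowers z) := by rw [Nat.card_zpowers, hzo]
      _ ≤ _ := card_le_of_le (zpowers_le.mpr hz)
  set ψ : (G ⧸ U) →* MulAut Z := MulAut.conjNormal with hψ
  have hker : Nat.card ψ.ker = 3 := by
    have h2 : ¬ 2 ∣ Nat.card ψ.ker := by
      intro h2
      obtain ⟨s, hs⟩ := exists_prime_orderOf_dvd_card' (G := ψ.ker) 2 h2
      refine mix hQle (s : G ⧸ U) z (by rw [Subgroup.orderOf_coe, hs]) hzo ?_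
      have h1 : ψ (s : G ⧸ U) ⟨z, hz⟩ = ⟨z, hz⟩ := by rw [MonoidHom.mem_ker.mp s.2]; rfl
      exact mul_inv_eq_iff_eq_mul.mp (congrArg Subtype.val h1)
    have hk3 : IsPGroup 3 ψ.ker := by
      refine IsPGroup.of_card (Nat.eq_prime_pow_of_unique_prime_dvd (p := 3) Nat.card_pos.ne'
        fun {d} hd hdd => ?_)
      exact (primes hQle hd (hdd.trans (card_subgroup_dvd_card _))).resolve_left fun h => h2 (h ▸ hdd)
    have hn : ψ.ker.Normal := inferInstance
    refine le_antisymm ((card_le_of_le (hk3.le_sylow_of_normal RQ)).trans hRQ) ?_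
    rw [← hZc]
    refine card_le_of_le fun w hw => MonoidHom.mem_ker.mpr (MulEquiv.ext fun v => Subtype.ext ?_)
    show ((MulAut.conjNormal w v : Z) : G ⧸ U) = v
    rw [MulAut.conjNormal_apply]
    have hcyc : IsCyclic Z := isCyclic_of_prime_card hZc
    let _ : CommGroup Z := IsCyclic.commGroup
    have h := congrArg Subtype.val (mul_comm (⟨w, hw⟩ : Z) v)
    exact mul_inv_eq_iff_eq_mul.mpr h
  have hcyc : IsCyclic Z := isCyclic_of_prime_card hZc
  have hQcard : Nat.card (G ⧸ U) = 3 ∨ Nat.card (G ⧸ U) = 6 := by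
    have h1 := ψ.ker.card_mul_index
    rw [hker, index_ker] at h1
    have h2 : Nat.card ψ.range ≤ 2 := by
      refine (Finite.card_subtype_le _).trans ?_
      rw [IsCyclic.card_mulAut, hZc]
      decide
    have h3 : 0 < Nat.card ψ.range := Nat.card_pos
    omega
  -- an element of order three acting fixed-point-freely on `U`
  obtain ⟨r, hrR, hr⟩ := exists_orderOf_in R.2 (fun h => by rw [h, card_bot] at hb; omega)
  let ρ : MulAut U := MulAut.conjNormal r
  have hr3 : r * r * r = 1 := by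
    have h := pow_orderOf_eq_one r
    rw [hr, pow_succ, pow_two] at h
    exact h
  have h3ρ : ∀ y : U, ρ (ρ (ρ y)) = y := fun y => Subtype.ext (by
    simp only [ρ, MulAut.conjNormal_apply]
    calc r * (r * (r * (y : G) * r⁻¹) * r⁻¹) * r⁻¹ = (r * r * r) * y * (r * r * r)⁻¹ := by group
      _ = y := by rw [hr3]; group)
  have hfρ : ∀ y : U, ρ y = y → y = 1 := fun y hy => Subtype.ext
    (hUfix y y.2 r hr (mul_inv_eq_iff_eq_mul.mp (congrArg Subtype.val hy)))
  have h3U : ∀ y : U, y ^ 3 = 1 → y = 1 := fun y hy => by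
    have h4' : y ^ 4 = 1 := Subtype.ext (by simpa using hU4 y y.2)
    rwa [pow_succ, hy, one_mul] at h4'
  have hcl := CfsgLib.Solvable.FpfThree.class_two h3ρ hfρ h3U
  rcases hQcard with h | h
  · refine ⟨U, hUn, Or.inl ⟨hUp, ?_, ?_, by rw [index_eq_card, h]⟩⟩
    · refine Nat.dvd_antisymm (Monoid.exponent_dvd_of_forall_pow_eq_one fun y => Subtype.ext
        (by simpa using hU4 y y.2)) ?_
      obtain ⟨g4, hg4⟩ := h4
      have hg4U : g4 ∈ U := by
        rw [← QuotientGroup.eq_one_iff, ← orderOf_eq_one_iff, ← Nat.dvd_one]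
        have h5 := Nat.dvd_gcd (orderOf_map_dvd π g4) (orderOf_dvd_natCard (π g4))
        rw [hg4, h] at h5
        exact h5
      rw [← hg4, ← Subgroup.orderOf_mk g4 hg4U]
      exact Monoid.order_dvd_exponent _
    · have := hUp.isNilpotent
      rw [← Subgroup.upperCentralSeries_eq_top_iff_nilpotencyClass_le, eq_top_iff]
      intro x _
      rw [Subgroup.mem_upperCentralSeries_succ_iff]
      intro y
      rw [Subgroup.upperCentralSeries_one, mem_center_iff]
      exact fun w => (hcl x y w).eq.symm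
  · refine ⟨U, hUn, Or.inr ⟨?_, iso_perm_three h (mix hQle)⟩⟩
    -- an involution inverting `r`
    obtain ⟨t, ht, htr⟩ : ∃ t : G, orderOf t = 2 ∧ t * r * t⁻¹ = r⁻¹ := by
      set M := (RQ : Subgroup (G ⧸ U)).comap π with hM
      have hRQZ : (RQ : Subgroup (G ⧸ U)) = Z :=
        (eq_of_le_of_card_ge (hZpg.le_sylow_of_normal RQ) (hRQ.trans hZc.ge)).symm
      have hMn : M.Normal := by rw [hM, hRQZ]; exact hZn.comap π
      have hRM : (R : Subgroup G) ≤ M := fun x hx => mem_map_of_mem π hx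
      have htop : normalizer ((R : Subgroup G) : Set G) ⊔ M = ⊤ := by
        have := Sylow.normalizer_sup_eq_top (R.subtype hRM)
        rwa [Sylow.coe_subtype, subgroupOf_map_subtype, inf_eq_left.mpr hRM] at this
      have htop' : normalizer ((R : Subgroup G) : Set G) ⊔ U = ⊤ := by
        rw [eq_top_iff, ← htop]
        refine sup_le le_sup_left fun x hx => ?_
        obtain ⟨y, hy, hxy⟩ := hx
        have h5 : y⁻¹ * x ∈ U := QuotientGroup.eq.mp hxy
        simpa using mul_mem_sup (Subgroup.le_normalizer hy) h5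
      set NR := normalizer ((R : Subgroup G) : Set G) with hNR
      have hinj : ∀ x ∈ NR, x ∈ U → x = 1 := by
        intro x hx hxU
        refine hUfix x hxU r hr ?_
        have h5 : x * r * x⁻¹ * r⁻¹ ∈ U ⊓ (R : Subgroup G) := by
          refine Subgroup.mem_inf.mpr ⟨?_, mul_mem ((Subgroup.mem_normalizer_iff.mp hx r).mp hrR) (inv_mem hrR)⟩
          rw [show x * r * x⁻¹ * r⁻¹ = x * (r * x⁻¹ * r⁻¹) by group]
          exact mul_mem hxU (hUn.conj_mem _ (inv_mem hxU) r)
        rw [disjoint_iff.mp (IsPGroup.disjoint_of_ne 2 3 (by norm_num) _ _ hUp R.2), mem_bot,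
          mul_inv_eq_one] at h5
        exact (mul_inv_eq_iff_eq_mul.mp h5).symm
      have h2 : 2 ∣ Nat.card NR := by
        have hsurj : Function.Surjective (π.comp NR.subtype) := fun q => by
          obtain ⟨g, rfl⟩ := QuotientGroup.mk'_surjective U q
          obtain ⟨n, hn, v, hv, rfl⟩ := Subgroup.mem_sup_of_normal_right.mp (htop' ▸ mem_top g)
          exact ⟨⟨n, hn⟩, by
            show π n = π (n * v)
            rw [map_mul, show π v = 1 from (QuotientGroup.eq_one_iff v).mpr hv, mul_one]⟩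
        exact (by rw [h]; norm_num : 2 ∣ Nat.card (G ⧸ U)).trans (Subgroup.card_dvd_of_surjective _ hsurj)
      obtain ⟨⟨t, htN⟩, ht⟩ := exists_prime_orderOf_dvd_card' (G := NR) 2 h2
      rw [← Subgroup.orderOf_coe] at ht
      refine ⟨t, ht, ?_⟩
      have hm : t * r * t⁻¹ ∈ (R : Subgroup G) := (Subgroup.mem_normalizer_iff.mp htN r).mp hrR
      have hzr : zpowers r = (R : Subgroup G) :=
        eq_of_le_of_card_ge (zpowers_le.mpr hrR) (by rw [Nat.card_zpowers, hr, hb])
      rw [← hzr] at hm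
      obtain ⟨i, hi⟩ := mem_zpowers_iff.mp hm
      have hi' : r ^ i = r ^ (i % 3) := by rw [← zpow_mod_orderOf, hr]; rfl
      have h6 : i % 3 = 0 ∨ i % 3 = 1 ∨ i % 3 = 2 := by omega
      rcases h6 with h6 | h6 | h6 <;> rw [hi', h6] at hi
      · rw [zpow_zero] at hi
        have h7 := conj_eq_one_iff.mp hi.symm
        rw [h7, orderOf_one] at hr
        omega
      · rw [zpow_one] at hi
        exact absurd (mul_inv_eq_iff_eq_mul.mp hi.symm : Commute t r) (mix hle t r ht hr)
      · rw [zpow_two] at hi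
        rw [← hi, eq_inv_iff_mul_eq_one]
        exact hr3
    have htU : ∀ s : G, orderOf s = 2 → s ∉ U → ∀ u ∈ U, (s * u * s * u) * (s * u * s * u) = 1 := by
      intro s hs hsU u hu
      have h5 : (s * u) ^ 4 = 1 := by
        refine (orders_le (hle _)).resolve_right fun h6 => ?_
        have h7 : π s ^ 3 = 1 := by
          have := congrArg π h6
          rwa [map_pow, map_mul, show π u = 1 from (QuotientGroup.eq_one_iff u).mpr hu, mul_one,
            map_one] at this
        have h8 : π s ^ 2 = 1 := by rw [← map_pow, ← hs, pow_orderOf_eq_one, map_one]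
        rw [pow_succ, h8, one_mul] at h7
        exact hsU ((QuotientGroup.eq_one_iff s).mp h7)
      rw [← h5]
      simp only [pow_succ, pow_zero, one_mul, mul_assoc]
    have htt : t * t = 1 := by rw [← pow_two, ← ht, pow_orderOf_eq_one]
    have htnU : t ∉ U := by
      intro htU'
      refine absurd (hUfix (t * r * t⁻¹ * r⁻¹) ?_ r hr ?_) ?_
      · rw [show t * r * t⁻¹ * r⁻¹ = t * (r * t⁻¹ * r⁻¹) by group]
        exact mul_mem htU' (hUn.conj_mem _ (inv_mem htU') r)
      · rw [htr]; exact ((Commute.refl r).inv_right.mul_right (Commute.refl r).inv_right)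
      · rw [htr, ← mul_inv_rev, inv_eq_one]
        intro h6
        rw [h6, one_mul] at hr3
        rw [hr3, orderOf_one] at hr
        omega
    have hinvol : ∀ k : G, Commute k r → t * k * t⁻¹ = k⁻¹ → k ∈ (R : Subgroup G) →
        orderOf (k * t) = 2 ∧ k * t ∉ U := by
      intro k _ hk hkR
      constructor
      · refine orderOf_eq_prime ?_ fun h6 => ?_
        · rw [pow_two, show k * t * (k * t) = k * (t * k * t⁻¹) * (t * t) by group, hk, htt]
          group
        · have hk2 : k = t⁻¹ := eq_inv_of_mul_eq_one_left h6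
          have : t ∈ (R : Subgroup G) := by
            rw [hk2] at hkR
            simpa using inv_mem hkR
          have h7 := (R : Subgroup G).orderOf_dvd_natCard this
          rw [ht, hb] at h7
          norm_num at h7
      · intro h6
        refine htnU ?_
        have hd := disjoint_iff.mp (IsPGroup.disjoint_of_ne 2 3 (by norm_num) _ _ hUp R.2)
        have h7 : (k * t) * (t * (k * t) * t⁻¹)⁻¹ ∈ U :=
          mul_mem h6 (inv_mem (hUn.conj_mem _ h6 t))
        rw [show (k * t) * (t * (k * t) * t⁻¹)⁻¹ = k * (t * k * t⁻¹)⁻¹ by group, hk, inv_inv] at h7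
        have h8 : k * k ∈ U ⊓ (R : Subgroup G) := ⟨h7, mul_mem hkR hkR⟩
        rw [hd, mem_bot] at h8
        have hk3 : k ^ 3 = 1 := (pow_of_pgroup hle R.2 hkR).2 rfl
        rw [pow_succ, pow_two, h8, one_mul] at hk3
        simpa [hk3] using h6
    -- squares vanish
    have hsq : ∀ a : U, a * a = 1 := by
      intro a
      let v : U := MulAut.conjNormal t a
      have hval : ∀ k : G, k ∈ (R : Subgroup G) → t * k * t⁻¹ = k⁻¹ → Commute k r →
          ∀ w : U, (w : G) = k * (v : G) * k⁻¹ → a * w * a * w = 1 := by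
        intro k hkR hk hc w hw
        obtain ⟨h5, h6⟩ := hinvol k hc hk hkR
        have h7 := htU (k * t) h5 h6 a a.2
        have hkt : (k * t)⁻¹ = k * t := inv_eq_of_mul_eq_one_right
          (by rw [← pow_two, ← h5, pow_orderOf_eq_one])
        have h8 : k * t * (a : G) * (k * t) = w := by
          rw [hw]
          show k * t * (a : G) * (k * t) = k * ((MulAut.conjNormal t a : U) : G) * k⁻¹
          rw [MulAut.conjNormal_apply]
          calc k * t * (a : G) * (k * t) = k * t * (a : G) * (k * t)⁻¹ := by rw [hkt]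
            _ = _ := by group
        rw [h8] at h7
        have h9 : (w * a) * (w * a) = 1 := Subtype.ext h7
        have h10 := congrArg (fun z => a * z * a⁻¹) h9
        simpa [mul_assoc] using h10
      have hv := hval 1 (one_mem _) (by simp) (Commute.one_left r) v (by simp)
      have hB := hval r hrR htr (Commute.refl r) (ρ v) (MulAut.conjNormal_apply r v)
      have hC := hval (r * r) (mul_mem hrR hrR) (by
          rw [show t * (r * r) * t⁻¹ = (t * r * t⁻¹) * (t * r * t⁻¹) by group, htr, mul_inv_rev])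
        ((Commute.refl r).mul_left (Commute.refl r)) (ρ (ρ v)) (by
          show ((MulAut.conjNormal r (MulAut.conjNormal r v) : U) : G) = _
          rw [MulAut.conjNormal_apply, MulAut.conjNormal_apply]; group)
      have hprod := CfsgLib.StdForm.fpf_prod_eq_one h3ρ hfρ v
      have hcomm := CfsgLib.StdForm.fpf_commute h3ρ hfρ v
      set B := ρ v
      set C := ρ B
      set d := (a * a)⁻¹ * (B⁻¹ * (a * a) * B) with hd
      have hdc : ∀ w : U, Commute d w := fun w => by
        have := hcl (a * a)⁻¹ B⁻¹ w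
        rwa [show ⁅(a * a)⁻¹, B⁻¹⁆ = d by simp only [hd, commutatorElement_def, inv_inv, mul_assoc]] at this
      have ha4 : a * a * (a * a) = 1 := Subtype.ext (by
        simpa [pow_succ, mul_assoc] using hU4 a a.2)
      -- `a v a = v⁻¹` and likewise for `B`, `C`
      have e : ∀ w : U, a * w * a * w = 1 → a * w * a = w⁻¹ := fun w h5 =>
        eq_inv_of_mul_eq_one_left h5
      have h5 : a * a * d = 1 := by
        have h6 : (a * v * a) * (a * B * a) * (a * C * a) = 1 := by
          rw [e v hv, e B hB, e C hC, ← mul_inv_rev, ← hcomm, ← mul_inv_rev, inv_eq_one]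
          rw [show C = (v * B)⁻¹ from eq_inv_of_mul_eq_one_right hprod]
          exact inv_mul_cancel _
        calc a * a * d = a * (v * B * C) * a * d := by rw [hprod, mul_one]
          _ = a * v * B * ((C * a) * d) := by group
          _ = a * v * B * (d * (C * a)) := by rw [(hdc (C * a)).eq]
          _ = a * v * B * d * (a * a * (a * a)) * (C * a) := by rw [ha4, mul_one]; group
          _ = a * v * (B * (d * (a * a))) * (a * a) * C * a := by group
          _ = a * v * (B * ((a * a) * d)) * (a * a) * C * a := by rw [(hdc (a * a)).eq]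
          _ = a * v * ((a * a) * B) * (a * a) * C * a := by
              rw [show B * (a * a * d) = a * a * B by rw [hd]; group]
          _ = (a * v * a) * (a * B * a) * (a * C * a) := by group
          _ = 1 := h6
      have hacen : ∀ w : U, Commute (a * a) w := fun w => by
        rw [eq_inv_of_mul_eq_one_left h5]; exact (hdc w).inv_left
      have hd1 : d = 1 := by
        rw [hd, mul_assoc B⁻¹, (hacen B).eq]; group
      rwa [hd1, mul_one] at h5
    refine ⟨⟨⟨fun x y => ?_⟩⟩, fun x hx => ?_⟩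
    · have e1 := inv_eq_of_mul_eq_one_right (hsq x)
      have e2 := inv_eq_of_mul_eq_one_right (hsq y)
      have e3 := inv_eq_of_mul_eq_one_right (hsq (x * y))
      rw [mul_inv_rev, e1, e2] at e3
      exact e3.symm
    · rw [pow_two]; exact congrArg Subtype.val (hsq ⟨x, hx⟩)

/-- A finite group whose set of element orders is exactly {1, 2, 3, 4} has a normal subgroup N such that either N is a 2-group of exponent 4 and nilpotency class at most 2 with G/N of order 3, or N is an elementary abelian 2-group with G/N isomorphic to the symmetric group of degree 3, or N is an elementary abelian 3-group with G/N cyclic of order 4 or quaternion of order 8. -/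
theorem result {G : Type*} [Group G] [Finite G] (h : Set.range (orderOf : G → ℕ) = {k : ℕ | 1 ≤ k ∧ k ≤ 4}) :
    ∃ (N : Subgroup G) (_ : N.Normal),
      (IsPGroup 2 ↥N ∧ Monoid.exponent ↥N = 4 ∧ Group.nilpotencyClass ↥N ≤ 2 ∧ N.index = 3) ∨
      (Cfsg.IsElementaryAbelian 2 N ∧ Nonempty (G ⧸ N ≃* Equiv.Perm (Fin 3))) ∨
      (Cfsg.IsElementaryAbelian 3 N ∧ ((IsCyclic (G ⧸ N) ∧ N.index = 4) ∨ Nonempty (G ⧸ N ≃* QuaternionGroup 2))) := by
  have hle : ∀ g : G, orderOf g ≤ 4 := fun g => by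
    have h1 : orderOf g ∈ Set.range (orderOf : G → ℕ) := ⟨g, rfl⟩
    rw [h] at h1; exact h1.2
  have h3 : ∃ g : G, orderOf g = 3 := h.symm.subset (show (3 : ℕ) ∈ {k : ℕ | 1 ≤ k ∧ k ≤ 4} by simp)
  have h4 : ∃ g : G, orderOf g = 4 := h.symm.subset (show (4 : ℕ) ∈ {k : ℕ | 1 ≤ k ∧ k ≤ 4} by simp)
  by_cases h0 : Cfsg.pCore 3 G = ⊥
  · obtain ⟨N, hN, h1 | h1⟩ := case_two hle h3 h4 h0
    · exact ⟨N, hN, Or.inl h1⟩
    · exact ⟨N, hN, Or.inr (Or.inl h1)⟩
  · obtain ⟨N, hN, h1⟩ := case_three hle h4 h0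
    exact ⟨N, hN, Or.inr (Or.inr h1)⟩

end Cfsg.Agent.S4006
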