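import Mathlib

/-!
Mann's lower bound on the order of a p-group of given derived length. If `D` is a term of the derived
series inside the weight `v + 1` term of the lower central series, `D / D'` has order at least
`p ^ (v + 2)`; in case of equality `D'` is cyclic modulo `[D', G]`, whence `D''` gains one in weight.
-/

set_option autoImplicit false

namespace Cfsg.Agent.S4009

open Subgroup
open scoped commutatorElement

variable {G : Type*} [Group G]

/-- The lower central series of the whole group, weight `v + 1`. -/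
abbrev lcs (G : Type*) [Group G] (v : ℕ) : Subgroup G := (⊤ : Subgroup G).lowerCentralSeries v

/-- Iterated commutators with the whole group. -/
def desc (D : Subgroup G) : ℕ → Subgroup G
  | 0 => D
  | j + 1 => ⁅desc D j, (⊤ : Subgroup G)⁆

theorem desc_normal (D : Subgroup G) [hD : D.Normal] : ∀ j, (desc D j).Normal
  | 0 => hD
  | j + 1 => by
    haveI := desc_normal D j
    exact Subgroup.commutator_normal _ _

theorem commutator_commutator_le (A B C K : Subgroup G) [hK : K.Normal]
    (h1 : ⁅⁅B, C⁆, A⁆ ≤ K) (h2 : ⁅⁅C, A⁆, B⁆ ≤ K) : ⁅⁅A, B⁆, C⁆ ≤ K := by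
  set π := QuotientGroup.mk' K
  have hle : ∀ X : Subgroup G, X.map π = ⊥ ↔ X ≤ K := fun X => by
    rw [Subgroup.map_eq_bot_iff, QuotientGroup.ker_mk']
  rw [← hle, Subgroup.map_commutator, Subgroup.map_commutator]
  apply Subgroup.commutator_commutator_eq_bot_of_rotate
  · rw [← Subgroup.map_commutator, ← Subgroup.map_commutator, hle]; exact h1
  · rw [← Subgroup.map_commutator, ← Subgroup.map_commutator, hle]; exact h2

theorem commutator_sup_le (A B K : Subgroup G) [A.Normal] [B.Normal] {C : Subgroup G} [hK : K.Normal]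
    (h1 : ⁅A, C⁆ ≤ K) (h2 : ⁅B, C⁆ ≤ K) : ⁅A ⊔ B, C⁆ ≤ K := by
  set π := QuotientGroup.mk' K
  have hle : ∀ X : Subgroup G, X.map π = ⊥ ↔ X ≤ K := fun X => by
    rw [Subgroup.map_eq_bot_iff, QuotientGroup.ker_mk']
  rw [← hle, Subgroup.map_commutator, Subgroup.commutator_eq_bot_iff_le_centralizer, Subgroup.map_sup]
  refine sup_le ?_ ?_ <;>
    rw [← Subgroup.commutator_eq_bot_iff_le_centralizer, ← Subgroup.map_commutator, hle]
  exacts [h1, h2]

theorem desc_lcs (D : Subgroup G) [D.Normal] :
    ∀ m j, ⁅desc D j, lcs G m⁆ ≤ desc D (j + m + 1) := by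
  intro m
  induction m with
  | zero =>
    intro j
    exact Subgroup.commutator_mono le_rfl le_top
  | succ m ih =>
    intro j
    haveI := desc_normal D (j + (m + 1) + 1)
    rw [lcs, Subgroup.lowerCentralSeries_succ, Subgroup.commutator_comm]
    apply commutator_commutator_le
    · rw [Subgroup.commutator_comm ⊤ (desc D j)]
      refine (ih (j + 1)).trans ?_
      rw [show j + 1 + m + 1 = j + (m + 1) + 1 by omega]
    · refine (Subgroup.commutator_mono (ih j) le_rfl).trans ?_
      rw [show j + (m + 1) + 1 = (j + m + 1) + 1 by omega]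
      exact le_rfl

theorem lcs_lcs (a b : ℕ) : ⁅lcs G a, lcs G b⁆ ≤ lcs G (a + b + 1) := by
  have h : ∀ c, desc (⊤ : Subgroup G) c = lcs G c := by
    intro c
    induction c with
    | zero => rfl
    | succ c ih => rw [desc, ih, lcs, lcs, Subgroup.lowerCentralSeries_succ]
  rw [← h a, ← h (a + b + 1)]
  exact desc_lcs ⊤ b a

theorem eq_bot_of_le_commutator [Group.IsNilpotent G] (X : Subgroup G) (h : X ≤ ⁅X, (⊤ : Subgroup G)⁆) :
    X = ⊥ := by
  have h1 : ∀ c, X ≤ lcs G c := by
    intro c
    induction c with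
    | zero => exact le_top
    | succ c ih =>
      refine h.trans ((Subgroup.commutator_mono ih le_rfl).trans ?_)
      rw [lcs, lcs, Subgroup.lowerCentralSeries_succ]
  obtain ⟨c, hc⟩ := Subgroup.nilpotent_iff_lowerCentralSeries.1 ‹Group.IsNilpotent G›
  exact le_bot_iff.1 ((h1 c).trans hc.le)

theorem normal_of_between {E X : Subgroup G} (h1 : ⁅E, (⊤ : Subgroup G)⁆ ≤ X) (h2 : X ≤ E) :
    X.Normal := by
  refine ⟨fun n hn g => ?_⟩
  have : g * n * g⁻¹ = ⁅n, g⁆⁻¹ * n := by rw [commutatorElement_def]; group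
  rw [this]
  exact mul_mem (inv_mem (h1 (Subgroup.commutator_mem_commutator (h2 hn) (Subgroup.mem_top g)))) hn

/-- A subgroup generated by two elements and elements central modulo `K` has derived subgroup
generated by one commutator modulo `K`. -/
theorem commutator_le_of_pair (D M K : Subgroup G) [hK : K.Normal] (x y : G)
    (hD : D ≤ Subgroup.closure ({x, y} ∪ (M : Set G))) (hx : x ∈ D) (hy : y ∈ D)
    (hMD : M ≤ D) (hM : ⁅M, D⁆ ≤ K) (hxy : ⁅x, y⁆ ∈ K) : ⁅D, D⁆ ≤ K := by
  set π := QuotientGroup.mk' K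
  have hle : ∀ X : Subgroup G, X.map π = ⊥ ↔ X ≤ K := fun X => by
    rw [Subgroup.map_eq_bot_iff, QuotientGroup.ker_mk']
  have hc : ∀ a ∈ ({x, y} ∪ (M : Set G)), ∀ b ∈ ({x, y} ∪ (M : Set G)), π a * π b = π b * π a := by
    have key : ∀ a b, ⁅a, b⁆ ∈ K → π a * π b = π b * π a := by
      intro a b h
      rw [← commutatorElement_eq_one_iff_mul_comm, ← map_commutatorElement]
      exact (QuotientGroup.eq_one_iff _).2 h
    have hmem : ∀ a ∈ ({x, y} ∪ (M : Set G)), a ∈ D := by
      rintro a ((rfl | rfl) | ha)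
      exacts [hx, hy, hMD ha]
    intro a ha b hb
    rcases ha with ha | ha
    · rcases hb with hb | hb
      · rcases ha with rfl | rfl <;> rcases hb with rfl | rfl
        exacts [rfl, key _ _ hxy, (key _ _ hxy).symm, rfl]
      · exact (key _ _ (hM (Subgroup.commutator_mem_commutator hb (hmem a (Or.inl ha))))).symm
    · exact key _ _ (hM (Subgroup.commutator_mem_commutator ha (hmem b hb)))
  rw [← hle, Subgroup.map_commutator, Subgroup.commutator_eq_bot_iff_le_centralizer]
  have h1 : D.map π ≤ Subgroup.closure (π '' ({x, y} ∪ (M : Set G))) := by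
    rw [← MonoidHom.map_closure]; exact Subgroup.map_mono hD
  refine h1.trans ((Subgroup.closure_le _).2 ?_)
  rintro _ ⟨a, ha, rfl⟩
  rw [SetLike.mem_coe, Subgroup.mem_centralizer_iff]
  intro u hu
  have h2 : Subgroup.closure (π '' ({x, y} ∪ (M : Set G))) ≤ Subgroup.centralizer {π a} := by
    rw [Subgroup.closure_le]
    rintro _ ⟨b, hb, rfl⟩
    exact Subgroup.mem_centralizer_singleton_iff.2 (hc b hb a ha)
  exact Subgroup.mem_centralizer_singleton_iff.1 (h2 (h1 hu))

/-- A term cyclic modulo its commutator with `G` gains weight. -/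
theorem gain {E : Subgroup G} [E.Normal] {u : ℕ} (hu : E ≤ lcs G u) {c : G} (hc : c ∈ E)
    (hE : E ≤ Subgroup.zpowers c ⊔ ⁅E, (⊤ : Subgroup G)⁆) : ⁅E, E⁆ ≤ lcs G (2 * u + 2) := by
  refine commutator_le_of_pair E ⁅E, (⊤ : Subgroup G)⁆ _ c c ?_ hc hc (Subgroup.commutator_le_left _ _) ?_ ?_
  · refine hE.trans (sup_le (Subgroup.zpowers_le.2 (Subgroup.subset_closure (by simp))) ?_)
    exact fun a ha => Subgroup.subset_closure (Or.inr ha)
  · have h1 : ⁅E, (⊤ : Subgroup G)⁆ ≤ lcs G (u + 1) := by
      refine (Subgroup.commutator_mono hu le_rfl).trans ?_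
      rw [lcs, lcs, Subgroup.lowerCentralSeries_succ]
    refine (Subgroup.commutator_mono h1 hu).trans ((lcs_lcs _ _).trans ?_)
    rw [show u + 1 + u + 1 = 2 * u + 2 by omega]
  · rw [commutatorElement_self]; exact one_mem _

variable [Finite G] {p : ℕ} [hp : Fact p.Prime]

theorem le_sup_zpowers_of_index (A B : Subgroup G) (hBA : B ≤ A) (hA : IsPGroup p G) {a : ℕ}
    (hidx : Nat.card A ≤ p ^ (a + 1) * Nat.card B) :
    ∃ x ∈ A, Nat.card A ≤ p ^ a * Nat.card (B ⊔ Subgroup.zpowers x : Subgroup G) := by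
  by_cases h : A ≤ B
  · exact ⟨1, one_mem A, (Subgroup.card_le_of_le (h.trans le_sup_left)).trans
      (Nat.le_mul_of_pos_left _ (pow_pos hp.out.pos a))⟩
  obtain ⟨x, hx, hxB⟩ := SetLike.not_le_iff_exists.1 h
  refine ⟨x, hx, ?_⟩
  obtain ⟨i, hi⟩ := (hA.to_subgroup B).exists_card_eq
  obtain ⟨j, hj⟩ := (hA.to_subgroup (B ⊔ Subgroup.zpowers x : Subgroup G)).exists_card_eq
  obtain ⟨l, hl⟩ := (hA.to_subgroup A).exists_card_eq
  have hlt : B < B ⊔ Subgroup.zpowers x := lt_of_le_of_ne le_sup_left fun e =>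
    hxB (e ▸ Subgroup.mem_sup_right (Subgroup.mem_zpowers x))
  have h1 : i < j := by
    refine (Nat.pow_lt_pow_iff_right hp.out.one_lt).1 ?_
    rw [← hi, ← hj]
    exact lt_of_le_of_ne (Subgroup.card_le_of_le hlt.le) fun e =>
      hlt.ne (Subgroup.eq_of_le_of_card_ge hlt.le e.ge)
  rw [hl, hi, ← pow_add] at hidx
  rw [hl, hj, ← pow_add]
  have := (Nat.pow_le_pow_iff_right hp.out.one_lt).1 hidx
  exact Nat.pow_le_pow_right hp.out.pos (by omega)

/-- The basic lemma on one layer of the derived series. -/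
theorem layer (hG : IsPGroup p G) (D : Subgroup G) [D.Normal] {v : ℕ} (hv : D ≤ lcs G v)
    (hE : ⁅D, D⁆ ≠ ⊥) {d e : ℕ} (hd : Nat.card D = p ^ d) (he : Nat.card (⁅D, D⁆ : Subgroup G) = p ^ e) :
    e + v + 2 ≤ d ∧ (d = e + v + 2 →
      ∃ c ∈ ⁅D, D⁆, ⁅D, D⁆ ≤ Subgroup.zpowers c ⊔ ⁅(⁅D, D⁆ : Subgroup G), (⊤ : Subgroup G)⁆) := by
  haveI := hG.isNilpotent
  set E : Subgroup G := ⁅D, D⁆ with hEdef
  set K : Subgroup G := ⁅E, (⊤ : Subgroup G)⁆ with hKdef
  have hEn : E.Normal := Subgroup.commutator_normal _ _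
  haveI hKn : K.Normal := Subgroup.commutator_normal _ _
  have hN := desc_normal D
  have hED : E ≤ D := Subgroup.commutator_le_left _ _
  have hKE : K ≤ E := Subgroup.commutator_le_left _ _
  have hE1 : E ≤ desc D (v + 1) := by
    have h := (Subgroup.commutator_mono (le_refl (desc D 0)) hv).trans (desc_lcs D v 0)
    rwa [zero_add] at h
  have hEK : ¬ E ≤ K := fun h => hE (eq_bot_of_le_commutator E h)
  -- the chain above `E`
  have hND : ∀ j, desc D j ≤ D := by
    intro j
    induction j with
    | zero => exact le_rfl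
    | succ j ih =>
      haveI := hN j
      exact (Subgroup.commutator_le_left _ _).trans ih
  have hNanti : ∀ j, desc D (j + 1) ≤ desc D j := fun j => by
    haveI := hN j
    exact Subgroup.commutator_le_left _ _
  have hstep : ∀ j, ¬ desc D j ≤ E → (desc D (j + 1) ⊔ E) < desc D j ⊔ E := by
    intro j hj
    refine lt_of_le_of_ne (sup_le_sup_right (hNanti j) E) fun heq => hj ?_
    have h1 : ∀ m, desc D j ≤ desc D (j + m) ⊔ E := by
      intro m
      induction m with
      | zero => exact le_sup_left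
      | succ m ih =>
        have h0 : desc D j ≤ desc D (j + 1) ⊔ E := heq ▸ le_sup_left
        refine h0.trans (sup_le ?_ le_sup_right)
        haveI := hN (j + m)
        haveI := hN (j + (m + 1))
        refine (Subgroup.commutator_mono ih le_rfl).trans (commutator_sup_le _ _ _ ?_ ?_)
        · exact le_sup_left
        · exact (Subgroup.commutator_le_left E _).trans le_sup_right
    obtain ⟨c, hc⟩ := Subgroup.nilpotent_iff_lowerCentralSeries.1 (inferInstance : Group.IsNilpotent G)
    have h2 : ∀ m, desc D m ≤ lcs G m := by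
      intro m
      induction m with
      | zero => exact le_top
      | succ m ih =>
        refine (Subgroup.commutator_mono ih le_rfl).trans ?_
        rw [lcs, lcs, Subgroup.lowerCentralSeries_succ]
    refine (h1 c).trans (sup_le (((h2 _).trans (Subgroup.lowerCentralSeries_antitone ⊤ ?_)).trans
      (hc.le.trans bot_le)) le_rfl)
    omega
  have hcards : ∀ j, ∃ f, Nat.card (desc D j ⊔ E : Subgroup G) = p ^ f := fun j =>
    (hG.to_subgroup _).exists_card_eq
  choose f hf using hcards
  have hf0 : f 0 = d := by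
    apply Nat.pow_right_injective hp.out.two_le
    show p ^ f 0 = p ^ d
    rw [← hf, ← hd]
    show Nat.card (D ⊔ E : Subgroup G) = _
    rw [sup_eq_left.2 hED]
  have hflt : ∀ j, ¬ desc D j ≤ E → f (j + 1) < f j := fun j hj => by
    refine (Nat.pow_lt_pow_iff_right hp.out.one_lt).1 ?_
    rw [← hf, ← hf]
    exact lt_of_le_of_ne (Subgroup.card_le_of_le (hstep j hj).le) fun e' =>
      (hstep j hj).ne (Subgroup.eq_of_le_of_card_ge (hstep j hj).le e'.ge)
  have hfe : ∀ j, e ≤ f j := fun j => by
    refine (Nat.pow_le_pow_iff_right hp.out.one_lt).1 ?_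
    rw [← hf, ← he]
    exact Subgroup.card_le_of_le le_sup_right
  have hnot : ∀ j, j ≤ v → ¬ desc D j ≤ E := by
    intro j hj h
    apply hEK
    have h1 : desc D v ≤ E := by
      obtain ⟨m, rfl⟩ := Nat.exists_eq_add_of_le hj
      clear hE1 hj
      induction m with
      | zero => exact h
      | succ m ih => exact (hNanti (j + m)).trans (ih (hv.trans (Subgroup.lowerCentralSeries_antitone ⊤ (by omega))))
    exact hE1.trans (Subgroup.commutator_mono h1 le_rfl)
  have hfj : ∀ j, j ≤ v + 1 → f j + j ≤ d := by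
    intro j
    induction j with
    | zero => intro _; omega
    | succ j ih =>
      intro hj
      have := hflt j (hnot j (by omega))
      have := ih (by omega)
      omega
  have hbot : ∀ j, f j ≤ e → desc D j ≤ E := fun j hj => by
    have h : E = desc D j ⊔ E := Subgroup.eq_of_le_of_card_ge le_sup_right (by
      rw [hf, he]; exact Nat.pow_le_pow_right hp.out.pos hj)
    exact h ▸ le_sup_left
  have hfe1 := hfe (v + 1)
  have hfv := hfj (v + 1) le_rfl
  have hMD : ∀ j, desc D j ⊔ E ≤ D := fun j => sup_le (hND j) hED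
  have hclose : ∀ (x y : G) (j : ℕ), D ≤ (desc D j ⊔ E) ⊔ (Subgroup.zpowers x ⊔ Subgroup.zpowers y) →
      D ≤ Subgroup.closure ({x, y} ∪ ((desc D j ⊔ E : Subgroup G) : Set G)) := by
    intro x y j h
    refine h.trans (sup_le (fun a ha => Subgroup.subset_closure (Or.inr ha)) (sup_le ?_ ?_)) <;>
      refine Subgroup.zpowers_le.2 (Subgroup.subset_closure ?_) <;> simp
  have hcomm : ∀ j m, desc D m ≤ E → m < j + v + 1 → ∀ K' : Subgroup G, K'.Normal → K ≤ K' →
      ⁅desc D j ⊔ E, D⁆ ≤ K' := by
    intro j m hm hmj K' hK'n hKK'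
    haveI := hN j
    refine commutator_sup_le (hK := hK'n) _ _ _ ?_
      (le_trans (Subgroup.commutator_mono le_rfl le_top) hKK')
    refine ((Subgroup.commutator_mono le_rfl hv).trans (desc_lcs D v j)).trans (le_trans ?_ hKK')
    obtain ⟨l, hl⟩ := Nat.exists_eq_add_of_le (Nat.lt_iff_add_one_le.1 hmj)
    rw [hl]
    have h3 : ∀ l, desc D (m + 1 + l) ≤ desc D (m + 1) := by
      intro l
      induction l with
      | zero => exact le_rfl
      | succ l ih => exact (hNanti _).trans ih
    exact (h3 l).trans (Subgroup.commutator_mono hm le_rfl)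
  have hgen1 : ∀ j, f j ≤ f (j + 1) + 1 →
      ∃ x ∈ (desc D j ⊔ E : Subgroup G), desc D j ⊔ E ≤ (desc D (j + 1) ⊔ E) ⊔ Subgroup.zpowers x := by
    intro j hj
    obtain ⟨x, hx, hc⟩ := le_sup_zpowers_of_index (p := p) (desc D j ⊔ E) (desc D (j + 1) ⊔ E)
      (sup_le_sup_right (hNanti j) E) hG (a := 0) (by
        rw [hf, hf, ← pow_add]; exact Nat.pow_le_pow_right hp.out.pos (by omega))
    refine ⟨x, hx, (Subgroup.eq_of_le_of_card_ge (sup_le (sup_le_sup_right (hNanti j) E)
      (Subgroup.zpowers_le.2 hx)) ?_).ge⟩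
    simpa using hc
  have hlow : e + v + 1 ≤ d := by omega
  have hne : d ≠ e + v + 1 := by
    intro hd'
    apply hEK
    have hm : desc D (v + 1) ≤ E := hbot _ (by omega)
    obtain ⟨x, hx, hgen⟩ := hgen1 0 (by
      rw [hf0]
      have h1 : ∀ l, l ≤ v → f (1 + l) + l ≤ f 1 := by
        intro l
        induction l with
        | zero => intro _; simp
        | succ l ih =>
          intro hl
          have := hflt (1 + l) (hnot _ (by omega))
          have := ih (by omega)
          rw [show 1 + (l + 1) = 1 + l + 1 by omega]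
          omega
      have := h1 v le_rfl
      have := hfe (1 + v)
      simp only [zero_add]
      omega)
    refine commutator_le_of_pair D (desc D 1 ⊔ E) K x x
      (hclose x x 1 (le_trans (le_sup_left (b := E)) (hgen.trans (sup_le_sup_left le_sup_left _))))
      (hMD 0 hx) (hMD 0 hx) (hMD 1)
      (hcomm 1 (v + 1) hm (by omega) K hKn le_rfl) (by rw [commutatorElement_self]; exact one_mem _)
  refine ⟨by omega, fun hd' => ?_⟩
  have hfrom1 : ∀ l, l ≤ v → f (1 + l) + l ≤ f 1 := by
    intro l
    induction l with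
    | zero => intro _; simp
    | succ l ih =>
      intro hl
      have := hflt (1 + l) (hnot _ (by omega))
      have := ih (by omega)
      rw [show 1 + (l + 1) = 1 + l + 1 by omega]
      omega
  have h1v := hfrom1 v le_rfl
  have main : ∀ x ∈ D, ∀ y ∈ D, ∀ j m, desc D m ≤ E → m < j + v + 1 →
      D ≤ (desc D j ⊔ E) ⊔ (Subgroup.zpowers x ⊔ Subgroup.zpowers y) →
      ∃ c ∈ E, E ≤ Subgroup.zpowers c ⊔ K := by
    intro x hx y hy j m hm hmj hgen
    refine ⟨⁅x, y⁆, Subgroup.commutator_mem_commutator hx hy, ?_⟩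
    have hn : (Subgroup.zpowers ⁅x, y⁆ ⊔ K).Normal := normal_of_between le_sup_right
      (sup_le (Subgroup.zpowers_le.2 (Subgroup.commutator_mem_commutator hx hy)) hKE)
    exact commutator_le_of_pair D (desc D j ⊔ E) _ x y (hclose x y j hgen) hx hy (hMD j)
      (hcomm j m hm hmj _ hn le_sup_right) (Subgroup.mem_sup_left (Subgroup.mem_zpowers _))
  by_cases hm : desc D (v + 1) ≤ E
  · obtain ⟨x, hx, hcx⟩ := le_sup_zpowers_of_index (p := p) D (desc D 1 ⊔ E) (hMD 1) hG (a := 1) (by
      rw [hd, hf, ← pow_add]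
      refine Nat.pow_le_pow_right hp.out.pos ?_
      have := hfe (1 + v)
      omega)
    obtain ⟨y, hy, hcy⟩ := le_sup_zpowers_of_index (p := p) D ((desc D 1 ⊔ E) ⊔ Subgroup.zpowers x)
      (sup_le (hMD 1) (Subgroup.zpowers_le.2 hx)) hG (a := 0) hcx
    refine main x hx y hy 1 (v + 1) hm (by omega) ?_
    rw [← sup_assoc]
    refine (Subgroup.eq_of_le_of_card_ge (sup_le (sup_le (hMD 1) (Subgroup.zpowers_le.2 hx))
      (Subgroup.zpowers_le.2 hy)) ?_).ge
    simpa using hcy
  · have h2 := hflt (v + 1) hm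
    have hfe2 := hfe (v + 2)
    have hm2 : desc D (v + 2) ≤ E := hbot _ (by
      rw [show v + 2 = v + 1 + 1 by omega]
      omega)
    have hd1 := hflt 0 (hnot 0 (Nat.zero_le v))
    simp only [zero_add] at hd1
    rw [show 1 + v = v + 1 by omega] at h1v
    rw [show v + 1 + 1 = v + 2 by omega] at h2
    obtain ⟨x, hx, hgx⟩ := hgen1 0 (by simp only [zero_add]; omega)
    obtain ⟨y, hy, hgy⟩ := hgen1 1 (by
      rcases Nat.eq_zero_or_pos v with hv0 | hv0
      · subst hv0; simp only [zero_add, show 1 + 1 = 2 from rfl] at h2 hfe2 hfv h1v ⊢; omega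
      · have h2' : ∀ l, l + 1 ≤ v → f (2 + l) + l ≤ f 2 := by
          intro l
          induction l with
          | zero => intro _; simp
          | succ l ih =>
            intro hl
            have := hflt (2 + l) (hnot _ (by omega))
            have := ih (by omega)
            rw [show 2 + (l + 1) = 2 + l + 1 by omega]
            omega
        have := h2' (v - 1) (by omega)
        rw [show 2 + (v - 1) = v + 1 by omega] at this
        simp only [show 1 + 1 = 2 from rfl]
        omega)
    refine main x (hMD 0 hx) y (hMD 1 hy) 2 (v + 2) hm2 (by omega) ?_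
    refine (le_sup_left (b := E)).trans (hgx.trans (sup_le (hgy.trans ?_) ?_))
    · exact sup_le le_sup_left (le_sup_of_le_right le_sup_right)
    · exact le_sup_of_le_right le_sup_left

/-- Let P be a finite p-group of order p^n whose derived length is exactly k + 1 (the k-th derived subgroup is nontrivial and the (k+1)-st is trivial). Then n ≥ 2^k + 2k − 2. -/
theorem result {P : Type*} [Group P] [Finite P] (p : ℕ) [Fact p.Prime] (n k : ℕ) (hcard : Nat.card P = p ^ n) (hk : derivedSeries P k ≠ ⊥) (hk' : derivedSeries P (k + 1) = ⊥) : 2 ^ k + 2 * k ≤ n + 2 := by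
  have hp : p.Prime := Fact.out
  have hP : IsPGroup p P := IsPGroup.of_card hcard
  have hlcs : ∀ m, derivedSeries P m ≤ lcs P (2 ^ m - 1) := by
    intro m
    induction m with
    | zero => exact le_top
    | succ m ih =>
      rw [derivedSeries_succ]
      refine (Subgroup.commutator_mono ih ih).trans ((lcs_lcs _ _).trans (le_of_eq ?_))
      congr 1
      have := Nat.one_le_two_pow (n := m)
      rw [pow_succ]
      omega
  choose e he using fun m => (hP.to_subgroup (derivedSeries P m)).exists_card_eq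
  have he0 : e 0 = n := by
    apply Nat.pow_right_injective hp.two_le
    show p ^ e 0 = p ^ n
    rw [← he, ← hcard, derivedSeries_zero, Subgroup.card_top]
  have hne : ∀ m, m ≤ k → derivedSeries P m ≠ ⊥ := fun m hm h =>
    hk (le_bot_iff.1 (h ▸ derivedSeries_antitone P hm))
  have hek : 1 ≤ e k := by
    by_contra h
    apply hk
    rw [← Subgroup.card_eq_one, he, show e k = 0 by omega, pow_zero]
  have hlayer : ∀ m, m < k → ∀ v, derivedSeries P m ≤ lcs P v →
      e (m + 1) + v + 2 ≤ e m ∧ (e m = e (m + 1) + v + 2 → ∀ u, derivedSeries P (m + 1) ≤ lcs P u →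
        derivedSeries P (m + 2) ≤ lcs P (2 * u + 2)) := by
    intro m hm v hv
    have hne' := hne (m + 1) hm
    have hc := he (m + 1)
    rw [derivedSeries_succ] at hne' hc
    obtain ⟨h1, h2⟩ := layer hP (derivedSeries P m) hv hne' (he m) hc
    refine ⟨h1, fun heq u hu => ?_⟩
    obtain ⟨c, hc1, hc2⟩ := h2 heq
    rw [derivedSeries_succ] at hu
    rw [derivedSeries_succ, derivedSeries_succ]
    exact gain hu hc1 hc2
  have inv : ∀ m, m ≤ k →
      e m + 2 ^ m + 2 * m ≤ n + 1 ∨
      (derivedSeries P (m + 1) ≤ lcs P (2 ^ (m + 1)) ∧ e m + 2 ^ m + 2 * m ≤ n + 2) ∨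
      (derivedSeries P m ≤ lcs P (2 ^ m) ∧ e m + 2 ^ m + 2 * m ≤ n + 3) := by
    intro m
    induction m with
    | zero => intro _; exact Or.inl (by simp [he0])
    | succ m ih =>
      intro hm
      have hpos := Nat.one_le_two_pow (n := m)
      have hpow : 2 ^ (m + 1) = 2 ^ m * 2 := pow_succ 2 m
      obtain ⟨h1, h2⟩ := hlayer m (by omega) _ (hlcs m)
      rcases ih (by omega) with h | ⟨hg, h⟩ | ⟨hg, h⟩
      · by_cases heq : e m = e (m + 1) + (2 ^ m - 1) + 2
        · refine Or.inr (Or.inl ⟨?_, by omega⟩)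
          refine (h2 heq _ (hlcs (m + 1))).trans (le_of_eq ?_)
          congr 1
          rw [pow_succ 2 (m + 1)]
          omega
        · exact Or.inl (by omega)
      · exact Or.inr (Or.inr ⟨hg, by omega⟩)
      · obtain ⟨h3, -⟩ := hlayer m (by omega) _ hg
        refine Or.inr (Or.inr ⟨?_, by omega⟩)
        rw [derivedSeries_succ]
        refine (Subgroup.commutator_mono hg hg).trans ((lcs_lcs _ _).trans
          (Subgroup.lowerCentralSeries_antitone ⊤ ?_))
        omega
  rcases inv k le_rfl with h | ⟨-, h⟩ | ⟨-, h⟩ <;> omega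

end Cfsg.Agent.S4009
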