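import Mathlib
import Cfsg.Agent.Lib.DerivedLen.Linear

/-!
Derived length of linear p-groups over an arbitrary field.
-/

set_option autoImplicit false

namespace Cfsg.Agent.S4010

/-- Let F be a field, n ≥ 1, and P a finite p-group (p a prime) admitting an injective homomorphism into the general linear group of degree n over F. Then the derived length of P is at most ⌊log₂ n⌋ + 1: that term of the derived series of P is trivial. -/
theorem result {P : Type*} [Group P] [Finite P] (p : ℕ) [Fact p.Prime] (hP : IsPGroup p P) (F : Type*) [Field F] (n : ℕ) (hn : 1 ≤ n) (ρ : P →* Matrix.GeneralLinearGroup (Fin n) F) (hρ : Function.Injective ρ) : derivedSeries P (Nat.log 2 n + 1) = ⊥ := by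
  have hp : p.Prime := Fact.out
  let ρ₁ : P →* Matrix (Fin n) (Fin n) F := (Units.coeHom _).comp ρ
  have hρ₁ : Function.Injective ρ₁ := Units.val_injective.comp hρ
  by_cases hpF : (p : F) = 0
  · let ρ₂ : P →* Module.End F (Fin n → F) :=
      (Matrix.toLinAlgEquiv' : Matrix (Fin n) (Fin n) F ≃ₐ[F] _).toAlgHom.toRingHom.toMonoidHom.comp ρ₁
    have := CfsgLib.DerivedLen.same_char hP hpF ρ₂ (Matrix.toLinAlgEquiv'.injective.comp hρ₁)
    rwa [Module.finrank_fin_fun] at this
  · let K := AlgebraicClosure F
    have h := CfsgLib.DerivedLen.cross_char (K := K) hP n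
      ((algebraMap F K).mapMatrix.toMonoidHom.comp ρ₁)
      ((Matrix.map_injective (algebraMap F K).injective).comp hρ₁)
      (fun h => hpF ((algebraMap F K).injective (by rw [map_natCast, map_zero]; exact h)))
    exact eq_bot_iff.2 ((derivedSeries_antitone P (by
      have := Nat.log_anti_left (n := n) one_lt_two hp.two_le
      omega)).trans h.le)

end Cfsg.Agent.S4010
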