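import Cfsg.Statements.S4013
import Mathlib

set_option autoImplicit false
open Cfsg

namespace Cfsg.Agent.S4013


/-- Let G be a finite p-group (p prime) and N < M normal subgroups of G such that for some g ∈ M ∖ N the conjugacy class of g is exactly M ∖ N. Then p = 2 and N has index 2 in M. -/
theorem result {G : Type*} [Group G] [Finite G] (p : ℕ) [Fact p.Prime] (hG : IsPGroup p G) (N M : Subgroup G) [N.Normal] [M.Normal] (hNM : N < M) (g : G) (hgM : g ∈ M) (hgN : g ∉ N) (hcl : {h : G | IsConj g h} = (M : Set G) \ (N : Set G)) : p = 2 ∧ N.relIndex M = 2 := by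
  have hp := (Fact.out : p.Prime)
  obtain ⟨e, he⟩ := IsPGroup.iff_card.mp hG
  have hcl : (Subgroup.centralizer ({g} : Set G)).index = Nat.card M - Nat.card N := by
    have h1 : (ConjClasses.mk g).carrier.ncard = (Subgroup.centralizer ({g} : Set G)).index := by
      rw [← ConjAct.orbit_eq_carrier_conjClasses, ← MulAction.index_stabilizer,
        ConjAct.stabilizer_eq_centralizer]
      rfl
    rw [← h1, show (ConjClasses.mk g).carrier = (M : Set G) \ (N : Set G) by
      rw [← hcl]; ext h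
      rw [ConjClasses.mem_carrier_iff_mk_eq, ConjClasses.mk_eq_mk_iff_isConj, Set.mem_ofPred_eq]
      exact isConj_comm]
    rw [Set.ncard_sdiff (SetLike.coe_subset_coe.mpr hNM.le), ← Nat.card_coe_set_eq,
      ← Nat.card_coe_set_eq]
    rfl
  set r := N.relIndex M
  have hr : Nat.card N * r = Nat.card M := by
    rw [← Nat.card_congr (Subgroup.subgroupOfEquivOfLe hNM.le).toEquiv]
    exact Subgroup.card_mul_index _
  obtain ⟨j, -, hj⟩ := (Nat.dvd_prime_pow hp).mp (he ▸
    ((Subgroup.relIndex_dvd_index_of_le hNM.le).trans (Subgroup.index_dvd_card N)) : r ∣ p ^ e)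
  have hj0 : j ≠ 0 := by
    rintro rfl
    rw [pow_zero] at hj
    rw [hj, mul_one] at hr
    exact hNM.ne (Subgroup.eq_of_le_of_card_ge hNM.le hr.ge)
  have hdvd : r - 1 ∣ p ^ e := by
    refine he ▸ (Dvd.intro_left (Nat.card N) ?_).trans
      (Subgroup.index_dvd_card (Subgroup.centralizer ({g} : Set G)))
    rw [hcl, ← hr, Nat.mul_sub, mul_one]
  obtain ⟨i, -, hi⟩ := (Nat.dvd_prime_pow hp).mp hdvd
  have hpj : p ∣ p ^ j := dvd_pow_self p hj0
  have hpos : 0 < p ^ j := pow_pos hp.pos j
  rw [hj] at hi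
  rcases Nat.eq_zero_or_pos i with rfl | hi0
  · rw [pow_zero] at hi
    have h2 : p ^ j = 2 := by omega
    have hp2 : p = 2 := (Nat.prime_dvd_prime_iff_eq hp Nat.prime_two).mp (h2 ▸ hpj)
    exact ⟨hp2, hj.trans h2⟩
  · exfalso
    have h1 : p ∣ p ^ i := dvd_pow_self p hi0.ne'
    rw [← hi] at h1
    have := Nat.dvd_sub hpj h1
    rw [show p ^ j - (p ^ j - 1) = 1 by omega] at this
    exact hp.one_lt.ne' (Nat.dvd_one.mp this)

end Cfsg.Agent.S4013
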