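import Mathlib
import Cfsg.Agent.S4417
import Cfsg.Agent.Lib.DerivedLen.Wreath

/-!
The derived length of a Sylow subgroup of a symmetric group: upper bound from the orbit sizes, lower
bound from the iterated wreath product.
-/

set_option autoImplicit false

namespace Cfsg.Agent.S4014

/-- Let p be a prime, n ≥ 1, and P a Sylow p-subgroup of the symmetric group on n letters. Then the derived length of P is exactly k = ⌊log_p n⌋ (the largest k with p^k ≤ n): the k-th derived subgroup of P is trivial and, when k ≥ 1, the (k−1)-st is not. -/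
theorem result (p : ℕ) [Fact p.Prime] (n : ℕ) (hn : 1 ≤ n) (P : Sylow p (Equiv.Perm (Fin n))) : derivedSeries ↥(P : Subgroup (Equiv.Perm (Fin n))) (Nat.log p n) = ⊥ ∧ (1 ≤ Nat.log p n → derivedSeries ↥(P : Subgroup (Equiv.Perm (Fin n))) (Nat.log p n - 1) ≠ ⊥) := by
  have hp : p.Prime := Fact.out
  refine ⟨?_, fun hk => ?_⟩
  · rw [eq_bot_iff]
    intro g hg
    refine Subgroup.mem_bot.2 (Subtype.ext (Equiv.ext fun x => ?_))
    obtain ⟨m, hm⟩ := P.2.index (MulAction.stabilizer ↥(P : Subgroup (Equiv.Perm (Fin n))) x)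
    have hmle : m ≤ Nat.log p n := by
      apply Nat.le_log_of_pow_le hp.one_lt
      rw [← hm, MulAction.index_stabilizer, ← Nat.card_coe_set_eq]
      exact (Finite.card_subtype_le _).trans_eq (Nat.card_fin n)
    exact Cfsg.Agent.S4417.derivedSeries_le_of_index P.2 m _ hm (derivedSeries_antitone _ hmle hg)
  · obtain ⟨k, hk'⟩ := Nat.exists_eq_succ_of_ne_zero (Nat.one_le_iff_ne_zero.1 hk)
    rw [hk', Nat.succ_sub_one]
    let A := Multiplicative (ZMod p)
    have hA : Nat.card A = p := Nat.card_zmod p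
    have hle : Nat.card (Fin (k + 1) → A) ≤ n := by
      rw [Nat.card_fun, hA, Nat.card_fin]
      have := Nat.pow_log_le_self p (by omega : n ≠ 0)
      rwa [hk'] at this
    obtain ⟨ι⟩ : Nonempty ((Fin (k + 1) → A) ↪ Fin n) := by
      refine ⟨(Finite.equivFin _).toEmbedding.trans (Fin.castLEEmb hle)⟩
    have hP : IsPGroup p (IteratedWreathProduct A (k + 1)) :=
      IsPGroup.of_card (by rw [IteratedWreathProduct.card, hA])
    exact CfsgLib.DerivedLen.sylow_ne_bot hP
      ((Equiv.Perm.viaEmbeddingHom ι).comp (iteratedWreathToPermHom A (k + 1)))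
      ((Equiv.Perm.viaEmbeddingHom_injective ι).comp (iteratedWreathToPermHomInj A (k + 1)))
      (CfsgLib.DerivedLen.iterated A k) P

end Cfsg.Agent.S4014
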