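import Mathlib
import Cfsg.Agent.S4417
import Cfsg.Agent.Lib.DerivedLen.Wreath

/-!
The derived length of a cross characteristic Sylow subgroup of a general linear group: the upper bound
by eigencharacters, the lower bound by a monomial iterated wreath product.
-/

set_option autoImplicit false

namespace Cfsg.Agent.S4015

open scoped commutatorElement
open Matrix

set_option maxHeartbeats 2000000 in
theorem upper {F : Type*} [Field F] [Fintype F] (q : ℕ) (hF : Fintype.card F = q) (p : ℕ) [Fact p.Prime] (hpq : ¬ p ∣ q) (n e : ℕ) (he : e = orderOf (q : ZMod p)) (P : Subgroup (GL (Fin n) F)) (hP : IsPGroup p P) : derivedSeries ↥P (Nat.log p (n / e) + 1) = ⊥ := by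
  classical
  have hp := (inferInstance : Fact p.Prime)
  have he0 : 0 < e := by
    rcases Nat.eq_zero_or_pos e with h | h
    · exfalso
      have hq0 : (q : ZMod p) ≠ 0 := by rwa [Ne, ZMod.natCast_eq_zero_iff]
      have := orderOf_dvd_of_pow_eq_one (ZMod.pow_card_sub_one_eq_one hq0)
      rw [← he, h, zero_dvd_iff] at this
      have := hp.out.two_le
      omega
    · exact h
  have hcop : Nat.Coprime e p := by
    have hq0 : (q : ZMod p) ≠ 0 := by rwa [Ne, ZMod.natCast_eq_zero_iff]
    have h1 : e ∣ p - 1 := he ▸ orderOf_dvd_of_pow_eq_one (ZMod.pow_card_sub_one_eq_one hq0)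
    refine ((hp.out.coprime_iff_not_dvd).2 fun hd => ?_).symm
    have h2 := Nat.le_of_dvd (by have := hp.out.two_le; omega) h1
    have h3 := Nat.le_of_dvd he0 hd
    omega
  -- the representation over the algebraic closure
  let K := AlgebraicClosure F
  let ρ : ↥P →* Matrix (Fin n) (Fin n) K :=
    ((algebraMap F K).mapMatrix.toMonoidHom.comp (Units.coeHom (Matrix (Fin n) (Fin n) F))).comp
      P.subtype
  have hρi : Function.Injective ρ := by
    intro a b hab
    apply Subtype.ext
    apply Units.ext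
    exact Matrix.map_injective (algebraMap F K).injective hab
  have hpK : (p : K) ≠ 0 := by
    intro h
    have hpF : (p : F) = 0 := by
      apply (algebraMap F K).injective
      rw [map_natCast, map_zero]; exact h
    have hqF : (q : F) = 0 := by rw [← hF]; exact FiniteField.cast_card_eq_zero F
    have hco : Nat.Coprime p q := hp.out.coprime_iff_not_dvd.2 hpq
    have h1 := (Nat.isCoprime_iff_coprime.2 hco).map (Int.castRingHom F)
    simp [hpF, hqF] at h1
  -- maximal normal abelian subgroup
  obtain ⟨A, ⟨hAn, hAc⟩, hmax⟩ := Set.Finite.exists_maximal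
    (s := {A : Subgroup ↥P | A.Normal ∧ IsMulCommutative A}) (Set.toFinite _)
    ⟨⊥, inferInstance, inferInstance⟩
  have hCA : Subgroup.centralizer (A : Set ↥P) = A :=
    CfsgLib.PGroup.centralizer_eq_of_maximal_normal_abelian hP A hAc
      fun B hBn hBc hAB => le_antisymm (hmax ⟨hBn, hBc⟩ hAB) hAB
  have hcommA : ∀ a b : A, ρ a * ρ b = ρ b * ρ a := by
    intro a b
    rw [← map_mul, ← map_mul]
    exact congrArg (fun x : A => ρ x) (hAc.is_comm.comm a b)
  -- eigencharacters
  let Ω : Set (A → K) := {χ | ∃ v : Fin n → K, v ≠ 0 ∧ ∀ a : A, ρ a *ᵥ v = χ a • v}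
  have hbound : ∀ (ι : Type _) [Fintype ι] (f : ι → A → K), (∀ i, f i ∈ Ω) → Function.Injective f →
      Fintype.card ι ≤ n := by
    intro ι _ f hf hinj
    choose v hv0 hv using hf
    exact CfsgLib.CrossChar.card_le_of_distinct_eigen (fun a : A => ρ a) f v hv0 hv hinj
  have hfinΩ : Ω.Finite := by
    by_contra hinf
    obtain ⟨s, hs, hsc⟩ := Set.Infinite.exists_subset_card_eq hinf (n + 1)
    have h := hbound ↥s (fun i => i.1) (fun i => hs i.2) Subtype.val_injective
    simp [hsc] at h
  have := hfinΩ.fintype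
  -- conjugation action
  let cA : ↥P → A → A := fun g a => ⟨g⁻¹ * a.1 * g, by simpa using hAn.conj_mem a.1 a.2 g⁻¹⟩
  have hcA : ∀ g h a, cA h (cA g a) = cA (g * h) a := by
    intro g h a
    apply Subtype.ext
    simp [cA, mul_assoc]
  have hmem : ∀ (g : ↥P) (χ : A → K), χ ∈ Ω → (fun a => χ (cA g a)) ∈ Ω := by
    rintro g χ ⟨v, hv0, hv⟩
    refine ⟨ρ g *ᵥ v, fun h => hv0 ?_, fun a => ?_⟩
    · have h1 := congrArg (fun w => ρ g⁻¹ *ᵥ w) h
      rw [Matrix.mulVec_mulVec, ← map_mul, inv_mul_cancel, map_one, Matrix.one_mulVec,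
        Matrix.mulVec_zero] at h1
      exact h1
    · show _ = χ (cA g a) • _
      rw [Matrix.mulVec_mulVec, ← map_mul,
        show (a : ↥P) * g = g * (cA g a : ↥P) by simp [cA, mul_assoc], map_mul,
        ← Matrix.mulVec_mulVec, hv, Matrix.mulVec_smul]
  let _ : MulAction ↥P Ω :=
    { smul := fun g χ => ⟨fun a => χ.1 (cA g a), hmem g χ.1 χ.2⟩
      one_smul := fun χ => Subtype.ext (funext fun a => by
        show χ.1 (cA 1 a) = χ.1 a
        simp [cA])
      mul_smul := fun g h χ => Subtype.ext (funext fun a => by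
        show χ.1 (cA (g * h) a) = χ.1 (cA h (cA g a))
        rw [hcA]) }
  have hsmul : ∀ (g : ↥P) (χ : Ω) (a : A), (g • χ).1 a = χ.1 (cA g a) := fun _ _ _ => rfl
  -- Frobenius
  let φ : K →ₐ[F] K := FiniteField.frobeniusAlgHom F K
  have hφmem : ∀ χ : A → K, χ ∈ Ω → (fun a => φ (χ a)) ∈ Ω := by
    rintro χ ⟨v, hv0, hv⟩
    refine ⟨φ ∘ v, fun h => hv0 (funext fun i => ?_), fun a => funext fun i => ?_⟩
    · have h1 := congrFun h i
      simp only [Function.comp_apply, Pi.zero_apply, map_eq_zero] at h1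
      exact h1
    · have h1 := congrArg φ (congrFun (hv a) i)
      simp only [Pi.smul_apply, smul_eq_mul, map_mul] at h1
      rw [Pi.smul_apply, smul_eq_mul, Function.comp_apply, ← h1]
      simp [Matrix.mulVec, dotProduct, ρ, map_sum, map_mul]
  let Φ : Ω → Ω := fun χ => ⟨fun a => φ (χ.1 a), hφmem _ χ.2⟩
  have hΦinj : Function.Injective Φ := fun x y h => Subtype.ext (funext fun a =>
    φ.toRingHom.injective (congrFun (congrArg Subtype.val h) a))
  have hΦc : ∀ (g : ↥P) (χ : Ω), Φ (g • χ) = g • Φ χ := fun _ _ => rfl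
  have hΦit : ∀ (t : ℕ) (g : ↥P) (χ : Ω), Φ^[t] (g • χ) = g • Φ^[t] χ := by
    intro t g χ
    induction t with
    | zero => rfl
    | succ t ih => rw [Function.iterate_succ_apply', Function.iterate_succ_apply', ih, hΦc]
  have hΦval : ∀ (t : ℕ) (χ : Ω) (a : A), (Φ^[t] χ).1 a = χ.1 a ^ q ^ t := by
    intro t χ a
    induction t with
    | zero => simp
    | succ t ih =>
      rw [Function.iterate_succ_apply']
      show φ ((Φ^[t] χ).1 a) = _
      simp only [φ, ih, FiniteField.coe_frobeniusAlgHom, pow_succ, pow_mul, hF]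
  -- the characters are multiplicative
  have hχone : ∀ χ : Ω, χ.1 1 = 1 := by
    intro χ
    obtain ⟨v, hv0, hv⟩ := χ.2
    apply smul_left_injective K hv0
    show χ.1 1 • v = (1 : K) • v
    rw [← hv]
    simp
  have hχmul : ∀ (χ : Ω) (a b : A), χ.1 (a * b) = χ.1 a * χ.1 b := by
    intro χ a b
    obtain ⟨v, hv0, hv⟩ := χ.2
    apply smul_left_injective K hv0
    show χ.1 (a * b) • v = (χ.1 a * χ.1 b) • v
    rw [← hv, Subgroup.coe_mul, map_mul, ← Matrix.mulVec_mulVec, hv, Matrix.mulVec_smul, hv,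
      smul_smul, mul_comm]
  have hχpow : ∀ (χ : Ω) (a : A) (k : ℕ), χ.1 (a ^ k) = χ.1 a ^ k := by
    intro χ a k
    induction k with
    | zero => simp [hχone]
    | succ k ih => rw [pow_succ, hχmul, ih, pow_succ]
  -- periods of Frobenius
  have hper : ∀ (χ : Ω) (a : A), χ.1 a ≠ 1 → ∀ t, Φ^[t] χ = χ → e ∣ t := by
    intro χ a ha t ht
    obtain ⟨k, hk⟩ := hP a.1
    have hk' : χ.1 a ^ p ^ k = 1 := by
      rw [← hχpow, show a ^ p ^ k = 1 from Subtype.ext (by simpa using hk), hχone]
    have hne0 : χ.1 a ≠ 0 := fun h => by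
      rw [h, zero_pow (pow_pos hp.out.pos k).ne'] at hk'
      exact zero_ne_one hk'
    obtain ⟨j, -, hj⟩ := (Nat.dvd_prime_pow hp.out).1 (orderOf_dvd_of_pow_eq_one hk')
    have hj0 : j ≠ 0 := fun h => ha (orderOf_eq_one_iff.1 (by rw [hj, h, pow_zero]))
    have h1 : χ.1 a ^ q ^ t = χ.1 a := by rw [← hΦval, ht]
    have hq1 : 1 ≤ q ^ t := Nat.one_le_pow _ _ (hF ▸ Fintype.card_pos)
    have h2 : χ.1 a ^ (q ^ t - 1) = 1 := by
      rw [← mul_left_inj' hne0, one_mul, ← pow_succ, Nat.sub_add_cancel hq1, h1]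
    have h3 : p ∣ q ^ t - 1 :=
      ((dvd_pow_self p hj0).trans (hj ▸ orderOf_dvd_of_pow_eq_one h2))
    rw [he]
    apply orderOf_dvd_of_pow_eq_one
    have h4 : ((q ^ t - 1 : ℕ) : ZMod p) = 0 := (ZMod.natCast_eq_zero_iff _ _).2 h3
    rw [Nat.cast_sub hq1, sub_eq_zero] at h4
    simpa using h4
  -- every orbit is small
  have horb : ∀ χ : Ω, ∃ m, (MulAction.stabilizer ↥P χ).index = p ^ m ∧ m ≤ Nat.log p (n / e) := by
    intro χ
    obtain ⟨m, hm⟩ := hP.index (MulAction.stabilizer ↥P χ)
    refine ⟨m, hm, ?_⟩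
    by_cases hχ : ∀ a, χ.1 a = 1
    · have htop : MulAction.stabilizer ↥P χ = ⊤ := eq_top_iff.2 fun g _ =>
        MulAction.mem_stabilizer_iff.2 (Subtype.ext (funext fun a => by rw [hsmul, hχ, hχ]))
      rw [htop, Subgroup.index_top] at hm
      rcases Nat.eq_zero_or_pos m with rfl | hm0
      · exact Nat.zero_le _
      · have := Nat.one_lt_pow hm0.ne' hp.out.one_lt
        omega
    · push Not at hχ
      obtain ⟨a, ha⟩ := hχ
      have key : ∀ (g : ↥P) (t : ℕ), Φ^[t] χ = g • χ → e ∣ t := by
        intro g t ht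
        obtain ⟨k, hk⟩ := hP g
        have hj : ∀ j : ℕ, Φ^[t * j] χ = g ^ j • χ := by
          intro j
          induction j with
          | zero => simp
          | succ j ih =>
            rw [Nat.mul_succ, Function.iterate_add_apply, ht, hΦit, ih, smul_smul, ← pow_succ']
        have h1 := hper χ a ha (t * p ^ k) (by rw [hj, hk, one_smul])
        exact (Nat.Coprime.pow_right k hcop).dvd_of_dvd_mul_right h1
      have key2 : ∀ (i j : ℕ) (ψ ψ' : Ω), ψ ∈ MulAction.orbit ↥P χ → ψ' ∈ MulAction.orbit ↥P χ →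
          i ≤ j → j < e → Φ^[i] ψ = Φ^[j] ψ' → i = j ∧ ψ = ψ' := by
        intro i j ψ ψ' hψ hψ' hij hje h
        obtain ⟨d, rfl⟩ := Nat.exists_eq_add_of_le hij
        rw [Function.iterate_add_apply] at h
        have h' := hΦinj.iterate i h
        obtain ⟨g, rfl⟩ := hψ
        obtain ⟨g', rfl⟩ := hψ'
        simp only [hΦit] at h'
        have hd : e ∣ d := key (g'⁻¹ * g) d (by rw [mul_smul, h', inv_smul_smul])
        have hd0 : d = 0 := Nat.eq_zero_of_dvd_of_lt hd (by omega)
        subst hd0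
        refine ⟨rfl, ?_⟩
        show g • χ = g' • χ
        simpa using h'
      let F' : Fin e × MulAction.orbit ↥P χ → (A → K) := fun x => (Φ^[x.1.1] x.2.1).1
      have hF' : Function.Injective F' := by
        rintro ⟨i, ψ, hψ⟩ ⟨j, ψ', hψ'⟩ h
        have h' : Φ^[i.1] ψ = Φ^[j.1] ψ' := Subtype.ext h
        rcases le_total i.1 j.1 with hij | hij
        · obtain ⟨h1, h2⟩ := key2 _ _ _ _ hψ hψ' hij j.2 h'
          simp [Fin.ext h1, h2]
        · obtain ⟨h1, h2⟩ := key2 _ _ _ _ hψ' hψ hij i.2 h'.symm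
          simp [Fin.ext h1, h2]
      have h1 := hbound _ F' (fun x => (Φ^[x.1.1] x.2.1).2) hF'
      rw [Fintype.card_prod, Fintype.card_fin, ← Nat.card_eq_fintype_card,
        Nat.card_coe_set_eq, ← MulAction.index_stabilizer, hm] at h1
      apply Nat.le_log_of_pow_le hp.out.one_lt
      rw [Nat.le_div_iff_mul_le he0, mul_comm]
      exact h1
  -- intersection of the stabilisers
  have hker : ∀ g : ↥P, (∀ χ : Ω, g • χ = χ) → g ∈ A := by
    intro g hg
    rw [← hCA, Subgroup.mem_centralizer_iff]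
    intro a ha
    set a' : A := ⟨a, ha⟩
    set c : A := a'⁻¹ * cA g a' with hc
    have hone : ρ c = 1 := by
      obtain ⟨k, hk⟩ := hP c.1
      have heig := Cfsg.Agent.S4417.eq_one_of_eigen (Matrix.toLinAlgEquiv' (ρ c)) (p ^ k)
        (by rw [Nat.cast_pow]; exact pow_ne_zero _ hpK)
        (by rw [← map_pow, ← map_pow, hk, map_one, map_one]) ?_
      · exact Matrix.toLinAlgEquiv'.injective (by rw [heig, map_one])
      intro μ hμ
      obtain ⟨v, hvW, hv0, hv⟩ := CfsgLib.CrossChar.exists_common_eigen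
        (fun b : A => Matrix.toLinAlgEquiv' (ρ b))
        (fun b b' => by
          rw [← map_mul Matrix.toLinAlgEquiv', hcommA b b', map_mul]) _
        (Module.End.eigenspace (Matrix.toLinAlgEquiv' (ρ c)) μ) rfl hμ
        (fun b x hx => by
          rw [Module.End.mem_eigenspace_iff] at hx ⊢
          rw [← Module.End.mul_apply, ← map_mul Matrix.toLinAlgEquiv', hcommA, map_mul,
            Module.End.mul_apply, hx, map_smul])
      choose ν hν using hv
      have hνv : ∀ b : A, ρ b *ᵥ v = ν b • v := fun b => by simpa using hν b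
      have h2 := hg ⟨ν, v, hv0, hνv⟩
      have h3 : ν (cA g a') = ν a' := congrFun (congrArg Subtype.val h2) a'
      have h4 : ν c = 1 := by
        have hm := hχmul ⟨ν, v, hv0, hνv⟩ a' c
        simp only [hc, mul_inv_cancel_left] at hm
        rw [h3] at hm
        have hne : ν a' ≠ 0 := fun h0 => by
          have hm1 := hχmul ⟨ν, v, hv0, hνv⟩ a' a'⁻¹
          simp only [mul_inv_cancel, h0, zero_mul] at hm1
          exact zero_ne_one (hm1.symm.trans (hχone ⟨ν, v, hv0, hνv⟩))
        exact (mul_eq_left₀ hne).1 hm.symm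
      rw [Module.End.mem_eigenspace_iff, hν, h4] at hvW
      exact (smul_left_injective K hv0 hvW).symm
    have hc1 : (c : ↥P) = 1 := hρi (by rw [hone, map_one])
    have h5 : a'⁻¹.1 * (g⁻¹ * a * g) = 1 := hc1
    have h6 : a⁻¹ * (g⁻¹ * a * g) = 1 := h5
    rw [inv_mul_eq_one] at h6
    calc a * g = g * (g⁻¹ * a * g) := by group
      _ = g * a := by rw [← h6]
  -- conclusion
  have hL : derivedSeries ↥P (Nat.log p (n / e)) ≤ A := by
    intro g hg
    apply hker
    intro χ
    obtain ⟨m, hm, hmL⟩ := horb χ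
    exact MulAction.mem_stabilizer_iff.1
      (Cfsg.Agent.S4417.derivedSeries_le_of_index hP m _ hm (derivedSeries_antitone ↥P hmL hg))
  rw [derivedSeries_succ, eq_bot_iff]
  refine le_trans (Subgroup.commutator_mono hL hL) ?_
  rw [← eq_bot_iff, Subgroup.commutator_eq_bot_iff_le_centralizer, hCA]


section Lower

variable {F : Type*} [Field F] {D Q : Type*} [Group D] [Group Q] {V : Type*} [AddCommGroup V]
  [Module F V]

/-- The monomial representation of a wreath product. -/
def wreathRep (f : D →* (V ≃ₗ[F] V)) : RegularWreathProduct D Q →* ((Q → V) ≃ₗ[F] (Q → V)) where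
  toFun w :=
    { toFun := fun v x => f (w.left x) (v (w.right⁻¹ * x))
      map_add' := fun v v' => funext fun x => by simp
      map_smul' := fun c v => funext fun x => by simp
      invFun := fun v x => f (w⁻¹.left x) (v (w.right * x))
      left_inv := fun v => funext fun x => by
        simp [RegularWreathProduct.inv_left]
      right_inv := fun v => funext fun x => by
        simp [RegularWreathProduct.inv_left] }
  map_one' := LinearEquiv.ext fun v => funext fun x => by simp
  map_mul' a b := LinearEquiv.ext fun v => funext fun x => by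
    show f ((a * b).left x) (v ((a * b).right⁻¹ * x)) =
      f (a.left x) (f (b.left (a.right⁻¹ * x)) (v (b.right⁻¹ * (a.right⁻¹ * x))))
    simp [RegularWreathProduct.mul_def, mul_assoc]

theorem wreathRep_injective [DecidableEq Q] [Nontrivial V] (f : D →* (V ≃ₗ[F] V))
    (hf : Function.Injective f) : Function.Injective (wreathRep (Q := Q) f) := by
  rw [injective_iff_map_eq_one]
  intro w hw
  have h : ∀ (v : Q → V) (x : Q), f (w.left x) (v (w.right⁻¹ * x)) = v x := fun v x =>
    congrFun (LinearEquiv.congr_fun hw v) x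
  obtain ⟨a, ha⟩ := exists_ne (0 : V)
  have hr : w.right = 1 := by
    by_contra hne
    have h1 := h (Pi.single 1 a) w.right
    rw [inv_mul_cancel, Pi.single_eq_same, Pi.single_eq_of_ne hne] at h1
    exact ha ((LinearEquiv.map_eq_zero_iff _).1 h1)
  have hl : w.left = 1 := funext fun x => hf (LinearEquiv.ext fun u => by
    have h1 := h (fun _ => u) x
    simpa using h1)
  exact RegularWreathProduct.ext hl hr

/-- Transport of an action along a linear equivalence. -/
def transport {A : Type*} [Group A] {W : Type*} [AddCommGroup W] [Module F W] (c : V ≃ₗ[F] W)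
    (f : A →* (V ≃ₗ[F] V)) : A →* (W ≃ₗ[F] W) where
  toFun a := c.symm.trans ((f a).trans c)
  map_one' := by ext; simp
  map_mul' a b := by ext; simp

theorem transport_injective {A : Type*} [Group A] {W : Type*} [AddCommGroup W] [Module F W]
    (c : V ≃ₗ[F] W) (f : A →* (V ≃ₗ[F] V)) (hf : Function.Injective f) :
    Function.Injective (transport c f) := fun a b h => hf (LinearEquiv.ext fun v => c.injective (by
  simpa [transport] using LinearEquiv.congr_fun h (c v)))

end Lower

theorem exists_rep (F : Type*) [Field F] [Fintype F] (q : ℕ) (hq : Fintype.card F = q) (p : ℕ)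
    [Fact p.Prime] (e : ℕ) (he0 : 0 < e) (hdvd : p ∣ q ^ e - 1) : ∀ k : ℕ,
    ∃ f : IteratedWreathProduct (Multiplicative (ZMod p)) (k + 1) →*
      ((Fin (e * p ^ k) → F) ≃ₗ[F] (Fin (e * p ^ k) → F)), Function.Injective f := by
  classical
  intro k
  induction k with
  | zero =>
    have hcard : p ∣ Nat.card (GL (Fin e) F) := by
      rw [Matrix.card_GL_field]
      refine hdvd.trans ?_
      have h := Finset.dvd_prod_of_mem (fun i : Fin e => Fintype.card F ^ e - Fintype.card F ^ (i : ℕ))
        (Finset.mem_univ ⟨0, he0⟩)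
      simpa [hq] using h
    obtain ⟨x, hx⟩ := exists_prime_orderOf_dvd_card' p hcard
    let x' : (Fin e → F) ≃ₗ[F] (Fin e → F) :=
      LinearMap.GeneralLinearGroup.generalLinearEquiv F _ (Matrix.GeneralLinearGroup.toLin x)
    have hx' : orderOf x' = p := by
      show orderOf ((Matrix.GeneralLinearGroup.toLin.trans
        (LinearMap.GeneralLinearGroup.generalLinearEquiv F _)) x) = p
      rw [MulEquiv.orderOf_eq, hx]
    let ι : Multiplicative (ZMod p) ≃* Subgroup.zpowers x' :=
      mulEquivOfPrimeCardEq (p := p) (Nat.card_zmod p) (by rw [Nat.card_zpowers, hx'])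
    rw [pow_zero, mul_one]
    refine ⟨((Subgroup.zpowers x').subtype.comp ι.toMonoidHom).comp RegularWreathProduct.rightHom,
      ((Subgroup.subtype_injective _).comp ι.injective).comp ?_⟩
    intro a b h
    haveI : Subsingleton (IteratedWreathProduct (Multiplicative (ZMod p)) 0) :=
      inferInstanceAs (Subsingleton PUnit)
    exact RegularWreathProduct.ext (funext fun _ => Subsingleton.elim _ _) h
  | succ k ih =>
    obtain ⟨f, hf⟩ := ih
    have hp : p.Prime := Fact.out
    haveI : Nontrivial (Fin (e * p ^ k) → F) :=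
      Function.nontrivial (α := Fin (e * p ^ k)) (β := F) (h := ⟨⟨0, Nat.mul_pos he0 (pow_pos hp.pos k)⟩⟩)
    let c : ((Multiplicative (ZMod p)) → (Fin (e * p ^ k) → F)) ≃ₗ[F] (Fin (e * p ^ (k + 1)) → F) :=
      LinearEquiv.ofFinrankEq _ _ (by
        rw [Module.finrank_pi_fintype, Finset.sum_const, Module.finrank_fin_fun,
          Module.finrank_fin_fun, Finset.card_univ, smul_eq_mul, Fintype.card_multiplicative,
          ZMod.card, pow_succ]
        ring)
    exact ⟨transport c (wreathRep f), transport_injective c _ (wreathRep_injective f hf)⟩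

/-- Let p be an odd prime, F a finite field with q elements where p does not divide q, and e the multiplicative order of q modulo p. Let n ≥ e and write w = ⌊n/e⌋ and k = ⌊log_p w⌋. Then a Sylow p-subgroup of GL(n, F) has derived length exactly k + 1: its (k+1)-st derived subgroup is trivial and its k-th is not. -/
theorem result (p : ℕ) [Fact p.Prime] (hp : p ≠ 2) (F : Type*) [Field F] [Fintype F] (q : ℕ) (hq : Fintype.card F = q) (hpq : ¬ p ∣ q) (n : ℕ) (hn : orderOf (q : ZMod p) ≤ n) (P : Sylow p (Matrix.GeneralLinearGroup (Fin n) F)) : derivedSeries ↥(P : Subgroup (Matrix.GeneralLinearGroup (Fin n) F)) (Nat.log p (n / orderOf (q : ZMod p)) + 1) = ⊥ ∧ derivedSeries ↥(P : Subgroup (Matrix.GeneralLinearGroup (Fin n) F)) (Nat.log p (n / orderOf (q : ZMod p))) ≠ ⊥ := by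
  classical
  refine ⟨upper q hq p hpq n _ rfl _ P.2, ?_⟩
  have hP : p.Prime := Fact.out
  set e := orderOf (q : ZMod p) with he
  set k := Nat.log p (n / e)
  have hq0 : (q : ZMod p) ≠ 0 := by rwa [Ne, ZMod.natCast_eq_zero_iff]
  have he0 : 0 < e := orderOf_pos_iff.2 (isOfFinOrder_iff_pow_eq_one.2
    ⟨p - 1, by have := hP.two_le; omega, ZMod.pow_card_sub_one_eq_one hq0⟩)
  have hdvd : p ∣ q ^ e - 1 := by
    rw [← ZMod.natCast_eq_zero_iff, Nat.cast_sub (Nat.one_le_pow _ _ (hq ▸ Fintype.card_pos)),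
      Nat.cast_pow, he, pow_orderOf_eq_one, Nat.cast_one, sub_self]
  have hle : e * p ^ k ≤ n := by
    have h1 : n / e ≠ 0 := (Nat.div_pos hn he0).ne'
    calc e * p ^ k ≤ e * (n / e) := Nat.mul_le_mul_left _ (Nat.pow_log_le_self p h1)
      _ ≤ n := Nat.mul_div_le n e
  obtain ⟨f, hf⟩ := exists_rep F q hq p e he0 hdvd k
  let pad : ((Fin (e * p ^ k) → F) ≃ₗ[F] (Fin (e * p ^ k) → F)) →*
      ((((Fin (e * p ^ k) → F) × (Fin (n - e * p ^ k) → F))) ≃ₗ[F]
        ((Fin (e * p ^ k) → F) × (Fin (n - e * p ^ k) → F))) :=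
    { toFun := fun g => g.prodCongr (LinearEquiv.refl F _)
      map_one' := by ext <;> simp
      map_mul' := fun g g' => by ext <;> simp }
  have hpad : Function.Injective pad := fun g g' h => LinearEquiv.ext fun v => by
    simpa [pad] using congrArg Prod.fst (LinearEquiv.congr_fun h (v, 0))
  let c : ((Fin (e * p ^ k) → F) × (Fin (n - e * p ^ k) → F)) ≃ₗ[F] (Fin n → F) :=
    LinearEquiv.ofFinrankEq _ _ (by
      rw [Module.finrank_prod, Module.finrank_fin_fun, Module.finrank_fin_fun,
        Module.finrank_fin_fun]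
      omega)
  let toGL : ((Fin n → F) ≃ₗ[F] (Fin n → F)) ≃* GL (Fin n) F :=
    (LinearMap.GeneralLinearGroup.generalLinearEquiv F _).symm.trans
      Matrix.GeneralLinearGroup.toLin.symm
  refine CfsgLib.DerivedLen.sylow_ne_bot (IsPGroup.of_card (p := p) (by
      rw [IteratedWreathProduct.card, Nat.card_congr Multiplicative.toAdd, Nat.card_zmod]))
    (toGL.toMonoidHom.comp (transport c (pad.comp f)))
    (toGL.injective.comp (transport_injective c _ (hpad.comp hf)))
    (CfsgLib.DerivedLen.iterated (Multiplicative (ZMod p)) k) P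

end Cfsg.Agent.S4015
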