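import Cfsg.Statements.S4018
import Mathlib

set_option autoImplicit false
open Cfsg

namespace Cfsg.Agent.S4018

variable {G : Type*} [Group G] [Finite G]

/-- A graph in which every two distinct vertices have exactly one common neighbour, regular of
degree `k + 1` with `k` having a prime divisor, cannot exist (trace argument). -/
theorem no_friendship {V : Type*} [Fintype V] [DecidableEq V] [Nonempty V] (adj : V → V → Prop)
    [DecidableRel adj] (hirr : ∀ v, ¬ adj v v) (hsym : ∀ u v, adj u v → adj v u) (k : ℕ)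
    (hdeg : ∀ v, (Finset.univ.filter (adj v)).card = k + 1)
    (hone : ∀ u v, u ≠ v → (Finset.univ.filter fun w => adj u w ∧ adj w v).card = 1)
    {r : ℕ} [Fact r.Prime] (hr : r ∣ k) : False := by
  let M : Matrix V V (ZMod r) := Matrix.of fun u v => if adj u v then 1 else 0
  let J : Matrix V V (ZMod r) := Matrix.of fun _ _ => 1
  have hk : ((k + 1 : ℕ) : ZMod r) = 1 := by
    rw [Nat.cast_add, (ZMod.natCast_eq_zero_iff k r).mpr hr, zero_add, Nat.cast_one]
  have hM2 : M * M = J := by
    ext u v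
    simp only [Matrix.mul_apply, M, J, Matrix.of_apply, ite_mul, one_mul, zero_mul, ← ite_and]
    rw [Finset.sum_boole]
    rcases eq_or_ne u v with rfl | h
    · rw [show (Finset.univ.filter fun w => adj u w ∧ adj w u) = Finset.univ.filter (adj u) from
        Finset.filter_congr fun w _ => ⟨fun h => h.1, fun h => ⟨h, hsym _ _ h⟩⟩, hdeg, hk]
    · rw [hone u v h, Nat.cast_one]
  have hMJ : M * J = J := by
    ext u v
    simp only [Matrix.mul_apply, M, J, Matrix.of_apply, mul_one, Finset.sum_boole]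
    rw [hdeg, hk]
  have hpow : ∀ i : ℕ, M ^ (i + 2) = J := by
    intro i
    induction i with
    | zero => rw [pow_two, hM2]
    | succ i ih => rw [show i + 1 + 2 = (i + 2) + 1 by ring, pow_succ', ih, hMJ]
  have hn : ((Fintype.card V : ℕ) : ZMod r) = 1 := by
    have h : J * J = J := by
      conv_lhs => rw [← hpow 0]
      rw [← pow_add]; exact hpow 2
    obtain ⟨v⟩ := ‹Nonempty V›
    have := congrFun (congrFun h v) v
    simpa [Matrix.mul_apply, J, Finset.card_univ] using this
  have htr := ZMod.trace_pow_card M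
  obtain ⟨i, hi⟩ : ∃ i, r = i + 2 := ⟨r - 2, by have := (Fact.out : r.Prime).two_le; omega⟩
  have hMr : M ^ r = J := by rw [show M ^ r = M ^ (i + 2) by rw [← hi]]; exact hpow i
  rw [hMr] at htr
  simp [Matrix.trace, J, M, hirr, Finset.card_univ, hn, zero_pow (Fact.out : r.Prime).ne_zero] at htr

variable (P : Sylow 3 G)

theorem not_simple_aux (hab : IsMulCommutative P)
    (hN : Nat.card (Subgroup.normalizer ((P : Subgroup G) : Set G)) = 4 * Nat.card P)
    (hC : Nat.card (Subgroup.centralizer (P : Set G)) = 2 * Nat.card P)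
    (hTI : Cfsg.IsTISubset (Subgroup.centralizer (P : Set G) : Set G))
    (heven : ∀ H : Subgroup G, H ≠ ⊤ → 2 ∣ Nat.card H → Nat.card H ∣ 4 * Nat.card P)
    (hs : IsSimpleGroup G) : False := by
  classical
  have := Fact.mk Nat.prime_two
  set C := Subgroup.centralizer ((P : Subgroup G) : Set G) with hCdef
  set N := Subgroup.normalizer ((P : Subgroup G) : Set G) with hNdef
  set q := Nat.card P with hq
  have hC' : Nat.card C = 2 * q := hC
  obtain ⟨a, ha⟩ := IsPGroup.iff_card.mp P.2
  change q = 3 ^ a at ha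
  have hq1 : 1 ≤ q := Nat.card_pos
  have hPC : (P : Subgroup G) ≤ C := by
    intro x hx
    rw [hCdef, Subgroup.mem_centralizer_iff]
    exact fun y hy => congrArg Subtype.val (hab.is_comm.comm ⟨y, hy⟩ ⟨x, hx⟩)
  have hCN : C ≤ N := Subgroup.centralizer_le_normalizer _
  have hprime : ∀ (H : Subgroup G), H.Normal → H = ⊥ ∨ H = ⊤ := fun H hH =>
    hH.eq_bot_or_eq_top
  -- `P` is nontrivial and not normal
  have ha0 : a ≠ 0 := by
    rintro rfl
    rw [pow_zero] at ha
    have hPbot : (P : Subgroup G) = ⊥ := Subgroup.card_eq_one.mp ha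
    have hNtop : N = ⊤ := by rw [hNdef, hPbot]; exact Subgroup.normalizer_eq_top_iff.mpr inferInstance
    have hG4 : Nat.card G = 4 := by
      rw [← Subgroup.card_top (G := G), ← hNtop, hN, ha, mul_one]
    obtain ⟨x, hx⟩ := exists_prime_orderOf_dvd_card' (G := G) 2 (by rw [hG4]; norm_num)
    have hc : ∀ g h : G, g * h = h * g := by
      have := IsPGroup.isMulCommutative_of_card_eq_prime_sq (p := 2) (G := G) (by rw [hG4]; norm_num)
      exact fun g h => this.is_comm.comm g h
    rcases hprime (Subgroup.zpowers x) ⟨fun z hz g => by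
      rwa [hc g z, mul_inv_cancel_right]⟩ with h | h
    · have h1 := congrArg (fun H : Subgroup G => Nat.card H) h
      simp only [Nat.card_zpowers, Subgroup.card_bot, hx] at h1
      omega
    · have h1 := congrArg (fun H : Subgroup G => Nat.card H) h
      simp only [Nat.card_zpowers, Subgroup.card_top, hx, hG4] at h1
      omega
  have hq3 : 3 ≤ q := by rw [ha]; exact Nat.le_self_pow ha0 3
  have hNne : N ≠ ⊤ := by
    intro h
    rcases hprime P (Subgroup.normalizer_eq_top_iff.mp h) with h1 | h1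
    · rw [hq, h1, Subgroup.card_bot] at hq3; omega
    · have h2 := Subgroup.card_le_card_group N
      rw [hN, hq, h1, Subgroup.card_top] at h2
      have := Nat.card_pos (α := G); omega
  -- the involution of `C`
  obtain ⟨t0, ht0⟩ := exists_prime_orderOf_dvd_card' (G := C) 2 (by rw [hC']; exact dvd_mul_right _ _)
  set t : G := (t0 : G)
  have htC : t ∈ C := t0.2
  have ht : orderOf t = 2 := by rw [Subgroup.orderOf_coe]; exact ht0
  have ht2 : t * t = 1 := by rw [← pow_two, ← ht]; exact pow_orderOf_eq_one t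
  have ht1 : t ≠ 1 := fun h => by rw [h, orderOf_one] at ht; omega
  have hPpow : ∀ x ∈ (P : Subgroup G), x ^ q = 1 := fun x hx => by
    have := Subgroup.orderOf_dvd_natCard (P : Subgroup G) hx
    exact orderOf_dvd_iff_pow_eq_one.mp this
  have hodd : Odd q := by rw [ha]; exact (by decide : Odd 3).pow
  have hP2 : ∀ x ∈ (P : Subgroup G), x * x = 1 → x = 1 := by
    intro x hx hx2
    obtain ⟨m, hm⟩ := hodd
    have h1 := hPpow x hx
    rw [hm, pow_add, pow_mul, pow_two, hx2, one_pow, pow_one, one_mul] at h1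
    exact h1
  have htP : t ∉ (P : Subgroup G) := fun h => ht1 (hP2 t h ht2)
  have hidx : ((P : Subgroup G).subgroupOf C).index = 2 := by
    have h1 := Subgroup.card_mul_index ((P : Subgroup G).subgroupOf C)
    rw [Nat.card_congr (Subgroup.subgroupOfEquivOfLe hPC).toEquiv, hC', mul_comm 2] at h1
    exact mul_left_cancel₀ (by omega) h1
  have hdec : ∀ x ∈ C, x ∈ (P : Subgroup G) ∨ x * t ∈ (P : Subgroup G) := by
    intro x hx
    by_contra h
    push Not at h
    have := (Subgroup.mul_mem_iff_of_index_two hidx (a := ⟨x, hx⟩) (b := ⟨t, htC⟩)).mpr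
      (iff_of_false (by simpa [Subgroup.mem_subgroupOf] using h.1)
        (by simpa [Subgroup.mem_subgroupOf] using htP))
    exact h.2 (Subgroup.mem_subgroupOf.mp this)
  have htPc : ∀ x ∈ (P : Subgroup G), x * t = t * x := fun x hx =>
    Subgroup.mem_centralizer_iff.mp htC x hx
  have hCab : ∀ x ∈ C, ∀ y ∈ C, x * y = y * x := by
    have key : ∀ x ∈ C, x * t = t * x := by
      intro x hx
      rcases hdec x hx with h | h
      · exact htPc x h
      · have := htPc _ h
        rw [mul_assoc, ht2, mul_one, ← mul_assoc] at this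
        calc x * t = (t * x * t) * t := by rw [← this]
          _ = t * x := by rw [mul_assoc, ht2, mul_one]
    intro x hx y hy
    rcases hdec y hy with h | h
    · exact (Subgroup.mem_centralizer_iff.mp hx y h).symm
    · have e1 := (Subgroup.mem_centralizer_iff.mp hx _ h).symm
      calc x * y = x * (y * t) * t := by rw [mul_assoc, mul_assoc, ht2, mul_one]
        _ = y * t * x * t := by rw [e1]
        _ = y * (t * (x * t)) := by simp [mul_assoc]
        _ = y * x := by rw [key x hx, ← mul_assoc t, ht2, one_mul]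
  have huniq : ∀ x ∈ C, x * x = 1 → x = 1 ∨ x = t := by
    intro x hx hx2
    rcases hdec x hx with h | h
    · exact Or.inl (hP2 x h hx2)
    · right
      have h1 : (x * t) * (x * t) = 1 := by
        rw [mul_assoc x t, ← mul_assoc t x t, hCab t htC x hx, mul_assoc x t t, ht2, mul_one, hx2]
      have h2 := hP2 _ h h1
      calc x = x * t * t := by rw [mul_assoc, ht2, mul_one]
        _ = t := by rw [h2, one_mul]
  have hconjN : ∀ g ∈ N, ∀ c ∈ C, g * c * g⁻¹ ∈ C := by
    intro g hg c hc
    rw [hCdef, Subgroup.mem_centralizer_iff] at hc ⊢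
    intro y hy
    have hy' : g⁻¹ * y * g ∈ (P : Subgroup G) := by
      have := (Subgroup.mem_normalizer_iff.mp (inv_mem hg) y).mp hy
      rwa [inv_inv] at this
    have h1 := hc _ hy'
    calc y * (g * c * g⁻¹) = g * ((g⁻¹ * y * g) * c) * g⁻¹ := by group
      _ = g * (c * (g⁻¹ * y * g)) * g⁻¹ := by rw [h1]
      _ = g * c * g⁻¹ * y := by group
  -- trivial intersection
  have hti : ∀ g : G, g ∉ N → ∀ x ∈ C, g * x * g⁻¹ ∈ C → x = 1 := by
    intro g hg x hx hgx
    refine hTI g (fun hn => hg ?_) x hx hgx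
    have hmap : ∀ y ∈ (P : Subgroup G), g * y * g⁻¹ ∈ (P : Subgroup G) := by
      intro y hy
      have hc : g * y * g⁻¹ ∈ C := (Subgroup.mem_normalizer_iff.mp hn y).mp (hPC hy)
      rcases hdec _ hc with h | h
      · exact h
      · exfalso
        have h1 : (g * y * g⁻¹) ^ q = 1 := by rw [conj_pow, hPpow y hy]; group
        have h2 : (g * y * g⁻¹ * t) ^ q = 1 := hPpow _ h
        rw [(show Commute (g * y * g⁻¹) t from hCab _ hc t htC).mul_pow, h1, one_mul] at h2
        have h3 := orderOf_dvd_of_pow_eq_one h2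
        rw [ht] at h3
        exact hodd.not_two_dvd_nat h3
    rw [hNdef]
    show g ∈ Subgroup.normalizer ((P : Subgroup G) : Set G)
    have himg : (P : Subgroup G).map (MulAut.conj g).toMonoidHom = (P : Subgroup G) :=
      Subgroup.eq_of_le_of_card_ge (by rintro _ ⟨y, hy, rfl⟩; exact hmap y hy)
        (Subgroup.card_map_of_injective (MulAut.conj g).injective).ge
    rw [Subgroup.mem_normalizer_iff]
    refine fun y => ⟨hmap y, fun hy => ?_⟩
    rw [← himg] at hy
    obtain ⟨z, hz, hzy⟩ := hy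
    rwa [show y = z from ((MulAut.conj g).injective hzy).symm]
  have hCt : ∀ g : G, g * t = t * g ↔ g ∈ N := by
    intro g
    refine ⟨fun h => ?_, fun hg => ?_⟩
    · by_contra hg
      exact ht1 (hti g hg t htC (by rw [h, mul_inv_cancel_right]; exact htC))
    · have h1 := hconjN g hg t htC
      have h2 : g * t * g⁻¹ * (g * t * g⁻¹) = 1 := by
        rw [show g * t * g⁻¹ * (g * t * g⁻¹) = g * (t * t) * g⁻¹ by group, ht2]; group
      rcases huniq _ h1 h2 with h | h
      · exact absurd (conj_eq_one_iff.mp h) ht1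
      · exact mul_inv_eq_iff_eq_mul.mp h
  -- the Sylow 2-subgroups
  obtain ⟨T, hT⟩ := (IsPGroup.of_card (p := 2) (n := 1)
    (show Nat.card (Subgroup.zpowers t) = 2 ^ 1 by rw [Nat.card_zpowers, ht, pow_one])).exists_le_sylow
  have h4G : 4 ∣ Nat.card G := (Dvd.intro q hN.symm).trans (Subgroup.card_subgroup_dvd_card N)
  have hTtop : (T : Subgroup G) ≠ ⊤ := by
    intro h
    have h1 := hPpow
    obtain ⟨x, hx⟩ := exists_prime_orderOf_dvd_card' (G := (P : Subgroup G)) 3
      (show 3 ∣ q by rw [ha]; exact dvd_pow_self 3 ha0)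
    obtain ⟨k, hk⟩ := T.2 ⟨(x : G), by rw [h]; exact Subgroup.mem_top _⟩
    have h2 := orderOf_dvd_of_pow_eq_one hk
    rw [Subgroup.orderOf_mk, Subgroup.orderOf_coe, hx] at h2
    exact absurd (Nat.prime_three.dvd_of_dvd_pow h2) (by norm_num)
  have hT4 : Nat.card (T : Subgroup G) = 4 := by
    have hd : 2 ∣ Nat.card (T : Subgroup G) :=
      by have := Subgroup.orderOf_dvd_natCard (T : Subgroup G) (hT (Subgroup.mem_zpowers t)); rwa [ht] at this
    have h1 := heven T hTtop hd
    obtain ⟨e, he⟩ := IsPGroup.iff_card.mp T.2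
    rw [he] at h1 ⊢
    have h2 : 2 ^ e ∣ 4 :=
      (Nat.Coprime.pow_left e ((Nat.coprime_primes Nat.prime_two Nat.prime_three).mpr (by norm_num)
        |>.pow_right a)).dvd_of_dvd_mul_right (ha ▸ h1)
    have h3 : 4 ∣ 2 ^ e := by
      rw [← he, Sylow.card_eq_multiplicity]
      exact pow_dvd_pow 2 ((Nat.prime_two.pow_dvd_iff_le_factorization Nat.card_pos.ne').mp
        (show 2 ^ 2 ∣ Nat.card G from h4G))
    exact Nat.dvd_antisymm h2 h3
  have := Fintype.ofFinite (T : Subgroup G)
  have := Fintype.ofFinite N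
  have hTab : ∀ x ∈ (T : Subgroup G), ∀ y ∈ (T : Subgroup G), x * y = y * x := by
    have := IsPGroup.isMulCommutative_of_card_eq_prime_sq (p := 2) (G := (T : Subgroup G))
      (by rw [hT4]; norm_num)
    exact fun x hx y hy => congrArg Subtype.val (this.is_comm.comm ⟨x, hx⟩ ⟨y, hy⟩)
  -- fusion of involutions
  obtain ⟨g, hgT, hgord, hg1⟩ : ∃ g ∈ Subgroup.normalizer ((T : Subgroup G) : Set G),
      (∃ m : ℕ, Odd m ∧ ∀ x ∈ (T : Subgroup G), g ^ m * x = x * g ^ m) ∧
      ∃ x ∈ (T : Subgroup G), g * x ≠ x * g := by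
    set NT := Subgroup.normalizer ((T : Subgroup G) : Set G)
    have hne : ¬ NT ≤ Subgroup.centralizer ((T : Subgroup G) : Set G) := by
      intro hNC
      have hc := MonoidHom.ker_transferSylow_isComplement' T hNC
      rcases hprime _ (MonoidHom.normal_ker (MonoidHom.transferSylow T hNC)) with h | h
      · rw [h] at hc
        exact hTtop (Subgroup.isComplement'_bot_left.mp hc)
      · rw [h] at hc
        have h1 := Subgroup.isComplement'_top_left.mp hc
        rw [h1, Subgroup.card_bot] at hT4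
        omega
    set CT := (Subgroup.centralizer ((T : Subgroup G) : Set G)).subgroupOf NT
    have hidx1 : CT.index ≠ 1 := by
      rw [Ne, Subgroup.index_eq_one]
      exact fun h => hne (Subgroup.subgroupOf_eq_top.mp h)
    have hidx2 : ¬ 2 ∣ CT.index := fun hd => by
      apply (T.subtype (Subgroup.le_normalizer (H := (T : Subgroup G)))).not_dvd_index
      refine hd.trans (Subgroup.index_dvd_of_le ?_)
      rw [Sylow.coe_subtype]
      exact Subgroup.comap_mono fun x hx =>
        Subgroup.mem_centralizer_iff.mpr fun y hy => hTab y hy x hx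
    obtain ⟨g, hg⟩ : ∃ g : NT, g ∉ CT := by
      by_contra h
      push Not at h
      exact hidx1 (Subgroup.index_eq_one.mpr (Subgroup.eq_top_iff' CT |>.mpr h))
    have hCTn : CT.Normal := inferInstance
    refine ⟨g, g.2, ⟨CT.index, Nat.not_even_iff_odd.mp fun h => hidx2 (even_iff_two_dvd.mp h),
      fun x hx => ?_⟩, ?_⟩
    · have h1 := Subgroup.mem_subgroupOf.mp (Subgroup.pow_index_mem CT g)
      simpa using (Subgroup.mem_centralizer_iff.mp h1 x hx).symm
    · by_contra h
      push Not at h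
      exact hg (Subgroup.mem_subgroupOf.mpr (Subgroup.mem_centralizer_iff.mpr fun x hx => (h x hx).symm))
  let φ : (T : Subgroup G) →* (T : Subgroup G) := MonoidHom.mk' (fun x => ⟨g * x * g⁻¹,
    (Subgroup.mem_normalizer_iff.mp hgT x).mp x.2⟩) fun x y => Subtype.ext (by
      simp only [Subgroup.coe_mul]; group)
  have hφinj : Function.Injective φ := fun x y h => Subtype.ext (by
    have := congrArg Subtype.val h; simpa [φ] using this)
  have hφm : ∀ (k : ℕ) (x : (T : Subgroup G)), (φ^[k] x : G) = g ^ k * x * (g ^ k)⁻¹ := by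
    intro k
    induction k with
    | zero => simp
    | succ k ih =>
      intro x
      rw [Function.iterate_succ_apply']
      show g * (φ^[k] x : G) * g⁻¹ = _
      rw [ih, pow_succ']; group
  obtain ⟨m, hmodd, hm⟩ := hgord
  have hφ2 : ¬ ∀ x, φ (φ x) = x := by
    intro h
    obtain ⟨x, hx, hne⟩ := hg1
    obtain ⟨j, hj⟩ := hmodd
    apply hne
    have e2 : φ^[m] ⟨x, hx⟩ = φ ⟨x, hx⟩ := by
      have h2j : ∀ j, φ^[2 * j] ⟨x, hx⟩ = ⟨x, hx⟩ := by
        intro j
        induction j with
        | zero => rfl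
        | succ j ih =>
          rw [show 2 * (j + 1) = 2 + 2 * j by ring, Function.iterate_add_apply, ih]
          exact h _
      rw [hj, add_comm, Function.iterate_add_apply, h2j]; rfl
    have e3 : (φ^[m] ⟨x, hx⟩ : G) = x := by rw [hφm, hm x hx, mul_inv_cancel_right]
    rw [e2] at e3
    exact mul_inv_eq_iff_eq_mul.mp e3
  -- `T` has exponent two
  have hexp : ∀ x : (T : Subgroup G), x * x = 1 := by
    by_contra hexp
    push Not at hexp
    obtain ⟨x, hx⟩ := hexp
    have hx4 : orderOf x = 4 := by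
      obtain ⟨i, hi, hix⟩ := (Nat.dvd_prime_pow Nat.prime_two).mp
        (show orderOf x ∣ 2 ^ 2 by rw [show (2:ℕ) ^ 2 = 4 by norm_num, ← hT4]; exact orderOf_dvd_natCard x)
      interval_cases i
      · exact absurd (by rw [orderOf_eq_one_iff.mp hix, mul_one]) hx
      · exact absurd (by rw [← pow_two, ← orderOf_dvd_iff_pow_eq_one, hix]; norm_num) hx
      · exact hix
    have hgen : ∀ y : (T : Subgroup G), ∃ k : ℕ, x ^ k = y := by
      intro y
      have h1 : y ∈ Submonoid.powers x := mem_powers_iff_mem_zpowers.mpr (by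
        rw [Subgroup.eq_top_of_card_eq (Subgroup.zpowers x) (by rw [Nat.card_zpowers, hx4, hT4])]
        trivial)
      exact h1
    obtain ⟨k, hk⟩ := hgen (φ x)
    apply hφ2
    intro y
    obtain ⟨i, rfl⟩ := hgen y
    rw [map_pow, map_pow, ← hk, map_pow, ← hk, ← pow_mul, ← pow_mul]
    refine pow_eq_pow_iff_modEq.mpr ?_
    rw [hx4]
    have hk2 : k % 2 = 1 := by
      by_contra hk2
      have : (φ x) * (φ x) = 1 := by
        rw [← hk, ← pow_add, ← orderOf_dvd_iff_pow_eq_one, hx4]; omega
      rw [← map_mul, ← map_one φ] at this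
      exact hx (hφinj this)
    have hkk : k * k ≡ 1 [MOD 4] := by
      have : k % 4 = 1 ∨ k % 4 = 3 := by omega
      rw [Nat.ModEq, Nat.mul_mod]
      rcases this with h | h <;> rw [h]
    simpa [mul_assoc, mul_comm, mul_left_comm] using hkk.mul_right i
  have hthree : ∀ x y : (T : Subgroup G), x ≠ 1 → y ≠ 1 → y = x ∨ y = φ x ∨ y = φ (φ x) := by
    intro x y hx hy
    have hfix : ∀ z : (T : Subgroup G), z ≠ 1 → φ z ≠ z := by
      intro z hz hzf
      apply hφ2
      intro w
      by_cases hw : w = 1 ∨ w = z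
      · rcases hw with rfl | rfl <;> simp [hzf]
      push Not at hw
      have hfour : ∀ v : (T : Subgroup G), v = 1 ∨ v = z ∨ v = w ∨ v = z * w := by
        intro v
        by_contra hv
        push Not at hv
        have h1 : ({1, z, w, z * w, v} : Finset (T : Subgroup G)).card ≤ 4 :=
          (Finset.card_le_univ _).trans_eq (by rw [← Nat.card_eq_fintype_card, hT4])
        have h2 : z * w ≠ 1 := fun h => hw.2 (by
          rw [← mul_left_cancel_iff (a := z), h, hexp])
        have h3 : z * w ≠ z := fun h => hw.1 (mul_eq_left.mp h)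
        have h4 : z * w ≠ w := fun h => hz (mul_eq_right.mp h)
        simp [Ne.symm hz, Ne.symm hw.1, Ne.symm hw.2, h2.symm, h3.symm, h4.symm, Ne.symm hv.1,
          Ne.symm hv.2.1, Ne.symm hv.2.2.1, Ne.symm hv.2.2.2] at h1
      rcases hfour (φ w) with h | h | h | h
      · exact absurd (hφinj (h.trans (map_one φ).symm)) hw.1
      · exact absurd (hφinj (h.trans hzf.symm)) hw.2
      · rw [h, h]
      · rw [h, map_mul, hzf, h, ← mul_assoc, hexp, one_mul]
    have h1 : φ x ≠ x := hfix x hx
    have h2 : φ (φ x) ≠ φ x := fun h => h1 (hφinj h)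
    have h3 : φ (φ x) ≠ x := fun h => by
      refine hfix (x * φ x) (fun e => h1 ?_) ?_
      · rw [← mul_left_cancel_iff (a := x), e, hexp]
      · rw [map_mul, h]
        exact Subtype.ext (hTab _ (φ x).2 _ x.2)
    by_contra hy'
    push Not at hy'
    have hφx : φ x ≠ 1 := fun h => hx (hφinj (h.trans (map_one φ).symm))
    have hφφx : φ (φ x) ≠ 1 := fun h => hφx (hφinj (h.trans (map_one φ).symm))
    have h5 : ({1, x, φ x, φ (φ x), y} : Finset (T : Subgroup G)).card ≤ 4 :=
      (Finset.card_le_univ _).trans_eq (by rw [← Nat.card_eq_fintype_card, hT4])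
    simp [Ne.symm hx, Ne.symm hy, Ne.symm hφx, Ne.symm hφφx, h1.symm, h2.symm, h3.symm,
      Ne.symm hy'.1, Ne.symm hy'.2.1, Ne.symm hy'.2.2] at h5
  -- all involutions are conjugate to `t`
  have hinvconj : ∀ u : G, u * u = 1 → u ≠ 1 → ∃ h : G, u = h * t * h⁻¹ := by
    intro u hu hu1
    have hou : orderOf u = 2 := orderOf_eq_prime (by rw [pow_two, hu]) hu1
    obtain ⟨S, hS⟩ := (IsPGroup.of_card (p := 2) (n := 1)
      (show Nat.card (Subgroup.zpowers u) = 2 ^ 1 by rw [Nat.card_zpowers, hou, pow_one])).exists_le_sylow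
    obtain ⟨c, hc⟩ := MulAction.exists_smul_eq G T S
    have h1 : u ∈ (S : Subgroup G) := hS (Subgroup.mem_zpowers u)
    rw [← hc, Sylow.coe_subgroup_smul, Subgroup.mem_pointwise_smul_iff_inv_smul_mem] at h1
    have h2 : c⁻¹ * u * c ∈ (T : Subgroup G) := by simpa [MulAut.smul_def] using h1
    rcases hthree ⟨t, hT (Subgroup.mem_zpowers t)⟩ ⟨_, h2⟩ (fun e => ht1 (congrArg Subtype.val e))
      (fun e => hu1 (by
        have e' : c⁻¹ * u * c = 1 := congrArg Subtype.val e
        rw [show u = c * (c⁻¹ * u * c) * c⁻¹ by group, e']; group))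
      with e | e | e
    · have e' : c⁻¹ * u * c = t := congrArg Subtype.val e
      exact ⟨c, by rw [← e']; group⟩
    · have e' : c⁻¹ * u * c = g * t * g⁻¹ := congrArg Subtype.val e
      exact ⟨c * g, by rw [show c * g * t * (c * g)⁻¹ = c * (g * t * g⁻¹) * c⁻¹ by group, ← e']; group⟩
    · have e' : c⁻¹ * u * c = g * (g * t * g⁻¹) * g⁻¹ := congrArg Subtype.val e
      exact ⟨c * g * g, by
        rw [show c * g * g * t * (c * g * g)⁻¹ = c * (g * (g * t * g⁻¹) * g⁻¹) * c⁻¹ by group, ← e']
        group⟩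
  -- transported structure
  have hidxN : (C.subgroupOf N).index = 2 := by
    have h1 := Subgroup.card_mul_index (C.subgroupOf N)
    rw [Nat.card_congr (Subgroup.subgroupOfEquivOfLe hCN).toEquiv, hC', hN,
      show 4 * q = 2 * q * 2 by ring] at h1
    exact mul_left_cancel₀ (by omega) h1
  have hout : ∀ x ∈ N, ∀ y ∈ N, x ∉ C → y ∉ C → x * y ∈ C := by
    intro x hx y hy hx' hy'
    have := (Subgroup.mul_mem_iff_of_index_two hidxN (a := ⟨x, hx⟩) (b := ⟨y, hy⟩)).mpr
      (iff_of_false (by simpa [Subgroup.mem_subgroupOf] using hx')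
        (by simpa [Subgroup.mem_subgroupOf] using hy'))
    exact Subgroup.mem_subgroupOf.mp this
  have hCsq : ∀ x ∈ C, x * x = 1 → x ≠ 1 → x = t := fun x hx h h1 => (huniq x hx h).resolve_left h1
  -- an involution `s` of `T` outside `C`, inverting `C`
  obtain ⟨s, hsT, hs1, hst⟩ : ∃ s ∈ (T : Subgroup G), s ≠ 1 ∧ s ≠ t := by
    by_contra h
    push Not at h
    have hle : (T : Subgroup G) ≤ Subgroup.zpowers t := fun s hs' => by
      by_cases h1 : s = 1
      · rw [h1]; exact one_mem _
      · rw [h s hs' h1]; exact Subgroup.mem_zpowers t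
    have := Subgroup.card_le_of_le hle
    rw [Nat.card_zpowers, ht, hT4] at this
    omega
  have hs2 : s * s = 1 := congrArg Subtype.val (hexp ⟨s, hsT⟩)
  have hsN : s ∈ N := (hCt s).mp (hTab s hsT t (hT (Subgroup.mem_zpowers t)))
  have hsC : s ∉ C := fun h => hst (hCsq s h hs2 hs1)
  have hsfix : ∀ x ∈ (P : Subgroup G), s * x * s⁻¹ = x → x = 1 := by
    intro x hx he
    obtain ⟨c, hc⟩ := hinvconj s hs2 hs1
    have hx' : c⁻¹ * x * c ∈ N := by
      rw [← hCt]
      have e1 : s * x = x * s := mul_inv_eq_iff_eq_mul.mp he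
      rw [hc] at e1
      calc c⁻¹ * x * c * t = c⁻¹ * (x * (c * t * c⁻¹)) * c := by group
        _ = c⁻¹ * (c * t * c⁻¹ * x) * c := by rw [e1]
        _ = t * (c⁻¹ * x * c) := by group
    by_contra hx1
    have hxC : c⁻¹ * x * c ∈ C := by
      by_contra hno
      obtain ⟨m', hm'⟩ := hodd
      have h1 : (c⁻¹ * x * c) ^ q = 1 := by
        have := conj_pow (a := c⁻¹) (b := x) (i := q)
        rw [inv_inv] at this
        rw [this, hPpow x hx]; group
      have h2 := hout _ hx' _ hx' hno hno
      rw [hm', pow_add, pow_mul, pow_two, pow_one] at h1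
      have h3 : ((c⁻¹ * x * c) * (c⁻¹ * x * c)) ^ m' ∈ C := pow_mem h2 m'
      rw [eq_inv_of_mul_eq_one_left h1] at h3
      exact hno (inv_mem_iff.mp h3)
    by_cases hcN : c ∈ N
    · exact hst (by rw [hc, (hCt c).mpr hcN, mul_inv_cancel_right])
    · exact hx1 (by
        have h := hti c hcN _ hxC
          (by rw [show c * (c⁻¹ * x * c) * c⁻¹ = x by group]; exact hPC hx)
        rw [show x = c * (c⁻¹ * x * c) * c⁻¹ by group, h]; group)
  have hsinv : ∀ x ∈ (P : Subgroup G), s * x * s⁻¹ = x⁻¹ := by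
    let ψ : (P : Subgroup G) →* (P : Subgroup G) := MonoidHom.mk' (fun x => ⟨s * x * s⁻¹,
      (Subgroup.mem_normalizer_iff.mp hsN x).mp x.2⟩) fun x y => Subtype.ext (by
        simp only [Subgroup.coe_mul]; group)
    have hfp : MonoidHom.FixedPointFree ψ := fun x hx =>
      Subtype.ext (hsfix x x.2 (congrArg Subtype.val hx))
    have hinv : Function.Involutive ψ := fun x => Subtype.ext (by
      show s * (s * (x : G) * s⁻¹) * s⁻¹ = x
      rw [show s * (s * (x : G) * s⁻¹) * s⁻¹ = (s * s) * x * (s * s)⁻¹ by group, hs2]; group)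
    intro x hx
    exact congrArg Subtype.val (congrFun (hfp.coe_eq_inv_of_involutive hinv) ⟨x, hx⟩)
  have hsCinv : ∀ x ∈ C, s * x * s⁻¹ = x⁻¹ := by
    intro x hx
    rcases hdec x hx with h | h
    · exact hsinv x h
    · have e1 := hsinv _ h
      have e2 : s * t * s⁻¹ = t := by rw [(hCt s).mpr hsN, mul_inv_cancel_right]
      rw [show s * (x * t) * s⁻¹ = (s * x * s⁻¹) * (s * t * s⁻¹) by group, e2, mul_inv_rev] at e1
      calc s * x * s⁻¹ = s * x * s⁻¹ * (t * t) := by rw [ht2, mul_one]
        _ = s * x * s⁻¹ * t * t := (mul_assoc _ _ _).symm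
        _ = t⁻¹ * x⁻¹ * t := by rw [e1]
        _ = t⁻¹ * (t * x⁻¹) := by rw [mul_assoc, hCab _ (inv_mem hx) t htC]
        _ = x⁻¹ := inv_mul_cancel_left _ _
  have houtinv : ∀ y ∈ N, y ∉ C → y * y = 1 ∧ ∀ x ∈ C, y * x * y⁻¹ = x⁻¹ := by
    intro y hy hy'
    have hc := hout s hsN y hy hsC hy'
    set c := s * y with hcdef
    have hyc : y = s * c := by rw [hcdef, ← mul_assoc, hs2, one_mul]
    have hsi : s⁻¹ = s := inv_eq_of_mul_eq_one_right hs2
    refine ⟨?_, fun x hx => ?_⟩
    · rw [hyc]
      calc s * c * (s * c) = (s * c * s⁻¹) * c := by rw [hsi]; group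
        _ = 1 := by rw [hsCinv c hc, inv_mul_cancel]
    · rw [hyc, show s * c * x * (s * c)⁻¹ = s * (c * x * c⁻¹) * s⁻¹ by group,
        hCab c hc x hx, mul_inv_cancel_right]
      exact hsCinv x hx
  -- the graph of involutions
  let V := {u : G // u * u = 1 ∧ u ≠ 1}
  have := Fintype.ofFinite V
  have : Nonempty V := ⟨⟨t, ht2, ht1⟩⟩
  let adj : V → V → Prop := fun u v => u.1 ≠ v.1 ∧ u.1 * v.1 = v.1 * u.1
  -- conjugating a vertex to `t`
  have hmove : ∀ (u : V) (c : G), u.1 = c * t * c⁻¹ → ∀ v : V, adj u v ↔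
      (c⁻¹ * v.1 * c ∈ N ∧ c⁻¹ * v.1 * c ∉ C) := by
    intro u c hc v
    set w := c⁻¹ * v.1 * c
    have hv : v.1 = c * w * c⁻¹ := by simp only [w]; group
    have hw2 : w * w = 1 := by
      rw [show w * w = c⁻¹ * (v.1 * v.1) * c by simp only [w]; group, v.2.1]; group
    have hw1 : w ≠ 1 := fun h => v.2.2 (by rw [hv, h]; group)
    have e1 : u.1 * v.1 = c * (t * w) * c⁻¹ := by rw [hc, hv]; group
    have e2 : v.1 * u.1 = c * (w * t) * c⁻¹ := by rw [hc, hv]; group
    constructor
    · rintro ⟨hne, hcomm⟩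
      rw [e1, e2] at hcomm
      have h := mul_left_cancel (mul_right_cancel hcomm)
      refine ⟨(hCt w).mp h.symm, fun hwC => hne ?_⟩
      rw [hv, hCsq w hwC hw2 hw1, hc]
    · rintro ⟨hwN, hwC⟩
      refine ⟨fun e => hwC ?_, by rw [e1, e2, (hCt w).mpr hwN]⟩
      rw [hc, hv] at e
      rw [← mul_left_cancel (mul_right_cancel e)]
      exact htC
  have hdeg : ∀ u : V, (Finset.univ.filter (adj u)).card = (2 * q - 1) + 1 := by
    intro u
    obtain ⟨c, hc⟩ := hinvconj u.1 u.2.1 u.2.2
    have e : {v : V // adj u v} ≃ {w : N // w ∉ C.subgroupOf N} :=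
      { toFun := fun v => ⟨⟨c⁻¹ * v.1.1 * c, ((hmove u c hc v.1).mp v.2).1⟩,
          fun h => ((hmove u c hc v.1).mp v.2).2 (Subgroup.mem_subgroupOf.mp h)⟩
        invFun := fun w => ⟨⟨c * w.1.1 * c⁻¹, by
            rw [show c * w.1.1 * c⁻¹ * (c * w.1.1 * c⁻¹) = c * (w.1.1 * w.1.1) * c⁻¹ by group,
              (houtinv w.1.1 w.1.2 (fun h => w.2 (Subgroup.mem_subgroupOf.mpr h))).1]
            group, fun h => w.2 (by rw [Subgroup.mem_subgroupOf, conj_eq_one_iff.mp h]; exact one_mem C)⟩,
          (hmove u c hc _).mpr (by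
            have : c⁻¹ * (c * w.1.1 * c⁻¹) * c = w.1.1 := by group
            simp only [this]
            exact ⟨w.1.2, fun h => w.2 (Subgroup.mem_subgroupOf.mpr h)⟩)⟩
        left_inv := fun v => Subtype.ext (Subtype.ext (by simp only; group))
        right_inv := fun w => Subtype.ext (Subtype.ext (by simp only; group)) }
    rw [← Fintype.card_subtype, ← Nat.card_eq_fintype_card, Nat.card_congr e,
      Nat.card_eq_fintype_card, Fintype.card_subtype_compl, ← Nat.card_eq_fintype_card,
      ← Nat.card_eq_fintype_card, hN]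
    have : Nat.card {x : N // x ∈ C.subgroupOf N} = 2 * q := by
      rw [← hC]; exact Nat.card_congr (Subgroup.subgroupOfEquivOfLe hCN).toEquiv
    rw [this]
    omega
  have hsymm : ∀ u v, adj u v → adj v u := fun u v h => ⟨Ne.symm h.1, h.2.symm⟩
  have hone : ∀ u v, u ≠ v → (Finset.univ.filter fun w => adj u w ∧ adj w v).card = 1 := by
    intro u v huv
    have huv' : u.1 ≠ v.1 := fun e => huv (Subtype.ext e)
    have hui : u.1⁻¹ = u.1 := inv_eq_of_mul_eq_one_right u.2.1
    have hvi : v.1⁻¹ = v.1 := inv_eq_of_mul_eq_one_right v.2.1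
    rw [Finset.card_eq_one]
    by_cases hcomm : u.1 * v.1 = v.1 * u.1
    · have hw2 : (u.1 * v.1) * (u.1 * v.1) = 1 := by
        calc u.1 * v.1 * (u.1 * v.1) = u.1 * (v.1 * u.1) * v.1 := by group
          _ = (u.1 * u.1) * (v.1 * v.1) := by rw [← hcomm]; group
          _ = 1 := by rw [u.2.1, v.2.1, one_mul]
      have hw1 : u.1 * v.1 ≠ 1 := fun e => huv' (by rw [eq_inv_of_mul_eq_one_left e, hvi])
      let z : V := ⟨u.1 * v.1, hw2, hw1⟩
      refine ⟨z, Finset.eq_singleton_iff_unique_mem.mpr ⟨?_, ?_⟩⟩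
      · simp only [Finset.mem_filter, Finset.mem_univ, true_and]
        refine ⟨⟨fun e => v.2.2 (mul_eq_left.mp e.symm), ?_⟩,
          ⟨fun e => u.2.2 (mul_eq_right.mp e), ?_⟩⟩
        · show u.1 * (u.1 * v.1) = u.1 * v.1 * u.1
          rw [mul_assoc u.1 v.1 u.1, hcomm]
        · show u.1 * v.1 * v.1 = v.1 * (u.1 * v.1)
          rw [← mul_assoc, ← hcomm]
      · intro w hw
        simp only [Finset.mem_filter, Finset.mem_univ, true_and] at hw
        obtain ⟨huw, hwv⟩ := hw
        obtain ⟨c, hc⟩ := hinvconj u.1 u.2.1 u.2.2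
        obtain ⟨hwN, hwC⟩ := (hmove u c hc w).mp huw
        obtain ⟨hvN, hvC⟩ := (hmove u c hc v).mp ⟨huv', hcomm⟩
        set w' := c⁻¹ * w.1 * c
        set v' := c⁻¹ * v.1 * c
        have hp := hout _ hwN _ hvN hwC hvC
        have hpe : w' * v' = c⁻¹ * (w.1 * v.1) * c := by simp only [w', v']; group
        have hp2 : (w' * v') * (w' * v') = 1 := by
          rw [hpe, show c⁻¹ * (w.1 * v.1) * c * (c⁻¹ * (w.1 * v.1) * c) =
            c⁻¹ * (w.1 * (v.1 * w.1) * v.1) * c by group, ← hwv.2,
            show w.1 * (w.1 * v.1) * v.1 = (w.1 * w.1) * (v.1 * v.1) by group, w.2.1, v.2.1]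
          group
        rcases huniq _ hp hp2 with h | h
        · refine absurd ?_ hwv.1
          rw [hpe] at h
          have h' : w.1 * v.1 = 1 := by
            rw [show w.1 * v.1 = c * (c⁻¹ * (w.1 * v.1) * c) * c⁻¹ by group, h]; group
          rw [eq_inv_of_mul_eq_one_left h', hvi]
        · apply Subtype.ext
          show w.1 = u.1 * v.1
          have h' : w.1 * v.1 = u.1 := by
            rw [hpe] at h
            rw [hc, ← h]; group
          rw [← h', mul_assoc, v.2.1, mul_one]
    · -- non-commuting involutions: the centre of the dihedral group they generate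
      set x := u.1 * v.1 with hxdef
      have hx1 : x ≠ 1 := fun e => huv' (by rw [eq_inv_of_mul_eq_one_left e, hvi])
      have hxu : u.1 * x * u.1⁻¹ = x⁻¹ := by
        rw [hxdef, mul_inv_rev, hui, hvi, ← mul_assoc, u.2.1, one_mul]
      have hxv : v.1 * x * v.1⁻¹ = x⁻¹ := by
        rw [hxdef, mul_inv_rev, hui, hvi, mul_assoc v.1, mul_assoc u.1 v.1 v.1, v.2.1, mul_one]
      have hx2 : x * x ≠ 1 := fun e => hcomm (by
        have h := eq_inv_of_mul_eq_one_left e
        rw [hxdef, mul_inv_rev, hui, hvi] at h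
        exact h)
      set H := Subgroup.normalizer ((Subgroup.zpowers x : Subgroup G) : Set G)
      have huH : u.1 ∈ H := by
        have hmap : ∀ z ∈ Subgroup.zpowers x, u.1 * z * u.1⁻¹ ∈ Subgroup.zpowers x := by
          rintro z ⟨i, rfl⟩
          simp only
          rw [← conj_zpow, hxu]
          exact zpow_mem (inv_mem (Subgroup.mem_zpowers x)) i
        rw [Subgroup.mem_normalizer_iff]
        refine fun z => ⟨hmap z, fun hz => ?_⟩
        have := hmap _ hz
        rwa [show u.1 * (u.1 * z * u.1⁻¹) * u.1⁻¹ = (u.1 * u.1) * z * (u.1 * u.1)⁻¹ by group,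
          u.2.1, one_mul, inv_one, mul_one] at this
      have hHne : H ≠ ⊤ := by
        intro h
        rcases hprime _ (Subgroup.normalizer_eq_top_iff.mp h) with h1 | h1
        · exact hx1 (Subgroup.zpowers_eq_bot.mp h1)
        · apply hcomm
          obtain ⟨i, hi⟩ : u.1 ∈ Subgroup.zpowers x := h1 ▸ Subgroup.mem_top _
          obtain ⟨j, hj⟩ : v.1 ∈ Subgroup.zpowers x := h1 ▸ Subgroup.mem_top _
          simp only at hi hj
          exact hxdef.trans ((congrArg₂ (· * ·) hi hj).symm.trans
            (((Commute.refl x).zpow_zpow i j).eq.trans (congrArg₂ (· * ·) hj hi)))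
      have hordu : orderOf u.1 = 2 := orderOf_eq_prime (by rw [pow_two, u.2.1]) u.2.2
      have hH4 := heven H hHne (hordu ▸ Subgroup.orderOf_dvd_natCard H huH)
      have hxord : orderOf x ∣ 4 * q :=
        ((Nat.card_zpowers x).symm.dvd.trans (Subgroup.card_dvd_of_le
          (Subgroup.le_normalizer (H := Subgroup.zpowers x)))).trans hH4
      have h4 : ∀ z : G, z ^ 4 = 1 → z * z = 1 := by
        intro z hz
        obtain ⟨i, -, hi⟩ := (Nat.dvd_prime_pow Nat.prime_two).mp
          (show orderOf z ∣ 2 ^ 2 from orderOf_dvd_of_pow_eq_one hz)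
        obtain ⟨S, hS⟩ := (IsPGroup.of_card (p := 2)
          ((Nat.card_zpowers z).trans hi)).exists_le_sylow
        obtain ⟨d, hd⟩ := MulAction.exists_smul_eq G T S
        have h1 : z ∈ (S : Subgroup G) := hS (Subgroup.mem_zpowers z)
        rw [← hd, Sylow.coe_subgroup_smul, Subgroup.mem_pointwise_smul_iff_inv_smul_mem] at h1
        have h2 : d⁻¹ * z * d ∈ (T : Subgroup G) := by simpa [MulAut.smul_def] using h1
        have h3 : d⁻¹ * z * d * (d⁻¹ * z * d) = 1 := congrArg Subtype.val (hexp ⟨_, h2⟩)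
        rw [show z * z = d * (d⁻¹ * z * d * (d⁻¹ * z * d)) * d⁻¹ by group, h3]; group
      set y := x * x
      have hy1 : y ≠ 1 := hx2
      have hyq : y ^ q = 1 := by
        have e1 : (x ^ q) ^ 4 = 1 := by
          rw [← pow_mul, mul_comm]; exact orderOf_dvd_iff_pow_eq_one.mp hxord
        have e2 := h4 _ e1
        rw [← pow_add] at e2
        simp only [y]
        rw [← pow_two, ← pow_mul, two_mul, e2]
      obtain ⟨i, -, hi⟩ := (Nat.dvd_prime_pow Nat.prime_three).mp
        (show orderOf y ∣ 3 ^ a from ha ▸ orderOf_dvd_of_pow_eq_one hyq)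
      obtain ⟨S, hS⟩ := (IsPGroup.of_card (p := 3)
        ((Nat.card_zpowers y).trans hi)).exists_le_sylow
      obtain ⟨d, hd⟩ := MulAction.exists_smul_eq G P S
      have h1 : y ∈ (S : Subgroup G) := hS (Subgroup.mem_zpowers y)
      rw [← hd, Sylow.coe_subgroup_smul, Subgroup.mem_pointwise_smul_iff_inv_smul_mem] at h1
      have h2 : d⁻¹ * y * d ∈ (P : Subgroup G) := by simpa [MulAut.smul_def] using h1
      set y' := d⁻¹ * y * d
      have hy'1 : y' ≠ 1 := fun e => hy1 (by
        rw [show y = d * (d⁻¹ * y * d) * d⁻¹ by group]; simp only [y'] at e; rw [e]; group)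
      have hz2 : d * t * d⁻¹ * (d * t * d⁻¹) = 1 := by
        rw [show d * t * d⁻¹ * (d * t * d⁻¹) = d * (t * t) * d⁻¹ by group, ht2]
        group
      let z : V := ⟨d * t * d⁻¹, hz2, fun h => ht1 (conj_eq_one_iff.mp h)⟩
      have hnorm : ∀ r : V, r.1 * x * r.1⁻¹ = x⁻¹ → d⁻¹ * r.1 * d ∈ N := by
        intro r hr
        have hry : r.1 * y * r.1⁻¹ = y⁻¹ := by
          show r.1 * (x * x) * r.1⁻¹ = (x * x)⁻¹
          rw [show r.1 * (x * x) * r.1⁻¹ = (r.1 * x * r.1⁻¹) * (r.1 * x * r.1⁻¹) by group, hr]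
          exact (mul_inv_rev x x).symm
        by_contra hno
        refine hy'1 (hti _ hno y' (hPC h2) ?_)
        rw [show d⁻¹ * r.1 * d * y' * (d⁻¹ * r.1 * d)⁻¹ = d⁻¹ * (r.1 * y * r.1⁻¹) * d by
          simp only [y']; group, hry]
        have := inv_mem (hPC h2)
        simp only [y'] at this
        rwa [show (d⁻¹ * y * d)⁻¹ = d⁻¹ * y⁻¹ * d by group] at this
      have hadjz : ∀ r : V, r.1 * x * r.1⁻¹ = x⁻¹ → r.1 ≠ z.1 → adj z r := by
        intro r hr hne
        have hN' := hnorm r hr
        refine ⟨Ne.symm hne, ?_⟩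
        show d * t * d⁻¹ * r.1 = r.1 * (d * t * d⁻¹)
        calc d * t * d⁻¹ * r.1 = d * (t * (d⁻¹ * r.1 * d)) * d⁻¹ := by group
          _ = d * (d⁻¹ * r.1 * d * t) * d⁻¹ := by rw [(hCt _).mpr hN']
          _ = r.1 * (d * t * d⁻¹) := by group
      have hzu : z.1 ≠ u.1 := fun e => by
        have h := hadjz v hxv (fun e' => huv' (e.symm.trans e'.symm))
        exact hcomm (hxdef.trans ((congrArg (· * v.1) e).symm.trans (h.2.trans (congrArg (v.1 * ·) e))))
      have hzv : z.1 ≠ v.1 := fun e => by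
        have h := hadjz u hxu (fun e' => huv' (e'.trans e))
        exact hcomm (hxdef.trans ((congrArg (u.1 * ·) e).symm.trans (h.2.symm.trans (congrArg (· * u.1) e))))
      refine ⟨z, Finset.eq_singleton_iff_unique_mem.mpr ⟨?_, ?_⟩⟩
      · simp only [Finset.mem_filter, Finset.mem_univ, true_and]
        exact ⟨hsymm _ _ (hadjz u hxu hzu.symm), hadjz v hxv hzv.symm⟩
      · intro w hw
        simp only [Finset.mem_filter, Finset.mem_univ, true_and] at hw
        obtain ⟨huw, hwv⟩ := hw
        obtain ⟨c, hc⟩ := hinvconj w.1 w.2.1 w.2.2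
        obtain ⟨huN, huC⟩ := (hmove w c hc u).mp (hsymm _ _ huw)
        obtain ⟨hvN, hvC⟩ := (hmove w c hc v).mp hwv
        have hxC : c⁻¹ * x * c ∈ C := by
          rw [show c⁻¹ * x * c = (c⁻¹ * u.1 * c) * (c⁻¹ * v.1 * c) by rw [hxdef]; group]
          exact hout _ huN _ hvN huC hvC
        have hyC : c⁻¹ * y * c ∈ C := by
          rw [show c⁻¹ * y * c = (c⁻¹ * x * c) * (c⁻¹ * x * c) by simp only [y]; group]
          exact mul_mem hxC hxC
        apply Subtype.ext
        show w.1 = d * t * d⁻¹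
        rw [hc]
        have hdc : d⁻¹ * c ∈ N := by
          by_contra hno
          refine hy1 ?_
          have h := hti _ hno (c⁻¹ * y * c) hyC (by
            rw [show d⁻¹ * c * (c⁻¹ * y * c) * (d⁻¹ * c)⁻¹ = d⁻¹ * y * d by group]; exact hPC h2)
          rw [show y = c * (c⁻¹ * y * c) * c⁻¹ by group, h]; group
        calc c * t * c⁻¹ = d * (d⁻¹ * c * t * (d⁻¹ * c)⁻¹) * d⁻¹ := by group
          _ = d * t * d⁻¹ := by rw [(hCt _).mpr hdc, mul_inv_cancel_right]
  obtain ⟨r, hr, hrd⟩ := Nat.exists_prime_and_dvd (show 2 * q - 1 ≠ 1 by omega)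
  have := Fact.mk hr
  exact no_friendship adj (fun v h => h.1 rfl) hsymm (2 * q - 1) hdeg hone hrd


/-- Let G be a finite group with an abelian Sylow 3-subgroup P such that the normalizer of P has order 4·#P, the centralizer C of P has order 2·#P, C meets each of its conjugates by elements outside its normalizer trivially, and every proper subgroup of G of even order has order dividing 4·#P. Then G is not simple. -/
theorem result {G : Type*} [Group G] [Finite G]
    (P : Sylow 3 G) (hab : IsMulCommutative P)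
    (hN : Nat.card (Subgroup.normalizer ((P : Subgroup G) : Set G)) = 4 * Nat.card P)
    (hC : Nat.card (Subgroup.centralizer (P : Set G)) = 2 * Nat.card P)
    (hTI : Cfsg.IsTISubset (Subgroup.centralizer (P : Set G) : Set G))
    (heven : ∀ H : Subgroup G, H ≠ ⊤ → 2 ∣ Nat.card H → Nat.card H ∣ 4 * Nat.card P) :
    ¬ IsSimpleGroup G := by
  exact fun hs => not_simple_aux P hab hN hC hTI heven hs

end Cfsg.Agent.S4018
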