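import Cfsg.Statements.S4016
import Mathlib
import Cfsg.Agent.Lib.CA.Suzuki
import Cfsg.Agent.Lib.Solvable.Basic
import Cfsg.Agent.Lib.Solvable.Core
import Cfsg.Agent.Lib.Solvable.Hall
import Cfsg.Agent.Lib.Transfer.PResidual
import Cfsg.Agent.S4018
import Cfsg.Agent.S4022

set_option autoImplicit false
open Cfsg

namespace Cfsg.Agent.S4016

open scoped Pointwise

universe u

theorem isCyclic_subgroup {G : Type*} [Group G] {C A : Subgroup G} (hC : IsCyclic C) (h : A ≤ C) :
    IsCyclic A :=
  isCyclic_of_injective (Subgroup.inclusion h) (Subgroup.inclusion_injective h)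

/-- An element of order prime to `p` normalizing a cyclic `p`-group and centralizing a nontrivial
element of it centralizes all of it. -/
theorem comm_of_comm_elt {G : Type*} [Group G] [Finite G] {p : ℕ} [hp : Fact p.Prime]
    {P : Subgroup G} (hP : IsPGroup p P) (hc : IsCyclic P) {a : G}
    (haN : a ∈ Subgroup.normalizer (P : Set G)) (ha : (orderOf a).Coprime p) {z : G} (hz : z ∈ P)
    (hz1 : z ≠ 1) (haz : a * z = z * a) : ∀ x ∈ P, a * x = x * a := by
  obtain ⟨u, hu⟩ := Subgroup.isCyclic_iff_exists_zpowers_eq_top P |>.mp hc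
  have huP : u ∈ P := hu ▸ Subgroup.mem_zpowers u
  obtain ⟨n, hn⟩ := IsPGroup.iff_card.mp hP
  rw [← hu, Nat.card_zpowers] at hn
  obtain ⟨k, hk⟩ : ∃ k : ℤ, u ^ k = a * u * a⁻¹ := by
    rw [← Subgroup.mem_zpowers_iff, hu]
    exact (Subgroup.mem_normalizer_iff.mp haN u).mp huP
  obtain ⟨i, hi⟩ : ∃ i : ℤ, u ^ i = z := by rw [← Subgroup.mem_zpowers_iff, hu]; exact hz
  have hdvd : ((p : ℤ) ^ n) ∣ i * (k - 1) := by
    have h2 : u ^ (k * i) = u ^ i := by
      rw [zpow_mul, hk, conj_zpow, hi, haz, mul_inv_cancel_right]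
    rw [zpow_eq_zpow_iff_modEq, Int.modEq_iff_dvd, hn] at h2
    have h3 := h2.neg_right
    rw [Nat.cast_pow] at h3
    rwa [show i * (k - 1) = -(i - k * i) by ring]
  have hk1 : (p : ℤ) ∣ k - 1 := by
    by_contra hk1
    refine hz1 ?_
    have h3 : ((p : ℤ) ^ n) ∣ i :=
      ((((Nat.prime_iff_prime_int.mp hp.out).coprime_iff_not_dvd).mpr hk1).pow_left).dvd_of_dvd_mul_right hdvd
    rw [← hi, ← orderOf_dvd_iff_zpow_eq_one, hn, Nat.cast_pow]
    exact h3
  have hiter : ∀ m : ℕ, a ^ m * u * (a ^ m)⁻¹ = u ^ (k ^ m) := by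
    intro m
    induction m with
    | zero => simp
    | succ m ih =>
      rw [show a ^ (m + 1) * u * (a ^ (m + 1))⁻¹ = a * (a ^ m * u * (a ^ m)⁻¹) * a⁻¹ by
        rw [pow_succ']; group, ih, ← conj_zpow, ← hk, ← zpow_mul]
      congr 1
      ring
  have hpow : a ^ p ^ n * u * (a ^ p ^ n)⁻¹ = u := by
    rw [hiter]
    conv_rhs => rw [← zpow_one u]
    rw [zpow_eq_zpow_iff_modEq, Int.modEq_iff_dvd, hn, Nat.cast_pow]
    have h := dvd_sub_pow_of_dvd_sub (R := ℤ) (p := p) (a := k) (b := 1) hk1 n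
    rw [one_pow] at h
    exact (dvd_trans (pow_dvd_pow _ (Nat.le_succ n)) h).neg_right.trans (by rw [neg_sub])
  obtain ⟨m, hm⟩ := exists_pow_eq_self_of_coprime (x := a) (n := p ^ n) (ha.symm.pow_left n)
  intro x hx
  obtain ⟨j, rfl⟩ : ∃ j : ℤ, u ^ j = x := by rw [← Subgroup.mem_zpowers_iff, hu]; exact hx
  have h1 : Commute (a ^ p ^ n) u := mul_inv_eq_iff_eq_mul.mp hpow
  have h2 := (h1.pow_left m).zpow_right j
  rw [hm] at h2
  exact h2.eq

theorem hasNPC_of_normal {G : Type*} [Group G] [Finite G] {p : ℕ} [Fact p.Prime] (N : Subgroup G)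
    [N.Normal] (hN : (Nat.card N).Coprime p) {k : ℕ} (hk : N.index = p ^ k) :
    Cfsg.HasNormalPComplement p G := by
  let P : Sylow p G := default
  obtain ⟨n, hn⟩ := IsPGroup.iff_card.mp P.2
  refine ⟨P, N, inferInstance, Subgroup.isComplement'_of_coprime ?_ (by rw [hn]; exact hN.pow_right n)⟩
  have h1 := Subgroup.card_mul_index N
  have hfac : n = k := by
    have h2 := P.card_eq_multiplicity
    rw [hn, ← h1, hk, Nat.factorization_mul Nat.card_pos.ne' (pow_ne_zero _ (Fact.out : p.Prime).ne_zero),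
      Finsupp.add_apply, Nat.factorization_eq_zero_of_not_dvd
        ((Fact.out : p.Prime).coprime_iff_not_dvd.mp hN.symm), zero_add,
      Nat.Prime.factorization_pow (Fact.out : p.Prime), Finsupp.single_eq_same] at h2
    exact Nat.pow_right_injective (Fact.out : p.Prime).two_le h2
  rw [hn, hfac, ← hk, h1]

/-- The parts of an element generate it. -/
theorem mem_of_parts {G : Type*} [Group G] [Finite G] {p : ℕ} [hp : Fact p.Prime] (H : Subgroup G)
    {g : G} (h : ∀ b ∈ Subgroup.zpowers g, (∃ k : ℕ, b ^ p ^ k = 1) ∨ (orderOf b).Coprime p → b ∈ H) :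
    g ∈ H := by
  set k := (orderOf g).factorization p
  set m := orderOf g / p ^ k with hm
  have hkm : p ^ k * m = orderOf g := Nat.ordProj_mul_ordCompl_eq_self _ p
  have hcop : Int.gcd (p ^ k : ℕ) (m : ℕ) = 1 := by
    rw [Int.gcd_natCast_natCast]
    exact Nat.Coprime.pow_left k (Nat.coprime_ordCompl hp.out (orderOf_pos g).ne')
  have h1 := h (g ^ p ^ k) (Subgroup.pow_mem _ (Subgroup.mem_zpowers g) _) (Or.inr (by
    rw [orderOf_pow_of_dvd (pow_ne_zero _ hp.out.ne_zero) (Nat.ordProj_dvd _ _)]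
    exact (Nat.coprime_ordCompl hp.out (orderOf_pos g).ne').symm))
  have h2 := h (g ^ m) (Subgroup.pow_mem _ (Subgroup.mem_zpowers g) _) (Or.inl ⟨k, by
    rw [← pow_mul, mul_comm, hkm, pow_orderOf_eq_one]⟩)
  have he := Int.gcd_eq_gcd_ab (p ^ k : ℕ) (m : ℕ)
  rw [hcop, Nat.cast_one] at he
  rw [← zpow_one g, he, zpow_add, zpow_mul, zpow_mul, zpow_natCast, zpow_natCast]
  exact mul_mem (zpow_mem h1 _) (zpow_mem h2 _)

theorem abelian_sup {G : Type*} [Group G] [Finite G] {p : ℕ}
    [Fact p.Prime] (hab : ∀ H : Subgroup G, ¬ p ∣ Nat.card H → IsMulCommutative H) {M : Subgroup G}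
    (hM : (Nat.card M).Coprime p) {a : G} (haM : a ∈ Subgroup.normalizer (M : Set G))
    (ha : (orderOf a).Coprime p) : ∀ m ∈ M, a * m = m * a := by
  have hH := CfsgLib.Solvable.card_sup_dvd (N := M) (H := Subgroup.zpowers a) (Subgroup.zpowers_le.mpr haM)
  rw [Nat.card_zpowers] at hH
  have hc := hab (M ⊔ Subgroup.zpowers a) ((Fact.out : p.Prime).coprime_iff_not_dvd.mp
    ((Nat.Coprime.mul_left hM ha).coprime_dvd_left hH).symm)
  exact fun m hm => congrArg Subtype.val
    (hc.is_comm.comm ⟨a, Subgroup.mem_sup_right (Subgroup.mem_zpowers a)⟩ ⟨m, Subgroup.mem_sup_left hm⟩)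

theorem abelian_of_coprime {G : Type*} [Group G] [Finite G] {p : ℕ}
    [Fact p.Prime] (hab : ∀ H : Subgroup G, ¬ p ∣ Nat.card H → IsMulCommutative H) {M : Subgroup G}
    (hM : (Nat.card M).Coprime p) : ∀ u ∈ M, ∀ v ∈ M, u * v = v * u := by
  have hc := hab M ((Fact.out : p.Prime).coprime_iff_not_dvd.mp hM.symm)
  exact fun u hu v hv => congrArg Subtype.val (hc.is_comm.comm ⟨u, hu⟩ ⟨v, hv⟩)

/-- A normal `p'`-subgroup is centralized by `P` when some `p'`-element acts nontrivially on `P`. -/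
theorem centralizes_core {G : Type*} [Group G] [Finite G] {p : ℕ} [Fact p.Prime] (P : Sylow p G)
    (hc : IsCyclic P) (hab : ∀ H : Subgroup G, ¬ p ∣ Nat.card H → IsMulCommutative H)
    (M : Subgroup G) [M.Normal] (hM : (Nat.card M).Coprime p) {a : G}
    (haN : a ∈ Subgroup.normalizer ((P : Subgroup G) : Set G)) (ha : (orderOf a).Coprime p)
    (hne : ¬ ∀ x ∈ (P : Subgroup G), a * x = x * a) :
    ∀ x ∈ (P : Subgroup G), ∀ m ∈ M, x * m = m * x := by
  classical
  have hcomm : ∀ m ∈ M, a * m = m * a :=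
    abelian_sup hab hM (by rw [Subgroup.normalizer_eq_top_iff.mpr ‹M.Normal›]; trivial) ha
  have key : ∀ x ∈ (P : Subgroup G), ∀ m ∈ M,
      a * x * a⁻¹ * x⁻¹ * m = m * (a * x * a⁻¹ * x⁻¹) := by
    intro x hx m hm
    have hm' : x⁻¹ * m * x ∈ M := by simpa using ‹M.Normal›.conj_mem m hm x⁻¹
    have e1 : a⁻¹ * (x⁻¹ * m * x) = (x⁻¹ * m * x) * a⁻¹ :=
      ((show Commute a (x⁻¹ * m * x) from hcomm _ hm').inv_left).eq
    calc a * x * a⁻¹ * x⁻¹ * m = a * x * (a⁻¹ * (x⁻¹ * m * x)) * x⁻¹ := by group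
      _ = a * x * ((x⁻¹ * m * x) * a⁻¹) * x⁻¹ := by rw [e1]
      _ = (a * m) * x * a⁻¹ * x⁻¹ := by group
      _ = m * (a * x * a⁻¹ * x⁻¹) := by rw [hcomm m hm]; group
  have hPc : ∀ u ∈ (P : Subgroup G), ∀ v ∈ (P : Subgroup G), u * v = v * u := fun u hu v hv =>
    congrArg Subtype.val ((IsMulCommutative.is_comm (M := (P : Subgroup G))).comm ⟨u, hu⟩ ⟨v, hv⟩)
  let f : ↥(P : Subgroup G) → ↥(P : Subgroup G) := fun x => ⟨a * x * a⁻¹ * (x : G)⁻¹,
    mul_mem ((Subgroup.mem_normalizer_iff.mp haN x).mp x.2) (inv_mem x.2)⟩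
  have hf : Function.Injective f := by
    intro x y hxy
    have e : a * (x : G) * a⁻¹ * (x : G)⁻¹ = a * y * a⁻¹ * (y : G)⁻¹ := congrArg Subtype.val hxy
    by_contra hne'
    apply hne
    refine comm_of_comm_elt P.2 hc haN ha (z := (y : G)⁻¹ * x) (mul_mem (inv_mem y.2) x.2)
      (fun h => hne' (Subtype.ext (inv_mul_eq_one.mp h).symm)) ?_
    have e2 : (a * y * a⁻¹)⁻¹ * (a * x * a⁻¹) = (y : G)⁻¹ * x := by
      calc (a * y * a⁻¹)⁻¹ * (a * x * a⁻¹)
          = (a * y * a⁻¹)⁻¹ * (a * x * a⁻¹ * (x : G)⁻¹) * x := by group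
        _ = _ := by rw [e]; group
    calc a * ((y : G)⁻¹ * x) = (a * y * a⁻¹)⁻¹ * (a * x * a⁻¹) * a := by group
      _ = _ := by rw [e2]
  intro x hx m hm
  obtain ⟨w, hw⟩ := (Finite.injective_iff_surjective.mp hf) ⟨x, hx⟩
  have := key w w.2 m hm
  rwa [show a * (w : G) * a⁻¹ * (w : G)⁻¹ = x from congrArg Subtype.val hw] at this

/-- Consequence of the two alternatives for a subgroup `H`. -/
theorem sylow_normal_or_split {G : Type*} [Group G] [Finite G] {p : ℕ} [Fact p.Prime]
    {H : Subgroup G} (h : Cfsg.HasNormalPComplement p H ∨ ∀ Q : Sylow p H, (Q : Subgroup H).Normal) :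
    (∀ Q : Sylow p H, (Q : Subgroup H).Normal) ∨
      ∃ M : Subgroup G, M ≤ H ∧ (Nat.card M).Coprime p ∧
        (∀ g ∈ H, ∀ m ∈ M, g * m * g⁻¹ ∈ M) ∧ ∀ b ∈ H, (orderOf b).Coprime p → b ∈ M := by
  rcases h with ⟨Q, N, hN, hc⟩ | h
  · right
    obtain ⟨n, hn⟩ := IsPGroup.iff_card.mp Q.2
    have hidx : N.index = p ^ n := by rw [hc.symm.index_eq_card, hn]
    have hcard : (Nat.card N).Coprime p := by
      rw [← hc.index_eq_card]
      exact ((Fact.out : p.Prime).coprime_iff_not_dvd.mpr Q.not_dvd_index).symm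
    refine ⟨N.map H.subtype, Subgroup.map_subtype_le N,
      by rwa [Subgroup.card_map_of_injective H.subtype_injective], ?_, ?_⟩
    · rintro g hg _ ⟨m, hm, rfl⟩
      exact ⟨_, hN.conj_mem m hm ⟨g, hg⟩, rfl⟩
    · intro b hb hbo
      refine ⟨⟨b, hb⟩, ?_, rfl⟩
      exact CfsgLib.Transfer.mem_of_coprime_of_index_eq_pow N hidx (by rwa [Subgroup.orderOf_mk])
  · exact Or.inl h


/-- The facts used in the simple case. -/
structure Setup (G : Type u) [Group G] [Finite G] (p : ℕ) (P : Sylow p G) : Prop where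
  simp_ : ∀ N : Subgroup G, N.Normal → N = ⊥ ∨ N = ⊤
  cyc : IsCyclic P
  ab : ∀ H : Subgroup G, ¬ p ∣ Nat.card H → IsMulCommutative H
  ne_bot : (P : Subgroup G) ≠ ⊥
  not_normal : ¬ (P : Subgroup G).Normal
  proper : ∀ H : Subgroup G, H ≠ ⊤ →
    Cfsg.HasNormalPComplement p H ∨ ∀ Q : Sylow p H, (Q : Subgroup H).Normal
  mover : ∃ a ∈ Subgroup.normalizer ((P : Subgroup G) : Set G), (orderOf a).Coprime p ∧
    ¬ ∀ x ∈ (P : Subgroup G), a * x = x * a

variable {G : Type u} [Group G] [Finite G] {p : ℕ} [hp : Fact p.Prime] {P : Sylow p G}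

theorem Setup.p_dvd (S : Setup G p P) : p ∣ Nat.card G := by
  obtain ⟨n, hn⟩ := IsPGroup.iff_card.mp P.2
  have hn0 : n ≠ 0 := fun h => S.ne_bot (Subgroup.card_eq_one.mp (by rw [hn, h, pow_zero]))
  exact (hn ▸ dvd_pow_self p hn0 : p ∣ Nat.card P).trans (Subgroup.card_subgroup_dvd_card _)

/-- The centre is trivial. -/
theorem Setup.centralizer_ne_top (S : Setup G p P) {x : G} (hx : x ≠ 1) :
    Subgroup.centralizer ({x} : Set G) ≠ ⊤ := by
  intro h
  have hn : (Subgroup.zpowers x).Normal := ⟨fun y hy g => by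
    obtain ⟨k, rfl⟩ := Subgroup.mem_zpowers_iff.mp hy
    have hg : g * x = x * g :=
      Subgroup.mem_centralizer_singleton_iff.mp (h ▸ Subgroup.mem_top g)
    rw [(Commute.zpow_right hg k).eq, mul_inv_cancel_right]
    exact zpow_mem (Subgroup.mem_zpowers x) k⟩
  rcases S.simp_ _ hn with h1 | h1
  · exact hx (Subgroup.zpowers_eq_bot.mp h1)
  · have hc : ∀ u v : G, u * v = v * u := fun u v => by
      obtain ⟨i, rfl⟩ := Subgroup.mem_zpowers_iff.mp (h1 ▸ Subgroup.mem_top u)
      obtain ⟨j, rfl⟩ := Subgroup.mem_zpowers_iff.mp (h1 ▸ Subgroup.mem_top v)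
      exact ((Commute.refl x).zpow_zpow i j).eq
    exact S.not_normal ⟨fun y hy g => by rwa [hc g y, mul_inv_cancel_right]⟩

theorem pelem_mem_of_normalizer {P : Sylow p G} {b : G}
    (hb : b ∈ Subgroup.normalizer ((P : Subgroup G) : Set G)) (h : ∃ k : ℕ, b ^ p ^ k = 1) :
    b ∈ (P : Subgroup G) := by
  obtain ⟨k, hk⟩ := h
  obtain ⟨i, -, hi⟩ := (Nat.dvd_prime_pow hp.out).mp (orderOf_dvd_of_pow_eq_one hk)
  have hQ : IsPGroup p (Subgroup.zpowers b) := IsPGroup.of_card ((Nat.card_zpowers b).trans hi)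
  have h1 : b ∈ Subgroup.zpowers b ⊓ Subgroup.normalizer ((P : Subgroup G) : Set G) :=
    ⟨Subgroup.mem_zpowers b, hb⟩
  exact (Subgroup.mem_inf.mp ((le_of_eq (hQ.inf_normalizer_sylow P)) h1)).2

/-- A subgroup containing a nontrivial element of `P` and a mover normalizes `P`. -/
theorem Setup.le_normalizer_of_mover (S : Setup G p P) {H : Subgroup G} (hH : H ≠ ⊤)
    (hPH : (P : Subgroup G) ≤ H) {a : G} (haH : a ∈ H)
    (haN : a ∈ Subgroup.normalizer ((P : Subgroup G) : Set G)) (ha : (orderOf a).Coprime p)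
    (hne : ¬ ∀ x ∈ (P : Subgroup G), a * x = x * a) :
    H ≤ Subgroup.normalizer ((P : Subgroup G) : Set G) := by
  rcases sylow_normal_or_split (S.proper H hH) with h | ⟨M, -, hM, hMn, hMb⟩
  · have hn : ((P.subtype (N := H) hPH : Sylow p H) : Subgroup H).Normal := h _
    exact Subgroup.normal_subgroupOf_iff_le_normalizer hPH |>.mp hn
  · exfalso
    apply hne
    intro x hx
    have haM := hMb a haH ha
    have h1 : a * x * a⁻¹ * x⁻¹ ∈ M := by
      have := mul_mem haM (hMn x (hPH hx) _ (inv_mem haM))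
      simpa [mul_assoc] using this
    have h2 : a * x * a⁻¹ * x⁻¹ ∈ (P : Subgroup G) :=
      mul_mem ((Subgroup.mem_normalizer_iff.mp haN x).mp hx) (inv_mem hx)
    have h3 : M ⊓ (P : Subgroup G) = ⊥ := by
      obtain ⟨n, hn⟩ := IsPGroup.iff_card.mp P.2
      exact (Subgroup.disjoint_of_coprime_natCard (by rw [hn]; exact hM.pow_right n)).eq_bot
    have h4 : a * x * a⁻¹ * x⁻¹ ∈ (⊥ : Subgroup G) := h3 ▸ ⟨h1, h2⟩
    rw [Subgroup.mem_bot, mul_inv_eq_one] at h4
    exact mul_inv_eq_iff_eq_mul.mp h4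

/-- A distinguished element `z` of order `p` in `P`. -/
theorem Setup.exists_z (S : Setup G p P) :
    ∃ z ∈ (P : Subgroup G), orderOf z = p ∧
      (∀ u ∈ (P : Subgroup G), u ≠ 1 → z ∈ Subgroup.zpowers u) ∧
      ∀ g : G, g * z * g⁻¹ ∈ Subgroup.zpowers z → g ∈ Subgroup.normalizer ((P : Subgroup G) : Set G) := by
  obtain ⟨n, hn⟩ := IsPGroup.iff_card.mp P.2
  have hn0 : n ≠ 0 := fun h => S.ne_bot (Subgroup.card_eq_one.mp (by rw [hn, h, pow_zero]))
  obtain ⟨z', hz'⟩ := exists_prime_orderOf_dvd_card' (G := (P : Subgroup G)) p (hn ▸ dvd_pow_self p hn0)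
  set z : G := z'.1
  have hz : z ∈ (P : Subgroup G) := z'.2
  have hzo : orderOf z = p := by rw [Subgroup.orderOf_coe]; exact hz'
  have huniq : ∀ w ∈ (P : Subgroup G), orderOf w = p → Subgroup.zpowers w = Subgroup.zpowers z := by
    intro w hw hwo
    exact Cfsg.Agent.S4022.cyclic_subgroup_eq S.cyc (Subgroup.zpowers_le.mpr hw)
      (Subgroup.zpowers_le.mpr hz) (by rw [Nat.card_zpowers, Nat.card_zpowers, hwo, hzo])
  refine ⟨z, hz, hzo, fun u hu hu1 => ?_, ?_⟩
  · obtain ⟨i, -, hi⟩ := (Nat.dvd_prime_pow hp.out).mp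
      (hn ▸ Subgroup.orderOf_dvd_natCard (P : Subgroup G) hu)
    have hi0 : i ≠ 0 := fun h => hu1 (orderOf_eq_one_iff.mp (by rw [hi, h, pow_zero]))
    have hd : p ∣ orderOf u := hi ▸ dvd_pow_self p hi0
    have hw : orderOf (u ^ (orderOf u / p)) = p := orderOf_pow_orderOf_div (orderOf_pos u).ne' hd
    exact Subgroup.zpowers_le.mpr (Subgroup.pow_mem _ (Subgroup.mem_zpowers u) _)
      ((huniq _ (pow_mem hu _) hw).symm ▸ Subgroup.mem_zpowers z)
  · intro g hg
    set Z := Subgroup.zpowers z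
    have hmap : Z.map (MulAut.conj g).toMonoidHom = Z := by
      refine Subgroup.eq_of_le_of_card_ge ?_
        (Subgroup.card_map_of_injective (MulAut.conj g).injective).ge
      rw [MonoidHom.map_zpowers, Subgroup.zpowers_le]
      exact hg
    have hgN : g ∈ Subgroup.normalizer (Z : Set G) := Subgroup.mem_normalizer_iff_map_conj_eq.mpr hmap
    obtain ⟨a, haN, ha, hne⟩ := S.mover
    have haZ : a ∈ Subgroup.normalizer (Z : Set G) := by
      rw [Subgroup.mem_normalizer_iff_map_conj_eq, MonoidHom.map_zpowers]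
      exact huniq _ ((Subgroup.mem_normalizer_iff.mp haN z).mp hz)
        (by rw [← hzo]; exact (MulAut.conj a).orderOf_eq z)
    have hPZ : (P : Subgroup G) ≤ Subgroup.normalizer (Z : Set G) := by
      intro x hx
      rw [Subgroup.mem_normalizer_iff_map_conj_eq, MonoidHom.map_zpowers]
      exact huniq _ (mul_mem (mul_mem hx hz) (inv_mem hx))
        (by rw [← hzo]; exact (MulAut.conj x).orderOf_eq z)
    have hproper : Subgroup.normalizer (Z : Set G) ≠ ⊤ := by
      intro h
      rcases S.simp_ _ (Subgroup.normalizer_eq_top_iff.mp h) with h1 | h1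
      · rw [Subgroup.zpowers_eq_bot] at h1
        rw [h1, orderOf_one] at hzo
        exact hp.out.one_lt.ne hzo
      · apply S.not_normal
        have : (P : Subgroup G) = ⊤ := top_le_iff.mp (h1 ▸ Subgroup.zpowers_le.mpr hz)
        rw [this]; infer_instance
    exact S.le_normalizer_of_mover hproper hPZ haZ haN ha hne hgN

/-- A complement of `P` in its normalizer. -/
theorem Setup.exists_A (S : Setup G p P) :
    ∃ A : Subgroup G, A ≤ Subgroup.normalizer ((P : Subgroup G) : Set G) ∧ (Nat.card A).Coprime p ∧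
      (∀ g ∈ Subgroup.normalizer ((P : Subgroup G) : Set G),
        ∃ u ∈ (P : Subgroup G), ∃ b ∈ A, g = u * b) ∧
      Nat.card (Subgroup.normalizer ((P : Subgroup G) : Set G)) = Nat.card P * Nat.card A := by
  set N := Subgroup.normalizer ((P : Subgroup G) : Set G)
  have hPN : (P : Subgroup G) ≤ N := Subgroup.le_normalizer
  let P' : Sylow p N := P.subtype hPN
  have hn : (P' : Subgroup N).Normal :=
    (Subgroup.normal_subgroupOf_iff_le_normalizer hPN).mpr le_rfl
  obtain ⟨B, hB⟩ := Subgroup.exists_right_complement'_of_coprime (N := (P' : Subgroup N))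
    P'.card_coprime_index
  refine ⟨B.map N.subtype, Subgroup.map_subtype_le B, ?_, ?_, ?_⟩
  · rw [Subgroup.card_map_of_injective N.subtype_injective, ← hB.symm.index_eq_card]
    exact (hp.out.coprime_iff_not_dvd.mpr P'.not_dvd_index).symm
  · intro g hg
    obtain ⟨⟨u, b⟩, hub⟩ := hB.2 ⟨g, hg⟩
    exact ⟨((u : N) : G), u.2, ((b : N) : G), ⟨(b : N), b.2, rfl⟩, (congrArg Subtype.val hub).symm⟩
  · rw [Subgroup.card_map_of_injective N.subtype_injective, ← hB.card_mul_card]
    congr 1
    exact Nat.card_congr (Subgroup.subgroupOfEquivOfLe hPN).toEquiv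

/-- Elements of `p'`-order centralizing an element `z` as above centralize `P`. -/
theorem Setup.comm_P (S : Setup G p P) {z : G} (hz : z ∈ (P : Subgroup G)) (hzo : orderOf z = p)
    (hzN : ∀ g : G, g * z * g⁻¹ ∈ Subgroup.zpowers z → g ∈ Subgroup.normalizer ((P : Subgroup G) : Set G))
    {g : G} (hg : g * z = z * g) (hgo : (orderOf g).Coprime p) :
    ∀ x ∈ (P : Subgroup G), g * x = x * g :=
  comm_of_comm_elt P.2 S.cyc (hzN g (by rw [hg, mul_inv_cancel_right]; exact Subgroup.mem_zpowers z))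
    hgo hz (fun h => by rw [h, orderOf_one] at hzo; exact hp.out.one_lt.ne hzo) hg

/-- Every `p`-element is conjugate into `P`. -/
theorem exists_conj_mem (P : Sylow p G) {u : G} (hu : ∃ k : ℕ, u ^ p ^ k = 1) :
    ∃ g : G, g * u * g⁻¹ ∈ (P : Subgroup G) := by
  obtain ⟨k, hk⟩ := hu
  obtain ⟨i, -, hi⟩ := (Nat.dvd_prime_pow hp.out).mp (orderOf_dvd_of_pow_eq_one hk)
  obtain ⟨Q, hQ⟩ := (IsPGroup.of_card (p := p)
    ((Nat.card_zpowers u).trans hi)).exists_le_sylow
  obtain ⟨g, rfl⟩ := MulAction.exists_smul_eq G P Q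
  refine ⟨g⁻¹, ?_⟩
  have h1 := hQ (Subgroup.mem_zpowers u)
  rw [Sylow.coe_subgroup_smul, Subgroup.mem_pointwise_smul_iff_inv_smul_mem] at h1
  simpa [MulAut.smul_def] using h1

/-- If a nontrivial `p'`-element centralizes `P`, then `p = 3` and `S4018` applies. -/
theorem Setup.centralizer_P_small (S : Setup G p P) {x : G} (hx1 : x ≠ 1)
    (hxo : (orderOf x).Coprime p) (hxP : ∀ u ∈ (P : Subgroup G), x * u = u * x) : False := by
  classical
  set N := Subgroup.normalizer ((P : Subgroup G) : Set G) with hN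
  obtain ⟨z, hz, hzo, hzu, hzN⟩ := S.exists_z
  obtain ⟨A, hAN, hAc, hAd, hNcard⟩ := S.exists_A
  obtain ⟨a, haN, hao, hane⟩ := S.mover
  have hAab := abelian_of_coprime S.ab hAc
  have hz1 : z ≠ 1 := fun h => by rw [h, orderOf_one] at hzo; exact hp.out.one_lt.ne hzo
  have hAinter : ∀ w ∈ A, w ∈ (P : Subgroup G) → w = 1 := by
    intro w hwA hwP
    obtain ⟨n, hn⟩ := IsPGroup.iff_card.mp P.2
    have := (Subgroup.disjoint_of_coprime_natCard (H := A) (K := (P : Subgroup G))
      (by rw [hn]; exact hAc.pow_right n)).eq_bot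
    exact Subgroup.mem_bot.mp (this ▸ ⟨hwA, hwP⟩)
  -- elements of `N` centralize `p'`-elements centralizing `P`, which lie in `A`
  have hpc : ∀ w : G, (orderOf w).Coprime p → (∀ u ∈ (P : Subgroup G), w * u = u * w) →
      w ∈ A ∧ ∀ g ∈ N, g * w = w * g := by
    intro w hwo hwP
    have hwN : w ∈ N := by
      rw [hN, Subgroup.mem_normalizer_iff]
      intro u
      refine ⟨fun hu => ?_, fun hu => ?_⟩
      · rw [hwP u hu, mul_inv_cancel_right]; exact hu
      · have e : u = w * u * w⁻¹ := by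
          have := hwP _ hu
          calc u = w⁻¹ * (w * u * w⁻¹ * w) := by group
            _ = w * u * w⁻¹ := by rw [← this]; group
        rwa [e]
    obtain ⟨u, hu, b, hb, hwub⟩ := hAd w hwN
    have hub : Commute u b := by
      have h1 := hwP u hu
      rw [hwub, mul_assoc] at h1
      exact (mul_left_cancel h1).symm
    have hu1 : u = 1 := by
      obtain ⟨n, hn⟩ := IsPGroup.iff_card.mp P.2
      have h1 : u ^ (orderOf w * Nat.card A) = 1 := by
        have h2 : (u * b) ^ (orderOf w * Nat.card A) = 1 := by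
          rw [← hwub, pow_mul, pow_orderOf_eq_one, one_pow]
        have h3 : b ^ (orderOf w * Nat.card A) = 1 :=
          orderOf_dvd_iff_pow_eq_one.mp ((Subgroup.orderOf_dvd_natCard A hb).mul_left _)
        rwa [hub.mul_pow, h3, mul_one] at h2
      have h4 := Nat.dvd_gcd (orderOf_dvd_of_pow_eq_one h1) (hn ▸ Subgroup.orderOf_dvd_natCard (P : Subgroup G) hu)
      rw [(Nat.Coprime.mul_left hwo hAc).pow_right n, Nat.dvd_one, orderOf_eq_one_iff] at h4
      exact h4
    rw [hu1, one_mul] at hwub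
    subst hwub
    refine ⟨hb, fun g hg => ?_⟩
    obtain ⟨u', hu', b', hb', rfl⟩ := hAd g hg
    calc u' * b' * w = u' * (w * b') := by rw [mul_assoc, hAab b' hb' w hb]
      _ = u' * w * b' := (mul_assoc _ _ _).symm
      _ = w * u' * b' := by rw [hwP u' hu']
      _ = w * (u' * b') := mul_assoc _ _ _
  -- centralizers
  have hcent : ∀ w : G, w ≠ 1 → (orderOf w).Coprime p → (∀ u ∈ (P : Subgroup G), w * u = u * w) →
      Subgroup.centralizer ({w} : Set G) = N := by
    intro w hw1 hwo hwP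
    obtain ⟨-, hwN⟩ := hpc w hwo hwP
    refine le_antisymm ?_ fun g hg => Subgroup.mem_centralizer_singleton_iff.mpr (hwN g hg)
    exact S.le_normalizer_of_mover (S.centralizer_ne_top hw1)
      (fun u hu => Subgroup.mem_centralizer_singleton_iff.mpr (hwP u hu).symm)
      (Subgroup.mem_centralizer_singleton_iff.mpr (hwN a haN)) haN hao hane
  -- every prime dividing the order of `x` gives a configuration with `p = 3`
  have hNZ : N ≤ Subgroup.normalizer ((Subgroup.zpowers z : Subgroup G) : Set G) := by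
    intro g hg
    rw [Subgroup.mem_normalizer_iff_map_conj_eq, MonoidHom.map_zpowers]
    have hgo : orderOf (g * z * g⁻¹) = p := by rw [← hzo]; exact (MulAut.conj g).orderOf_eq z
    refine (Subgroup.eq_of_le_of_card_ge (Subgroup.zpowers_le.mpr
      (hzu _ ((Subgroup.mem_normalizer_iff.mp hg z).mp hz)
        (fun h => by rw [h, orderOf_one] at hgo; exact hp.out.one_lt.ne hgo))) ?_).symm
    rw [Nat.card_zpowers, Nat.card_zpowers]
    exact le_of_eq (hgo.trans hzo.symm)
  have hMcyc : IsCyclic (MulAut (Subgroup.zpowers z)) := by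
    have : Fact (Nat.card (Subgroup.zpowers z)).Prime := ⟨by rw [Nat.card_zpowers, hzo]; exact hp.out⟩
    exact isCyclic_of_surjective (IsCyclic.mulAutMulEquiv (Subgroup.zpowers z)).symm.toMonoidHom
      (IsCyclic.mulAutMulEquiv (Subgroup.zpowers z)).symm.surjective
  have hMcard : Nat.card (MulAut (Subgroup.zpowers z)) = p - 1 := by
    rw [IsCyclic.card_mulAut, Nat.card_zpowers, hzo, Nat.totient_prime hp.out]
  have main : ∀ (r : ℕ) (w : G), r.Prime → orderOf w = r → r ≠ p →
      (∀ u ∈ (P : Subgroup G), w * u = u * w) →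
      p = 3 ∧ r = 2 ∧ ∀ R : Sylow r G, w ∈ (R : Subgroup G) →
        Nat.card (R : Subgroup G) = 4 ∧ (R : Subgroup G) ≤ N ∧
          (∀ e ∈ (R : Subgroup G), e * z = z * e → e = 1 ∨ e = w) ∧
          ∀ e ∈ (R : Subgroup G), e ≠ 1 → ∃ g : G, g * w * g⁻¹ = e := by
    intro r w hr hwr hrp hwP
    have := Fact.mk hr
    have hw1 : w ≠ 1 := fun h => by rw [h, orderOf_one] at hwr; exact hr.one_lt.ne hwr
    have hwo : (orderOf w).Coprime p := by rw [hwr]; exact (Nat.coprime_primes hr hp.out).mpr hrp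
    have hcw := hcent w hw1 hwo hwP
    suffices h : ∀ R : Sylow r G, w ∈ (R : Subgroup G) → p = 3 ∧ r = 2 ∧
        Nat.card (R : Subgroup G) = 4 ∧ (R : Subgroup G) ≤ N ∧
          (∀ e ∈ (R : Subgroup G), e * z = z * e → e = 1 ∨ e = w) ∧
          ∀ e ∈ (R : Subgroup G), e ≠ 1 → ∃ g : G, g * w * g⁻¹ = e by
      obtain ⟨R, hR⟩ := (IsPGroup.of_card (p := r) (n := 1)
        (show Nat.card (Subgroup.zpowers w) = r ^ 1 by rw [Nat.card_zpowers, hwr, pow_one])).exists_le_sylow
      obtain ⟨h1, h2, -⟩ := h R (hR (Subgroup.mem_zpowers w))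
      exact ⟨h1, h2, fun R hR => (h R hR).2.2⟩
    intro R hwR
    have hRc : (Nat.card (R : Subgroup G)).Coprime p := by
      obtain ⟨n, hn⟩ := IsPGroup.iff_card.mp R.2
      rw [hn]; exact ((Nat.coprime_primes hr hp.out).mpr hrp).pow_left n
    have hRab := abelian_of_coprime S.ab hRc
    have hRN : (R : Subgroup G) ≤ N := fun v hv => by
      rw [← hcw]
      exact Subgroup.mem_centralizer_singleton_iff.mpr (hRab v hv w hwR)
    obtain ⟨y, hyR, hyp, v0, hv0, hyv0⟩ : ∃ y ∈ Subgroup.normalizer ((R : Subgroup G) : Set G),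
        (∃ k : ℕ, y ^ p ^ k = 1) ∧ ∃ v ∈ (R : Subgroup G), y * v ≠ v * y := by
      by_contra hno
      push Not at hno
      have hle : Subgroup.normalizer ((R : Subgroup G) : Set G) ≤
          Subgroup.centralizer ((R : Subgroup G) : Set G) := by
        intro g hg
        refine mem_of_parts (p := p) _ fun b hb hb' => ?_
        have hbN : b ∈ Subgroup.normalizer ((R : Subgroup G) : Set G) :=
          (Subgroup.zpowers_le.mpr hg) hb
        rw [Subgroup.mem_centralizer_iff]
        intro v hv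
        rcases hb' with h | h
        · exact (hno b hbN h v hv).symm
        · exact (abelian_sup S.ab hRc hbN h v hv).symm
      have hc := MonoidHom.ker_transferSylow_isComplement' R hle
      rcases S.simp_ _ (MonoidHom.normal_ker (MonoidHom.transferSylow R hle)) with h | h
      · have h1 := hc.card_mul_card
        rw [h, Subgroup.card_bot, one_mul] at h1
        have h2 := S.p_dvd
        rw [← h1] at h2
        exact hp.out.coprime_iff_not_dvd.mp hRc.symm h2
      · rw [h] at hc
        exact hw1 (Subgroup.mem_bot.mp (Subgroup.isComplement'_top_left.mp hc ▸ hwR))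
    have hyRm : ∀ v ∈ (R : Subgroup G), y * v * y⁻¹ ∈ (R : Subgroup G) := fun v hv =>
      (Subgroup.mem_normalizer_iff.mp hyR v).mp hv
    have hyN : y ∉ N := by
      intro hy
      have hyP := pelem_mem_of_normalizer hy hyp
      have h1 : y * v0 * y⁻¹ * v0⁻¹ ∈ (R : Subgroup G) ⊓ (P : Subgroup G) := by
        refine Subgroup.mem_inf.mpr ⟨mul_mem (hyRm v0 hv0) (inv_mem hv0), ?_⟩
        rw [show y * v0 * y⁻¹ * v0⁻¹ = y * (v0 * y⁻¹ * v0⁻¹) by group]
        exact mul_mem hyP ((Subgroup.mem_normalizer_iff.mp (hRN hv0) y⁻¹).mp (inv_mem hyP))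
      obtain ⟨n, hn⟩ := IsPGroup.iff_card.mp P.2
      rw [(Subgroup.disjoint_of_coprime_natCard (H := (R : Subgroup G)) (K := (P : Subgroup G))
        (by rw [hn]; exact hRc.pow_right n)).eq_bot, Subgroup.mem_bot, mul_inv_eq_one] at h1
      exact hyv0 (mul_inv_eq_iff_eq_mul.mp h1)
    have hRo : ∀ v ∈ (R : Subgroup G), (orderOf v).Coprime p := fun v hv =>
      hRc.coprime_dvd_left (Subgroup.orderOf_dvd_natCard _ hv)
    have key : ∀ v ∈ (R : Subgroup G), v * z = z * v →
        y * v * y⁻¹ * z = z * (y * v * y⁻¹) → v = 1 := by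
      intro v hv h1 h2
      by_contra hv1
      have hc1 := hcent v hv1 (hRo v hv) (S.comm_P hz hzo hzN h1 (hRo v hv))
      have hv' := hyRm v hv
      have hc2 := hcent _ (fun h => hv1 (conj_eq_one_iff.mp h)) (hRo _ hv')
        (S.comm_P hz hzo hzN h2 (hRo _ hv'))
      apply hyN
      have hmap : ∀ u ∈ (P : Subgroup G), y * u * y⁻¹ ∈ (P : Subgroup G) := by
        intro u hu
        have h3 : u ∈ Subgroup.centralizer ({v} : Set G) := hc1 ▸ Subgroup.le_normalizer hu
        rw [Subgroup.mem_centralizer_singleton_iff] at h3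
        have h4 : y * u * y⁻¹ ∈ N := by
          rw [← hc2, Subgroup.mem_centralizer_singleton_iff]
          calc y * u * y⁻¹ * (y * v * y⁻¹) = y * (u * v) * y⁻¹ := by group
            _ = y * (v * u) * y⁻¹ := by rw [h3]
            _ = _ := by group
        obtain ⟨n, hn⟩ := IsPGroup.iff_card.mp P.2
        refine pelem_mem_of_normalizer h4 ⟨n, ?_⟩
        rw [conj_pow, orderOf_dvd_iff_pow_eq_one.mp (hn ▸ Subgroup.orderOf_dvd_natCard (P : Subgroup G) hu),
          mul_one, mul_inv_cancel]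
      rw [hN, Subgroup.mem_normalizer_iff_map_conj_eq]
      refine Subgroup.eq_of_le_of_card_ge ?_ (Subgroup.card_map_of_injective (MulAut.conj y).injective).ge
      rintro _ ⟨u, hu, rfl⟩
      exact hmap u hu
    let E : Subgroup G :=
      { carrier := {u | u ∈ (R : Subgroup G) ∧ u ^ r = 1}
        one_mem' := ⟨one_mem _, one_pow _⟩
        mul_mem' := fun {a b} ha hb => ⟨mul_mem ha.1 hb.1, by
          rw [(show Commute a b from hRab a ha.1 b hb.1).mul_pow, ha.2, hb.2, one_mul]⟩
        inv_mem' := fun {a} ha => ⟨inv_mem ha.1, by rw [inv_pow, ha.2, inv_one]⟩ }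
    have hwE : w ∈ E := ⟨hwR, by rw [← hwr, pow_orderOf_eq_one]⟩
    have hEpow : ∀ e : E, e ^ r = 1 := fun e => Subtype.ext (by rw [Subgroup.coe_pow]; exact e.2.2)
    let NZ := Subgroup.normalizer ((Subgroup.zpowers z : Subgroup G) : Set G)
    have hEZ : E ≤ NZ := fun e he => hNZ (hRN he.1)
    let f : E →* MulAut (Subgroup.zpowers z) :=
      (Subgroup.normalizerMonoidHom (Subgroup.zpowers z)).comp (Subgroup.inclusion hEZ)
    have hfker : ∀ e : E, e ∈ f.ker ↔ (e : G) * z = z * (e : G) := by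
      intro e
      show Subgroup.inclusion hEZ e ∈ (Subgroup.normalizerMonoidHom (Subgroup.zpowers z)).ker ↔ _
      rw [Subgroup.normalizerMonoidHom_ker, Subgroup.mem_subgroupOf, Subgroup.coe_inclusion,
        Subgroup.zpowers_eq_closure, Subgroup.centralizer_closure]
      exact Subgroup.mem_centralizer_singleton_iff
    let cy : E →* E := MonoidHom.mk' (fun e => ⟨y * e * y⁻¹, hyRm e e.2.1, by
      rw [conj_pow, e.2.2, mul_one, mul_inv_cancel]⟩) fun a b => Subtype.ext (by
        simp only [Subgroup.coe_mul]; group)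
    have hrange : ∀ H : Subgroup (MulAut (Subgroup.zpowers z)), (∀ h ∈ H, h ^ r = 1) →
        Nat.card H ∣ r := by
      intro H hH
      have := isCyclic_of_injective H.subtype H.subtype_injective
      rw [← IsCyclic.exponent_eq_card]
      exact Monoid.exponent_dvd_of_forall_pow_eq_one fun h => Subtype.ext (by simpa using hH h h.2)
    have hker_r : Nat.card f.ker = r := by
      have hinj : Function.Injective ((f.comp cy).comp f.ker.subtype) := by
        rw [injective_iff_map_eq_one]
        intro e he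
        have h1 := (hfker (cy e)).mp he
        exact Subtype.ext (Subtype.ext (key _ (e : E).2.1 ((hfker _).mp e.2) h1))
      have h2 := Nat.card_congr (MonoidHom.ofInjective hinj).toEquiv
      have h3 : Nat.card ((f.comp cy).comp f.ker.subtype).range ∣ r := hrange _ (by
        rintro _ ⟨e, rfl⟩
        rw [← map_pow, show e ^ r = 1 from Subtype.ext (hEpow (e : E)), map_one])
      rw [← h2] at h3
      refine ((Nat.dvd_prime hr).mp h3).resolve_left fun h => ?_
      have hwk : (⟨w, hwE⟩ : E) ∈ f.ker := (hfker _).mpr (hwP z hz)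
      rw [Subgroup.card_eq_one.mp h, Subgroup.mem_bot] at hwk
      exact hw1 (congrArg Subtype.val hwk)
    have hrange_r : Nat.card f.range = r := by
      refine ((Nat.dvd_prime hr).mp (hrange _ ?_)).resolve_left fun h => ?_
      · rintro _ ⟨e, rfl⟩
        rw [← map_pow, hEpow, map_one]
      · have h1 : f (cy ⟨w, hwE⟩) = 1 := Subgroup.mem_bot.mp
          (Subgroup.card_eq_one.mp h ▸ ⟨cy ⟨w, hwE⟩, rfl⟩)
        exact hw1 (key w hwR (hwP z hz) ((hfker _).mp h1))
    have hrd : r ∣ p - 1 := by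
      rw [← hMcard, ← hrange_r]; exact Subgroup.card_subgroup_dvd_card _
    have hE : Nat.card E = r * r := by
      rw [← Subgroup.card_mul_index f.ker, Subgroup.index_ker, hker_r, hrange_r]
    -- the orbit of `⟨w⟩`
    let conjHom : Subgroup.zpowers y →* MulAut G := MulAut.conj.comp (Subgroup.zpowers y).subtype
    letI : MulAction (Subgroup.zpowers y) (Subgroup G) := MulAction.compHom _ conjHom
    set X := Subgroup.zpowers w with hX
    set O := MulAction.orbit (Subgroup.zpowers y) X with hO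
    have hOmem : ∀ Y ∈ O, ∃ g ∈ Subgroup.zpowers y, Y = X.map (MulAut.conj g).toMonoidHom := by
      rintro _ ⟨g, rfl⟩
      exact ⟨(g : G), g.2, rfl⟩
    have hOd : Nat.card O ∣ orderOf y := by
      rw [← Nat.card_zpowers y]
      have h1 := Subgroup.card_mul_index (MulAction.stabilizer (Subgroup.zpowers y) X)
      rw [MulAction.index_stabilizer, ← Nat.card_coe_set_eq] at h1
      exact Dvd.intro_left _ h1
    have hO1 : Nat.card O ≠ 1 := by
      intro h
      rw [Nat.card_eq_one_iff_unique] at h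
      obtain ⟨h, -⟩ := h
      have h1 : X.map (MulAut.conj y).toMonoidHom = X := by
        have := congrArg Subtype.val (h.elim (⟨_, ⟨⟨y, Subgroup.mem_zpowers y⟩, rfl⟩⟩ : O)
          ⟨X, MulAction.mem_orbit_self X⟩)
        exact this
      have h2 : y * w * y⁻¹ ∈ X := h1 ▸ ⟨w, Subgroup.mem_zpowers w, rfl⟩
      obtain ⟨i, hi⟩ := Subgroup.mem_zpowers_iff.mp h2
      refine hw1 (key w hwR (hwP z hz) ?_)
      rw [← hi]
      exact (Commute.zpow_left (show Commute w z from hwP z hz) i).eq
    have hOE : ∀ Y ∈ O, Y ≤ E ∧ Nat.card Y = r := by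
      intro Y hY
      obtain ⟨g, hg, rfl⟩ := hOmem Y hY
      refine ⟨?_, by rw [Subgroup.card_map_of_injective (MulAut.conj g).injective, hX, Nat.card_zpowers, hwr]⟩
      rw [hX, MonoidHom.map_zpowers, Subgroup.zpowers_le]
      exact ⟨(Subgroup.mem_normalizer_iff.mp (Subgroup.zpowers_le.mpr hyR hg) w).mp hwR,
        by show (g * w * g⁻¹) ^ r = 1; rw [conj_pow, hwE.2, mul_one, mul_inv_cancel]⟩
    let j : (Σ Y : O, {e : (Y : Subgroup G) // e ≠ 1}) → {e : E // e ≠ 1} := fun s =>
      ⟨⟨(s.2.1 : G), (hOE _ s.1.2).1 s.2.1.2⟩, fun h => s.2.2 (Subtype.ext (congrArg (fun t : E => (t : G)) h))⟩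
    have hgen : ∀ (Y : O) (e : G), e ∈ (Y : Subgroup G) → e ≠ 1 → Subgroup.zpowers e = Y := by
      intro Y e he he1
      have hY := (hOE _ Y.2).2
      refine Subgroup.eq_of_le_of_card_ge (Subgroup.zpowers_le.mpr he) ?_
      rw [hY, Nat.card_zpowers]
      have h1 := hY ▸ Subgroup.orderOf_dvd_natCard (Y : Subgroup G) he
      rcases (Nat.dvd_prime hr).mp h1 with h | h
      · exact absurd (orderOf_eq_one_iff.mp h) he1
      · exact h.ge
    have hj : Function.Injective j := by
      rintro ⟨Y, e⟩ ⟨Y', e'⟩ h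
      have he : (e.1 : G) = (e'.1 : G) := congrArg (fun t : {e : E // e ≠ 1} => (t.1 : G)) h
      have e1 := hgen Y e.1 e.1.2 (fun h => e.2 (Subtype.ext h))
      have e2 := hgen Y' e'.1 e'.1.2 (fun h => e'.2 (Subtype.ext h))
      obtain rfl : Y = Y' := Subtype.ext (e1.symm.trans ((congrArg Subgroup.zpowers he).trans e2))
      exact congrArg (Sigma.mk Y) (Subtype.ext (Subtype.ext he))
    have hne_card : ∀ (H : Subgroup G), Nat.card {e : H // e ≠ 1} = Nat.card H - 1 := by
      intro H
      have := Fintype.ofFinite H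
      rw [Nat.card_eq_fintype_card, Nat.card_eq_fintype_card, Fintype.card_subtype_compl,
        Fintype.card_subtype_eq]
    have hjcard : Nat.card (Σ Y : O, {e : (Y : Subgroup G) // e ≠ 1}) = Nat.card O * (r - 1) := by
      have := Fintype.ofFinite O
      rw [Nat.card_sigma, Finset.sum_congr rfl fun (Y : O) _ => (by rw [hne_card, (hOE _ Y.2).2] :
        Nat.card {e : (Y : Subgroup G) // e ≠ 1} = r - 1), Finset.sum_const, Finset.card_univ,
        Nat.card_eq_fintype_card, smul_eq_mul]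
    have hjE : Nat.card {e : E // e ≠ 1} = r * r - 1 := by rw [hne_card, hE]
    have hle : Nat.card O * (r - 1) ≤ r * r - 1 :=
      hjcard ▸ hjE ▸ Nat.card_le_card_of_injective j hj
    have hpO : p ∣ Nat.card O := by
      obtain ⟨k, hk⟩ := hyp
      obtain ⟨i, -, hi⟩ := (Nat.dvd_prime_pow hp.out).mp (hOd.trans (orderOf_dvd_of_pow_eq_one hk))
      have hi0 : i ≠ 0 := fun h => hO1 (by rw [hi, h, pow_zero])
      exact hi ▸ dvd_pow_self p hi0
    have hOle : Nat.card O ≤ r + 1 := by
      refine Nat.le_of_mul_le_mul_right (hle.trans (le_of_eq ?_)) (by have := hr.two_le; omega : 0 < r - 1)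
      obtain ⟨r', rfl⟩ : ∃ r', r = r' + 1 := ⟨r - 1, by have := hr.two_le; omega⟩
      simp only [Nat.add_sub_cancel]
      have e : (r' + 1) * (r' + 1) = (r' + 1 + 1) * r' + 1 := by ring
      omega
    have hO0 : 0 < Nat.card O := by
      have : Nonempty O := ⟨⟨X, MulAction.mem_orbit_self X⟩⟩
      exact Nat.card_pos
    have hr2 : p = r + 1 := by
      have h1 := Nat.le_of_dvd (by have := hp.out.two_le; omega) hrd
      have h2 := Nat.le_of_dvd hO0 hpO
      have := hp.out.two_le; omega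
    have hr2' : r = 2 := by
      rcases hr.eq_two_or_odd with h | h
      · exact h
      · rcases hp.out.eq_two_or_odd with h' | h' <;> · have := hr.two_le; omega
    subst hr2'
    have hO3 : Nat.card O = 3 := by
      have := Nat.le_of_dvd hO0 hpO
      omega
    have hsq : ∀ v ∈ (R : Subgroup G), v * v = 1 := by
      intro v hv
      have h2 : ∀ g ∈ (R : Subgroup G), g * g * z = z * (g * g) := by
        intro g hg
        have hgk : Subgroup.normalizerMonoidHom (Subgroup.zpowers z) (⟨g * g, mul_mem (hNZ (hRN hg)) (hNZ (hRN hg))⟩) = 1 := by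
          rw [show (⟨g * g, mul_mem (hNZ (hRN hg)) (hNZ (hRN hg))⟩ : NZ) = ⟨g, hNZ (hRN hg)⟩ ^ 2 from
            Subtype.ext (pow_two g).symm, map_pow]
          refine orderOf_dvd_iff_pow_eq_one.mp ((orderOf_dvd_natCard _).trans ?_)
          rw [hMcard, hr2]
        rw [← MonoidHom.mem_ker, Subgroup.normalizerMonoidHom_ker, Subgroup.mem_subgroupOf] at hgk
        exact (Subgroup.mem_centralizer_iff.mp hgk z (Subgroup.mem_zpowers z)).symm
      refine key _ (mul_mem hv hv) (h2 v hv) ?_
      have := h2 _ (hyRm v hv)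
      rwa [show y * v * y⁻¹ * (y * v * y⁻¹) = y * (v * v) * y⁻¹ by group] at this
    have hRE : (R : Subgroup G) = E :=
      le_antisymm (fun v hv => ⟨hv, (pow_two v).trans (hsq v hv)⟩) (fun v hv => hv.1)
    refine ⟨by omega, rfl, by rw [hRE, hE], hRN, ?_, ?_⟩
    · intro e he hez
      by_contra h
      push Not at h
      have hsub : ({1, ⟨w, hwE⟩, ⟨e, hRE ▸ he⟩} : Set E) ⊆ (f.ker : Set E) := by
        rintro u (rfl | rfl | rfl)
        · exact one_mem _
        · exact (hfker _).mpr (hwP z hz)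
        · exact (hfker _).mpr hez
      have h1 := Set.ncard_le_ncard hsub (Set.toFinite _)
      rw [← Nat.card_coe_set_eq (f.ker : Set E), SetLike.coe_sort_coe, hker_r,
        Set.ncard_insert_of_notMem (by simp [Subtype.ext_iff, Ne.symm hw1, Ne.symm h.1]),
        Set.ncard_pair (by simp [Subtype.ext_iff, Ne.symm h.2])] at h1
      omega
    · intro e he he1
      have hjs : Function.Surjective j :=
        ((Nat.bijective_iff_injective_and_card j).mpr ⟨hj, by rw [hjcard, hjE, hO3]⟩).2
      obtain ⟨⟨Y, e'⟩, he'⟩ := hjs ⟨⟨e, hRE ▸ he⟩, fun h => he1 (congrArg Subtype.val h)⟩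
      have hee : (e'.1 : G) = e := congrArg (fun t : {e : E // e ≠ 1} => (t.1 : G)) he'
      obtain ⟨g, -, hgY⟩ := hOmem _ Y.2
      have hmem : e ∈ X.map (MulAut.conj g).toMonoidHom := hgY ▸ hee ▸ e'.1.2
      obtain ⟨v, hv, hve⟩ := hmem
      refine ⟨g, ?_⟩
      obtain ⟨i, rfl⟩ := Subgroup.mem_zpowers_iff.mp hv
      rcases Int.even_or_odd i with ⟨k, rfl⟩ | ⟨k, rfl⟩
      · exfalso; apply he1
        rw [← hve, ← two_mul, zpow_mul, show w ^ (2 : ℤ) = 1 from by rw [zpow_ofNat]; exact hwE.2]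
        simp
      · rw [← hve, zpow_add, zpow_mul, show w ^ (2 : ℤ) = 1 from by rw [zpow_ofNat]; exact hwE.2]
        simp
  -- an element of prime order
  obtain ⟨r, hr, hrx⟩ := Nat.exists_prime_and_dvd (n := orderOf x) (fun h => hx1 (orderOf_eq_one_iff.mp h))
  have hw : orderOf (x ^ (orderOf x / r)) = r := orderOf_pow_orderOf_div (orderOf_pos x).ne' hrx
  have hrp : r ≠ p := fun h => hp.out.coprime_iff_not_dvd.mp hxo.symm (h ▸ hrx)
  set w := x ^ (orderOf x / r)
  have hwP : ∀ u ∈ (P : Subgroup G), w * u = u * w := fun u hu =>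
    (Commute.pow_left (show Commute x u from hxP u hu) _).eq
  obtain ⟨rfl, rfl, hR⟩ := main r w hr hw hrp hwP
  have := Fact.mk Nat.prime_two
  have hw1 : w ≠ 1 := fun h => by rw [h, orderOf_one] at hw; omega
  have hwo : (orderOf w).Coprime 3 := by rw [hw]; norm_num
  have hw2 : w * w = 1 := by rw [← pow_two, ← hw, pow_orderOf_eq_one]
  have hwA : w ∈ A := (hpc w hwo hwP).1
  -- `A` is a Sylow `2`-subgroup
  have hA2 : IsPGroup 2 A := by
    obtain ⟨k, hk⟩ : ∃ k, Nat.card A = 2 ^ k := by
      refine ⟨(Nat.card A).primeFactorsList.length, ?_⟩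
      refine Nat.eq_prime_pow_of_unique_prime_dvd Nat.card_pos.ne' fun {d} hd hdA => ?_
      have := Fact.mk hd
      by_contra hd2
      obtain ⟨c', hc'⟩ := exists_prime_orderOf_dvd_card' (G := A) d hdA
      rw [← Subgroup.orderOf_coe] at hc'
      have hd3 : d ≠ 3 := fun h => hp.out.coprime_iff_not_dvd.mp hAc.symm (h ▸ hdA)
      have hgk : Subgroup.normalizerMonoidHom (Subgroup.zpowers z)
          ⟨(c' : G), hNZ (hAN c'.2)⟩ = 1 := by
        rw [← orderOf_eq_one_iff]
        refine Nat.dvd_one.mp ?_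
        have hg : Nat.gcd d 2 = 1 := (Nat.coprime_primes hd Nat.prime_two).mpr hd2
        rw [← hg]
        refine Nat.dvd_gcd ?_ ?_
        · refine (orderOf_map_dvd _ _).trans ?_
          rw [Subgroup.orderOf_mk, hc']
        · have := orderOf_dvd_natCard
            (Subgroup.normalizerMonoidHom (Subgroup.zpowers z) ⟨(c' : G), hNZ (hAN c'.2)⟩)
          rwa [hMcard] at this
      rw [← MonoidHom.mem_ker, Subgroup.normalizerMonoidHom_ker, Subgroup.mem_subgroupOf] at hgk
      exact hd2 (main d c' hd hc' hd3 (S.comm_P hz hzo hzN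
        (Subgroup.mem_centralizer_iff.mp hgk z (Subgroup.mem_zpowers z)).symm
        (by rw [hc']; exact (Nat.coprime_primes hd hp.out).mpr hd3))).2.1
    exact IsPGroup.of_card hk
  obtain ⟨R, hAR⟩ := hA2.exists_le_sylow
  obtain ⟨hR4, hRN, hRker, hRconj⟩ := hR R (hAR hwA)
  obtain ⟨n, hn⟩ := IsPGroup.iff_card.mp P.2
  have hA4 : Nat.card A = 4 := by
    refine Nat.dvd_antisymm (hR4 ▸ Subgroup.card_dvd_of_le hAR) ?_
    have h1 := Subgroup.card_dvd_of_le hRN
    rw [hR4, hNcard, hn] at h1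
    exact (Nat.Coprime.pow_right n (by norm_num : Nat.Coprime 4 3)).dvd_of_dvd_mul_left h1
  have hAeq : A = (R : Subgroup G) := Subgroup.eq_of_le_of_card_ge hAR (by rw [hA4, hR4])
  set C := Subgroup.centralizer ((P : Subgroup G) : Set G) with hC
  have hPab : ∀ u ∈ (P : Subgroup G), ∀ v ∈ (P : Subgroup G), u * v = v * u := fun u hu v hv => by
    have := S.cyc
    exact congrArg Subtype.val ((IsMulCommutative.is_comm (M := (P : Subgroup G))).comm ⟨u, hu⟩ ⟨v, hv⟩)
  have hPC : (P : Subgroup G) ≤ C := fun u hu =>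
    Subgroup.mem_centralizer_iff.mpr fun v hv => hPab v hv u hu
  have hwC : w ∈ C := Subgroup.mem_centralizer_iff.mpr fun v hv => (hwP v hv).symm
  have hdec : ∀ g ∈ C, ∃ u ∈ (P : Subgroup G), g = u ∨ g = u * w := by
    intro g hg
    obtain ⟨u, hu, b, hb, rfl⟩ := hAd g (Subgroup.centralizer_le_normalizer _ hg)
    have hbC : b ∈ C := by have := mul_mem (inv_mem (hPC hu)) hg; rwa [inv_mul_cancel_left] at this
    refine ⟨u, hu, ?_⟩
    rcases hRker b (hAR hb) ((Subgroup.mem_centralizer_iff.mp hbC z hz).symm) with h | h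
    · exact Or.inl (by rw [h, mul_one])
    · exact Or.inr (by rw [h])
  have hCcard : Nat.card C = 2 * Nat.card P := by
    have hsup : C = (P : Subgroup G) ⊔ Subgroup.zpowers w := by
      refine le_antisymm ?_ (sup_le hPC (Subgroup.zpowers_le.mpr hwC))
      intro g hg
      obtain ⟨u, hu, rfl | rfl⟩ := hdec g hg
      · exact Subgroup.mem_sup_left hu
      · exact mul_mem (Subgroup.mem_sup_left hu) (Subgroup.mem_sup_right (Subgroup.mem_zpowers w))
    rw [hsup, CfsgLib.Solvable.card_sup_of_disjoint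
      (Subgroup.zpowers_le.mpr (Subgroup.centralizer_le_normalizer _ hwC))
      (Subgroup.disjoint_of_coprime_natCard (by
        rw [hn, Nat.card_zpowers, hw]; exact Nat.Coprime.pow_left n (by norm_num))),
      Nat.card_zpowers, hw, mul_comm]
  have hcentw := hcent w hw1 hwo hwP
  have hTI : Cfsg.IsTISubset (C : Set G) := by
    intro g hg c hc hgc
    by_contra hc1
    have hmemN : g ∈ N → False := by
      intro hgN
      apply hg
      rw [Subgroup.mem_normalizer_iff]
      intro y
      have hcn : C ≤ N := Subgroup.centralizer_le_normalizer _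
      have hmove : ∀ h ∈ N, ∀ y ∈ C, h * y * h⁻¹ ∈ C := by
        intro h hh y hy
        rw [hC, Subgroup.mem_centralizer_iff]
        intro v hv
        have h1 : h⁻¹ * v * h ∈ (P : Subgroup G) := by
          have := (Subgroup.mem_normalizer_iff.mp (inv_mem hh) v).mp hv
          rwa [inv_inv] at this
        have h2 := Subgroup.mem_centralizer_iff.mp hy _ h1
        calc v * (h * y * h⁻¹) = h * (h⁻¹ * v * h * y) * h⁻¹ := by group
          _ = h * (y * (h⁻¹ * v * h)) * h⁻¹ := by rw [h2]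
          _ = h * y * h⁻¹ * v := by group
      refine ⟨hmove g hgN y, fun hy => ?_⟩
      have := hmove g⁻¹ (inv_mem hgN) _ hy
      simpa [mul_assoc] using this
    obtain ⟨u, hu, hcu⟩ := hdec c hc
    obtain ⟨u', hu', hcu'⟩ := hdec _ hgc
    have hc2 : ∀ (d v : G), v ∈ (P : Subgroup G) → d = v ∨ d = v * w → d * d = v * v := by
      rintro d v hv (rfl | rfl)
      · rfl
      · rw [show v * w * (v * w) = v * (w * v) * w by group, hwP v hv,
          show v * (v * w) * w = (v * v) * (w * w) by group, hw2, mul_one]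
    have hgcc : g * (u * u) * g⁻¹ = u' * u' := by
      rw [← hc2 c u hu hcu, ← hc2 _ u' hu' hcu']; group
    by_cases hu1 : u * u = 1
    · have hu0 : u = 1 := by
        have h1 := hn ▸ Subgroup.orderOf_dvd_natCard (P : Subgroup G) hu
        have h2 : orderOf u ∣ 2 := orderOf_dvd_of_pow_eq_one (by rw [pow_two, hu1])
        have := Nat.dvd_gcd h2 h1
        rwa [Nat.Coprime.pow_right n (by norm_num : Nat.Coprime 2 3), Nat.dvd_one, orderOf_eq_one_iff] at this
      have hcw : c = w := by
        rcases hcu with h | h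
        · exact absurd (h.trans hu0) hc1
        · rw [h, hu0, one_mul]
      rw [hu0, mul_one, mul_one, mul_inv_cancel] at hgcc
      have hu0' : u' = 1 := by
        have h1 := hn ▸ Subgroup.orderOf_dvd_natCard (P : Subgroup G) hu'
        have h2 : orderOf u' ∣ 2 := orderOf_dvd_of_pow_eq_one (by rw [pow_two, ← hgcc])
        have := Nat.dvd_gcd h2 h1
        rwa [Nat.Coprime.pow_right n (by norm_num : Nat.Coprime 2 3), Nat.dvd_one, orderOf_eq_one_iff] at this
      refine hmemN ?_
      rw [← hcentw, Subgroup.mem_centralizer_singleton_iff]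
      rcases hcu' with h | h
      · rw [hu0', conj_eq_one_iff] at h; exact absurd h hc1
      · rw [hu0', one_mul, hcw] at h
        exact mul_inv_eq_iff_eq_mul.mp h
    · refine hmemN (hzN g ?_)
      have hz' := hzu _ (mul_mem hu hu) hu1
      obtain ⟨i, hi⟩ := Subgroup.mem_zpowers_iff.mp hz'
      have hgz : g * z * g⁻¹ ∈ (P : Subgroup G) := by
        rw [← hi, ← conj_zpow, hgcc]; exact zpow_mem (mul_mem hu' hu') i
      have hgo : orderOf (g * z * g⁻¹) = 3 := by rw [← hzo]; exact (MulAut.conj g).orderOf_eq z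
      have hz'' := hzu _ hgz (fun h => by rw [h, orderOf_one] at hgo; omega)
      have heq : Subgroup.zpowers z = Subgroup.zpowers (g * z * g⁻¹) :=
        Subgroup.eq_of_le_of_card_ge (Subgroup.zpowers_le.mpr hz'')
          (by rw [Nat.card_zpowers, Nat.card_zpowers, hgo, hzo])
      rw [heq]; exact Subgroup.mem_zpowers _
  refine Cfsg.Agent.S4018.not_simple_aux P ?_ ?_ ?_ hTI ?_ ?_
  · exact ⟨⟨fun u v => Subtype.ext (hPab u u.2 v v.2)⟩⟩
  · rw [hNcard, hA4, mul_comm]
  · exact hCcard
  · intro H hH hH2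
    obtain ⟨M, hMH, hMc, i, hMcard⟩ : ∃ M : Subgroup G, M ≤ H ∧ (Nat.card M).Coprime 3 ∧
        ∃ i, Nat.card H = Nat.card M * 3 ^ i := by
      rcases S.proper H hH with ⟨Q, K, hK, hc⟩ | h
      · obtain ⟨i, hi⟩ := IsPGroup.iff_card.mp Q.2
        refine ⟨K.map H.subtype, Subgroup.map_subtype_le K, ?_, i, ?_⟩
        · rw [Subgroup.card_map_of_injective H.subtype_injective, ← hc.index_eq_card]
          exact ((Fact.out : (3 : ℕ).Prime).coprime_iff_not_dvd.mpr Q.not_dvd_index).symm
        · rw [Subgroup.card_map_of_injective H.subtype_injective, ← hc.card_mul_card, hi]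
      · let Q : Sylow 3 H := default
        have := h Q
        obtain ⟨K, hc⟩ := Subgroup.exists_right_complement'_of_coprime (N := (Q : Subgroup H))
          Q.card_coprime_index
        obtain ⟨i, hi⟩ := IsPGroup.iff_card.mp Q.2
        refine ⟨K.map H.subtype, Subgroup.map_subtype_le K, ?_, i, ?_⟩
        · rw [Subgroup.card_map_of_injective H.subtype_injective, ← hc.symm.index_eq_card]
          exact ((Fact.out : (3 : ℕ).Prime).coprime_iff_not_dvd.mpr Q.not_dvd_index).symm
        · rw [Subgroup.card_map_of_injective H.subtype_injective, ← hc.card_mul_card, hi, mul_comm]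
    rw [hMcard] at hH2 ⊢
    have h3i : 3 ^ i ∣ Nat.card P := by
      rw [P.card_eq_multiplicity]
      exact pow_dvd_pow 3 ((hp.out.pow_dvd_iff_le_factorization Nat.card_pos.ne').mp
        ((Dvd.intro_left _ hMcard.symm).trans (Subgroup.card_subgroup_dvd_card H)))
    refine Nat.mul_dvd_mul ?_ h3i
    have hM2 : 2 ∣ Nat.card M :=
      (Nat.Coprime.pow_right i (by norm_num : Nat.Coprime 2 3)).dvd_of_dvd_mul_right hH2
    obtain ⟨t', ht'⟩ := exists_prime_orderOf_dvd_card' (G := M) 2 hM2
    rw [← Subgroup.orderOf_coe] at ht'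
    obtain ⟨T, hT⟩ := (IsPGroup.of_card (p := 2) (n := 1)
      (show Nat.card (Subgroup.zpowers (t' : G)) = 2 ^ 1 by rw [Nat.card_zpowers, ht', pow_one])).exists_le_sylow
    obtain ⟨c, hc⟩ := MulAction.exists_smul_eq G R T
    have h1 : (t' : G) ∈ (T : Subgroup G) := hT (Subgroup.mem_zpowers _)
    rw [← hc, Sylow.coe_subgroup_smul, Subgroup.mem_pointwise_smul_iff_inv_smul_mem] at h1
    have h2 : c⁻¹ * (t' : G) * c ∈ (R : Subgroup G) := by simpa [MulAut.smul_def] using h1
    have ht1 : c⁻¹ * (t' : G) * c ≠ 1 := fun h => by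
      rw [show (t' : G) = c * (c⁻¹ * (t' : G) * c) * c⁻¹ by group, h, mul_one, mul_inv_cancel,
        orderOf_one] at ht'
      omega
    obtain ⟨g, hg⟩ := hRconj _ h2 ht1
    have hMab := abelian_of_coprime S.ab hMc
    have hle : M ≤ N.map (MulAut.conj (c * g)).toMonoidHom := by
      intro m hm
      refine ⟨(c * g)⁻¹ * m * (c * g), ?_, by simp; group⟩
      rw [← hcentw, SetLike.mem_coe, Subgroup.mem_centralizer_singleton_iff]
      have e : w = (c * g)⁻¹ * (t' : G) * (c * g) := by
        rw [show (c * g)⁻¹ * (t' : G) * (c * g) = g⁻¹ * (c⁻¹ * (t' : G) * c) * g by group, ← hg]; group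
      rw [e]
      calc (c * g)⁻¹ * m * (c * g) * ((c * g)⁻¹ * (t' : G) * (c * g))
          = (c * g)⁻¹ * (m * t') * (c * g) := by group
        _ = (c * g)⁻¹ * (t' * m) * (c * g) := by rw [hMab m hm t' t'.2]
        _ = _ := by group
    have h3 := Subgroup.card_dvd_of_le hle
    rw [Subgroup.card_map_of_injective (MulAut.conj (c * g)).injective, hNcard, hA4, mul_comm, hn] at h3
    exact (Nat.Coprime.pow_right n hMc).dvd_of_dvd_mul_right h3
  · have : Nontrivial G := ⟨⟨w, 1, hw1⟩⟩
    exact ⟨S.simp_⟩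

/-- The centralizer-abelian configuration. -/
theorem Setup.impossible (S : Setup G p P) : False := by
  classical
  set N := Subgroup.normalizer ((P : Subgroup G) : Set G) with hN
  obtain ⟨z, hz, hzo, hzu, hzN⟩ := S.exists_z
  obtain ⟨a, haN, hao, hane⟩ := S.mover
  obtain ⟨n, hn⟩ := IsPGroup.iff_card.mp P.2
  have hz1 : z ≠ 1 := fun h => by rw [h, orderOf_one] at hzo; exact hp.out.one_lt.ne hzo
  have hPab : ∀ u ∈ (P : Subgroup G), ∀ v ∈ (P : Subgroup G), u * v = v * u := fun u hu v hv => by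
    have := S.cyc
    exact congrArg Subtype.val ((IsMulCommutative.is_comm (M := (P : Subgroup G))).comm ⟨u, hu⟩ ⟨v, hv⟩)
  have hCz : ∀ g : G, g * z = z * g → g ∈ (P : Subgroup G) := by
    intro g hg
    refine mem_of_parts (p := p) _ fun b hb hb' => ?_
    obtain ⟨k, rfl⟩ := Subgroup.mem_zpowers_iff.mp hb
    have hbz : g ^ k * z = z * g ^ k := (Commute.zpow_left (show Commute g z from hg) k).eq
    rcases hb' with h | h
    · exact pelem_mem_of_normalizer
        (hzN _ (by rw [hbz, mul_inv_cancel_right]; exact Subgroup.mem_zpowers z)) h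
    · by_cases h1 : g ^ k = 1
      · rw [h1]; exact one_mem _
      · exact (S.centralizer_P_small h1 h (S.comm_P hz hzo hzN hbz h)).elim
  have hPconj : ∀ u : G, u ≠ 1 → (∃ k : ℕ, u ^ p ^ k = 1) → ∀ v : G, v * u = u * v →
      ∃ h : G, h * u * h⁻¹ ∈ (P : Subgroup G) ∧ h * v * h⁻¹ ∈ (P : Subgroup G) := by
    intro u hu1 hu v hv
    obtain ⟨h, hh⟩ := exists_conj_mem P hu
    refine ⟨h, hh, hCz _ ?_⟩
    obtain ⟨i, hi⟩ := Subgroup.mem_zpowers_iff.mp (hzu _ hh (fun e => hu1 (conj_eq_one_iff.mp e)))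
    have hc : Commute (h * v * h⁻¹) (h * u * h⁻¹) := by
      show h * v * h⁻¹ * (h * u * h⁻¹) = h * u * h⁻¹ * (h * v * h⁻¹)
      rw [show h * v * h⁻¹ * (h * u * h⁻¹) = h * (v * u) * h⁻¹ by group, hv]; group
    rw [← hi]
    exact (hc.zpow_right i).eq
  have hCA : ∀ g : G, g ≠ 1 → ∀ u ∈ Subgroup.centralizer ({g} : Set G),
      ∀ v ∈ Subgroup.centralizer ({g} : Set G), u * v = v * u := by
    intro g hg1
    by_cases hco : (Nat.card (Subgroup.centralizer ({g} : Set G))).Coprime p
    · exact abelian_of_coprime S.ab hco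
    intro u hu v hv
    obtain ⟨d', hd'⟩ := exists_prime_orderOf_dvd_card' (G := Subgroup.centralizer ({g} : Set G)) p
      (by by_contra h; exact hco (hp.out.coprime_iff_not_dvd.mpr h).symm)
    rw [← Subgroup.orderOf_coe] at hd'
    have hd1 : (d' : G) ≠ 1 := fun h => by rw [h, orderOf_one] at hd'; exact hp.out.one_lt.ne hd'
    have hgd : g * (d' : G) = (d' : G) * g :=
      (Subgroup.mem_centralizer_singleton_iff.mp d'.2).symm
    obtain ⟨h, hhd, hhg⟩ := hPconj d' hd1 ⟨1, by rw [pow_one, ← hd', pow_orderOf_eq_one]⟩ g hgd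
    have key : ∀ u ∈ Subgroup.centralizer ({g} : Set G), h * u * h⁻¹ ∈ (P : Subgroup G) := by
      intro u hu
      apply hCz
      obtain ⟨i, hi⟩ := Subgroup.mem_zpowers_iff.mp (hzu _ hhg (fun e => hg1 (conj_eq_one_iff.mp e)))
      have hug : u * g = g * u := Subgroup.mem_centralizer_singleton_iff.mp hu
      have hc : Commute (h * u * h⁻¹) (h * g * h⁻¹) := by
        show h * u * h⁻¹ * (h * g * h⁻¹) = h * g * h⁻¹ * (h * u * h⁻¹)
        rw [show h * u * h⁻¹ * (h * g * h⁻¹) = h * (u * g) * h⁻¹ by group, hug]; group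
      rw [← hi]
      exact (hc.zpow_right i).eq
    have := hPab _ (key u hu) _ (key v hv)
    calc u * v = h⁻¹ * (h * u * h⁻¹ * (h * v * h⁻¹)) * h := by group
      _ = h⁻¹ * (h * v * h⁻¹ * (h * u * h⁻¹)) * h := by rw [this]
      _ = v * u := by group
  rcases Nat.even_or_odd (Nat.card G) with heven | hodd
  swap
  · -- odd order: solvable
    have := CfsgLib.CA.isSolvable_of_ca hodd hCA
    have : Nontrivial G := ⟨⟨z, 1, hz1⟩⟩
    have hlt := Group.IsSolvable.commutator_lt_top_of_nontrivial G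
    rcases S.simp_ (commutator G) inferInstance with h | h
    · apply S.not_normal
      refine ⟨fun y hy g => ?_⟩
      have h1 : g * y * g⁻¹ * y⁻¹ ∈ commutator G := Subgroup.commutator_mem_commutator (Subgroup.mem_top g) (Subgroup.mem_top y)
      rw [h, Subgroup.mem_bot, mul_inv_eq_one] at h1
      rwa [h1]
    · exact hlt.ne h
  -- even order
  have := Fact.mk Nat.prime_two
  obtain ⟨t, ht⟩ := exists_prime_orderOf_dvd_card' (G := G) 2 (even_iff_two_dvd.mp heven)
  have hp2 : p ≠ 2 := by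
    intro hp2
    apply hane
    refine S.comm_P hz hzo hzN ?_ hao
    have h1 : a * z * a⁻¹ ∈ (P : Subgroup G) := (Subgroup.mem_normalizer_iff.mp haN z).mp hz
    have h2 : orderOf (a * z * a⁻¹) = p := by rw [← hzo]; exact (MulAut.conj a).orderOf_eq z
    obtain ⟨i, hi⟩ := Subgroup.mem_zpowers_iff.mp
      (hzu _ h1 (fun h => by rw [h, orderOf_one] at h2; exact hp.out.one_lt.ne h2))
    have hz2 : z ^ (2 : ℤ) = 1 := by rw [zpow_ofNat, ← hp2, ← hzo, pow_orderOf_eq_one]
    have hy2 : (a * z * a⁻¹) ^ (2 : ℤ) = 1 := by rw [conj_zpow, hz2, mul_one, mul_inv_cancel]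
    rcases Int.even_or_odd i with ⟨k, rfl⟩ | ⟨k, rfl⟩
    · rw [← two_mul, zpow_mul, hy2, one_zpow] at hi
      exact absurd hi.symm hz1
    · rw [zpow_add, zpow_mul, hy2, one_zpow, one_mul, zpow_one] at hi
      exact mul_inv_eq_iff_eq_mul.mp hi
  have hqodd : ∀ v ∈ (P : Subgroup G), v * v = 1 → v = 1 := by
    intro v hv hv2
    have h1 := hn ▸ Subgroup.orderOf_dvd_natCard (P : Subgroup G) hv
    have h2 : orderOf v ∣ 2 := orderOf_dvd_of_pow_eq_one (by rw [pow_two, hv2])
    have := Nat.dvd_gcd h2 h1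
    rwa [Nat.Coprime.pow_right n ((Nat.coprime_primes Nat.prime_two hp.out).mpr (Ne.symm hp2)),
      Nat.dvd_one, orderOf_eq_one_iff] at this
  have hcop : ∀ u : G, u ≠ 1 → u * u = 1 → (Nat.card (Subgroup.centralizer ({u} : Set G))).Coprime p := by
    intro u hu1 hu2
    by_contra hco
    obtain ⟨d', hd'⟩ := exists_prime_orderOf_dvd_card' (G := Subgroup.centralizer ({u} : Set G)) p
      (by by_contra h; exact hco (hp.out.coprime_iff_not_dvd.mpr h).symm)
    rw [← Subgroup.orderOf_coe] at hd'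
    have hd1 : (d' : G) ≠ 1 := fun h => by rw [h, orderOf_one] at hd'; exact hp.out.one_lt.ne hd'
    obtain ⟨h, -, hhu⟩ := hPconj d' hd1 ⟨1, by rw [pow_one, ← hd', pow_orderOf_eq_one]⟩ u
      (Subgroup.mem_centralizer_singleton_iff.mp d'.2).symm
    exact hu1 (conj_eq_one_iff.mp (hqodd _ hhu
      (by rw [show h * u * h⁻¹ * (h * u * h⁻¹) = h * (u * u) * h⁻¹ by group, hu2]; group)))
  have hCeq : ∀ u v : G, u ≠ 1 → v ≠ 1 → u * v = v * u →
      Subgroup.centralizer ({u} : Set G) = Subgroup.centralizer ({v} : Set G) := by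
    have key : ∀ u v : G, u ≠ 1 → u * v = v * u →
        Subgroup.centralizer ({u} : Set G) ≤ Subgroup.centralizer ({v} : Set G) := by
      intro u v hu huv g hg
      exact Subgroup.mem_centralizer_singleton_iff.mpr (hCA u hu g hg v
        (Subgroup.mem_centralizer_singleton_iff.mpr huv.symm))
    exact fun u v hu hv huv => le_antisymm (key u v hu huv) (key v u hv huv.symm)
  -- two non-commuting involutions
  have hdih : ∀ r u : G, r * r = 1 → u * u = 1 → r * u ≠ u * r →
      (∃ k : ℕ, (r * u) ^ p ^ k = 1) ∧ r * u ≠ 1 ∧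
      ∀ j : ℕ, (r * u) ^ (2 * j + 1) = 1 → (r * u) ^ j * r * ((r * u) ^ j)⁻¹ = u := by
    intro r u hr hu hru
    have hri : r⁻¹ = r := inv_eq_of_mul_eq_one_right hr
    have hui : u⁻¹ = u := inv_eq_of_mul_eq_one_right hu
    have hrw : r * (r * u) * r⁻¹ = (r * u)⁻¹ := by
      rw [mul_inv_rev, hri, hui, ← mul_assoc, hr, one_mul]
    have hw1 : r * u ≠ 1 := fun h => hru (by rw [eq_inv_of_mul_eq_one_left h, hui])
    have hr1 : r ≠ 1 := fun h => hru (by rw [h, one_mul, mul_one])
    refine ⟨?_, hw1, ?_⟩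
    · refine ⟨(orderOf (r * u)).primeFactorsList.length, orderOf_dvd_iff_pow_eq_one.mp (dvd_of_eq ?_)⟩
      refine Nat.eq_prime_pow_of_unique_prime_dvd (orderOf_pos _).ne' fun {d} hd hdo => ?_
      by_contra hdp
      have hwd : orderOf ((r * u) ^ (orderOf (r * u) / d)) = d :=
        orderOf_pow_orderOf_div (orderOf_pos _).ne' hdo
      set w := (r * u) ^ (orderOf (r * u) / d) with hw
      have hrwd : r * w * r⁻¹ = w⁻¹ := by rw [hw, ← conj_pow, hrw, inv_pow]
      have hwru : Commute w (r * u) := Commute.pow_self _ _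
      by_cases hd2 : d = 2
      · have hw2 : w⁻¹ = w := by
          refine inv_eq_of_mul_eq_one_right ?_
          rw [← pow_two, ← hd2, ← hwd, pow_orderOf_eq_one]
        rw [hw2] at hrwd
        have h1 : Commute w r := (mul_inv_eq_iff_eq_mul.mp hrwd).symm
        have h2 : Commute w u := by
          have := (h1.inv_right).mul_right hwru
          rwa [inv_mul_cancel_left] at this
        have hwne : w ≠ 1 := fun h => by rw [h, orderOf_one] at hwd; omega
        exact hru (hCA w hwne r (Subgroup.mem_centralizer_singleton_iff.mpr h1.eq.symm) u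
          (Subgroup.mem_centralizer_singleton_iff.mpr h2.eq.symm))
      · have hwne : w ≠ 1 := fun h => by rw [h, orderOf_one] at hwd; exact hd.one_lt.ne hwd
        have hM : (Nat.card (Subgroup.zpowers w)).Coprime p := by
          rw [Nat.card_zpowers, hwd]; exact (Nat.coprime_primes hd hp.out).mpr hdp
        have hrN : r ∈ Subgroup.normalizer ((Subgroup.zpowers w : Subgroup G) : Set G) := by
          rw [Subgroup.mem_normalizer_iff_map_conj_eq, MonoidHom.map_zpowers]
          show Subgroup.zpowers (r * w * r⁻¹) = _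
          rw [hrwd, Subgroup.zpowers_inv]
        have h1 := abelian_sup S.ab hM hrN (by
          rw [orderOf_eq_prime (p := 2) (by rw [pow_two, hr]) hr1]
          exact (Nat.coprime_primes Nat.prime_two hp.out).mpr (Ne.symm hp2)) w (Subgroup.mem_zpowers w)
        rw [h1, mul_inv_cancel_right] at hrwd
        have h2 := orderOf_dvd_of_pow_eq_one
          (show w ^ 2 = 1 by rw [pow_two]; exact mul_eq_one_iff_eq_inv.mpr hrwd)
        rw [hwd] at h2
        exact hd2 ((Nat.prime_dvd_prime_iff_eq hd Nat.prime_two).mp h2)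
    · intro j hj
      set W := r * u with hW
      have h1 : r * (W ^ j)⁻¹ = W ^ j * r := by
        have e : r * W ^ j * r⁻¹ = (W ^ j)⁻¹ := by rw [← conj_pow, hrw, inv_pow]
        rw [← e]
        calc r * (r * W ^ j * r⁻¹) = (r * r) * W ^ j * r⁻¹ := by group
          _ = W ^ j * r := by rw [hr, one_mul, hri]
      rw [mul_assoc, h1, ← mul_assoc, ← pow_add]
      have h2 : W ^ (j + j) = W⁻¹ := by
        refine eq_inv_of_mul_eq_one_left ?_
        rw [← pow_succ, show j + j + 1 = 2 * j + 1 by ring, hj]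
      rw [h2, hW, mul_inv_rev, hri, hui, mul_assoc, hr, mul_one]
  have hconj1 : ∀ r u : G, r * r = 1 → u * u = 1 → r * u ≠ u * r →
      ∃ g ∈ Subgroup.zpowers (r * u), g * r * g⁻¹ = u := by
    intro r u hr hu hru
    obtain ⟨⟨k, hk⟩, -, h⟩ := hdih r u hr hu hru
    obtain ⟨j, hj⟩ := ((hp.out.eq_two_or_odd'.resolve_left hp2).pow : Odd (p ^ k))
    exact ⟨_, Subgroup.pow_mem _ (Subgroup.mem_zpowers _) j, h j (hj ▸ hk)⟩
  have hpartner : ∀ r : G, r ≠ 1 → r * r = 1 → ∃ u : G, u * u = 1 ∧ r * u ≠ u * r := by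
    intro r hr1 hr2
    by_contra h
    push Not at h
    have hle : Subgroup.normalClosure ({r} : Set G) ≤ Subgroup.centralizer ({r} : Set G) := by
      refine Subgroup.closure_le _ |>.mpr ?_
      intro u hu
      rw [Group.mem_conjugatesOfSet_iff] at hu
      obtain ⟨r', hr', hc⟩ := hu
      rw [Set.mem_singleton_iff] at hr'
      subst hr'
      obtain ⟨g, rfl⟩ := isConj_iff.mp hc
      exact Subgroup.mem_centralizer_singleton_iff.mpr (h _
        (by rw [show g * r' * g⁻¹ * (g * r' * g⁻¹) = g * (r' * r') * g⁻¹ by group, hr2]; group)).symm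
    rcases S.simp_ _ Subgroup.normalClosure_normal with h1 | h1
    · exact hr1 (Subgroup.mem_bot.mp (h1 ▸ Subgroup.subset_normalClosure (Set.mem_singleton r)))
    · exact S.centralizer_ne_top hr1 (top_le_iff.mp (h1.ge.trans hle))
  have ht1 : t ≠ 1 := fun h => by rw [h, orderOf_one] at ht; omega
  have ht2 : t * t = 1 := by rw [← pow_two, ← ht, pow_orderOf_eq_one]
  have hallconj : ∀ u : G, u ≠ 1 → u * u = 1 → ∃ g : G, g * t * g⁻¹ = u := by
    intro u hu1 hu2
    by_cases htu : t * u = u * t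
    · obtain ⟨v, hv2, htv⟩ := hpartner t ht1 ht2
      have huv : v * u ≠ u * v := by
        intro e
        exact htv (hCA u hu1 t (Subgroup.mem_centralizer_singleton_iff.mpr htu) v
          (Subgroup.mem_centralizer_singleton_iff.mpr e))
      obtain ⟨g, -, hg⟩ := hconj1 t v ht2 hv2 htv
      obtain ⟨g', -, hg'⟩ := hconj1 v u hv2 hu2 huv
      exact ⟨g' * g, by rw [← hg', ← hg]; group⟩
    · obtain ⟨g, -, hg⟩ := hconj1 t u ht2 hu2 htu
      exact ⟨g, hg⟩
  set C := Subgroup.centralizer ({t} : Set G) with hC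
  have htC : t ∈ C := Subgroup.mem_centralizer_singleton_iff.mpr rfl
  have hCc := hcop t ht1 ht2
  have hnorm : ∀ g : G, g * t * g⁻¹ ∈ C → g ∈ Subgroup.normalizer (C : Set G) := by
    intro g hg
    have hne : g * t * g⁻¹ ≠ 1 := fun h => ht1 (conj_eq_one_iff.mp h)
    have he := hCeq (g * t * g⁻¹) t hne ht1 (Subgroup.mem_centralizer_singleton_iff.mp hg)
    rw [Subgroup.mem_normalizer_iff]
    intro y
    rw [hC]
    nth_rewrite 2 [← he]
    rw [Subgroup.mem_centralizer_singleton_iff, Subgroup.mem_centralizer_singleton_iff]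
    constructor
    · intro h
      rw [show g * y * g⁻¹ * (g * t * g⁻¹) = g * (y * t) * g⁻¹ by group, h]; group
    · intro h
      rw [show g * y * g⁻¹ * (g * t * g⁻¹) = g * (y * t) * g⁻¹ by group,
        show g * t * g⁻¹ * (g * y * g⁻¹) = g * (t * y) * g⁻¹ by group] at h
      exact mul_left_cancel (mul_right_cancel h)
  let Inv := {u : G // u ≠ 1 ∧ u * u = 1}
  -- all involutions
  have hI : Nat.card Inv * Nat.card C = Nat.card G := by
    let F : G → Inv := fun g => ⟨g * t * g⁻¹, fun h => ht1 (conj_eq_one_iff.mp h),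
      by rw [show g * t * g⁻¹ * (g * t * g⁻¹) = g * (t * t) * g⁻¹ by group, ht2]; group⟩
    have hFC : ∀ g h : G, F g = F h ↔ g⁻¹ * h ∈ C := by
      intro g h
      rw [hC, Subgroup.mem_centralizer_singleton_iff]
      constructor
      · intro e
        have e' : g * t * g⁻¹ = h * t * h⁻¹ := congrArg Subtype.val e
        calc g⁻¹ * h * t = g⁻¹ * (h * t * h⁻¹) * h := by group
          _ = g⁻¹ * (g * t * g⁻¹) * h := by rw [e']
          _ = _ := by group
      · intro e
        apply Subtype.ext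
        show g * t * g⁻¹ = h * t * h⁻¹
        calc g * t * g⁻¹ = g * (t * (g⁻¹ * h)) * h⁻¹ := by group
          _ = g * (g⁻¹ * h * t) * h⁻¹ := by rw [e]
          _ = _ := by group
    let F' : G ⧸ C → Inv := Quotient.lift F fun g h e =>
      (hFC g h).mpr (QuotientGroup.leftRel_apply.mp e)
    have hb : Function.Bijective F' := by
      constructor
      · rintro ⟨g⟩ ⟨h⟩ e
        exact QuotientGroup.eq.mpr ((hFC g h).mp e)
      · intro u
        obtain ⟨g, hg⟩ := hallconj u u.2.1 u.2.2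
        exact ⟨QuotientGroup.mk g, Subtype.ext hg⟩
    rw [← Nat.card_congr (Equiv.ofBijective F' hb)]
    exact (Subgroup.card_eq_card_quotient_mul_card_subgroup C).symm
  -- the involutions commuting with `t`
  have hcomm : p ∣ Nat.card {u : Inv // (u : G) * t = t * (u : G)} := by
    set Nm := Subgroup.normalizer (C : Set G)
    let F : Nm → {u : Inv // (u : G) * t = t * (u : G)} := fun g =>
      ⟨⟨(g : G) * t * (g : G)⁻¹, fun h => ht1 (conj_eq_one_iff.mp h),
        by rw [show (g : G) * t * (g : G)⁻¹ * ((g : G) * t * (g : G)⁻¹) = g * (t * t) * (g : G)⁻¹ by group,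
          ht2]; group⟩,
        Subgroup.mem_centralizer_singleton_iff.mp ((Subgroup.mem_normalizer_iff.mp g.2 t).mp htC)⟩
    have hFC : ∀ g h : Nm, F g = F h ↔ g⁻¹ * h ∈ C.subgroupOf Nm := by
      intro g h
      rw [Subgroup.mem_subgroupOf, hC, Subgroup.mem_centralizer_singleton_iff, Subgroup.coe_mul,
        Subgroup.coe_inv]
      constructor
      · intro e
        have e' : (g : G) * t * (g : G)⁻¹ = h * t * (h : G)⁻¹ :=
          congrArg (fun u : {u : Inv // (u : G) * t = t * (u : G)} => (u.1 : G)) e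
        calc (g : G)⁻¹ * h * t = (g : G)⁻¹ * (h * t * (h : G)⁻¹) * h := by group
          _ = (g : G)⁻¹ * (g * t * (g : G)⁻¹) * h := by rw [e']
          _ = _ := by group
      · intro e
        apply Subtype.ext; apply Subtype.ext
        show (g : G) * t * (g : G)⁻¹ = h * t * (h : G)⁻¹
        calc (g : G) * t * (g : G)⁻¹ = g * (t * ((g : G)⁻¹ * h)) * (h : G)⁻¹ := by group
          _ = g * ((g : G)⁻¹ * h * t) * (h : G)⁻¹ := by rw [e]
          _ = _ := by group
    let F' : Nm ⧸ C.subgroupOf Nm → {u : Inv // (u : G) * t = t * (u : G)} := Quotient.lift F fun g h e =>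
      (hFC g h).mpr (QuotientGroup.leftRel_apply.mp e)
    have hb : Function.Bijective F' := by
      constructor
      · rintro ⟨g⟩ ⟨h⟩ e
        exact QuotientGroup.eq.mpr ((hFC g h).mp e)
      · intro u
        obtain ⟨g, hg⟩ := hallconj u.1 u.1.2.1 u.1.2.2
        have hgN : g ∈ Nm := hnorm g (by
          rw [hg]; exact Subgroup.mem_centralizer_singleton_iff.mpr u.2)
        exact ⟨QuotientGroup.mk ⟨g, hgN⟩, Subtype.ext (Subtype.ext hg)⟩
    rw [← Nat.card_congr (Equiv.ofBijective F' hb)]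
    have hnt : C.subgroupOf Nm ≠ ⊤ := by
      intro htop
      obtain ⟨T, hT⟩ := (IsPGroup.of_card (p := 2) (n := 1)
        (show Nat.card (Subgroup.zpowers t) = 2 ^ 1 by rw [Nat.card_zpowers, ht, pow_one])).exists_le_sylow
      have hTc : (Nat.card (T : Subgroup G)).Coprime p := by
        obtain ⟨m, hm⟩ := IsPGroup.iff_card.mp T.2
        rw [hm]; exact Nat.Coprime.pow_left m ((Nat.coprime_primes Nat.prime_two hp.out).mpr (Ne.symm hp2))
      have hTab := abelian_of_coprime S.ab hTc
      have htT : t ∈ (T : Subgroup G) := hT (Subgroup.mem_zpowers t)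
      have hTC : (T : Subgroup G) ≤ C := fun u hu =>
        Subgroup.mem_centralizer_singleton_iff.mpr (hTab u hu t htT)
      have hle : Subgroup.normalizer ((T : Subgroup G) : Set G) ≤
          Subgroup.centralizer ((T : Subgroup G) : Set G) := by
        intro g hg
        have h1 : g * t * g⁻¹ ∈ C := hTC ((Subgroup.mem_normalizer_iff.mp hg t).mp htT)
        have h2 : (⟨g, hnorm g h1⟩ : Nm) ∈ C.subgroupOf Nm := htop ▸ Subgroup.mem_top _
        rw [Subgroup.mem_centralizer_iff]
        exact fun u hu => hCA t ht1 u (hTC hu) g (Subgroup.mem_subgroupOf.mp h2)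
      have hc := MonoidHom.ker_transferSylow_isComplement' T hle
      rcases S.simp_ _ (MonoidHom.normal_ker (MonoidHom.transferSylow T hle)) with h | h
      · have h1 := hc.card_mul_card
        rw [h, Subgroup.card_bot, one_mul] at h1
        have h2 := S.p_dvd
        rw [← h1] at h2
        exact hp.out.coprime_iff_not_dvd.mp hTc.symm h2
      · rw [h] at hc
        exact ht1 (Subgroup.mem_bot.mp (Subgroup.isComplement'_top_left.mp hc ▸ htT))
    obtain ⟨d, hd, hdq⟩ := Nat.exists_prime_and_dvd (n := Nat.card (Nm ⧸ C.subgroupOf Nm))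
      (fun h => hnt (Subgroup.index_eq_one.mp h))
    have := Fact.mk hd
    obtain ⟨x, hx⟩ := exists_prime_orderOf_dvd_card' (G := Nm ⧸ C.subgroupOf Nm) d hdq
    by_cases hdp : d = p
    · exact hdp ▸ hdq
    exfalso
    obtain ⟨g, rfl⟩ := QuotientGroup.mk'_surjective _ x
    have hgC : g ∈ C.subgroupOf Nm := by
      refine mem_of_parts (p := p) _ fun b hb hb' => ?_
      rcases hb' with ⟨k, hk⟩ | h
      · rw [← QuotientGroup.eq_one_iff, ← orderOf_eq_one_iff]
        obtain ⟨i, rfl⟩ := Subgroup.mem_zpowers_iff.mp hb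
        refine Nat.dvd_one.mp ?_
        rw [← (Nat.Coprime.pow_right k ((Nat.coprime_primes hd hp.out).mpr hdp))]
        refine Nat.dvd_gcd ?_ ?_
        · rw [QuotientGroup.mk_zpow]
          refine (orderOf_dvd_of_mem_zpowers (Subgroup.zpow_mem _ (Subgroup.mem_zpowers _) i)).trans ?_
          exact dvd_of_eq hx
        · exact orderOf_dvd_of_pow_eq_one (by rw [← QuotientGroup.mk_pow, hk, QuotientGroup.mk_one])
      · rw [Subgroup.mem_subgroupOf, hC, Subgroup.mem_centralizer_singleton_iff]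
        exact abelian_sup S.ab hCc b.2 (by rwa [Subgroup.orderOf_coe]) t htC
    rw [QuotientGroup.mk'_apply, (QuotientGroup.eq_one_iff g).mpr hgC, orderOf_one] at hx
    exact hd.one_lt.ne hx
  -- the remaining involutions
  have hCQ : ∀ (Q : Sylow p G) (v : G), v ∈ (Q : Subgroup G) → v ≠ 1 → ∀ g : G, g * v = v * g →
      g ∈ (Q : Subgroup G) := by
    intro Q v hv hv1 g hg
    obtain ⟨c, rfl⟩ := MulAction.exists_smul_eq G P Q
    rw [Sylow.coe_subgroup_smul, Subgroup.mem_pointwise_smul_iff_inv_smul_mem] at hv ⊢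
    have hv' : c⁻¹ * v * c ∈ (P : Subgroup G) := by simpa [MulAut.smul_def] using hv
    obtain ⟨i, hi⟩ := Subgroup.mem_zpowers_iff.mp (hzu _ hv' (fun e => hv1 (by
      rw [show v = c * (c⁻¹ * v * c) * c⁻¹ by group, e]; group)))
    have hc : Commute (c⁻¹ * g * c) (c⁻¹ * v * c) := by
      show c⁻¹ * g * c * (c⁻¹ * v * c) = c⁻¹ * v * c * (c⁻¹ * g * c)
      rw [show c⁻¹ * g * c * (c⁻¹ * v * c) = c⁻¹ * (g * v) * c by group, hg]; group
    have := hCz (c⁻¹ * g * c) (by rw [← hi]; exact (hc.zpow_right i).eq)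
    simpa [MulAut.smul_def] using this
  have hQab : ∀ (Q : Sylow p G), ∀ u ∈ (Q : Subgroup G), ∀ v ∈ (Q : Subgroup G), u * v = v * u := by
    intro Q u hu v hv
    obtain ⟨c, rfl⟩ := MulAction.exists_smul_eq G P Q
    rw [Sylow.coe_subgroup_smul, Subgroup.mem_pointwise_smul_iff_inv_smul_mem] at hu hv
    have := hPab _ hu _ hv
    rw [← smul_mul', ← smul_mul'] at this
    exact MulAction.injective _ this
  have hTI : ∀ (Q Q' : Sylow p G) (v : G), v ≠ 1 → v ∈ (Q : Subgroup G) → v ∈ (Q' : Subgroup G) →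
      Q = Q' := by
    intro Q Q' v hv1 hv hv'
    refine Sylow.ext (le_antisymm (fun g hg => ?_) (fun g hg => ?_))
    · exact hCQ Q' v hv' hv1 g (hQab Q g hg v hv)
    · exact hCQ Q v hv hv1 g (hQab Q' g hg v hv')
  have hinvert : ∀ (Q : Sylow p G) (r : G), r ≠ 1 → r * r = 1 →
      r ∈ Subgroup.normalizer ((Q : Subgroup G) : Set G) →
      ∀ v ∈ (Q : Subgroup G), r * v * r⁻¹ = v⁻¹ := by
    intro Q r hr1 hr2 hrN
    let ψ : (Q : Subgroup G) →* (Q : Subgroup G) := MonoidHom.mk' (fun x => ⟨r * x * r⁻¹,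
      (Subgroup.mem_normalizer_iff.mp hrN x).mp x.2⟩) fun x y => Subtype.ext (by
        simp only [Subgroup.coe_mul]; group)
    have hfp : MonoidHom.FixedPointFree ψ := by
      intro x hx
      by_contra hx1
      have e : r * (x : G) = x * r := mul_inv_eq_iff_eq_mul.mp (congrArg Subtype.val hx)
      have h1 := Subgroup.orderOf_dvd_natCard (Subgroup.centralizer ({r} : Set G))
        (Subgroup.mem_centralizer_singleton_iff.mpr e.symm)
      obtain ⟨m, hm⟩ := IsPGroup.iff_card.mp Q.2
      have h2 := Nat.dvd_gcd h1 (hm ▸ Subgroup.orderOf_dvd_natCard (Q : Subgroup G) x.2)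
      rw [(hcop r hr1 hr2).pow_right m, Nat.dvd_one, orderOf_eq_one_iff] at h2
      exact hx1 (Subtype.ext h2)
    have hinv : Function.Involutive ψ := fun x => Subtype.ext (by
      show r * (r * (x : G) * r⁻¹) * r⁻¹ = x
      rw [show r * (r * (x : G) * r⁻¹) * r⁻¹ = (r * r) * x * (r * r)⁻¹ by group, hr2]; group)
    exact fun v hv => congrArg Subtype.val (congrFun (hfp.coe_eq_inv_of_involutive hinv) ⟨v, hv⟩)
  let T := {Q : Sylow p G // t ∈ Subgroup.normalizer ((Q : Subgroup G) : Set G)}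
  have hti : t⁻¹ = t := inv_eq_of_mul_eq_one_right ht2
  let J : (Σ Q : T, {v : ((Q.1 : Subgroup G)) // v ≠ 1}) → {u : Inv // ¬ (u : G) * t = t * (u : G)} := fun σ =>
    ⟨⟨t * (σ.2.1 : G),
      fun h => by
        have e : (σ.2.1 : G) = t := by rw [eq_inv_of_mul_eq_one_right h, hti]
        have h1 := hinvert σ.1.1 t ht1 ht2 σ.1.2 _ σ.2.1.2
        rw [e, mul_inv_cancel_right] at h1
        have h2 := hn ▸ P.card_eq_multiplicity
        obtain ⟨m, hm⟩ := IsPGroup.iff_card.mp σ.1.1.2
        have h3 := hm ▸ Subgroup.orderOf_dvd_natCard (σ.1.1 : Subgroup G) σ.2.1.2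
        rw [e, ht] at h3
        exact hp2 ((Nat.prime_dvd_prime_iff_eq Nat.prime_two hp.out).mp
          (Nat.prime_two.dvd_of_dvd_pow h3)).symm,
      by
        have h1 := hinvert σ.1.1 t ht1 ht2 σ.1.2 _ σ.2.1.2
        rw [hti] at h1
        rw [show t * (σ.2.1 : G) * (t * (σ.2.1 : G)) = (t * (σ.2.1 : G) * t) * (σ.2.1 : G) by group, h1,
          inv_mul_cancel]⟩,
      fun h => σ.2.2 (Subtype.ext (by
        have h1 := hinvert σ.1.1 t ht1 ht2 σ.1.2 _ σ.2.1.2
        have e : t * (σ.2.1 : G) * t⁻¹ = σ.2.1 := by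
          rw [mul_inv_eq_iff_eq_mul]
          have h' : t * (σ.2.1 : G) * t = t * (t * (σ.2.1 : G)) := h
          rw [← mul_assoc, ht2, one_mul] at h'
          calc t * (σ.2.1 : G) = t * (σ.2.1 : G) * t * t := by rw [mul_assoc _ t t, ht2, mul_one]
            _ = _ := by rw [h']
        rw [e] at h1
        obtain ⟨m, hm⟩ := IsPGroup.iff_card.mp σ.1.1.2
        have h2 : orderOf (σ.2.1 : G) ∣ 2 := orderOf_dvd_of_pow_eq_one
          (by rw [pow_two]; exact mul_eq_one_iff_eq_inv.mpr h1)
        have h3 := Nat.dvd_gcd h2 (hm ▸ Subgroup.orderOf_dvd_natCard (σ.1.1 : Subgroup G) σ.2.1.2)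
        rw [Nat.Coprime.pow_right m ((Nat.coprime_primes Nat.prime_two hp.out).mpr (Ne.symm hp2)),
          Nat.dvd_one, orderOf_eq_one_iff] at h3
        exact h3))⟩
  have hJinj : Function.Injective J := by
    rintro ⟨Q, v⟩ ⟨Q', v'⟩ h
    have hv : (v.1 : G) = (v'.1 : G) :=
      mul_left_cancel (congrArg (fun u : {u : Inv // ¬ (u : G) * t = t * (u : G)} => (u.1 : G)) h)
    obtain rfl : Q = Q' := Subtype.ext (hTI Q.1 Q'.1 v.1 (fun e => v.2 (Subtype.ext e)) v.1.2
      (hv ▸ v'.1.2))
    exact congrArg (Sigma.mk Q) (Subtype.ext (Subtype.ext hv))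
  have hJsurj : Function.Surjective J := by
    rintro ⟨⟨u, hu1, hu2⟩, hut⟩
    obtain ⟨⟨k, hk⟩, hw1, -⟩ := hdih t u ht2 hu2 (fun e => hut e.symm)
    obtain ⟨Q, hQ⟩ := (IsPGroup.of_card (p := p) (n := ((Nat.dvd_prime_pow hp.out).mp
      (orderOf_dvd_of_pow_eq_one hk)).choose)
      ((Nat.card_zpowers (t * u)).trans ((Nat.dvd_prime_pow hp.out).mp
        (orderOf_dvd_of_pow_eq_one hk)).choose_spec.2)).exists_le_sylow
    have hwQ : t * u ∈ (Q : Subgroup G) := hQ (Subgroup.mem_zpowers _)
    have htN : t ∈ Subgroup.normalizer ((Q : Subgroup G) : Set G) := by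
      refine Sylow.smul_eq_iff_mem_normalizer.mp ?_
      refine hTI _ Q (t * u) hw1 ?_ hwQ
      rw [Sylow.coe_subgroup_smul, Subgroup.mem_pointwise_smul_iff_inv_smul_mem]
      have e : t⁻¹ * (t * u) * t = (t * u)⁻¹ := by
        rw [mul_inv_rev, hti, inv_eq_of_mul_eq_one_right hu2, ← mul_assoc, ht2, one_mul]
      have := inv_mem hwQ
      rw [← e] at this
      rw [← map_inv, MulAut.smul_def, MulAut.conj_apply, inv_inv]
      exact this
    exact ⟨⟨⟨Q, htN⟩, ⟨⟨t * u, hwQ⟩, fun e => hw1 (congrArg Subtype.val e)⟩⟩,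
      Subtype.ext (Subtype.ext (by show t * (t * u) = u; rw [← mul_assoc, ht2, one_mul]))⟩
  have hQcard : ∀ Q : Sylow p G, Nat.card {v : (Q : Subgroup G) // v ≠ 1} = p ^ n - 1 := by
    intro Q
    have := Fintype.ofFinite (Q : Subgroup G)
    rw [Nat.card_eq_fintype_card, Fintype.card_subtype_compl, Fintype.card_subtype_eq,
      ← Nat.card_eq_fintype_card, Q.card_eq_multiplicity, ← P.card_eq_multiplicity, hn]
  have hnoncomm : Nat.card {u : Inv // ¬ (u : G) * t = t * (u : G)} = Nat.card T * (p ^ n - 1) := by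
    rw [← Nat.card_congr (Equiv.ofBijective J ⟨hJinj, hJsurj⟩)]
    have := Fintype.ofFinite T
    rw [Nat.card_sigma, Finset.sum_congr rfl fun (Q : T) _ => hQcard Q.1, Finset.sum_const,
      Finset.card_univ, Nat.card_eq_fintype_card, smul_eq_mul]
  have hTd : Nat.card T ∣ Nat.card C := by
    obtain ⟨u, hu2, htu⟩ := hpartner t ht1 ht2
    obtain ⟨⟨Q0, -⟩, -⟩ := hJsurj ⟨⟨u, fun e => htu (by rw [e, mul_one, one_mul]), hu2⟩, fun e => htu e.symm⟩
    have horb : ∀ Q : Sylow p G, Q ∈ MulAction.orbit C Q0.1 ↔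
        t ∈ Subgroup.normalizer ((Q : Subgroup G) : Set G) := by
      intro Q
      constructor
      · rintro ⟨g, rfl⟩
        have hgt : (g : G) * t = t * g := Subgroup.mem_centralizer_singleton_iff.mp g.2
        refine Sylow.smul_eq_iff_mem_normalizer.mp ?_
        show t • ((g : G) • Q0.1) = (g : G) • Q0.1
        rw [← mul_smul, ← hgt, mul_smul, Sylow.smul_eq_iff_mem_normalizer.mpr Q0.2]
      · intro hQ
        obtain ⟨g, hg⟩ := MulAction.exists_smul_eq G Q0.1 Q
        have ht' : g * t * g⁻¹ ∈ Subgroup.normalizer ((Q : Subgroup G) : Set G) := by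
          refine Sylow.smul_eq_iff_mem_normalizer.mp ?_
          rw [← hg, ← mul_smul, show g * t * g⁻¹ * g = g * t by group, mul_smul,
            Sylow.smul_eq_iff_mem_normalizer.mpr Q0.2]
        have ht'2 : g * t * g⁻¹ * (g * t * g⁻¹) = 1 := by
          rw [show g * t * g⁻¹ * (g * t * g⁻¹) = g * (t * t) * g⁻¹ by group, ht2]; group
        have ht'1 : g * t * g⁻¹ ≠ 1 := fun h => ht1 (conj_eq_one_iff.mp h)
        obtain ⟨e, heQ, he⟩ : ∃ e ∈ (Q : Subgroup G), e * (g * t * g⁻¹) * e⁻¹ = t := by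
          by_cases heq : g * t * g⁻¹ = t
          · exact ⟨1, one_mem _, by rw [heq]; group⟩
          obtain ⟨y, hy, hy1⟩ := ((Q : Subgroup G).bot_or_exists_ne_one).resolve_left (fun hb => by
            have h1 := congrArg (fun H : Subgroup G => Nat.card H) hb
            simp only [Subgroup.card_bot] at h1
            rw [Q.card_eq_multiplicity, ← P.card_eq_multiplicity] at h1
            exact S.ne_bot (Subgroup.card_eq_one.mp h1))
          have i1 := hinvert Q _ ht'1 ht'2 ht' y hy
          have i2 := hinvert Q t ht1 ht2 hQ _ (inv_mem hy)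
          have hc : g * t * g⁻¹ * t * y = y * (g * t * g⁻¹ * t) := by
            rw [inv_inv, mul_inv_eq_iff_eq_mul] at i2
            have i2' : t * y = y⁻¹ * t := by
              calc t * y = t * (t * y⁻¹ * t⁻¹) * 1 := by rw [mul_inv_eq_iff_eq_mul.mpr i2, mul_one]
                _ = (t * t) * y⁻¹ * t⁻¹ := by group
                _ = y⁻¹ * t := by rw [ht2, one_mul, hti]
            rw [mul_inv_eq_iff_eq_mul] at i1
            have i1' : g * t * g⁻¹ * y⁻¹ = y * (g * t * g⁻¹) := by
              calc g * t * g⁻¹ * y⁻¹ = g * t * g⁻¹ * (y⁻¹ * (g * t * g⁻¹)) * (g * t * g⁻¹)⁻¹ := by group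
                _ = g * t * g⁻¹ * (g * t * g⁻¹ * y) * (g * t * g⁻¹)⁻¹ := by rw [i1]
                _ = (g * t * g⁻¹ * (g * t * g⁻¹)) * y * (g * t * g⁻¹)⁻¹ := by group
                _ = _ := by rw [ht'2, one_mul, inv_eq_of_mul_eq_one_right ht'2]
            rw [mul_assoc, i2', ← mul_assoc, i1', mul_assoc]
          have hwQ := hCQ Q y hy hy1 _ hc
          have hne : g * t * g⁻¹ * t ≠ t * (g * t * g⁻¹) := by
            intro e
            have := hinvert Q _ ht'1 ht'2 ht' _ hwQ
            apply heq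
            have h2 : orderOf (g * t * g⁻¹ * t) ∣ 2 := orderOf_dvd_of_pow_eq_one (by
              rw [pow_two]
              nth_rewrite 2 [e]
              rw [← mul_assoc, mul_assoc (g * t * g⁻¹) t t, ht2, mul_one, ht'2])
            obtain ⟨m, hm⟩ := IsPGroup.iff_card.mp Q.2
            have h3 := Nat.dvd_gcd h2 (hm ▸ Subgroup.orderOf_dvd_natCard (Q : Subgroup G) hwQ)
            rw [Nat.Coprime.pow_right m ((Nat.coprime_primes Nat.prime_two hp.out).mpr (Ne.symm hp2)),
              Nat.dvd_one, orderOf_eq_one_iff] at h3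
            rw [eq_inv_of_mul_eq_one_left h3, hti]
          obtain ⟨e, he, he'⟩ := hconj1 _ t ht'2 ht2 hne
          exact ⟨e, Subgroup.zpowers_le.mpr hwQ he, he'⟩
        refine ⟨⟨e * g, Subgroup.mem_centralizer_singleton_iff.mpr ?_⟩, ?_⟩
        · calc e * g * t = e * (g * t * g⁻¹) * e⁻¹ * (e * g) := by group
            _ = t * (e * g) := by rw [he]
        · show (e * g) • Q0.1 = Q
          rw [mul_smul, hg, Sylow.smul_eq_iff_mem_normalizer]
          exact Subgroup.le_normalizer heQ
    rw [← Nat.card_congr (Equiv.subtypeEquivRight horb)]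
    have h1 := Subgroup.card_mul_index (MulAction.stabilizer C Q0.1)
    rw [MulAction.index_stabilizer, ← Nat.card_coe_set_eq] at h1
    exact Dvd.intro_left _ h1
  have hn0 : n ≠ 0 := fun h => S.ne_bot (Subgroup.card_eq_one.mp (by rw [hn, h, pow_zero]))
  have hsplit : Nat.card Inv = Nat.card {u : Inv // (u : G) * t = t * (u : G)} +
      Nat.card {u : Inv // ¬ (u : G) * t = t * (u : G)} := by
    rw [← Nat.card_sum]; exact Nat.card_congr (Equiv.sumCompl _).symm
  have hd : p ∣ Nat.card Inv :=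
    hCc.symm.dvd_of_dvd_mul_right (hI.symm ▸ S.p_dvd)
  rw [hsplit, Nat.dvd_add_right hcomm, hnoncomm] at hd
  have h1 : p.Coprime (p ^ n - 1) := hp.out.coprime_iff_not_dvd.mpr fun h => by
    obtain ⟨k, rfl⟩ := Nat.exists_eq_succ_of_ne_zero hn0
    have hpk : 1 ≤ p ^ (k + 1) := Nat.one_le_pow _ _ hp.out.pos
    have h1 : p ∣ p ^ (k + 1) := dvd_pow_self p (by omega)
    have h2 := Nat.dvd_sub h1 h
    rw [Nat.succ_eq_add_one, Nat.sub_sub_self hpk] at h2
    exact hp.out.not_dvd_one h2
  exact hp.out.coprime_iff_not_dvd.mp hCc.symm ((h1.dvd_of_dvd_mul_right hd).trans hTd)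

theorem cyclic_sylow {G : Type*} [Group G] [Finite G] {p : ℕ} [Fact p.Prime] (P : Sylow p G)
    (hc : IsCyclic P) {R : Subgroup G} (hR : IsPGroup p R) : IsCyclic R := by
  obtain ⟨Q, hQ⟩ := hR.exists_le_sylow
  exact isCyclic_subgroup (isCyclic_of_surjective (P.equiv Q).toMonoidHom (P.equiv Q).surjective) hQ

theorem normal_of_normal_in_normal {G : Type*} [Group G] [Finite G] {p : ℕ} [Fact p.Prime]
    (P : Sylow p G) (C : Subgroup G) [C.Normal] (hPC : (P : Subgroup G) ≤ C)
    (hle : C ≤ Subgroup.normalizer ((P : Subgroup G) : Set G)) : (P : Subgroup G).Normal := by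
  have hn : ((P.subtype hPC : Sylow p C) : Subgroup C).Normal :=
    (Subgroup.normal_subgroupOf_iff_le_normalizer hPC).mpr hle
  have : ((P : Subgroup G).subgroupOf C).Characteristic := Sylow.characteristic_of_normal (P.subtype hPC) hn
  have h := CfsgLib.Solvable.normal_map_subtype_of_characteristic C ((P : Subgroup G).subgroupOf C)
  rwa [Subgroup.map_subgroupOf_eq_of_le hPC] at h

/-- A normal subgroup above `P` with a normal `p`-complement, in the presence of a mover. -/
theorem normal_of_split {G : Type*} [Group G] [Finite G] {p : ℕ} [Fact p.Prime]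
    (P : Sylow p G) (hc : IsCyclic P) (hab : ∀ H : Subgroup G, ¬ p ∣ Nat.card H → IsMulCommutative H)
    (C : Subgroup G) [C.Normal] (hPC : (P : Subgroup G) ≤ C) (hC : Cfsg.HasNormalPComplement p C)
    {a : G} (haN : a ∈ Subgroup.normalizer ((P : Subgroup G) : Set G)) (ha : (orderOf a).Coprime p)
    (hne : ¬ ∀ x ∈ (P : Subgroup G), a * x = x * a) : (P : Subgroup G).Normal := by
  obtain ⟨Q, K, hK, hKQ⟩ := hC
  have hKc : (Nat.card K).Coprime p := by
    rw [← hKQ.index_eq_card]
    exact ((Fact.out : p.Prime).coprime_iff_not_dvd.mpr Q.not_dvd_index).symm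
  set M := (Cfsg.pPrimeCore p C).map C.subtype with hM
  have := CfsgLib.Solvable.pPrimeCore_characteristic p C
  have hMn : M.Normal := CfsgLib.Solvable.normal_map_subtype_of_characteristic C _
  have hMc : (Nat.card M).Coprime p := by
    rw [Subgroup.card_map_of_injective C.subtype_injective]
    exact CfsgLib.Solvable.pPrimeCore_card_coprime p C
  have hcentr := centralizes_core P hc hab M hMc haN ha hne
  have hKN : K ≤ (Subgroup.normalizer ((P : Subgroup G) : Set G)).subgroupOf C := by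
    intro k hk
    rw [Subgroup.mem_subgroupOf]
    apply Subgroup.centralizer_le_normalizer
    rw [Subgroup.mem_centralizer_iff]
    exact fun x hx => hcentr x hx k ⟨k, CfsgLib.Solvable.le_pPrimeCore hK hKc hk, rfl⟩
  have hPN : ((P.subtype hPC : Sylow p C) : Subgroup C) ≤
      (Subgroup.normalizer ((P : Subgroup G) : Set G)).subgroupOf C :=
    Subgroup.comap_mono Subgroup.le_normalizer
  have h1 := Subgroup.index_dvd_of_le hKN
  obtain ⟨k, hk⟩ := IsPGroup.iff_card.mp Q.2
  rw [hKQ.symm.index_eq_card, hk] at h1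
  have h2 : Nat.Coprime ((Subgroup.normalizer ((P : Subgroup G) : Set G)).subgroupOf C).index (p ^ k) :=
    ((((Fact.out : p.Prime).coprime_iff_not_dvd.mpr (P.subtype hPC).not_dvd_index).symm).coprime_dvd_left
      (Subgroup.index_dvd_of_le hPN)).pow_right k
  have h3 : Subgroup.relIndex (Subgroup.normalizer ((P : Subgroup G) : Set G)) C = 1 :=
    Nat.Coprime.eq_one_of_dvd h2 h1
  exact normal_of_normal_in_normal P C hPC (Subgroup.relIndex_eq_one.mp h3)

theorem dichotomy : ∀ (n : ℕ) (G : Type u) [Group G] [Finite G] (p : ℕ) [Fact p.Prime] (P : Sylow p G),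
    Nat.card G = n → IsCyclic P → (∀ H : Subgroup G, ¬ p ∣ Nat.card H → IsMulCommutative H) →
    Cfsg.HasNormalPComplement p G ∨ (P : Subgroup G).Normal := by
  intro n
  induction n using Nat.strong_induction_on with
  | _ n ih =>
  intro G _ _ p _ P hcard hc hab
  classical
  have hproper : ∀ H : Subgroup G, H ≠ ⊤ →
      Cfsg.HasNormalPComplement p H ∨ ∀ Q : Sylow p H, (Q : Subgroup H).Normal := by
    intro H hH
    let Q0 : Sylow p H := default
    have hlt : Nat.card H < n := hcard ▸ lt_of_le_of_ne (Subgroup.card_le_card_group H)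
      (fun h => hH (Subgroup.eq_top_of_card_eq H h))
    have hc0 : IsCyclic Q0 := by
      have := cyclic_sylow P hc (Q0.2.map H.subtype)
      exact isCyclic_of_injective ((Q0 : Subgroup H).equivMapOfInjective H.subtype H.subtype_injective).toMonoidHom
        (MulEquiv.injective _)
    have hab' : ∀ K : Subgroup H, ¬ p ∣ Nat.card K → IsMulCommutative K := by
      intro K hK
      have h1 := hab (K.map H.subtype) (by rwa [Subgroup.card_map_of_injective H.subtype_injective])
      exact ⟨⟨fun x y => Subtype.ext (Subtype.ext (congrArg (fun z : K.map H.subtype => (z : G))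
        (h1.is_comm.comm ⟨_, x, x.2, rfl⟩ ⟨_, y, y.2, rfl⟩)))⟩⟩
    rcases ih _ hlt H p Q0 rfl hc0 hab' with h | h
    · exact Or.inl h
    · refine Or.inr fun Q => ?_
      obtain ⟨g, hg⟩ := MulAction.exists_smul_eq H Q0 Q
      have : g • Q0 = Q0 := Sylow.smul_eq_iff_mem_normalizer.mpr (by
        show g ∈ Subgroup.normalizer ((Q0 : Subgroup H) : Set H)
        rw [Subgroup.normalizer_eq_top_iff.mpr h]; trivial)
      rw [← hg, this]; exact h
  by_cases hPn : (P : Subgroup G).Normal
  · exact Or.inr hPn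
  left
  by_contra hnc
  have hmover : ∃ a ∈ Subgroup.normalizer ((P : Subgroup G) : Set G), (orderOf a).Coprime p ∧
      ¬ ∀ x ∈ (P : Subgroup G), a * x = x * a := by
    by_contra hno
    push Not at hno
    apply hnc
    have hle : Subgroup.normalizer ((P : Subgroup G) : Set G) ≤
        Subgroup.centralizer ((P : Subgroup G) : Set G) := by
      intro g hg
      refine mem_of_parts (p := p) _ fun b hb hb' => ?_
      have hbN : b ∈ Subgroup.normalizer ((P : Subgroup G) : Set G) := Subgroup.zpowers_le.mpr hg hb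
      rw [Subgroup.mem_centralizer_iff]
      rcases hb' with h | h
      · intro x hx
        have hbP : b ∈ (P : Subgroup G) := pelem_mem_of_normalizer (hp := ‹_›) hbN h
        have := hc
        exact congrArg Subtype.val
          ((IsMulCommutative.is_comm (M := (P : Subgroup G))).comm ⟨x, hx⟩ ⟨b, hbP⟩)
      · exact fun x hx => (hno b hbN h x hx).symm
    exact ⟨P, _, inferInstance, MonoidHom.ker_transferSylow_isComplement' P hle⟩
  obtain ⟨a, haN, ha, hne⟩ := hmover
  have hPne : (P : Subgroup G) ≠ ⊥ := fun h => hPn (by rw [h]; infer_instance)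
  -- no normal `p`-subgroup
  have hnop : ∀ R : Subgroup G, R.Normal → IsPGroup p R → R = ⊥ := by
    intro R hR hRp
    by_contra hR1
    have hRP : R ≤ (P : Subgroup G) := by
      have h1 := P.3 (P.2.to_sup_of_normal_right hRp) le_sup_left
      exact h1 ▸ le_sup_right
    obtain ⟨k, hk⟩ := IsPGroup.iff_card.mp hRp
    have hk0 : k ≠ 0 := fun h => hR1 (Subgroup.card_eq_one.mp (by rw [hk, h, pow_zero]))
    obtain ⟨z', hz'⟩ := exists_prime_orderOf_dvd_card' (G := R) p (hk ▸ dvd_pow_self p hk0)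
    rw [← Subgroup.orderOf_coe] at hz'
    set Z := Subgroup.zpowers (z' : G) with hZ
    have hZn : Z.Normal := ⟨fun w hw g => by
      have he : Subgroup.zpowers (g * (z' : G) * g⁻¹) = Z := Cfsg.Agent.S4022.cyclic_subgroup_eq
        (cyclic_sylow P hc hRp) (Subgroup.zpowers_le.mpr (hR.conj_mem _ z'.2 g))
        (Subgroup.zpowers_le.mpr z'.2)
        (by rw [Nat.card_zpowers, Nat.card_zpowers]; exact (MulAut.conj g).orderOf_eq (z' : G))
      rw [← he]
      obtain ⟨i, rfl⟩ := Subgroup.mem_zpowers_iff.mp hw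
      rw [← conj_zpow]
      exact zpow_mem (Subgroup.mem_zpowers _) i⟩
    have hPC : (P : Subgroup G) ≤ Subgroup.centralizer (Z : Set G) := by
      intro x hx
      rw [Subgroup.mem_centralizer_iff]
      intro w hw
      have := hc
      exact congrArg Subtype.val ((IsMulCommutative.is_comm (M := (P : Subgroup G))).comm
        ⟨w, (Subgroup.zpowers_le.mpr (hRP z'.2)) hw⟩ ⟨x, hx⟩)
    have haC : a ∉ Subgroup.centralizer (Z : Set G) := fun h => hne
      (comm_of_comm_elt P.2 hc haN ha (hRP z'.2)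
        (fun e => by rw [e, orderOf_one] at hz'; exact (Fact.out : p.Prime).one_lt.ne hz')
        (Subgroup.mem_centralizer_iff.mp h _ (Subgroup.mem_zpowers _)).symm)
    rcases hproper (Subgroup.centralizer (Z : Set G)) (fun h => haC (by rw [h]; exact Subgroup.mem_top a)) with h | h
    · exact hPn (normal_of_split P hc hab _ hPC h haN ha hne)
    · exact hPn (normal_of_normal_in_normal P _ hPC
        ((Subgroup.normal_subgroupOf_iff_le_normalizer hPC).mp (h (P.subtype hPC))))
  -- no normal `p'`-subgroup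
  have hnop' : ∀ M : Subgroup G, M.Normal → (Nat.card M).Coprime p → M = ⊥ := by
    intro M hM hMc
    by_contra hM1
    have hlt : Nat.card (G ⧸ M) < n := by
      have h1 := Subgroup.card_eq_card_quotient_mul_card_subgroup M
      have h2 : 2 ≤ Nat.card M := M.one_lt_card_iff_ne_bot.mpr hM1
      have h3 : 0 < Nat.card (G ⧸ M) := Nat.card_pos
      nlinarith
    set π := QuotientGroup.mk' M
    let P' := P.mapSurjective (QuotientGroup.mk'_surjective M)
    have hc' : IsCyclic P' := by
      have := hc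
      exact isCyclic_of_surjective _ (π.subgroupMap_surjective (P : Subgroup G))
    have hab' : ∀ K : Subgroup (G ⧸ M), ¬ p ∣ Nat.card K → IsMulCommutative K := by
      intro K hK
      have h1 := hab (K.comap π) (by
        rw [CfsgLib.Solvable.card_comap_mk']
        intro h
        rcases (Fact.out : p.Prime).dvd_mul.mp h with h | h
        · exact (Fact.out : p.Prime).coprime_iff_not_dvd.mp hMc.symm h
        · exact hK h)
      refine ⟨⟨fun x y => Subtype.ext ?_⟩⟩
      obtain ⟨u, hu⟩ := QuotientGroup.mk'_surjective M (x : G ⧸ M)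
      obtain ⟨v, hv⟩ := QuotientGroup.mk'_surjective M (y : G ⧸ M)
      have h2 : u * v = v * u := congrArg Subtype.val
        (h1.is_comm.comm ⟨u, by rw [Subgroup.mem_comap]; exact hu ▸ x.2⟩
          ⟨v, by rw [Subgroup.mem_comap]; exact hv ▸ y.2⟩)
      simp only [Subgroup.coe_mul]
      rw [← hu, ← hv, ← map_mul, ← map_mul, h2]
    rcases ih _ hlt (G ⧸ M) p P' rfl hc' hab' with ⟨Q, K, hK, hKQ⟩ | h
    · apply hnc
      obtain ⟨k, hk⟩ := IsPGroup.iff_card.mp Q.2
      have hKc : (Nat.card K).Coprime p := by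
        rw [← hKQ.index_eq_card]
        exact ((Fact.out : p.Prime).coprime_iff_not_dvd.mpr Q.not_dvd_index).symm
      refine hasNPC_of_normal (K.comap π) ?_ (k := k) ?_
      · rw [CfsgLib.Solvable.card_comap_mk']
        exact Nat.Coprime.mul_left hMc hKc
      · rw [Subgroup.index_comap_of_surjective _ (QuotientGroup.mk'_surjective M),
          hKQ.symm.index_eq_card, hk]
    · set C := (P' : Subgroup (G ⧸ M)).comap π with hC
      have hCn : C.Normal := Subgroup.Normal.comap h π
      have hPC : (P : Subgroup G) ≤ C := fun x hx => ⟨x, hx, rfl⟩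
      refine hPn (normal_of_normal_in_normal P C hPC ?_)
      have hcentr := centralizes_core P hc hab M hMc haN ha hne
      have hCeq : C = (P : Subgroup G) ⊔ M := by
        rw [hC]
        show ((P : Subgroup G).map π).comap π = _
        rw [Subgroup.comap_map_eq, QuotientGroup.ker_mk']
      rw [hCeq]
      refine sup_le Subgroup.le_normalizer fun m hm => Subgroup.centralizer_le_normalizer _ ?_
      exact Subgroup.mem_centralizer_iff.mpr fun x hx => hcentr x hx m hm
  -- so the group is simple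
  refine Setup.impossible (P := P) (hp := ‹_›) ⟨?_, hc, hab, hPne, hPn, hproper, a, haN, ha, hne⟩
  intro N hN
  by_contra hcon
  push Not at hcon
  rcases hproper N hcon.2 with ⟨Q, K, hK, hKQ⟩ | h
  · have hKc : (Nat.card K).Coprime p := by
      rw [← hKQ.index_eq_card]
      exact ((Fact.out : p.Prime).coprime_iff_not_dvd.mpr Q.not_dvd_index).symm
    have := CfsgLib.Solvable.pPrimeCore_characteristic p N
    have hb := hnop' _ (CfsgLib.Solvable.normal_map_subtype_of_characteristic N (Cfsg.pPrimeCore p N))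
      (by rw [Subgroup.card_map_of_injective N.subtype_injective]
          exact CfsgLib.Solvable.pPrimeCore_card_coprime p N)
    rw [Subgroup.map_eq_bot_iff_of_injective _ N.subtype_injective] at hb
    have hKb : K = ⊥ := eq_bot_iff.mpr (hb ▸ CfsgLib.Solvable.le_pPrimeCore hK hKc)
    have hQ : (Q : Subgroup N) = ⊤ := by
      have := hKQ
      rw [hKb] at this
      exact Subgroup.isComplement'_bot_left.mp this
    refine hcon.1 (hnop N hN ?_)
    exact IsPGroup.of_equiv (hQ ▸ Q.2 : IsPGroup p (⊤ : Subgroup N)) Subgroup.topEquiv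
  · let Q : Sylow p N := default
    have := Sylow.characteristic_of_normal Q (h Q)
    have hb := hnop _ (CfsgLib.Solvable.normal_map_subtype_of_characteristic N (Q : Subgroup N))
      (Q.2.map N.subtype)
    rw [Subgroup.map_eq_bot_iff_of_injective _ N.subtype_injective] at hb
    refine hcon.1 (hnop' N hN ?_)
    have h1 := Q.not_dvd_index
    rw [hb, Subgroup.index_bot] at h1
    exact ((Fact.out : p.Prime).coprime_iff_not_dvd.mpr h1).symm

/-- Let G be a finite group and p a prime such that a Sylow p-subgroup P of G is cyclic and every subgroup of G of order prime to p is abelian. Then G has a normal p-complement or P is normal in G. -/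
theorem result {G : Type*} [Group G] [Finite G] {p : ℕ}
    [Fact p.Prime] (P : Sylow p G) (hcyc : IsCyclic P)
    (hab : ∀ H : Subgroup G, ¬ p ∣ Nat.card H → IsMulCommutative H) :
    Cfsg.HasNormalPComplement p G ∨ (P : Subgroup G).Normal := by
  exact dichotomy _ G p P rfl hcyc hab

end Cfsg.Agent.S4016
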