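import Cfsg.Statements.S4017
import Mathlib
import Cfsg.Agent.Lib.Char.Burnside
import Cfsg.Agent.Lib.Solvable.Basic
import Cfsg.Agent.Lib.Solvable.Core
import Cfsg.Agent.Lib.Solvable.Hall
import Cfsg.Agent.Lib.Fusion.FrobeniusCriterion
import Cfsg.Agent.S4018

set_option autoImplicit false
open Cfsg

namespace Cfsg.Agent.S4017

universe u

open scoped Pointwise

/-- The parts of an element generate it. -/
theorem mem_of_parts {G : Type*} [Group G] [Finite G] {p : ℕ} [hp : Fact p.Prime] (H : Subgroup G)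
    {g : G} (h : ∀ b ∈ Subgroup.zpowers g, (∃ k : ℕ, b ^ p ^ k = 1) ∨ (orderOf b).Coprime p → b ∈ H) :
    g ∈ H := by
  set k := (orderOf g).factorization p
  set m := orderOf g / p ^ k with hm
  have hkm : p ^ k * m = orderOf g := Nat.ordProj_mul_ordCompl_eq_self _ p
  have hcop : Int.gcd (p ^ k : ℕ) (m : ℕ) = 1 := by
    rw [Int.gcd_natCast_natCast]
    exact Nat.Coprime.pow_left k (Nat.coprime_ordCompl hp.out (orderOf_pos g).ne')
  have h1 := h (g ^ p ^ k) (Subgroup.pow_mem _ (Subgroup.mem_zpowers g) _) (Or.inr (by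
    rw [orderOf_pow_of_dvd (pow_ne_zero _ hp.out.ne_zero) (Nat.ordProj_dvd _ _)]
    exact (Nat.coprime_ordCompl hp.out (orderOf_pos g).ne').symm))
  have h2 := h (g ^ m) (Subgroup.pow_mem _ (Subgroup.mem_zpowers g) _) (Or.inl ⟨k, by
    rw [← pow_mul, mul_comm, hkm, pow_orderOf_eq_one]⟩)
  have he := Int.gcd_eq_gcd_ab (p ^ k : ℕ) (m : ℕ)
  rw [hcop, Nat.cast_one] at he
  rw [← zpow_one g, he, zpow_add, zpow_mul, zpow_mul, zpow_natCast, zpow_natCast]
  exact mul_mem (zpow_mem h1 _) (zpow_mem h2 _)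

/-- A `p`-element normalizing a subgroup `U` of order at most `p + 1` without centralizing it
permutes the nonidentity elements of `U` transitively. -/
theorem orbit_all {G : Type*} [Group G] [Finite G] {p : ℕ} [hp : Fact p.Prime] {U : Subgroup G} {w : G}
    (hwN : w ∈ Subgroup.normalizer (U : Set G)) {k : ℕ} (hwp : w ^ p ^ k = 1) {u : G} (hu : u ∈ U)
    (hne : w * u ≠ u * w) :
    p ≤ Nat.card U - 1 ∧ (Nat.card U - 1 ≤ p →
      ∀ v ∈ U, v ≠ 1 → ∃ g ∈ Subgroup.zpowers w, g * u * g⁻¹ = v) := by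
  classical
  let conjHom : Subgroup.zpowers w →* MulAut G := MulAut.conj.comp (Subgroup.zpowers w).subtype
  letI : MulAction (Subgroup.zpowers w) G := MulAction.compHom _ conjHom
  have hsmul : ∀ (g : Subgroup.zpowers w) (x : G), g • x = (g : G) * x * (g : G)⁻¹ := fun _ _ => rfl
  set O := MulAction.orbit (Subgroup.zpowers w) u with hO
  have hu1 : u ≠ 1 := fun h => hne (by rw [h, mul_one, one_mul])
  have hOd : Nat.card O ∣ p ^ k := by
    refine dvd_trans ?_ (orderOf_dvd_of_pow_eq_one hwp)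
    rw [← Nat.card_zpowers w]
    have h1 := Subgroup.card_mul_index (MulAction.stabilizer (Subgroup.zpowers w) u)
    rw [MulAction.index_stabilizer, ← Nat.card_coe_set_eq] at h1
    exact Dvd.intro_left _ h1
  have hO1 : Nat.card O ≠ 1 := by
    intro h
    rw [Nat.card_eq_one_iff_unique] at h
    have h1 := congrArg Subtype.val (h.1.elim
      (⟨_, ⟨⟨w, Subgroup.mem_zpowers w⟩, rfl⟩⟩ : O) ⟨u, MulAction.mem_orbit_self u⟩)
    exact hne (mul_inv_eq_iff_eq_mul.mp h1)
  have hpO : p ≤ Nat.card O := by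
    obtain ⟨i, -, hi⟩ := (Nat.dvd_prime_pow hp.out).mp hOd
    have hi0 : i ≠ 0 := fun h => hO1 (by rw [hi, h, pow_zero])
    rw [hi]; exact Nat.le_self_pow hi0 p
  let T : Set G := {v | v ∈ U ∧ v ≠ 1}
  have hOT : O ⊆ T := by
    rintro _ ⟨g, rfl⟩
    refine ⟨?_, fun h => hu1 (conj_eq_one_iff.mp ((hsmul g u).symm.trans h))⟩
    show g • u ∈ U
    rw [hsmul]
    exact (Subgroup.mem_normalizer_iff.mp (Subgroup.zpowers_le.mpr hwN g.2) u).mp hu
  have hT : T.ncard = Nat.card U - 1 := by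
    rw [show T = (U : Set G) \ {1} from rfl, Set.ncard_sdiff (by simp [one_mem]),
      Set.ncard_singleton, ← Nat.card_coe_set_eq]
    rfl
  have hle : Nat.card O ≤ T.ncard := by
    rw [Nat.card_coe_set_eq]; exact Set.ncard_le_ncard hOT
  refine ⟨hT ▸ hpO.trans hle, fun h v hv hv1 => ?_⟩
  have heq : O = T := Set.eq_of_subset_of_ncard_le hOT (by
    rw [← Nat.card_coe_set_eq O]; omega)
  have hvO : v ∈ O := heq ▸ ⟨hv, hv1⟩
  obtain ⟨g, hg⟩ := hvO
  exact ⟨(g : G), g.2, hg⟩

variable {G : Type u} [Group G] [Finite G] {p : ℕ}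

theorem sylow_le_centralizer [hp : Fact p.Prime] (hab : ∀ P : Sylow p G, IsMulCommutative P)
    (P : Sylow p G) {x : G} (hx : x ∈ (P : Subgroup G)) :
    (P : Subgroup G) ≤ Subgroup.centralizer ({x} : Set G) := fun v hv =>
  Subgroup.mem_centralizer_singleton_iff.mpr
    (congrArg Subtype.val ((hab P).is_comm.comm ⟨v, hv⟩ ⟨x, hx⟩))

theorem exists_sylow_mem [hp : Fact p.Prime] {x : G} (hx : ∃ k : ℕ, x ^ p ^ k = 1) :
    ∃ P : Sylow p G, x ∈ (P : Subgroup G) := by
  obtain ⟨k, hk⟩ := hx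
  obtain ⟨i, -, hi⟩ := (Nat.dvd_prime_pow hp.out).mp (orderOf_dvd_of_pow_eq_one hk)
  obtain ⟨P, hP⟩ := (IsPGroup.of_card (p := p) ((Nat.card_zpowers x).trans hi)).exists_le_sylow
  exact ⟨P, hP (Subgroup.mem_zpowers x)⟩

theorem pelem_of_mem [hp : Fact p.Prime] {H : Subgroup G} (hH : IsPGroup p H) {x : G} (hx : x ∈ H) :
    ∃ k : ℕ, x ^ p ^ k = 1 := by
  obtain ⟨k, hk⟩ := hH ⟨x, hx⟩
  exact ⟨k, congrArg Subtype.val hk⟩

/-- A `p`-element in the normalizer of a Sylow subgroup lies in it. -/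
theorem pelem_mem_sylow [hp : Fact p.Prime] {P : Sylow p G} {b : G}
    (hb : b ∈ Subgroup.normalizer ((P : Subgroup G) : Set G)) (h : ∃ k : ℕ, b ^ p ^ k = 1) :
    b ∈ (P : Subgroup G) := by
  obtain ⟨k, hk⟩ := h
  obtain ⟨i, -, hi⟩ := (Nat.dvd_prime_pow hp.out).mp (orderOf_dvd_of_pow_eq_one hk)
  have hQ : IsPGroup p (Subgroup.zpowers b) := IsPGroup.of_card ((Nat.card_zpowers b).trans hi)
  have h1 : b ∈ Subgroup.zpowers b ⊓ Subgroup.normalizer ((P : Subgroup G) : Set G) :=
    ⟨Subgroup.mem_zpowers b, hb⟩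
  exact (Subgroup.mem_inf.mp ((le_of_eq (hQ.inf_normalizer_sylow P)) h1)).2

/-- The simple case. -/
structure Setup (G : Type u) [Group G] [Finite G] (p a : ℕ) (Q0 : Sylow 2 G) : Prop where
  simp_ : ∀ N : Subgroup G, N.Normal → N = ⊥ ∨ N = ⊤
  hpodd : p ≠ 2
  hpG : p ∣ Nat.card G
  card : ∀ Q : Sylow 2 G, Nat.card (Q : Subgroup G) = 2 ^ a
  hpa : 2 ^ a = p + 1
  sq : ∀ Q : Sylow 2 G, ∀ v ∈ (Q : Subgroup G), v * v = 1
  comm : ∀ Q : Sylow 2 G, ∀ v ∈ (Q : Subgroup G), ∀ v' ∈ (Q : Subgroup G), v * v' = v' * v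
  hab : ∀ P : Sylow p G, IsMulCommutative P
  he : ∀ H : Subgroup G, H ≠ ⊤ → 2 ∣ Nat.card H → ∀ d : ℕ, d.Prime → d ∣ Nat.card H → d = p ∨ d = 2
  mover : ∀ Q : Sylow 2 G, ∃ w ∈ Subgroup.normalizer ((Q : Subgroup G) : Set G),
    (∃ k : ℕ, w ^ p ^ k = 1) ∧ ∃ u ∈ (Q : Subgroup G), w * u ≠ u * w

variable {a : ℕ} {Q0 : Sylow 2 G} [hp : Fact p.Prime]

theorem Setup.centralizer_ne_top (S : Setup G p a Q0) {x : G} (hx : x ≠ 1) :
    Subgroup.centralizer ({x} : Set G) ≠ ⊤ := by
  intro h
  rcases S.simp_ _ (inferInstance : (Subgroup.center G).Normal) with h1 | h1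
  · refine hx (Subgroup.mem_bot.mp (h1 ▸ ?_))
    exact Subgroup.mem_center_iff.mpr fun g =>
      Subgroup.mem_centralizer_singleton_iff.mp (h ▸ Subgroup.mem_top g)
  · obtain ⟨w, -, -, u, -, hwu⟩ := S.mover Q0
    exact hwu (Subgroup.mem_center_iff.mp (h1 ▸ Subgroup.mem_top u) w)

theorem Setup.pelem_sq (S : Setup G p a Q0) {x : G} (hx : ∃ k : ℕ, x ^ p ^ k = 1) (h2 : x * x = 1) :
    x = 1 := by
  obtain ⟨k, hk⟩ := hx
  have h1 := Nat.dvd_gcd (orderOf_dvd_of_pow_eq_one (show x ^ 2 = 1 by rw [pow_two, h2]))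
    (orderOf_dvd_of_pow_eq_one hk)
  rwa [Nat.Coprime.pow_right k ((Nat.coprime_primes Nat.prime_two hp.out).mpr (Ne.symm S.hpodd)),
    Nat.dvd_one, orderOf_eq_one_iff] at h1

/-- A `p`-element normalizing a Sylow `2`-subgroup and fixing an involution of it centralizes it. -/
theorem Setup.fix_imp (S : Setup G p a Q0) {Q : Sylow 2 G} {w : G}
    (hwN : w ∈ Subgroup.normalizer ((Q : Subgroup G) : Set G)) (hwp : ∃ k : ℕ, w ^ p ^ k = 1)
    {t : G} (ht : t ∈ (Q : Subgroup G)) (ht1 : t ≠ 1) (hwt : w * t = t * w) :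
    ∀ u ∈ (Q : Subgroup G), w * u = u * w := by
  intro u hu
  by_contra hne
  obtain ⟨k, hk⟩ := hwp
  obtain ⟨g, hg, hgt⟩ := (orbit_all hwN hk hu hne).2 (by rw [S.card Q, S.hpa]; omega) t ht ht1
  obtain ⟨i, rfl⟩ := Subgroup.mem_zpowers_iff.mp hg
  have h1 : w ^ i * t = t * w ^ i := (Commute.zpow_left (show Commute w t from hwt) i).eq
  have h2 : u = t := by
    calc u = (w ^ i)⁻¹ * (w ^ i * u * (w ^ i)⁻¹) * w ^ i := by group
      _ = (w ^ i)⁻¹ * (t * w ^ i) := by rw [hgt]; group
      _ = t := by rw [← h1, inv_mul_cancel_left]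
  exact hne (h2 ▸ hwt)

theorem Setup.two_elem_mem (S : Setup G p a Q0) {Q : Sylow 2 G} {b : G}
    (hb : b ∈ Subgroup.normalizer ((Q : Subgroup G) : Set G)) (hb2 : b * b = 1) :
    b ∈ (Q : Subgroup G) := by
  have := Fact.mk Nat.prime_two
  have _ := S.hpodd
  exact pelem_mem_sylow hb ⟨1, by rw [pow_one, pow_two, hb2]⟩

/-- The two types of proper subgroups of even order. -/
theorem Setup.types (S : Setup G p a Q0) {H : Subgroup G} (hH : H ≠ ⊤) (h2 : 2 ∣ Nat.card H) :
    (∃ R : Subgroup G, R ≤ H ∧ IsPGroup p R ∧ (∀ g ∈ H, ∀ x ∈ R, g * x * g⁻¹ ∈ R) ∧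
      (∀ v ∈ H, (∃ k : ℕ, v ^ p ^ k = 1) → v ∈ R) ∧ ∃ i, i ≤ a ∧ Nat.card H = Nat.card R * 2 ^ i) ∨
    ∃ Q : Sylow 2 G, (Q : Subgroup G) ≤ H ∧ H ≤ Subgroup.normalizer ((Q : Subgroup G) : Set G) := by
  classical
  have := Fact.mk Nat.prime_two
  have hsol : Group.IsSolvable H := CfsgLib.Char.isSolvable_of_two_primes p 2 hp.out Nat.prime_two _ H rfl
    fun d hd hdd => S.he H hH h2 d hd hdd
  set U := (Cfsg.pCore 2 H).map H.subtype with hU
  by_cases hmove : ∃ v ∈ H, (∃ k : ℕ, v ^ p ^ k = 1) ∧ ∃ u ∈ U, v * u ≠ u * v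
  · right
    obtain ⟨v, hv, ⟨k, hk⟩, u, hu, hne⟩ := hmove
    have hUN : H ≤ Subgroup.normalizer (U : Set G) := by
      intro g hg
      rw [Subgroup.mem_normalizer_iff_map_conj_eq]
      have hn := CfsgLib.Solvable.pCore_normal (p := 2) H
      refine Subgroup.eq_of_le_of_card_ge ?_ (Subgroup.card_map_of_injective (MulAut.conj g).injective).ge
      rintro _ ⟨_, ⟨x, hx, rfl⟩, rfl⟩
      exact ⟨⟨g, hg⟩ * x * ⟨g, hg⟩⁻¹, hn.conj_mem x hx _, by simp⟩
    obtain ⟨Q, hQ⟩ := ((CfsgLib.Solvable.pCore_isPGroup (p := 2) H).map H.subtype).exists_le_sylow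
    have hle := (orbit_all (hUN hv) hk hu hne).1
    have heq : U = (Q : Subgroup G) := by
      refine Subgroup.eq_of_le_of_card_ge hQ ?_
      rw [S.card Q, S.hpa]
      have := hp.out.two_le
      omega
    exact ⟨Q, heq ▸ Subgroup.map_subtype_le _, heq ▸ hUN⟩
  push Not at hmove
  left
  obtain ⟨P⟩ : Nonempty (Sylow p H) := inferInstance
  have hcore : ∀ Q : Sylow p H, (Q : Subgroup H) ≤ Cfsg.pCore p H := by
    intro Q v hv
    obtain ⟨Q', hQ'⟩ := (Q.2.map H.subtype).exists_le_sylow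
    have hvF : v ∈ Cfsg.fittingSubgroup H := by
      refine CfsgLib.Solvable.centralizer_fittingSubgroup_le (G := H) ?_
      rw [Subgroup.mem_centralizer_iff]
      have hle : Cfsg.fittingSubgroup H ≤ Subgroup.centralizer {v} := by
        rw [CfsgLib.Solvable.fittingSubgroup_eq_iSup_pCore, iSup_le_iff]
        rintro ⟨d, hd⟩ x hx
        obtain ⟨hdp, hdd, -⟩ := Nat.mem_primeFactors.mp hd
        rw [Subgroup.mem_centralizer_singleton_iff]
        rcases S.he H hH h2 d hdp hdd with rfl | rfl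
        · apply Subtype.ext
          show (x : G) * (v : G) = (v : G) * (x : G)
          exact congrArg (fun z : (Q' : Subgroup G) => (z : G)) ((S.hab Q').is_comm.comm
            ⟨(x : G), hQ' ⟨x, CfsgLib.Solvable.pCore_le_sylow Q hx, rfl⟩⟩ ⟨(v : G), hQ' ⟨v, hv, rfl⟩⟩)
        · apply Subtype.ext
          exact (hmove v v.2 (pelem_of_mem (Q.2.map H.subtype) ⟨v, hv, rfl⟩) x ⟨x, hx, rfl⟩).symm
      exact fun x hx => Subgroup.mem_centralizer_singleton_iff.mp (hle hx)
    have hnil := CfsgLib.Solvable.fittingSubgroup_isNilpotent H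
    have hFn := CfsgLib.Solvable.fittingSubgroup_normal H
    set F := Cfsg.fittingSubgroup H
    obtain ⟨k, hk⟩ := Q.2 ⟨v, hv⟩
    have hk' : (⟨v, hvF⟩ : F) ^ p ^ k = 1 :=
      Subtype.ext (congrArg (fun q : (Q : Subgroup H) => (q : H)) hk)
    obtain ⟨T, hT⟩ := exists_sylow_mem (p := p) (x := (⟨v, hvF⟩ : F)) ⟨k, hk'⟩
    have hTn : (T : Subgroup F).Normal :=
      (Group.isNilpotent_of_finite_tfae.out 0 3 rfl rfl).mp hnil p ⟨hp.out⟩ T
    have := Sylow.characteristic_of_normal T hTn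
    exact CfsgLib.Solvable.le_pCore (CfsgLib.Solvable.normal_map_subtype_of_characteristic F (T : Subgroup F))
      (T.2.map F.subtype) ⟨⟨v, hvF⟩, hT, rfl⟩
  have hPeq : (P : Subgroup H) = Cfsg.pCore p H :=
    le_antisymm (hcore P) (CfsgLib.Solvable.pCore_le_sylow P)
  have hn := CfsgLib.Solvable.pCore_normal (p := p) H
  refine ⟨(P : Subgroup H).map H.subtype, Subgroup.map_subtype_le _, P.2.map _, ?_, ?_, ?_⟩
  · rintro g hg _ ⟨x, hx, rfl⟩
    exact ⟨⟨g, hg⟩ * x * ⟨g, hg⟩⁻¹, hPeq ▸ hn.conj_mem x (hPeq ▸ hx) _, by simp⟩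
  · rintro v hv ⟨k, hk⟩
    obtain ⟨Q, hQ⟩ := exists_sylow_mem (p := p) (x := (⟨v, hv⟩ : H)) ⟨k, Subtype.ext hk⟩
    exact ⟨⟨v, hv⟩, hPeq ▸ hcore Q hQ, rfl⟩
  · have hidx : ∀ d : ℕ, d.Prime → d ∣ (P : Subgroup H).index → d = 2 := fun d hd hdd =>
      (S.he H hH h2 d hd (hdd.trans (Subgroup.index_dvd_card _))).resolve_left
        fun e => P.not_dvd_index (e ▸ hdd)
    have hpow := Nat.eq_prime_pow_of_unique_prime_dvd Subgroup.index_ne_zero_of_finite
      (fun {d} hd hdd => hidx d hd hdd)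
    refine ⟨_, ?_, by rw [Subgroup.card_map_of_injective H.subtype_injective, ← hpow, Subgroup.card_mul_index]⟩
    have h3 : 2 ^ (P : Subgroup H).index.primeFactorsList.length ∣ Nat.card G := by
      rw [← hpow]
      exact (Subgroup.index_dvd_card _).trans (Subgroup.card_subgroup_dvd_card H)
    have h4 := (Nat.prime_two.pow_dvd_iff_le_factorization Nat.card_pos.ne').mp h3
    have h5 := (S.card Q0).symm.trans Q0.card_eq_multiplicity
    rw [Nat.pow_right_injective le_rfl h5]
    exact h4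

/-- No nontrivial `p`-element centralizes a Sylow `2`-subgroup. -/
theorem Setup.no_centralizing (S : Setup G p a Q0) (Q : Sylow 2 G) {x : G}
    (hxp : ∃ k : ℕ, x ^ p ^ k = 1) (hxQ : ∀ u ∈ (Q : Subgroup G), x * u = u * x) : x = 1 := by
  classical
  by_contra hx1
  have := Fact.mk Nat.prime_two
  -- centralizers of such elements
  have key : ∀ (Q : Sylow 2 G) (x : G), x ≠ 1 → (∃ k : ℕ, x ^ p ^ k = 1) →
      (∀ u ∈ (Q : Subgroup G), x * u = u * x) →
      Subgroup.centralizer ({x} : Set G) ≤ Subgroup.normalizer ((Q : Subgroup G) : Set G) := by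
    intro Q x hx1 hxp hxQ
    set C := Subgroup.centralizer ({x} : Set G) with hC
    set N := Subgroup.normalizer ((Q : Subgroup G) : Set G) with hN
    have hQC : (Q : Subgroup G) ≤ C := fun u hu =>
      Subgroup.mem_centralizer_singleton_iff.mpr (hxQ u hu).symm
    have hxN : x ∈ N := by
      rw [hN, Subgroup.mem_normalizer_iff]
      intro u
      refine ⟨fun hu => by rw [hxQ u hu, mul_inv_cancel_right]; exact hu, fun hu => ?_⟩
      have h1 := hxQ _ hu
      have e : u = x * u * x⁻¹ := by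
        calc u = x⁻¹ * (x * u * x⁻¹ * x) := by group
          _ = x * u * x⁻¹ := by rw [← h1]; group
      rwa [e]
    obtain ⟨w, hw, ⟨k, hk⟩, u, hu, hwu⟩ := S.mover Q
    obtain ⟨j, hj⟩ := hxp
    obtain ⟨Y, hY⟩ := exists_sylow_mem (p := p) (x := (⟨x, hxN⟩ : N)) ⟨j, Subtype.ext hj⟩
    obtain ⟨Y', hY'⟩ := exists_sylow_mem (p := p) (x := (⟨w, hw⟩ : N)) ⟨k, Subtype.ext hk⟩
    obtain ⟨n, hn⟩ := MulAction.exists_smul_eq N Y' Y
    have hw' : n * (⟨w, hw⟩ : N) * n⁻¹ ∈ (Y : Subgroup N) := by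
      rw [← hn, Sylow.coe_subgroup_smul, Subgroup.mem_pointwise_smul_iff_inv_smul_mem]
      simpa [MulAut.smul_def, mul_assoc] using hY'
    obtain ⟨P, hP⟩ := (Y.2.map N.subtype).exists_le_sylow
    have hwP : (n : G) * w * (n : G)⁻¹ ∈ (P : Subgroup G) := hP ⟨_, hw', rfl⟩
    have hxP : x ∈ (P : Subgroup G) := hP ⟨_, hY, rfl⟩
    have hu' : (n : G) * u * (n : G)⁻¹ ∈ (Q : Subgroup G) :=
      (Subgroup.mem_normalizer_iff.mp n.2 u).mp hu
    rcases S.types (S.centralizer_ne_top hx1)
      ((S.card Q ▸ dvd_pow_self 2 (fun h => by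
        have := S.hpa; rw [h, pow_zero] at this; have := hp.out.pos; omega) : 2 ∣ Nat.card Q).trans
        (Subgroup.card_dvd_of_le hQC)) with ⟨R, hRC, hR, hRn, hRp, -⟩ | ⟨Q', hQ'C, hCN⟩
    · exfalso
      set v := (n : G) * w * (n : G)⁻¹ with hv
      set u' := (n : G) * u * (n : G)⁻¹ with hu'def
      have hvR : v ∈ R := hRp v (sylow_le_centralizer S.hab P hxP hwP) (pelem_of_mem P.2 hwP)
      have h1 : v * u' * v⁻¹ * u'⁻¹ ∈ R := by
        have := mul_mem hvR (hRn u' (hQC hu') _ (inv_mem hvR))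
        simpa [mul_assoc] using this
      have h2 : v * u' * v⁻¹ * u'⁻¹ ∈ (Q : Subgroup G) :=
        mul_mem ((Subgroup.mem_normalizer_iff.mp (mul_mem (mul_mem n.2 hw) (inv_mem n.2)) u').mp hu')
          (inv_mem hu')
      have h3 := S.pelem_sq (pelem_of_mem hR h1) (S.sq Q _ h2)
      rw [mul_inv_eq_one, mul_inv_eq_iff_eq_mul] at h3
      apply hwu
      calc w * u = (n : G)⁻¹ * (v * u') * n := by rw [hv, hu'def]; group
        _ = (n : G)⁻¹ * (u' * v) * n := by rw [h3]
        _ = u * w := by rw [hv, hu'def]; group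
    · have : Q' = Q := by
        refine Sylow.ext (Subgroup.eq_of_le_of_card_ge ?_ (by rw [S.card, S.card])).symm
        intro b hb
        exact S.two_elem_mem (hCN (hQC hb)) (S.sq Q b hb)
      rw [this] at hCN; exact hCN
  have hPN : ∀ (Q : Sylow 2 G) (x : G), x ≠ 1 → (∀ u ∈ (Q : Subgroup G), x * u = u * x) →
      ∀ P : Sylow p G, x ∈ (P : Subgroup G) →
      (P : Subgroup G) ≤ Subgroup.normalizer ((Q : Subgroup G) : Set G) := fun Q x hx1 hxQ P hxP =>
    (sylow_le_centralizer S.hab P hxP).trans (key Q x hx1 (pelem_of_mem P.2 hxP) hxQ)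
  -- transport to every Sylow `2`-subgroup
  have hexx : ∀ Q' : Sylow 2 G, ∃ x' : G, x' ≠ 1 ∧ (∃ k : ℕ, x' ^ p ^ k = 1) ∧
      ∀ u ∈ (Q' : Subgroup G), x' * u = u * x' := by
    intro Q'
    obtain ⟨g, rfl⟩ := MulAction.exists_smul_eq G Q Q'
    obtain ⟨k, hk⟩ := hxp
    refine ⟨g * x * g⁻¹, fun h => hx1 (conj_eq_one_iff.mp h),
      ⟨k, by rw [conj_pow, hk, mul_one, mul_inv_cancel]⟩, fun u hu => ?_⟩
    rw [Sylow.coe_subgroup_smul, Subgroup.mem_pointwise_smul_iff_inv_smul_mem] at hu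
    have h1 : g⁻¹ * u * g ∈ (Q : Subgroup G) := by simpa [MulAut.smul_def] using hu
    calc g * x * g⁻¹ * u = g * (x * (g⁻¹ * u * g)) * g⁻¹ := by group
      _ = g * (g⁻¹ * u * g * x) * g⁻¹ := by rw [hxQ _ h1]
      _ = u * (g * x * g⁻¹) := by group
  -- centralizers of involutions
  have hCt : ∀ (Q : Sylow 2 G) (t : G), t ∈ (Q : Subgroup G) → t ≠ 1 →
      ∀ g : G, g * t = t * g → ∀ u ∈ (Q : Subgroup G), g * u = u * g := by
    intro Q t ht ht1
    obtain ⟨x, hx1, hxp, hxQ⟩ := hexx Q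
    set H := Subgroup.centralizer ({t} : Set G) with hH
    have hQH : (Q : Subgroup G) ≤ H := fun u hu =>
      Subgroup.mem_centralizer_singleton_iff.mpr (S.comm Q u hu t ht)
    have hxH : x ∈ H := Subgroup.mem_centralizer_singleton_iff.mpr (hxQ t ht)
    have h2 : 2 ∣ Nat.card H := (orderOf_eq_prime (p := 2) (by rw [pow_two, S.sq Q t ht]) ht1) ▸
      Subgroup.orderOf_dvd_natCard H (hQH ht)
    have hHN : H ≤ Subgroup.normalizer ((Q : Subgroup G) : Set G) := by
      rcases S.types (S.centralizer_ne_top ht1) h2 with ⟨R, hRH, hR, hRn, hRp, i, hi, hcard⟩ | ⟨Q', hQ'H, hHN⟩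
      · have hxR := hRp x hxH hxp
        obtain ⟨P, hP⟩ := hR.exists_le_sylow
        have hRN : R ≤ Subgroup.normalizer ((Q : Subgroup G) : Set G) :=
          hP.trans (hPN Q x hx1 hxQ P (hP hxR))
        have hnorm : (Q : Subgroup G) ≤ Subgroup.normalizer (R : Set G) := by
          intro b hb
          rw [Subgroup.mem_normalizer_iff_map_conj_eq]
          refine Subgroup.eq_of_le_of_card_ge ?_ (Subgroup.card_map_of_injective (MulAut.conj b).injective).ge
          rintro _ ⟨y, hy, rfl⟩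
          exact hRn b (hQH hb) y hy
        obtain ⟨j, hj⟩ := IsPGroup.iff_card.mp hR
        have hsup : R ⊔ (Q : Subgroup G) = H := by
          refine Subgroup.eq_of_le_of_card_ge (sup_le hRH hQH) ?_
          rw [CfsgLib.Solvable.card_sup_of_disjoint hnorm (Subgroup.disjoint_of_coprime_natCard (by
            rw [hj, S.card Q]
            exact Nat.Coprime.pow _ _ ((Nat.coprime_primes hp.out Nat.prime_two).mpr S.hpodd))),
            S.card Q, hcard]
          exact Nat.mul_le_mul_left _ (Nat.pow_le_pow_right (by norm_num) hi)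
        rw [← hsup]
        exact sup_le hRN Subgroup.le_normalizer
      · have : Q' = Q := by
          refine Sylow.ext (Subgroup.eq_of_le_of_card_ge ?_ (by rw [S.card, S.card])).symm
          intro b hb
          exact S.two_elem_mem (hHN (hQH hb)) (S.sq Q b hb)
        exact this ▸ hHN
    intro g hg u hu
    refine Subgroup.mem_centralizer_singleton_iff.mp (mem_of_parts (p := p) (H := Subgroup.centralizer ({u} : Set G))
      (g := g) fun b hb hb' => ?_)
    have hbH : b ∈ H := Subgroup.zpowers_le.mpr (Subgroup.mem_centralizer_singleton_iff.mpr hg) hb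
    rw [Subgroup.mem_centralizer_singleton_iff]
    rcases hb' with hb' | hb'
    · exact S.fix_imp (hHN hbH) hb' ht ht1 (Subgroup.mem_centralizer_singleton_iff.mp hbH) u hu
    · have hbQ : b ∈ (Q : Subgroup G) := by
        refine pelem_mem_sylow (hHN hbH) ⟨(orderOf b).primeFactorsList.length, ?_⟩
        refine orderOf_dvd_iff_pow_eq_one.mp (dvd_of_eq ?_)
        refine Nat.eq_prime_pow_of_unique_prime_dvd (orderOf_pos b).ne' fun {d} hd hdd => ?_
        refine (S.he H (S.centralizer_ne_top ht1) h2 d hd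
          (hdd.trans (Subgroup.orderOf_dvd_natCard H hbH))).resolve_left fun e => ?_
        exact hp.out.coprime_iff_not_dvd.mp hb'.symm (e ▸ hdd)
      exact S.comm Q b hbQ u hu
  -- two non-commuting involutions
  obtain ⟨t0, ht0⟩ := exists_prime_orderOf_dvd_card' (G := (Q : Subgroup G)) 2
    (S.card Q ▸ dvd_pow_self 2 (fun h => by
      have := S.hpa; rw [h, pow_zero] at this; have := hp.out.pos; omega))
  rw [← Subgroup.orderOf_coe] at ht0
  set t : G := (t0 : G)
  have ht2 : t * t = 1 := by rw [← pow_two, ← ht0, pow_orderOf_eq_one]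
  have ht1 : t ≠ 1 := fun h => by rw [h, orderOf_one] at ht0; omega
  have hti : t⁻¹ = t := inv_eq_of_mul_eq_one_right ht2
  obtain ⟨u, hu2, htu⟩ : ∃ u : G, u * u = 1 ∧ t * u ≠ u * t := by
    by_contra h
    push Not at h
    have hle : Subgroup.normalClosure ({t} : Set G) ≤ Subgroup.centralizer ({t} : Set G) := by
      refine Subgroup.closure_le _ |>.mpr ?_
      intro u hu
      rw [Group.mem_conjugatesOfSet_iff] at hu
      obtain ⟨r', hr', hc⟩ := hu
      rw [Set.mem_singleton_iff] at hr'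
      obtain ⟨g, rfl⟩ := isConj_iff.mp hc
      exact Subgroup.mem_centralizer_singleton_iff.mpr (h _
        (by rw [show g * r' * g⁻¹ * (g * r' * g⁻¹) = g * (r' * r') * g⁻¹ by group, hr', ht2]; group)).symm
    rcases S.simp_ _ Subgroup.normalClosure_normal with h1 | h1
    · exact ht1 (Subgroup.mem_bot.mp (h1 ▸ Subgroup.subset_normalClosure (Set.mem_singleton t)))
    · exact S.centralizer_ne_top ht1 (top_le_iff.mp (h1.ge.trans hle))
  set w := t * u with hw
  have hw1 : w ≠ 1 := fun h => htu (by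
    have e : t = u := by
      calc t = w * u := by rw [hw, mul_assoc, hu2, mul_one]
        _ = u := by rw [h, one_mul]
    rw [hw, e])
  have htw : t * w * t⁻¹ = w⁻¹ := by
    rw [hw, mul_inv_rev, hti, inv_eq_of_mul_eq_one_right hu2, ← mul_assoc, ht2, one_mul]
  have hwp : ∃ k : ℕ, w ^ p ^ k = 1 := by
    refine ⟨(orderOf w).primeFactorsList.length, orderOf_dvd_iff_pow_eq_one.mp (dvd_of_eq ?_)⟩
    refine Nat.eq_prime_pow_of_unique_prime_dvd (orderOf_pos _).ne' fun {d} hd hdo => ?_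
    by_contra hdp
    have hwd : orderOf (w ^ (orderOf w / d)) = d := orderOf_pow_orderOf_div (orderOf_pos _).ne' hdo
    set z := w ^ (orderOf w / d) with hz
    have htz : t * z * t⁻¹ = z⁻¹ := by rw [hz, ← conj_pow, htw, inv_pow]
    have hz1 : z ≠ 1 := fun h => by rw [h, orderOf_one] at hwd; exact hd.one_lt.ne hwd
    by_cases hd2 : d = 2
    · have hz2 : z * z = 1 := by rw [← pow_two, ← hd2, ← hwd, pow_orderOf_eq_one]
      rw [inv_eq_of_mul_eq_one_right hz2] at htz
      have h1 : Commute z t := (mul_inv_eq_iff_eq_mul.mp htz).symm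
      have h2 : Commute z u := by
        have := (h1.inv_right).mul_right (Commute.pow_self w (orderOf w / d))
        rwa [hw, inv_mul_cancel_left] at this
      obtain ⟨T, hT⟩ := exists_sylow_mem (p := 2) (x := z) ⟨1, by rw [pow_one, pow_two, hz2]⟩
      have hmem : ∀ b : G, b * b = 1 → b * z = z * b → b ∈ (T : Subgroup G) := fun b hb hbz => by
        refine S.two_elem_mem ?_ hb
        rw [Subgroup.mem_normalizer_iff]
        intro y
        have hc := hCt T z hT hz1 b hbz
        refine ⟨fun hy => by rw [hc y hy, mul_inv_cancel_right]; exact hy, fun hy => ?_⟩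
        have h1 := hc _ hy
        have e : y = b * y * b⁻¹ := by
          calc y = b⁻¹ * (b * y * b⁻¹ * b) := by group
            _ = b * y * b⁻¹ := by rw [← h1]; group
        rwa [e]
      exact htu (S.comm T t (hmem t ht2 h1.eq.symm) u (hmem u hu2 h2.eq.symm))
    · set H := Subgroup.zpowers z ⊔ Subgroup.zpowers t with hH
      have htN : Subgroup.zpowers t ≤ Subgroup.normalizer ((Subgroup.zpowers z : Subgroup G) : Set G) := by
        rw [Subgroup.zpowers_le, Subgroup.mem_normalizer_iff_map_conj_eq, MonoidHom.map_zpowers]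
        show Subgroup.zpowers (t * z * t⁻¹) = _
        rw [htz, Subgroup.zpowers_inv]
      have hdv := CfsgLib.Solvable.card_sup_dvd htN
      rw [Nat.card_zpowers, Nat.card_zpowers, hwd, orderOf_eq_prime (p := 2) (by rw [pow_two, ht2]) ht1] at hdv
      have hne : H ≠ ⊤ := by
        intro h
        have hd' := S.hpG
        rw [← Subgroup.card_top (G := G), ← h] at hd'
        rcases hp.out.dvd_mul.mp (hd'.trans hdv) with h | h
        · exact hdp ((Nat.prime_dvd_prime_iff_eq hp.out hd).mp h).symm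
        · exact S.hpodd ((Nat.prime_dvd_prime_iff_eq hp.out Nat.prime_two).mp h)
      have h2H : 2 ∣ Nat.card H := (orderOf_eq_prime (p := 2) (by rw [pow_two, ht2]) ht1) ▸
        Subgroup.orderOf_dvd_natCard H (Subgroup.mem_sup_right (Subgroup.mem_zpowers t))
      rcases S.he H hne h2H d hd (hwd ▸ Subgroup.orderOf_dvd_natCard H
        (Subgroup.mem_sup_left (Subgroup.mem_zpowers z))) with h | h
      · exact hdp h
      · exact hd2 h
  -- the Sylow subgroup inverted by `t`
  obtain ⟨P, hwP⟩ := exists_sylow_mem hwp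
  set H := Subgroup.normalizer ((Subgroup.zpowers w : Subgroup G) : Set G) with hH
  have htH : t ∈ H := by
    rw [hH, Subgroup.mem_normalizer_iff_map_conj_eq, MonoidHom.map_zpowers]
    show Subgroup.zpowers (t * w * t⁻¹) = _
    rw [htw, Subgroup.zpowers_inv]
  have hnormtop : ∀ z : G, z ≠ 1 → Subgroup.normalizer ((Subgroup.zpowers z : Subgroup G) : Set G) ≠ ⊤ := by
    intro z hz h
    rcases S.simp_ _ (Subgroup.normalizer_eq_top_iff.mp h) with h1 | h1
    · exact hz (Subgroup.zpowers_eq_bot.mp h1)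
    · obtain ⟨w', -, -, u', -, hwu'⟩ := S.mover Q0
      obtain ⟨i, rfl⟩ := Subgroup.mem_zpowers_iff.mp (h1 ▸ Subgroup.mem_top u')
      obtain ⟨j, rfl⟩ := Subgroup.mem_zpowers_iff.mp (h1 ▸ Subgroup.mem_top w')
      exact hwu' ((Commute.refl z).zpow_zpow j i).eq
  have hcle : ∀ (z : G), Subgroup.centralizer ({z} : Set G) ≤
      Subgroup.normalizer ((Subgroup.zpowers z : Subgroup G) : Set G) := by
    intro z g hg
    rw [Subgroup.mem_normalizer_iff_map_conj_eq, MonoidHom.map_zpowers]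
    show Subgroup.zpowers (g * z * g⁻¹) = _
    rw [Subgroup.mem_centralizer_singleton_iff.mp hg, mul_inv_cancel_right]
  have htord : orderOf t = 2 := orderOf_eq_prime (p := 2) (by rw [pow_two, ht2]) ht1
  have htPN : ∀ v ∈ (P : Subgroup G), t * v * t⁻¹ ∈ (P : Subgroup G) := by
    rcases S.types (hnormtop w hw1) (htord ▸ Subgroup.orderOf_dvd_natCard H htH) with
      ⟨R, -, hR, hRn, hRp, -⟩ | ⟨T, hTH, hHT⟩
    · intro v hv
      have hle : (P : Subgroup G) ≤ R := fun y hy =>
        hRp y ((sylow_le_centralizer S.hab P hwP).trans (hcle w) hy) (pelem_of_mem P.2 hy)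
      have heq : R = (P : Subgroup G) := P.3 hR hle
      exact heq ▸ hRn t htH v (heq ▸ hv)
    · exfalso
      have htT := S.two_elem_mem (hHT htH) ht2
      have hwN : w ∈ H := Subgroup.le_normalizer (Subgroup.mem_zpowers w)
      have h1 : t * w * t⁻¹ * w⁻¹ ∈ (T : Subgroup G) := by
        rw [show t * w * t⁻¹ * w⁻¹ = t * (w * t⁻¹ * w⁻¹) by group]
        exact mul_mem htT ((Subgroup.mem_normalizer_iff.mp (hHT hwN) _).mp (inv_mem htT))
      have h2 := S.sq T _ h1
      rw [htw] at h2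
      obtain ⟨k, hk⟩ := hwp
      have h3 := S.pelem_sq (x := w⁻¹ * w⁻¹) ⟨k, by
        rw [(Commute.refl w⁻¹).mul_pow, inv_pow, hk, inv_one, one_mul]⟩ h2
      exact hw1 (S.pelem_sq ⟨k, hk⟩ (by
        rw [← inv_inv (w * w), mul_inv_rev, h3, inv_one]))
  have hinv : ∀ v ∈ (P : Subgroup G), t * v * t⁻¹ = v⁻¹ := by
    let ψ : (P : Subgroup G) →* (P : Subgroup G) := MonoidHom.mk' (fun v => ⟨t * v * t⁻¹,
      htPN v v.2⟩) fun x y => Subtype.ext (by simp only [Subgroup.coe_mul]; group)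
    have hfp : MonoidHom.FixedPointFree ψ := by
      intro c hc
      by_contra hc1
      have e : t * (c : G) = c * t := mul_inv_eq_iff_eq_mul.mp (congrArg Subtype.val hc)
      obtain ⟨T, hT⟩ := exists_sylow_mem (p := 2) (x := t) ⟨1, by rw [pow_one, pow_two, ht2]⟩
      have hPT := hPN T c (fun h => hc1 (Subtype.ext h)) (hCt T t hT ht1 c e.symm) P c.2
      have h1 : t * w * t⁻¹ * w⁻¹ ∈ (T : Subgroup G) := by
        rw [show t * w * t⁻¹ * w⁻¹ = t * (w * t⁻¹ * w⁻¹) by group]
        exact mul_mem hT ((Subgroup.mem_normalizer_iff.mp (hPT hwP) _).mp (inv_mem hT))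
      have h2 := S.sq T _ h1
      rw [htw] at h2
      obtain ⟨k, hk⟩ := hwp
      have h3 := S.pelem_sq (x := w⁻¹ * w⁻¹) ⟨k, by
        rw [(Commute.refl w⁻¹).mul_pow, inv_pow, hk, inv_one, one_mul]⟩ h2
      exact hw1 (S.pelem_sq ⟨k, hk⟩ (by
        rw [← inv_inv (w * w), mul_inv_rev, h3, inv_one]))
    have hinvol : Function.Involutive ψ := fun v => Subtype.ext (by
      show t * (t * (v : G) * t⁻¹) * t⁻¹ = v
      rw [show t * (t * (v : G) * t⁻¹) * t⁻¹ = (t * t) * v * (t * t)⁻¹ by group, ht2]; group)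
    exact fun v hv => congrArg Subtype.val (congrFun (hfp.coe_eq_inv_of_involutive hinvol) ⟨v, hv⟩)
  -- a conjugate of `x` in `P`
  obtain ⟨P0, hP0⟩ := exists_sylow_mem hxp
  obtain ⟨g, hg⟩ := MulAction.exists_smul_eq G P0 P
  set T := g • Q with hT
  set x' := g * x * g⁻¹ with hx'
  have hx'1 : x' ≠ 1 := fun h => hx1 (conj_eq_one_iff.mp h)
  have hx'P : x' ∈ (P : Subgroup G) := by
    rw [← hg, Sylow.coe_subgroup_smul, Subgroup.mem_pointwise_smul_iff_inv_smul_mem]
    simpa [MulAut.smul_def, hx', mul_assoc] using hP0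
  have hx'T : ∀ u ∈ (T : Subgroup G), x' * u = u * x' := by
    intro u hu
    rw [hT, Sylow.coe_subgroup_smul, Subgroup.mem_pointwise_smul_iff_inv_smul_mem] at hu
    have h1 : g⁻¹ * u * g ∈ (Q : Subgroup G) := by simpa [MulAut.smul_def] using hu
    calc g * x * g⁻¹ * u = g * (x * (g⁻¹ * u * g)) * g⁻¹ := by group
      _ = g * (g⁻¹ * u * g * x) * g⁻¹ := by rw [hxQ _ h1]
      _ = u * (g * x * g⁻¹) := by group
  set H' := Subgroup.normalizer ((Subgroup.zpowers x' : Subgroup G) : Set G) with hH'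
  have htH' : t ∈ H' := by
    rw [hH', Subgroup.mem_normalizer_iff_map_conj_eq, MonoidHom.map_zpowers]
    show Subgroup.zpowers (t * x' * t⁻¹) = _
    rw [hinv x' hx'P, Subgroup.zpowers_inv]
  have hTH' : (T : Subgroup G) ≤ H' := fun b hb =>
    hcle x' (Subgroup.mem_centralizer_singleton_iff.mpr (hx'T b hb).symm)
  have hPT := hPN T x' hx'1 hx'T P hx'P
  rcases S.types (hnormtop x' hx'1) (htord ▸ Subgroup.orderOf_dvd_natCard H' htH') with
    ⟨R, -, hR, hRn, hRp, -⟩ | ⟨T', hT'H, hHT'⟩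
  · have hle : (P : Subgroup G) ≤ R := fun y hy =>
      hRp y ((sylow_le_centralizer S.hab P hx'P).trans (hcle x') hy) (pelem_of_mem P.2 hy)
    have heq : R = (P : Subgroup G) := P.3 hR hle
    obtain ⟨v, hvN, hvp, b, hb, hne⟩ := S.mover T
    set N := Subgroup.normalizer ((T : Subgroup G) : Set G)
    obtain ⟨k, hk⟩ := hvp
    obtain ⟨Y, hY⟩ := exists_sylow_mem (p := p) (x := (⟨v, hvN⟩ : N)) ⟨k, Subtype.ext hk⟩
    let P' : Sylow p N := P.subtype hPT
    obtain ⟨n, hn⟩ := MulAction.exists_smul_eq N Y P'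
    have hv' : n * (⟨v, hvN⟩ : N) * n⁻¹ ∈ (P' : Subgroup N) := by
      rw [← hn, Sylow.coe_subgroup_smul, Subgroup.mem_pointwise_smul_iff_inv_smul_mem]
      simpa [MulAut.smul_def, mul_assoc] using hY
    have hv'' : (n : G) * v * (n : G)⁻¹ ∈ (P : Subgroup G) := hv'
    set v' := (n : G) * v * (n : G)⁻¹ with hv'def
    set b' := (n : G) * b * (n : G)⁻¹ with hb'def
    have hb' : b' ∈ (T : Subgroup G) := (Subgroup.mem_normalizer_iff.mp n.2 b).mp hb
    have h1 : v' * b' * v'⁻¹ * b'⁻¹ ∈ R := by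
      have := mul_mem (heq ▸ hv'' : v' ∈ R) (hRn b' (hTH' hb') _ (inv_mem (heq ▸ hv'' : v' ∈ R)))
      simpa [mul_assoc] using this
    have h2 : v' * b' * v'⁻¹ * b'⁻¹ ∈ (T : Subgroup G) :=
      mul_mem ((Subgroup.mem_normalizer_iff.mp (hPT hv'') b').mp hb') (inv_mem hb')
    have h3 := S.pelem_sq (pelem_of_mem hR h1) (S.sq T _ h2)
    rw [mul_inv_eq_one, mul_inv_eq_iff_eq_mul] at h3
    apply hne
    calc v * b = (n : G)⁻¹ * (v' * b') * n := by rw [hv'def, hb'def]; group
      _ = (n : G)⁻¹ * (b' * v') * n := by rw [h3]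
      _ = b * v := by rw [hv'def, hb'def]; group
  · have hTT : T' = T := by
      refine Sylow.ext (Subgroup.eq_of_le_of_card_ge ?_ (by rw [S.card, S.card])).symm
      intro b hb
      exact S.two_elem_mem (hHT' (hTH' hb)) (S.sq T b hb)
    have htT : t ∈ (T : Subgroup G) := S.two_elem_mem (hTT ▸ hHT' htH') ht2
    have h1 := hinv x' hx'P
    rw [(hx'T t htT).symm, mul_inv_cancel_right] at h1
    exact hx'1 (S.pelem_sq (pelem_of_mem P.2 hx'P) (mul_eq_one_iff_eq_inv.mpr h1))


/-- A `p`-element commuting with an involution lies in a unique Sylow subgroup. -/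
theorem Setup.unique (S : Setup G p a Q0) {w t : G} (hw1 : w ≠ 1) (ht : t * t = 1) (ht1 : t ≠ 1)
    (hwt : w * t = t * w) {P : Sylow p G} (hwP : w ∈ (P : Subgroup G)) :
    (∀ P' : Sylow p G, w ∈ (P' : Subgroup G) → P' = P) ∧
      Subgroup.centralizer ({w} : Set G) ≤ Subgroup.normalizer ((P : Subgroup G) : Set G) := by
  set H := Subgroup.centralizer ({w} : Set G) with hH
  have htH : t ∈ H := Subgroup.mem_centralizer_singleton_iff.mpr hwt.symm
  have h2 : 2 ∣ Nat.card H := (orderOf_eq_prime (p := 2) (by rw [pow_two, ht]) ht1) ▸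
    Subgroup.orderOf_dvd_natCard H htH
  rcases S.types (S.centralizer_ne_top hw1) h2 with ⟨R, hRH, hR, hRn, hRp, -⟩ | ⟨T, hTH, hHT⟩
  · have key : ∀ P' : Sylow p G, w ∈ (P' : Subgroup G) → R = (P' : Subgroup G) := fun P' h =>
      P'.3 hR fun y hy => hRp y (sylow_le_centralizer S.hab P' h hy) (pelem_of_mem P'.2 hy)
    refine ⟨fun P' h => Sylow.ext ((key P' h).symm.trans (key P hwP)), fun g hg => ?_⟩
    rw [← key P hwP, Subgroup.mem_normalizer_iff_map_conj_eq]
    refine Subgroup.eq_of_le_of_card_ge ?_ (Subgroup.card_map_of_injective (MulAut.conj g).injective).ge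
    rintro _ ⟨y, hy, rfl⟩
    exact hRn g hg y hy
  · exfalso
    exact hw1 (S.no_centralizing T (pelem_of_mem P.2 hwP)
      (S.fix_imp (hHT (Subgroup.mem_centralizer_singleton_iff.mpr rfl)) (pelem_of_mem P.2 hwP)
        (S.two_elem_mem (hHT htH) ht) ht1 hwt))

theorem Setup.smul_mem {g x : G} {P : Sylow p G} (hx : x ∈ (P : Subgroup G)) :
    g * x * g⁻¹ ∈ ((g • P : Sylow p G) : Subgroup G) := by
  rw [Sylow.coe_subgroup_smul, Subgroup.mem_pointwise_smul_iff_inv_smul_mem]
  simpa [MulAut.smul_def, mul_assoc] using hx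

/-- Proper subgroups of even order are small. -/
theorem Setup.card_dvd (S : Setup G p a Q0) (P : Sylow p G) {H : Subgroup G} (hH : H ≠ ⊤)
    (h2 : 2 ∣ Nat.card H) : Nat.card H ∣ 2 ^ a * Nat.card P := by
  have := Fact.mk Nat.prime_two
  rw [Nat.dvd_iff_prime_pow_dvd_dvd]
  intro d k hd hdk
  rcases Nat.eq_zero_or_pos k with rfl | hk
  · simp
  have hG := hdk.trans (Subgroup.card_subgroup_dvd_card H)
  rcases S.he H hH h2 d hd ((dvd_pow_self d hk.ne').trans hdk) with rfl | rfl
  · refine dvd_mul_of_dvd_right ?_ _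
    rw [P.card_eq_multiplicity]
    exact pow_dvd_pow _ ((hd.pow_dvd_iff_le_factorization Nat.card_pos.ne').mp hG)
  · refine dvd_mul_of_dvd_left ?_ _
    rw [← S.card Q0, Q0.card_eq_multiplicity]
    exact pow_dvd_pow _ ((hd.pow_dvd_iff_le_factorization Nat.card_pos.ne').mp hG)

/-- Involution centralizers are `2`-groups. -/
theorem Setup.no_pelem (S : Setup G p a Q0) {t w : G} (ht2 : t * t = 1) (ht1 : t ≠ 1)
    (hwp : ∃ k : ℕ, w ^ p ^ k = 1) (hwt : w * t = t * w) : w = 1 := by
  classical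
  by_contra hw1
  have := Fact.mk Nat.prime_two
  obtain ⟨P, hwP⟩ := exists_sylow_mem hwp
  obtain ⟨Q, htQ⟩ := exists_sylow_mem (p := 2) (x := t) ⟨1, by rw [pow_one, pow_two, ht2]⟩
  -- the `p`-elements of `C(t)`
  have hCt : ∀ (r c : G) (P' : Sylow p G), r * r = 1 → r ≠ 1 → c ≠ 1 → c * r = r * c →
      c ∈ (P' : Subgroup G) → ∀ v : G, (∃ k : ℕ, v ^ p ^ k = 1) → v * r = r * v →
      v ∈ (P' : Subgroup G) := by
    intro r c P' hr hr1 hc1 hcr hcP v hvp hvr
    set H := Subgroup.centralizer ({r} : Set G) with hH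
    have hrH : r ∈ H := Subgroup.mem_centralizer_singleton_iff.mpr rfl
    have h2 : 2 ∣ Nat.card H := (orderOf_eq_prime (p := 2) (by rw [pow_two, hr]) hr1) ▸
      Subgroup.orderOf_dvd_natCard H hrH
    have hcH : c ∈ H := Subgroup.mem_centralizer_singleton_iff.mpr hcr
    rcases S.types (S.centralizer_ne_top hr1) h2 with ⟨R, -, hR, -, hRp, -⟩ | ⟨T, -, hHT⟩
    · have hcR := hRp c hcH (pelem_of_mem P'.2 hcP)
      have hvR := hRp v (Subgroup.mem_centralizer_singleton_iff.mpr hvr) hvp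
      obtain ⟨P'', hP''⟩ := hR.exists_le_sylow
      rw [← (S.unique hc1 hr hr1 hcr hcP).1 P'' (hP'' hcR)]
      exact hP'' hvR
    · exact absurd (S.no_centralizing T (pelem_of_mem P'.2 hcP)
        (S.fix_imp (hHT hcH) (pelem_of_mem P'.2 hcP) (S.two_elem_mem (hHT hrH) hr) hr1 hcr)) hc1
  have hconjw : ∀ g : G, ∀ r : G, g * t * g⁻¹ = r → g * w * g⁻¹ * r = r * (g * w * g⁻¹) := by
    intro g r hr
    rw [← hr, show g * w * g⁻¹ * (g * t * g⁻¹) = g * (w * t) * g⁻¹ by group, hwt]; group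
  have hsm : ∀ g : G, g * t * g⁻¹ = t → g ∈ Subgroup.normalizer ((P : Subgroup G) : Set G) := by
    intro g hg
    obtain ⟨k, hk⟩ := hwp
    have hc := hconjw g t hg
    have hne : g * w * g⁻¹ ≠ 1 := fun h => hw1 (conj_eq_one_iff.mp h)
    have hmem := hCt t w P ht2 ht1 hw1 hwt hwP (g * w * g⁻¹)
      ⟨k, by rw [conj_pow, hk, mul_one, mul_inv_cancel]⟩ hc
    exact Sylow.smul_eq_iff_mem_normalizer.mp
      ((S.unique hne ht2 ht1 hc hmem).1 _ (Setup.smul_mem hwP))
  have hQN : (Q : Subgroup G) ≤ Subgroup.normalizer ((P : Subgroup G) : Set G) := fun b hb =>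
    hsm b (by rw [S.comm Q b hb t htQ, mul_inv_cancel_right])
  have hQP : ∀ v ∈ (Q : Subgroup G), v ≠ 1 → v ≠ t → ∀ c ∈ (P : Subgroup G), v * c * v⁻¹ = c⁻¹ := by
    intro v hv hv1 hvt
    let ψ : (P : Subgroup G) →* (P : Subgroup G) := MonoidHom.mk' (fun x => ⟨v * x * v⁻¹,
      (Subgroup.mem_normalizer_iff.mp (hQN hv) x).mp x.2⟩) fun x y => Subtype.ext (by
        simp only [Subgroup.coe_mul]; group)
    have hfp : MonoidHom.FixedPointFree ψ := by
      intro c hc
      by_contra hc1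
      have e : (c : G) * v = v * c := (mul_inv_eq_iff_eq_mul.mp (congrArg Subtype.val hc)).symm
      obtain ⟨m, hm, ⟨k, hk⟩, u, hu, hmu⟩ := S.mover Q
      have horb := (orbit_all hm hk hu hmu).2 (by rw [S.card Q, S.hpa]; omega)
      obtain ⟨g1, hg1, hg1t⟩ := horb t htQ ht1
      obtain ⟨g2, hg2, hg2v⟩ := horb v hv hv1
      set y := g2 * g1⁻¹ with hy
      have hyz : y ∈ Subgroup.zpowers m := mul_mem hg2 (inv_mem hg1)
      have hyt : y * t * y⁻¹ = v := by rw [hy, ← hg1t, ← hg2v]; group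
      have hyp : ∃ k : ℕ, y ^ p ^ k = 1 := by
        refine ⟨k, orderOf_dvd_iff_pow_eq_one.mp ?_⟩
        exact (orderOf_dvd_of_mem_zpowers hyz).trans (orderOf_dvd_of_pow_eq_one hk)
      have hcw := hconjw y v hyt
      obtain ⟨j, hj⟩ := hwp
      have hne : y * w * y⁻¹ ≠ 1 := fun h => hw1 (conj_eq_one_iff.mp h)
      have hv2 := S.sq Q v hv
      have hmem := hCt v c P hv2 hv1 (fun h => hc1 (Subtype.ext h)) e c.2 (y * w * y⁻¹)
        ⟨j, by rw [conj_pow, hj, mul_one, mul_inv_cancel]⟩ hcw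
      have hyP := pelem_mem_sylow (Sylow.smul_eq_iff_mem_normalizer.mp
        ((S.unique hne hv2 hv1 hcw hmem).1 _ (Setup.smul_mem hwP))) hyp
      have h1 : y * t * y⁻¹ * t⁻¹ ∈ (P : Subgroup G) := by
        rw [show y * t * y⁻¹ * t⁻¹ = y * (t * y⁻¹ * t⁻¹) by group]
        exact mul_mem hyP ((Subgroup.mem_normalizer_iff.mp (hQN htQ) _).mp (inv_mem hyP))
      rw [hyt] at h1
      have h3 := S.pelem_sq (pelem_of_mem P.2 h1) (S.sq Q _ (mul_mem hv (inv_mem htQ)))
      exact hvt (mul_inv_eq_one.mp h3)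
    have hinv : Function.Involutive ψ := fun x => Subtype.ext (by
      show v * (v * (x : G) * v⁻¹) * v⁻¹ = x
      rw [show v * (v * (x : G) * v⁻¹) * v⁻¹ = (v * v) * x * (v * v)⁻¹ by group, S.sq Q v hv]; group)
    exact fun c hc => congrArg Subtype.val (congrFun (hfp.coe_eq_inv_of_involutive hinv) ⟨c, hc⟩)
  have hne2 : w * w ≠ 1 := fun h => hw1 (S.pelem_sq hwp h)
  have hmul : ∀ u v : G, u ∈ (Q : Subgroup G) → v ∈ (Q : Subgroup G) → u ≠ 1 → u ≠ t → v ≠ 1 →
      v ≠ t → ∀ c ∈ (P : Subgroup G), u * v * c * (u * v)⁻¹ = c := by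
    intro u v hu hv hu1 hut hv1 hvt c hc
    rw [show u * v * c * (u * v)⁻¹ = u * (v * c * v⁻¹) * u⁻¹ by group, hQP v hv hv1 hvt c hc,
      hQP u hu hu1 hut _ (inv_mem hc), inv_inv]
  have := Fintype.ofFinite (Q : Subgroup G)
  have hQcard : Fintype.card (Q : Subgroup G) = 2 ^ a := by rw [← Nat.card_eq_fintype_card, S.card Q]
  have h4 : 4 ≤ 2 ^ a := by
    rw [S.hpa]; have := hp.out.two_le; have := S.hpodd; omega
  obtain ⟨⟨u, huQ⟩, hu⟩ : ∃ u : (Q : Subgroup G), u ∉ ({1, ⟨t, htQ⟩} : Finset (Q : Subgroup G)) := by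
    by_contra h
    push Not at h
    have h1 := Finset.card_le_card (fun x (_ : x ∈ Finset.univ) => h x)
    rw [Finset.card_univ, hQcard] at h1
    have h2 := h1.trans Finset.card_le_two
    omega
  simp only [Finset.mem_insert, Finset.mem_singleton, not_or, Subtype.ext_iff, Subgroup.coe_one] at hu
  obtain ⟨hu1, hut⟩ := hu
  have hu2 := S.sq Q u huQ
  have hutQ : u * t ∈ (Q : Subgroup G) := mul_mem huQ htQ
  have hut1 : u * t ≠ 1 := fun h => hut (by
    rw [eq_inv_of_mul_eq_one_left h, inv_eq_of_mul_eq_one_right ht2])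
  have hutt : u * t ≠ t := fun h => hu1 (mul_eq_right.mp h)
  have ha2 : a = 2 := by
    by_contra ha2
    have h8 : 8 ≤ 2 ^ a := by
      have : 2 ≤ a := (Nat.pow_le_pow_iff_right (le_refl 2)).mp (by simpa using h4)
      calc 8 = 2 ^ 3 := by norm_num
        _ ≤ 2 ^ a := Nat.pow_le_pow_right (by norm_num) (by omega)
    obtain ⟨⟨v, hvQ⟩, hv⟩ : ∃ v : (Q : Subgroup G), v ∉ ({1, ⟨t, htQ⟩, ⟨u, huQ⟩, ⟨u * t, hutQ⟩} :
        Finset (Q : Subgroup G)) := by
      by_contra h
      push Not at h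
      have h1 := Finset.card_le_card (fun x (_ : x ∈ Finset.univ) => h x)
      rw [Finset.card_univ, hQcard] at h1
      have h2 := h1.trans Finset.card_le_four
      omega
    simp only [Finset.mem_insert, Finset.mem_singleton, not_or, Subtype.ext_iff, Subgroup.coe_one] at hv
    obtain ⟨hv1, hvt, hvu, hvut⟩ := hv
    have huv1 : u * v ≠ 1 := fun h => hvu (by
      rw [eq_inv_of_mul_eq_one_right h, inv_eq_of_mul_eq_one_right hu2])
    have huvt : u * v ≠ t := fun h => hvut (by
      rw [← h, ← mul_assoc, hu2, one_mul])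
    have h1 := hmul u v huQ hvQ hu1 hut hv1 hvt w hwP
    rw [hQP _ (mul_mem huQ hvQ) huv1 huvt w hwP] at h1
    exact hne2 (mul_eq_one_iff_eq_inv.mpr h1.symm)
  subst ha2
  have hp3 : p = 3 := by have := S.hpa; omega
  subst hp3
  have htP : ∀ c ∈ (P : Subgroup G), t * c = c * t := by
    intro c hc
    have h1 := hmul u (u * t) huQ hutQ hu1 hut hut1 hutt c hc
    rw [← mul_assoc u u t, hu2, one_mul] at h1
    exact mul_inv_eq_iff_eq_mul.mp h1
  set C := Subgroup.centralizer ((P : Subgroup G) : Set G) with hC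
  set N := Subgroup.normalizer ((P : Subgroup G) : Set G) with hN
  have htC : t ∈ C := Subgroup.mem_centralizer_iff.mpr fun c hc => (htP c hc).symm
  have hPC : (P : Subgroup G) ≤ C := fun c hc => Subgroup.mem_centralizer_iff.mpr fun d hd =>
    congrArg Subtype.val ((S.hab P).is_comm.comm ⟨d, hd⟩ ⟨c, hc⟩)
  have hCN : C ≤ N := Subgroup.centralizer_le_normalizer _
  have hNne : N ≠ ⊤ := by
    intro h
    rcases S.simp_ _ (Subgroup.normalizer_eq_top_iff.mp h) with h1 | h1
    · rw [h1, Subgroup.mem_bot] at hwP; exact hw1 hwP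
    · exact ht1 (S.pelem_sq (pelem_of_mem P.2 (h1 ▸ Subgroup.mem_top t)) ht2)
  have htord : orderOf t = 2 := orderOf_eq_prime (p := 2) (by rw [pow_two, ht2]) ht1
  obtain ⟨j, hj⟩ := IsPGroup.iff_card.mp P.2
  have hcop : Nat.Coprime (2 ^ 2) (Nat.card P) := by
    rw [hj]; exact Nat.Coprime.pow_right j (by norm_num)
  have hNcard : Nat.card N = 4 * Nat.card P := by
    refine Nat.dvd_antisymm (S.card_dvd P hNne (htord ▸ Subgroup.orderOf_dvd_natCard N (hCN htC))) ?_
    refine Nat.Coprime.mul_dvd_of_dvd_of_dvd hcop ?_ (Subgroup.card_dvd_of_le Subgroup.le_normalizer)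
    exact (S.card Q ▸ Subgroup.card_dvd_of_le hQN : 2 ^ 2 ∣ Nat.card N)
  have huC : u ∉ C := fun h => by
    have h1 := hQP u huQ hu1 hut w hwP
    rw [← Subgroup.mem_centralizer_iff.mp h w hwP, mul_inv_cancel_right] at h1
    exact hne2 (mul_eq_one_iff_eq_inv.mpr h1)
  have hCcard : Nat.card C = 2 * Nat.card P := by
    have h1 : 2 * Nat.card P ∣ Nat.card C :=
      Nat.Coprime.mul_dvd_of_dvd_of_dvd (hcop.coprime_dvd_left (by norm_num))
        (htord ▸ Subgroup.orderOf_dvd_natCard C htC) (Subgroup.card_dvd_of_le hPC)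
    obtain ⟨i, hi⟩ := h1
    have h2 : Nat.card C ∣ 4 * Nat.card P := hNcard ▸ Subgroup.card_dvd_of_le hCN
    rw [hi, show 4 * Nat.card P = 2 * Nat.card P * 2 by ring] at h2
    have h3 := Nat.dvd_of_mul_dvd_mul_left (by have := Nat.card_pos (α := P); omega) h2
    rcases (Nat.dvd_prime Nat.prime_two).mp h3 with h4 | h4
    · rw [hi, h4, mul_one]
    · exfalso
      refine huC ?_
      have : C = N := Subgroup.eq_of_le_of_card_ge hCN (by rw [hi, h4, hNcard]; omega)
      rw [this]; exact hQN huQ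
  have hidx : ((P : Subgroup G).subgroupOf C).index = 2 := by
    have h1 := Subgroup.card_mul_index ((P : Subgroup G).subgroupOf C)
    rw [Nat.card_congr (Subgroup.subgroupOfEquivOfLe hPC).toEquiv, hCcard, mul_comm 2] at h1
    exact Nat.eq_of_mul_eq_mul_left Nat.card_pos h1
  have hTI : Cfsg.IsTISubset (C : Set G) := by
    intro g hg c hc hgc
    by_contra hc1
    have hgN : g ∈ N → False := by
      intro hgN
      apply hg
      rw [Subgroup.mem_normalizer_iff]
      intro y
      have hmove : ∀ h ∈ N, ∀ y ∈ C, h * y * h⁻¹ ∈ C := by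
        intro h hh y hy
        rw [hC, Subgroup.mem_centralizer_iff]
        intro v hv
        have h1 : h⁻¹ * v * h ∈ (P : Subgroup G) := by
          have := (Subgroup.mem_normalizer_iff.mp (inv_mem hh) v).mp hv
          rwa [inv_inv] at this
        have h2 := Subgroup.mem_centralizer_iff.mp hy _ h1
        calc v * (h * y * h⁻¹) = h * (h⁻¹ * v * h * y) * h⁻¹ := by group
          _ = h * (y * (h⁻¹ * v * h)) * h⁻¹ := by rw [h2]
          _ = h * y * h⁻¹ * v := by group
      refine ⟨hmove g hgN y, fun hy => ?_⟩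
      have := hmove g⁻¹ (inv_mem hgN) _ hy
      simpa [mul_assoc] using this
    have hsq : ∀ d ∈ C, d * d ∈ (P : Subgroup G) := fun d hd =>
      Subgroup.mem_subgroupOf.mp (show (⟨d, hd⟩ : C) * ⟨d, hd⟩ ∈ (P : Subgroup G).subgroupOf C from
        Subgroup.mul_self_mem_of_index_two hidx _)
    by_cases hcc : c * c = 1
    · have key : ∀ d ∈ C, d * d = 1 → d ≠ 1 → d = t := by
        intro d hd hd2 hd1
        have hdP : d ∉ (P : Subgroup G) := fun h => hd1 (S.pelem_sq (pelem_of_mem P.2 h) hd2)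
        have htP' : t ∉ (P : Subgroup G) := fun h => ht1 (S.pelem_sq (pelem_of_mem P.2 h) ht2)
        have h1 : d * t ∈ (P : Subgroup G) :=
          Subgroup.mem_subgroupOf.mp ((Subgroup.mul_mem_iff_of_index_two hidx (a := ⟨d, hd⟩) (b := ⟨t, htC⟩)).mpr
            (iff_of_false (by simpa [Subgroup.mem_subgroupOf] using hdP)
              (by simpa [Subgroup.mem_subgroupOf] using htP')))
        have h2 := htP _ h1
        have hdt : d * t = t * d := by
          calc d * t = t * (t * (d * t)) := by rw [← mul_assoc, ht2, one_mul]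
            _ = t * (d * t * t) := by rw [h2]
            _ = t * d := by rw [mul_assoc d t t, ht2, mul_one]
        have h3 := S.pelem_sq (pelem_of_mem P.2 h1) (by
          rw [show d * t * (d * t) = d * (t * d) * t by group, ← hdt,
            show d * (d * t) * t = (d * d) * (t * t) by group, hd2, ht2, mul_one])
        rw [eq_inv_of_mul_eq_one_left h3, inv_eq_of_mul_eq_one_right ht2]
      have hct := key c hc hcc hc1
      refine hgN (hsm g ?_)
      subst hct
      exact key _ hgc (by rw [show g * c * g⁻¹ * (g * c * g⁻¹) = g * (c * c) * g⁻¹ by group, hcc]; group)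
        (fun h => hc1 (conj_eq_one_iff.mp h))
    · refine hgN (Sylow.smul_eq_iff_mem_normalizer.mp ?_)
      have h1 := hsq _ hgc
      rw [show g * c * g⁻¹ * (g * c * g⁻¹) = g * (c * c) * g⁻¹ by group] at h1
      exact (S.unique (fun h => hcc (conj_eq_one_iff.mp h)) ht2 ht1 (htP _ h1).symm h1).1 _
        (Setup.smul_mem (hsq c hc))
  refine Cfsg.Agent.S4018.not_simple_aux P (S.hab P) hNcard hCcard hTI (fun H hH h2 => ?_) ?_
  · have := S.card_dvd P hH h2
    exact this
  · have : Nontrivial G := ⟨⟨t, 1, ht1⟩⟩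
    exact ⟨S.simp_⟩

theorem Setup.impossible (S : Setup G p a Q0) : False := by
  classical
  have := Fact.mk Nat.prime_two
  set Q := Q0
  have ha0 : a ≠ 0 := fun h => by
    have := S.hpa; rw [h, pow_zero] at this; have := hp.out.pos; omega
  obtain ⟨t0, ht0⟩ := exists_prime_orderOf_dvd_card' (G := (Q : Subgroup G)) 2
    (S.card Q ▸ dvd_pow_self 2 ha0)
  rw [← Subgroup.orderOf_coe] at ht0
  set t : G := (t0 : G)
  have htQ : t ∈ (Q : Subgroup G) := t0.2
  have ht2 : t * t = 1 := by rw [← pow_two, ← ht0, pow_orderOf_eq_one]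
  have ht1 : t ≠ 1 := fun h => by rw [h, orderOf_one] at ht0; omega
  have hti : t⁻¹ = t := inv_eq_of_mul_eq_one_right ht2
  -- centralizers of involutions
  have hcent : ∀ (r : G), r * r = 1 → r ≠ 1 → ∀ T : Sylow 2 G, r ∈ (T : Subgroup G) →
      Subgroup.centralizer ({r} : Set G) = (T : Subgroup G) := by
    intro r hr hr1 T hrT
    set H := Subgroup.centralizer ({r} : Set G) with hH
    have h2 : 2 ∣ Nat.card H := (orderOf_eq_prime (p := 2) (by rw [pow_two, hr]) hr1) ▸
      Subgroup.orderOf_dvd_natCard H (Subgroup.mem_centralizer_singleton_iff.mpr rfl)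
    have hTH : (T : Subgroup G) ≤ H := fun b hb =>
      Subgroup.mem_centralizer_singleton_iff.mpr (S.comm T b hb r hrT)
    refine T.3 (IsPGroup.of_card (n := (Nat.card H).primeFactorsList.length) ?_) hTH
    refine Nat.eq_prime_pow_of_unique_prime_dvd Nat.card_pos.ne' fun {d} hd hdd => ?_
    refine (S.he H (S.centralizer_ne_top hr1) h2 d hd hdd).resolve_left fun e => ?_
    subst e
    obtain ⟨v, hv⟩ := exists_prime_orderOf_dvd_card' (G := H) d hdd
    rw [← Subgroup.orderOf_coe] at hv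
    have := S.no_pelem hr hr1 (w := (v : G)) ⟨1, by rw [pow_one, ← hv, pow_orderOf_eq_one]⟩
      (Subgroup.mem_centralizer_singleton_iff.mp v.2)
    rw [this, orderOf_one] at hv
    exact hd.one_lt.ne hv
  have hdih : ∀ r u : G, r * r = 1 → u * u = 1 → r * u ≠ u * r →
      (∃ k : ℕ, (r * u) ^ p ^ k = 1) ∧ r * u ≠ 1 ∧ r * (r * u) * r⁻¹ = (r * u)⁻¹ ∧
      ∀ j : ℕ, (r * u) ^ (2 * j + 1) = 1 → (r * u) ^ j * r * ((r * u) ^ j)⁻¹ = u := by
    intro r u hr hu hru
    have hri : r⁻¹ = r := inv_eq_of_mul_eq_one_right hr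
    have hui : u⁻¹ = u := inv_eq_of_mul_eq_one_right hu
    have hrw : r * (r * u) * r⁻¹ = (r * u)⁻¹ := by
      rw [mul_inv_rev, hri, hui, ← mul_assoc, hr, one_mul]
    have hw1 : r * u ≠ 1 := fun h => hru (by rw [eq_inv_of_mul_eq_one_left h, hui])
    have hr1 : r ≠ 1 := fun h => hru (by rw [h, one_mul, mul_one])
    refine ⟨?_, hw1, hrw, ?_⟩
    · refine ⟨(orderOf (r * u)).primeFactorsList.length, orderOf_dvd_iff_pow_eq_one.mp (dvd_of_eq ?_)⟩
      refine Nat.eq_prime_pow_of_unique_prime_dvd (orderOf_pos _).ne' fun {d} hd hdo => ?_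
      by_contra hdp
      have hwd : orderOf ((r * u) ^ (orderOf (r * u) / d)) = d :=
        orderOf_pow_orderOf_div (orderOf_pos _).ne' hdo
      set z := (r * u) ^ (orderOf (r * u) / d) with hz
      have hrz : r * z * r⁻¹ = z⁻¹ := by rw [hz, ← conj_pow, hrw, inv_pow]
      have hz1 : z ≠ 1 := fun h => by rw [h, orderOf_one] at hwd; exact hd.one_lt.ne hwd
      by_cases hd2 : d = 2
      · have hz2 : z * z = 1 := by rw [← pow_two, ← hd2, ← hwd, pow_orderOf_eq_one]
        rw [inv_eq_of_mul_eq_one_right hz2] at hrz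
        have h1 : Commute z r := (mul_inv_eq_iff_eq_mul.mp hrz).symm
        have h2 : Commute z u := by
          have := (h1.inv_right).mul_right (Commute.pow_self (r * u) (orderOf (r * u) / d))
          rwa [inv_mul_cancel_left] at this
        obtain ⟨T, hT⟩ := exists_sylow_mem (p := 2) (x := z) ⟨1, by rw [pow_one, pow_two, hz2]⟩
        have hC := hcent z hz2 hz1 T hT
        exact hru (S.comm T r (hC ▸ Subgroup.mem_centralizer_singleton_iff.mpr h1.eq.symm) u
          (hC ▸ Subgroup.mem_centralizer_singleton_iff.mpr h2.eq.symm))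
      · set H := Subgroup.zpowers z ⊔ Subgroup.zpowers r with hH
        have hrN : Subgroup.zpowers r ≤ Subgroup.normalizer ((Subgroup.zpowers z : Subgroup G) : Set G) := by
          rw [Subgroup.zpowers_le, Subgroup.mem_normalizer_iff_map_conj_eq, MonoidHom.map_zpowers]
          show Subgroup.zpowers (r * z * r⁻¹) = _
          rw [hrz, Subgroup.zpowers_inv]
        have hdv := CfsgLib.Solvable.card_sup_dvd hrN
        have hro : orderOf r = 2 := orderOf_eq_prime (p := 2) (by rw [pow_two, hr]) hr1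
        rw [Nat.card_zpowers, Nat.card_zpowers, hwd, hro] at hdv
        have hne : H ≠ ⊤ := by
          intro h
          have hd' := S.hpG
          rw [← Subgroup.card_top (G := G), ← h] at hd'
          rcases hp.out.dvd_mul.mp (hd'.trans hdv) with h | h
          · exact hdp ((Nat.prime_dvd_prime_iff_eq hp.out hd).mp h).symm
          · exact S.hpodd ((Nat.prime_dvd_prime_iff_eq hp.out Nat.prime_two).mp h)
        have h2H : 2 ∣ Nat.card H :=
          hro ▸ Subgroup.orderOf_dvd_natCard H (Subgroup.mem_sup_right (Subgroup.mem_zpowers r))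
        rcases S.he H hne h2H d hd (hwd ▸ Subgroup.orderOf_dvd_natCard H
          (Subgroup.mem_sup_left (Subgroup.mem_zpowers z))) with h | h
        · exact hdp h
        · exact hd2 h
    · intro j hj
      set W := r * u with hW
      have h1 : r * (W ^ j)⁻¹ = W ^ j * r := by
        have e : r * W ^ j * r⁻¹ = (W ^ j)⁻¹ := by rw [← conj_pow, hrw, inv_pow]
        rw [← e]
        calc r * (r * W ^ j * r⁻¹) = (r * r) * W ^ j * r⁻¹ := by group
          _ = W ^ j * r := by rw [hr, one_mul, hri]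
      rw [mul_assoc, h1, ← mul_assoc, ← pow_add]
      have h2 : W ^ (j + j) = W⁻¹ := by
        refine eq_inv_of_mul_eq_one_left ?_
        rw [← pow_succ, show j + j + 1 = 2 * j + 1 by ring, hj]
      rw [h2, hW, mul_inv_rev, hri, hui, mul_assoc, hr, mul_one]
  have hconj1 : ∀ r u : G, r * r = 1 → u * u = 1 → r * u ≠ u * r →
      ∃ g ∈ Subgroup.zpowers (r * u), g * r * g⁻¹ = u := by
    intro r u hr hu hru
    obtain ⟨⟨k, hk⟩, -, -, h⟩ := hdih r u hr hu hru
    obtain ⟨j, hj⟩ := ((hp.out.eq_two_or_odd'.resolve_left S.hpodd).pow : Odd (p ^ k))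
    exact ⟨_, Subgroup.pow_mem _ (Subgroup.mem_zpowers _) j, h j (hj ▸ hk)⟩
  set C := Subgroup.centralizer ({t} : Set G) with hC
  have hCQ0 : C = (Q : Subgroup G) := hcent t ht2 ht1 Q htQ
  have hCcard : Nat.card C = 2 ^ a := by rw [hCQ0, S.card Q]
  obtain ⟨m, hm, ⟨km, hkm⟩, um, hum, hmu⟩ := S.mover Q
  have horb := (orbit_all hm hkm hum hmu).2 (by rw [S.card Q, S.hpa]; omega)
  have hallconj : ∀ u : G, u ≠ 1 → u * u = 1 → ∃ g : G, g * t * g⁻¹ = u := by
    intro u hu1 hu2
    obtain ⟨T, hT⟩ := exists_sylow_mem (p := 2) (x := u) ⟨1, by rw [pow_one, pow_two, hu2]⟩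
    obtain ⟨c, hc⟩ := MulAction.exists_smul_eq G Q T
    have h1 : c⁻¹ * u * c ∈ (Q : Subgroup G) := by
      rw [← hc, Sylow.coe_subgroup_smul, Subgroup.mem_pointwise_smul_iff_inv_smul_mem] at hT
      simpa [MulAut.smul_def] using hT
    obtain ⟨g1, -, hg1⟩ := horb t htQ ht1
    obtain ⟨g2, -, hg2⟩ := horb _ h1 (fun e => hu1 (by
      rw [show u = c * (c⁻¹ * u * c) * c⁻¹ by group, e]; group))
    refine ⟨c * (g2 * g1⁻¹), ?_⟩
    rw [show u = c * (c⁻¹ * u * c) * c⁻¹ by group, ← hg2, ← hg1]; group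
  let Inv := {u : G // u ≠ 1 ∧ u * u = 1}
  have hI : Nat.card Inv * Nat.card C = Nat.card G := by
    let F : G → Inv := fun g => ⟨g * t * g⁻¹, fun h => ht1 (conj_eq_one_iff.mp h),
      by rw [show g * t * g⁻¹ * (g * t * g⁻¹) = g * (t * t) * g⁻¹ by group, ht2]; group⟩
    have hFC : ∀ g h : G, F g = F h ↔ g⁻¹ * h ∈ C := by
      intro g h
      rw [hC, Subgroup.mem_centralizer_singleton_iff]
      constructor
      · intro e
        have e' : g * t * g⁻¹ = h * t * h⁻¹ := congrArg Subtype.val e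
        calc g⁻¹ * h * t = g⁻¹ * (h * t * h⁻¹) * h := by group
          _ = g⁻¹ * (g * t * g⁻¹) * h := by rw [e']
          _ = _ := by group
      · intro e
        apply Subtype.ext
        show g * t * g⁻¹ = h * t * h⁻¹
        calc g * t * g⁻¹ = g * (t * (g⁻¹ * h)) * h⁻¹ := by group
          _ = g * (g⁻¹ * h * t) * h⁻¹ := by rw [e]
          _ = _ := by group
    let F' : G ⧸ C → Inv := Quotient.lift F fun g h e =>
      (hFC g h).mpr (QuotientGroup.leftRel_apply.mp e)
    have hb : Function.Bijective F' := by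
      constructor
      · rintro ⟨g⟩ ⟨h⟩ e
        exact QuotientGroup.eq.mpr ((hFC g h).mp e)
      · intro u
        obtain ⟨g, hg⟩ := hallconj u u.2.1 u.2.2
        exact ⟨QuotientGroup.mk g, Subtype.ext hg⟩
    rw [← Nat.card_congr (Equiv.ofBijective F' hb)]
    exact (Subgroup.card_eq_card_quotient_mul_card_subgroup C).symm
  have hcomm : Nat.card {u : Inv // (u : G) * t = t * (u : G)} = p := by
    let e : {u : Inv // (u : G) * t = t * (u : G)} ≃ {v : (Q : Subgroup G) // v ≠ 1} :=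
      { toFun := fun u => ⟨⟨(u.1 : G), hCQ0 ▸ Subgroup.mem_centralizer_singleton_iff.mpr u.2⟩,
          fun h => u.1.2.1 (congrArg Subtype.val h)⟩
        invFun := fun v => ⟨⟨(v.1 : G), fun h => v.2 (Subtype.ext h), S.sq Q _ v.1.2⟩,
          S.comm Q _ v.1.2 t htQ⟩
        left_inv := fun _ => rfl
        right_inv := fun _ => rfl }
    have := Fintype.ofFinite (Q : Subgroup G)
    rw [Nat.card_congr e, Nat.card_eq_fintype_card, Fintype.card_subtype_compl, Fintype.card_subtype_eq,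
      ← Nat.card_eq_fintype_card, S.card Q, S.hpa]
    omega
  -- elements inverted by `t`
  have hreal : ∀ (w : G) (P : Sylow p G), w ≠ 1 → t * w * t⁻¹ = w⁻¹ → w ∈ (P : Subgroup G) →
      Subgroup.centralizer ({w} : Set G) = (P : Subgroup G) := by
    intro w P hw1 htw hwP
    refine P.3 (IsPGroup.of_card (n := (Nat.card (Subgroup.centralizer ({w} : Set G))).primeFactorsList.length) ?_)
      (sylow_le_centralizer S.hab P hwP)
    set H := Subgroup.normalizer ((Subgroup.zpowers w : Subgroup G) : Set G) with hH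
    have htH : t ∈ H := by
      rw [hH, Subgroup.mem_normalizer_iff_map_conj_eq, MonoidHom.map_zpowers]
      show Subgroup.zpowers (t * w * t⁻¹) = _
      rw [htw, Subgroup.zpowers_inv]
    have hle : Subgroup.centralizer ({w} : Set G) ≤ H := by
      intro g hg
      rw [hH, Subgroup.mem_normalizer_iff_map_conj_eq, MonoidHom.map_zpowers]
      show Subgroup.zpowers (g * w * g⁻¹) = _
      rw [Subgroup.mem_centralizer_singleton_iff.mp hg, mul_inv_cancel_right]
    have hne : H ≠ ⊤ := by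
      intro h
      rcases S.simp_ _ (Subgroup.normalizer_eq_top_iff.mp h) with h1 | h1
      · exact hw1 (Subgroup.zpowers_eq_bot.mp h1)
      · exact ht1 (S.pelem_sq (pelem_of_mem P.2
          (Subgroup.zpowers_le.mpr hwP (h1 ▸ Subgroup.mem_top t))) ht2)
    refine Nat.eq_prime_pow_of_unique_prime_dvd Nat.card_pos.ne' fun {d} hd hdd => ?_
    refine (S.he H hne (ht0 ▸ Subgroup.orderOf_dvd_natCard H htH) d hd
      (hdd.trans (Subgroup.card_dvd_of_le hle))).resolve_right fun e => ?_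
    subst e
    obtain ⟨v, hv⟩ := exists_prime_orderOf_dvd_card' (G := Subgroup.centralizer ({w} : Set G)) 2 hdd
    rw [← Subgroup.orderOf_coe] at hv
    have hv1 : (v : G) ≠ 1 := fun h => by rw [h, orderOf_one] at hv; omega
    exact hw1 (S.no_pelem (by rw [← pow_two, ← hv, pow_orderOf_eq_one]) hv1 (pelem_of_mem P.2 hwP)
      (Subgroup.mem_centralizer_singleton_iff.mp v.2).symm)
  have hinvert : ∀ (P : Sylow p G) (r : G), r ≠ 1 → r * r = 1 →
      r ∈ Subgroup.normalizer ((P : Subgroup G) : Set G) →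
      ∀ v ∈ (P : Subgroup G), r * v * r⁻¹ = v⁻¹ := by
    intro P r hr1 hr2 hrN
    let ψ : (P : Subgroup G) →* (P : Subgroup G) := MonoidHom.mk' (fun x => ⟨r * x * r⁻¹,
      (Subgroup.mem_normalizer_iff.mp hrN x).mp x.2⟩) fun x y => Subtype.ext (by
        simp only [Subgroup.coe_mul]; group)
    have hfp : MonoidHom.FixedPointFree ψ := by
      intro x hx
      have e : r * (x : G) = x * r := mul_inv_eq_iff_eq_mul.mp (congrArg Subtype.val hx)
      exact Subtype.ext (S.no_pelem hr2 hr1 (pelem_of_mem P.2 x.2) e.symm)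
    have hinv : Function.Involutive ψ := fun x => Subtype.ext (by
      show r * (r * (x : G) * r⁻¹) * r⁻¹ = x
      rw [show r * (r * (x : G) * r⁻¹) * r⁻¹ = (r * r) * x * (r * r)⁻¹ by group, hr2]; group)
    exact fun v hv => congrArg Subtype.val (congrFun (hfp.coe_eq_inv_of_involutive hinv) ⟨v, hv⟩)
  have hTI : ∀ (P P' : Sylow p G) (v : G), v ≠ 1 → t * v * t⁻¹ = v⁻¹ → v ∈ (P : Subgroup G) →
      v ∈ (P' : Subgroup G) → P = P' := fun P P' v hv1 htv hv hv' =>
    Sylow.ext ((hreal v P hv1 htv hv).symm.trans (hreal v P' hv1 htv hv'))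
  let T := {P : Sylow p G // t ∈ Subgroup.normalizer ((P : Subgroup G) : Set G)}
  let J : (Σ P : T, {v : ((P.1 : Subgroup G)) // v ≠ 1}) → {u : Inv // ¬ (u : G) * t = t * (u : G)} := fun σ =>
    ⟨⟨t * (σ.2.1 : G),
      fun h => by
        have e : (σ.2.1 : G) = t := by rw [eq_inv_of_mul_eq_one_right h, hti]
        exact ht1 (S.pelem_sq (pelem_of_mem σ.1.1.2 (show t ∈ (σ.1.1 : Subgroup G) from Eq.mp (congrArg (· ∈ (σ.1.1 : Subgroup G)) e) σ.2.1.2)) ht2),
      by
        have h1 := hinvert σ.1.1 t ht1 ht2 σ.1.2 _ σ.2.1.2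
        rw [hti] at h1
        rw [show t * (σ.2.1 : G) * (t * (σ.2.1 : G)) = (t * (σ.2.1 : G) * t) * (σ.2.1 : G) by group, h1,
          inv_mul_cancel]⟩,
      fun h => σ.2.2 (Subtype.ext (by
        have h1 := hinvert σ.1.1 t ht1 ht2 σ.1.2 _ σ.2.1.2
        have e : t * (σ.2.1 : G) * t⁻¹ = σ.2.1 := by
          rw [mul_inv_eq_iff_eq_mul]
          have h' : t * (σ.2.1 : G) * t = t * (t * (σ.2.1 : G)) := h
          rw [← mul_assoc, ht2, one_mul] at h'
          calc t * (σ.2.1 : G) = t * (σ.2.1 : G) * t * t := by rw [mul_assoc _ t t, ht2, mul_one]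
            _ = _ := by rw [h']
        rw [e] at h1
        exact S.pelem_sq (pelem_of_mem σ.1.1.2 σ.2.1.2) (mul_eq_one_iff_eq_inv.mpr h1)))⟩
  have hJinj : Function.Injective J := by
    rintro ⟨P, v⟩ ⟨P', v'⟩ h
    have hv : (v.1 : G) = (v'.1 : G) :=
      mul_left_cancel (congrArg (fun u : {u : Inv // ¬ (u : G) * t = t * (u : G)} => (u.1 : G)) h)
    obtain rfl : P = P' := Subtype.ext (hTI P.1 P'.1 v.1 (fun e => v.2 (Subtype.ext e))
      (hinvert P.1 t ht1 ht2 P.2 _ v.1.2) v.1.2 (hv ▸ v'.1.2))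
    exact congrArg (Sigma.mk P) (Subtype.ext (Subtype.ext hv))
  have hJsurj : Function.Surjective J := by
    rintro ⟨⟨u, hu1, hu2⟩, hut⟩
    obtain ⟨hwp, hw1, htw, -⟩ := hdih t u ht2 hu2 (fun e => hut e.symm)
    obtain ⟨P, hwP⟩ := exists_sylow_mem hwp
    have htN : t ∈ Subgroup.normalizer ((P : Subgroup G) : Set G) := by
      have hC' := hreal _ P hw1 htw hwP
      rw [← hC', Subgroup.mem_normalizer_iff_map_conj_eq]
      refine Subgroup.eq_of_le_of_card_ge ?_ (Subgroup.card_map_of_injective (MulAut.conj t).injective).ge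
      rintro _ ⟨g, hg, rfl⟩
      show t * g * t⁻¹ ∈ Subgroup.centralizer ({t * u} : Set G)
      have hgw : Commute g ((t * u)⁻¹) :=
        (show Commute g (t * u) from Subgroup.mem_centralizer_singleton_iff.mp hg).inv_right
      have htw' : t * (t * u)⁻¹ * t⁻¹ = t * u := by
        rw [← conj_inv, htw, inv_inv]
      rw [Subgroup.mem_centralizer_singleton_iff]
      conv_lhs => rw [← htw']
      conv_rhs => rw [← htw']
      rw [show t * g * t⁻¹ * (t * (t * u)⁻¹ * t⁻¹) = t * (g * (t * u)⁻¹) * t⁻¹ by group, hgw.eq]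
      group
    exact ⟨⟨⟨P, htN⟩, ⟨⟨t * u, hwP⟩, fun e => hw1 (congrArg Subtype.val e)⟩⟩,
      Subtype.ext (Subtype.ext (by show t * (t * u) = u; rw [← mul_assoc, ht2, one_mul]))⟩
  obtain ⟨P0⟩ : Nonempty (Sylow p G) := inferInstance
  obtain ⟨n, hn⟩ := IsPGroup.iff_card.mp P0.2
  have hn0 : n ≠ 0 := by
    intro h
    have h1 := P0.card_eq_multiplicity
    rw [hn, h, pow_zero] at h1
    have := (hp.out.factorization_pos_of_dvd Nat.card_pos.ne' S.hpG)
    exact (Nat.one_lt_pow this.ne' hp.out.one_lt).ne h1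
  have hPcard : ∀ P : Sylow p G, Nat.card (P : Subgroup G) = p ^ n := fun P => by
    rw [P.card_eq_multiplicity, ← P0.card_eq_multiplicity, hn]
  have hPcard' : ∀ P : Sylow p G, Nat.card {v : (P : Subgroup G) // v ≠ 1} = p ^ n - 1 := by
    intro P
    have := Fintype.ofFinite (P : Subgroup G)
    rw [Nat.card_eq_fintype_card, Fintype.card_subtype_compl, Fintype.card_subtype_eq,
      ← Nat.card_eq_fintype_card, hPcard]
  have hnoncomm : Nat.card {u : Inv // ¬ (u : G) * t = t * (u : G)} = Nat.card T * (p ^ n - 1) := by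
    rw [← Nat.card_congr (Equiv.ofBijective J ⟨hJinj, hJsurj⟩)]
    have := Fintype.ofFinite T
    rw [Nat.card_sigma, Finset.sum_congr rfl fun (P : T) _ => hPcard' P.1, Finset.sum_const,
      Finset.card_univ, Nat.card_eq_fintype_card, smul_eq_mul]
  have hTd : Nat.card T ∣ Nat.card C := by
    rcases isEmpty_or_nonempty T with hE | ⟨⟨Q1, hQ1⟩⟩
    · exfalso
      have h0 : Nat.card {u : Inv // ¬ (u : G) * t = t * (u : G)} = 0 := by
        rw [hnoncomm, Nat.card_of_isEmpty, zero_mul]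
      have hall : ∀ u : G, u * u = 1 → u * t = t * u := by
        intro u hu
        by_contra hne
        have hu1 : u ≠ 1 := fun h => hne (by rw [h, one_mul, mul_one])
        have : Nonempty {u : Inv // ¬ (u : G) * t = t * (u : G)} := ⟨⟨⟨u, hu1, hu⟩, hne⟩⟩
        exact Nat.card_pos.ne' h0
      rcases S.simp_ _ (Subgroup.normalClosure_normal (s := ({t} : Set G))) with h1 | h1
      · exact ht1 (Subgroup.mem_bot.mp (h1 ▸ Subgroup.subset_normalClosure (Set.mem_singleton t)))
      · refine S.centralizer_ne_top ht1 (top_le_iff.mp (h1.ge.trans ?_))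
        refine Subgroup.closure_le _ |>.mpr ?_
        intro u hu
        rw [Group.mem_conjugatesOfSet_iff] at hu
        obtain ⟨r', hr', hc⟩ := hu
        rw [Set.mem_singleton_iff] at hr'
        obtain ⟨g, rfl⟩ := isConj_iff.mp hc
        exact Subgroup.mem_centralizer_singleton_iff.mpr (hall _
          (by rw [show g * r' * g⁻¹ * (g * r' * g⁻¹) = g * (r' * r') * g⁻¹ by group, hr', ht2]; group))
    have horbT : ∀ P : Sylow p G, P ∈ MulAction.orbit C Q1 ↔
        t ∈ Subgroup.normalizer ((P : Subgroup G) : Set G) := by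
      intro P
      constructor
      · rintro ⟨g, rfl⟩
        have hgt : (g : G) * t = t * g := Subgroup.mem_centralizer_singleton_iff.mp g.2
        refine Sylow.smul_eq_iff_mem_normalizer.mp ?_
        show t • ((g : G) • Q1) = (g : G) • Q1
        rw [← mul_smul, ← hgt, mul_smul, Sylow.smul_eq_iff_mem_normalizer.mpr hQ1]
      · intro hP
        obtain ⟨g, hg⟩ := MulAction.exists_smul_eq G Q1 P
        set t' := g * t * g⁻¹ with ht'
        have ht'N : t' ∈ Subgroup.normalizer ((P : Subgroup G) : Set G) := by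
          refine Sylow.smul_eq_iff_mem_normalizer.mp ?_
          rw [← hg, ← mul_smul, ht', show g * t * g⁻¹ * g = g * t by group, mul_smul,
            Sylow.smul_eq_iff_mem_normalizer.mpr hQ1]
        have ht'2 : t' * t' = 1 := by
          rw [ht', show g * t * g⁻¹ * (g * t * g⁻¹) = g * (t * t) * g⁻¹ by group, ht2]; group
        have ht'1 : t' ≠ 1 := fun h => ht1 (conj_eq_one_iff.mp h)
        obtain ⟨e, heP, he⟩ : ∃ e ∈ (P : Subgroup G), e * t' * e⁻¹ = t := by
          by_cases heq : t' = t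
          · exact ⟨1, one_mem _, by rw [heq]; group⟩
          obtain ⟨y, hy, hy1⟩ := ((P : Subgroup G).bot_or_exists_ne_one).resolve_left (fun hb => by
            have h1 := congrArg (fun H : Subgroup G => Nat.card H) hb
            simp only [Subgroup.card_bot] at h1
            rw [hPcard] at h1
            exact (Nat.one_lt_pow hn0 hp.out.one_lt).ne' h1)
          have i1 := hinvert P t' ht'1 ht'2 ht'N _ (inv_mem hy)
          have i2 := hinvert P t ht1 ht2 hP y hy
          have hc : t' * t * y = y * (t' * t) := by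
            rw [inv_inv, mul_inv_eq_iff_eq_mul] at i1
            rw [mul_inv_eq_iff_eq_mul] at i2
            rw [mul_assoc, i2, ← mul_assoc, i1, mul_assoc]
          have hwP : t' * t ∈ (P : Subgroup G) := by
            rw [← hreal y P hy1 (hinvert P t ht1 ht2 hP y hy) hy]
            exact Subgroup.mem_centralizer_singleton_iff.mpr hc
          have hne : t' * t ≠ t * t' := by
            intro e
            apply heq
            have h3 := S.pelem_sq (pelem_of_mem P.2 hwP) (by
              nth_rewrite 2 [e]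
              rw [← mul_assoc, mul_assoc t' t t, ht2, mul_one, ht'2])
            rw [eq_inv_of_mul_eq_one_left h3, hti]
          obtain ⟨e, he, he'⟩ := hconj1 _ t ht'2 ht2 hne
          exact ⟨e, Subgroup.zpowers_le.mpr hwP he, he'⟩
        refine ⟨⟨e * g, Subgroup.mem_centralizer_singleton_iff.mpr ?_⟩, ?_⟩
        · calc e * g * t = e * (g * t * g⁻¹) * e⁻¹ * (e * g) := by group
            _ = t * (e * g) := by rw [← ht', he]
        · show (e * g) • Q1 = P
          rw [mul_smul, hg]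
          exact Sylow.smul_eq_iff_mem_normalizer.mpr (Subgroup.le_normalizer heP)
    rw [← Nat.card_congr (Equiv.subtypeEquivRight horbT)]
    have h1 := Subgroup.card_mul_index (MulAction.stabilizer C Q1)
    rw [MulAction.index_stabilizer, ← Nat.card_coe_set_eq] at h1
    exact Dvd.intro_left _ h1
  have hsplit : Nat.card Inv = Nat.card {u : Inv // (u : G) * t = t * (u : G)} +
      Nat.card {u : Inv // ¬ (u : G) * t = t * (u : G)} := by
    rw [← Nat.card_sum]; exact Nat.card_congr (Equiv.sumCompl _).symm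
  have h2p : Nat.Coprime p (2 ^ a) :=
    Nat.Coprime.pow_right a ((Nat.coprime_primes hp.out Nat.prime_two).mpr S.hpodd)
  have hd : p ∣ Nat.card Inv := (hCcard ▸ h2p).dvd_of_dvd_mul_right (hI.symm ▸ S.hpG)
  rw [hsplit, hcomm, Nat.dvd_add_right dvd_rfl, hnoncomm] at hd
  have h1 : p.Coprime (p ^ n - 1) := hp.out.coprime_iff_not_dvd.mpr fun h => by
    obtain ⟨k, rfl⟩ := Nat.exists_eq_succ_of_ne_zero hn0
    have h1 : p ∣ p ^ (k + 1) := dvd_pow_self p (by omega)
    have h2 := Nat.dvd_sub h1 h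
    rw [Nat.succ_eq_add_one, Nat.sub_sub_self (Nat.one_le_pow _ _ hp.out.pos)] at h2
    exact hp.out.not_dvd_one h2
  exact hp.out.coprime_iff_not_dvd.mp h2p (hCcard ▸ (h1.dvd_of_dvd_mul_right hd).trans hTd)

omit hp in
theorem dichotomy : ∀ (n : ℕ) (G : Type u) [Group G] [Finite G], Nat.card G = n →
    ∀ {p q : ℕ}, p.Prime → q.Prime → p ≠ q → p ≠ 2 → p ∣ Nat.card G → q ∣ Nat.card G →
    (∀ H : Subgroup G, H ≠ ⊤ → ¬ IsPGroup q H → q ∣ Nat.card H → p ∣ Nat.card H) →
    (q ^ (Nat.card G).factorization q - 1 < p ∨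
      (p = q ^ (Nat.card G).factorization q - 1 ∧ ∀ P : Sylow p G, IsMulCommutative P)) →
    ∀ r : ℕ, r.Prime → r ∣ Nat.card G → r = p ∨ r = q := by
  intro n
  induction n using Nat.strong_induction_on with
  | _ n ih =>
  intro G _ _ hn p q hp hq hpq hp2 hpG hqG hmix hlarge
  classical
  have := Fact.mk hp
  have := Fact.mk hq
  by_contra hcon
  push Not at hcon
  obtain ⟨r, hr, hrG, hrp, hrq⟩ := hcon
  have := Fact.mk hr
  set a := (Nat.card G).factorization q with ha
  -- proper subgroups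
  have hE : ∀ H : Subgroup G, H ≠ ⊤ → q ∣ Nat.card H → ∀ d : ℕ, d.Prime → d ∣ Nat.card H → d = p ∨ d = q := by
    intro H hH hqH d hd hdH
    by_cases hHq : IsPGroup q H
    · exact Or.inr (CfsgLib.Solvable.isPGroup_prime_eq hHq hd hdH)
    have hpH := hmix H hH hHq hqH
    have hlt : Nat.card H < n := hn ▸ lt_of_le_of_ne (Subgroup.card_le_card_group H)
      (fun h => hH (Subgroup.eq_top_of_card_eq H h))
    refine ih _ hlt H rfl hp hq hpq hp2 hpH hqH ?_ ?_ d hd hdH
    · intro K hK hKq hqK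
      have hmap : Nat.card (K.map H.subtype) = Nat.card K :=
        Subgroup.card_map_of_injective H.subtype_injective
      rw [← hmap] at hqK ⊢
      refine hmix _ ?_ (fun h => hKq ?_) hqK
      · intro h
        exact hH (top_le_iff.mp (h ▸ Subgroup.map_subtype_le K))
      · exact h.of_equiv (K.equivMapOfInjective H.subtype H.subtype_injective).symm
    · have hle : (Nat.card H).factorization q ≤ a :=
        (hq.pow_dvd_iff_le_factorization Nat.card_pos.ne').mp
          ((Nat.ordProj_dvd _ _).trans (Subgroup.card_subgroup_dvd_card H))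
      have h1 : 1 ≤ q ^ (Nat.card H).factorization q := Nat.one_le_pow _ _ hq.pos
      rcases lt_or_eq_of_le hle with h | h
      · left
        have h2 : q ^ (Nat.card H).factorization q < q ^ a := Nat.pow_lt_pow_right hq.one_lt h
        rcases hlarge with h3 | ⟨h3, -⟩ <;> omega
      · rw [h]
        rcases hlarge with h3 | ⟨h3, hab⟩
        · exact Or.inl h3
        · refine Or.inr ⟨h3, fun P => ?_⟩
          obtain ⟨P', hP'⟩ := (P.2.map H.subtype).exists_le_sylow
          exact ⟨⟨fun x y => Subtype.ext (Subtype.ext (congrArg (fun z : (P' : Subgroup G) => (z : G))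
            ((hab P').is_comm.comm ⟨_, hP' ⟨x, x.2, rfl⟩⟩ ⟨_, hP' ⟨y, y.2, rfl⟩⟩)))⟩⟩
  -- a subgroup with a Sylow `q`- and a Sylow `r`-subgroup
  obtain ⟨Qs⟩ : Nonempty (Sylow q G) := inferInstance
  have hQc : q ∣ Nat.card (Qs : Subgroup G) := Qs.dvd_card_of_dvd_card hqG
  have hqr : ∀ A B : Subgroup G, IsPGroup q A → IsPGroup r B → q ∣ Nat.card A → r ∣ Nat.card B →
      B ≤ Subgroup.normalizer (A : Set G) → False := by
    intro A B hA hB hqA hrB hBA
    obtain ⟨i, hi⟩ := IsPGroup.iff_card.mp hA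
    obtain ⟨j, hj⟩ := IsPGroup.iff_card.mp hB
    have hd := CfsgLib.Solvable.card_sup_dvd hBA
    rw [hi, hj] at hd
    have hpn : ¬ p ∣ q ^ i * r ^ j := fun h => by
      rcases hp.dvd_mul.mp h with h | h
      · exact hpq ((Nat.prime_dvd_prime_iff_eq hp hq).mp (hp.dvd_of_dvd_pow h))
      · exact hrp ((Nat.prime_dvd_prime_iff_eq hp hr).mp (hp.dvd_of_dvd_pow h)).symm
    have hne : A ⊔ B ≠ ⊤ := fun h => hpn (by
      have := hd; rw [h, Subgroup.card_top] at this; exact hpG.trans this)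
    rcases hE (A ⊔ B) hne (hqA.trans (Subgroup.card_dvd_of_le le_sup_left)) r hr
      (hrB.trans (Subgroup.card_dvd_of_le le_sup_right)) with h | h
    · exact hrp h
    · exact hrq h
  -- normal subgroups are `p`-groups
  have hnorm : ∀ N : Subgroup G, N.Normal → N ≠ ⊤ → IsPGroup p N := by
    intro N hN hNtop
    refine IsPGroup.of_card (n := (Nat.card N).primeFactorsList.length)
      (Nat.eq_prime_pow_of_unique_prime_dvd Nat.card_pos.ne' fun {d} hd hdd => ?_)
    by_contra hdp
    have := Fact.mk hd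
    obtain ⟨T⟩ : Nonempty (Sylow d N) := inferInstance
    set M := (T : Subgroup N).map N.subtype
    have hfr : Subgroup.normalizer (M : Set G) ⊔ N = ⊤ := Sylow.normalizer_sup_eq_top T
    have hMc : d ∣ Nat.card M := by
      rw [Subgroup.card_map_of_injective N.subtype_injective]; exact T.dvd_card_of_dvd_card hdd
    have hTd := T.2.map N.subtype
    have hdec : ∀ e : ℕ, e.Prime → e ∣ Nat.card G → e ∣ Nat.card N ∨
        e ∣ Nat.card (Subgroup.normalizer (M : Set G)) := by
      intro e he heG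
      rw [← Subgroup.card_top (G := G), ← hfr, sup_comm] at heG
      exact he.dvd_mul.mp (heG.trans (CfsgLib.Solvable.card_sup_dvd
        (by rw [Subgroup.normalizer_eq_top_iff.mpr hN]; exact le_top)))
    by_cases hqN : q ∣ Nat.card N
    · -- `N` is a `{p, q}`-group
      have hdq : d = q := (hE N hNtop hqN d hd hdd).resolve_left hdp
      subst hdq
      have hrN : r ∣ Nat.card (Subgroup.normalizer (M : Set G)) :=
        (hdec r hr hrG).resolve_left fun h => by
          rcases hE N hNtop hqN r hr h with e | e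
          · exact hrp e
          · exact hrq e
      by_cases htop : Subgroup.normalizer (M : Set G) = ⊤
      · obtain ⟨R⟩ : Nonempty (Sylow r G) := inferInstance
        exact hqr M R hTd R.2 hMc (R.dvd_card_of_dvd_card hrG) (htop ▸ le_top)
      · rcases hE _ htop (hMc.trans (Subgroup.card_dvd_of_le Subgroup.le_normalizer)) r hr hrN with e | e
        · exact hrp e
        · exact hrq e
    · -- `N` has order prime to `q`
      have hqM : q ∣ Nat.card (Subgroup.normalizer (M : Set G)) := (hdec q hq hqG).resolve_left hqN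
      have hdq : d ≠ q := fun h => hqN (h ▸ hdd)
      by_cases htop : Subgroup.normalizer (M : Set G) = ⊤
      · obtain ⟨i, hi⟩ := IsPGroup.iff_card.mp hTd
        obtain ⟨j, hj⟩ := IsPGroup.iff_card.mp Qs.2
        have hdv := CfsgLib.Solvable.card_sup_dvd (N := M) (H := (Qs : Subgroup G)) (htop ▸ le_top)
        rw [hi, hj] at hdv
        have hne : M ⊔ (Qs : Subgroup G) ≠ ⊤ := fun h => by
          have h1 : p ∣ d ^ i * q ^ j := by
            have := hdv; rw [h, Subgroup.card_top] at this; exact hpG.trans this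
          rcases hp.dvd_mul.mp h1 with h2 | h2
          · exact hdp ((Nat.prime_dvd_prime_iff_eq hp hd).mp (hp.dvd_of_dvd_pow h2)).symm
          · exact hpq ((Nat.prime_dvd_prime_iff_eq hp hq).mp (hp.dvd_of_dvd_pow h2))
        rcases hE _ hne (hQc.trans (Subgroup.card_dvd_of_le le_sup_right)) d hd
          (hMc.trans (Subgroup.card_dvd_of_le le_sup_left)) with e | e
        · exact hdp e
        · exact hdq e
      · rcases hE _ htop hqM d hd (hMc.trans (Subgroup.card_dvd_of_le Subgroup.le_normalizer)) with e | e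
        · exact hdp e
        · exact hdq e
  -- the group is simple
  have hsimp : ∀ N : Subgroup G, N.Normal → N = ⊥ ∨ N = ⊤ := by
    intro N hN
    by_contra hN'
    push Not at hN'
    have hNp := hnorm N hN hN'.2
    obtain ⟨k, hk⟩ := IsPGroup.iff_card.mp hNp
    have hcq : ∀ e : ℕ, e.Prime → e ≠ p → e ∣ Nat.card G → e ∣ Nat.card (G ⧸ N) := fun e he hep heG => by
      rw [Subgroup.card_eq_card_quotient_mul_card_subgroup N, hk] at heG
      exact (he.dvd_mul.mp heG).resolve_right fun h => hep ((Nat.prime_dvd_prime_iff_eq he hp).mp (he.dvd_of_dvd_pow h))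
    have hlt : Nat.card (G ⧸ N) < n := by
      have h1 := Subgroup.card_eq_card_quotient_mul_card_subgroup N
      have h2 : 2 ≤ Nat.card N := N.one_lt_card_iff_ne_bot.mpr hN'.1
      have h3 : 0 < Nat.card (G ⧸ N) := Nat.card_pos
      nlinarith
    have hidx : N.index = Nat.card (G ⧸ N) := Subgroup.index_eq_card N
    by_cases hpQ : p ∣ Nat.card (G ⧸ N)
    · refine (ih _ hlt (G ⧸ N) rfl hp hq hpq hp2 hpQ (hcq q hq hpq.symm hqG) ?_ ?_ r hr
        (hcq r hr hrp hrG)).elim hrp hrq
      · intro H hH hHq hqH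
        set U := H.comap (QuotientGroup.mk' N)
        have hUne : U ≠ ⊤ := fun h => hH (by
          rw [← Subgroup.map_comap_eq_self_of_surjective (QuotientGroup.mk'_surjective N) H,
            show H.comap (QuotientGroup.mk' N) = ⊤ from h,
            Subgroup.map_top_of_surjective _ (QuotientGroup.mk'_surjective N)])
        have hUc : Nat.card U = Nat.card N * Nat.card H := CfsgLib.Solvable.card_comap_mk' N H
        by_contra hpH
        refine hHq (IsPGroup.of_card (n := (Nat.card H).primeFactorsList.length)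
          (Nat.eq_prime_pow_of_unique_prime_dvd Nat.card_pos.ne' fun {d} hd hdd => ?_))
        refine (hE U hUne (hUc ▸ dvd_mul_of_dvd_right hqH _) d hd (hUc ▸ dvd_mul_of_dvd_right hdd _)).resolve_left
          fun e => hpH (e ▸ hdd)
      · have hfac : (Nat.card (G ⧸ N)).factorization q = a := by
          rw [ha, Subgroup.card_eq_card_quotient_mul_card_subgroup N, Nat.factorization_mul Nat.card_pos.ne'
            Nat.card_pos.ne', Finsupp.add_apply, hk, Nat.factorization_eq_zero_of_not_dvd (n := p ^ k)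
            (fun h => hpq ((Nat.prime_dvd_prime_iff_eq hq hp).mp (hq.dvd_of_dvd_pow h)).symm), add_zero]
        rw [hfac]
        refine hlarge.imp id fun ⟨h1, h2⟩ => ⟨h1, fun P => ?_⟩
        obtain ⟨P0⟩ : Nonempty (Sylow p G) := inferInstance
        have hc : IsMulCommutative (P0.mapSurjective (QuotientGroup.mk'_surjective N) : Subgroup (G ⧸ N)) := by
          refine ⟨⟨?_⟩⟩
          rintro ⟨_, x, hx, rfl⟩ ⟨_, y, hy, rfl⟩
          exact Subtype.ext (by
            show QuotientGroup.mk' N x * QuotientGroup.mk' N y = QuotientGroup.mk' N y * QuotientGroup.mk' N x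
            rw [← map_mul, ← map_mul]
            exact congrArg _ (congrArg Subtype.val ((h2 P0).is_comm.comm ⟨x, hx⟩ ⟨y, hy⟩)))
        let e := (P0.mapSurjective (QuotientGroup.mk'_surjective N)).equiv P
        exact ⟨⟨fun x y => by
          obtain ⟨x, rfl⟩ := e.surjective x
          obtain ⟨y, rfl⟩ := e.surjective y
          rw [← map_mul, ← map_mul, hc.is_comm.comm x y]⟩⟩
    · obtain ⟨D, hD⟩ := Subgroup.exists_right_complement'_of_coprime (N := N) (by
        rw [hk, hidx]; exact Nat.Coprime.pow_left k (hp.coprime_iff_not_dvd.mpr hpQ))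
      have hDc : Nat.card D = Nat.card (G ⧸ N) := by rw [← hD.symm.index_eq_card, hidx]
      have hne : D ≠ ⊤ := fun h => hpQ (by rw [← hDc, h, Subgroup.card_top]; exact hpG)
      rcases hE D hne (hDc ▸ hcq q hq hpq.symm hqG) r hr (hDc ▸ hcq r hr hrp hrG) with h | h
      · exact hrp h
      · exact hrq h
  have hnoq : ¬ Cfsg.HasNormalPComplement q G := by
    rintro ⟨P, N, hN, hc⟩
    rcases hsimp N hN with h | h
    · have h1 := hc.card_mul_card
      rw [h, Subgroup.card_bot, one_mul] at h1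
      obtain ⟨j, hj⟩ := IsPGroup.iff_card.mp P.2
      rw [← h1, hj] at hpG
      exact hpq ((Nat.prime_dvd_prime_iff_eq hp hq).mp (hp.dvd_of_dvd_pow hpG))
    · subst h
      have h1 := Subgroup.isComplement'_top_left.mp hc
      have h2 : q ∣ Nat.card (P : Subgroup G) := P.dvd_card_of_dvd_card hqG
      rw [h1, Subgroup.card_bot] at h2
      exact hq.not_dvd_one h2
  -- some `p`-element acts nontrivially on a `q`-subgroup
  obtain ⟨U, hU, g, hgN, hgo, u, hu, hgu⟩ : ∃ U : Subgroup G, IsPGroup q U ∧ ∃ g ∈ Subgroup.normalizer (U : Set G),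
      (orderOf g).Coprime q ∧ ∃ u ∈ U, g * u ≠ u * g := by
    by_contra h
    push Not at h
    exact hnoq (CfsgLib.NPC.frobenius_criterion fun U hU g hg hco =>
      Subgroup.mem_centralizer_iff.mpr fun u hu => (h U hU g hg hco u hu).symm)
  have hu1 : u ≠ 1 := fun h => hgu (by rw [h, mul_one, one_mul])
  set H := U ⊔ Subgroup.zpowers g with hH
  have hqU : q ∣ Nat.card U := by
    obtain ⟨i, hi⟩ := IsPGroup.iff_card.mp hU
    rcases Nat.eq_zero_or_pos i with rfl | hi0
    · have hU1 : U = ⊥ := Subgroup.card_eq_one.mp (by rw [hi, pow_zero])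
      rw [hU1, Subgroup.mem_bot] at hu
      exact absurd hu hu1
    · exact hi ▸ dvd_pow_self q hi0.ne'
  have hgp : ∃ k : ℕ, g ^ p ^ k = 1 := by
    refine ⟨(orderOf g).primeFactorsList.length, orderOf_dvd_iff_pow_eq_one.mp (dvd_of_eq ?_)⟩
    refine Nat.eq_prime_pow_of_unique_prime_dvd (orderOf_pos g).ne' fun {d} hd hdd => ?_
    have hdH : d ∣ Nat.card H :=
      hdd.trans (Subgroup.orderOf_dvd_natCard H (Subgroup.mem_sup_right (Subgroup.mem_zpowers g)))
    have hne : H ≠ ⊤ := by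
      intro h
      have hUn : U.Normal := Subgroup.normalizer_eq_top_iff.mp (top_le_iff.mp
        (h.ge.trans (sup_le Subgroup.le_normalizer (Subgroup.zpowers_le.mpr hgN))))
      rcases hsimp U hUn with h1 | h1
      · rw [h1, Subgroup.mem_bot] at hu; exact hu1 hu
      · obtain ⟨i, hi⟩ := IsPGroup.iff_card.mp hU
        rw [← Subgroup.card_top (G := G), ← h1, hi] at hpG
        exact hpq ((Nat.prime_dvd_prime_iff_eq hp hq).mp (hp.dvd_of_dvd_pow hpG))
    refine (hE H hne (hqU.trans (Subgroup.card_dvd_of_le le_sup_left)) d hd hdH).resolve_right fun e => ?_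
    exact hq.coprime_iff_not_dvd.mp hgo.symm (e ▸ hdd)
  obtain ⟨kg, hkg⟩ := hgp
  have horb := orbit_all hgN hkg hu hgu
  obtain ⟨Q, hQ⟩ := hU.exists_le_sylow
  have hQcard : Nat.card (Q : Subgroup G) = q ^ a := Q.card_eq_multiplicity
  have hUle : Nat.card U ≤ q ^ a := hQcard ▸ Subgroup.card_le_of_le hQ
  have hplarge : q ^ a - 1 ≤ p := by
    rcases hlarge with h | ⟨h, -⟩
    · exact h.le
    · exact h.ge
  have hUQ : U = (Q : Subgroup G) := by
    refine Subgroup.eq_of_le_of_card_ge hQ ?_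
    have := horb.1
    rw [hQcard]
    revert hUle hplarge this
    generalize q ^ a = N0
    intro h1 h2 h3
    have := hp.two_le
    omega
  subst hUQ
  have heq : p = q ^ a - 1 := le_antisymm (hQcard ▸ horb.1) hplarge
  obtain ⟨hpeq, hab⟩ : p = q ^ a - 1 ∧ ∀ P : Sylow p G, IsMulCommutative P := by
    rcases hlarge with h | h
    · omega
    · exact h
  have hq2 : q = 2 := by
    rcases hq.eq_two_or_odd' with h | h
    · exact h
    · exfalso
      have h1 : Odd (q ^ a) := h.pow
      obtain ⟨j, hj⟩ := h1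
      rcases hp.eq_two_or_odd' with h2 | ⟨i, hi⟩
      · exact hp2 h2
      · omega
  subst hq2
  have htrans : ∀ v ∈ (Q : Subgroup G), v ≠ 1 → ∃ x ∈ Subgroup.zpowers g, x * u * x⁻¹ = v :=
    horb.2 (by rw [hQcard]; omega)
  have hord : orderOf u = 2 := by
    obtain ⟨v, hv⟩ := exists_prime_orderOf_dvd_card' (G := (Q : Subgroup G)) 2 hqU
    rw [← Subgroup.orderOf_coe] at hv
    obtain ⟨x, -, hx⟩ := htrans v v.2 (fun h => by rw [h, orderOf_one] at hv; omega)
    rw [← hv, ← hx]
    exact ((MulAut.conj x).orderOf_eq u).symm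
  have hsq0 : ∀ v ∈ (Q : Subgroup G), v * v = 1 := by
    intro v hv
    by_cases h1 : v = 1
    · rw [h1, one_mul]
    obtain ⟨x, -, rfl⟩ := htrans v hv h1
    rw [show x * u * x⁻¹ * (x * u * x⁻¹) = x * (u * u) * x⁻¹ by group, ← pow_two u,
      ← hord, pow_orderOf_eq_one]
    group
  have hsq : ∀ T : Sylow 2 G, ∀ v ∈ (T : Subgroup G), v * v = 1 := by
    intro T v hv
    obtain ⟨c, rfl⟩ := MulAction.exists_smul_eq G Q T
    rw [Sylow.coe_subgroup_smul, Subgroup.mem_pointwise_smul_iff_inv_smul_mem] at hv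
    have h1 : c⁻¹ * v * c ∈ (Q : Subgroup G) := by simpa [MulAut.smul_def] using hv
    calc v * v = c * (c⁻¹ * v * c * (c⁻¹ * v * c)) * c⁻¹ := by group
      _ = 1 := by rw [hsq0 _ h1]; group
  refine Setup.impossible (p := p) (a := a) (Q0 := Q) (hp := Fact.mk hp) ⟨hsimp, hp2, hpG,
    fun T => T.card_eq_multiplicity, by rw [hpeq]; exact (Nat.sub_add_cancel (Nat.one_le_two_pow)).symm, hsq, ?_, hab, hE, ?_⟩
  · intro T v hv v' hv'
    have e1 := inv_eq_of_mul_eq_one_right (hsq T v hv)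
    have e2 := inv_eq_of_mul_eq_one_right (hsq T v' hv')
    have e3 := inv_eq_of_mul_eq_one_right (hsq T _ (mul_mem hv hv'))
    rw [mul_inv_rev, e1, e2] at e3
    exact e3.symm
  · intro T
    obtain ⟨c, hc⟩ := MulAction.exists_smul_eq G Q T
    subst hc
    refine ⟨c * g * c⁻¹, ?_, ⟨kg, by rw [conj_pow, hkg, mul_one, mul_inv_cancel]⟩, c * u * c⁻¹,
      Setup.smul_mem (p := 2) hu, fun h => hgu ?_⟩
    · refine Sylow.smul_eq_iff_mem_normalizer.mp ?_
      rw [← mul_smul, show c * g * c⁻¹ * c = c * g by group, mul_smul,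
        Sylow.smul_eq_iff_mem_normalizer.mpr hgN]
    · rw [show c * g * c⁻¹ * (c * u * c⁻¹) = c * (g * u) * c⁻¹ by group,
        show c * u * c⁻¹ * (c * g * c⁻¹) = c * (u * g) * c⁻¹ by group] at h
      exact mul_left_cancel (mul_right_cancel h)

/-- Let G be a finite group and let p and q be distinct primes dividing the order of G, with p odd. Suppose that p divides the order of every proper subgroup of G that is neither a q-group nor of order prime to q. Let q^a be the q-part of the order of G. If p > q^a − 1, or if p = q^a − 1 and the Sylow p-subgroups of G are abelian, then p and q are the only primes dividing the order of G. -/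
theorem result {G : Type*} [Group G] [Finite G]
    {p q : ℕ} (hp : p.Prime) (hq : q.Prime) (hpq : p ≠ q) (hp2 : p ≠ 2)
    (hpG : p ∣ Nat.card G) (hqG : q ∣ Nat.card G)
    (hmix : ∀ H : Subgroup G, H ≠ ⊤ → ¬ IsPGroup q H → q ∣ Nat.card H → p ∣ Nat.card H)
    (hlarge : q ^ (Nat.card G).factorization q - 1 < p ∨
      (p = q ^ (Nat.card G).factorization q - 1 ∧ ∀ P : Sylow p G, IsMulCommutative P)) :
    ∀ r : ℕ, r.Prime → r ∣ Nat.card G → r = p ∨ r = q := by
  exact dichotomy _ G rfl hp hq hpq hp2 hpG hqG hmix hlarge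

end Cfsg.Agent.S4017
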