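import Mathlib
import Cfsg.Prelude.Def_Transfer
import Cfsg.Agent.Lib.PGroup.CyclicMaximal
import Cfsg.Agent.Lib.Solvable.UniqueInvolution
import Cfsg.Agent.S0215

/-!
Groups in which p-subgroups of equal order are conjugate: structure of the Sylow subgroups.
The extraspecial case of order p^3 is excluded since it forces an element of order four in the
automizer of a four-generated transvection pair, against the shape of the Sylow 2-subgroup.
-/

set_option autoImplicit false

namespace Cfsg.Agent.S4020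

open Subgroup

/-- Equal order `p`-subgroups are conjugate, for all primes. -/
def DHyp (G : Type*) [Group G] : Prop :=
  ∀ p : ℕ, p.Prime → ∀ H K : Subgroup G, IsPGroup p H → IsPGroup p K → Nat.card H = Nat.card K →
    ∃ g : G, K = H.map (MulAut.conj g).toMonoidHom

variable {G : Type*} [Group G] [Finite G] {p : ℕ} [hp : Fact p.Prime]

theorem mem_of_orderOf_p (hD : DHyp G) {N : Subgroup G} [hN : N.Normal] {m a : G} (hm : m ∈ N)
    (hmo : orderOf m = p) (hao : orderOf a = p) : a ∈ N := by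
  obtain ⟨g, hg⟩ := hD p hp.out (zpowers m) (zpowers a)
    (IsPGroup.of_card (n := 1) (by rw [Nat.card_zpowers, hmo, pow_one]))
    (IsPGroup.of_card (n := 1) (by rw [Nat.card_zpowers, hao, pow_one]))
    (by rw [Nat.card_zpowers, Nat.card_zpowers, hmo, hao])
  obtain ⟨b, hb, hb2⟩ := hg.le (mem_zpowers a)
  rw [← hb2]
  exact hN.conj_mem b (zpowers_le.mpr hm hb) g

theorem commute_of_conj (hD : DHyp G) {H K : Subgroup G} (hH : IsPGroup p H) (hK : IsPGroup p K)
    (hc : Nat.card H = Nat.card K) (hcomm : ∀ a ∈ H, ∀ b ∈ H, a * b = b * a) :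
    ∀ a ∈ K, ∀ b ∈ K, a * b = b * a := by
  obtain ⟨g, rfl⟩ := hD p hp.out H K hH hK hc
  rintro _ ⟨a, ha, rfl⟩ _ ⟨b, hb, rfl⟩
  rw [← map_mul, ← map_mul, hcomm a ha b hb]

/-- With an element of order `p ^ 2`, commuting elements of order `p` generate the same subgroup. -/
theorem mem_zpowers_of_sq (hD : DHyp G) {x : G} (hx : orderOf x = p ^ 2) {y z : G}
    (hy : orderOf y = p) (hz : orderOf z = p) (hc : Commute y z) : z ∈ zpowers y := by
  by_contra hzy
  have h1 : ∀ u : G, u ∈ closure ({y, z} : Set G) → u ^ p = 1 ∧ Commute u y ∧ Commute u z := by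
    intro u hu
    induction hu using closure_induction with
    | mem v hv =>
      rcases hv with rfl | rfl
      · exact ⟨by rw [← hy, pow_orderOf_eq_one], Commute.refl _, hc⟩
      · exact ⟨by rw [← hz, pow_orderOf_eq_one], hc.symm, Commute.refl _⟩
    | one => exact ⟨one_pow p, Commute.one_left _, Commute.one_left _⟩
    | mul a b ha hb iha ihb =>
      have hab : Commute a b := by
        have h2 : b ∈ centralizer {a} := by
          refine (closure_le _).mpr ?_ hb
          intro v hv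
          rw [SetLike.mem_coe, mem_centralizer_singleton_iff]
          rcases hv with rfl | rfl
          exacts [iha.2.1.symm.eq, iha.2.2.symm.eq]
        exact (mem_centralizer_singleton_iff.mp h2).symm
      exact ⟨by rw [hab.mul_pow, iha.1, ihb.1, one_mul], iha.2.1.mul_left ihb.2.1,
        iha.2.2.mul_left ihb.2.2⟩
    | inv a ha iha => exact ⟨by rw [inv_pow, iha.1, inv_one], iha.2.1.inv_left, iha.2.2.inv_left⟩
  have hE : IsPGroup p (closure ({y, z} : Set G)) := fun u => ⟨1, by
    apply Subtype.ext; simpa using (h1 u u.2).1⟩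
  have h2 : p ^ 2 ∣ Nat.card (closure ({y, z} : Set G)) := by
    obtain ⟨k, hk⟩ := hE.exists_card_eq
    rw [hk]
    apply pow_dvd_pow
    by_contra hlt
    have hle : Nat.card (closure ({y, z} : Set G)) ≤ p := by
      rw [hk]
      calc p ^ k ≤ p ^ 1 := Nat.pow_le_pow_right hp.out.pos (by omega)
        _ = p := pow_one p
    have h3 : zpowers y = closure ({y, z} : Set G) := eq_of_le_of_card_ge
      (zpowers_le.mpr (subset_closure (Set.mem_insert _ _))) (by rwa [Nat.card_zpowers, hy])
    exact hzy (h3 ▸ subset_closure (Set.mem_insert_of_mem _ rfl))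
  obtain ⟨E, hE2⟩ := Sylow.exists_subgroup_card_pow_prime p h2
  obtain ⟨g, hg⟩ := hD p hp.out (E.map (closure ({y, z} : Set G)).subtype) (zpowers x)
    ((hE.to_subgroup E).map _) (IsPGroup.of_card (n := 2) (by rw [Nat.card_zpowers, hx]))
    (by rw [Subgroup.card_map_of_injective (Subgroup.subtype_injective _), hE2, Nat.card_zpowers,
      hx])
  obtain ⟨_, ⟨b, -, rfl⟩, hb⟩ := hg.le (mem_zpowers x)
  have hxp : x ^ p = 1 := by
    rw [← hb, ← map_pow]
    simp [(h1 b b.2).1]
  have := Nat.le_of_dvd hp.out.pos (orderOf_dvd_of_pow_eq_one hxp)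
  rw [hx] at this
  nlinarith [hp.out.two_le]

/-- Either the exponent divides `p`, or the group is cyclic, or the quaternion group of order 8. -/
theorem trichotomy (hD : DHyp G) {P : Subgroup G} (hP : IsPGroup p P) :
    (∀ x ∈ P, x ^ p = 1) ∨ IsCyclic P ∨ (p = 2 ∧ Nonempty (P ≃* QuaternionGroup 2)) := by
  by_cases hexp : ∀ x ∈ P, x ^ p = 1
  · exact Or.inl hexp
  right
  push Not at hexp
  obtain ⟨x, hxP, hxp⟩ := hexp
  obtain ⟨k, hk⟩ := hP.exists_orderOf_eq_pow ⟨x, hxP⟩
  rw [Subgroup.orderOf_mk] at hk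
  have hk2 : 2 ≤ k := by
    by_contra hlt
    exact hxp (orderOf_dvd_iff_pow_eq_one.mp (hk ▸ by
      calc p ^ k ∣ p ^ 1 := pow_dvd_pow p (by omega)
        _ = p := pow_one p))
  have hx2 : orderOf (x ^ p ^ (k - 2)) = p ^ 2 := by
    rw [orderOf_pow, hk, Nat.gcd_eq_right (pow_dvd_pow p (Nat.sub_le k 2)),
      Nat.pow_div (Nat.sub_le k 2) hp.out.pos, Nat.sub_sub_self hk2]
  have hne : Nontrivial P := ⟨⟨⟨x, hxP⟩, 1, fun e => hxp (by
    rw [show x = 1 from congrArg Subtype.val e, one_pow])⟩⟩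
  have hcne := hP.center_nontrivial
  obtain ⟨c, hc⟩ := exists_prime_orderOf_dvd_card' p
    ((hP.to_subgroup (center P)).nontrivial_iff_card.mp hcne |>.elim fun n hn => by
      rw [hn.2]; exact dvd_pow_self p hn.1.ne')
  have hcord : orderOf ((c : P) : G) = p := by rw [Subgroup.orderOf_coe, Subgroup.orderOf_coe, hc]
  have hall : ∀ u : P, u ^ p = 1 → u ∈ zpowers (c : P) := by
    intro u hu
    by_cases hu1 : u = 1
    · rw [hu1]; exact one_mem _
    have huo : orderOf (u : G) = p := by rw [Subgroup.orderOf_coe, orderOf_eq_prime hu hu1]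
    obtain ⟨j, hj⟩ := mem_zpowers_of_sq hD hx2 hcord huo
      (congrArg Subtype.val (mem_center_iff.mp c.2 u).symm)
    exact ⟨j, Subtype.ext (by simpa using hj)⟩
  have huniq : ∀ u v : P, u ^ p = 1 → u ≠ 1 → v ^ p = 1 → v ∈ zpowers u := by
    intro u v hu hu1 hv
    have h1 : zpowers u = zpowers (c : P) := eq_of_le_of_card_ge (zpowers_le.mpr (hall u hu))
      (by rw [Nat.card_zpowers, Nat.card_zpowers, Subgroup.orderOf_coe, hc,
        orderOf_eq_prime hu hu1])
    rw [h1]
    exact hall v hv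
  by_cases hp2 : p = 2
  · subst hp2
    rcases CfsgLib.Solvable.isCyclic_or_quaternion_of_unique_involution hP (fun u v hu hu1 hv hv1 =>
      by
        obtain ⟨j, hj⟩ := huniq u v hu hu1 hv
        simp only at hj
        rw [← hj]
        have h2 : orderOf u = 2 := orderOf_eq_prime hu hu1
        rcases Int.even_or_odd j with ⟨i, rfl⟩ | ⟨i, rfl⟩
        · exfalso
          apply hv1
          rw [← hj, ← two_mul, zpow_mul, zpow_ofNat, hu, one_zpow]
        · rw [zpow_add, zpow_mul, zpow_ofNat, hu, one_zpow, one_mul, zpow_one]) with h | ⟨m, ⟨e⟩⟩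
    · exact Or.inl h
    rcases m with _ | _ | m
    · have : IsCyclic (QuaternionGroup (2 ^ 0)) := QuaternionGroup.quaternionGroup_one_isCyclic
      exact Or.inl (isCyclic_of_surjective e.symm.toMonoidHom e.symm.surjective)
    · exact Or.inr ⟨rfl, ⟨e⟩⟩
    exfalso
    set n := 2 ^ (m + 2) with hn
    have hn4 : 4 ≤ n := by
      rw [hn]
      calc 4 = 2 ^ 2 := rfl
        _ ≤ 2 ^ (m + 2) := Nat.pow_le_pow_right (by norm_num) (by omega)
    have hQ : IsPGroup 2 (QuaternionGroup n) := hP.of_equiv e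
    obtain ⟨M, hMc, hMx⟩ := Sylow.exists_subgroup_card_pow_prime_le 2 (G := QuaternionGroup n)
      (n := 2) (m := m + 3)
      (by
        rw [Nat.card_eq_fintype_card, QuaternionGroup.card, hn]
        exact ⟨2, by ring⟩)
      (zpowers (QuaternionGroup.xa 0 : QuaternionGroup n))
      (by rw [Nat.card_zpowers, QuaternionGroup.orderOf_xa]; rfl) (by omega)
    let ψ : QuaternionGroup n →* G := P.subtype.comp e.symm.toMonoidHom
    have hψ : Function.Injective ψ := P.subtype_injective.comp e.symm.injective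
    have hA : Nat.card (zpowers (QuaternionGroup.a 1 : QuaternionGroup n)) = 2 ^ (m + 3) := by
      rw [Nat.card_zpowers, QuaternionGroup.orderOf_a_one, hn]; ring
    obtain ⟨g, hg⟩ := hD 2 Nat.prime_two ((zpowers (QuaternionGroup.a 1 : QuaternionGroup n)).map ψ)
      (M.map ψ) ((hQ.to_subgroup _).map ψ) ((hQ.to_subgroup _).map ψ)
      (by rw [Subgroup.card_map_of_injective hψ, Subgroup.card_map_of_injective hψ, hA, hMc])
    have hMcyc : IsCyclic M := by
      have h1 : IsCyclic ((zpowers (QuaternionGroup.a 1 : QuaternionGroup n)).map ψ) :=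
        isCyclic_of_surjective (Subgroup.equivMapOfInjective _ ψ hψ).toMonoidHom
          (MulEquiv.surjective _)
      have h2 : IsCyclic (M.map ψ) := by
        rw [hg]
        exact isCyclic_of_surjective (Subgroup.equivMapOfInjective _ _
          (MulAut.conj g).injective).toMonoidHom (MulEquiv.surjective _)
      exact isCyclic_of_surjective (Subgroup.equivMapOfInjective M ψ hψ).symm.toMonoidHom
          (MulEquiv.surjective _)
    obtain ⟨w, hw⟩ := (Subgroup.isCyclic_iff_exists_zpowers_eq_top M).mp hMcyc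
    have hword : orderOf w = 2 ^ (m + 3) := by rw [← Nat.card_zpowers, hw, hMc]
    cases w with
    | a i =>
      have h1 : (QuaternionGroup.xa 0 : QuaternionGroup n) ∈ zpowers (QuaternionGroup.a i) := by
        rw [hw]; exact hMx (mem_zpowers _)
      have h2 : ∀ u ∈ zpowers (QuaternionGroup.a i : QuaternionGroup n),
          ∃ j, u = QuaternionGroup.a j := by
        intro u hu
        rw [zpowers_eq_closure] at hu
        induction hu using closure_induction with
        | mem v hv => exact ⟨i, hv⟩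
        | one => exact ⟨0, QuaternionGroup.one_def⟩
        | mul a b _ _ iha ihb =>
          obtain ⟨j, rfl⟩ := iha
          obtain ⟨l, rfl⟩ := ihb
          exact ⟨j + l, QuaternionGroup.a_mul_a j l⟩
        | inv a _ iha =>
          obtain ⟨j, rfl⟩ := iha
          exact ⟨-j, rfl⟩
      obtain ⟨j, hj⟩ := h2 _ h1
      exact absurd hj (by simp)
    | xa i =>
      rw [QuaternionGroup.orderOf_xa] at hword
      have : 2 ^ 3 ≤ 2 ^ (m + 3) := Nat.pow_le_pow_right (by norm_num) (by omega)
      omega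
  · exact Or.inl (CfsgLib.PGroup.isCyclic_of_unique_order_prime hp2 hP fun u v hu hu1 hv =>
      huniq u v hu hu1 hv)

/-- The Heisenberg configuration. -/
theorem heisenberg_data (hD : DHyp G) {P : Subgroup G} (hP : IsPGroup p P)
    (hexp : ∀ a ∈ P, a ^ p = 1) (hnc : ¬ ∀ a ∈ P, ∀ b ∈ P, a * b = b * a) :
    Nat.card P = p ^ 3 ∧ Nat.card (center P) = p ∧
      (∀ a b : P, b⁻¹ * a * b * a⁻¹ ∈ center P) ∧
      ∃ x y c : P, c ∈ center P ∧ c ≠ 1 ∧ x ∉ center P ∧ y * x * y⁻¹ = x * c := by
  have hne : ¬ (center P : Subgroup P) = ⊤ := fun h => hnc fun a ha b hb => by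
    have h1 : (⟨b, hb⟩ : P) ∈ center P := h ▸ mem_top _
    exact congrArg Subtype.val (mem_center_iff.mp h1 ⟨a, ha⟩)
  obtain ⟨x, -, hxZ, -, hx⟩ := CfsgLib.PGroup.exists_step hP (center P) ⊤ (lt_top_iff_ne_top.mpr hne)
  obtain ⟨y, hy⟩ : ∃ y : P, y * x ≠ x * y := by
    simpa [mem_center_iff] using hxZ
  have hcZ : ∀ g : P, x⁻¹ * g * x * g⁻¹ ∈ center P := fun g => by
    have h1 := (center P).inv_mem (hx g)
    have h2 := (inferInstance : (center P).Normal).conj_mem _ h1 x⁻¹
    convert h2 using 1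
    rw [commutatorElement_def]
    group
  have hep : ∀ u : P, u ^ p = 1 := fun u => Subtype.ext (by simpa using hexp u u.2)
  set c : P := x⁻¹ * y * x * y⁻¹ with hc
  have hcc : c ∈ center P := hcZ y
  have hc1 : c ≠ 1 := fun h => hy (by
    calc y * x = x * (x⁻¹ * y * x * y⁻¹) * y := by group
      _ = x * y := by rw [← hc, h, mul_one])
  have hyx : y * x = x * y * c := by
    rw [mul_assoc x y c, mem_center_iff.mp hcc y, hc]; group
  have hcm : ∀ u : P, Commute c u := fun u => (mem_center_iff.mp hcc u).symm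
  have key : ∀ j a : ℕ, y ^ j * x ^ a = x ^ a * y ^ j * c ^ (j * a) := by
    have k1 : ∀ j : ℕ, y ^ j * x = x * y ^ j * c ^ j := by
      intro j
      induction j with
      | zero => simp
      | succ j ih =>
        rw [pow_succ', mul_assoc, ih, ← mul_assoc, ← mul_assoc, hyx, pow_succ' c j,
          mul_assoc (x * y) c, ((hcm (y ^ j))).eq]
        group
    intro j a
    induction a with
    | zero => simp
    | succ a ih =>
      calc y ^ j * x ^ (a + 1) = x ^ a * y ^ j * c ^ (j * a) * x := by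
            rw [pow_succ, ← mul_assoc, ih]
        _ = x ^ a * (y ^ j * x) * c ^ (j * a) := by
            rw [mul_assoc _ (c ^ (j * a)) x, ((hcm x).pow_left _).eq]; group
        _ = x ^ (a + 1) * y ^ j * c ^ (j * (a + 1)) := by
            rw [k1, pow_succ x a, Nat.mul_succ, Nat.add_comm, pow_add c]; group
  let H : Subgroup P := closure ({x, y} : Set P)
  have hH : ∀ u ∈ H, ∃ i j l : ℕ, u = x ^ i * y ^ j * c ^ l := by
    intro u hu
    have hmul : ∀ a b : P, (∃ i j l : ℕ, a = x ^ i * y ^ j * c ^ l) →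
        (∃ i j l : ℕ, b = x ^ i * y ^ j * c ^ l) → ∃ i j l : ℕ, a * b = x ^ i * y ^ j * c ^ l := by
      rintro _ _ ⟨i, j, l, rfl⟩ ⟨a, b, d, rfl⟩
      refine ⟨i + a, j + b, j * a + l + d, ?_⟩
      calc x ^ i * y ^ j * c ^ l * (x ^ a * y ^ b * c ^ d)
          = x ^ i * (y ^ j * x ^ a) * (y ^ b * c ^ l) * c ^ d := by
            rw [mul_assoc _ (c ^ l), ← mul_assoc (c ^ l), ← mul_assoc (c ^ l),
              ((hcm (x ^ a)).pow_left l).eq, mul_assoc (x ^ a) (c ^ l),
              ((hcm (y ^ b)).pow_left l).eq]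
            group
        _ = x ^ i * x ^ a * y ^ j * (c ^ (j * a) * y ^ b) * c ^ l * c ^ d := by rw [key]; group
        _ = _ := by
            rw [((hcm (y ^ b)).pow_left (j * a)).eq, pow_add x, pow_add y, pow_add c, pow_add c]
            group
    induction hu using closure_induction with
    | mem v hv =>
      rcases hv with rfl | rfl
      · exact ⟨1, 0, 0, by simp⟩
      · exact ⟨0, 1, 0, by simp⟩
    | one => exact ⟨0, 0, 0, by simp⟩
    | mul a b _ _ iha ihb => exact hmul a b iha ihb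
    | inv a _ iha =>
      have hinv : a⁻¹ = a ^ (p - 1) := inv_eq_of_mul_eq_one_right (by
        rw [← pow_succ', Nat.sub_add_cancel hp.out.pos, hep])
      rw [hinv]
      generalize p - 1 = n
      induction n with
      | zero => exact ⟨0, 0, 0, by simp⟩
      | succ n ihn => rw [pow_succ]; exact hmul _ _ ihn iha
  have hHc : Nat.card H ≤ p ^ 3 := by
    let f : Fin p × Fin p × Fin p → P := fun t => x ^ (t.1 : ℕ) * y ^ (t.2.1 : ℕ) * c ^ (t.2.2 : ℕ)
    have hs : (H : Set P) ⊆ Set.range f := by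
      intro u hu
      obtain ⟨i, j, l, rfl⟩ := hH u hu
      refine ⟨(⟨i % p, Nat.mod_lt _ hp.out.pos⟩, ⟨j % p, Nat.mod_lt _ hp.out.pos⟩,
        ⟨l % p, Nat.mod_lt _ hp.out.pos⟩), ?_⟩
      simp only [f, ← pow_eq_pow_mod _ (hep _)]
    calc Nat.card H = (H : Set P).ncard := (Nat.card_coe_set_eq _)
      _ ≤ (Set.range f).ncard := Set.ncard_le_ncard hs (Set.toFinite _)
      _ ≤ Nat.card (Fin p × Fin p × Fin p) := by
          rw [← Nat.card_coe_set_eq]; exact Finite.card_range_le f
      _ = p ^ 3 := by simp [Nat.card_eq_fintype_card, pow_succ, mul_assoc]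
  have hab : ∀ A : Subgroup P, (∀ a ∈ A, ∀ b ∈ A, a * b = b * a) → Nat.card A < p ^ 3 := by
    intro A hA
    by_contra hle
    push Not at hle
    obtain ⟨k, hk⟩ := (hP.to_subgroup H).exists_card_eq
    have hk3 : k ≤ 3 := (Nat.pow_le_pow_iff_right hp.out.one_lt).mp (hk ▸ hHc)
    obtain ⟨kA, hkA⟩ := (hP.to_subgroup A).exists_card_eq
    have hkA3 : 3 ≤ kA := (Nat.pow_le_pow_iff_right hp.out.one_lt).mp (hkA ▸ hle)
    obtain ⟨B, hB⟩ := Sylow.exists_subgroup_card_pow_prime p (G := A) (n := k)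
      (hkA ▸ pow_dvd_pow p (by omega))
    have h1 := commute_of_conj hD ((((hP.to_subgroup A).to_subgroup B).map A.subtype).map P.subtype)
      ((hP.to_subgroup H).map P.subtype) (by
        rw [Subgroup.card_map_of_injective P.subtype_injective,
          Subgroup.card_map_of_injective A.subtype_injective,
          Subgroup.card_map_of_injective P.subtype_injective, hB, hk]) (by
        rintro _ ⟨_, ⟨a, -, rfl⟩, rfl⟩ _ ⟨_, ⟨b, -, rfl⟩, rfl⟩
        exact congrArg Subtype.val (hA a.1 a.2 b.1 b.2))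
    exact hy (Subtype.ext (h1 _ ⟨y, subset_closure (Set.mem_insert_of_mem _ rfl), rfl⟩ _
      ⟨x, subset_closure (Set.mem_insert _ _), rfl⟩))
  -- the centre
  have hxZ2 : x ^ p ∈ center P := by rw [hep]; exact one_mem _
  have hE : Nat.card (center P ⊔ zpowers x : Subgroup P) = p * Nat.card (center P) :=
    CfsgLib.PGroup.card_sup_zpowers hxZ hxZ2
  have hEC : (center P ⊔ zpowers x : Subgroup P) ≤ centralizer {x} :=
    sup_le (fun u hu => mem_centralizer_singleton_iff.mpr
      (mem_center_iff.mp hu x).symm)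
      (zpowers_le.mpr (mem_centralizer_singleton_iff.mpr rfl))
  have hEc : ∀ u ∈ centralizer ({x} : Set P), ∀ v ∈ (center P ⊔ zpowers x : Subgroup P),
      u * v = v * u := by
    intro u hu v hv
    have h2 : (center P ⊔ zpowers x : Subgroup P) ≤ centralizer {u} :=
      sup_le (fun w hw => mem_centralizer_singleton_iff.mpr
        (mem_center_iff.mp hw u).symm)
        (zpowers_le.mpr (mem_centralizer_singleton_iff.mpr
          (mem_centralizer_singleton_iff.mp hu).symm))
    exact (mem_centralizer_singleton_iff.mp (h2 hv)).symm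
  obtain ⟨z, hz⟩ := (hP.to_subgroup (center P)).exists_card_eq
  have hz1 : z = 1 := by
    have h1 := hab (center P ⊔ zpowers x) fun a ha b hb => hEc a (hEC ha) b hb
    rw [hE, hz, ← pow_succ'] at h1
    have h2 := (Nat.pow_lt_pow_iff_right hp.out.one_lt).mp h1
    have hPne : Nontrivial P := ⟨⟨c, 1, hc1⟩⟩
    have h3 : z ≠ 0 := fun h => by
      rw [h, pow_zero] at hz
      exact hc1 (Subgroup.mem_bot.mp (Subgroup.card_eq_one.mp hz ▸ hcc))
    omega
  subst hz1
  rw [pow_one] at hz
  rw [hz, ← sq] at hE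
  have hC : centralizer ({x} : Set P) = (center P ⊔ zpowers x : Subgroup P) := by
    refine le_antisymm (fun a ha => ?_) hEC
    by_contra haE
    let A : Subgroup P := (center P ⊔ zpowers x) ⊔ zpowers a
    have hAc : ∀ u ∈ A, ∀ v ∈ A, u * v = v * u := by
      have hgen : ∀ w ∈ A, w ∈ centralizer ({a} : Set P) ∧
          w ∈ centralizer ((center P ⊔ zpowers x : Subgroup P) : Set P) := by
        intro w hw
        have : A ≤ centralizer ({a} : Set P) ⊓
            centralizer ((center P ⊔ zpowers x : Subgroup P) : Set P) := by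
          refine sup_le (fun v hv => ⟨mem_centralizer_singleton_iff.mpr (hEc a ha v hv).symm,
            mem_centralizer_iff.mpr fun u hu => hEc u (hEC hu) v hv⟩) (zpowers_le.mpr
            ⟨mem_centralizer_singleton_iff.mpr rfl,
            mem_centralizer_iff.mpr fun u hu => (hEc a ha u hu).symm⟩)
        exact this hw
      intro u hu v hv
      have : A ≤ centralizer ({u} : Set P) := sup_le (fun w hw =>
        mem_centralizer_singleton_iff.mpr (mem_centralizer_iff.mp (hgen u hu).2 w hw))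
        (zpowers_le.mpr (mem_centralizer_singleton_iff.mpr
          (mem_centralizer_singleton_iff.mp (hgen u hu).1).symm))
      exact (mem_centralizer_singleton_iff.mp (this hv)).symm
    have hlt : (center P ⊔ zpowers x : Subgroup P) < A :=
      lt_of_le_of_ne le_sup_left fun h => haE (h ▸ mem_sup_right (mem_zpowers a))
    obtain ⟨kA, hkA⟩ := (hP.to_subgroup A).exists_card_eq
    have h1 := hab A hAc
    have h2 : p ^ 2 < Nat.card A := hE ▸ (Nat.lt_of_le_of_ne (card_le_of_le hlt.le) fun h =>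
      hlt.ne (eq_of_le_of_card_ge hlt.le h.ge))
    rw [hkA] at h1 h2
    have := (Nat.pow_lt_pow_iff_right hp.out.one_lt).mp h1
    have := (Nat.pow_lt_pow_iff_right hp.out.one_lt).mp h2
    omega
  let φ : P →* P :=
    { toFun := fun g => x⁻¹ * g * x * g⁻¹
      map_one' := by group
      map_mul' := fun g h => by
        have h1 : g * (x⁻¹ * h * x * h⁻¹) * g⁻¹ = x⁻¹ * h * x * h⁻¹ := by
          rw [mem_center_iff.mp (hcZ h) g]; group
        calc x⁻¹ * (g * h) * x * (g * h)⁻¹
            = x⁻¹ * g * x * (x⁻¹ * h * x * h⁻¹) * g⁻¹ := by group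
          _ = x⁻¹ * g * x * g⁻¹ * (g * (x⁻¹ * h * x * h⁻¹) * g⁻¹) := by group
          _ = x⁻¹ * g * x * g⁻¹ * (x⁻¹ * h * x * h⁻¹) := by rw [h1] }
  have hφ : φ.ker = centralizer {x} := by
    ext g
    rw [MonoidHom.mem_ker, mem_centralizer_singleton_iff]
    show x⁻¹ * g * x * g⁻¹ = 1 ↔ _
    constructor
    · intro h
      calc g * x = x * (x⁻¹ * g * x * g⁻¹) * g := by group
        _ = x * g := by rw [h, mul_one]
    · intro h
      rw [mul_assoc x⁻¹, h]; group
  have hPle : Nat.card P ≤ p ^ 3 := by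
    rw [← card_mul_index φ.ker, Subgroup.index_ker, hφ, hC, hE, pow_succ p 2]
    exact Nat.mul_le_mul_left _ (hz ▸ card_le_of_le (show φ.range ≤ center P by
      rintro _ ⟨g, rfl⟩; exact hcZ g))
  have hP3 : Nat.card P = p ^ 3 := by
    obtain ⟨k, hk⟩ := hP.exists_card_eq
    have h1 : k ≤ 3 := (Nat.pow_le_pow_iff_right hp.out.one_lt).mp (hk ▸ hPle)
    by_contra h
    have h3 : k ≤ 2 := by
      by_contra h2
      exact h (by rw [hk, show k = 3 by omega])
    have h4 : (centralizer ({x} : Set P)) = ⊤ := eq_top_of_le_card _ (by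
      rw [hC, hE, hk]; exact Nat.pow_le_pow_right hp.out.pos h3)
    exact hy (mem_centralizer_singleton_iff.mp (h4 ▸ mem_top y))
  refine ⟨hP3, hz, fun a b => ?_, x, y, c, hcc, hc1, hxZ, by rw [hc]; group⟩
  have h2 : Nat.card (P ⧸ center P) = p ^ 2 := by
    have := card_eq_card_quotient_mul_card_subgroup (center P)
    rw [hP3, hz, pow_succ] at this
    exact (Nat.eq_of_mul_eq_mul_right hp.out.pos this).symm
  rw [← QuotientGroup.eq_one_iff]
  have h3 := IsPGroup.commutative_of_card_eq_prime_sq h2 (a : P ⧸ center P) (b : P ⧸ center P)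
  simp only [QuotientGroup.mk_mul, QuotientGroup.mk_inv]
  rw [mul_assoc (b : P ⧸ center P)⁻¹, h3]; group

theorem conj_pow_of {v c x : G} (hvx : v * x = x * v) {β : ℕ} (h : v * c * v⁻¹ = c * x ^ β) :
    ∀ n : ℕ, v ^ n * c * (v ^ n)⁻¹ = c * x ^ (n * β) := by
  intro n
  induction n with
  | zero => simp
  | succ n ih =>
    calc v ^ (n + 1) * c * (v ^ (n + 1))⁻¹ = v * (v ^ n * c * (v ^ n)⁻¹) * v⁻¹ := by
          rw [pow_succ']; group
      _ = v * c * (x ^ (n * β) * v⁻¹) := by rw [ih]; group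
      _ = v * c * v⁻¹ * x ^ (n * β) := by
          rw [((show Commute v x from hvx).symm.pow_left (n * β)).inv_right.eq]; group
      _ = c * x ^ ((n + 1) * β) := by
          rw [h, mul_assoc, ← pow_add]; congr 2; ring

theorem no_heisenberg (hD : DHyp G) (S : Sylow p G) (hp2 : p ≠ 2)
    (hexp : ∀ a ∈ (S : Subgroup G), a ^ p = 1)
    (hnc : ¬ ∀ a ∈ (S : Subgroup G), ∀ b ∈ (S : Subgroup G), a * b = b * a) : False := by
  obtain ⟨hcard, -, -, x0, y0, c0, hc0, hc01, hx0, hyx0⟩ :=
    heisenberg_data hD S.2 hexp hnc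
  set x : G := (x0 : G) with hx
  set u : G := (y0 : G) with hu
  set c : G := (c0 : G) with hc
  have hux : u * x * u⁻¹ = x * c := congrArg Subtype.val hyx0
  have hcall : ∀ a ∈ (S : Subgroup G), a * c = c * a := fun a ha =>
    congrArg Subtype.val (mem_center_iff.mp hc0 ⟨a, ha⟩)
  have hxc : x * c = c * x := hcall x x0.2
  have huc : u * c * u⁻¹ = c := by rw [hcall u y0.2]; group
  have hc1 : c ≠ 1 := fun h => hc01 (Subtype.ext h)
  have hx1 : x ≠ 1 := fun h => hx0 (by rw [show x0 = 1 from Subtype.ext h]; exact one_mem _)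
  have hxp : x ^ p = 1 := hexp x x0.2
  have hxo : orderOf x = p := orderOf_eq_prime hxp hx1
  have hco : orderOf c = p := orderOf_eq_prime (hexp c c0.2) hc1
  have hxnc : c ∉ zpowers x := by
    intro h
    apply hx0
    have h1 : zpowers c = zpowers x := eq_of_le_of_card_ge (zpowers_le.mpr h)
      (by rw [Nat.card_zpowers, Nat.card_zpowers, hxo, hco])
    rw [mem_center_iff]
    intro a
    apply Subtype.ext
    have h2 : x ∈ zpowers c := h1 ▸ mem_zpowers x
    obtain ⟨i, hi⟩ := h2
    show (a : G) * x = x * a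
    rw [← hi]
    exact (Commute.zpow_right (hcall a a.2) i).eq
  -- a second Sylow subgroup with `x` central
  obtain ⟨g, hg⟩ := hD p hp.out (zpowers c) (zpowers x)
    (IsPGroup.of_card (n := 1) (by rw [Nat.card_zpowers, hco, pow_one]))
    (IsPGroup.of_card (n := 1) (by rw [Nat.card_zpowers, hxo, pow_one]))
    (by rw [Nat.card_zpowers, Nat.card_zpowers, hxo, hco])
  obtain ⟨_, ⟨i, rfl⟩, hi⟩ := hg.le (mem_zpowers x)
  let C : Subgroup G := centralizer {x}
  have hSg : (S : Subgroup G).map (MulAut.conj g).toMonoidHom ≤ C := by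
    rintro _ ⟨a, ha, rfl⟩
    rw [mem_centralizer_singleton_iff, ← hi, ← map_mul, ← map_mul]
    congr 1
    exact (Commute.zpow_right (hcall a ha) i).eq
  have hcC : c ∈ C := mem_centralizer_singleton_iff.mpr hxc.symm
  have hcP : IsPGroup p (zpowers (⟨c, hcC⟩ : C)) := IsPGroup.of_card (n := 1) (by
    rw [Nat.card_zpowers, ← Subgroup.orderOf_coe, pow_one]; exact hco)
  obtain ⟨R, hR⟩ := hcP.exists_le_sylow
  let R' : Subgroup G := (R : Subgroup C).map C.subtype
  have hR'p : IsPGroup p R' := R.2.map _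
  have hR'c : Nat.card R' = Nat.card (S : Subgroup G) := by
    apply le_antisymm
    · obtain ⟨T, hT⟩ := hR'p.exists_le_sylow
      calc Nat.card R' ≤ Nat.card (T : Subgroup G) := card_le_of_le hT
        _ = Nat.card (S : Subgroup G) := Sylow.card_eq_multiplicity T |>.trans
            (Sylow.card_eq_multiplicity S).symm
    · have h1 : IsPGroup p (((S : Subgroup G).map (MulAut.conj g).toMonoidHom).subgroupOf C) :=
        (S.2.map _).of_equiv (subgroupOfEquivOfLe hSg).symm
      obtain ⟨R2, hR2⟩ := h1.exists_le_sylow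
      calc Nat.card (S : Subgroup G)
          = Nat.card (((S : Subgroup G).map (MulAut.conj g).toMonoidHom).subgroupOf C) := by
            rw [Nat.card_congr (subgroupOfEquivOfLe hSg).toEquiv,
              Subgroup.card_map_of_injective (MulAut.conj g).injective]
        _ ≤ Nat.card (R2 : Subgroup C) := card_le_of_le hR2
        _ = Nat.card R' := by
            rw [Subgroup.card_map_of_injective C.subtype_injective, Sylow.card_eq_multiplicity R,
              Sylow.card_eq_multiplicity R2]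
  obtain ⟨h, hh⟩ := hD p hp.out (S : Subgroup G) R' S.2 hR'p hR'c.symm
  have hRexp : ∀ a ∈ R', a ^ p = 1 := by
    rw [hh]
    rintro _ ⟨a, ha, rfl⟩
    rw [← map_pow, hexp a ha, map_one]
  have hRnc : ¬ ∀ a ∈ R', ∀ b ∈ R', a * b = b * a := fun h2 =>
    hnc (commute_of_conj hD hR'p S.2 hR'c h2)
  obtain ⟨-, hRz, hRcomm, -⟩ := heisenberg_data hD hR'p hRexp hRnc
  have hxR : x ∈ R' := by
    have hxC : x ∈ C := mem_centralizer_singleton_iff.mpr rfl
    have h1 : (⟨x, hxC⟩ : C) ∈ center C := mem_center_iff.mpr fun a =>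
      Subtype.ext (mem_centralizer_singleton_iff.mp a.2)
    have h2 : IsPGroup p ((R : Subgroup C) ⊔ zpowers (⟨x, hxC⟩ : C) : Subgroup C) := by
      have : (zpowers (⟨x, hxC⟩ : C)).Normal := ⟨fun a ha b => by
        have : a ∈ center C := zpowers_le.mpr h1 ha
        rw [mem_center_iff.mp this b, mul_inv_cancel_right]; exact ha⟩
      exact R.2.to_sup_of_normal_right (IsPGroup.of_card (n := 1) (by
        rw [Nat.card_zpowers, ← Subgroup.orderOf_coe, pow_one]; exact hxo))
    have h3 := R.3 h2 le_sup_left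
    exact ⟨⟨x, hxC⟩, h3 ▸ mem_sup_right (mem_zpowers _), rfl⟩
  have hcR : c ∈ R' := ⟨⟨c, hcC⟩, hR (mem_zpowers _), rfl⟩
  have hZ : center R' = zpowers (⟨x, hxR⟩ : R') := by
    symm
    apply eq_of_le_of_card_ge
    · rw [zpowers_le, mem_center_iff]
      rintro ⟨a, ⟨b, -, rfl⟩⟩
      exact Subtype.ext (mem_centralizer_singleton_iff.mp b.2)
    · rw [hRz, Nat.card_zpowers, ← Subgroup.orderOf_coe]; exact hxo.ge
  obtain ⟨v, hvR, hvc⟩ : ∃ v ∈ R', v * c ≠ c * v := by
    by_contra hall
    push Not at hall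
    have h1 : (⟨c, hcR⟩ : R') ∈ center R' := mem_center_iff.mpr fun a =>
      Subtype.ext (hall a a.2)
    rw [hZ] at h1
    obtain ⟨j, hj⟩ := h1
    exact hxnc ⟨j, by simpa using congrArg Subtype.val hj⟩
  have hvx : v * x = x * v := by
    obtain ⟨b, -, rfl⟩ := hvR
    exact mem_centralizer_singleton_iff.mp b.2
  obtain ⟨β, hβ⟩ : ∃ β : ℕ, v * c * v⁻¹ = c * x ^ β := by
    have h1 := hRcomm ⟨v, hvR⟩ ⟨c, hcR⟩
    rw [hZ] at h1
    obtain ⟨j, hj⟩ := mem_powers_iff_mem_zpowers.mpr h1
    refine ⟨j, ?_⟩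
    have h2 : x ^ j = c⁻¹ * v * c * v⁻¹ := by simpa using congrArg Subtype.val hj
    rw [h2]; group
  have hβp : ¬ p ∣ β := by
    intro hd
    apply hvc
    obtain ⟨d, rfl⟩ := hd
    rw [pow_mul, hxp, one_pow, mul_one] at hβ
    calc v * c = v * c * v⁻¹ * v := by group
      _ = c * v := by rw [hβ]
  obtain ⟨γ, hγ⟩ : ∃ γ : ℕ, x ^ (γ * β) = x⁻¹ := by
    refine ⟨(-(β : ZMod p)⁻¹).val, ?_⟩
    rw [eq_inv_iff_mul_eq_one, ← pow_succ, ← orderOf_dvd_iff_pow_eq_one, hxo,
      ← ZMod.natCast_eq_zero_iff]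
    push_cast
    rw [ZMod.natCast_val, ZMod.cast_id, neg_mul, inv_mul_cancel₀, neg_add_cancel]
    rwa [Ne, ZMod.natCast_eq_zero_iff]
  set v' := v ^ γ with hv'
  have hv'x : v' * x * v'⁻¹ = x := by
    rw [hv', ((show Commute v x from hvx).pow_left γ).eq]; group
  have hv'c : v' * c * v'⁻¹ = c * x⁻¹ := by rw [conj_pow_of hvx hβ γ, hγ]
  set w := u * v' * u with hw
  set φ := MulAut.conj w with hφ
  have hwx : φ x = c := by
    show u * v' * u * x * (u * v' * u)⁻¹ = c
    calc u * v' * u * x * (u * v' * u)⁻¹ = u * (v' * (u * x * u⁻¹) * v'⁻¹) * u⁻¹ := by group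
      _ = u * ((v' * x * v'⁻¹) * (v' * c * v'⁻¹)) * u⁻¹ := by rw [hux]; group
      _ = u * (x * (c * x⁻¹)) * u⁻¹ := by rw [hv'x, hv'c]
      _ = c := by rw [← mul_assoc x, hxc, mul_inv_cancel_right, huc]
  have hwc : φ c = x⁻¹ := by
    show u * v' * u * c * (u * v' * u)⁻¹ = x⁻¹
    calc u * v' * u * c * (u * v' * u)⁻¹ = u * (v' * (u * c * u⁻¹) * v'⁻¹) * u⁻¹ := by group
      _ = (u * c * u⁻¹) * (u * x * u⁻¹)⁻¹ := by
          rw [show v' * (u * c * u⁻¹) * v'⁻¹ = c * x⁻¹ by rw [huc, hv'c]]; group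
      _ = x⁻¹ := by rw [huc, hux]; group
  have h2x : ∀ m : ℕ, Odd m → (φ ^ (2 * m)) x = x⁻¹ := by
    have h4 : (φ ^ 4) x = x := by
      show φ (φ (φ (φ x))) = x
      rw [hwx, hwc, map_inv, hwx, map_inv, hwc, inv_inv]
    rintro m ⟨k, rfl⟩
    rw [show 2 * (2 * k + 1) = 2 + 4 * k by ring, pow_add, MulAut.mul_apply, pow_mul]
    have h5 : ((φ ^ 4) ^ k) x = x := by
      induction k with
      | zero => simp
      | succ k ih => rw [pow_succ, MulAut.mul_apply, h4, ih]
    rw [h5]
    show φ (φ x) = x⁻¹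
    rw [hwx, hwc]
  obtain ⟨k, m, hm, hwm⟩ := Nat.exists_eq_two_pow_mul_odd (orderOf_pos w).ne'
  set w0 := w ^ m with hw0
  have hw0o : orderOf w0 = 2 ^ k := by
    rw [hw0, orderOf_pow_of_dvd hm.pos.ne' (hwm ▸ dvd_mul_left m _), hwm,
      Nat.mul_div_cancel _ hm.pos]
  have hinv : w0 ^ 2 * x * (w0 ^ 2)⁻¹ = x⁻¹ := by
    rw [← h2x m hm, hw0, ← pow_mul, mul_comm m 2, ← map_pow]; rfl
  have hxx : x ≠ x⁻¹ := fun h => by
    have : orderOf x ∣ 2 := orderOf_dvd_of_pow_eq_one (by rw [sq]; nth_rw 2 [h]; group)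
    rw [hxo] at this
    exact hp2 ((Nat.prime_dvd_prime_iff_eq hp.out Nat.prime_two).mp this)
  have hw0sq : w0 ^ 2 ≠ 1 := fun h => hxx (by rw [h] at hinv; simpa using hinv)
  have huo : orderOf u = p := orderOf_eq_prime (hexp u y0.2) (fun h => hc1 (by
    rw [h] at hux; simpa using hux))
  have hvo : orderOf v' = p := orderOf_eq_prime (hRexp _ (pow_mem hvR γ)) (fun h => hx1 (by
    rw [h] at hv'c; simpa using hv'c))
  haveI : Fact (Nat.Prime 2) := ⟨Nat.prime_two⟩
  obtain ⟨T, hT⟩ := (IsPGroup.of_card (n := k) (by rw [Nat.card_zpowers, hw0o]) :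
    IsPGroup 2 (zpowers w0)).exists_le_sylow
  have hw0T : w0 ∈ (T : Subgroup G) := hT (mem_zpowers w0)
  rcases trichotomy hD T.2 with h2 | h2 | ⟨-, ⟨e⟩⟩
  · exact hw0sq (h2 w0 hw0T)
  · -- cyclic: the normal complement contains all odd order elements
    have hk0 : k ≠ 0 := fun h => hw0sq (by
      rw [h, pow_zero, orderOf_eq_one_iff] at hw0o
      rw [hw0o, one_pow])
    have hdvd : 2 ∣ Nat.card G := (dvd_pow_self 2 hk0).trans (hw0o ▸ orderOf_dvd_natCard w0)
    have hmin : (Nat.card G).minFac = 2 := (Nat.minFac_eq_two_iff _).mpr hdvd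
    have hN : Subgroup.normalizer ((T : Subgroup G) : Set G) ≤
        centralizer ((T : Subgroup G) : Set G) := IsCyclic.normalizer_le_centralizer hmin h2
    have hcompl := MonoidHom.ker_transferSylow_isComplement' T hN
    set K := (MonoidHom.transferSylow T hN).ker
    have hKc : Nat.Coprime 2 (Nat.card K) := by
      rw [← hcompl.index_eq_card]
      exact Nat.prime_two.coprime_iff_not_dvd.mpr T.not_dvd_index
    have hin : ∀ a : G, orderOf a = p → a ∈ K := fun a ha => by
      rw [MonoidHom.mem_ker, ← orderOf_eq_one_iff]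
      have h3 : orderOf (MonoidHom.transferSylow T hN a) ∣ p := ha ▸ orderOf_map_dvd _ _
      obtain ⟨n, hn⟩ := T.2.exists_orderOf_eq_pow (MonoidHom.transferSylow T hN a)
      rcases (Nat.dvd_prime hp.out).mp h3 with h4 | h4
      · exact h4
      · exfalso
        rw [h4] at hn
        exact hp2 ((Nat.prime_dvd_prime_iff_eq hp.out Nat.prime_two).mp
          (hp.out.dvd_of_dvd_pow hn.dvd))
    have hwK : w ∈ K := mul_mem (mul_mem (hin u huo) (hin v' hvo)) (hin u huo)
    have h5 : 2 ∣ Nat.card K := (dvd_pow_self 2 hk0).trans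
      (hw0o ▸ Subgroup.orderOf_dvd_natCard K (pow_mem hwK m))
    exact absurd h5 (Nat.prime_two.coprime_iff_not_dvd.mp hKc)
  · -- quaternion of order eight
    have hq4 : ∀ q : QuaternionGroup 2, q ^ 4 = 1 := by decide
    have hq2 : ∀ q r : QuaternionGroup 2, q ^ 2 = 1 → q ≠ 1 → r ^ 2 = 1 → r ≠ 1 → q = r := by
      decide
    have h44 : w0 ^ 4 = 1 := by
      have := e.injective (a₁ := (⟨w0, hw0T⟩ : (T : Subgroup G)) ^ 4) (a₂ := 1)
        (by rw [map_pow, map_one, hq4])
      simpa using congrArg Subtype.val this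
    set t := w0 ^ 2 with ht
    have ht2 : t ^ 2 = 1 := by rw [ht, ← pow_mul]; exact h44
    have hto : orderOf t = 2 := orderOf_eq_prime ht2 hw0sq
    obtain ⟨N, hN, hNodd, hcomm⟩ := Cfsg.Agent.S0215.result T t hto (pow_mem hw0T 2) (by
      intro b hb
      have e1 : (⟨b * t * b⁻¹, hb⟩ : (T : Subgroup G)) = ⟨t, pow_mem hw0T 2⟩ := by
        apply e.injective
        apply hq2
        · rw [← map_pow]
          convert map_one e
          exact Subtype.ext (by simp [ht2])
        · intro h
          have := congrArg Subtype.val (e.injective (h.trans (map_one e).symm))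
          exact hw0sq (conj_eq_one_iff.mp this)
        · rw [← map_pow]
          convert map_one e
          exact Subtype.ext (by simp [ht2])
        · intro h
          exact hw0sq (congrArg Subtype.val (e.injective (h.trans (map_one e).symm)))
      exact congrArg Subtype.val e1)
    have h3 : (x⁻¹) ^ 2 ∈ N := by
      have := hcomm x
      rw [hinv] at this
      rw [sq]
      exact this
    have hxN : x ∈ N := by
      obtain ⟨r, hr⟩ := hp.out.odd_of_ne_two hp2
      have h4 : x = ((x⁻¹) ^ 2) ^ r := by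
        rw [← pow_mul, inv_pow, eq_inv_iff_mul_eq_one, ← pow_succ', ← hr, hxp]
      rw [h4]
      exact pow_mem h3 r
    haveI := hN
    have hwN : w ∈ N := mul_mem (mul_mem (mem_of_orderOf_p hD hxN hxo huo)
      (mem_of_orderOf_p hD hxN hxo hvo)) (mem_of_orderOf_p hD hxN hxo huo)
    have h5 : orderOf t ∣ Nat.card N := Subgroup.orderOf_dvd_natCard N (pow_mem (pow_mem hwN m) 2)
    rw [hto] at h5
    exact (Nat.not_even_iff_odd.mpr hNodd) (even_iff_two_dvd.mpr h5)

/-- Let G be a finite group in which, for every prime p, any two p-subgroups of the same order are conjugate. Then every Sylow subgroup of G is cyclic, elementary abelian, or a quaternion group of order 8. -/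
theorem result {G : Type*} [Group G] [Finite G]
    (hD : ∀ p : ℕ, p.Prime → ∀ H K : Subgroup G, IsPGroup p H → IsPGroup p K → Nat.card H = Nat.card K →
      ∃ g : G, K = H.map (MulAut.conj g).toMonoidHom) {p : ℕ} [Fact p.Prime] (P : Sylow p G) :
    IsCyclic P ∨ Cfsg.IsElementaryAbelian p (P : Subgroup G) ∨ Nonempty ((P : Subgroup G) ≃* QuaternionGroup 2) := by
  have hp : p.Prime := Fact.out
  rcases trichotomy hD P.2 with h | h | ⟨-, h⟩
  · refine Or.inr (Or.inl ⟨⟨⟨fun a b => Subtype.ext ?_⟩⟩, h⟩)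
    by_contra hne
    have hnc : ¬ ∀ a ∈ (P : Subgroup G), ∀ b ∈ (P : Subgroup G), a * b = b * a :=
      fun hc => hne (hc a.1 a.2 b.1 b.2)
    by_cases hp2 : p = 2
    · subst hp2
      apply hne
      have h1 : ((a : G) * b) ^ 2 = 1 := h _ (mul_mem a.2 b.2)
      rw [sq] at h1
      have ha : (a : G)⁻¹ = a := inv_eq_of_mul_eq_one_right (by rw [← sq]; exact h _ a.2)
      have hb : (b : G)⁻¹ = b := inv_eq_of_mul_eq_one_right (by rw [← sq]; exact h _ b.2)
      show (a : G) * b = b * a
      calc (a : G) * b = ((a : G) * b)⁻¹ := (inv_eq_of_mul_eq_one_right h1).symm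
        _ = b * a := by rw [mul_inv_rev, ha, hb]
    · exact no_heisenberg hD P hp2 h hnc
  · exact Or.inl h
  · exact Or.inr (Or.inr h)

end Cfsg.Agent.S4020
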