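import Cfsg.Statements.S4023
import Cfsg.Agent.Lib.PGroup.Basic
import Cfsg.Agent.Lib.Solvable.Basic
import Cfsg.Agent.Lib.FGS73.Conj
import Cfsg.Agent.S0016

set_option autoImplicit false
open Cfsg
open scoped commutatorElement

namespace Cfsg.Agent.S4023

theorem quaternion_four_dvd_false {t : ℕ} [NeZero t] (ht2 : 2 ∣ t)
    (hiso : ∀ H K : Subgroup (QuaternionGroup (2 * t)), Nat.card H = Nat.card K → Nonempty (H ≃* K)) : False := by
  haveI : NeZero (2 * t) := ⟨mul_ne_zero two_ne_zero (NeZero.ne t)⟩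
  have ht : 2 ≤ t := Nat.le_of_dvd (NeZero.pos t) ht2
  let f : ZMod 4 →+ ZMod (2 * (2 * t)) :=
    ZMod.lift 4 ⟨(AddMonoidHom.mulLeft (t : ZMod (2 * (2 * t)))).comp (Int.castAddHom _), by
      show (t : ZMod (2 * (2 * t))) * ((4 : ℕ) : ℤ) = 0
      rw [Int.cast_natCast, ← Nat.cast_mul, ZMod.natCast_eq_zero_iff]
      exact dvd_of_eq (by ring)⟩
  have hf : ∀ k : ℤ, f (k : ZMod 4) = (t : ZMod (2 * (2 * t))) * k := fun k => by
    simp only [f, ZMod.lift_coe]; rfl
  have hf2 : f 2 = ((2 * t : ℕ) : ZMod (2 * (2 * t))) := by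
    have := hf 2
    push_cast at this ⊢
    rw [this]; ring
  have hfinj : Function.Injective f := by
    rw [injective_iff_map_eq_zero]
    intro x hx
    obtain ⟨k, rfl⟩ := ZMod.intCast_surjective x
    rw [hf, show (t : ZMod (2 * (2 * t))) * k = (((t : ℤ) * k : ℤ) : ZMod (2 * (2 * t))) by push_cast; ring,
      ZMod.intCast_zmod_eq_zero_iff_dvd] at hx
    rw [ZMod.intCast_zmod_eq_zero_iff_dvd]
    obtain ⟨c, hc⟩ := hx
    refine ⟨c, mul_left_cancel₀ (show (t : ℤ) ≠ 0 by omega) ?_⟩
    rw [hc]; push_cast; ring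
  let F : QuaternionGroup 2 → QuaternionGroup (2 * t) := fun g => match g with
    | QuaternionGroup.a i => QuaternionGroup.a (f i)
    | QuaternionGroup.xa i => QuaternionGroup.xa (f i)
  have hF : ∀ a b, F (a * b) = F a * F b := by
    intro a b
    cases a <;> cases b
    · simp only [F, QuaternionGroup.a_mul_a, map_add]
    · simp only [F, QuaternionGroup.a_mul_xa, map_sub]
    · simp only [F, QuaternionGroup.xa_mul_a, map_add]
    · simp only [F, QuaternionGroup.xa_mul_xa, map_sub, map_add]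
      rw [show f ((2 : ℕ) : ZMod (2 * 2)) = ((2 * t : ℕ) : ZMod (2 * (2 * t))) from by
        rw [← hf2]; rfl]
  have hFinj : Function.Injective F := by
    intro a b hab
    cases a <;> cases b <;> simp only [F, QuaternionGroup.a.injEq, QuaternionGroup.xa.injEq, reduceCtorEq] at hab ⊢
    · exact hfinj hab
    · exact hfinj hab
  let Fh : QuaternionGroup 2 →* QuaternionGroup (2 * t) := MonoidHom.mk' F hF
  obtain ⟨c, hc⟩ : 8 ∣ 2 * (2 * t) := by obtain ⟨u, rfl⟩ := ht2; exact ⟨u, by ring⟩
  set s : QuaternionGroup (2 * t) := QuaternionGroup.a 1 ^ c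
  have hs : orderOf s = 8 := by
    show orderOf (QuaternionGroup.a 1 ^ c) = 8
    rw [orderOf_pow_of_dvd (by omega) (by rw [QuaternionGroup.orderOf_a_one, hc]; exact dvd_mul_left c 8),
      QuaternionGroup.orderOf_a_one, hc, Nat.mul_div_cancel _ (by omega)]
  have hcard : Nat.card Fh.range = 8 := by
    rw [← Nat.card_congr (MonoidHom.ofInjective (f := Fh) hFinj).toEquiv, Nat.card_eq_fintype_card, QuaternionGroup.card]
  obtain ⟨e⟩ := hiso Fh.range (Subgroup.zpowers s) (by rw [hcard, Nat.card_zpowers, hs])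
  have h1 : (QuaternionGroup.a (1 : ZMod (2 * 2))) * QuaternionGroup.xa 0 =
      QuaternionGroup.xa 0 * QuaternionGroup.a (1 : ZMod (2 * 2)) := by
    apply hFinj
    rw [hF, hF]
    have h2 := (show e ⟨Fh (QuaternionGroup.a 1), ⟨_, rfl⟩⟩ * e ⟨Fh (QuaternionGroup.xa 0), ⟨_, rfl⟩⟩ =
        e ⟨Fh (QuaternionGroup.xa 0), ⟨_, rfl⟩⟩ * e ⟨Fh (QuaternionGroup.a 1), ⟨_, rfl⟩⟩ from (IsMulCommutative.is_comm (M := Subgroup.zpowers s)).comm _ _)
    rw [← map_mul, ← map_mul] at h2
    exact congrArg Subtype.val (e.injective h2)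
  revert h1
  decide

theorem card_eq {P : Type*} [Group P] [Finite P] {p : ℕ} [hp : Fact p.Prime] (hP : IsPGroup p P)
    (hexp : ∀ a : P, a ^ p = 1) (hab : ¬ ∀ a b : P, a * b = b * a)
    (hiso : ∀ H K : Subgroup P, Nat.card H = Nat.card K → Nonempty (H ≃* K)) : Nat.card P = p ^ 3 := by
  obtain ⟨n, hn⟩ := IsPGroup.iff_card.1 hP
  have hn3 : 3 ≤ n := by
    by_contra h
    apply hab
    interval_cases n
    · have : Subsingleton P := (Nat.card_eq_one_iff_unique.1 (by rw [hn, pow_zero])).1
      exact fun a b => Subsingleton.elim _ _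
    · haveI : IsCyclic P := isCyclic_of_prime_card (p := p) (by rw [hn, pow_one])
      exact fun a b => IsMulCommutative.is_comm.comm a b
    · exact IsPGroup.commutative_of_card_eq_prime_sq hn
  -- a nonabelian subgroup of order p ^ 3
  obtain ⟨H0, hH0, hH0n⟩ : ∃ H : Subgroup P, Nat.card H = p ^ 3 ∧ ¬ IsMulCommutative H := by
    obtain ⟨y, hy, x, hxy⟩ : ∃ y : P, (∀ g : P, g * y * g⁻¹ * y⁻¹ ∈ Subgroup.center P) ∧ ∃ x : P, x * y ≠ y * x := by
      by_contra hno
      push Not at hno
      apply hab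
      haveI := hP.isNilpotent
      have hc : Subgroup.center P = ⊤ := by
        by_contra hne
        obtain ⟨x, -, hxc, -, hxcomm⟩ := CfsgLib.PGroup.exists_step hP (Subgroup.center P) ⊤ (lt_top_iff_ne_top.2 hne)
        refine hxc (Subgroup.mem_center_iff.2 fun g => hno x (fun g' => ?_) g)
        have h1 := inv_mem (hxcomm g')
        simpa [commutatorElement_def, mul_assoc] using h1
      exact fun a b => Subgroup.mem_center_iff.1 (hc ▸ Subgroup.mem_top b) a
    set z := x * y * x⁻¹ * y⁻¹ with hzdef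
    have hz : ∀ g, g * z = z * g := fun g => Subgroup.mem_center_iff.1 (hy x) g
    have hsize : ∀ u : P, Nat.card (Subgroup.zpowers u) ∣ p := fun u => by
      rw [Nat.card_zpowers]; exact orderOf_dvd_of_pow_eq_one (hexp u)
    have hn1 : Subgroup.zpowers y ≤ Subgroup.normalizer ((Subgroup.zpowers z : Subgroup P) : Set P) :=
      Subgroup.zpowers_le.2 (CfsgLib.FGS73.mem_normalizer_zpowers
        (by rw [hz y, mul_assoc, mul_inv_cancel, mul_one]; exact Subgroup.mem_zpowers z))
    set L := Subgroup.zpowers z ⊔ Subgroup.zpowers y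
    have hL : Nat.card L ∣ p * p := (CfsgLib.Solvable.card_sup_dvd hn1).trans (mul_dvd_mul (hsize z) (hsize y))
    have hn2 : Subgroup.zpowers x ≤ Subgroup.normalizer (L : Set P) := by
      rw [Subgroup.zpowers_le, Subgroup.mem_normalizer_iff_map_conj_eq]
      refine Subgroup.eq_of_le_of_card_ge ?_ (Subgroup.card_map_of_injective (MulAut.conj x).injective).ge
      rw [Subgroup.map_sup, MonoidHom.map_zpowers, MonoidHom.map_zpowers]
      refine sup_le (Subgroup.zpowers_le.2 ?_) (Subgroup.zpowers_le.2 ?_)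
      · show x * z * x⁻¹ ∈ L
        rw [hz x, mul_assoc, mul_inv_cancel, mul_one]
        exact Subgroup.mem_sup_left (Subgroup.mem_zpowers z)
      · show x * y * x⁻¹ ∈ L
        rw [show x * y * x⁻¹ = z * y by rw [hzdef, inv_mul_cancel_right]]
        exact mul_mem (Subgroup.mem_sup_left (Subgroup.mem_zpowers z)) (Subgroup.mem_sup_right (Subgroup.mem_zpowers y))
    set H := L ⊔ Subgroup.zpowers x
    have hH : Nat.card H ∣ p ^ 3 := (CfsgLib.Solvable.card_sup_dvd hn2).trans (by
      rw [pow_succ, pow_two]; exact mul_dvd_mul hL (hsize x))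
    have hnc : ¬ IsMulCommutative H := fun hc => hxy (congrArg Subtype.val ((IsMulCommutative.is_comm (M := H)).comm
      ⟨x, Subgroup.mem_sup_right (Subgroup.mem_zpowers x)⟩
      ⟨y, Subgroup.mem_sup_left (Subgroup.mem_sup_right (Subgroup.mem_zpowers y))⟩))
    obtain ⟨i, hi, hHi⟩ := (Nat.dvd_prime_pow hp.out).1 hH
    refine ⟨H, ?_, hnc⟩
    rw [hHi]
    congr 1
    by_contra h3
    apply hnc
    interval_cases i
    · have : Subsingleton H := (Nat.card_eq_one_iff_unique.1 (by rw [hHi, pow_zero])).1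
      exact ⟨⟨fun a b => Subsingleton.elim _ _⟩⟩
    · haveI : IsCyclic H := isCyclic_of_prime_card (p := p) (by rw [hHi, pow_one])
      infer_instance
    · exact ⟨⟨IsPGroup.commutative_of_card_eq_prime_sq hHi⟩⟩
    · exact absurd rfl h3
  -- hence abelian subgroups have order at most p ^ 2
  have habel : ∀ A : Subgroup P, IsMulCommutative A → ∀ a, Nat.card A = p ^ a → a ≤ 2 := by
    intro A hA a ha
    by_contra h
    obtain ⟨B, hBcard⟩ := Sylow.exists_subgroup_card_pow_prime (G := A) p (n := 3) (ha ▸ pow_dvd_pow p (by omega))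
    obtain ⟨e⟩ := hiso H0 (B.map A.subtype) (by rw [hH0, Subgroup.card_subtype, hBcard])
    apply hH0n
    refine ⟨⟨fun u v => e.injective ?_⟩⟩
    rw [map_mul, map_mul]
    exact Subtype.ext (by simpa using congrArg Subtype.val (hA.is_comm.comm ⟨_, Subgroup.map_subtype_le _ (e u).2⟩ ⟨_, Subgroup.map_subtype_le _ (e v).2⟩))
  obtain ⟨A, -, hA⟩ := Finite.exists_le_maximal (p := fun B : Subgroup P => B.Normal ∧ IsMulCommutative B)
    (a := ⊥) ⟨inferInstance, inferInstance⟩
  haveI := hA.prop.1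
  obtain ⟨a, ha⟩ := IsPGroup.iff_card.1 (hP.to_subgroup A)
  have ha2 := habel A hA.prop.2 a ha
  have hCA := CfsgLib.PGroup.centralizer_eq_of_maximal_normal_abelian hP A hA.prop.2
    (fun B hB hB' hAB => le_antisymm (hA.2 ⟨hB, hB'⟩ hAB) hAB)
  have hidx := CfsgLib.PGroup.index_centralizer_le hP a A ha
  rw [hCA] at hidx
  have hcard := Subgroup.card_mul_index A
  rw [ha, hn] at hcard
  have h1 : p ^ n ≤ p ^ 3 := by
    rw [← hcard]
    calc p ^ a * A.index ≤ p ^ a * p ^ (a * (a - 1) / 2) := Nat.mul_le_mul_left _ hidx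
      _ = p ^ (a + a * (a - 1) / 2) := (pow_add _ _ _).symm
      _ ≤ p ^ 3 := Nat.pow_le_pow_right hp.out.pos (by interval_cases a <;> norm_num)
  have := (Nat.pow_le_pow_iff_right hp.out.one_lt).1 h1
  rw [hn, show n = 3 by omega]

theorem classify {P : Type*} [Group P] [Finite P] {p : ℕ} [hp : Fact p.Prime] (hP : IsPGroup p P)
    (hiso : ∀ H K : Subgroup P, Nat.card H = Nat.card K → Nonempty (H ≃* K)) :
    IsCyclic P ∨ ((∀ a b : P, a * b = b * a) ∧ (∀ a : P, a ^ p = 1)) ∨ (p = 2 ∧ Nonempty (P ≃* QuaternionGroup 2)) ∨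
      (p ≠ 2 ∧ ¬ IsMulCommutative P ∧ Nat.card P = p ^ 3 ∧ Monoid.exponent P = p) := by
  by_cases hexp : ∀ a : P, a ^ p = 1
  · by_cases hab : ∀ a b : P, a * b = b * a
    · exact Or.inr (Or.inl ⟨hab, hexp⟩)
    have hp2 : p ≠ 2 := by
      intro h2
      apply hab
      intro a b
      have hinv : ∀ a : P, a⁻¹ = a := fun a => by
        rw [inv_eq_iff_mul_eq_one, ← pow_two, ← h2]; exact hexp a
      calc a * b = (a * b)⁻¹ := (hinv _).symm
        _ = b * a := by rw [mul_inv_rev, hinv, hinv]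
    refine Or.inr (Or.inr (Or.inr ⟨hp2, fun h => hab fun a b => h.is_comm.comm a b, card_eq hP hexp hab hiso, ?_⟩))
    haveI : Nontrivial P := by
      by_contra h
      rw [not_nontrivial_iff_subsingleton] at h
      exact hab fun a b => Subsingleton.elim _ _
    rcases (Nat.dvd_prime hp.out).1 (Monoid.exponent_dvd_of_forall_pow_eq_one hexp) with h | h
    · exact absurd (Monoid.exp_eq_one_iff.1 h) (not_subsingleton P)
    · exact h
  · push Not at hexp
    obtain ⟨a0, ha0⟩ := hexp
    obtain ⟨k, hk⟩ := IsPGroup.iff_orderOf.1 hP a0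
    have hk2 : 2 ≤ k := by
      by_contra h
      apply ha0
      rw [← orderOf_dvd_iff_pow_eq_one, hk]
      calc p ^ k ∣ p ^ 1 := pow_dvd_pow p (by omega)
        _ = p := pow_one p
    set w := a0 ^ p ^ (k - 2) with hwdef
    have hw : orderOf w = p * p := by
      rw [hwdef, orderOf_pow_of_dvd (pow_ne_zero _ hp.out.ne_zero) (hk ▸ pow_dvd_pow p (by omega)), hk,
        Nat.pow_div (by omega) hp.out.pos, show k - (k - 2) = 2 by omega, pow_two]
    have hnoE : ∀ u v : P, u ^ p = 1 → u ≠ 1 → v ^ p = 1 → u * v = v * u → v ∈ Subgroup.zpowers u := by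
      intro u v hu hu1 hv huv
      by_contra hvu
      have hv1 : v ≠ 1 := fun h => hvu (h ▸ one_mem _)
      have hou : orderOf u = p := orderOf_eq_prime hu hu1
      have hov : orderOf v = p := orderOf_eq_prime hv hv1
      have hle : Subgroup.zpowers v ≤ Subgroup.normalizer ((Subgroup.zpowers u : Subgroup P) : Set P) :=
        Subgroup.zpowers_le.2 (CfsgLib.FGS73.mem_normalizer_zpowers
          (by rw [← huv, mul_assoc, mul_inv_cancel, mul_one]; exact Subgroup.mem_zpowers u))
      have hdis : Disjoint (Subgroup.zpowers u) (Subgroup.zpowers v) := by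
        rw [disjoint_iff]
        rw [Subgroup.eq_bot_iff_forall]
        intro y hy
        by_contra hy1
        apply hvu
        haveI : Fact (Nat.card (Subgroup.zpowers v)).Prime := ⟨by rw [Nat.card_zpowers, hov]; exact hp.out⟩
        rcases ((Subgroup.zpowers u).subgroupOf (Subgroup.zpowers v)).eq_bot_or_eq_top_of_prime_card with h | h
        · rw [Subgroup.subgroupOf_eq_bot, disjoint_iff] at h
          exact absurd (Subgroup.mem_bot.1 (h ▸ hy)) hy1
        · exact Subgroup.subgroupOf_eq_top.1 h (Subgroup.mem_zpowers v)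
      have hcard : Nat.card (Subgroup.zpowers u ⊔ Subgroup.zpowers v : Subgroup P) = p * p := by
        rw [CfsgLib.Solvable.card_sup_of_disjoint hle hdis, Nat.card_zpowers, Nat.card_zpowers, hou, hov]
      obtain ⟨e⟩ := hiso (Subgroup.zpowers w) (Subgroup.zpowers u ⊔ Subgroup.zpowers v)
        (by rw [hcard, Nat.card_zpowers, hw])
      have hall : ∀ x ∈ Subgroup.zpowers u ⊔ Subgroup.zpowers v, x ^ p = 1 := by
        intro x hx
        rw [← SetLike.mem_coe, Subgroup.coe_mul_of_right_le_normalizer_left _ _ hle] at hx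
        obtain ⟨a, ha, b, hb, rfl⟩ := hx
        obtain ⟨i, rfl⟩ := Subgroup.mem_zpowers_iff.1 ha
        obtain ⟨j, rfl⟩ := Subgroup.mem_zpowers_iff.1 hb
        show (u ^ i * v ^ j) ^ p = 1
        rw [(Commute.zpow_zpow huv i j).mul_pow, ← zpow_natCast, ← zpow_natCast, ← zpow_mul, ← zpow_mul, mul_comm i,
          mul_comm j, zpow_mul, zpow_mul, zpow_natCast, zpow_natCast, hu, hv, one_zpow, one_zpow, one_mul]
      have h1 : (e ⟨w, Subgroup.mem_zpowers w⟩) ^ p = 1 := Subtype.ext (hall _ (e _).2)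
      rw [← map_pow, map_eq_one_iff _ e.injective] at h1
      have h2 : w ^ p = 1 := congrArg Subtype.val h1
      have := orderOf_dvd_iff_pow_eq_one.2 h2
      rw [hw] at this
      have := Nat.le_of_dvd hp.out.pos this
      nlinarith [hp.out.two_le]
    haveI : Nontrivial P := ⟨⟨a0, 1, fun h => ha0 (by rw [h, one_pow])⟩⟩
    haveI := hP.center_nontrivial
    obtain ⟨n, hn⟩ := IsPGroup.iff_card.1 (hP.to_subgroup (Subgroup.center P))
    have hn0 : n ≠ 0 := fun h => by
      rw [h, pow_zero] at hn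
      exact absurd hn (Finite.one_lt_card (α := Subgroup.center P)).ne'
    obtain ⟨z, hz⟩ := exists_prime_orderOf_dvd_card' p (hn ▸ dvd_pow_self p hn0)
    have hzp : (z : P) ^ p = 1 := by rw [← hz, ← Subgroup.orderOf_coe]; exact pow_orderOf_eq_one _
    have hz1 : (z : P) ≠ 1 := fun h => hp.out.ne_one (by rw [← hz, ← Subgroup.orderOf_coe, h, orderOf_one])
    rcases Cfsg.Agent.S0016.result p hP (fun H K hH hK => by
      have key : ∀ H : Subgroup P, Nat.card H = p → H = Subgroup.zpowers (z : P) := by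
        intro H hH
        refine Subgroup.eq_of_le_of_card_ge (fun v hv => ?_) (by rw [Nat.card_zpowers, Subgroup.orderOf_coe, hz, hH])
        refine hnoE z v hzp hz1 ?_ (Subgroup.mem_center_iff.1 z.2 v).symm
        have := congrArg Subtype.val (pow_card_eq_one' (x := (⟨v, hv⟩ : H)))
        rwa [hH] at this
      rw [key H hH, key K hK]) with h | ⟨h2, n, ⟨e⟩⟩
    · exact Or.inl h
    rcases n with _ | _ | n
    · left
      have : IsCyclic (QuaternionGroup (2 ^ 0)) :=
        isCyclic_of_orderOf_eq_card (QuaternionGroup.xa 0) (by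
          rw [QuaternionGroup.orderOf_xa, Nat.card_eq_fintype_card, QuaternionGroup.card]; rfl)
      exact isCyclic_of_surjective e.symm.toMonoidHom e.symm.surjective
    · exact Or.inr (Or.inr (Or.inl ⟨h2, ⟨e⟩⟩))
    · exfalso
      haveI : NeZero (2 ^ (n + 1)) := ⟨pow_ne_zero _ two_ne_zero⟩
      refine quaternion_four_dvd_false (t := 2 ^ (n + 1)) (dvd_pow_self 2 (Nat.succ_ne_zero n)) ?_
      have he : QuaternionGroup (2 ^ (n + 2)) = QuaternionGroup (2 * 2 ^ (n + 1)) := by rw [← pow_succ']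
      rw [show 2 * 2 ^ (n + 1) = 2 ^ (n + 1 + 1) from (pow_succ' 2 (n + 1)).symm]
      intro H K hHK
      obtain ⟨e'⟩ := hiso (H.map e.symm.toMonoidHom) (K.map e.symm.toMonoidHom)
        (by rw [Subgroup.card_map_of_injective e.symm.injective, Subgroup.card_map_of_injective e.symm.injective, hHK])
      exact ⟨(H.equivMapOfInjective _ e.symm.injective).trans (e'.trans (K.equivMapOfInjective _ e.symm.injective).symm)⟩


/-- Let p be a prime and G a finite group in which any two p-subgroups of the same order are conjugate, with Sylow p-subgroup P. Then P is cyclic, or elementary abelian, or p = 2 and P is a quaternion group of order 8, or p is odd and P is non-abelian of order p³ and exponent p. -/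
theorem result {G : Type*} [Group G] [Finite G]
    {p : ℕ} [Fact p.Prime] (hC : ∀ H K : Subgroup G, IsPGroup p H → IsPGroup p K → Nat.card H = Nat.card K →
      ∃ g : G, K = H.map (MulAut.conj g).toMonoidHom) (P : Sylow p G) :
    IsCyclic P ∨ Cfsg.IsElementaryAbelian p (P : Subgroup G) ∨
      (p = 2 ∧ Nonempty ((P : Subgroup G) ≃* QuaternionGroup 2)) ∨
      (p ≠ 2 ∧ ¬ IsMulCommutative P ∧ Nat.card P = p ^ 3 ∧ Monoid.exponent P = p) := by
  have hiso : ∀ H K : Subgroup (P : Subgroup G), Nat.card H = Nat.card K → Nonempty (H ≃* K) := by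
    intro H K hHK
    obtain ⟨g, hg⟩ := hC (H.map (P : Subgroup G).subtype) (K.map (P : Subgroup G).subtype)
      ((P.isPGroup'.to_subgroup H).map _) ((P.isPGroup'.to_subgroup K).map _)
      (by rw [Subgroup.card_subtype, Subgroup.card_subtype, hHK])
    exact ⟨(H.equivMapOfInjective _ (Subgroup.subtype_injective _)).trans
      ((((MulAut.conj g).subgroupMap _).trans (MulEquiv.subgroupCongr hg.symm)).trans
        (K.equivMapOfInjective _ (Subgroup.subtype_injective _)).symm)⟩
  rcases classify P.isPGroup' hiso with h | ⟨h1, h2⟩ | h | h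
  · exact Or.inl h
  · exact Or.inr (Or.inl ⟨⟨⟨h1⟩⟩, fun a ha => congrArg Subtype.val (h2 ⟨a, ha⟩)⟩)
  · exact Or.inr (Or.inr (Or.inl h))
  · exact Or.inr (Or.inr (Or.inr h))

end Cfsg.Agent.S4023
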