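import Cfsg.Statements.S4024
import Cfsg.Agent.S4023
import Cfsg.Agent.Lib.Solvable.Core
import Cfsg.Agent.Lib.FGS73.Conj


set_option autoImplicit false
open Cfsg

namespace Cfsg.Agent.S4024

/-- Let p be an odd prime and G a finite group in which any two p-subgroups of the same order are conjugate, with Sylow p-subgroup P. If H is a normal p-solvable subgroup of G whose order is divisible by p, then P is abelian, and either P ≤ H or P is cyclic. -/
theorem result {G : Type*} [Group G] [Finite G]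
    {p : ℕ} [Fact p.Prime] (hp : p ≠ 2) (hC : ∀ H K : Subgroup G, IsPGroup p H → IsPGroup p K → Nat.card H = Nat.card K →
      ∃ g : G, K = H.map (MulAut.conj g).toMonoidHom) (P : Sylow p G)
    (H : Subgroup G) [H.Normal] (hsolv : Cfsg.IsPSolvable p H) (hdiv : p ∣ Nat.card H) :
    IsMulCommutative P ∧ ((P : Subgroup G) ≤ H ∨ IsCyclic P) := by
  have hprime : p.Prime := Fact.out
  -- every element of order p lies in H
  have hpH : ∀ v : G, orderOf v = p → v ∈ H := by
    intro v hv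
    obtain ⟨u, hu⟩ := exists_prime_orderOf_dvd_card' p hdiv
    have hcard : ∀ w : G, orderOf w = p → IsPGroup p (Subgroup.zpowers w) := fun w hw =>
      IsPGroup.of_card (n := 1) (by rw [Nat.card_zpowers, hw, pow_one])
    obtain ⟨g, hg⟩ := hC (Subgroup.zpowers (u : G)) (Subgroup.zpowers v) (hcard _ (by rw [Subgroup.orderOf_coe, hu]))
      (hcard _ hv) (by rw [Nat.card_zpowers, Nat.card_zpowers, hv, Subgroup.orderOf_coe, hu])
    obtain ⟨w, hw, hwv⟩ : v ∈ (Subgroup.zpowers (u : G)).map (MulAut.conj g).toMonoidHom :=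
      hg ▸ Subgroup.mem_zpowers v
    rw [← hwv]
    exact (inferInstance : H.Normal).conj_mem w (Subgroup.zpowers_le.2 u.2 hw) g
  have hPH : (∀ a : G, a ∈ (P : Subgroup G) → a ^ p = 1) → (P : Subgroup G) ≤ H := by
    intro hexp a ha
    by_cases ha1 : a = 1
    · subst ha1; exact one_mem H
    · exact hpH a (orderOf_eq_prime (hexp a ha) ha1)
  rcases Cfsg.Agent.S4023.result hC P with h | ⟨h1, h2⟩ | ⟨h, -⟩ | ⟨-, hnc, -, hexp⟩
  · exact ⟨inferInstance, Or.inr h⟩
  · exact ⟨h1, Or.inl (hPH h2)⟩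
  · exact absurd h hp
  exfalso
  apply hnc
  have hexp' : ∀ a : G, a ∈ (P : Subgroup G) → a ^ p = 1 := fun a ha => by
    have := Monoid.pow_exponent_eq_one (⟨a, ha⟩ : ↥(P : Subgroup G))
    rw [hexp] at this
    exact congrArg Subtype.val this
  have hPle := hPH hexp'
  set O := (Cfsg.pPrimeCore p H).map H.subtype with hO
  haveI : (Cfsg.pPrimeCore p H).Normal := CfsgLib.Solvable.pPrimeCore_normal p H
  haveI hOn : O.Normal := by
    haveI := CfsgLib.Solvable.pPrimeCore_characteristic p H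
    exact CfsgLib.Solvable.normal_map_subtype_of_characteristic H _
  have hOcard : ¬ p ∣ Nat.card O := by
    rw [hO, Subgroup.card_subtype]
    exact hprime.coprime_iff_not_dvd.1 (CfsgLib.Solvable.pPrimeCore_card_coprime p H).symm
  set Hb := H.map (QuotientGroup.mk' O)
  haveI hHbn : Hb.Normal := Subgroup.Normal.map inferInstance _ (QuotientGroup.mk'_surjective O)
  -- a nontrivial normal p-subgroup of the quotient
  obtain ⟨R, hRn, hRp, hRne⟩ : ∃ R : Subgroup (G ⧸ O), R.Normal ∧ IsPGroup p R ∧ R ≠ ⊥ := by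
    obtain ⟨n, S, hS0, hSn, hSm, hSnorm, hSstep⟩ := hsolv
    have htop : ¬ S (Fin.last n) ≤ Cfsg.pPrimeCore p H := by
      rw [hSn, top_le_iff]
      intro h
      apply hOcard
      rw [hO, Subgroup.card_subtype, h, Subgroup.card_top]
      exact hdiv
    have hex : ∃ i : Fin n, S i.castSucc ≤ Cfsg.pPrimeCore p H ∧ ¬ S i.succ ≤ Cfsg.pPrimeCore p H := by
      by_contra hno
      push Not at hno
      apply htop
      intro x hx
      revert x
      refine Fin.induction (motive := fun i => ∀ x, x ∈ S i → x ∈ Cfsg.pPrimeCore p H) ?_ ?_ (Fin.last n)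
      · intro x hx; rw [hS0, Subgroup.mem_bot] at hx; subst hx; exact one_mem _
      · exact fun i ih x hx => hno i ih hx
    obtain ⟨i, hle, hnle⟩ := hex
    haveI := hSnorm i.succ
    set φ : H →* G ⧸ O := (QuotientGroup.mk' O).comp H.subtype
    have hker : φ.ker = Cfsg.pPrimeCore p H := by
      rw [← MonoidHom.comap_ker, QuotientGroup.ker_mk', hO]
      exact Subgroup.comap_map_eq_self_of_injective H.subtype_injective _
    have hrel : φ.ker.relIndex (S i.succ) = Nat.card ((S i.succ).map φ) := Subgroup.relIndex_ker φ (K := S i.succ)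
    have hdvd : Nat.card ((S i.succ).map φ) ∣ (S i.castSucc).relIndex (S i.succ) := by
      rw [← hrel, hker]
      exact Subgroup.relIndex_dvd_of_le_left _ hle
    rcases hSstep i with ⟨m, hm⟩ | hcop
    · refine ⟨Cfsg.pCore p (G ⧸ O), CfsgLib.Solvable.pCore_normal p _, CfsgLib.Solvable.pCore_isPGroup p _, ?_⟩
      intro hbot
      apply hnle
      rw [hm] at hdvd
      obtain ⟨j, -, hj⟩ := (Nat.dvd_prime_pow hprime).1 hdvd
      set T := ((S i.succ).map φ).subgroupOf Hb
      have hle' : (S i.succ).map φ ≤ Hb := by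
        rintro _ ⟨s, -, rfl⟩; exact ⟨s, s.2, rfl⟩
      have hTn : T.Normal := by
        refine ⟨fun a ha g => ?_⟩
        rw [Subgroup.mem_subgroupOf] at ha ⊢
        obtain ⟨s, hs, hsa⟩ := ha
        obtain ⟨g', hg', hgg⟩ := g.2
        refine ⟨⟨g', hg'⟩ * s * ⟨g', hg'⟩⁻¹, (hSnorm i.succ).conj_mem s hs _, ?_⟩
        rw [map_mul, map_mul, map_inv, hsa, show φ ⟨g', hg'⟩ = (g : G ⧸ O) from hgg]
        simp
      have hTp : IsPGroup p T :=
        (IsPGroup.of_card hj).of_equiv (Subgroup.subgroupOfEquivOfLe hle').symm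
      have h1 := (Subgroup.map_mono (f := Hb.subtype) (CfsgLib.Solvable.le_pCore hTn hTp)).trans
        (CfsgLib.Solvable.map_subtype_pCore_le Hb)
      rw [hbot, Subgroup.map_subgroupOf_eq_of_le hle', le_bot_iff, Subgroup.map_eq_bot_iff] at h1
      rwa [hker] at h1
    · exfalso
      apply hnle
      have hcard : (Nat.card (S i.succ ⊔ Cfsg.pPrimeCore p H : Subgroup H)).Coprime p := by
        rw [← Subgroup.card_mul_index ((Cfsg.pPrimeCore p H).subgroupOf (S i.succ ⊔ Cfsg.pPrimeCore p H)),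
          Nat.card_congr (Subgroup.subgroupOfEquivOfLe le_sup_right).toEquiv]
        refine Nat.Coprime.mul_left (CfsgLib.Solvable.pPrimeCore_card_coprime p H) ?_
        show ((Cfsg.pPrimeCore p H).relIndex (S i.succ ⊔ Cfsg.pPrimeCore p H)).Coprime p
        rw [Subgroup.relIndex_sup_right]
        exact hcop.coprime_dvd_left (Subgroup.relIndex_dvd_of_le_left _ hle)
      exact le_sup_left.trans (CfsgLib.Solvable.le_pPrimeCore inferInstance hcard)
  -- R contains the image of P
  set Pb := P.mapSurjective (QuotientGroup.mk'_surjective O)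
  have hPb : (Pb : Subgroup (G ⧸ O)) = (P : Subgroup G).map (QuotientGroup.mk' O) := Sylow.coe_mapSurjective _ _
  have hdisj : ∀ a ∈ (P : Subgroup G), QuotientGroup.mk' O a = 1 → a = 1 := by
    intro a ha h
    rw [← Subgroup.mem_bot]
    exact CfsgLib.FGS73.mem_of_pow_mem_coprime (hprime.coprime_iff_not_dvd.2 hOcard)
      (by rw [hexp' a ha]; exact one_mem _)
      (by rw [show a ^ Nat.card O = 1 from congrArg Subtype.val (pow_card_eq_one' (x := (⟨a, (QuotientGroup.eq_one_iff a).1 h⟩ : O)))]; exact one_mem _)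
  haveI := hRn
  obtain ⟨r, hrR, hr1⟩ := (Subgroup.bot_or_exists_ne_one R).resolve_left hRne
  have hrP : r ∈ (Pb : Subgroup (G ⧸ O)) :=
    ((CfsgLib.Solvable.le_pCore hRn hRp).trans (CfsgLib.Solvable.pCore_le_sylow Pb)) hrR
  rw [hPb] at hrP
  obtain ⟨u, hu, rfl⟩ := hrP
  have hou : orderOf u = p := orderOf_eq_prime (hexp' u hu) (fun h => hr1 (by rw [h, map_one]))
  have hconj : ∀ (a b : G), orderOf a = p → orderOf b = p → ∀ K : Subgroup (G ⧸ O), K.Normal →
      QuotientGroup.mk' O a ∈ K → QuotientGroup.mk' O b ∈ K := by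
    intro a b ha hb K hK haK
    have hcard : ∀ w : G, orderOf w = p → IsPGroup p (Subgroup.zpowers w) := fun w hw =>
      IsPGroup.of_card (n := 1) (by rw [Nat.card_zpowers, hw, pow_one])
    obtain ⟨g, hg⟩ := hC (Subgroup.zpowers a) (Subgroup.zpowers b) (hcard _ ha)
      (hcard _ hb) (by rw [Nat.card_zpowers, Nat.card_zpowers, hb, ha])
    obtain ⟨w, hw, rfl⟩ : b ∈ (Subgroup.zpowers a).map (MulAut.conj g).toMonoidHom := hg ▸ Subgroup.mem_zpowers b
    obtain ⟨i, rfl⟩ := Subgroup.mem_zpowers_iff.1 hw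
    simp only [MulEquiv.coe_toMonoidHom, MulAut.conj_apply, map_mul, map_inv, map_zpow]
    exact zpow_mem (hK.conj_mem _ haK _) i
  have hPR : (Pb : Subgroup (G ⧸ O)) = R := by
    refine le_antisymm ?_ ((CfsgLib.Solvable.le_pCore hRn hRp).trans (CfsgLib.Solvable.pCore_le_sylow Pb))
    rw [hPb]
    rintro _ ⟨v, hv, rfl⟩
    by_cases hv1 : v = 1
    · rw [hv1, map_one]; exact one_mem _
    · exact hconj u v hou (orderOf_eq_prime (hexp' v hv) hv1) R hRn hrR
  haveI : Nontrivial ↥(P : Subgroup G) :=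
    ⟨⟨⟨u, hu⟩, 1, fun h => hr1 (by rw [show u = 1 from congrArg Subtype.val h, map_one])⟩⟩
  haveI := P.isPGroup'.center_nontrivial
  obtain ⟨z, hz⟩ := exists_ne (1 : Subgroup.center ↥(P : Subgroup G))
  set Z := (Subgroup.center R).map R.subtype with hZ
  haveI : Z.Normal := CfsgLib.Solvable.normal_map_subtype_of_characteristic R _
  have hzZ : QuotientGroup.mk' O ((z : ↥(P : Subgroup G)) : G) ∈ Z := by
    have hzR : QuotientGroup.mk' O ((z : ↥(P : Subgroup G)) : G) ∈ R := by
      rw [← hPR, hPb]; exact ⟨_, (z : ↥(P : Subgroup G)).2, rfl⟩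
    refine ⟨⟨_, hzR⟩, Subgroup.mem_center_iff.2 fun y => Subtype.ext ?_, rfl⟩
    obtain ⟨v, hv, hvy⟩ : (y : G ⧸ O) ∈ (P : Subgroup G).map (QuotientGroup.mk' O) := hPb ▸ hPR.symm ▸ y.2
    show (y : G ⧸ O) * _ = _ * (y : G ⧸ O)
    rw [← hvy, ← map_mul, ← map_mul]
    exact congrArg _ (congrArg Subtype.val (Subgroup.mem_center_iff.1 z.2 ⟨v, hv⟩))
  have hoz : orderOf ((z : ↥(P : Subgroup G)) : G) = p :=
    orderOf_eq_prime (hexp' _ (z : ↥(P : Subgroup G)).2) (fun h => hz (Subtype.ext (Subtype.ext h)))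
  refine ⟨⟨fun a b => Subtype.ext ?_⟩⟩
  by_cases ha1 : (a : G) = 1
  · simp [ha1]
  obtain ⟨y, hy, hya⟩ := hconj _ _ hoz (orderOf_eq_prime (hexp' a a.2) ha1) Z inferInstance hzZ
  have hbR : QuotientGroup.mk' O (b : G) ∈ R := by rw [← hPR, hPb]; exact ⟨_, b.2, rfl⟩
  have h1 := congrArg Subtype.val (Subgroup.mem_center_iff.1 hy ⟨_, hbR⟩)
  simp only [Subgroup.coe_mul, Subgroup.coe_subtype] at h1 hya
  rw [hya, ← map_mul, ← map_mul] at h1
  have h2 := hdisj (((b : G) * a)⁻¹ * (a * b)) (mul_mem (inv_mem (mul_mem b.2 a.2)) (mul_mem a.2 b.2))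
    (by rw [map_mul, map_inv, h1, inv_mul_cancel])
  exact (inv_mul_eq_one.1 h2).symm

end Cfsg.Agent.S4024
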