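import Cfsg.Statements.S4028
import Cfsg.Agent.Lib.FGS73.Conj


set_option autoImplicit false
open Cfsg

namespace Cfsg.Agent.S4028

/-- Let G be a finite group with Sylow 2-subgroup P. Then N_G(⟨x⟩) = C_G(x) holds for every 2-element x of G if and only if N_P(⟨y⟩) = C_P(y) holds for every y ∈ P (computed inside P). -/
theorem result {G : Type*} [Group G] [Finite G] (P : Sylow 2 G) :
    (∀ x : G, (∀ r : ℕ, r.Prime → r ∣ orderOf x → r = 2) →
      Subgroup.normalizer ((Subgroup.zpowers x : Subgroup G) : Set G) ≤ Subgroup.centralizer {x}) ↔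
    (∀ y : ↥(P : Subgroup G), Subgroup.normalizer ((Subgroup.zpowers y : Subgroup ↥(P : Subgroup G)) : Set ↥(P : Subgroup G)) ≤
        Subgroup.centralizer {y}) := by
  haveI : Fact (Nat.Prime 2) := ⟨Nat.prime_two⟩
  simp only [CfsgLib.FGS73.normalizer_zpowers_le_centralizer_iff]
  constructor
  · intro h y g hg
    have h2 : ∀ r : ℕ, r.Prime → r ∣ orderOf (y : G) → r = 2 := by
      intro r hr hdvd
      obtain ⟨k, hk⟩ := (IsPGroup.iff_orderOf.1 P.isPGroup') y
      rw [Subgroup.orderOf_coe, hk] at hdvd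
      exact (Nat.prime_dvd_prime_iff_eq hr Nat.prime_two).1 (hr.dvd_of_dvd_pow hdvd)
    refine Subtype.ext (h (y : G) h2 (g : G) ?_)
    obtain ⟨i, hi⟩ := Subgroup.mem_zpowers_iff.1 hg
    exact Subgroup.mem_zpowers_iff.2 ⟨i, by simpa using congrArg Subtype.val hi⟩
  · intro h x hx g hg
    obtain ⟨k, hk⟩ : ∃ k, orderOf x = 2 ^ k := ⟨_, Nat.eq_prime_pow_of_unique_prime_dvd (orderOf_pos x).ne' (fun {d} hd hd' => hx d hd hd')⟩
    obtain ⟨j, m, hm, hjm⟩ := Nat.exists_eq_two_pow_mul_odd (orderOf_pos g).ne'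
    have hgN := CfsgLib.FGS73.mem_normalizer_zpowers hg
    rw [← Subgroup.mem_centralizer_singleton_iff]
    refine CfsgLib.FGS73.mem_of_pow_mem_coprime (a := m) (b := 2 ^ j)
      ((Nat.coprime_two_right.2 hm).pow_right j) ?_ ?_
    · -- the 2-part lies in a 2-group containing x
      have hgm : (g ^ m) ^ (2 ^ j) = 1 := by rw [← pow_mul, mul_comm, ← hjm, pow_orderOf_eq_one]
      have hmN : g ^ m ∈ Subgroup.normalizer ((Subgroup.zpowers x : Subgroup G) : Set G) := pow_mem hgN m
      have h1 : IsPGroup 2 (Subgroup.zpowers (g ^ m)) := by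
        obtain ⟨i, -, hi⟩ := (Nat.dvd_prime_pow Nat.prime_two).1 (orderOf_dvd_of_pow_eq_one hgm)
        exact IsPGroup.of_card (n := i) (by rw [Nat.card_zpowers, hi])
      have h2 : IsPGroup 2 (Subgroup.zpowers x) := IsPGroup.of_card (n := k) (by rw [Nat.card_zpowers, hk])
      have h3 := h1.to_sup_of_normal_right' h2 (Subgroup.zpowers_le.2 hmN)
      obtain ⟨R, hR⟩ := h3.exists_le_sylow
      obtain ⟨c, hc⟩ := MulAction.exists_smul_eq G R P
      have hxP : MulAut.conj c x ∈ (P : Subgroup G) := by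
        rw [← hc, Sylow.coe_subgroup_smul]
        exact Subgroup.smul_mem_pointwise_smul _ _ _ (hR (le_sup_right (a := Subgroup.zpowers (g ^ m)) (Subgroup.mem_zpowers x)))
      have hgP : MulAut.conj c (g ^ m) ∈ (P : Subgroup G) := by
        rw [← hc, Sylow.coe_subgroup_smul]
        exact Subgroup.smul_mem_pointwise_smul _ _ _ (hR (le_sup_left (b := Subgroup.zpowers x) (Subgroup.mem_zpowers _)))
      obtain ⟨i, hi⟩ := Subgroup.mem_zpowers_iff.1 (CfsgLib.FGS73.conj_mem_zpowers_of_mem_normalizer hmN)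
      have := h ⟨_, hxP⟩ ⟨_, hgP⟩ (Subgroup.mem_zpowers_iff.2 ⟨i, Subtype.ext (by
        simp only [Subgroup.coe_zpow, Subgroup.coe_mul, Subgroup.coe_inv]
        rw [← map_zpow, hi, map_mul, map_mul, map_inv])⟩)
      have h4 : MulAut.conj c (g ^ m * x) = MulAut.conj c (x * g ^ m) := by
        rw [map_mul, map_mul]; exact congrArg Subtype.val this
      exact Subgroup.mem_centralizer_singleton_iff.2 ((MulAut.conj c).injective h4)
    · -- the odd part acts trivially on a cyclic 2-group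
      have hbN := pow_mem hgN (2 ^ j)
      have hbm : (g ^ 2 ^ j) ^ m = 1 := by rw [← pow_mul, ← hjm, pow_orderOf_eq_one]
      obtain ⟨e, he⟩ := Subgroup.mem_zpowers_iff.1 (CfsgLib.FGS73.conj_mem_zpowers_of_mem_normalizer hbN)
      generalize g ^ 2 ^ j = b at hbN hbm he
      have hiter : ∀ i : ℕ, b ^ i * x * (b ^ i)⁻¹ = x ^ (e ^ i) := by
        intro i
        induction i with
        | zero => simp
        | succ i ih =>
          calc b ^ (i + 1) * x * (b ^ (i + 1))⁻¹ = MulAut.conj b (b ^ i * x * (b ^ i)⁻¹) := by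
                simp [pow_succ', mul_assoc]
            _ = (b * x * b⁻¹) ^ (e ^ i) := by rw [ih, map_zpow]; rfl
            _ = x ^ (e ^ (i + 1)) := by rw [← he, ← zpow_mul, pow_succ']
      have h1 := hiter m
      rw [hbm, one_mul, inv_one, mul_one] at h1
      have h2 : (((e ^ m : ℤ)) : ZMod (2 ^ k)) = ((1 : ℤ) : ZMod (2 ^ k)) := by
        rw [ZMod.intCast_eq_intCast_iff, ← hk]
        exact zpow_eq_zpow_iff_modEq.1 (by rw [← h1, zpow_one])
      push_cast at h2
      haveI : NeZero (2 ^ k) := ⟨pow_ne_zero k two_ne_zero⟩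
      let u : (ZMod (2 ^ k))ˣ := Units.ofPowEqOne (e : ZMod (2 ^ k)) m h2 hm.pos.ne'
      have hu : u = 1 := by
        rw [← Subgroup.mem_bot]
        refine CfsgLib.FGS73.mem_of_pow_mem_coprime (a := m) (b := Fintype.card (ZMod (2 ^ k))ˣ) ?_ ?_ ?_
        · rw [ZMod.card_units_eq_totient]
          rcases k with _ | k
          · simp
          · rw [Nat.totient_prime_pow_succ Nat.prime_two]
            simpa using (Nat.coprime_two_right.2 hm).pow_right k
        · rw [Subgroup.mem_bot]; exact Units.ext (by rw [Units.val_pow_eq_pow_val]; exact h2)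
        · rw [Subgroup.mem_bot]; exact pow_card_eq_one
      have h3 : (e : ZMod (2 ^ k)) = ((1 : ℤ) : ZMod (2 ^ k)) := by
        simpa [u] using congrArg Units.val hu
      rw [ZMod.intCast_eq_intCast_iff, ← hk] at h3
      rw [zpow_eq_zpow_iff_modEq.2 h3, zpow_one] at he
      rw [Subgroup.mem_centralizer_singleton_iff]
      exact (eq_mul_inv_iff_mul_eq.1 he).symm

end Cfsg.Agent.S4028
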