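import Cfsg.Statements.S4029
import Cfsg.Agent.Lib.FGS73.Conj
import Cfsg.Agent.Lib.FGS73.FrattiniDual
import Cfsg.Agent.Lib.Char.Linear
import Cfsg.Agent.Lib.Char.Conj


set_option autoImplicit false
open Cfsg

namespace Cfsg.Agent.S4029

/-- Let P be a finite 2-group in which N_P(⟨y⟩) = C_P(y) for every y ∈ P. If s is the number of conjugacy classes of involutions of P, then #(P/Φ(P)) ≤ s + 1; in particular the subgroup generated by the involutions of P has order at least #(P/Φ(P)). -/
theorem result {P : Type*} [Group P] [Finite P] (hP : IsPGroup 2 P)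
    (hirr : ∀ y : P, Subgroup.normalizer ((Subgroup.zpowers y : Subgroup P) : Set P) ≤ Subgroup.centralizer {y}) :
    Nat.card (P ⧸ frattini P) ≤ Nat.card {c : ConjClasses P // ∃ y : P, ConjClasses.mk y = c ∧ orderOf y = 2} + 1 ∧
    Nat.card (P ⧸ frattini P) ≤ Nat.card (Subgroup.closure {y : P | orderOf y = 2}) := by
  classical
  haveI : Fact (Nat.Prime 2) := ⟨Nat.prime_two⟩
  set S := {c : ConjClasses P // ∃ y : P, ConjClasses.mk y = c ∧ orderOf y = 2}
  have hreal : ∀ g : P, IsConj g g⁻¹ → g ≠ 1 → orderOf g = 2 := by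
    intro g hg hg1
    obtain ⟨c, hc⟩ := isConj_iff.1 hg
    have h1 := (CfsgLib.FGS73.normalizer_zpowers_le_centralizer_iff.1 (hirr g)) c
      (by rw [hc]; exact inv_mem (Subgroup.mem_zpowers g))
    rw [h1, mul_assoc, mul_inv_cancel, mul_one] at hc
    exact orderOf_eq_prime (by rw [pow_two]; nth_rewrite 2 [hc]; exact mul_inv_cancel g) hg1
  -- real classes are the trivial class and the involution classes
  have hcls : Nat.card {C : ConjClasses P // ∀ g : P, ConjClasses.mk g = C → IsConj g g⁻¹} ≤ Nat.card S + 1 := by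
    rw [← Finite.card_option]
    refine Nat.card_le_card_of_injective
      (fun C => if h : ∃ y : P, ConjClasses.mk y = C.1 ∧ orderOf y = 2 then some ⟨C.1, h⟩ else none) ?_
    have hnone : ∀ C : {C : ConjClasses P // ∀ g : P, ConjClasses.mk g = C → IsConj g g⁻¹},
        ¬ (∃ y : P, ConjClasses.mk y = C.1 ∧ orderOf y = 2) → C.1 = ConjClasses.mk 1 := by
      intro C hC
      obtain ⟨g, hg⟩ := ConjClasses.exists_rep C.1
      by_cases hg1 : g = 1
      · rw [← hg, hg1]
      · exact absurd ⟨g, hg, hreal g (C.2 g hg) hg1⟩ hC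
    intro C D hCD
    dsimp only at hCD
    by_cases hC : ∃ y : P, ConjClasses.mk y = C.1 ∧ orderOf y = 2
    · by_cases hD : ∃ y : P, ConjClasses.mk y = D.1 ∧ orderOf y = 2
      · rw [dif_pos hC, dif_pos hD, Option.some.injEq, Subtype.mk.injEq] at hCD
        exact Subtype.ext hCD
      · rw [dif_pos hC, dif_neg hD] at hCD; exact absurd hCD (Option.some_ne_none _)
    · by_cases hD : ∃ y : P, ConjClasses.mk y = D.1 ∧ orderOf y = 2
      · rw [dif_pos hD, dif_neg hC] at hCD; exact absurd hCD.symm (Option.some_ne_none _)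
      · exact Subtype.ext ((hnone C hC).trans (hnone D hD).symm)
  have hchr : Nat.card (P ⧸ frattini P) ≤ Nat.card {χ : Cfsg.IrrCharacter P // ∀ g : P, ((χ : P → ℂ) g).im = 0} := by
    rw [← CfsgLib.FGS73.card_frattiniDual hP]
    refine Nat.card_le_card_of_injective
      (fun f => ⟨⟨_, CfsgLib.Char.isIrrCharacter_linear (f.comp (QuotientGroup.mk' (frattini P)))⟩, fun g => ?_⟩) ?_
    · rcases mul_self_eq_one_iff.1 (CfsgLib.FGS73.frattiniDual_val hP f (QuotientGroup.mk' (frattini P) g)) with h | h
      · show ((f (QuotientGroup.mk' (frattini P) g) : ℂˣ) : ℂ).im = 0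
        rw [h]; simp
      · show ((f (QuotientGroup.mk' (frattini P) g) : ℂˣ) : ℂ).im = 0
        rw [h]; simp
    · intro f f' hff
      ext g
      exact congrFun (congrArg (fun x => (x.1.1 : P → ℂ)) hff) g
  rw [CfsgLib.Char.card_real_irr_eq_card_real_classes] at hchr
  have hfirst := hchr.trans hcls
  refine ⟨hfirst, hfirst.trans ?_⟩
  rw [← Finite.card_option]
  let rep : Option S → Subgroup.closure {y : P | orderOf y = 2} := fun o => match o with
    | none => 1
    | some c => ⟨c.2.choose, Subgroup.subset_closure c.2.choose_spec.2⟩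
  refine Nat.card_le_card_of_injective rep ?_
  have hne : ∀ c : S, (c.2.choose : P) ≠ 1 := fun c h => by
    have := c.2.choose_spec.2
    rw [h, orderOf_one] at this
    exact absurd this (by norm_num)
  intro a b hab
  rcases a with _ | a <;> rcases b with _ | b
  · rfl
  · exact absurd (congrArg Subtype.val hab).symm (hne b)
  · exact absurd (congrArg Subtype.val hab) (hne a)
  · congr 1
    refine Subtype.ext ?_
    rw [← a.2.choose_spec.1, ← b.2.choose_spec.1]
    exact congrArg ConjClasses.mk (congrArg Subtype.val hab)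

end Cfsg.Agent.S4029
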