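import Cfsg.Statements.S4032
import Cfsg.Agent.Lib.FGS73.Conj


set_option autoImplicit false
open Cfsg

namespace Cfsg.Agent.S4032

open CfsgLib.FGS73 in
theorem aux {G : Type*} [Group G] [Finite G] (π : Set ℕ)
    (hirr : ∀ x : G, (∀ r : ℕ, r.Prime → r ∣ orderOf x → r ∈ π) → ∀ g : G, g * x * g⁻¹ ∈ Subgroup.zpowers x → g * x = x * g)
    (N : Subgroup G) [N.Normal] (hN : ∀ r : ℕ, r.Prime → r ∣ Nat.card N → r ∉ π) :
    ∀ (n : ℕ) (y : G ⧸ N), orderOf y = n → (∀ r : ℕ, r.Prime → r ∣ orderOf y → r ∈ π) →
      ∀ g : G ⧸ N, g * y * g⁻¹ ∈ Subgroup.zpowers y → g * y = y * g := by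
  intro n
  induction n using Nat.recOnPosPrimePosCoprime with
  | zero => intro y hy; exact absurd hy (orderOf_pos y).ne'
  | one => intro y hy _ g _; rw [orderOf_eq_one_iff.1 hy, mul_one, one_mul]
  | prime_pow r k hr hk =>
    haveI : Fact r.Prime := ⟨hr⟩
    intro y hy hπ g hg
    have hrπ : r ∈ π := hπ r hr (hy ▸ dvd_pow_self r hk.ne')
    have hrN : ¬ r ∣ Nat.card N := fun h => hN r hr h hrπ
    induction y using QuotientGroup.induction_on with
    | H x0 =>
      induction g using QuotientGroup.induction_on with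
      | H g =>
        let L : Subgroup G := (Subgroup.zpowers (x0 : G ⧸ N)).comap (QuotientGroup.mk' N)
        have hNL : N ≤ L := fun a ha => by
          show (a : G ⧸ N) ∈ Subgroup.zpowers (x0 : G ⧸ N)
          rw [(QuotientGroup.eq_one_iff a).2 ha]
          exact one_mem _
        have hLcard : Nat.card L = r ^ k * Nat.card N := by
          rw [← hy, ← Nat.card_zpowers]
          have h1 := Subgroup.card_mul_index (N.subgroupOf L)
          rw [Nat.card_congr (Subgroup.subgroupOfEquivOfLe hNL).toEquiv] at h1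
          rw [← h1, mul_comm]
          congr 1
          have h2 := Subgroup.relIndex_comap (⊥ : Subgroup (G ⧸ N)) (QuotientGroup.mk' N) L
          rw [MonoidHom.comap_bot, QuotientGroup.ker_mk',
            Subgroup.map_comap_eq_self_of_surjective (QuotientGroup.mk'_surjective N), Subgroup.relIndex_bot_left] at h2
          exact h2
        obtain ⟨R⟩ := (inferInstance : Nonempty (Sylow r L))
        have hR : Nat.card (R : Subgroup L) = r ^ k := by
          rw [Sylow.card_eq_multiplicity R, hLcard, Nat.factorization_mul (pow_ne_zero k hr.ne_zero) Nat.card_pos.ne',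
            Nat.Prime.factorization_pow hr]
          simp [Nat.factorization_eq_zero_of_not_dvd hrN]
        -- a lift of y generating a Sylow subgroup of L
        have hRimg : ((R : Subgroup L).map L.subtype).map (QuotientGroup.mk' N) = Subgroup.zpowers (x0 : G ⧸ N) := by
          apply Subgroup.eq_of_le_of_card_ge
          · rintro _ ⟨_, ⟨a, -, rfl⟩, rfl⟩
            exact a.2
          · rw [Nat.card_zpowers, hy, ← hR, ← Subgroup.card_subtype]
            refine Nat.le_of_eq (Nat.card_congr (Equiv.ofBijective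
              (fun a : ((R : Subgroup L).map L.subtype : Subgroup G) =>
                (⟨QuotientGroup.mk' N a, ⟨a, a.2, rfl⟩⟩ : ((R : Subgroup L).map L.subtype).map (QuotientGroup.mk' N))) ⟨?_, ?_⟩))
            · intro a b hab
              have h1 : ((a : G))⁻¹ * b ∈ N := QuotientGroup.eq.1 (congrArg Subtype.val hab)
              have h2 : ((a : G))⁻¹ * b ∈ (R : Subgroup L).map L.subtype := mul_mem (inv_mem a.2) b.2
              have hd : Disjoint N ((R : Subgroup L).map L.subtype) := Subgroup.disjoint_of_coprime_natCard (by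
                rw [Subgroup.card_subtype, hR]; exact ((hr.coprime_iff_not_dvd.2 hrN).pow_left k).symm)
              exact Subtype.ext (inv_mul_eq_one.1 (Subgroup.mem_bot.1 (hd.le_bot ⟨h1, h2⟩)))
            · rintro ⟨_, a, ha, rfl⟩
              exact ⟨⟨a, ha⟩, rfl⟩
        obtain ⟨x, hxR, hx⟩ : (x0 : G ⧸ N) ∈ ((R : Subgroup L).map L.subtype).map (QuotientGroup.mk' N) :=
          hRimg ▸ Subgroup.mem_zpowers _
        have hxord : orderOf x = r ^ k := by
          apply Nat.dvd_antisymm
          · have := orderOf_dvd_natCard (⟨x, hxR⟩ : ((R : Subgroup L).map L.subtype : Subgroup G))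
            rwa [Subgroup.card_subtype, hR, Subgroup.orderOf_mk] at this
          · rw [← hy, ← hx]; exact orderOf_map_dvd _ x
        have hxπ : ∀ q : ℕ, q.Prime → q ∣ orderOf x → q ∈ π := fun q hq hd => hπ q hq (by rw [hy, ← hxord]; exact hd)
        have hxL : x ∈ L := Subgroup.map_subtype_le _ hxR
        have hxgen : Subgroup.zpowers x = (R : Subgroup L).map L.subtype :=
          Subgroup.eq_of_le_of_card_ge (Subgroup.zpowers_le.2 hxR)
            (by rw [Subgroup.card_subtype, hR, Nat.card_zpowers, hxord])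
        have hgxL : g * x * g⁻¹ ∈ L := by
          show ((g * x * g⁻¹ : G) : G ⧸ N) ∈ Subgroup.zpowers (x0 : G ⧸ N)
          rw [QuotientGroup.mk_mul, QuotientGroup.mk_mul, QuotientGroup.mk_inv, show (x : G ⧸ N) = x0 from hx]
          exact hg
        -- move the conjugate Sylow subgroup back inside L
        have hgen : IsPGroup r (Subgroup.zpowers (⟨g * x * g⁻¹, hgxL⟩ : L)) := by
          refine IsPGroup.of_card (n := k) ?_
          rw [Nat.card_zpowers, ← Subgroup.orderOf_coe]
          exact ((MulAut.conj g).orderOf_eq x).trans hxord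
        obtain ⟨R', hR'⟩ := hgen.exists_le_sylow
        obtain ⟨l, hl⟩ := MulAction.exists_smul_eq L R' R
        have h1 : ((l : G) * g) * x * ((l : G) * g)⁻¹ ∈ Subgroup.zpowers x := by
          rw [hxgen]
          refine ⟨l * ⟨g * x * g⁻¹, hgxL⟩ * l⁻¹, ?_, by simp [mul_assoc]⟩
          rw [← hl, Sylow.coe_subgroup_smul]
          exact ⟨_, hR' (Subgroup.mem_zpowers _), rfl⟩
        have h2 := congrArg (fun a : G => (a : G ⧸ N)) (hirr x hxπ _ h1)
        simp only [QuotientGroup.mk_mul] at h2
        rw [show (x : G ⧸ N) = x0 from hx] at h2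
        obtain ⟨i, hi⟩ := Subgroup.mem_zpowers_iff.1 (show ((l : G) : G ⧸ N) ∈ Subgroup.zpowers (x0 : G ⧸ N) from l.2)
        rw [← hi, ← mul_assoc (x0 : G ⧸ N), ← (Commute.zpow_self (x0 : G ⧸ N) i).eq, mul_assoc, mul_assoc] at h2
        exact mul_left_cancel h2
  | coprime a b ha hb hab iha ihb =>
    intro y hy hπ g hg
    obtain ⟨i, hi⟩ := Subgroup.mem_zpowers_iff.1 hg
    have hpow : ∀ c : ℕ, g * y ^ c * g⁻¹ ∈ Subgroup.zpowers (y ^ c) := fun c => by
      refine Subgroup.mem_zpowers_iff.2 ⟨i, ?_⟩
      rw [← conj_pow, ← hi, ← zpow_natCast (y ^ i), ← zpow_mul, ← zpow_natCast y, ← zpow_mul, mul_comm]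
    have hdvd : ∀ c : ℕ, ∀ r : ℕ, r.Prime → r ∣ orderOf (y ^ c) → r ∈ π :=
      fun c r hr hd => hπ r hr (hd.trans (orderOf_pow_dvd c))
    have hyb := iha (y ^ b) (by rw [orderOf_pow_of_dvd (by omega) (hy ▸ dvd_mul_left b a), hy, Nat.mul_div_cancel _ (by omega)]) (hdvd b) g (hpow b)
    have hya := ihb (y ^ a) (by rw [orderOf_pow_of_dvd (by omega) (hy ▸ dvd_mul_right a b), hy, Nat.mul_div_cancel_left _ (by omega)]) (hdvd a) g (hpow a)
    have := mem_of_pow_mem_coprime (H := Subgroup.centralizer {g}) hab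
      (Subgroup.mem_centralizer_singleton_iff.2 hya.symm) (Subgroup.mem_centralizer_singleton_iff.2 hyb.symm)
    exact (Subgroup.mem_centralizer_singleton_iff.1 this).symm


/-- Let π be a set of primes and G a finite group in which N_G(⟨x⟩) = C_G(x) for every π-element x. If N is a normal subgroup of G whose order is divisible by no prime of π, then G/N has the same property: N_{G/N}(⟨y⟩) = C_{G/N}(y) for every π-element y of G/N. -/
theorem result {G : Type*} [Group G] [Finite G] (π : Set ℕ)
    (hirr : ∀ x : G, (∀ r : ℕ, r.Prime → r ∣ orderOf x → r ∈ π) →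
      Subgroup.normalizer ((Subgroup.zpowers x : Subgroup G) : Set G) ≤ Subgroup.centralizer {x})
    (N : Subgroup G) [N.Normal] (hN : ∀ r : ℕ, r.Prime → r ∣ Nat.card N → r ∉ π) :
    ∀ y : G ⧸ N, (∀ r : ℕ, r.Prime → r ∣ orderOf y → r ∈ π) →
      Subgroup.normalizer ((Subgroup.zpowers y : Subgroup (G ⧸ N)) : Set (G ⧸ N)) ≤ Subgroup.centralizer {y} := by
  intro y hy
  rw [CfsgLib.FGS73.normalizer_zpowers_le_centralizer_iff]
  exact aux π (fun x hx => CfsgLib.FGS73.normalizer_zpowers_le_centralizer_iff.1 (hirr x hx)) N hN (orderOf y) y rfl hy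

end Cfsg.Agent.S4032
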