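import Cfsg.Statements.S4035
import Cfsg.Agent.Lib.FGS73.Conj
import Cfsg.Agent.Lib.FGS73.Cover
import Cfsg.Agent.Lib.ClassSize.SylowCentralizer


set_option autoImplicit false
open Cfsg

namespace Cfsg.Agent.S4035

/-- Let G be a finite group and p a prime such that p divides the size of no conjugacy class of p-regular elements (elements of order prime to p). Then G is the internal direct product of a Sylow p-subgroup P and a normal subgroup H of order prime to p: P is normal, P ⊓ H = 1 and PH = G. -/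
theorem result {G : Type*} [Group G] [Finite G] {p : ℕ} [Fact p.Prime]
    (h : ∀ x : G, (orderOf x).Coprime p → ¬ p ∣ (ConjClasses.mk x).carrier.ncard) (P : Sylow p G) :
    (P : Subgroup G).Normal ∧ ∃ H : Subgroup G, H.Normal ∧ ¬ p ∣ Nat.card H ∧
      (P : Subgroup G) ⊓ H = ⊥ ∧ (P : Subgroup G) ⊔ H = ⊤ := by
  have hp : p.Prime := Fact.out
  have hex : ∀ x : G, ¬ p ∣ orderOf x → ∃ R : Sylow p G, (R : Subgroup G) ≤ Subgroup.centralizer ({x} : Set G) := by
    intro x hx
    rw [CfsgLib.ClassSize.exists_sylow_le_centralizer_iff, ← CfsgLib.ClassSize.ncard_setOf_isConj]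
    have h0 := h x (hp.coprime_iff_not_dvd.2 hx).symm
    convert h0 using 3
    ext y
    rw [ConjClasses.mem_carrier_iff_mk_eq, ConjClasses.mk_eq_mk_iff_isConj]
    exact isConj_comm
  have hdec : ∀ g : G, ∃ a m : ℕ, orderOf g = p ^ a * m ∧ ¬ p ∣ m :=
    fun g => let ⟨a, m, h1, h2⟩ := Nat.exists_eq_pow_mul_and_not_dvd (orderOf_pos g).ne' p hp.ne_one; ⟨a, m, h2, h1⟩
  -- every element lies in a conjugate of `P C(P)`
  have htop : (P : Subgroup G) ⊔ Subgroup.centralizer ((P : Subgroup G) : Set G) = ⊤ := by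
    apply CfsgLib.FGS73.eq_top_of_forall_conj_mem
    intro g
    obtain ⟨a, m, ham, hm⟩ := hdec g
    have hm0 : m ≠ 0 := fun h0 => hm (h0 ▸ dvd_zero p)
    have hx : ¬ p ∣ orderOf (g ^ p ^ a) := by
      rw [orderOf_pow_of_dvd (pow_ne_zero _ hp.ne_zero) (by rw [ham]; exact dvd_mul_right _ _), ham,
        Nat.mul_div_cancel_left _ (pow_pos hp.pos _)]
      exact hm
    set C := Subgroup.centralizer ({g ^ p ^ a} : Set G) with hC
    have huC : g ^ m ∈ C :=
      Subgroup.mem_centralizer_singleton_iff.2 ((Commute.refl g).pow_pow m (p ^ a)).eq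
    have hzp : IsPGroup p (Subgroup.zpowers (⟨g ^ m, huC⟩ : C)) := by
      obtain ⟨i, -, hi⟩ := (Nat.dvd_prime_pow hp).1 (orderOf_dvd_of_pow_eq_one
        (show (⟨g ^ m, huC⟩ : C) ^ p ^ a = 1 from Subtype.ext (by
          simp only [SubmonoidClass.coe_pow, OneMemClass.coe_one]
          rw [← pow_mul, mul_comm, ← ham, pow_orderOf_eq_one])))
      exact IsPGroup.of_card (n := i) (by rw [Nat.card_zpowers, hi])
    obtain ⟨T, hT⟩ := hzp.exists_le_sylow
    obtain ⟨R, hR⟩ := (T.isPGroup'.map C.subtype).exists_le_sylow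
    obtain ⟨R0, hR0⟩ := hex _ hx
    -- the order of `R` is that of a Sylow subgroup of `C`
    have hRC : (R : Subgroup G) ≤ C := by
      have h1 : Nat.card (R : Subgroup G) ≤ Nat.card (T : Subgroup C) := by
        rw [Sylow.card_eq_multiplicity R, ← Sylow.card_eq_multiplicity R0]
        refine le_of_eq ?_
        rw [← Nat.card_congr (Subgroup.subgroupOfEquivOfLe hR0).toEquiv]
        exact (Sylow.card_eq_multiplicity (R0.subtype hR0)).trans (Sylow.card_eq_multiplicity T).symm
      have h2 : (T : Subgroup C).map C.subtype = (R : Subgroup G) :=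
        Subgroup.eq_of_le_of_card_ge hR (by rwa [Subgroup.card_subtype])
      rw [← h2]
      exact Subgroup.map_subtype_le _
    obtain ⟨c, rfl⟩ := MulAction.exists_smul_eq G P R
    refine ⟨c, CfsgLib.FGS73.mem_of_pow_mem_coprime (a := m) (b := p ^ a)
      ((hp.coprime_iff_not_dvd.2 hm).symm.pow_right a) ?_ ?_⟩
    · refine Subgroup.mem_sup_left ?_
      have h1 : g ^ m ∈ (c • P : Sylow p G).toSubgroup := hR ⟨_, hT (Subgroup.mem_zpowers _), rfl⟩
      rw [Sylow.coe_subgroup_smul, Subgroup.mem_pointwise_smul_iff_inv_smul_mem] at h1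
      have e : (c⁻¹ * g * c) ^ m = c⁻¹ * g ^ m * c := by
        simpa using (conj_pow (a := c⁻¹) (b := g) (i := m))
      rw [e]
      rw [← map_inv, MulAut.smul_def, MulAut.conj_apply, inv_inv] at h1
      exact h1
    · refine Subgroup.mem_sup_right ?_
      rw [Subgroup.mem_centralizer_iff]
      intro y hy
      have h1 : c * y * c⁻¹ ∈ (c • P : Sylow p G).toSubgroup := by
        rw [Sylow.coe_subgroup_smul]
        exact ⟨y, hy, rfl⟩
      have h2 := Subgroup.mem_centralizer_singleton_iff.1 (hRC h1)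
      have e : (c⁻¹ * g * c) ^ p ^ a = c⁻¹ * g ^ p ^ a * c := by
        simpa using (conj_pow (a := c⁻¹) (b := g) (i := p ^ a))
      rw [e]
      generalize g ^ p ^ a = x at h2
      calc y * (c⁻¹ * x * c) = c⁻¹ * (c * y * c⁻¹ * x) * c := by simp [mul_assoc]
        _ = c⁻¹ * (x * (c * y * c⁻¹)) * c := by rw [h2]
        _ = c⁻¹ * x * c * y := by simp [mul_assoc]
  have hPn : (P : Subgroup G).Normal := by
    rw [← Subgroup.normalizer_eq_top_iff, eq_top_iff, ← htop]
    refine sup_le Subgroup.le_normalizer fun x hx => ?_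
    rw [Subgroup.mem_normalizer_iff]
    intro y
    constructor
    · intro hy
      rwa [← Subgroup.mem_centralizer_iff.1 hx y hy, mul_assoc, mul_inv_cancel, mul_one]
    · intro hy
      have := Subgroup.mem_centralizer_iff.1 hx _ hy
      rw [inv_mul_cancel_right] at this
      rwa [← mul_left_cancel this] at hy
  refine ⟨hPn, ?_⟩
  haveI := hPn
  obtain ⟨H, hH⟩ := Subgroup.exists_right_complement'_of_coprime P.card_coprime_index
  have hHp : ¬ p ∣ Nat.card H := by
    rw [← hH.symm.index_eq_card]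
    exact P.not_dvd_index
  have hcent : ∀ x ∈ H, ∀ y ∈ (P : Subgroup G), x * y = y * x := by
    intro x hx y hy
    obtain ⟨R, hR⟩ := hex x fun hd => hHp (hd.trans (by
      rw [← Subgroup.orderOf_mk x hx]; exact orderOf_dvd_natCard _))
    haveI := P.unique_of_normal hPn
    rw [Subsingleton.elim R P] at hR
    exact (Subgroup.mem_centralizer_singleton_iff.1 (hR hy)).symm
  refine ⟨H, ?_, hHp, hH.disjoint.eq_bot, hH.sup_eq_top⟩
  rw [← Subgroup.normalizer_eq_top_iff, eq_top_iff, ← hH.sup_eq_top]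
  refine sup_le (fun y hy => ?_) Subgroup.le_normalizer
  rw [Subgroup.mem_normalizer_iff]
  intro x
  constructor
  · intro hx
    rwa [← hcent x hx y hy, mul_assoc, mul_inv_cancel, mul_one]
  · intro hx
    have := hcent _ hx y hy
    rw [inv_mul_cancel_right] at this
    rwa [← mul_left_cancel this] at hx

end Cfsg.Agent.S4035
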