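import Cfsg.Statements.S4036
import Mathlib


set_option autoImplicit false
open Cfsg

namespace Cfsg.Agent.S4036

/-- Let P be a finite abelian p-group and K a group of automorphisms of P (a subgroup of Aut P) whose order is divisible by p. If all non-identity elements of K have the same fixed-point subgroup on P, then K has no non-trivial normal subgroup of order prime to p. -/
theorem result {P : Type*} [CommGroup P] [Finite P] {p : ℕ}
    [Fact p.Prime] (hP : IsPGroup p P) (K : Subgroup (MulAut P)) (hK : p ∣ Nat.card K)
    (hfix : ∀ x y : MulAut P, x ∈ K → y ∈ K → x ≠ 1 → y ≠ 1 → ∀ v : P, x v = v ↔ y v = v) :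
    ∀ N : Subgroup ↥K, N.Normal → ¬ p ∣ Nat.card N → N = ⊥ := by
  intro N hN hNp
  classical
  haveI := Fintype.ofFinite N
  obtain ⟨x, hx⟩ := exists_prime_orderOf_dvd_card' p hK
  have hx1 : x ≠ 1 := fun h => (Fact.out : p.Prime).ne_one (by rw [← hx, h, orderOf_one])
  let app : N → P → P := fun n v => ((n : K) : MulAut P) v
  have happ_mul : ∀ (n m : N) (v : P), app (n * m) v = app n (app m v) := fun _ _ _ => rfl
  have happ_hom : ∀ (n : N) (v w : P), app n (v * w) = app n v * app n w := fun n v w => map_mul _ v w
  let e : P →* P :=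
    { toFun := fun v => ∏ n : N, app n v
      map_one' := Finset.prod_eq_one fun n _ => map_one ((n : K) : MulAut P)
      map_mul' := fun v w => by simp only [happ_hom, Finset.prod_mul_distrib] }
  have he : ∀ v, e v = ∏ n : N, app n v := fun _ => rfl
  have hfixE : ∀ (m : N) v, app m (e v) = e v := by
    intro m v
    rw [he]
    calc app m (∏ n : N, app n v) = ∏ n : N, app m (app n v) := map_prod ((m : K) : MulAut P) _ _
      _ = ∏ n : N, app n v := by
        simp only [← happ_mul]
        exact Fintype.prod_equiv (Equiv.mulLeft m) _ _ (fun _ => rfl)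
  let q := Fintype.card N
  have hfix' : ∀ w, (∀ n : N, app n w = w) → e w = w ^ q := by
    intro w hw
    rw [he, Finset.prod_congr rfl fun n _ => hw n, Finset.prod_const, Finset.card_univ]
  have hq : (Nat.card P).Coprime q := by
    obtain ⟨k, hk⟩ := IsPGroup.iff_card.1 hP
    rw [hk]
    refine Nat.Coprime.pow_left k ((Nat.Prime.coprime_iff_not_dvd Fact.out).2 ?_)
    rwa [Nat.card_eq_fintype_card] at hNp
  have hinj : Function.Injective (fun v : P => v ^ q) := (powCoprime hq).injective
  -- the kernel of the norm is trivial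
  have hker : ∀ v, e v = 1 → v = 1 := by
    by_contra hne
    push Not at hne
    obtain ⟨v0, hv0, hv01⟩ := hne
    let X := Subgroup.zpowers (x : MulAut P)
    have hX : IsPGroup p X := IsPGroup.of_card (n := 1) (by rw [Nat.card_zpowers, Subgroup.orderOf_coe, hx, pow_one])
    have hcomm : ∀ v, e ((x : MulAut P) v) = (x : MulAut P) (e v) := by
      intro v
      rw [he, he]
      symm
      calc (x : MulAut P) (∏ n : N, app n v) = ∏ n : N, (x : MulAut P) (app n v) := map_prod (x : MulAut P) _ _
        _ = ∏ n : N, app n ((x : MulAut P) v) := by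
          refine Fintype.prod_equiv
            { toFun := fun n : N => (⟨x * n * x⁻¹, hN.conj_mem _ n.2 x⟩ : N)
              invFun := fun n => ⟨x⁻¹ * n * x, by simpa using hN.conj_mem _ n.2 x⁻¹⟩
              left_inv := fun n => Subtype.ext (by simp [mul_assoc])
              right_inv := fun n => Subtype.ext (by simp [mul_assoc]) } _ _ (fun n => ?_)
          show _ = ((x * n * x⁻¹ : K) : MulAut P) ((x : MulAut P) v)
          simp only [Subgroup.coe_mul, Subgroup.coe_inv, MulAut.mul_apply]
          rw [MulAut.inv_apply_self]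
    let S : SubMulAction X P :=
      { carrier := {v | e v = 1}
        smul_mem' := by
          rintro ⟨y, hy⟩ v hv
          show e (y v) = 1
          simp only [Set.mem_ofPred_eq] at hv
          obtain ⟨i, rfl⟩ := (mem_powers_iff_mem_zpowers).2 hy
          clear hy
          induction i with
          | zero => simpa using hv
          | succ i ih =>
            show e (((x : MulAut P) ^ (i + 1)) v) = 1
            rw [pow_succ', MulAut.mul_apply, hcomm, ih, map_one] }
    have hpd : p ∣ Nat.card S := by
      have hcard : Nat.card S = Nat.card e.ker := Nat.card_congr (Equiv.refl _)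
      haveI : Nontrivial e.ker := ⟨⟨⟨v0, hv0⟩, 1, fun h => hv01 (congrArg Subtype.val h)⟩⟩
      obtain ⟨k, hk⟩ := IsPGroup.iff_card.1 (hP.to_subgroup e.ker)
      rw [hcard, hk]
      refine dvd_pow_self p fun h0 => ?_
      rw [h0, pow_zero] at hk
      exact absurd hk (Finite.one_lt_card (α := e.ker)).ne'
    have h1 : (⟨1, map_one e⟩ : S) ∈ MulAction.fixedPoints X S := fun g => Subtype.ext (map_one (g : MulAut P))
    obtain ⟨w, hw, hw1⟩ := hX.exists_fixed_point_of_prime_dvd_card_of_fixed_point S hpd h1
    have hxw : (x : MulAut P) (w : P) = w := congrArg Subtype.val (hw ⟨(x : MulAut P), Subgroup.mem_zpowers _⟩)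
    have hall : ∀ n : N, app n (w : P) = w := by
      intro n
      by_cases hn : (n : K) = 1
      · show ((n : K) : MulAut P) (w : P) = w
        rw [hn]; rfl
      · exact (hfix _ _ x.2 (n : K).2 (fun h => hx1 (Subtype.ext h)) (fun h => hn (Subtype.ext h)) (w : P)).1 hxw
    have hwq : (w : P) ^ q = 1 := (hfix' _ hall).symm.trans w.2
    exact hw1 (Subtype.ext (hinj (by simp only [one_pow, hwq])))
  rw [Subgroup.eq_bot_iff_forall]
  intro m hm
  refine Subtype.ext (MulEquiv.ext fun v => hinj ?_)
  have h2 : v ^ q = e v := by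
    apply eq_of_div_eq_one
    apply hker
    rw [map_div, map_pow, hfix' _ (fun n => hfixE n v), div_self']
  show (app ⟨m, hm⟩ v) ^ q = v ^ q
  rw [h2, show (app ⟨m, hm⟩ v) ^ q = app ⟨m, hm⟩ (v ^ q) from (map_pow ((m : K) : MulAut P) v q).symm, h2]
  exact hfixE _ v

end Cfsg.Agent.S4036
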