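import Cfsg.Statements.S4038
import Cfsg.Agent.Lib.NilpotentMaxAct.Main
import Cfsg.Agent.S0205

set_option autoImplicit false
open Cfsg

open scoped commutatorElement

namespace Cfsg.Agent.S4038

/-- Let A and G be finite groups of coprime orders with A acting on G by automorphisms. Suppose G has a proper A-invariant subgroup M, maximal among proper A-invariant subgroups, which is nilpotent and whose Sylow 2-subgroups have nilpotency class at most 2. Then G is solvable. -/
theorem result {G A : Type*} [Group G] [Finite G]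
    [Group A] [Finite A] (φ : A →* MulAut G) (hcop : (Nat.card A).Coprime (Nat.card G))
    (M : Subgroup G) (hMtop : M ≠ ⊤) (hMinv : ∀ a : A, ∀ m : G, m ∈ M → φ a m ∈ M)
    (hMmax : ∀ H : Subgroup G, M ≤ H → H ≠ ⊤ → (∀ a : A, ∀ h : G, h ∈ H → φ a h ∈ H) → H = M)
    (hnil : Group.IsNilpotent M) (h2 : ∀ S : Sylow 2 ↥M, Group.nilpotencyClass ↥(S : Subgroup ↥M) ≤ 2) :
    Group.IsSolvable G := by
  classical
  let _ : MulDistribMulAction A G := MulDistribMulAction.compHom G φ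
  refine CfsgLib.NilMaxAct.isSolvable_of_nilpotent_max (A := A)
    (fun X _ _ hX => Cfsg.Agent.S0205.result hX) (fun X _ _ hX => Cfsg.Agent.S0205.result hX)
    _ G rfl hcop M hMtop hMinv hMmax hnil ?_
  intro a ha b hb c hc hao hbo hco
  haveI := hnil
  obtain ⟨S⟩ := (inferInstance : Nonempty (Sylow 2 ↥M))
  have hSn : (S : Subgroup ↥M).Normal :=
    (Group.isNilpotent_of_finite_tfae.out 0 3 rfl rfl).1 hnil 2 inferInstance S
  have := Sylow.unique_of_normal S hSn
  have hmem : ∀ (x : G) (hx : x ∈ M), (∃ k, orderOf x = 2 ^ k) → (⟨x, hx⟩ : ↥M) ∈ (S : Subgroup ↥M) := by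
    rintro x hx ⟨k, hk⟩
    obtain ⟨T, hT⟩ := (IsPGroup.of_card (p := 2) (n := k) (G := Subgroup.zpowers (⟨x, hx⟩ : ↥M))
      (by rw [Nat.card_zpowers, Subgroup.orderOf_mk, hk])).exists_le_sylow
    rw [Subsingleton.elim T S] at hT
    exact hT (Subgroup.mem_zpowers _)
  haveI : Group.IsNilpotent ↥(S : Subgroup ↥M) := S.isPGroup'.isNilpotent
  have h3 : (⊤ : Subgroup ↥(S : Subgroup ↥M)).lowerCentralSeries 2 = ⊥ :=
    Subgroup.lowerCentralSeries_eq_bot_iff_nilpotencyClass_le.2 (h2 S)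
  let A' : ↥(S : Subgroup ↥M) := ⟨⟨a, ha⟩, hmem a ha hao⟩
  let B' : ↥(S : Subgroup ↥M) := ⟨⟨b, hb⟩, hmem b hb hbo⟩
  let C' : ↥(S : Subgroup ↥M) := ⟨⟨c, hc⟩, hmem c hc hco⟩
  have hm : ⁅⁅A', B'⁆, C'⁆ ∈ (⊤ : Subgroup ↥(S : Subgroup ↥M)).lowerCentralSeries 2 :=
    Subgroup.commutator_mem_commutator (Subgroup.commutator_mem_commutator (Subgroup.mem_top _)
      (Subgroup.mem_top _)) (Subgroup.mem_top _)
  rw [h3, Subgroup.mem_bot] at hm
  have hm' := congrArg (fun x : ↥(S : Subgroup ↥M) => ((x : ↥M) : G)) hm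
  exact commutatorElement_eq_one_iff_commute.1 (by simpa [commutatorElement_def] using hm')

end Cfsg.Agent.S4038
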