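import Cfsg.Statements.S4039
import Cfsg.Agent.Lib.FGS73.MaximalNilpotent

set_option autoImplicit false
open Cfsg
open scoped commutatorElement

namespace Cfsg.Agent.S4039

/-- A finite group possessing a maximal subgroup that is nilpotent of class at most 2 is solvable. -/
theorem result {G : Type*} [Group G] [Finite G]
    (M : Subgroup G) (hmax : IsCoatom M) (hnil : Group.IsNilpotent M) (hcl : Group.nilpotencyClass ↥M ≤ 2) :
    Group.IsSolvable G := by
  refine CfsgLib.FGS73.MaxNil.solvable_of_criterion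
    (fun G _ M => ∀ a ∈ M, ∀ b ∈ M, ∀ c ∈ M, Commute ⁅a, b⁆ c) ?_ ?_ _ G M rfl hmax hnil ?_
  · intro G _ _ M N _ h
    rintro _ ⟨a, ha, rfl⟩ _ ⟨b, hb, rfl⟩ _ ⟨c, hc, rfl⟩
    rw [← map_commutatorElement]
    exact (h a ha b hb c hc).map _
  · intro G _ _ M hM h q hq hd
    haveI := Fact.mk hq
    exact hM.npc_of_class_two h hd
  · intro a ha b hb c hc
    haveI := hnil
    have h2 : (⊤ : Subgroup M).lowerCentralSeries 2 = ⊥ :=
      Subgroup.lowerCentralSeries_eq_bot_iff_nilpotencyClass_le.2 hcl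
    have h3 : ⁅⁅(⟨a, ha⟩ : M), (⟨b, hb⟩ : M)⁆, (⟨c, hc⟩ : M)⁆ ∈ (⊤ : Subgroup M).lowerCentralSeries 2 := by
      simp only [Subgroup.lowerCentralSeries_succ, Subgroup.lowerCentralSeries_zero]
      exact Subgroup.commutator_mem_commutator
        (Subgroup.commutator_mem_commutator (Subgroup.mem_top _) (Subgroup.mem_top _)) (Subgroup.mem_top _)
    rw [h2, Subgroup.mem_bot, commutatorElement_eq_one_iff_commute] at h3
    exact congrArg Subtype.val h3.eq

end Cfsg.Agent.S4039
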