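import Cfsg.Statements.S4040
import Cfsg.Agent.Lib.FGS73.MaximalNilpotent

set_option autoImplicit false
open Cfsg

namespace Cfsg.Agent.S4040

/-- A finite group possessing a maximal subgroup that is nilpotent of odd order is solvable. -/
theorem result {G : Type*} [Group G] [Finite G]
    (M : Subgroup G) (hmax : IsCoatom M) (hnil : Group.IsNilpotent M) (hodd : Odd (Nat.card M)) :
    Group.IsSolvable G := by
  refine CfsgLib.FGS73.MaxNil.solvable_of_criterion (fun G _ M => Odd (Nat.card M)) ?_ ?_ _ G M rfl hmax hnil hodd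
  · intro G _ _ M N _ h
    exact h.of_dvd_nat (Subgroup.card_map_dvd M _)
  · intro G _ _ M hM h q hq hd
    haveI := Fact.mk hq
    refine hM.npc_of_odd ?_ hd
    rintro rfl
    exact (Nat.not_even_iff_odd.2 h) (even_iff_two_dvd.2 hd)

end Cfsg.Agent.S4040
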