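import Cfsg.Statements.S4043
import Mathlib
import Cfsg.Agent.Lib.FGS73.Conj
import Cfsg.Agent.Lib.Solvable.SchurZassenhaus


set_option autoImplicit false
open Cfsg
open scoped Pointwise

namespace Cfsg.Agent.S4043

/-- Let G be a finite group that is the semidirect product of a normal p-subgroup N by a subgroup A, and also of N by a subgroup A₁, where p is a prime and A and A₁ both have normal p-complements. If C_N(A) = C_N(A₁) = 1, then A₁ is conjugate to A by an element of N. -/
theorem result {G : Type*} [Group G] [Finite G] {p : ℕ}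
    [Fact p.Prime] (N : Subgroup G) [N.Normal] (hN : IsPGroup p N) (A A₁ : Subgroup G)
    (hA : A.IsComplement' N) (hA₁ : A₁.IsComplement' N)
    (hAp : Cfsg.HasNormalPComplement p A) (hA₁p : Cfsg.HasNormalPComplement p A₁)
    (hC : ∀ n : G, n ∈ N → (∀ a : G, a ∈ A → a * n * a⁻¹ = n) → n = 1)
    (hC₁ : ∀ n : G, n ∈ N → (∀ a : G, a ∈ A₁ → a * n * a⁻¹ = n) → n = 1) :
    ∃ n : G, n ∈ N ∧ A₁ = A.map (MulAut.conj n).toMonoidHom := by
  have hp : p.Prime := Fact.out
  obtain ⟨PA, K0, hK0n, hK0⟩ := hAp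
  obtain ⟨PA₁, K0₁, hK0₁n, hK0₁⟩ := hA₁p
  let K := K0.map A.subtype
  let K₁ := K0₁.map A₁.subtype
  have hcopK : ¬ p ∣ Nat.card K := by
    rw [Subgroup.card_subtype, ← hK0.index_eq_card]; exact PA.not_dvd_index
  have hcopK₁ : ¬ p ∣ Nat.card K₁ := by
    rw [Subgroup.card_subtype, ← hK0₁.index_eq_card]; exact PA₁.not_dvd_index
  have hidxA : A.index = Nat.card N := hA.symm.index_eq_card
  have hcardA : Nat.card A₁ = Nat.card A := by
    rw [← hA.index_eq_card, ← hA₁.index_eq_card]
  -- the complements are recognized by their prime-to-p parts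
  have hcardK : Nat.card K₁ = Nat.card K := by
    rw [Subgroup.card_subtype, Subgroup.card_subtype, ← hK0.index_eq_card, ← hK0₁.index_eq_card]
    have h1 := Subgroup.card_mul_index (PA₁ : Subgroup A₁)
    have h2 := Subgroup.card_mul_index (PA : Subgroup A)
    rw [hcardA, ← h2, Sylow.card_eq_multiplicity PA₁, Sylow.card_eq_multiplicity PA, hcardA] at h1
    exact Nat.eq_of_mul_eq_mul_left (pow_pos hp.pos _) h1
  have hK₁le : K₁ ≤ N ⊔ K := by
    intro x hx
    obtain ⟨⟨a, m⟩, rfl⟩ := hA.2 x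
    obtain ⟨k, hk⟩ := hN m
    refine mul_mem (Subgroup.mem_sup_right ?_) (Subgroup.mem_sup_left m.2)
    obtain ⟨i, hi⟩ := IsPGroup.iff_card.1 PA.isPGroup'
    have hai : a ^ p ^ i ∈ K0 := by
      rw [← hi, ← hK0.symm.index_eq_card]
      exact Subgroup.pow_index_mem _ _
    have hq : ((a : G) * m) ^ Nat.card K₁ = 1 := by
      have := pow_card_eq_one' (x := (⟨_, hx⟩ : K₁))
      exact congrArg Subtype.val this
    have haN : (a : G) ^ Nat.card K₁ ∈ N := by
      rw [← QuotientGroup.eq_one_iff, QuotientGroup.mk_pow]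
      have := congrArg (QuotientGroup.mk (s := N)) hq
      rw [QuotientGroup.mk_pow, QuotientGroup.mk_mul, (QuotientGroup.eq_one_iff (m : G)).2 m.2, mul_one] at this
      simpa using this
    have haq : a ^ Nat.card K₁ ∈ K0 := by
      have : a ^ Nat.card K₁ = 1 := by
        apply Subtype.ext
        have hd := hA.disjoint
        rw [Subgroup.disjoint_def] at hd
        simpa using hd (pow_mem a.2 _) haN
      rw [this]; exact one_mem _
    exact ⟨a, CfsgLib.FGS73.mem_of_pow_mem_coprime ((hp.coprime_iff_not_dvd.2 hcopK₁).pow_left i) hai haq, rfl⟩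
  have hcop : (Nat.card N).Coprime (Nat.card K) := by
    obtain ⟨i, hi⟩ := IsPGroup.iff_card.1 hN
    rw [hi]; exact ((hp.coprime_iff_not_dvd.2 hcopK).pow_left i)
  haveI : Group.IsNilpotent N := hN.isNilpotent
  obtain ⟨n, hn, hnK⟩ := CfsgLib.Solvable.exists_conj_eq_of_coprime
    (B := K) (B' := K₁) (N := N) Subgroup.le_normalizer_of_normal hK₁le hcardK hcop (Or.inl inferInstance)
  refine ⟨n, hn, ?_⟩
  have hKnorm : A ≤ Subgroup.normalizer (K : Set G) := by
    intro a ha
    refine CfsgLib.FGS73.normalizes_map A K0 ha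
  have hK₁norm : A₁ ≤ Subgroup.normalizer (K₁ : Set G) := by
    intro a ha
    refine CfsgLib.FGS73.normalizes_map A₁ K0₁ ha
  -- no nontrivial element of N centralizes K
  let C := N ⊓ Subgroup.centralizer (K : Set G)
  have hCA : ∀ a ∈ A, ∀ c ∈ C, a * c * a⁻¹ ∈ C := by
    intro a ha c hc
    refine ⟨(inferInstance : N.Normal).conj_mem c hc.1 a, ?_⟩
    show a * c * a⁻¹ ∈ Subgroup.centralizer (K : Set G)
    rw [Subgroup.mem_centralizer_iff]
    intro k hk
    have hk' : a⁻¹ * k * a ∈ K := (Subgroup.mem_normalizer_iff''.1 (hKnorm ha) k).1 hk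
    have h1 := congrArg (fun w => a * w * a⁻¹) (Subgroup.mem_centralizer_iff.1 hc.2 _ hk')
    simpa [mul_assoc] using h1
  have hC1 : ∀ c ∈ C, c = 1 := by
    by_contra hne
    push Not at hne
    obtain ⟨c0, hc0, hc01⟩ := hne
    let S := (PA : Subgroup A)
    letI act : MulAction S C :=
      { smul := fun s c => ⟨((s : A) : G) * c * ((s : A) : G)⁻¹, hCA _ (s : A).2 _ c.2⟩
        one_smul := fun c => Subtype.ext (by change ((1 : A) : G) * c * ((1 : A) : G)⁻¹ = c; simp)
        mul_smul := fun s t c => Subtype.ext (by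
          change (((s * t : S) : A) : G) * c * (((s * t : S) : A) : G)⁻¹ =
            ((s : A) : G) * (((t : A) : G) * c * ((t : A) : G)⁻¹) * ((s : A) : G)⁻¹
          simp [mul_assoc]) }
    have hpd : p ∣ Nat.card C := by
      haveI : Nontrivial C := ⟨⟨⟨c0, hc0⟩, 1, fun h => hc01 (congrArg Subtype.val h)⟩⟩
      obtain ⟨k, hk⟩ := IsPGroup.iff_card.1 (hN.to_le (inf_le_left : C ≤ N))
      rw [hk]
      refine dvd_pow_self p fun h0 => ?_
      rw [h0, pow_zero] at hk
      exact absurd hk (Finite.one_lt_card (α := C)).ne'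
    have h1 : (1 : C) ∈ MulAction.fixedPoints S C := fun s => Subtype.ext (by
      change ((s : A) : G) * ((1 : C) : G) * ((s : A) : G)⁻¹ = ((1 : C) : G); simp)
    obtain ⟨c, hc, hc1⟩ := PA.isPGroup'.exists_fixed_point_of_prime_dvd_card_of_fixed_point C hpd h1
    apply hc1
    refine (Subtype.ext (hC c c.2.1 fun a ha => ?_)).symm
    obtain ⟨⟨k, s⟩, hks⟩ := hK0.2 ⟨a, ha⟩
    have hs : ((s : A) : G) * (c : G) * ((s : A) : G)⁻¹ = c := congrArg Subtype.val (hc s)
    have hk : ((k : A) : G) * (c : G) = (c : G) * ((k : A) : G) :=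
      Subgroup.mem_centralizer_iff.1 c.2.2 _ ⟨_, k.2, rfl⟩
    have e : a = ((k : A) : G) * ((s : A) : G) := (congrArg Subtype.val hks).symm
    rw [e, show ((k : A) : G) * ((s : A) : G) * (c : G) * (((k : A) : G) * ((s : A) : G))⁻¹ =
        ((k : A) : G) * (((s : A) : G) * (c : G) * ((s : A) : G)⁻¹) * ((k : A) : G)⁻¹ by simp [mul_assoc],
      hs, hk, mul_assoc, mul_inv_cancel, mul_one]
  -- the conjugate of A₁ normalizing K is A itself
  have hle : A₁.map (MulAut.conj n⁻¹).toMonoidHom ≤ A := by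
    rintro _ ⟨b, hb, rfl⟩
    have hbK : MulAut.conj n⁻¹ b ∈ Subgroup.normalizer (K : Set G) := by
      have h1 := Subgroup.le_normalizer_map (MulAut.conj n⁻¹).toMonoidHom ⟨b, hK₁norm hb, rfl⟩
      have h2 : K₁.map (MulAut.conj n⁻¹).toMonoidHom = K := by
        rw [← CfsgLib.Solvable.conj_smul_eq_map, ← hnK, smul_smul, map_inv, inv_mul_cancel, one_smul]
      rwa [h2] at h1
    obtain ⟨⟨a, m⟩, ham⟩ := hA.2 (MulAut.conj n⁻¹ b)
    change (a : G) * (m : G) = _ at ham
    rw [← ham] at hbK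
    have hm : (m : G) ∈ Subgroup.normalizer (K : Set G) := by
      have := mul_mem (inv_mem (hKnorm a.2)) hbK
      simpa using this
    have hmc : (m : G) ∈ C := by
      refine ⟨m.2, ?_⟩
      show (m : G) ∈ Subgroup.centralizer (K : Set G)
      rw [Subgroup.mem_centralizer_iff]
      intro k hk
      have h1 : k * m * k⁻¹ * (m : G)⁻¹ ∈ N :=
        mul_mem ((inferInstance : N.Normal).conj_mem _ m.2 k) (inv_mem m.2)
      have h2 : k * m * k⁻¹ * (m : G)⁻¹ ∈ K := by
        rw [show k * m * k⁻¹ * (m : G)⁻¹ = k * (m * k⁻¹ * (m : G)⁻¹) by simp [mul_assoc]]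
        exact mul_mem hk ((Subgroup.mem_normalizer_iff.1 hm _).1 (inv_mem hk))
      have h3 := (Subgroup.disjoint_of_coprime_natCard hcop).le_bot ⟨h1, h2⟩
      rwa [Subgroup.mem_bot, mul_inv_eq_one, mul_inv_eq_iff_eq_mul] at h3
    have hm1 := hC1 _ hmc
    rw [hm1, mul_one] at ham
    show MulAut.conj n⁻¹ b ∈ A
    rw [← ham]; exact a.2
  have heq := Subgroup.eq_of_le_of_card_ge hle
    (le_of_eq (by rw [Subgroup.card_map_of_injective (MulAut.conj n⁻¹).injective, hcardA]))
  rw [← heq, Subgroup.map_map]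
  convert (Subgroup.map_id A₁).symm
  ext y
  simp [mul_assoc]

end Cfsg.Agent.S4043
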