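import Cfsg.Statements.S4050
import Cfsg.Agent.Lib.FGS73.PiClosed


set_option autoImplicit false
open Cfsg

namespace Cfsg.Agent.S4050

/-- Let π be a set of primes and G a finite group. The π-elements of G (elements whose order is divisible only by primes of π) form a subgroup if and only if G is π-separable (it has a chain of normal subgroups from 1 to G with each successive index divisible only by primes in π or only by primes outside π) and N_G(H)/C_G(H) is a π'-group for every nontrivial π'-subgroup H of G. -/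
theorem result {G : Type*} [Group G] [Finite G] (π : Set ℕ)
    (hπ : ∀ p ∈ π, p.Prime) :
    (∃ K : Subgroup G, ∀ x : G, x ∈ K ↔ ∀ p : ℕ, p.Prime → p ∣ orderOf x → p ∈ π) ↔
    ((∃ (n : ℕ) (H : Fin (n + 1) → Subgroup G), H 0 = ⊥ ∧ H (Fin.last n) = ⊤ ∧ Monotone H ∧ (∀ i, (H i).Normal) ∧
      ∀ i : Fin n, (∀ q : ℕ, q.Prime → q ∣ (H i.castSucc).relIndex (H i.succ) → q ∈ π) ∨
        (∀ q : ℕ, q.Prime → q ∣ (H i.castSucc).relIndex (H i.succ) → q ∉ π)) ∧
     (∀ H : Subgroup G, H ≠ ⊥ → (∀ p : ℕ, p.Prime → p ∣ Nat.card ↥H → p ∉ π) →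
        ∀ p : ℕ, p.Prime → p ∣ (Subgroup.centralizer (H : Set G)).relIndex (Subgroup.normalizer (H : Set G)) → p ∉ π)) := by
  constructor
  · rintro ⟨K, hK⟩
    haveI := CfsgLib.FGS73.normal_of_forall_mem_iff K hK
    refine ⟨⟨2, ![⊥, K, ⊤], rfl, rfl, ?_, ?_, ?_⟩, ?_⟩
    · intro i j hij
      fin_cases i <;> fin_cases j <;> simp at hij ⊢
    · intro i
      fin_cases i <;> simp <;> infer_instance
    · intro i
      fin_cases i
      · left
        simpa using CfsgLib.FGS73.card_of_forall_mem_iff K hK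
      · right
        simpa using CfsgLib.FGS73.index_of_forall_mem_iff K hK
    · intro H hH hHπ p hp hd hpπ
      haveI := Fact.mk hp
      set C := Subgroup.centralizer (H : Set G)
      set N := Subgroup.normalizer (H : Set G)
      obtain ⟨S⟩ := (inferInstance : Nonempty (Sylow p N))
      refine S.not_dvd_index (hd.trans (Subgroup.index_dvd_of_le fun z hz => ?_))
      obtain ⟨k, hk⟩ := (IsPGroup.iff_orderOf.1 S.isPGroup') ⟨z, hz⟩
      rw [Subgroup.orderOf_mk] at hk
      have hzK : (z : G) ∈ K := (hK _).2 fun q hq hqd => by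
        rw [Subgroup.orderOf_coe, hk] at hqd
        rw [(Nat.prime_dvd_prime_iff_eq hq hp).1 (hq.dvd_of_dvd_pow hqd)]
        exact hpπ
      rw [Subgroup.mem_subgroupOf, Subgroup.mem_centralizer_iff]
      intro h hh
      have h1 : (z : G) * h * (z : G)⁻¹ * h⁻¹ ∈ H :=
        mul_mem ((Subgroup.mem_normalizer_iff.1 z.2 h).1 hh) (inv_mem hh)
      have h2 : (z : G) * h * (z : G)⁻¹ * h⁻¹ ∈ K := by
        rw [show (z : G) * h * (z : G)⁻¹ * h⁻¹ = (z : G) * (h * (z : G)⁻¹ * h⁻¹) by simp [mul_assoc]]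
        exact mul_mem hzK ((inferInstance : K.Normal).conj_mem _ (inv_mem hzK) h)
      have hdisj : Disjoint H K := Subgroup.disjoint_of_coprime_natCard
        (Nat.coprime_of_dvd fun q hq a b => hHπ q hq a (CfsgLib.FGS73.card_of_forall_mem_iff K hK q hq b))
      have h3 := Subgroup.disjoint_def.1 hdisj h1 h2
      rw [mul_inv_eq_one, mul_inv_eq_iff_eq_mul] at h3
      exact h3.symm
  · rintro ⟨⟨n, H, h0, hlast, hmono, hnorm, hstep⟩, hhom⟩
    suffices h : ∀ i : Fin (n + 1), ∃ L : Subgroup ↥(H i), ∀ x : ↥(H i), x ∈ L ↔ ∀ p : ℕ, p.Prime → p ∣ orderOf x → p ∈ π by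
      obtain ⟨L, hL⟩ := h (Fin.last n)
      refine ⟨L.map (H (Fin.last n)).subtype, fun x => ?_⟩
      have hx : x ∈ H (Fin.last n) := hlast ▸ Subgroup.mem_top x
      rw [show x = (⟨x, hx⟩ : H (Fin.last n)).1 from rfl, Subgroup.orderOf_coe, ← hL]
      exact ⟨fun ⟨y, hy, hyx⟩ => (Subtype.ext hyx : y = ⟨x, hx⟩) ▸ hy, fun h => ⟨_, h, rfl⟩⟩
    intro i
    induction i using Fin.induction with
    | zero =>
      refine ⟨⊤, fun x => ⟨fun _ p hp hd => ?_, fun _ => Subgroup.mem_top x⟩⟩
      have hx : (x : G) = 1 := by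
        have := x.2
        simp only [h0, Subgroup.mem_bot] at this
        exact this
      rw [← Subgroup.orderOf_coe, hx, orderOf_one] at hd
      exact absurd (Nat.dvd_one.1 hd) hp.ne_one
    | succ i ih =>
      have hle : H i.castSucc ≤ H i.succ := hmono (Fin.castSucc_le_succ i)
      haveI := hnorm i.castSucc
      refine CfsgLib.FGS73.pi_closed_extension (G := H i.succ) ?_ ((H i.castSucc).subgroupOf (H i.succ)) ?_ ?_
      · intro X hX hXπ p hp hd
        refine hhom (X.map (H i.succ).subtype) ?_ ?_ p hp (CfsgLib.FGS73.dvd_automizer_of_dvd_subgroup _ X hd)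
        · rwa [Ne, Subgroup.map_eq_bot_iff_of_injective X (H i.succ).subtype_injective]
        · rw [Subgroup.card_subtype]; exact hXπ
      · obtain ⟨L, hL⟩ := ih
        refine ⟨L.comap (Subgroup.subgroupOfEquivOfLe hle).toMonoidHom, fun x => ?_⟩
        rw [Subgroup.mem_comap, hL]
        simp [(Subgroup.subgroupOfEquivOfLe hle).orderOf_eq x]
      · have hcard : Nat.card (H i.succ ⧸ (H i.castSucc).subgroupOf (H i.succ)) =
            (H i.castSucc).relIndex (H i.succ) := rfl
        rcases hstep i with h | h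
        · refine ⟨⊤, fun x => ⟨fun _ p hp hd => h p hp ?_, fun _ => Subgroup.mem_top x⟩⟩
          rw [← hcard]; exact hd.trans (orderOf_dvd_natCard x)
        · refine ⟨⊥, fun x => ⟨fun hx p hp hd => ?_, fun hx => ?_⟩⟩
          · rw [Subgroup.mem_bot.1 hx, orderOf_one] at hd
            exact absurd (Nat.dvd_one.1 hd) hp.ne_one
          · rw [Subgroup.mem_bot, ← orderOf_eq_one_iff, Nat.eq_one_iff_not_exists_prime_dvd]
            intro p hp hd
            exact h p hp (hcard ▸ hd.trans (orderOf_dvd_natCard x)) (hx p hp hd)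

end Cfsg.Agent.S4050
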