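import Cfsg.Statements.S4056
import Cfsg.Agent.Lib.FGS73.Basic

set_option autoImplicit false
open Cfsg
open scoped commutatorElement

namespace Cfsg.Agent.S4056

/-- In a finite 2-group of nilpotency class at most 2 and exponent dividing 4, the Frattini subgroup lies in the centre and is elementary abelian. -/
theorem result {P : Type*} [Group P] [Finite P] (hP : IsPGroup 2 P)
    (hcl : Group.nilpotencyClass P ≤ 2) (hexp : Monoid.exponent P ∣ 4) :
    frattini P ≤ Subgroup.center P ∧ Cfsg.IsElementaryAbelian 2 (frattini P) := by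
  haveI : Fact (Nat.Prime 2) := ⟨Nat.prime_two⟩
  haveI : Group.IsNilpotent P := hP.isNilpotent
  have h4 : ∀ x : P, x ^ 4 = 1 := fun x => Monoid.exponent_dvd_iff_forall_pow_eq_one.1 hexp x

  have hcomm : ∀ a b : P, ⁅a, b⁆ ∈ Subgroup.center P := by
    intro a b
    have h2 : (⊤ : Subgroup P).lowerCentralSeries 2 = ⊥ := Subgroup.lowerCentralSeries_eq_bot_iff_nilpotencyClass_le.2 hcl
    have h1 : ⁅a, b⁆ ∈ (⊤ : Subgroup P).lowerCentralSeries 1 := by
      simp only [Subgroup.lowerCentralSeries_succ, Subgroup.lowerCentralSeries_zero]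
      exact Subgroup.commutator_mem_commutator (Subgroup.mem_top a) (Subgroup.mem_top b)
    rw [Subgroup.mem_center_iff]
    intro g
    have h3 : ⁅⁅a, b⁆, g⁆ ∈ (⊤ : Subgroup P).lowerCentralSeries 2 := by
      rw [Subgroup.lowerCentralSeries_succ]
      exact Subgroup.commutator_mem_commutator h1 (Subgroup.mem_top g)
    rw [h2, Subgroup.mem_bot, commutatorElement_eq_one_iff_commute] at h3
    exact h3.eq.symm
  -- commutators square to one
  have hsq : ∀ a b : P, ⁅a, b⁆ ^ 2 = 1 := by
    intro a b
    have hz := Subgroup.mem_center_iff.1 (hcomm b a)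
    have hba : b * a = ⁅b, a⁆ * (a * b) := by simp only [commutatorElement_def]; group
    generalize ⁅b, a⁆ = z at hz hba
    have e2 : (a * b) ^ 2 = z * (a ^ 2 * b ^ 2) := by
      calc (a * b) ^ 2 = a * (b * a) * b := by simp [pow_two, mul_assoc]
        _ = a * z * (a * b * b) := by rw [hba]; simp [mul_assoc]
        _ = z * (a ^ 2 * b ^ 2) := by rw [hz a]; simp [pow_two, mul_assoc]
    -- moving a square across a square costs four copies of z
    have e3 : b * (a * a) = z * z * (a * a * b) := by
      calc b * (a * a) = (b * a) * a := by rw [mul_assoc]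
        _ = z * (a * b) * a := by rw [hba]
        _ = z * a * (b * a) := by simp [mul_assoc]
        _ = z * a * z * (a * b) := by rw [hba]; simp [mul_assoc]
        _ = z * z * (a * a * b) := by rw [mul_assoc z a z, hz a]; simp [mul_assoc]
    have hz2 : ∀ g, g * (z * z) = z * z * g := fun g => by
      rw [← mul_assoc, hz g, mul_assoc, hz g, ← mul_assoc]
    have e4 : b * b * (a * a) = (z * z) * (z * z) * (a * a * (b * b)) := by
      calc b * b * (a * a) = b * (b * (a * a)) := by rw [mul_assoc]
        _ = b * (z * z) * (a * a * b) := by rw [e3]; simp [mul_assoc]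
        _ = z * z * (b * (a * a)) * b := by rw [hz2 b]; simp [mul_assoc]
        _ = _ := by rw [e3]; simp [mul_assoc]
    have hz4 : (z * z) * (z * z) = 1 := by
      have := h4 z; simpa [pow_succ, mul_assoc] using this
    have hcm : Commute (b ^ 2) (a ^ 2) := by
      rw [pow_two, pow_two]; unfold Commute SemiconjBy
      rw [e4, hz4, one_mul]
    have hzc : Commute z (a ^ 2 * b ^ 2) := (hz _).symm
    have h5 := h4 (a * b)
    rw [show 4 = 2 * 2 from rfl, pow_mul, e2, hzc.mul_pow, hcm.symm.mul_pow, ← pow_mul, ← pow_mul, h4, h4,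
      one_mul, mul_one] at h5
    have : a * b = z⁻¹ * (b * a) := by rw [hba]; group
    have hzab : ⁅a, b⁆ = z⁻¹ := by rw [commutatorElement_def, this]; group
    rw [hzab, inv_pow, h5, inv_one]
  have hsqc : ∀ a : P, a ^ 2 ∈ Subgroup.center P := by
    intro a; rw [Subgroup.mem_center_iff]; intro g
    have hz := Subgroup.mem_center_iff.1 (hcomm g a)
    have hga : g * a = ⁅g, a⁆ * (a * g) := by simp only [commutatorElement_def]; group
    have h2 := hsq g a
    generalize ⁅g, a⁆ = z at hz hga h2
    calc g * a ^ 2 = (g * a) * a := by simp [pow_two, mul_assoc]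
      _ = z * (a * g) * a := by rw [hga]
      _ = z * a * (g * a) := by simp [mul_assoc]
      _ = z * a * z * (a * g) := by rw [hga]; simp [mul_assoc]
      _ = z * z * (a * a * g) := by rw [mul_assoc z a z, hz a]; simp [mul_assoc]
      _ = a ^ 2 * g := by rw [← pow_two z, h2, one_mul, pow_two]
  have hle : frattini P ≤ Subgroup.center P := by
    refine CfsgLib.FGS73.frattini_le_of_elementary_quotient Nat.prime_two _ (fun a b => ?_) hsqc
    have : a * b * (b * a)⁻¹ = ⁅a, b⁆ := by simp only [commutatorElement_def]; group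
    rw [this]; exact hcomm a b
  have hgen : frattini P ≤ Subgroup.closure ({z : P | z ∈ Subgroup.center P ∧ z ^ 2 = 1}) := by
    have hN : (Subgroup.closure ({z : P | z ∈ Subgroup.center P ∧ z ^ 2 = 1})).Normal := by
      refine ⟨fun n hn g => ?_⟩
      have hc : Subgroup.closure ({z : P | z ∈ Subgroup.center P ∧ z ^ 2 = 1}) ≤ Subgroup.center P :=
        (Subgroup.closure_le _).2 fun z hz => hz.1
      rwa [Subgroup.mem_center_iff.1 (hc hn) g, mul_assoc, mul_inv_cancel, mul_one]
    refine CfsgLib.FGS73.frattini_le_of_elementary_quotient Nat.prime_two _ (fun a b => ?_) fun a => ?_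
    · have : a * b * (b * a)⁻¹ = ⁅a, b⁆ := by simp only [commutatorElement_def]; group
      rw [this]; exact Subgroup.subset_closure ⟨hcomm a b, hsq a b⟩
    · exact Subgroup.subset_closure ⟨hsqc a, by rw [← pow_mul]; exact h4 a⟩
  refine ⟨hle, ⟨⟨fun a b => Subtype.ext (Subgroup.mem_center_iff.1 (hle b.2) a)⟩⟩, fun a ha => ?_⟩
  have := hgen ha
  clear ha
  induction this using Subgroup.closure_induction with
  | mem x hx => exact hx.2
  | one => simp
  | inv x _ ih => rw [inv_pow, ih, inv_one]
  | mul x y hx _ ihx ihy =>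
    have hxc : x ∈ Subgroup.center P := by
      refine (Subgroup.closure_le _).2 (fun z hz => hz.1) hx
    rw [Commute.mul_pow (Subgroup.mem_center_iff.1 hxc y).symm, ihx, ihy, one_mul]

end Cfsg.Agent.S4056
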