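import Cfsg.Statements.S4057
import Cfsg.Agent.Lib.FGS73.NormalElementary
import Cfsg.Agent.Lib.FGS73.PCentral
import Cfsg.Agent.Lib.FGS73.Unipotent
import Cfsg.Agent.Lib.Invol.NormalFour

set_option autoImplicit false
set_option linter.style.haveILetI false
open Cfsg

namespace Cfsg.Agent.S4057

open Subgroup

universe u

/-- A set of commuting elements of order dividing `p` generates at most `p ^ #S` elements. -/
theorem card_closure_le {G : Type u} [Group G] [Finite G] {p : ℕ} (hp : 0 < p) {E : Subgroup G}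
    (hEc : ∀ a ∈ E, ∀ b ∈ E, a * b = b * a) (hEp : ∀ a ∈ E, a ^ p = 1) (S : Finset G) :
    (∀ s ∈ S, s ∈ E) → Nat.card (closure (S : Set G)) ≤ p ^ S.card := by
  classical
  induction S using Finset.induction_on with
  | empty => intro _; simp
  | @insert s S hs ih =>
    intro hS
    have hsE := hS s (Finset.mem_insert_self _ _)
    have hSE : closure (S : Set G) ≤ E := (closure_le _).2 fun x hx => hS x (Finset.mem_insert_of_mem hx)
    have h1 : closure ((insert s S : Finset G) : Set G) = zpowers s ⊔ closure (S : Set G) := by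
      rw [Finset.coe_insert, Set.insert_eq, Subgroup.closure_union, zpowers_eq_closure]
    have hnorm : zpowers s ≤ normalizer ((closure (S : Set G) : Subgroup G) : Set G) := by
      refine (zpowers_le).2 ((centralizer_le_normalizer _) ?_)
      exact mem_centralizer_iff.2 fun x hx => hEc x (hSE hx) s hsE
    have h2 : Nat.card (zpowers s ⊔ closure (S : Set G) : Subgroup G) ≤
        Nat.card (zpowers s) * Nat.card (closure (S : Set G)) := by
      have := Set.natCard_mul_le (s := ((zpowers s : Subgroup G) : Set G)) (t := ((closure (S : Set G) : Subgroup G) : Set G))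
      rwa [← coe_mul_of_left_le_normalizer_right _ _ hnorm] at this
    rw [h1, Finset.card_insert_of_notMem hs, pow_succ']
    refine h2.trans (Nat.mul_le_mul ?_ (ih fun x hx => hS x (Finset.mem_insert_of_mem hx)))
    rw [Nat.card_zpowers]
    exact orderOf_le_of_pow_eq_one hp (hEp s hsE)

variable {P : Type u} [Group P] [Finite P] {p : ℕ} [hp : Fact p.Prime]

/-- A generating sequence of a normal elementary abelian subgroup along a chief series. -/
theorem exists_flag (hP : IsPGroup p P) {E : Subgroup P} [E.Normal] {r : ℕ}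
    (hEc : ∀ a ∈ E, ∀ b ∈ E, a * b = b * a) (hEp : ∀ a ∈ E, a ^ p = 1) (hr : Nat.card E = p ^ r) :
    ∀ i ≤ r, ∃ e : Fin i → P, (∀ j, e j ∈ E) ∧
      (∀ x j, x * e j * x⁻¹ * (e j)⁻¹ ∈ closure (e '' Set.Iio j)) ∧ Nat.card (closure (Set.range e)) = p ^ i := by
  intro i
  induction i with
  | zero =>
    intro _
    exact ⟨Fin.elim0, fun j => j.elim0, fun _ j => j.elim0, by simp⟩
  | succ i ih =>
    intro hi
    obtain ⟨e, heE, hec, hcard⟩ := ih (Nat.le_of_succ_le hi)
    set F := closure (Set.range e) with hF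
    have hFE : F ≤ E := (closure_le _).2 (Set.range_subset_iff.2 heE)
    have hconj : ∀ x : P, ∀ y ∈ F, x * y * x⁻¹ ∈ F := by
      intro x y hy
      induction hy using closure_induction with
      | mem y hy =>
        obtain ⟨j, rfl⟩ := hy
        have h1 : x * e j * x⁻¹ * (e j)⁻¹ ∈ F := closure_mono (Set.image_subset_range _ _) (hec x j)
        have h2 := mul_mem h1 (subset_closure (Set.mem_range_self j) : e j ∈ F)
        rwa [inv_mul_cancel_right] at h2
      | one => rw [mul_one, mul_inv_cancel]; exact one_mem F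
      | mul a b _ _ ha hb =>
        have := mul_mem ha hb
        rwa [← mul_assoc, ← mul_assoc, inv_mul_cancel_right, mul_assoc x a b] at this
      | inv a _ ha =>
        have := inv_mem ha
        rwa [mul_inv_rev, mul_inv_rev, inv_inv, ← mul_assoc] at this
    haveI hFn : F.Normal := ⟨fun y hy x => hconj x y hy⟩
    have hne : E.map (QuotientGroup.mk' F) ≠ ⊥ := by
      intro h
      rw [Subgroup.map_eq_bot_iff, QuotientGroup.ker_mk'] at h
      have := Subgroup.card_le_of_le h
      rw [hr, hcard] at this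
      exact absurd ((Nat.pow_le_pow_iff_right hp.out.one_lt).1 this) (by omega)
    haveI : (E.map (QuotientGroup.mk' F)).Normal := Subgroup.Normal.map inferInstance _ (QuotientGroup.mk'_surjective F)
    obtain ⟨z', hz'E, hz'c, hz'1⟩ := CfsgLib.Invol.exists_mem_center_ne_one (hP.to_quotient F) _ hne
    obtain ⟨z, hzE, rfl⟩ := mem_map.1 hz'E
    have hzF : z ∉ F := fun h => hz'1 ((QuotientGroup.eq_one_iff z).2 h)
    have hzc : ∀ x : P, x * z * x⁻¹ * z⁻¹ ∈ F := by
      intro x
      have h1 := mem_center_iff.1 hz'c (QuotientGroup.mk' F x)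
      rw [← (QuotientGroup.eq_one_iff _)]
      show QuotientGroup.mk' F (x * z * x⁻¹ * z⁻¹) = 1
      rw [map_mul, map_mul, map_mul, map_inv, map_inv, h1, mul_inv_cancel_right, mul_inv_cancel]
    refine ⟨Fin.snoc e z, ?_, ?_, ?_⟩
    · intro j
      refine Fin.lastCases ?_ (fun j => ?_) j
      · rw [Fin.snoc_last]; exact hzE
      · rw [Fin.snoc_castSucc]; exact heE j
    · intro x j
      refine Fin.lastCases ?_ (fun j => ?_) j
      · rw [Fin.snoc_last]
        refine closure_mono ?_ (hzc x)
        rintro _ ⟨l, rfl⟩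
        exact ⟨l.castSucc, Fin.castSucc_lt_last l, by simp⟩
      · rw [Fin.snoc_castSucc]
        refine closure_mono ?_ (hec x j)
        rintro _ ⟨l, hl, rfl⟩
        exact ⟨l.castSucc, Fin.castSucc_lt_castSucc_iff.2 hl, by simp⟩
    · have hG : closure (Set.range (Fin.snoc e z : Fin (i + 1) → P)) = zpowers z ⊔ F := by
        rw [Fin.range_snoc, Set.insert_eq, Subgroup.closure_union, zpowers_eq_closure]
      rw [hG]
      have hle : Nat.card (zpowers z ⊔ F : Subgroup P) ≤ p ^ (i + 1) := by
        have h1 := Set.natCard_mul_le (s := ((zpowers z : Subgroup P) : Set P)) (t := ((F : Subgroup P) : Set P))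
        rw [← Subgroup.mul_normal (zpowers z) F] at h1
        refine le_trans h1 ?_
        rw [pow_succ']
        refine Nat.mul_le_mul ?_ hcard.le
        show Nat.card (zpowers z) ≤ p
        rw [Nat.card_zpowers]
        exact orderOf_le_of_pow_eq_one hp.out.pos (hEp z hzE)
      obtain ⟨m, hm⟩ := IsPGroup.iff_card.1 (hP.to_subgroup (zpowers z ⊔ F : Subgroup P))
      have hlt : Nat.card F < Nat.card (zpowers z ⊔ F : Subgroup P) := by
        refine lt_of_le_of_ne (Subgroup.card_le_of_le le_sup_right) fun h => hzF ?_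
        rw [Subgroup.eq_of_le_of_card_ge le_sup_right h.ge]
        exact mem_sup_left (mem_zpowers z)
      rw [hm] at hle hlt ⊢
      rw [hcard] at hlt
      have := (Nat.pow_le_pow_iff_right hp.out.one_lt).1 hle
      have := (Nat.pow_lt_pow_iff_right hp.out.one_lt).1 hlt
      rw [show m = i + 1 by omega]

/-- The action on a normal elementary abelian subgroup by unitriangular matrices. -/
theorem exists_unitriangular (hP : IsPGroup p P) {E : Subgroup P} [E.Normal] {r : ℕ}
    (hEc : ∀ a ∈ E, ∀ b ∈ E, a * b = b * a) (hEp : ∀ a ∈ E, a ^ p = 1) (hr : Nat.card E = p ^ r) :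
    ∃ ρ : P →* Matrix (Fin r) (Fin r) (ZMod p), (∀ x i, ρ x i i = 1) ∧ (∀ x i j, j < i → ρ x i j = 0) ∧
      ∀ x, ρ x = 1 → x ∈ centralizer (E : Set P) := by
  classical
  haveI : NeZero p := ⟨hp.out.ne_zero⟩
  obtain ⟨e, heE, hec, hcard⟩ := exists_flag hP hEc hEp hr r le_rfl
  have hgen : closure (Set.range e) = E :=
    Subgroup.eq_of_le_of_card_ge ((closure_le _).2 (Set.range_subset_iff.2 heE)) (by rw [hcard, hr])
  letI : CommGroup E := { (inferInstance : Group E) with mul_comm := fun a b => Subtype.ext (hEc a a.2 b b.2) }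
  set b : Fin r → E := fun i => ⟨e i, heE i⟩ with hb
  have hbp : ∀ i, b i ^ p = 1 := fun i => Subtype.ext (hEp _ (heE i))
  let φ : (Fin r → ZMod p) → E := fun c => ∏ i, b i ^ (c i).val
  have hφadd : ∀ c d, φ (c + d) = φ c * φ d := by
    intro c d
    show (∏ i, b i ^ ((c + d) i).val) = (∏ i, b i ^ (c i).val) * ∏ i, b i ^ (d i).val
    rw [← Finset.prod_mul_distrib]
    refine Finset.prod_congr rfl fun i _ => ?_
    rw [Pi.add_apply, ← pow_add, ZMod.val_add, ← pow_eq_pow_mod _ (hbp i)]
  have hφ0 : φ 0 = 1 := Finset.prod_eq_one fun i _ => by simp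
  have hφneg : ∀ c, φ (-c) = (φ c)⁻¹ := fun c =>
    eq_inv_of_mul_eq_one_left (by rw [← hφadd, neg_add_cancel, hφ0])
  have hφsingle : ∀ i, φ (Pi.single i 1) = b i := by
    intro i
    show (∏ l, b l ^ ((Pi.single i (1 : ZMod p) : Fin r → ZMod p) l).val) = b i
    rw [Finset.prod_eq_single i (fun l _ hl => by rw [Pi.single_eq_of_ne hl, ZMod.val_zero, pow_zero])
      (fun h => absurd (Finset.mem_univ i) h)]
    rw [Pi.single_eq_same, ZMod.val_one, pow_one]
  have hsurj : Function.Surjective φ := by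
    rintro ⟨y, hy⟩
    suffices ∀ y ∈ closure (Set.range e), ∃ c, (φ c : P) = y by
      obtain ⟨c, hc⟩ := this y (by rw [hgen]; exact hy)
      exact ⟨c, Subtype.ext hc⟩
    intro y hy
    induction hy using closure_induction with
    | mem y hy => obtain ⟨i, rfl⟩ := hy; exact ⟨Pi.single i 1, by rw [hφsingle]⟩
    | one => exact ⟨0, by rw [hφ0]; rfl⟩
    | mul a b _ _ ha hb =>
      obtain ⟨c, rfl⟩ := ha
      obtain ⟨d, rfl⟩ := hb
      exact ⟨c + d, by rw [hφadd]; rfl⟩
    | inv a _ ha =>
      obtain ⟨c, rfl⟩ := ha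
      exact ⟨-c, by rw [hφneg]; rfl⟩
  have hbij : Function.Bijective φ := by
    rw [Nat.bijective_iff_surjective_and_card]
    refine ⟨hsurj, ?_⟩
    rw [Nat.card_fun, Nat.card_zmod, Nat.card_eq_fintype_card (α := Fin r), Fintype.card_fin, hr]
  set ψ := Equiv.ofBijective φ hbij with hψ
  have hψadd : ∀ a a' : E, ψ.symm (a * a') = ψ.symm a + ψ.symm a' := by
    intro a a'
    apply ψ.injective
    rw [Equiv.apply_symm_apply]
    show a * a' = φ _
    rw [hφadd]
    exact congrArg₂ (· * ·) (ψ.apply_symm_apply a).symm (ψ.apply_symm_apply a').symm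
  have hψφ : ∀ c, ψ.symm (φ c) = c := ψ.symm_apply_apply
  have hφψ : ∀ a, φ (ψ.symm a) = a := ψ.apply_symm_apply
  -- conjugation
  let cj : P → E → E := fun x a => ⟨x * a * x⁻¹, Subgroup.Normal.conj_mem inferInstance _ a.2 x⟩
  have hcjmul : ∀ x a a', cj x (a * a') = cj x a * cj x a' := fun x a a' => Subtype.ext (by
    show x * ((a : P) * a') * x⁻¹ = x * a * x⁻¹ * (x * a' * x⁻¹)
    group)
  let L : P → (Fin r → ZMod p) →+ (Fin r → ZMod p) := fun x =>
    AddMonoidHom.mk' (fun c => ψ.symm (cj x (φ c))) fun c d => by rw [hφadd, hcjmul, hψadd]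
  have hL : ∀ x c, L x c = ψ.symm (cj x (φ c)) := fun _ _ => rfl
  let ρ : P →* Matrix (Fin r) (Fin r) (ZMod p) :=
    { toFun := fun x => LinearMap.toMatrix' ((L x).toZModLinearMap p)
      map_one' := by
        show LinearMap.toMatrix' ((L 1).toZModLinearMap p) = 1
        rw [← LinearMap.toMatrix'_id]
        congr 1
        refine LinearMap.ext fun c => ?_
        show L 1 c = c
        rw [hL, show cj 1 (φ c) = φ c from Subtype.ext (by simp [cj]), hψφ]
      map_mul' := fun x y => by
        show LinearMap.toMatrix' ((L (x * y)).toZModLinearMap p) =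
          LinearMap.toMatrix' ((L x).toZModLinearMap p) * LinearMap.toMatrix' ((L y).toZModLinearMap p)
        rw [← LinearMap.toMatrix'_comp]
        congr 1
        refine LinearMap.ext fun c => ?_
        show L (x * y) c = L x (L y c)
        rw [hL, hL, hL, hφψ]
        congr 1
        exact Subtype.ext (by simp only [cj]; group) }
  have hent : ∀ x i j, ρ x i j = L x (Pi.single j 1) i := by
    intro x i j
    show LinearMap.toMatrix' ((L x).toZModLinearMap p) i j = _
    rw [LinearMap.toMatrix'_apply]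
    rfl
  -- triangularity
  have htri : ∀ x i j, j ≤ i → L x (Pi.single j 1) i = (Pi.single j 1 : Fin r → ZMod p) i := by
    intro x i j hji
    have hvanish : ∀ y ∈ closure (e '' Set.Iio j), ∃ c, (φ c : P) = y ∧ ∀ l, j ≤ l → c l = 0 := by
      intro y hy
      induction hy using closure_induction with
      | mem y hy =>
        obtain ⟨l, hl, rfl⟩ := hy
        exact ⟨Pi.single l 1, by rw [hφsingle], fun m hm => Pi.single_eq_of_ne (ne_of_gt (lt_of_lt_of_le hl hm)) _⟩
      | one => exact ⟨0, by rw [hφ0]; rfl, fun _ _ => rfl⟩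
      | mul a a' _ _ ha ha' =>
        obtain ⟨c, rfl, hc⟩ := ha
        obtain ⟨d, rfl, hd⟩ := ha'
        exact ⟨c + d, by rw [hφadd]; rfl, fun l hl => by rw [Pi.add_apply, hc l hl, hd l hl, add_zero]⟩
      | inv a _ ha =>
        obtain ⟨c, rfl, hc⟩ := ha
        exact ⟨-c, by rw [hφneg]; rfl, fun l hl => by rw [Pi.neg_apply, hc l hl, neg_zero]⟩
    obtain ⟨c, hc, hc0⟩ := hvanish _ (hec x j)
    have h1 : cj x (φ (Pi.single j 1)) = φ (c + Pi.single j 1) := by
      rw [hφadd, hφsingle]
      refine Subtype.ext ?_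
      show x * e j * x⁻¹ = (φ c : P) * e j
      rw [hc, inv_mul_cancel_right]
    rw [hL, h1, hψφ, Pi.add_apply, hc0 i hji, zero_add]
  refine ⟨ρ, fun x i => ?_, fun x i j hji => ?_, fun x hx => ?_⟩
  · rw [hent, htri x i i le_rfl, Pi.single_eq_same]
  · rw [hent, htri x i j hji.le, Pi.single_eq_of_ne hji.ne']
  · refine mem_centralizer_iff.2 fun y hy => ?_
    have h1 : ∀ c, L x c = c := by
      intro c
      have h2 : LinearMap.toMatrix' ((L x).toZModLinearMap p) = LinearMap.toMatrix' LinearMap.id := by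
        rw [LinearMap.toMatrix'_id]; exact hx
      exact LinearMap.congr_fun (LinearMap.toMatrix'.injective h2) c
    have h3 := h1 (ψ.symm ⟨y, hy⟩)
    rw [hL, hφψ] at h3
    have h4 : x * y * x⁻¹ = y := congrArg Subtype.val (ψ.symm.injective h3)
    calc y * x = x * y * x⁻¹ * x := by rw [h4]
      _ = x * y := inv_mul_cancel_right _ _

/-- The bound, from the elementary abelian normal subgroups. -/
theorem bound (hp2 : p ≠ 2) (hP : IsPGroup p P) (k : ℕ)
    (hab : ∀ A : Subgroup P, A.Normal → IsMulCommutative A → ∃ S : Finset P, S.card ≤ k ∧ closure (S : Set P) = A)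
    (H : Subgroup P) : ∃ S : Finset P, S.card ≤ k * (k + 4) / 4 ∧ closure (S : Set P) = H := by
  classical
  let Q : Subgroup P → Prop := fun D => D.Normal ∧ (∀ a ∈ D, ∀ b ∈ D, a * b = b * a) ∧ ∀ a ∈ D, a ^ p = 1
  obtain ⟨E, -, hEmax⟩ := Finite.exists_le_maximal (p := Q) (a := (⊥ : Subgroup P))
    ⟨inferInstance, fun a ha b hb => by rw [mem_bot.1 ha, mem_bot.1 hb], fun a ha => by rw [mem_bot.1 ha, one_pow]⟩
  obtain ⟨hEn, hEc, hEp⟩ := hEmax.prop
  haveI := hEn
  have hmax : ∀ D : Subgroup P, D.Normal → E ≤ D → (∀ a ∈ D, ∀ b ∈ D, a * b = b * a) → (∀ a ∈ D, a ^ p = 1) → D = E :=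
    fun D hD hED hc hpw => le_antisymm (hEmax.le_of_ge ⟨hD, hc, hpw⟩ hED) hED
  obtain ⟨r, hr⟩ := IsPGroup.iff_card.1 (hP.to_subgroup E)
  have hrk : r ≤ k := by
    obtain ⟨S, hS, hSgen⟩ := hab E hEn ⟨⟨fun a b => Subtype.ext (hEc a a.2 b b.2)⟩⟩
    have h1 := card_closure_le hp.out.pos hEc hEp S fun s hs => hSgen ▸ subset_closure hs
    rw [hSgen, hr] at h1
    exact ((Nat.pow_le_pow_iff_right hp.out.one_lt).1 h1).trans hS
  set C := centralizer (E : Set P) with hC
  have hS' : ∀ x : (H ⊓ C : Subgroup P), x ^ p = 1 → (x : P) ∈ E := fun x hx =>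
    CfsgLib.FGS73.NormEl.mem_of_centralizes hp2 hP hEc hEp hmax x.2.2 (congrArg Subtype.val hx)
  have hcent : ∀ x : (H ⊓ C : Subgroup P), x ^ p = 1 → x ∈ center (H ⊓ C : Subgroup P) := fun x hx =>
    mem_center_iff.2 fun y => Subtype.ext (mem_centralizer_iff.1 y.2.2 x (hS' x hx)).symm
  have hWcard : Nat.card (CfsgLib.FGS73.PCentral.omega hcent) ≤ p ^ r := by
    rw [← hr]
    exact Nat.card_le_card_of_injective (fun x => (⟨_, hS' x.1 x.2⟩ : E)) fun a b hab' =>
      Subtype.ext (Subtype.ext (congrArg Subtype.val hab' :))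
  obtain ⟨T1, hT1, hT1gen⟩ := CfsgLib.FGS73.PCentral.exists_generators hp2 _ (H ⊓ C : Subgroup P) r rfl
    (hP.to_subgroup _) hcent hWcard
  obtain ⟨ρ, hd, hl, hker⟩ := exists_unitriangular hP hEc hEp hr
  obtain ⟨T2, hT2, hT2gen⟩ := CfsgLib.FGS73.Unipotent.exists_generators (ρ.comp H.subtype)
    (fun h i => hd h i) (fun h i j hji => hl h i j hji)
  refine ⟨T1.image (H ⊓ C : Subgroup P).subtype ∪ T2.image H.subtype, ?_, le_antisymm ?_ ?_⟩
  · refine (Finset.card_union_le _ _).trans ((Nat.add_le_add (Finset.card_image_le.trans hT1)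
      (Finset.card_image_le.trans hT2)).trans ?_)
    have h1 : r * r ≤ k * k := Nat.mul_le_mul hrk hrk
    have h2 : k * (k + 4) = k * k + 4 * k := by ring
    rw [h2]
    omega
  · rw [closure_le]
    intro x hx
    rcases Finset.mem_union.1 (Finset.mem_coe.1 hx) with h | h <;> obtain ⟨y, -, rfl⟩ := Finset.mem_image.1 h
    · exact y.2.1
    · exact y.2
  · intro h hh
    obtain ⟨m, hm, hρ⟩ := hT2gen ⟨h, hh⟩
    set T := closure ((T1.image (H ⊓ C : Subgroup P).subtype ∪ T2.image H.subtype : Finset P) : Set P) with hT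
    have hmT : (m : P) ∈ T := by
      have h1 := mem_map_of_mem H.subtype hm
      rw [MonoidHom.map_closure] at h1
      refine closure_mono ?_ h1
      rw [Finset.coe_union, Finset.coe_image, Finset.coe_image]
      exact Set.subset_union_right
    have hC' : ∀ y ∈ (H ⊓ C : Subgroup P), y ∈ T := by
      intro y hy
      have h1 : (⟨y, hy⟩ : (H ⊓ C : Subgroup P)) ∈ closure (T1 : Set (H ⊓ C : Subgroup P)) := by
        rw [hT1gen]; exact mem_top _
      have h2 := mem_map_of_mem (H ⊓ C : Subgroup P).subtype h1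
      rw [MonoidHom.map_closure] at h2
      refine closure_mono ?_ h2
      rw [Finset.coe_union, Finset.coe_image, Finset.coe_image]
      exact Set.subset_union_left
    have hρ' : ρ (m : P) = ρ h := hρ
    have hq : (m : P)⁻¹ * h ∈ C := hker _ (by rw [map_mul, ← hρ', ← map_mul, inv_mul_cancel, map_one])
    have := mul_mem hmT (hC' _ ⟨H.mul_mem (H.inv_mem m.2) hh, hq⟩)
    rwa [mul_inv_cancel_left] at this

/-- Let p be an odd prime and P a finite p-group in which every normal abelian subgroup can be generated by k elements. Then every subgroup of P can be generated by at most ⌊k(k+4)/4⌋ elements. -/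
theorem result {P : Type*} [Group P] [Finite P] {p : ℕ} [Fact p.Prime]
    (hp : p ≠ 2) (hP : IsPGroup p P) (k : ℕ)
    (hab : ∀ A : Subgroup P, A.Normal → IsMulCommutative A → ∃ S : Finset P, S.card ≤ k ∧ Subgroup.closure (S : Set P) = A) :
    ∀ H : Subgroup P, ∃ S : Finset P, S.card ≤ k * (k + 4) / 4 ∧ Subgroup.closure (S : Set P) = H :=
  fun H => bound hp hP k hab H

end Cfsg.Agent.S4057
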