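import Cfsg.Statements.S4058
import Cfsg.Agent.Lib.FGS73.FrattiniDual
import Cfsg.Agent.Lib.Char.Linear
import Cfsg.Agent.Lib.Char.Conj
import Cfsg.Agent.Lib.Char.Virtual
import Cfsg.Agent.S0135
import Cfsg.Agent.S0158
import Cfsg.Agent.S0159


set_option autoImplicit false
open Cfsg

namespace Cfsg.Agent.S4058

/-- Let G be a finite 2-group with #(G/Φ(G)) ≥ 2^(2k+1). Then the number of elements x of G with x² = 1 is divisible by 2^(k+1). -/
theorem result {G : Type*} [Group G] [Finite G] (hG : IsPGroup 2 G) (k : ℕ)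
    (hgen : 2 ^ (2 * k + 1) ≤ Nat.card (G ⧸ frattini G)) :
    2 ^ (k + 1) ∣ Nat.card {x : G // x ^ 2 = 1} := by
  classical
  haveI : Fact (Nat.Prime 2) := ⟨Nat.prime_two⟩
  haveI := Fintype.ofFinite G
  have e : Nat.card {x : G // x ^ 2 = 1} = Nat.card {s : G // s * s = 1} :=
    Nat.card_congr (Equiv.subtypeEquivRight fun x => by rw [pow_two])
  rw [e]
  let Λ := (G ⧸ frattini G) →* ℂˣ
  letI act : MulAction Λ (Cfsg.IrrCharacter G) :=
    { smul := fun f χ => ⟨fun g => (f (QuotientGroup.mk' (frattini G) g) : ℂ) * (χ : G → ℂ) g,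
        CfsgLib.Char.IsIrrCharacter.linear_mul χ.2 (f.comp (QuotientGroup.mk' (frattini G)))⟩
      one_smul := fun χ => Subtype.ext (funext fun g => one_mul _)
      mul_smul := fun f f' χ => Subtype.ext (funext fun g => mul_assoc _ _ _) }
  haveI hfinΛ : Finite Λ := Nat.finite_of_card_ne_zero (by
    show Nat.card ((G ⧸ frattini G) →* ℂˣ) ≠ 0
    rw [CfsgLib.FGS73.card_frattiniDual hG]; exact Nat.card_pos.ne')
  haveI := Fintype.ofFinite Λ
  have hsmul : ∀ (f : Λ) (χ : Cfsg.IrrCharacter G) (g : G),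
      ((f • χ : Cfsg.IrrCharacter G) : G → ℂ) g = (f (QuotientGroup.mk' (frattini G) g) : ℂ) * (χ : G → ℂ) g :=
    fun _ _ _ => rfl
  have hdat : ∀ χ : Cfsg.IrrCharacter G, ∃ (z : ℤ) (m : ℕ),
      (Nat.card G : ℂ)⁻¹ * ∑ s : G, (χ : G → ℂ) (s * s) = (z : ℂ) ∧ (χ : G → ℂ) 1 = ((2 ^ m : ℕ) : ℂ) := by
    rintro ⟨χ, n, ρ, hρ, rfl⟩
    obtain ⟨k0, hk0⟩ := IsPGroup.iff_card.1 hG
    have hd := Cfsg.Agent.S0135.result ρ
    rw [hk0] at hd
    obtain ⟨m, -, hm⟩ := (Nat.dvd_prime_pow Nat.prime_two).1 hd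
    rcases (Cfsg.Agent.S0158.result ρ).1 with h | h | h
    · exact ⟨0, m, by rw [h]; simp, by show ρ.character 1 = _; rw [Representation.char_one, hm]⟩
    · exact ⟨1, m, by rw [h]; simp, by show ρ.character 1 = _; rw [Representation.char_one, hm]⟩
    · exact ⟨-1, m, by rw [h]; simp, by show ρ.character 1 = _; rw [Representation.char_one, hm]⟩
  choose z m hz hm using hdat
  let T : Cfsg.IrrCharacter G → ℤ := fun χ => z χ * 2 ^ m χ
  have hsum : (Nat.card {s : G // s * s = 1} : ℤ) = ∑ χ, T χ := by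
    have h := Cfsg.Agent.S0159.result (G := G)
    rw [finsum_eq_sum_of_fintype] at h
    have h2 : ((Nat.card {s : G // s * s = 1} : ℤ) : ℂ) = ((∑ χ, T χ : ℤ) : ℂ) := by
      rw [Int.cast_natCast, h, Int.cast_sum]
      refine Finset.sum_congr rfl fun χ _ => ?_
      rw [hz χ, hm χ]
      simp [T]
    exact_mod_cast h2
  have hinv : ∀ (f : Λ) (χ : Cfsg.IrrCharacter G), T (f • χ) = T χ := by
    intro f χ
    have h1 : (z (f • χ) : ℂ) = z χ := by
      rw [← hz, ← hz]
      congr 1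
      refine Finset.sum_congr rfl fun s _ => ?_
      rw [hsmul, map_mul, map_mul, Units.val_mul, CfsgLib.FGS73.frattiniDual_val hG, one_mul]
    have h2 : ((2 ^ m (f • χ) : ℕ) : ℂ) = ((2 ^ m χ : ℕ) : ℂ) := by
      rw [← hm, ← hm, hsmul, map_one, map_one, Units.val_one, one_mul]
    show z (f • χ) * 2 ^ m (f • χ) = z χ * 2 ^ m χ
    rw [show z (f • χ) = z χ by exact_mod_cast h1, Nat.pow_right_injective le_rfl (Nat.cast_injective h2)]
  -- the stabilizer of χ has at most χ(1)² elements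
  have hstab : ∀ χ : Cfsg.IrrCharacter G, Nat.card (MulAction.stabilizer Λ χ) ≤ (2 ^ m χ) * 2 ^ m χ := by
    intro χ
    set φ : G → ℂ := (χ : G → ℂ) * fun g => starRingEnd ℂ ((χ : G → ℂ) g) with hφ
    have hφc : Cfsg.IsCharacter G φ :=
      CfsgLib.Char.IsCharacter.mul (CfsgLib.Char.IsIrrCharacter.isCharacter χ.2)
        (CfsgLib.Char.IsCharacter.conj_apply' (CfsgLib.Char.IsIrrCharacter.isCharacter χ.2))
    have hnat : ∀ ψ : Cfsg.IrrCharacter G, ∃ n : ℕ, Cfsg.classInner φ (ψ : G → ℂ) = n :=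
      fun ψ => CfsgLib.Char.IsCharacter.exists_nat_classInner hφc ψ.2
    choose c hc using hnat
    have h1 : (2 ^ m χ * 2 ^ m χ : ℕ) = ∑ ψ : Cfsg.IrrCharacter G, c ψ * 2 ^ m ψ := by
      have h := congrFun (CfsgLib.Char.IsCharacter.eq_sum_classInner hφc) 1
      simp only [hφ, Pi.mul_apply, Finset.sum_apply, Pi.smul_apply, smul_eq_mul, hm] at h
      rw [← Nat.cast_inj (R := ℂ)]
      push_cast at h ⊢
      rw [← hφ] at h
      simpa [hc, map_pow, map_ofNat, map_natCast] using h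
    let j : MulAction.stabilizer Λ χ → Cfsg.IrrCharacter G := fun f =>
      ⟨_, CfsgLib.Char.isIrrCharacter_linear ((f : Λ).comp (QuotientGroup.mk' (frattini G)))⟩
    have hj : Function.Injective j := by
      intro f f' hff
      refine Subtype.ext (MonoidHom.ext fun g => ?_)
      obtain ⟨g, rfl⟩ := QuotientGroup.mk'_surjective _ g
      exact Units.ext (congrFun (congrArg Subtype.val hff) g)
    have hcj : ∀ f, c (j f) = 1 := by
      intro f
      have h2 : Cfsg.classInner φ (j f : G → ℂ) = 1 := by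
        rw [← CfsgLib.Char.classInner_irr_self χ.2]
        simp only [Cfsg.classInner]
        congr 1
        refine Finset.sum_congr rfl fun g _ => ?_
        have h3 := congrFun (congrArg Subtype.val (MulAction.mem_stabilizer_iff.1 f.2)) g
        rw [hsmul] at h3
        have h4 : starRingEnd ℂ ((j f : G → ℂ) g) * starRingEnd ℂ ((χ : G → ℂ) g) = starRingEnd ℂ ((χ : G → ℂ) g) := by
          rw [← map_mul]; exact congrArg _ h3
        simp only [hφ, Pi.mul_apply]
        rw [mul_assoc, mul_comm (starRingEnd ℂ ((χ : G → ℂ) g)), h4]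
      rw [hc] at h2
      exact_mod_cast h2
    rw [h1, Nat.card_eq_fintype_card, ← Finset.card_univ]
    calc (Finset.univ : Finset (MulAction.stabilizer Λ χ)).card
        = ∑ ψ ∈ (Finset.univ : Finset (MulAction.stabilizer Λ χ)).image j, 1 := by
          rw [← Finset.card_eq_sum_ones, Finset.card_image_of_injective _ hj]
      _ ≤ ∑ ψ ∈ (Finset.univ : Finset (MulAction.stabilizer Λ χ)).image j, c ψ * 2 ^ m ψ := by
          refine Finset.sum_le_sum fun ψ hψ => ?_
          obtain ⟨f, -, rfl⟩ := Finset.mem_image.1 hψ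
          rw [hcj, one_mul]
          exact Nat.one_le_two_pow
      _ ≤ _ := Finset.sum_le_sum_of_subset (Finset.subset_univ _)
  -- the size of the dual
  obtain ⟨d, hd⟩ := IsPGroup.iff_card.1 (hG.to_quotient (frattini G))
  have hΛ : Nat.card Λ = 2 ^ d := by
    show Nat.card ((G ⧸ frattini G) →* ℂˣ) = _
    rw [CfsgLib.FGS73.card_frattiniDual hG, hd]
  have hdk : 2 * k + 1 ≤ d := (Nat.pow_le_pow_iff_right (by norm_num)).1 (hd ▸ hgen)
  have hdvd : (2 ^ (k + 1) : ℤ) ∣ ∑ χ, T χ := by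
    haveI : Fintype (MulAction.orbitRel.Quotient Λ (Cfsg.IrrCharacter G)) := Fintype.ofFinite _
    rw [← Finset.sum_fiberwise Finset.univ (fun χ => (Quotient.mk'' χ : MulAction.orbitRel.Quotient Λ (Cfsg.IrrCharacter G))) T]
    refine Finset.dvd_sum fun q _ => ?_
    induction q using Quotient.inductionOn' with
    | h χ =>
      have hfib : ∀ ψ, (Quotient.mk'' ψ : MulAction.orbitRel.Quotient Λ (Cfsg.IrrCharacter G)) = Quotient.mk'' χ ↔
          ψ ∈ MulAction.orbit Λ χ := fun ψ => by rw [Quotient.eq'', MulAction.orbitRel_apply]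
      rw [Finset.sum_congr rfl (fun ψ hψ => show T ψ = T χ by
        obtain ⟨f, rfl⟩ := (hfib ψ).1 (Finset.mem_filter.1 hψ).2
        exact hinv f χ), Finset.sum_const, nsmul_eq_mul]
      have horb := MulAction.index_stabilizer Λ χ
      rw [← Nat.card_coe_set_eq] at horb
      obtain ⟨b, hb, hbeq⟩ := (Nat.dvd_prime_pow Nat.prime_two).1
        (hΛ ▸ Subgroup.card_subgroup_dvd_card (MulAction.stabilizer Λ χ))
      have hidx := Subgroup.card_mul_index (MulAction.stabilizer Λ χ)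
      rw [horb, hbeq, hΛ, ← Nat.add_sub_cancel' hb, pow_add] at hidx
      have hcard : (Finset.univ.filter (fun ψ => (Quotient.mk'' ψ : MulAction.orbitRel.Quotient Λ (Cfsg.IrrCharacter G)) = Quotient.mk'' χ)).card = 2 ^ (d - b) := by
        rw [← Nat.eq_of_mul_eq_mul_left (Nat.two_pow_pos b) hidx, ← Fintype.card_subtype, ← Nat.card_eq_fintype_card]
        exact Nat.card_congr (Equiv.subtypeEquivRight hfib)
      rw [hcard]
      have hb2 : b ≤ m χ + m χ := by
        have := hstab χ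
        rw [hbeq, ← pow_add] at this
        exact (Nat.pow_le_pow_iff_right (by norm_num)).1 this
      show (2 ^ (k + 1) : ℤ) ∣ ((2 ^ (d - b) : ℕ) : ℤ) * (z χ * 2 ^ m χ)
      push_cast
      rw [mul_left_comm, ← pow_add]
      exact Dvd.dvd.mul_left (pow_dvd_pow 2 (by omega)) _
  rw [← hsum] at hdvd
  exact_mod_cast hdvd

end Cfsg.Agent.S4058
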