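import Cfsg.Statements.S4059
import Cfsg.Agent.Lib.FGS73.Conj


set_option autoImplicit false
open Cfsg

namespace Cfsg.Agent.S4059

/-- Let G be a finite group in which every element is conjugate to its inverse. Then: every non-identity element commuting with all elements of some Sylow 2-subgroup is an involution; the centre of G is an elementary abelian 2-group; the commutator quotient G/G' is an elementary abelian 2-group; and G is generated by its 2-elements. -/
theorem result {G : Type*} [Group G] [Finite G] (hamb : ∀ x : G, IsConj x x⁻¹) :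
    (∀ (S : Sylow 2 G) (x : G), x ∈ Subgroup.centralizer ((S : Subgroup G) : Set G) → x ≠ 1 → orderOf x = 2) ∧
    (∀ z : G, z ∈ Subgroup.center G → z ^ 2 = 1) ∧
    (∀ x : G, x ^ 2 ∈ commutator G) ∧
    Subgroup.closure {x : G | ∃ k : ℕ, orderOf x = 2 ^ k} = ⊤ := by
  refine ⟨fun S x hx hx1 => ?_, fun z hz => ?_, fun x => ?_, ?_⟩
  · have hS : (S : Subgroup G) ≤ Subgroup.centralizer {x} := fun s hs =>
      Subgroup.mem_centralizer_singleton_iff.2 (Subgroup.mem_centralizer_iff.1 hx s hs)
    exact orderOf_eq_prime (CfsgLib.FGS73.sq_eq_one_of_real_of_sylow_le S (hamb x) hS) hx1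
  · obtain ⟨g, hg⟩ := isConj_iff.1 (hamb z)
    rw [Subgroup.mem_center_iff.1 hz g, mul_assoc, mul_inv_cancel, mul_one] at hg
    rw [pow_two]; nth_rewrite 2 [hg]; exact mul_inv_cancel z
  · obtain ⟨g, hg⟩ := isConj_iff.1 (hamb x)
    have h1 : g * x⁻¹ * g⁻¹ * x ∈ commutator G := by
      have := Subgroup.commutator_mem_commutator (Subgroup.mem_top g) (Subgroup.mem_top x⁻¹)
      rwa [commutatorElement_def, inv_inv, ← commutator_def] at this
    have h2 : g * x⁻¹ * g⁻¹ = x := by
      have := congrArg (fun w => w⁻¹) hg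
      simpa [mul_assoc] using this
    rw [h2] at h1
    rwa [pow_two]
  · let W : Subgroup G := Subgroup.closure {x : G | ∃ k : ℕ, orderOf x = 2 ^ k}
    have hW : W.Normal := by
      refine ⟨fun n hn g => ?_⟩
      refine (Subgroup.closure_le (K := W.comap (MulAut.conj g).toMonoidHom)).2 ?_ hn
      rintro y ⟨k, hk⟩
      exact Subgroup.subset_closure ⟨k, by rw [← hk]; exact (MulAut.conj g).orderOf_eq y⟩
    have hodd : ∀ x : G, ∃ m : ℕ, Odd m ∧ x ^ m ∈ W := by
      intro x
      obtain ⟨k, m, hm, hkm⟩ := Nat.exists_eq_two_pow_mul_odd (orderOf_pos x).ne'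
      refine ⟨m, hm, Subgroup.subset_closure ⟨k, ?_⟩⟩
      rw [orderOf_pow_of_dvd (Odd.pos hm).ne' (by rw [hkm]; exact dvd_mul_left m _), hkm,
        Nat.mul_div_cancel _ hm.pos]
    have hq : ∀ y : G ⧸ W, Odd (orderOf y) := by
      intro y
      induction y using QuotientGroup.induction_on with
      | H x =>
        obtain ⟨m, hm, hxm⟩ := hodd x
        refine hm.of_dvd_nat (orderOf_dvd_of_pow_eq_one ?_)
        rw [← QuotientGroup.mk_pow, QuotientGroup.eq_one_iff]
        exact hxm
    change W = ⊤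
    rw [eq_top_iff]
    intro x _
    rw [← QuotientGroup.eq_one_iff]
    apply CfsgLib.FGS73.eq_one_of_odd_of_eq_inv (hq _)
    obtain ⟨g, hg⟩ := isConj_iff.1 (hamb x)
    have hg' : (g : G ⧸ W) * (x : G ⧸ W) * (g : G ⧸ W)⁻¹ = (x : G ⧸ W)⁻¹ := by
      rw [← QuotientGroup.mk_inv, ← QuotientGroup.mk_inv, ← QuotientGroup.mk_mul, ← QuotientGroup.mk_mul, hg]
    by_contra hne
    have h2 := CfsgLib.FGS73.two_dvd_index_centralizer_of_inverted hne hg'
    have h3 := h2.trans (Subgroup.index_dvd_card _)
    haveI : Fact (Nat.Prime 2) := ⟨Nat.prime_two⟩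
    obtain ⟨y, hy⟩ := exists_prime_orderOf_dvd_card' 2 h3
    have := hq y
    rw [hy] at this
    exact absurd this (by decide)

end Cfsg.Agent.S4059
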