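import Cfsg.Statements.S4060
import Cfsg.Agent.Lib.FGS73.Conj


set_option autoImplicit false
open Cfsg

namespace Cfsg.Agent.S4060

open CfsgLib.FGS73 in
theorem aux : ∀ (n : ℕ) (G : Type _) [Group G] [Finite G] [Group.IsSolvable G], Nat.card G = n →
    ∀ (S : Sylow 2 G) (x : G), x ≠ 1 → Odd (orderOf x) →
      x ∈ Subgroup.normalizer ((S : Subgroup G) : Set G) → ¬ IsConj x x⁻¹ := by
  intro n
  induction n using Nat.strong_induction_on with
  | _ n ih => ?_
  intro G _ _ _ hn S x hx hodd hnorm hr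
  haveI : Fact (Nat.Prime 2) := ⟨Nat.prime_two⟩
  haveI : Nontrivial G := ⟨⟨x, 1, hx⟩⟩
  -- a nontrivial abelian normal subgroup
  obtain ⟨A, hAn, hAc, hA1⟩ : ∃ A : Subgroup G, A.Normal ∧ (∀ a ∈ A, ∀ b ∈ A, a * b = b * a) ∧ A ≠ ⊥ := by
    classical
    have hs : ∃ k, derivedSeries G k = ⊥ := Group.IsSolvable.solvable
    have hk := Nat.find_spec hs
    obtain ⟨m, hm⟩ : ∃ m, Nat.find hs = m + 1 := by
      refine Nat.exists_eq_succ_of_ne_zero fun h => ?_
      rw [h, derivedSeries_zero] at hk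
      exact top_ne_bot hk
    refine ⟨derivedSeries G m, derivedSeries_normal G m, fun a ha b hb => ?_, Nat.find_min hs (by omega)⟩
    have h2 := Subgroup.commutator_mem_commutator ha hb
    rw [← derivedSeries_succ, ← hm, hk, Subgroup.mem_bot] at h2
    exact (commutatorElement_eq_one_iff_commute.1 h2).eq
  by_cases hxA : x ∈ A
  · have hS : (S : Subgroup G) ≤ Subgroup.centralizer {x} := by
      intro s hs
      rw [Subgroup.mem_centralizer_singleton_iff]
      have hc : x * s * x⁻¹ * s⁻¹ ∈ (S : Subgroup G) :=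
        mul_mem ((Subgroup.mem_normalizer_iff.1 hnorm s).1 hs) (inv_mem hs)
      have hy : s * x⁻¹ * s⁻¹ ∈ A := hAn.conj_mem _ (inv_mem hxA) s
      have hoy : orderOf (s * x⁻¹ * s⁻¹) = orderOf x := by
        rw [← orderOf_inv x]; exact (MulAut.conj s).orderOf_eq x⁻¹
      have hcm : Commute x (s * x⁻¹ * s⁻¹) := hAc _ hxA _ hy
      have hpow : (x * (s * x⁻¹ * s⁻¹)) ^ orderOf x = 1 := by
        rw [hcm.mul_pow, pow_orderOf_eq_one, one_mul, ← hoy, pow_orderOf_eq_one]
      rw [show x * (s * x⁻¹ * s⁻¹) = x * s * x⁻¹ * s⁻¹ by simp [mul_assoc]] at hpow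
      obtain ⟨k, hk⟩ := S.isPGroup' ⟨_, hc⟩
      have hk' : (x * s * x⁻¹ * s⁻¹) ^ 2 ^ k = 1 := congrArg Subtype.val hk
      have h1 : x * s * x⁻¹ * s⁻¹ = 1 := by
        rw [← Subgroup.mem_bot]
        exact mem_of_pow_mem_coprime ((Nat.coprime_two_right.2 hodd).pow_right k)
          (by rw [hpow]; exact one_mem _) (by rw [hk']; exact one_mem _)
      rw [mul_inv_eq_one, mul_inv_eq_iff_eq_mul] at h1
      exact h1.symm
    exact hx (eq_one_of_odd_of_eq_inv hodd (eq_inv_of_mul_eq_one_left (by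
      rw [← pow_two]; exact sq_eq_one_of_real_of_sylow_le S hr hS)))
  · haveI := hAn
    have hlt : Nat.card (G ⧸ A) < n := by
      rw [← hn, ← Subgroup.index_eq_card, ← Subgroup.index_bot (G := G)]
      exact Subgroup.index_strictAnti (bot_lt_iff_ne_bot.2 hA1)
    refine ih _ hlt (G ⧸ A) rfl (S.mapSurjective (QuotientGroup.mk'_surjective A)) (QuotientGroup.mk' A x) ?_ ?_ ?_ ?_
    · simpa [QuotientGroup.eq_one_iff] using hxA
    · exact hodd.of_dvd_nat (orderOf_map_dvd _ x)
    · rw [Sylow.coe_mapSurjective]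
      exact Subgroup.le_normalizer_map _ ⟨x, hnorm, rfl⟩
    · have := (QuotientGroup.mk' A).map_isConj hr
      rwa [map_inv] at this


/-- Let G be a finite solvable group with Sylow 2-subgroup S, and let x ≠ 1 be an element of odd order normalizing S. Then x is not conjugate to its inverse in G. -/
theorem result {G : Type*} [Group G] [Finite G] [Group.IsSolvable G]
    (S : Sylow 2 G) (x : G) (hx : x ≠ 1) (hodd : Odd (orderOf x))
    (hnorm : x ∈ Subgroup.normalizer ((S : Subgroup G) : Set G)) : ¬ IsConj x x⁻¹ := by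
  exact aux (Nat.card G) G rfl S x hx hodd hnorm

end Cfsg.Agent.S4060
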