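import Cfsg.Statements.S4061
import Cfsg.Agent.Lib.FGS73.Ambivalent
import Cfsg.Agent.Lib.Solvable.UniqueInvolution
import Cfsg.Agent.Lib.Solvable.Basic


set_option autoImplicit false
open Cfsg

namespace Cfsg.Agent.S4061

open scoped commutatorElement

theorem basic {G : Type*} [Group G] (hamb : ∀ x : G, IsConj x x⁻¹) (x : G) : x ^ 2 ∈ commutator G := by
  obtain ⟨g, hg⟩ := isConj_iff.1 (hamb x)
  have h1 : g * x⁻¹ * g⁻¹ * x ∈ commutator G := by
    have := Subgroup.commutator_mem_commutator (Subgroup.mem_top g) (Subgroup.mem_top x⁻¹)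
    rwa [commutatorElement_def, inv_inv, ← commutator_def] at this
  have h2 : g * x⁻¹ * g⁻¹ = x := by
    have := congrArg (fun w => w⁻¹) hg
    simpa [mul_assoc] using this
  rw [h2] at h1
  rwa [pow_two]


/-- Let G be a finite solvable group of even order in which every element is conjugate to its inverse and all involutions are conjugate. Then a Sylow 2-subgroup S of G has order 2 or is a generalized quaternion group (of order at least 8). Moreover, if S has order 2, then G is the semidirect product of its largest normal subgroup of odd order O(G) by S, O(G) equals the derived subgroup of G, and the involution of S inverts every element of O(G). -/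
theorem result {G : Type*} [Group G] [Finite G] [Group.IsSolvable G]
    (hamb : ∀ x : G, IsConj x x⁻¹) (heven : 2 ∣ Nat.card G) (hone : ∀ s t : G, orderOf s = 2 → orderOf t = 2 → IsConj s t) (S : Sylow 2 G) :
    (Nat.card S = 2 ∨ ∃ n : ℕ, Nonempty ((S : Subgroup G) ≃* QuaternionGroup (2 ^ (n + 1)))) ∧
    (Nat.card S = 2 → (S : Subgroup G).IsComplement' (Cfsg.oddCore G) ∧ Cfsg.oddCore G = commutator G ∧
        ∀ t : G, t ∈ S → t ≠ 1 → ∀ x : G, x ∈ Cfsg.oddCore G → t * x * t⁻¹ = x⁻¹) := by
  haveI : Fact (Nat.Prime 2) := ⟨Nat.prime_two⟩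
  haveI : (Cfsg.oddCore G).Normal := CfsgLib.Solvable.pPrimeCore_normal 2 G
  have hOodd : Odd (Nat.card (Cfsg.oddCore G)) :=
    Nat.coprime_two_right.1 (CfsgLib.Solvable.pPrimeCore_card_coprime 2 G)
  have hS2 : 2 ∣ Nat.card S := by
    obtain ⟨k, hk⟩ := IsPGroup.iff_card.1 S.isPGroup'
    rcases k with _ | k
    · exact absurd heven (fun h => S.not_dvd_index (by
        rw [← Subgroup.card_mul_index (S : Subgroup G)] at h
        rw [show Nat.card (S : Subgroup G) = 1 by rw [hk, pow_zero], one_mul] at h
        exact h))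
    · rw [show Nat.card S = 2 ^ (k + 1) from hk]; exact dvd_pow_self 2 (Nat.succ_ne_zero k)
  -- S has a unique involution
  have huniq : ∀ u v : ↥(S : Subgroup G), u ^ 2 = 1 → u ≠ 1 → v ^ 2 = 1 → v ≠ 1 → u = v := by
    intro u v hu hu1 hv hv1
    have hqo : ∀ w : ↥(S : Subgroup G), w ^ 2 = 1 → w ≠ 1 → orderOf (QuotientGroup.mk' (Cfsg.oddCore G) (w : G)) = 2 := by
      intro w hw hw1
      refine orderOf_eq_prime (by rw [← map_pow, ← Subgroup.coe_pow, hw, Subgroup.coe_one, map_one]) fun h => hw1 (Subtype.ext ?_)
      rw [Subgroup.coe_one, ← Subgroup.mem_bot]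
      exact CfsgLib.FGS73.mem_of_pow_mem_coprime (Nat.coprime_two_left.2 hOodd)
        (by rw [← Subgroup.coe_pow, hw]; exact one_mem _)
        (by rw [show (w : G) ^ Nat.card (Cfsg.oddCore G) = 1 from congrArg Subtype.val (pow_card_eq_one'
              (x := (⟨w, (QuotientGroup.eq_one_iff _).1 h⟩ : Cfsg.oddCore G)))]; exact one_mem _)
    have h := CfsgLib.FGS73.unique_involution_oddCore_quotient hamb hone _ _ (hqo u hu hu1) (hqo v hv hv1)
    have h1 : (u : G)⁻¹ * v ∈ Cfsg.oddCore G := QuotientGroup.eq.1 h
    have hd : Disjoint (S : Subgroup G) (Cfsg.oddCore G) := Subgroup.disjoint_of_coprime_natCard (by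
      obtain ⟨k, hk⟩ := IsPGroup.iff_card.1 S.isPGroup'
      rw [hk]; exact (Nat.coprime_two_left.2 hOodd).pow_left k)
    exact Subtype.ext (inv_mul_eq_one.1 (Subgroup.disjoint_def.1 hd (mul_mem (inv_mem u.2) v.2) h1))
  have hsqc : ∀ x : G, x ^ 2 ∈ commutator G := (Cfsg.Agent.S4061.basic hamb)
  have hcyc : IsCyclic ↥(S : Subgroup G) → Nat.card S = 2 := by
    intro hc
    have hmin : (Nat.card G).minFac = 2 := (Nat.minFac_eq_two_iff _).2 heven
    have hN := IsCyclic.normalizer_le_centralizer hmin hc
    have hker := MonoidHom.ker_transferSylow_isComplement' S hN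
    have hle : commutator G ≤ (MonoidHom.transferSylow S hN).ker := by
      rw [commutator_def, Subgroup.commutator_le]
      intro a _ b _
      rw [MonoidHom.mem_ker, map_commutatorElement, commutatorElement_eq_one_iff_commute]
      exact IsMulCommutative.is_comm.comm _ _
    have hexp : ∀ s : ↥(S : Subgroup G), s ^ 2 = 1 := fun s => by
      refine Subtype.ext ?_
      exact Subgroup.disjoint_def.1 hker.disjoint (hle (hsqc s)) (s ^ 2).2
    have h1 : Nat.card S ∣ 2 := by
      obtain ⟨s, hs⟩ := hc.exists_ofOrder_eq_natCard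
      rw [← hs]; exact orderOf_dvd_of_pow_eq_one (hexp s)
    exact Nat.dvd_antisymm h1 hS2
  refine ⟨?_, fun hS => ?_⟩
  · rcases CfsgLib.Solvable.isCyclic_or_quaternion_of_unique_involution S.isPGroup' huniq with h | ⟨k, ⟨e⟩⟩
    · exact Or.inl (hcyc h)
    · rcases k with _ | k
      · left
        have : IsCyclic (QuaternionGroup (2 ^ 0)) :=
          isCyclic_of_orderOf_eq_card (QuaternionGroup.xa 0) (by
            rw [QuaternionGroup.orderOf_xa, Nat.card_eq_fintype_card, QuaternionGroup.card]; rfl)
        exact hcyc (isCyclic_of_surjective e.symm.toMonoidHom e.symm.surjective)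
      · exact Or.inr ⟨k, ⟨e⟩⟩
  · haveI : IsCyclic ↥(S : Subgroup G) := isCyclic_of_prime_card (p := 2) hS
    have hmin : (Nat.card G).minFac = 2 := (Nat.minFac_eq_two_iff _).2 heven
    have hker := IsCyclic.isComplement' hmin (P := S) inferInstance
    set K := (MonoidHom.transferSylow S (IsCyclic.normalizer_le_centralizer hmin inferInstance)).ker
    have hKO : K ≤ Cfsg.oddCore G := by
      refine CfsgLib.Solvable.le_pPrimeCore inferInstance ?_
      first | rw [← hker.index_eq_card] | rw [← hker.symm.index_eq_card]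
      exact (Nat.prime_two.coprime_iff_not_dvd.2 S.not_dvd_index).symm
    have hdisj : Disjoint (Cfsg.oddCore G) (S : Subgroup G) := Subgroup.disjoint_of_coprime_natCard (by
      rw [hS]; exact Nat.coprime_two_right.2 hOodd)
    have htop : Cfsg.oddCore G ⊔ (S : Subgroup G) = ⊤ := top_unique (hker.sup_eq_top ▸ sup_le_sup_right hKO _)
    have hcomp := CfsgLib.Solvable.isComplement'_of_sup_eq_top htop hdisj
    have hcommle : commutator G ≤ Cfsg.oddCore G := by
      rw [commutator_def, Subgroup.commutator_le]
      intro a _ b _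
      rw [← QuotientGroup.eq_one_iff, ← QuotientGroup.mk'_apply, map_commutatorElement, commutatorElement_eq_one_iff_commute]
      haveI : IsCyclic (G ⧸ Cfsg.oddCore G) := isCyclic_of_prime_card (p := 2) (by
        first | (rw [← Subgroup.index_eq_card, hcomp.symm.index_eq_card]; exact hS) | (rw [← Subgroup.index_eq_card, hcomp.index_eq_card]; exact hS))
      exact IsMulCommutative.is_comm.comm _ _
    have hOle : Cfsg.oddCore G ≤ commutator G := by
      intro o ho
      refine CfsgLib.FGS73.mem_of_pow_mem_coprime (Nat.coprime_two_left.2 hOodd) (hsqc o) ?_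
      rw [show o ^ Nat.card (Cfsg.oddCore G) = 1 from congrArg Subtype.val (pow_card_eq_one' (x := (⟨o, ho⟩ : Cfsg.oddCore G)))]
      exact one_mem _
    refine ⟨hcomp.symm, le_antisymm hOle hcommle, fun t ht ht1 x hx => ?_⟩
    have htS : ∀ s : G, s ∈ (S : Subgroup G) → s = 1 ∨ s = t := by
      intro s hs
      by_contra hne
      push Not at hne
      obtain ⟨a, b, hab, hset⟩ := Nat.card_eq_two_iff.1 hS
      have key : ∀ w : ↥(S : Subgroup G), w = a ∨ w = b := fun w => by
        have := hset.symm.subset (Set.mem_univ w)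
        simpa using this
      rcases key ⟨s, hs⟩ with h1 | h1 <;> rcases key ⟨t, ht⟩ with h2 | h2 <;> rcases key 1 with h3 | h3
      all_goals first
        | exact hne.1 (congrArg Subtype.val (h1.trans h3.symm))
        | exact hne.2 (congrArg Subtype.val (h1.trans h2.symm))
        | exact ht1 (congrArg Subtype.val (h2.trans h3.symm))
    let φ : Cfsg.oddCore G →* Cfsg.oddCore G := (MulAut.conjNormal t : MulAut (Cfsg.oddCore G)).toMonoidHom
    have hfree : MonoidHom.FixedPointFree φ := by
      intro c hc
      have hc' : t * (c : G) * t⁻¹ = c := congrArg Subtype.val hc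
      have hSle : (S : Subgroup G) ≤ Subgroup.centralizer {(c : G)} := by
        intro s hs
        rw [Subgroup.mem_centralizer_singleton_iff]
        rcases htS s hs with rfl | rfl
        · simp
        · exact mul_inv_eq_iff_eq_mul.1 hc'
      have h2 := CfsgLib.FGS73.sq_eq_one_of_real_of_sylow_le S (hamb _) hSle
      refine Subtype.ext ?_
      rw [Subgroup.coe_one, ← Subgroup.mem_bot]
      exact CfsgLib.FGS73.mem_of_pow_mem_coprime (Nat.coprime_two_left.2 hOodd) (by rw [h2]; exact one_mem _)
        (by rw [show (c : G) ^ Nat.card (Cfsg.oddCore G) = 1 from congrArg Subtype.val (pow_card_eq_one' (x := c))]; exact one_mem _)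
    have htt : t * t = 1 := by
      have := pow_card_eq_one' (x := (⟨t, ht⟩ : ↥(S : Subgroup G)))
      rw [show Nat.card ↥(S : Subgroup G) = 2 from hS, pow_two] at this
      exact congrArg Subtype.val this
    have hinv : Function.Involutive φ := by
      intro c
      refine Subtype.ext ?_
      show t * (t * (c : G) * t⁻¹) * t⁻¹ = c
      calc t * (t * (c : G) * t⁻¹) * t⁻¹ = (t * t) * (c : G) * (t * t)⁻¹ := by simp [mul_assoc]
        _ = c := by rw [htt]; simp
    exact congrArg Subtype.val (congrFun (MonoidHom.FixedPointFree.coe_eq_inv_of_involutive hfree hinv) ⟨x, hx⟩)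

end Cfsg.Agent.S4061
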