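import Cfsg.Statements.S4062
import Cfsg.Agent.S4061
import Cfsg.Agent.Lib.FGS73.Ambivalent


set_option autoImplicit false
open Cfsg

namespace Cfsg.Agent.S4062

open CfsgLib.FGS73 in
theorem two_case {G : Type*} [Group G] [Finite G] (h : ∀ x y : G, orderOf x = orderOf y → IsConj x y)
    (S : Sylow 2 G) (hS : Nat.card S = 2) (hcomp : (S : Subgroup G).IsComplement' (Cfsg.oddCore G))
    (hinv : ∀ t : G, t ∈ S → t ≠ 1 → ∀ x : G, x ∈ Cfsg.oddCore G → t * x * t⁻¹ = x⁻¹) :
    Nat.card G = 2 ∨ Nonempty (G ≃* Equiv.Perm (Fin 3)) := by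
  haveI : Fact (Nat.Prime 2) := ⟨Nat.prime_two⟩
  set O := Cfsg.oddCore G
  have hOodd : Odd (Nat.card O) :=
    Nat.coprime_two_right.1 (CfsgLib.Solvable.pPrimeCore_card_coprime 2 G)
  obtain ⟨t, ht⟩ := exists_prime_orderOf_dvd_card' (G := (S : Subgroup G)) 2 (dvd_of_eq hS.symm)
  have ht1 : (t : G) ≠ 1 := fun h1 => by
    rw [← Subgroup.orderOf_coe, h1, orderOf_one] at ht; exact absurd ht (by norm_num)
  have hab : ∀ a ∈ O, ∀ b ∈ O, a * b = b * a := by
    intro a ha b hb
    have h1 := hinv t t.2 ht1 _ (mul_mem ha hb)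
    have h2 : (t : G) * (a * b) * (t : G)⁻¹ = ((t : G) * a * (t : G)⁻¹) * ((t : G) * b * (t : G)⁻¹) := by simp [mul_assoc]
    rw [h2, hinv t t.2 ht1 a ha, hinv t t.2 ht1 b hb] at h1
    have h3 := congrArg (fun w => w⁻¹) h1
    simpa using h3.symm
  -- the classes inside O
  have hcls : ∀ a ∈ O, ∀ y : G, IsConj a y → y = a ∨ y = a⁻¹ := by
    intro a ha y hy
    obtain ⟨g, rfl⟩ := isConj_iff.1 hy
    obtain ⟨⟨s, o⟩, hg⟩ := hcomp.2 g
    change (s : G) * (o : G) = g at hg
    subst hg
    have e : (s : G) * o * a * ((s : G) * o)⁻¹ = (s : G) * a * (s : G)⁻¹ := by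
      rw [mul_assoc (s : G) o a, hab o o.2 a ha]; simp [mul_assoc]
    rw [e]
    by_cases hs : (s : G) = 1
    · left; simp [hs]
    · right; exact hinv s s.2 hs a ha
  have hexp : ∀ a ∈ O, a ^ 3 = 1 := by
    intro a ha
    have ho : Odd (orderOf a) := by
      refine hOodd.of_dvd_nat ?_
      rw [← Subgroup.orderOf_mk a ha]; exact orderOf_dvd_natCard _
    rcases hcls a ha (a ^ 2) (h a (a ^ 2) (Nat.Coprime.orderOf_pow (Nat.coprime_two_right.2 ho)).symm) with h1 | h1
    · rw [pow_two, mul_eq_left] at h1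
      rw [h1, one_pow]
    · rw [pow_succ, h1, inv_mul_cancel]
  by_cases hO : ∀ a ∈ O, a = 1
  · left
    rw [← hcomp.card_mul, hS, Subgroup.card_eq_one.2 ((Subgroup.eq_bot_iff_forall O).2 hO), mul_one]
  right
  push Not at hO
  obtain ⟨a, ha, ha1⟩ := hO
  have hO3 : Nat.card O = 3 := by
    have hall : ∀ b : O, b ∈ Subgroup.zpowers (⟨a, ha⟩ : O) := by
      intro b
      by_cases hb : (b : G) = 1
      · rw [show b = 1 from Subtype.ext hb]; exact one_mem _
      · haveI : Fact (Nat.Prime 3) := ⟨Nat.prime_three⟩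
        rcases hcls a ha b (h a b (by rw [orderOf_eq_prime (hexp a ha) ha1, orderOf_eq_prime (hexp b b.2) hb])) with h1 | h1
        · rw [show b = ⟨a, ha⟩ from Subtype.ext h1]; exact Subgroup.mem_zpowers _
        · rw [show b = (⟨a, ha⟩ : O)⁻¹ from Subtype.ext h1]; exact inv_mem (Subgroup.mem_zpowers _)
    haveI : Fact (Nat.Prime 3) := ⟨Nat.prime_three⟩
    rw [← orderOf_eq_card_of_forall_mem_zpowers hall, Subgroup.orderOf_mk]
    exact orderOf_eq_prime (hexp a ha) ha1
  have hidx : (S : Subgroup G).index = 3 := by rw [hcomp.symm.index_eq_card, hO3]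
  have hcore : (S : Subgroup G).normalCore = ⊥ := by
    rw [Subgroup.eq_bot_iff_forall]
    intro s hs
    by_contra hs1
    have h1 : a * s * a⁻¹ * s⁻¹ ∈ (S : Subgroup G) :=
      mul_mem ((Subgroup.normalCore_le _) ((Subgroup.normalCore_normal _).conj_mem s hs a))
        (inv_mem (Subgroup.normalCore_le _ hs))
    have h2 : a * s * a⁻¹ * s⁻¹ ∈ O := by
      rw [show a * s * a⁻¹ * s⁻¹ = a * (s * a⁻¹ * s⁻¹) by simp [mul_assoc]]
      haveI : O.Normal := CfsgLib.Solvable.pPrimeCore_normal 2 G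
      exact mul_mem ha ((inferInstance : O.Normal).conj_mem _ (inv_mem ha) s)
    have h3 := Subgroup.disjoint_def.1 hcomp.disjoint h1 h2
    rw [show a * s * a⁻¹ * s⁻¹ = a * (s * a⁻¹ * s⁻¹) by simp [mul_assoc],
      hinv s (Subgroup.normalCore_le _ hs) hs1 _ (inv_mem ha), inv_inv] at h3
    apply ha1
    exact eq_one_of_odd_of_eq_inv (hOodd.of_dvd_nat (by rw [← Subgroup.orderOf_mk a ha]; exact orderOf_dvd_natCard _))
      (eq_inv_of_mul_eq_one_left h3)
  let e0 : (G ⧸ (S : Subgroup G)) ≃ Fin 3 := (Finite.equivFinOfCardEq (by rw [← Subgroup.index_eq_card, hidx]))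
  let φ : G →* Equiv.Perm (Fin 3) :=
    (e0.permCongrHom.toMonoidHom).comp (MulAction.toPermHom G (G ⧸ (S : Subgroup G)))
  have h1 : Function.Injective (MulAction.toPermHom G (G ⧸ (S : Subgroup G))) := by
    rw [← MonoidHom.ker_eq_bot_iff, ← Subgroup.normalCore_eq_ker, hcore]
  have hinj : Function.Injective φ := fun a b hab => h1 (e0.permCongrHom.injective hab)
  refine ⟨MulEquiv.ofBijective φ ((Nat.bijective_iff_injective_and_card φ).2 ⟨hinj, ?_⟩)⟩
  rw [← hcomp.card_mul, hS, hO3, Nat.card_perm, Nat.card_fin]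
  rfl

open CfsgLib.FGS73 in
theorem quaternion_case {G : Type*} [Group G] [Finite G] [Group.IsSolvable G]
    (h : ∀ x y : G, orderOf x = orderOf y → IsConj x y) (S : Sylow 2 G) (n : ℕ)
    (e : (S : Subgroup G) ≃* QuaternionGroup (2 ^ (n + 1))) : False := by
  haveI : Fact (Nat.Prime 2) := ⟨Nat.prime_two⟩
  haveI : NeZero (2 ^ (n + 1)) := ⟨pow_ne_zero _ two_ne_zero⟩
  have hamb : ∀ x : G, IsConj x x⁻¹ := fun x => h x x⁻¹ (orderOf_inv x).symm
  set O := Cfsg.oddCore G with hOdef
  haveI : O.Normal := CfsgLib.Solvable.pPrimeCore_normal 2 G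
  set K := G ⧸ O
  have huniq : ∀ s t : K, orderOf s = 2 → orderOf t = 2 → s = t :=
    unique_involution_oddCore_quotient hamb fun s t hs ht => h s t (hs.trans ht.symm)
  have hconj4 : ∀ x y : K, orderOf x = 2 ^ 2 → orderOf y = 2 ^ 2 → IsConj x y := by
    intro x y hx hy
    obtain ⟨x', hx', rfl⟩ := exists_lift_two_element x 2 hx
    obtain ⟨y', hy', rfl⟩ := exists_lift_two_element y 2 hy
    exact (QuotientGroup.mk' O).map_isConj (h x' y' (hx'.trans hy'.symm))
  set Sb := S.mapSurjective (QuotientGroup.mk'_surjective O)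
  have hSb : (Sb : Subgroup K) = (S : Subgroup G).map (QuotientGroup.mk' O) := Sylow.coe_mapSurjective _ _
  have hinjS : Function.Injective ((QuotientGroup.mk' O).comp (S : Subgroup G).subtype) := by
    rw [← MonoidHom.ker_eq_bot_iff, Subgroup.eq_bot_iff_forall]
    intro s hs
    obtain ⟨k, hk⟩ := IsPGroup.iff_card.1 S.isPGroup'
    have hd : Disjoint (S : Subgroup G) O := Subgroup.disjoint_of_coprime_natCard (by
      rw [hk]; exact (CfsgLib.Solvable.pPrimeCore_card_coprime 2 G).symm.pow_left k)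
    exact Subtype.ext (Subgroup.disjoint_def.1 hd s.2 ((QuotientGroup.eq_one_iff (s : G)).1 hs))
  let ι : QuaternionGroup (2 ^ (n + 1)) →* K :=
    ((QuotientGroup.mk' O).comp (S : Subgroup G).subtype).comp e.symm.toMonoidHom
  have hι : Function.Injective ι := hinjS.comp e.symm.injective
  have hxa : ∀ i, orderOf (ι (QuaternionGroup.xa i)) = 2 ^ 2 := fun i => by
    rw [orderOf_injective ι hι, QuaternionGroup.orderOf_xa]; rfl
  -- the 2-core contains an element of order 4
  set U := Cfsg.pCore 2 K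
  haveI hUn : U.Normal := CfsgLib.Solvable.pCore_normal 2 K
  have hUp := CfsgLib.Solvable.pCore_isPGroup 2 K
  have hU4 : ∃ u ∈ U, orderOf u = 2 ^ 2 := by
    by_contra hno
    push Not at hno
    have hexp : ∀ u ∈ U, u ^ 2 = 1 := by
      intro u hu
      obtain ⟨k, hk⟩ := (IsPGroup.iff_orderOf.1 hUp) ⟨u, hu⟩
      rw [Subgroup.orderOf_mk] at hk
      by_contra hu2
      have hk2 : 2 ≤ k := by
        by_contra hk1
        apply hu2
        rw [← orderOf_dvd_iff_pow_eq_one, hk]
        exact (pow_dvd_pow 2 (by omega : k ≤ 1)).trans (by norm_num)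
      refine hno (u ^ 2 ^ (k - 2)) (pow_mem hu _) ?_
      rw [orderOf_pow_of_dvd (pow_ne_zero _ two_ne_zero) (hk ▸ pow_dvd_pow 2 (by omega)), hk,
        Nat.pow_div (by omega) two_pos]
      congr 1; omega
    -- then U is central
    have hFU : Cfsg.fittingSubgroup K ≤ U := by
      intro f hf
      have hFp : IsPGroup 2 (Cfsg.fittingSubgroup K) := by
        haveI := CfsgLib.Solvable.fittingSubgroup_isNilpotent K
        haveI := CfsgLib.Solvable.fittingSubgroup_normal K
        intro x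
        obtain ⟨k, m, hm, hkm⟩ := Nat.exists_eq_two_pow_mul_odd (orderOf_pos x).ne'
        refine ⟨k, ?_⟩
        have hx' : orderOf (x ^ 2 ^ k) = m := by
          rw [orderOf_pow_of_dvd (pow_ne_zero k two_ne_zero) (hkm ▸ dvd_mul_right _ _), hkm,
            Nat.mul_div_cancel_left _ (Nat.two_pow_pos k)]
        by_contra hne
        obtain ⟨r, hr, hrm⟩ := Nat.exists_prime_and_dvd (n := m) (fun h1 => hne (orderOf_eq_one_iff.1 (hx'.trans h1)))
        haveI := Fact.mk hr
        have hrd : r ∣ Nat.card (Cfsg.fittingSubgroup K) := (hx' ▸ hrm : r ∣ orderOf (x ^ 2 ^ k)).trans (orderOf_dvd_natCard _)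
        obtain ⟨R⟩ := (inferInstance : Nonempty (Sylow r (Cfsg.fittingSubgroup K)))
        have hRn := Sylow.normal_of_normalizerCondition normalizerCondition_of_isNilpotent R
        haveI := R.characteristic_of_normal hRn
        have hRK : ((R : Subgroup (Cfsg.fittingSubgroup K)).map (Cfsg.fittingSubgroup K).subtype).Normal :=
          CfsgLib.Solvable.normal_map_subtype_of_characteristic _ _
        have h2 := CfsgLib.Solvable.le_pPrimeCore (p := 2) hRK (by
          rw [Subgroup.card_subtype]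
          obtain ⟨i, hi⟩ := IsPGroup.iff_card.1 R.isPGroup'
          rw [hi]
          refine ((Nat.coprime_primes hr Nat.prime_two).2 ?_).pow_left i
          rintro rfl
          exact (Nat.not_even_iff_odd.2 hm) (even_iff_two_dvd.2 hrm))
        rw [CfsgLib.Solvable.pPrimeCore_quotient_eq_bot O hOdef, le_bot_iff,
          Subgroup.map_eq_bot_iff_of_injective _ (Subgroup.subtype_injective _)] at h2
        exact R.ne_bot_of_dvd_card hrd h2
      exact CfsgLib.Solvable.le_pCore (CfsgLib.Solvable.fittingSubgroup_normal K) hFp hf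
    have hUc : ∀ u ∈ U, ∀ g : K, g * u = u * g := by
      intro u hu g
      by_cases hu1 : u = 1
      · simp [hu1]
      have h2 : orderOf u = 2 := orderOf_eq_prime (hexp u hu) hu1
      have h3 := huniq (g * u * g⁻¹) u (((MulAut.conj g).orderOf_eq u).trans h2) h2
      rwa [mul_inv_eq_iff_eq_mul] at h3
    have hKU : ∀ g : K, g ∈ U := fun g =>
      hFU (CfsgLib.Solvable.centralizer_fittingSubgroup_le (G := K) (Subgroup.mem_centralizer_iff.2 fun f hf => (hUc f (hFU hf) g).symm))
    have := hexp (ι (QuaternionGroup.xa 0)) (hKU _)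
    rw [← orderOf_dvd_iff_pow_eq_one, hxa] at this
    exact absurd this (by norm_num)
  obtain ⟨u, huU, hu⟩ := hU4
  have hall4 : ∀ x : K, orderOf x = 2 ^ 2 → x ∈ U := fun x hx => by
    obtain ⟨g, rfl⟩ := isConj_iff.1 (hconj4 u x hu hx)
    exact hUn.conj_mem u huU g
  -- hence the Sylow subgroup is normal and equal to K
  have hSU : (Sb : Subgroup K) = U := by
    refine le_antisymm ?_ (CfsgLib.Solvable.pCore_le_sylow Sb)
    rw [hSb]
    rintro _ ⟨s, hs, rfl⟩
    have he : QuotientGroup.mk' O s = ι (e ⟨s, hs⟩) := by simp [ι]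
    rw [he]
    cases e ⟨s, hs⟩ with
    | xa i => exact hall4 _ (hxa i)
    | a i =>
      have hd : QuaternionGroup.a i = (QuaternionGroup.xa 0)⁻¹ * QuaternionGroup.xa i := by
        rw [eq_inv_mul_iff_mul_eq, QuaternionGroup.xa_mul_a, zero_add]
      rw [hd, map_mul, map_inv]
      exact mul_mem (inv_mem (hall4 _ (hxa 0))) (hall4 _ (hxa i))
  have hUtop : U = ⊤ := by
    by_contra hne
    haveI : Nontrivial (K ⧸ U) := QuotientGroup.nontrivial_iff.2 hne
    have h2 := two_dvd_card_of_ambivalent (ambivalent_quotient (ambivalent_quotient hamb O) U)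
    rw [← Subgroup.index_eq_card, ← hSU] at h2
    exact Sb.not_dvd_index h2
  have hsurj : Function.Surjective ι := by
    intro y
    obtain ⟨s, hs, rfl⟩ : y ∈ (S : Subgroup G).map (QuotientGroup.mk' O) := by
      rw [← hSb, hSU, hUtop]; exact Subgroup.mem_top y
    exact ⟨e ⟨s, hs⟩, by simp [ι]⟩
  -- two classes of elements of order 4
  obtain ⟨c, hc⟩ : (4 : ℕ) ∣ 2 * 2 ^ (n + 1) := ⟨2 ^ n, by rw [pow_succ]; ring⟩
  set s := QuaternionGroup.a (1 : ZMod (2 * 2 ^ (n + 1))) ^ c
  have hs : orderOf (ι s) = 2 ^ 2 := by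
    rw [orderOf_injective ι hι, orderOf_pow_of_dvd
      (fun h0 => by rw [h0, mul_zero] at hc; exact absurd hc (mul_ne_zero two_ne_zero (NeZero.ne (2 ^ (n + 1)))))
      (by rw [QuaternionGroup.orderOf_a_one, hc]; exact dvd_mul_left c 4),
      QuaternionGroup.orderOf_a_one, hc]
    rw [Nat.mul_div_cancel _ (Nat.pos_of_ne_zero (fun h0 => by rw [h0, mul_zero] at hc; exact mul_ne_zero two_ne_zero (NeZero.ne (2 ^ (n + 1))) hc))]
    rfl
  obtain ⟨g, hg⟩ := isConj_iff.1 (hconj4 _ _ hs (hxa 0))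
  obtain ⟨g, rfl⟩ := hsurj g
  rw [← map_inv, ← map_mul, ← map_mul] at hg
  have hg' := hι hg
  let par : QuaternionGroup (2 ^ (n + 1)) → ZMod 2 := fun q => match q with
    | QuaternionGroup.a _ => 0
    | QuaternionGroup.xa _ => 1
  have hpar : ∀ a b, par (a * b) = par a + par b := by
    intro a b; cases a <;> cases b <;> simp [par] <;> exact (CharTwo.add_self_eq_zero (1 : ZMod 2)).symm
  let P : QuaternionGroup (2 ^ (n + 1)) →* Multiplicative (ZMod 2) :=
    MonoidHom.mk' (fun q => Multiplicative.ofAdd (par q)) fun a b => by rw [hpar, ofAdd_add]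
  have h1 := congrArg P hg'
  rw [map_mul, map_mul, map_inv, mul_comm (P g), mul_inv_cancel_right] at h1
  rw [map_pow, show P (QuaternionGroup.a 1) = 1 from rfl, one_pow] at h1
  exact absurd h1 (fun h' => (zero_ne_one : (0 : ZMod 2) ≠ 1) (congrArg Multiplicative.toAdd h'))


/-- A finite solvable group in which any two elements of the same order are conjugate has order 1 or 2 or is isomorphic to the symmetric group of degree 3. -/
theorem result {G : Type*} [Group G] [Finite G] [Group.IsSolvable G]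
    (h : ∀ x y : G, orderOf x = orderOf y → IsConj x y) :
    Nat.card G = 1 ∨ Nat.card G = 2 ∨ Nonempty (G ≃* Equiv.Perm (Fin 3)) := by
  haveI : Fact (Nat.Prime 2) := ⟨Nat.prime_two⟩
  rcases subsingleton_or_nontrivial G with hG | hG
  · left; exact Nat.card_unique
  have hamb : ∀ x : G, IsConj x x⁻¹ := fun x => h x x⁻¹ (orderOf_inv x).symm
  have heven := CfsgLib.FGS73.two_dvd_card_of_ambivalent hamb
  obtain ⟨S⟩ := (inferInstance : Nonempty (Sylow 2 G))
  obtain ⟨hS, hS'⟩ := Cfsg.Agent.S4061.result hamb heven (fun s t hs ht => h s t (hs.trans ht.symm)) S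
  rcases hS with hS | ⟨n, ⟨e⟩⟩
  · obtain ⟨hcomp, -, hinv⟩ := hS' hS
    exact Or.inr (two_case h S hS hcomp hinv)
  · exact (quaternion_case h S n e).elim

end Cfsg.Agent.S4062
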