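import Cfsg.Statements.S4064
import Cfsg.Agent.Lib.FGS73.TICentralizersZass
import Cfsg.Agent.S1230
import Cfsg.Agent.Lib.PSL2Sub.PSL

set_option autoImplicit false
open Cfsg

namespace Cfsg.Agent.S4064

/-- Let G be a finite group in which the centralizer of every element meets each of its conjugates by elements outside its normalizer trivially. Then G is nilpotent; or G is a Frobenius group with a complement that is cyclic or isomorphic to the direct product of a cyclic group of odd order and the quaternion group of order 8; or G is isomorphic to PSL₂(2ⁿ) for some n ≥ 2. -/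
theorem result {G : Type*} [Group G] [Finite G] (hTI : ∀ x : G, Cfsg.IsTISubset (Subgroup.centralizer ({x} : Set G) : Set G)) :
    Group.IsNilpotent G ∨
    (∃ H : Subgroup G, Cfsg.IsFrobeniusComplement H ∧
      (IsCyclic H ∨ ∃ m : ℕ, Odd m ∧ Nonempty (H ≃* Multiplicative (ZMod m) × QuaternionGroup 2))) ∨
    (∃ n : ℕ, 2 ≤ n ∧ Nonempty (G ≃* Matrix.ProjectiveSpecialLinearGroup (Fin 2) (GaloisField 2 n))) := by
  have h : CfsgLib.FGS73.TICent.TIC G := hTI
  by_cases hnn : Group.IsNilpotent G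
  · exact Or.inl hnn
  by_cases hs : Group.IsSolvable G
  · exact Or.inr (Or.inl (CfsgLib.FGS73.TICent.solvable_case h hnn))
  refine Or.inr (Or.inr ?_)
  obtain ⟨T⟩ : Nonempty (Sylow 2 G) := inferInstance
  obtain ⟨t, S⟩ := CfsgLib.FGS73.TICent.exists_data h hs T
  have hTD := S.T_eq
  have hnc : ¬ IsCyclic (T : Subgroup G) := by
    intro hc
    obtain ⟨u, huT, hu, hne⟩ := CfsgLib.FGS73.TICent.exists_two_invol h hs T S.ord S.memT
    obtain ⟨g, hg⟩ := hc.exists_generator
    have hg2 : (g : G) ^ 2 = 1 := S.D_sq _ (hTD ▸ g.2)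
    have hmem : ∀ w : G, w ∈ (T : Subgroup G) → w = 1 ∨ w = (g : G) := by
      intro w hw
      obtain ⟨k, hk⟩ := Subgroup.mem_zpowers_iff.1 (hg ⟨w, hw⟩)
      have hk' : (g : G) ^ k = w := by simpa using congrArg Subtype.val hk
      rcases Int.even_or_odd k with ⟨m, rfl⟩ | ⟨m, rfl⟩
      · left; rw [← hk', ← two_mul, zpow_mul, zpow_ofNat, hg2, one_zpow]
      · right; rw [← hk', zpow_add, zpow_mul, zpow_ofNat, hg2, one_zpow, one_mul, zpow_one]
    have hu1 : u ≠ 1 := fun e => by rw [e, orderOf_one] at hu; exact absurd hu (by norm_num)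
    exact hne (((hmem u huT).resolve_left hu1).trans ((hmem t S.memT).resolve_left S.ne_one).symm)
  have hnnorm : ¬ (T : Subgroup G).Normal := by
    intro hn
    rw [hTD] at hn
    exact S.M_ne_top (Subgroup.normalizer_eq_top_iff.2 hn)
  obtain ⟨F, hF, hFin, hcard, ⟨e⟩⟩ := Cfsg.Agent.S1230.result T hnc hnnorm fun u hu => by
    obtain ⟨g, rfl⟩ := isConj_iff.1 (S.isConj_invol hu)
    have hmem : ∀ c ∈ Subgroup.centralizer ({g * t * g⁻¹} : Set G), g⁻¹ * c * g ∈ CfsgLib.FGS73.TICent.D t := by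
      intro c hc
      rw [Subgroup.mem_centralizer_singleton_iff] at hc ⊢
      calc g⁻¹ * c * g * t = g⁻¹ * (c * (g * t * g⁻¹)) * g := by group
        _ = g⁻¹ * (g * t * g⁻¹ * c) * g := by rw [hc]
        _ = t * (g⁻¹ * c * g) := by group
    refine ⟨⟨⟨fun a b => Subtype.ext ?_⟩⟩, fun c hc => ?_⟩
    · have hab := S.D_comm _ (hmem a a.2) _ (hmem b b.2)
      show (a : G) * b = b * a
      calc (a : G) * b = g * ((g⁻¹ * a * g) * (g⁻¹ * b * g)) * g⁻¹ := by group
        _ = g * ((g⁻¹ * b * g) * (g⁻¹ * a * g)) * g⁻¹ := by rw [hab]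
        _ = b * a := by group
    · have h2 := S.D_sq _ (hmem c hc)
      calc c ^ 2 = g * (g⁻¹ * c * g) ^ 2 * g⁻¹ := by rw [sq, sq]; group
        _ = 1 := by rw [h2]; group
  letI := hF
  letI := hFin
  obtain ⟨f, hf⟩ := (IsPGroup.iff_card (p := 2)).1 T.isPGroup'
  have hf2 : 2 ≤ f := by
    have hj := S.two_le_j
    have ho := S.card_omega
    have hle : Nat.card S.omega ≤ Nat.card (T : Subgroup G) := by
      rw [hTD]; exact Subgroup.card_le_of_le (fun x hx => hx.1)
    rw [ho, hf] at hle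
    unfold CfsgLib.FGS73.TICent.jj at hle
    by_contra hlt
    have : 2 ^ f ≤ 2 := (Nat.pow_le_pow_right (by norm_num) (by omega : f ≤ 1)).trans_eq (pow_one 2)
    omega
  haveI : Fact (Nat.Prime 2) := ⟨Nat.prime_two⟩
  haveI : Fintype (GaloisField 2 f) := Fintype.ofFinite _
  have hGF : Fintype.card F = Fintype.card (GaloisField 2 f) := by
    rw [hcard, hf, ← Nat.card_eq_fintype_card, GaloisField.card 2 f (by omega)]
  obtain ⟨eP⟩ := CfsgLib.PSL2Sub.nonempty_pslEquiv (FiniteField.ringEquivOfCardEq (K := F) (K' := GaloisField 2 f) hGF)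
  exact ⟨f, hf2, ⟨e.trans eP⟩⟩

end Cfsg.Agent.S4064
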