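import Cfsg.Statements.S4065
import Mathlib


set_option autoImplicit false
open Cfsg

namespace Cfsg.Agent.S4065

theorem matrix_commute_trans {F : Type*} [Field F] (Y A B : Matrix (Fin 2) (Fin 2) F)
    (hY : Y 0 1 ≠ 0 ∨ Y 1 0 ≠ 0 ∨ Y 0 0 ≠ Y 1 1) (hA : A * Y = Y * A) (hB : B * Y = Y * B) :
    A * B = B * A := by
  have a00 := congrFun (congrFun hA 0) 0
  have a01 := congrFun (congrFun hA 0) 1
  have a10 := congrFun (congrFun hA 1) 0
  have b00 := congrFun (congrFun hB 0) 0
  have b01 := congrFun (congrFun hB 0) 1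
  have b10 := congrFun (congrFun hB 1) 0
  simp only [Matrix.mul_apply, Fin.sum_univ_two] at a00 a01 a10 b00 b01 b10
  have k1 : A 0 1 * B 1 0 = B 0 1 * A 1 0 ∧ A 0 1 * (B 1 1 - B 0 0) = B 0 1 * (A 1 1 - A 0 0) ∧
      A 1 0 * (B 1 1 - B 0 0) = B 1 0 * (A 1 1 - A 0 0) := by
    rcases hY with h | h | h
    · refine ⟨mul_left_cancel₀ h ?_, mul_left_cancel₀ h ?_, mul_left_cancel₀ h ?_⟩
      · linear_combination (B 0 1) * a00 - (A 0 1) * b00
      · linear_combination (B 0 1) * a01 - (A 0 1) * b01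
      · linear_combination (B 1 0) * a01 - (A 1 0) * b01 -
          (Y 1 1 - Y 0 0) * mul_left_cancel₀ h
            (show Y 0 1 * (A 0 1 * B 1 0) = Y 0 1 * (B 0 1 * A 1 0) by
              linear_combination (B 0 1) * a00 - (A 0 1) * b00)
    · refine ⟨mul_left_cancel₀ h ?_, mul_left_cancel₀ h ?_, mul_left_cancel₀ h ?_⟩
      · linear_combination (B 1 0) * a00 - (A 1 0) * b00
      · linear_combination (A 0 1) * b10 - (B 0 1) * a10 +
          (Y 1 1 - Y 0 0) * mul_left_cancel₀ h
            (show Y 1 0 * (A 0 1 * B 1 0) = Y 1 0 * (B 0 1 * A 1 0) by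
              linear_combination (B 1 0) * a00 - (A 1 0) * b00)
      · linear_combination (A 1 0) * b10 - (B 1 0) * a10
    · have h' : Y 1 1 - Y 0 0 ≠ 0 := sub_ne_zero.2 (Ne.symm h)
      refine ⟨mul_left_cancel₀ h' ?_, mul_left_cancel₀ h' ?_, mul_left_cancel₀ h' ?_⟩
      · by_cases h01 : Y 0 1 = 0
        · have ha : A 0 1 = 0 := mul_left_cancel₀ h' (by linear_combination a01 + (A 1 1 - A 0 0) * h01)
          have hb : B 0 1 = 0 := mul_left_cancel₀ h' (by linear_combination b01 + (B 1 1 - B 0 0) * h01)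
          rw [ha, hb]; ring
        · congr 1
          refine mul_left_cancel₀ h01 ?_
          linear_combination (B 0 1) * a00 - (A 0 1) * b00
      · by_cases h01 : Y 0 1 = 0
        · have ha : A 0 1 = 0 := mul_left_cancel₀ h' (by linear_combination a01 + (A 1 1 - A 0 0) * h01)
          have hb : B 0 1 = 0 := mul_left_cancel₀ h' (by linear_combination b01 + (B 1 1 - B 0 0) * h01)
          rw [ha, hb]; ring
        · congr 1
          refine mul_left_cancel₀ h01 ?_
          linear_combination (B 0 1) * a01 - (A 0 1) * b01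
      · by_cases h10 : Y 1 0 = 0
        · have ha : A 1 0 = 0 := mul_left_cancel₀ h' (by linear_combination -a10 + (A 1 1 - A 0 0) * h10)
          have hb : B 1 0 = 0 := mul_left_cancel₀ h' (by linear_combination -b10 + (B 1 1 - B 0 0) * h10)
          rw [ha, hb]; ring
        · congr 1
          refine mul_left_cancel₀ h10 ?_
          linear_combination (A 1 0) * b10 - (B 1 0) * a10
  obtain ⟨e1, e2, e3⟩ := k1
  ext i j
  fin_cases i <;> fin_cases j <;> simp [Matrix.mul_apply, Fin.sum_univ_two]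
  · linear_combination e1
  · linear_combination e2
  · linear_combination -e3
  · linear_combination -e1

theorem commute_trans (n : ℕ) (y a b : Matrix.ProjectiveSpecialLinearGroup (Fin 2) (GaloisField 2 n))
    (hy : y ≠ 1) (ha : a * y = y * a) (hb : b * y = y * b) : a * b = b * a := by
  have hc : Subgroup.center (Matrix.SpecialLinearGroup (Fin 2) (GaloisField 2 n)) = ⊥ := by
    rw [Subgroup.eq_bot_iff_forall]
    intro A hA
    obtain ⟨r, hr, hrA⟩ := Matrix.SpecialLinearGroup.mem_center_iff.1 hA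
    rw [Fintype.card_fin] at hr
    have h2 : (2 : GaloisField 2 n) = 0 := CharTwo.two_eq_zero
    have : (r - 1) ^ 2 = 0 := by linear_combination hr + (1 - r) * h2
    rw [sq_eq_zero_iff, sub_eq_zero] at this
    refine Subtype.ext ?_
    rw [Matrix.SpecialLinearGroup.coe_one, ← hrA, this, map_one]
  have hinj : Function.Injective
      (QuotientGroup.mk' (Subgroup.center (Matrix.SpecialLinearGroup (Fin 2) (GaloisField 2 n)))) := by
    rw [← MonoidHom.ker_eq_bot_iff, QuotientGroup.ker_mk', hc]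
  obtain ⟨Y, rfl⟩ := QuotientGroup.mk'_surjective _ y
  obtain ⟨A, rfl⟩ := QuotientGroup.mk'_surjective _ a
  obtain ⟨B, rfl⟩ := QuotientGroup.mk'_surjective _ b
  have hY : (Y : Matrix (Fin 2) (Fin 2) (GaloisField 2 n)) 0 1 ≠ 0 ∨
      (Y : Matrix (Fin 2) (Fin 2) (GaloisField 2 n)) 1 0 ≠ 0 ∨
      (Y : Matrix (Fin 2) (Fin 2) (GaloisField 2 n)) 0 0 ≠ (Y : Matrix (Fin 2) (Fin 2) (GaloisField 2 n)) 1 1 := by
    by_contra h
    push Not at h
    apply hy
    obtain ⟨h1, h2, h3⟩ := h
    have hd := Y.2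
    rw [Matrix.det_fin_two] at hd
    have hY1 : Y ∈ Subgroup.center _ := by
      refine Matrix.SpecialLinearGroup.mem_center_iff.2 ⟨(Y : Matrix (Fin 2) (Fin 2) (GaloisField 2 n)) 0 0, ?_, ?_⟩
      · rw [Fintype.card_fin, pow_two]
        linear_combination hd + (Y : Matrix (Fin 2) (Fin 2) (GaloisField 2 n)) 1 0 * h1 +
          (Y : Matrix (Fin 2) (Fin 2) (GaloisField 2 n)) 0 0 * h3
      · ext i j
        fin_cases i <;> fin_cases j <;> simp [h1, h2, h3]
    exact (QuotientGroup.eq_one_iff Y).2 hY1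
  rw [← map_mul, ← map_mul] at ha hb ⊢
  exact congrArg _ (Subtype.ext (matrix_commute_trans _ _ _ hY
    (congrArg Subtype.val (hinj ha)) (congrArg Subtype.val (hinj hb))))


/-- Let F be a finite field with 2ⁿ elements, n ≥ 2. In PSL₂(F) the centralizer of every element meets each of its conjugates by elements outside its normalizer trivially. -/
theorem result (n : ℕ) (hn : 2 ≤ n)
    (x : Matrix.ProjectiveSpecialLinearGroup (Fin 2) (GaloisField 2 n)) :
    Cfsg.IsTISubset (Subgroup.centralizer ({x} : Set (Matrix.ProjectiveSpecialLinearGroup (Fin 2) (GaloisField 2 n))) :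
      Set (Matrix.ProjectiveSpecialLinearGroup (Fin 2) (GaloisField 2 n))) := by
  intro g hg c hc hgc
  by_contra hc1
  apply hg
  by_cases hx : x = 1
  · subst hx
    rw [Subgroup.mem_normalizer_iff]
    intro h
    simp [Subgroup.mem_centralizer_singleton_iff]
  have hc' : c ∈ Subgroup.centralizer ({x} : Set (Matrix.ProjectiveSpecialLinearGroup (Fin 2) (GaloisField 2 n))) := hc
  have he' : g * c * g⁻¹ ∈ Subgroup.centralizer ({x} : Set (Matrix.ProjectiveSpecialLinearGroup (Fin 2) (GaloisField 2 n))) := hgc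
  have he1 : g * c * g⁻¹ ≠ 1 := fun h => hc1 (conj_eq_one_iff.1 h)
  -- centralizers of nontrivial elements are abelian
  have hCeq : ∀ y ∈ Subgroup.centralizer ({x} : Set (Matrix.ProjectiveSpecialLinearGroup (Fin 2) (GaloisField 2 n))), y ≠ 1 →
      ∀ z, z * y = y * z ↔ z * x = x * z := by
    intro y hy hy1 z
    have hy' := Subgroup.mem_centralizer_singleton_iff.1 hy
    exact ⟨fun h => (commute_trans n y z x hy1 h hy'.symm), fun h => commute_trans n x z y hx h hy'⟩
  rw [Subgroup.mem_normalizer_iff]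
  intro h
  rw [Subgroup.mem_centralizer_singleton_iff, Subgroup.mem_centralizer_singleton_iff,
    ← hCeq c hc' hc1 h, ← hCeq _ he' he1 (g * h * g⁻¹)]
  have : ∀ a b : Matrix.ProjectiveSpecialLinearGroup (Fin 2) (GaloisField 2 n), g * a * g⁻¹ * (g * b * g⁻¹) = g * (a * b) * g⁻¹ := fun a b => by simp [mul_assoc]
  rw [this, this]
  simp

end Cfsg.Agent.S4065
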