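import Cfsg.Statements.S4066
import Cfsg.Agent.Lib.FGS73.Conj


set_option autoImplicit false
open Cfsg

namespace Cfsg.Agent.S4066

theorem conj_mem {G : Type*} [Group G]
    (hTI : ∀ x : G, Cfsg.IsTISubset (Subgroup.centralizer ({x} : Set G) : Set G))
    {w a g : G} (ha : a ∈ Subgroup.centralizer ({w} : Set G)) (ha1 : a ≠ 1) (hga : g * a = a * g) :
    g ∈ Subgroup.normalizer (Subgroup.centralizer ({w} : Set G) : Set G) := by
  by_contra hg
  exact ha1 (hTI w g hg a ha (by rw [hga, mul_assoc, mul_inv_cancel, mul_one]; exact ha))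

theorem centralizing_mem {G : Type*} [Group G] [Finite G]
    (hTI : ∀ x : G, Cfsg.IsTISubset (Subgroup.centralizer ({x} : Set G) : Set G))
    {p : ℕ} [Fact p.Prime] (P : Sylow p G) (z : G) (hzP : z ∈ (P : Subgroup G)) (hz1 : z ≠ 1)
    (hzc : ∀ y ∈ (P : Subgroup G), y * z = z * y) (d : G) (hd : d ∈ (P : Subgroup G)) (hd1 : d ≠ 1)
    (y : G) (k : ℕ) (hy : y ^ p ^ k = 1) (hyd : y * d = d * y) : y ∈ (P : Subgroup G) := by
  set C := Subgroup.centralizer ({z} : Set G) with hC
  have hPC : (P : Subgroup G) ≤ C := fun u hu => Subgroup.mem_centralizer_singleton_iff.2 (hzc u hu)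
  have hpC : ¬ p ∣ C.index := fun h => P.not_dvd_index (h.trans (Subgroup.index_dvd_of_le hPC))
  set N := Subgroup.normalizer (C : Set G) with hN
  have hyN : y ∈ N := conj_mem hTI (hPC hd) hd1 hyd
  have hyC : y ∈ C := by
    have h1 : (⟨y, hyN⟩ : N) ^ (C.subgroupOf N).index ∈ C.subgroupOf N := Subgroup.pow_index_mem _ _
    rw [Subgroup.mem_subgroupOf] at h1
    refine CfsgLib.FGS73.mem_of_pow_mem_coprime (a := (C.subgroupOf N).index) (b := p ^ k)
      (Nat.Coprime.pow_right _ (((Fact.out : p.Prime).coprime_iff_not_dvd.2 fun h => hpC ?_).symm))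
      (by simpa using h1) (by rw [hy]; exact one_mem _)
    exact h.trans (Subgroup.relIndex_dvd_index_of_le Subgroup.le_normalizer)
  -- inside `C` the conjugates of a `p`-element commute, so `P` is the only Sylow subgroup of `C`
  let PC : Sylow p C := P.subtype hPC
  haveI hPn : (PC : Subgroup C).Normal := by
    refine ⟨fun h hh c => ?_⟩
    let A : Subgroup C := Subgroup.normalClosure {h}
    have hconj : ∀ a b : C, b * h * b⁻¹ ∈ Subgroup.centralizer ({a * h * a⁻¹} : Set C) := by
      have base : ∀ u : C, u * h * u⁻¹ ∈ Subgroup.centralizer ({h} : Set C) := by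
        intro u
        rw [Subgroup.mem_centralizer_singleton_iff]
        have hu : (u : G) ∈ Subgroup.normalizer (Subgroup.centralizer ({(h : G)} : Set G) : Set G) := by
          refine conj_mem hTI (a := z) ?_ hz1 (Subgroup.mem_centralizer_singleton_iff.1 u.2)
          exact Subgroup.mem_centralizer_singleton_iff.2 (Subgroup.mem_centralizer_singleton_iff.1 h.2).symm
        have := (Subgroup.mem_normalizer_iff.1 hu (h : G)).1 (Subgroup.mem_centralizer_singleton_iff.2 rfl)
        exact Subtype.ext (by simpa using Subgroup.mem_centralizer_singleton_iff.1 this)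
      intro a b
      rw [Subgroup.mem_centralizer_singleton_iff]
      have hb := Subgroup.mem_centralizer_singleton_iff.1 (base (a⁻¹ * b))
      have h5 := congrArg (fun w => a * w * a⁻¹) hb
      simpa [mul_assoc] using h5
    have hA : IsPGroup p A := by
      haveI : IsMulCommutative A := by
        refine Subgroup.isMulCommutative_closure ?_
        intro u hu v hv
        obtain ⟨_, rfl, hconju⟩ := Group.mem_conjugatesOfSet_iff.1 hu
        obtain ⟨_, rfl, hconjv⟩ := Group.mem_conjugatesOfSet_iff.1 hv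
        obtain ⟨a, rfl⟩ := isConj_iff.1 hconju
        obtain ⟨b, rfl⟩ := isConj_iff.1 hconjv
        exact Subgroup.mem_centralizer_singleton_iff.1 (hconj b a)
      obtain ⟨n, hn⟩ := PC.isPGroup' ⟨h, hh⟩
      have hn' : h ^ p ^ n = 1 := congrArg Subtype.val hn
      intro w
      refine ⟨n, Subtype.ext ?_⟩
      have hle : A ≤ Subgroup.closure (Group.conjugatesOfSet {h}) := le_rfl
      obtain ⟨w, hw⟩ := w
      simp only [Subgroup.coe_pow, Subgroup.coe_one]
      refine Subgroup.closure_induction (p := fun x _ => x ^ p ^ n = 1) ?_ (one_pow _) ?_ ?_ (hle hw)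
      · intro u hu
        obtain ⟨_, rfl, hconju⟩ := Group.mem_conjugatesOfSet_iff.1 hu
        obtain ⟨a, rfl⟩ := isConj_iff.1 hconju
        rw [conj_pow, hn', mul_one, mul_inv_cancel]
      · intro u v hu hv ihu ihv
        rw [Commute.mul_pow (congrArg Subtype.val ((IsMulCommutative.is_comm (M := A)).comm ⟨u, hu⟩ ⟨v, hv⟩)), ihu, ihv, one_mul]
      · intro u _ ihu
        rw [inv_pow, ihu, inv_one]
    obtain ⟨R, hR⟩ := hA.exists_le_sylow
    obtain ⟨e, he⟩ := MulAction.exists_smul_eq C R PC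
    have h2 : e⁻¹ * (c * h * c⁻¹) * e⁻¹⁻¹ ∈ (R : Subgroup C) :=
      hR (Subgroup.normalClosure_normal.conj_mem _
        (Subgroup.normalClosure_normal.conj_mem h (Subgroup.subset_normalClosure (Set.mem_singleton h)) c) e⁻¹)
    rw [← he, Sylow.coe_subgroup_smul]
    have h3 := Subgroup.smul_mem_pointwise_smul _ (MulAut.conj e) _ h2
    simpa [mul_assoc] using h3
  have : (⟨y, hyC⟩ : C) ∈ (PC : Subgroup C) := by
    have hyp : IsPGroup p (Subgroup.zpowers (⟨y, hyC⟩ : C)) := by
      obtain ⟨i, -, hi⟩ := (Nat.dvd_prime_pow (Fact.out : p.Prime)).1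
        (orderOf_dvd_of_pow_eq_one (show (⟨y, hyC⟩ : C) ^ p ^ k = 1 from Subtype.ext hy))
      exact IsPGroup.of_card (n := i) (by rw [Nat.card_zpowers, hi])
    obtain ⟨R, hR⟩ := hyp.exists_le_sylow
    have hRP : R = PC := by
      haveI := PC.unique_of_normal hPn
      exact Subsingleton.elim _ _
    exact hRP ▸ hR (Subgroup.mem_zpowers _)
  exact this


/-- Let G be a finite group in which the centralizer of every element meets each of its conjugates by elements outside its normalizer trivially. Then any two distinct Sylow p-subgroups of G, for any prime p, intersect trivially. -/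
theorem result {G : Type*} [Group G] [Finite G] (hTI : ∀ x : G, Cfsg.IsTISubset (Subgroup.centralizer ({x} : Set G) : Set G))
    {p : ℕ} [Fact p.Prime] (P Q : Sylow p G) (hPQ : P ≠ Q) : (P : Subgroup G) ⊓ (Q : Subgroup G) = ⊥ := by
  rw [Subgroup.eq_bot_iff_forall]
  intro d hd
  by_contra hd1
  have hdP : d ∈ (P : Subgroup G) := hd.1
  have hdQ : d ∈ (Q : Subgroup G) := hd.2
  have hgen : ∀ (R : Sylow p G), d ∈ (R : Subgroup G) →
      ∃ z ∈ (R : Subgroup G), z ≠ 1 ∧ ∀ y ∈ (R : Subgroup G), y * z = z * y := by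
    intro R hdR
    haveI : Nontrivial ↥(R : Subgroup G) := ⟨⟨⟨d, hdR⟩, 1, fun h => hd1 (congrArg Subtype.val h)⟩⟩
    haveI := R.isPGroup'.center_nontrivial
    obtain ⟨z, hz⟩ := exists_ne (1 : Subgroup.center ↥(R : Subgroup G))
    refine ⟨((z : ↥(R : Subgroup G)) : G), (z : ↥(R : Subgroup G)).2, fun h => hz (Subtype.ext (Subtype.ext h)), fun y hy => ?_⟩
    exact congrArg Subtype.val (Subgroup.mem_center_iff.1 z.2 ⟨y, hy⟩)
  obtain ⟨z, hzP, hz1, hzc⟩ := hgen P hdP
  obtain ⟨z', hzQ, hz1', hzc'⟩ := hgen Q hdQ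
  have key := fun (d : G) (h1 : d ∈ (P : Subgroup G)) (h2 : d ≠ 1) (y : G) (k : ℕ) (hy : y ^ p ^ k = 1)
    (hyd : y * d = d * y) => centralizing_mem hTI P z hzP hz1 hzc d h1 h2 y k hy hyd
  have hz'P : z' ∈ (P : Subgroup G) := by
    obtain ⟨k, hk⟩ := Q.isPGroup' ⟨z', hzQ⟩
    exact key d hdP hd1 z' k (congrArg Subtype.val hk) (hzc' d hdQ).symm
  have hQP : (Q : Subgroup G) ≤ P := by
    intro y hy
    obtain ⟨k, hk⟩ := Q.isPGroup' ⟨y, hy⟩
    exact key z' hz'P hz1' y k (congrArg Subtype.val hk) (hzc' y hy)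
  exact hPQ (Sylow.ext (Q.is_maximal' P.isPGroup' hQP))

end Cfsg.Agent.S4066
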