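import Cfsg.Statements.S4067
import Cfsg.Agent.Lib.FGS73.AutOrbitTransvection

set_option autoImplicit false
open Cfsg
open scoped commutatorElement

namespace Cfsg.Agent.S4067

open CfsgLib.FGS73.AutOrbits in
/-- The case in which every non-central class has the least prime size. -/
theorem small_classes {G : Type*} [Group G] [Finite G] (hc : ∀ a b : G, ⁅a, b⁆ ∈ Subgroup.center G)
    (hall : ∀ g : G, g ∉ Subgroup.center G → cls g = (Nat.card G).minFac) {a₀ b₀ : G} (hab : ⁅a₀, b₀⁆ ≠ 1) :
    Nat.card (MulAction.orbitRel.Quotient (MulAut G) G) ≤ Nat.card G / (Nat.card G).minFac := by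
  classical
  haveI := Fintype.ofFinite G
  set p := (Nat.card G).minFac with hp
  set C := (commR hc a₀).range with hC
  have hncen : ∀ {x y : G}, ⁅x, y⁆ ≠ 1 → x ∉ Subgroup.center G := fun {x y} h hx =>
    h (by rw [← commutatorElement_inv, comm_of_central y x hx, inv_one])
  have hCcard : Nat.card C = p := by rw [hC, ← cls_eq_range hc, hall a₀ (hncen hab)]
  have hpp : p.Prime := Nat.minFac_prime fun h1 => hab (by
    haveI := (Nat.card_eq_one_iff_unique.1 h1).1; exact Subsingleton.elim _ _)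
  haveI := Fact.mk hpp
  -- two noncommuting elements have the same commutator subgroup
  have heq : ∀ x y : G, ⁅x, y⁆ ≠ 1 → (commR hc x).range = (commR hc y).range := by
    intro x y hxy
    have hyx : ⁅y, x⁆ ≠ 1 := fun e => hxy (by rw [← commutatorElement_inv, e, inv_one])
    have h1 : Subgroup.zpowers ⁅x, y⁆ = (commR hc x).range := by
      refine Subgroup.eq_of_le_of_card_ge (Subgroup.zpowers_le.2 (MonoidHom.mem_range.2 ⟨y, rfl⟩)) ?_
      rw [← cls_eq_range hc, hall x (hncen hxy), Nat.card_zpowers]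
      exact minFac_le_of_dvd (orderOf_dvd_natCard _) (fun e => hxy (orderOf_eq_one_iff.1 e))
    have h2 : Subgroup.zpowers ⁅x, y⁆ = (commR hc y).range := by
      refine Subgroup.eq_of_le_of_card_ge (Subgroup.zpowers_le.2 ?_) ?_
      · rw [← commutatorElement_inv]; exact inv_mem (MonoidHom.mem_range.2 ⟨x, rfl⟩)
      · rw [← cls_eq_range hc, hall y (hncen hyx), Nat.card_zpowers]
        exact minFac_le_of_dvd (orderOf_dvd_natCard _) (fun e => hxy (orderOf_eq_one_iff.1 e))
    rw [← h1, h2]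
  have hcomm : ∀ g k : G, ⁅g, k⁆ ∈ C := by
    intro g k
    by_cases hgk : ⁅g, k⁆ = 1
    · rw [hgk]; exact one_mem _
    have hmem : ⁅g, k⁆ ∈ (commR hc g).range := MonoidHom.mem_range.2 ⟨k, rfl⟩
    by_cases hga : ⁅g, a₀⁆ = 1
    · obtain ⟨u, hu1, hu2⟩ : ∃ u : G, ⁅g, u⁆ ≠ 1 ∧ ⁅a₀, u⁆ ≠ 1 := by
        by_cases h1 : ⁅g, b₀⁆ = 1
        · by_cases h2 : ⁅a₀, k⁆ = 1
          · refine ⟨k * b₀, ?_, ?_⟩
            · rwa [comm_mul_right hc, h1, mul_one]
            · rwa [comm_mul_right hc, h2, one_mul]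
          · exact ⟨k, hgk, h2⟩
        · exact ⟨b₀, h1, hab⟩
      rw [hC, heq a₀ u hu2, ← heq g u hu1]; exact hmem
    · rw [hC, ← heq g a₀ hga]; exact hmem
  have hCc : C ≤ Subgroup.center G := by rintro _ ⟨k, rfl⟩; exact hc a₀ k
  obtain ⟨α, a, ha⟩ := CfsgLib.FGS73.AutOrbits.exists_moving_automorphism hpp C hCc hCcard hcomm ⟨a₀, b₀, hab⟩
  set Z := Subgroup.center G with hZ
  have hαZ : ∀ z ∈ Z, α z ∈ Z := fun z hz => Subgroup.mem_center_iff.2 fun g => by
    obtain ⟨g', rfl⟩ := α.surjective g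
    rw [← map_mul, ← map_mul, Subgroup.mem_center_iff.1 hz g']
  let F : Subgroup G :=
    { carrier := {g | g⁻¹ * α g ∈ Z}
      one_mem' := by simp
      mul_mem' := fun {g h} hg hh => by
        show (g * h)⁻¹ * α (g * h) ∈ Z
        have e : (g * h)⁻¹ * α (g * h) = (g⁻¹ * α g) * (h⁻¹ * α h) := by
          have hz := Subgroup.mem_center_iff.1 (show g⁻¹ * α g ∈ Z from hg) h⁻¹
          calc (g * h)⁻¹ * α (g * h) = h⁻¹ * (g⁻¹ * α g) * α h := by simp [mul_assoc]
            _ = (g⁻¹ * α g) * (h⁻¹ * α h) := by rw [hz]; simp [mul_assoc]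
        rw [e]; exact mul_mem hg hh
      inv_mem' := fun {g} hg => by
        show g⁻¹⁻¹ * α g⁻¹ ∈ Z
        have hz := Subgroup.mem_center_iff.1 (show (g⁻¹ * α g)⁻¹ ∈ Z from inv_mem hg) g
        have e : g⁻¹⁻¹ * α g⁻¹ = (g⁻¹ * α g)⁻¹ := by
          calc g⁻¹⁻¹ * α g⁻¹ = g * (g⁻¹ * α g)⁻¹ * g⁻¹ := by simp [mul_assoc]
            _ = _ := by rw [hz, mul_inv_cancel_right]
        rw [e]; exact inv_mem hg }
  have hZF : Z ≤ F := fun z hz => mul_mem (inv_mem hz) (hαZ z hz)
  set S := Finset.univ.filter fun g : G => g ∉ F with hSdef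
  refine bound_of_saving S (2 * p) (fun g hg hgz => (Finset.mem_filter.1 hg).2 (hZF hgz)) (fun g hg => ?_)
    (Nat.le_mul_of_pos_left p two_pos) ?_
  · -- the orbit contains two classes
    have hgF : g⁻¹ * α g ∉ Z := (Finset.mem_filter.1 hg).2
    have hgz : g ∉ Z := fun h => (Finset.mem_filter.1 hg).2 (hZF h)
    have hαg : α g ∉ Z := fun h => hgz (Subgroup.mem_center_iff.2 fun x => α.injective (by
      rw [map_mul, map_mul]; exact Subgroup.mem_center_iff.1 h (α x)))
    have hsub : {y : G | IsConj g y} ∪ {y : G | IsConj (α g) y} ⊆ MulAction.orbit (MulAut G) g := by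
      rintro y (hy | hy) <;> obtain ⟨h, rfl⟩ := isConj_iff.1 hy
      · exact ⟨MulAut.conj h, rfl⟩
      · exact ⟨MulAut.conj h * α, rfl⟩
    have hdis : Disjoint {y : G | IsConj g y} {y : G | IsConj (α g) y} := by
      rw [Set.disjoint_left]
      intro y h1 h2
      obtain ⟨h, hh⟩ := isConj_iff.1 ((show IsConj g y from h1).trans (IsConj.symm h2))
      apply hgF
      rw [← hh]
      have : g⁻¹ * (h * g * h⁻¹) = ⁅g⁻¹, h⁆ := by simp only [commutatorElement_def, inv_inv]; group
      rw [this]; exact hc _ _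
    rw [Nat.card_coe_set_eq]
    refine le_trans ?_ (Set.ncard_le_ncard hsub (Set.toFinite _))
    rw [Set.ncard_union_eq hdis (Set.toFinite _) (Set.toFinite _), ← cls_eq, ← cls_eq, hall g hgz, hall _ hαg, two_mul]
  · have hScard : S.card + Nat.card F = Nat.card G := by
      rw [Nat.card_eq_fintype_card (α := G), ← Finset.card_univ,
        ← Finset.card_filter_add_card_filter_not (s := Finset.univ) (fun g : G => g ∉ F), hSdef]
      congr 1
      rw [Nat.card_eq_fintype_card, Fintype.card_subtype]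
      congr 1; ext g; simp
    have hidxF : p ≤ F.index := minFac_le_of_dvd F.index_dvd_card fun h1 =>
      ha (show a ∈ F by rw [Subgroup.index_eq_one.1 h1]; exact Subgroup.mem_top a)
    have e1 := F.card_mul_index
    have hf : p * Nat.card F ≤ Nat.card G := by
      rw [← e1, mul_comm]; exact Nat.mul_le_mul_left _ hidxF
    -- the centre has index at least p ^ 2
    set K := Subgroup.centralizer ({a₀} : Set G) with hK
    have hlt : Z < K := by
      refine lt_of_le_of_ne (Subgroup.center_le_centralizer _) fun h => hncen hab ?_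
      show a₀ ∈ Z
      rw [h]; exact Subgroup.mem_centralizer_singleton_iff.2 rfl
    have hrel : p ≤ Z.relIndex K := minFac_le_of_dvd ((Subgroup.relIndex_dvd_card _ _).trans K.card_subgroup_dvd_card)
      (fun h1 => hlt.not_ge (Subgroup.relIndex_eq_one.1 h1))
    have hKi : K.index = p := hall a₀ (hncen hab)
    have hz : Nat.card Z * (p * p) ≤ Nat.card G := by
      rw [← Z.card_mul_index, ← Subgroup.relIndex_mul_index hlt.le, hKi]
      exact Nat.mul_le_mul_left _ (Nat.mul_le_mul_right _ hrel)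
    obtain ⟨r, hr⟩ : ∃ r, p = r + 1 := ⟨p - 1, by have := hpp.two_le; omega⟩
    rw [show 2 * p - p = p by omega]
    rw [hr] at hf hz ⊢
    rw [show (Nat.card G).minFac - 1 = r by omega]
    have hr1 : 1 ≤ r := by have := hpp.two_le; omega
    nlinarith [Nat.zero_le (Nat.card Z), mul_le_mul_of_nonneg_left hz (Nat.zero_le r),
      mul_le_mul_of_nonneg_left hr1 (Nat.zero_le (Nat.card G))]

open CfsgLib.FGS73.AutOrbits in
/-- Let G be a finite non-abelian group and p the least prime dividing its order. Then the automorphism group of G has at most #G/p orbits on G. -/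
theorem result {G : Type*} [Group G] [Finite G] (hna : ¬ IsMulCommutative G) :
    Nat.card (MulAction.orbitRel.Quotient (MulAut G) G) ≤ Nat.card G / (Nat.card G).minFac := by
  by_cases hc : ∀ a b : G, ⁅a, b⁆ ∈ Subgroup.center G
  swap
  · push Not at hc
    obtain ⟨a, b, hab⟩ := hc
    exact bound_of_not_class_two hab
  by_cases hall : ∀ a b : G, ∀ q : ℕ, q.Prime → q ∣ orderOf ⁅a, b⁆ → q = (Nat.card G).minFac
  swap
  · push Not at hall
    obtain ⟨a, b, q, hq, hd, hne⟩ := hall
    exact bound_of_commutator_prime hc hq hne hd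
  by_cases hsmall : ∀ g : G, g ∉ Subgroup.center G → cls g = (Nat.card G).minFac
  swap
  · push Not at hsmall
    obtain ⟨g, hg, hgc⟩ := hsmall
    exact bound_of_large_class hc hall hg hgc
  obtain ⟨a, b, hab⟩ : ∃ a b : G, ⁅a, b⁆ ≠ 1 := by
    by_contra hno
    push Not at hno
    exact hna ⟨⟨fun a b => (commutatorElement_eq_one_iff_commute.1 (hno a b)).eq⟩⟩
  exact small_classes hc hsmall hab

end Cfsg.Agent.S4067
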