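import Cfsg.Statements.S4068
import Cfsg.Agent.Lib.FGS73.FourOrbitsReal
import Cfsg.Agent.S5748
import Cfsg.Agent.Lib.Linear.Card
import Cfsg.Agent.Lib.Recog.SL2Module
import Cfsg.Agent.Lib.PSL2Sub.Small

set_option autoImplicit false
open Cfsg

namespace Cfsg.Agent.S4068

open CfsgLib.FGS73.PrimeOrders CfsgLib.FGS73.FourOrbits Matrix

theorem two_pow_eq_three_pow_add_one {f a : ℕ} (hf : 2 ≤ f) (h : 2 ^ f = 3 ^ a + 1) : f = 2 := by
  -- modulo 3 the exponent is even
  rcases Nat.even_or_odd f with ⟨e, rfl⟩ | ⟨e, rfl⟩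
  · have h1 : (2 ^ e - 1) * (2 ^ e + 1) = 3 ^ a := by
      rw [mul_comm, ← Nat.sq_sub_sq, one_pow, ← pow_mul, mul_two, h, Nat.add_sub_cancel]
    obtain ⟨i, -, hi⟩ := (Nat.dvd_prime_pow Nat.prime_three).1 (Dvd.intro _ h1)
    obtain ⟨j, -, hj⟩ := (Nat.dvd_prime_pow Nat.prime_three).1 (Dvd.intro_left _ h1)
    have hp : 0 < 2 ^ e := Nat.two_pow_pos e
    rcases i with _ | i
    · rw [pow_zero] at hi
      have : e = 1 := Nat.pow_right_injective le_rfl (show 2 ^ e = 2 ^ 1 by omega)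
      omega
    · rcases j with _ | j
      · rw [pow_zero] at hj
        omega
      · rw [pow_succ] at hi hj
        omega
  · exfalso
    have h3 : 2 ^ (2 * e + 1) % 3 = 2 := by
      rw [pow_succ, pow_mul, Nat.mul_mod, Nat.pow_mod]
      norm_num
    rcases a with _ | a
    · rw [pow_zero] at h
      have : 2 ^ 2 ≤ 2 ^ (2 * e + 1) := Nat.pow_le_pow_right (by norm_num) hf
      rw [h] at this
      norm_num at this
    · rw [h, pow_succ] at h3
      omega

theorem two_pow_add_one_eq_three_pow {f a : ℕ} (hf : 2 ≤ f) (h : 2 ^ f + 1 = 3 ^ a) : f = 3 := by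
  rcases Nat.even_or_odd a with ⟨b, rfl⟩ | ⟨b, rfl⟩
  · have h1 : (3 ^ b - 1) * (3 ^ b + 1) = 2 ^ f := by
      rw [mul_comm, ← Nat.sq_sub_sq, one_pow, ← pow_mul, mul_two, ← h, Nat.add_sub_cancel]
    obtain ⟨i, -, hi⟩ := (Nat.dvd_prime_pow Nat.prime_two).1 (Dvd.intro _ h1)
    obtain ⟨j, -, hj⟩ := (Nat.dvd_prime_pow Nat.prime_two).1 (Dvd.intro_left _ h1)
    have h2f : 2 ^ 2 ≤ 2 ^ f := Nat.pow_le_pow_right (by norm_num) hf
    rcases b with _ | b
    · simp at h
    · rcases i with _ | _ | i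
      · rw [pow_succ] at hi; simp at hi; omega
      · have hb : 3 ^ (b + 1) = 3 := by simp at hi ⊢; omega
        rw [hb] at h1
        exact Nat.pow_right_injective le_rfl (show 2 ^ f = 2 ^ 3 by omega)
      · rcases j with _ | _ | j
        · simp at hj
        · simp at hj
          try omega
        · rw [pow_succ, pow_succ] at hi hj
          omega
  · exfalso
    have h8 : 3 ^ (2 * b + 1) % 8 = 3 := by
      rw [pow_succ, pow_mul, Nat.mul_mod, Nat.pow_mod]
      norm_num
    obtain ⟨k, rfl⟩ : ∃ k, f = k + 2 := ⟨f - 2, by omega⟩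
    rw [← h, pow_add] at h8
    omega

section

variable {F : Type*} [Field F] [CharP F 2]

theorem exists_orderOf_nine [Fintype F] (hF : Fintype.card F = 8) :
    ∃ M : SpecialLinearGroup (Fin 2) F, orderOf M = 9 := by
  classical
  have e2 : (2 : F) = 0 := CharTwo.two_eq_zero
  have e3 : (3 : F) = 1 := by linear_combination e2
  obtain ⟨x, hx0, hx1⟩ : ∃ x : F, x ≠ 0 ∧ x ≠ 1 := by
    obtain ⟨x, hx⟩ : ∃ x : F, x ∉ ({0, 1} : Finset F) := by
      by_contra hc
      push Not at hc
      have h1 : (Finset.univ : Finset F) ⊆ {0, 1} := fun y _ => hc y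
      have := Finset.card_le_card h1
      rw [Finset.card_univ, hF] at this
      exact absurd (this.trans Finset.card_le_two) (by norm_num)
    exact ⟨x, by simpa using hx⟩
  have h7 : x ^ 7 = 1 := by
    have := FiniteField.pow_card_sub_one_eq_one x hx0
    rwa [hF] at this
  have hfac : (x - 1) * ((x ^ 3 + x + 1) * (x ^ 3 + x ^ 2 + 1)) = 0 := by
    linear_combination h7 + (x ^ 4 - x ^ 3) * e2
  obtain ⟨t, ht⟩ : ∃ t : F, t ^ 3 + t + 1 = 0 := by
    rcases mul_eq_zero.1 hfac with h | h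
    · exact absurd (sub_eq_zero.1 h) hx1
    rcases mul_eq_zero.1 h with h | h
    · exact ⟨x, h⟩
    · refine ⟨x⁻¹, ?_⟩
      field_simp
      linear_combination h
  let M : SpecialLinearGroup (Fin 2) F := ⟨!![0, 1; 1, t], by
    rw [det_fin_two_of]; linear_combination -e2 + (1 : F) * 0⟩
  have hM3 : ((M ^ 3 : SpecialLinearGroup (Fin 2) F) : Matrix (Fin 2) (Fin 2) F) =
      !![t, t ^ 2 + 1; t ^ 2 + 1, t ^ 3] := by
    rw [pow_succ, pow_two]
    show !![(0 : F), 1; 1, t] * !![0, 1; 1, t] * !![0, 1; 1, t] = _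
    ext i j
    fin_cases i <;> fin_cases j <;> simp [M, Matrix.mul_apply, Fin.sum_univ_two] <;>
      first | linear_combination t * e2 | linear_combination (0 : F) * e2
  have hne : M ^ 3 ≠ 1 := by
    intro e
    have h := congrArg (fun A : SpecialLinearGroup (Fin 2) F => (A : Matrix (Fin 2) (Fin 2) F) 0 1) e
    simp only [hM3] at h
    simp at h
    have h0 : (t + 1) * (t + 1) = 0 := by linear_combination h + t * e2
    have ht1 : t = 1 := by
      have := mul_self_eq_zero.1 h0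
      linear_combination this - e2
    rw [ht1] at ht
    exact one_ne_zero (show (1 : F) = 0 by linear_combination ht - e2)
  have h9 : M ^ 9 = 1 := by
    rw [show (9 : ℕ) = 3 * 3 from rfl, pow_mul]
    rw [pow_succ, pow_two]
    apply Subtype.ext
    show ((M ^ 3 : SpecialLinearGroup (Fin 2) F) : Matrix (Fin 2) (Fin 2) F) *
      ((M ^ 3 : SpecialLinearGroup (Fin 2) F) : Matrix (Fin 2) (Fin 2) F) *
      ((M ^ 3 : SpecialLinearGroup (Fin 2) F) : Matrix (Fin 2) (Fin 2) F) = (1 : Matrix (Fin 2) (Fin 2) F)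
    rw [hM3]
    ext i j
    fin_cases i <;> fin_cases j <;> simp [Matrix.mul_apply, Fin.sum_univ_two]
    · grobner
    · grobner
    · grobner
    · grobner
  haveI := Fact.mk Nat.prime_three
  exact ⟨M, orderOf_eq_prime_pow (p := 3) (n := 1) (by simpa using hne) h9⟩

end

/-- A finite non-solvable group on which its automorphism group has exactly four orbits is isomorphic to the alternating group of degree 5. -/
theorem result {G : Type*} [Group G] [Finite G] (hns : ¬ Group.IsSolvable G)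
    (h4 : Nat.card (MulAction.orbitRel.Quotient (MulAut G) G) = 4) : Nonempty (G ≃* alternatingGroup (Fin 5)) := by
  classical
  obtain ⟨q, r, S⟩ := exists_setup hns h4
  haveI := S.isSimple
  have hnc : ¬ IsMulCommutative G := fun hc => hns <| by
    letI : CommGroup G := { (inferInstance : Group G) with mul_comm := fun a b => hc.is_comm.comm a b }
    infer_instance
  obtain ⟨F, hF, hFin, f, hf, hcard, ⟨e⟩⟩ := (Cfsg.Agent.S5748.result hnc).1
    fun a b c _ hb _ hab hbc => commute_trans S hb hab hbc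
  letI := hF
  letI := hFin
  haveI : CharP F 2 := by
    haveI : Fact (Nat.Prime 2) := ⟨Nat.prime_two⟩
    obtain ⟨p, hp⟩ := CharP.exists F
    obtain ⟨k, hpp, hk⟩ := FiniteField.card F p
    rw [hk] at hcard
    have : p = 2 := (Nat.prime_dvd_prime_iff_eq hpp Nat.prime_two).mp
      (hpp.dvd_of_dvd_pow (hcard ▸ dvd_pow_self p k.pos.ne'))
    exact this ▸ hp
  have hbot := CfsgLib.Recog.center_sl2_eq_bot (F := F)
  let ψ : SpecialLinearGroup (Fin 2) F ≃* ProjectiveSpecialLinearGroup (Fin 2) F :=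
    MulEquiv.ofBijective (QuotientGroup.mk' (Subgroup.center (SpecialLinearGroup (Fin 2) F)))
      ⟨by rw [← MonoidHom.ker_eq_bot_iff, QuotientGroup.ker_mk', hbot],
        QuotientGroup.mk'_surjective _⟩
  let φ : G ≃* SpecialLinearGroup (Fin 2) F := e.trans ψ.symm
  have hg : Nat.card G = 2 ^ f * ((2 ^ f) ^ 2 - 1) := by
    rw [Nat.card_congr φ.toEquiv, CfsgLib.Linear.card_SL_two, hcard]
  have h4le : 4 ≤ 2 ^ f := le_trans (by norm_num) (Nat.pow_le_pow_right (by norm_num : 1 ≤ 2) hf)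
  have hfac : (2 ^ f) ^ 2 - 1 = (2 ^ f + 1) * (2 ^ f - 1) := by
    rw [← Nat.sq_sub_sq, one_pow]
  have hev : 2 ∣ 2 ^ f := dvd_pow_self 2 (by omega)
  -- odd prime divisors of the two factors
  have hodd : ∀ n p : ℕ, (n = 2 ^ f + 1 ∨ n = 2 ^ f - 1) → p.Prime → p ∣ n → p = q ∨ p = r := by
    intro n p hn hp hd
    have hpg : p ∣ Nat.card G := by
      rw [hg, hfac]
      refine dvd_mul_of_dvd_right ?_ _
      rcases hn with rfl | rfl
      · exact hd.mul_right _
      · exact hd.mul_left _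
    refine (S.eq_of_prime hp hpg).resolve_left ?_
    rintro rfl
    rcases hn with rfl | rfl <;> omega
  have hdisj : ∀ p : ℕ, p.Prime → p ∣ 2 ^ f + 1 → p ∣ 2 ^ f - 1 → False := by
    intro p hp h1 h2
    have h3 : p ∣ 2 := by
      have := Nat.dvd_sub h1 h2
      rwa [show 2 ^ f + 1 - (2 ^ f - 1) = 2 by omega] at this
    obtain rfl := (Nat.prime_dvd_prime_iff_eq hp Nat.prime_two).1 h3
    omega
  have hpow : ∀ n m : ℕ, (n = 2 ^ f + 1 ∧ m = 2 ^ f - 1 ∨ n = 2 ^ f - 1 ∧ m = 2 ^ f + 1) → 3 ∣ n →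
      ∃ a : ℕ, n = 3 ^ a := by
    intro n m hnm h3
    refine ⟨_, Nat.eq_prime_pow_of_unique_prime_dvd (by omega) fun {d} hd hdd => ?_⟩
    by_contra hne
    obtain ⟨p, hp, hpd⟩ := Nat.exists_prime_and_dvd (n := m) (by omega)
    have hn' : n = 2 ^ f + 1 ∨ n = 2 ^ f - 1 := hnm.imp And.left And.left
    have hm' : m = 2 ^ f + 1 ∨ m = 2 ^ f - 1 := (hnm.imp And.right And.right).symm
    have hd1 := hodd n d hn' hd hdd
    have hd2 := hodd n 3 hn' Nat.prime_three h3
    have hd3 := hodd m p hm' hp hpd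
    have hne1 : p ≠ d := by
      rintro rfl
      rcases hnm with ⟨rfl, rfl⟩ | ⟨rfl, rfl⟩
      · exact hdisj p hp hdd hpd
      · exact hdisj p hp hpd hdd
    have hne2 : p ≠ 3 := by
      rintro rfl
      rcases hnm with ⟨rfl, rfl⟩ | ⟨rfl, rfl⟩
      · exact hdisj 3 hp h3 hpd
      · exact hdisj 3 hp hpd h3
    omega
  have h3 : 3 ∣ 2 ^ f + 1 ∨ 3 ∣ 2 ^ f - 1 := by
    have : 2 ^ f % 3 ≠ 0 := fun h0 => by
      have := Nat.prime_three.dvd_of_dvd_pow (Nat.dvd_of_mod_eq_zero h0)
      omega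
    rcases (show 2 ^ f % 3 = 1 ∨ 2 ^ f % 3 = 2 by omega) with e3 | e3
    · exact Or.inr (Nat.dvd_of_mod_eq_zero (by omega))
    · exact Or.inl (Nat.dvd_of_mod_eq_zero (by omega))
  rcases h3 with h3 | h3
  · exfalso
    obtain ⟨a, ha⟩ := hpow _ _ (Or.inl ⟨rfl, rfl⟩) h3
    have hf3 := two_pow_add_one_eq_three_pow hf ha
    obtain ⟨M, hM⟩ := exists_orderOf_nine (F := F) (by rw [hcard, hf3]; norm_num)
    have h9 : orderOf (φ.symm M) = 9 := by rw [MulEquiv.orderOf_eq, hM]
    have := S.allPrime (φ.symm M) (fun h => by rw [h, orderOf_one] at h9; omega)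
    rw [h9] at this
    norm_num at this
  · obtain ⟨a, ha⟩ := hpow _ _ (Or.inr ⟨rfl, rfl⟩) h3
    have hf2 := two_pow_eq_three_pow_add_one hf (show 2 ^ f = 3 ^ a + 1 by omega)
    rw [hf2] at hg
    norm_num at hg
    refine CfsgLib.PSL2Sub.alt_five_of_involutions hg (fun x hx => ?_)
      (fun u v hu hv => isConj_invol S hu hv) ?_
    · have := S.allPrime x (fun h => by rw [h, orderOf_one] at hx; omega)
      rw [hx] at this
      norm_num at this
    · obtain ⟨P⟩ : Nonempty (Sylow 2 G) := inferInstance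
      obtain ⟨hI, hs⟩ := card_invol S P
      have hd := Subgroup.card_subgroup_dvd_card (P : Subgroup G)
      obtain ⟨k, hk⟩ := (IsPGroup.iff_card (p := 2)).1 P.isPGroup'
      have hP : Nat.card P = 4 := by
        rw [hg, hk] at hd
        have hk2 : k ≤ 2 := by
          by_contra hk2
          have h8 : 2 ^ 3 ∣ 60 := (pow_dvd_pow 2 (by omega : 3 ≤ k)).trans hd
          norm_num at h8
        have := Nat.pow_le_pow_right (by norm_num : 0 < 2) hk2
        norm_num at this
        omega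
      rw [hP, hg] at hI
      omega

end Cfsg.Agent.S4068
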