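import Cfsg.Statements.S4071
import Cfsg.Agent.Lib.FGS73.SelfNorm
import Cfsg.Agent.Lib.Solvable.Basic


set_option autoImplicit false
open Cfsg

namespace Cfsg.Agent.S4071

theorem forward {G : Type*} [Group G] [Finite G] [Group.IsSolvable G] (hnn : ¬ Group.IsNilpotent G)
    (hS : ∀ H : Subgroup G, ¬ IsMulCommutative H → Subgroup.normalizer (H : Set G) = H) :
    ∃ (x : G) (A : Subgroup G) (p : ℕ), p.Prime ∧ A.Normal ∧ IsMulCommutative A ∧ (∃ k : ℕ, orderOf x = p ^ k) ∧
      ¬ p ∣ Nat.card A ∧ (Subgroup.zpowers x).IsComplement' A ∧ x ^ p ∈ Subgroup.center G ∧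
      ∀ a : G, a ∈ A → a ≠ 1 → x * a * x⁻¹ ≠ a := by
  haveI : Nontrivial G := by
    rcases subsingleton_or_nontrivial G with h | h
    · exact (hnn (inferInstance : Group.IsNilpotent G)).elim
    · exact h
  obtain ⟨N, hNn, -, hNidx⟩ := CfsgLib.Solvable.exists_normal_prime_index (G := G)
  haveI := hNn
  set p := N.index
  haveI := Fact.mk hNidx
  have hNab : ∀ a ∈ N, ∀ b ∈ N, a * b = b * a := by
    intro a ha b hb
    by_contra hab
    have h := hS N (fun hc => hab (congrArg Subtype.val ((IsMulCommutative.is_comm (M := N)).comm ⟨a, ha⟩ ⟨b, hb⟩)))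
    rw [Subgroup.normalizer_eq_top_iff.2 hNn] at h
    exact hNidx.ne_one (by show N.index = 1; rw [← h, Subgroup.index_top])
  -- a p-element outside N
  obtain ⟨x0, hx0⟩ : ∃ x0 : G, x0 ∉ N := by
    by_contra h
    push Not at h
    exact hNidx.ne_one (by show N.index = 1; rw [show N = ⊤ from eq_top_iff.2 fun x _ => h x, Subgroup.index_top])
  obtain ⟨e, m, hm, hem⟩ := Nat.exists_eq_pow_mul_and_not_dvd (orderOf_pos x0).ne' p hNidx.ne_one
  set x := x0 ^ m with hxdef
  have hxN : x ∉ N := fun h => hx0 (CfsgLib.FGS73.mem_of_pow_mem_coprime (a := p) (b := m)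
    (hNidx.coprime_iff_not_dvd.2 hm) (Subgroup.pow_index_mem N x0) h)
  have hm0 : m ≠ 0 := fun h => hm (h ▸ dvd_zero p)
  have hxord : orderOf x = p ^ e := by
    rw [hxdef, orderOf_pow_of_dvd hm0 (hem ▸ dvd_mul_left _ _), hem, Nat.mul_div_cancel _ (Nat.pos_of_ne_zero hm0)]
  -- the p'-part of N
  let A : Subgroup G :=
    { carrier := {a | a ∈ N ∧ ¬ p ∣ orderOf a}
      one_mem' := ⟨one_mem N, by rw [orderOf_one]; exact fun h => hNidx.ne_one (Nat.dvd_one.1 h)⟩
      mul_mem' := fun {a b} ha hb => ⟨mul_mem ha.1 hb.1, fun hd => by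
        have h := hd.trans ((show Commute a b from hNab a ha.1 b hb.1).orderOf_mul_dvd_mul_orderOf)
        rcases (Nat.Prime.dvd_mul hNidx).1 h with h | h
        · exact ha.2 h
        · exact hb.2 h⟩
      inv_mem' := fun {a} ha => ⟨inv_mem ha.1, by rw [orderOf_inv]; exact ha.2⟩ }
  have hAN : A ≤ N := fun a ha => ha.1
  have hAn : A.Normal := ⟨fun a ha g => ⟨hNn.conj_mem a ha.1 g, by
    rw [show orderOf (g * a * g⁻¹) = orderOf a from (MulAut.conj g).orderOf_eq a]; exact ha.2⟩⟩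
  have hAab : ∀ a ∈ A, ∀ b ∈ A, a * b = b * a := fun a ha b hb => hNab a (hAN ha) b (hAN hb)
  have hAp : ¬ p ∣ Nat.card A := fun hd => by
    obtain ⟨a, ha⟩ := exists_prime_orderOf_dvd_card' p hd
    exact a.2.2 (by rw [Subgroup.orderOf_coe, ha])
  haveI := hAn
  have hquot : IsPGroup p (G ⧸ A) := by
    intro y
    induction y using QuotientGroup.induction_on with
    | H g =>
      obtain ⟨f, n, hn, hfn⟩ := Nat.exists_eq_pow_mul_and_not_dvd (orderOf_pos (g ^ p)).ne' p hNidx.ne_one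
      refine ⟨f + 1, ?_⟩
      rw [← QuotientGroup.mk_pow, QuotientGroup.eq_one_iff, pow_succ', pow_mul]
      refine ⟨pow_mem (Subgroup.pow_index_mem N g) _, ?_⟩
      rw [orderOf_pow_of_dvd (pow_ne_zero f hNidx.ne_zero) (hfn ▸ dvd_mul_right _ _), hfn,
        Nat.mul_div_cancel_left _ (pow_pos hNidx.pos f)]
      exact hn
  set H := A ⊔ Subgroup.zpowers x with hHdef
  have hNx : N ⊔ Subgroup.zpowers x = ⊤ := by
    have h1 := Subgroup.relIndex_mul_index (le_sup_left : N ≤ N ⊔ Subgroup.zpowers x)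
    rcases (Nat.dvd_prime hNidx).1 (Dvd.intro_left _ h1) with h | h
    · exact Subgroup.index_eq_one.1 h
    · exfalso
      rw [h] at h1
      exact hxN (Subgroup.relIndex_eq_one.1 (Nat.eq_of_mul_eq_mul_right hNidx.pos (h1.trans (one_mul _).symm))
        (Subgroup.mem_sup_right (Subgroup.mem_zpowers x)))
  have hxA : x ∉ Subgroup.centralizer (A : Set G) := by
    intro hc
    apply hnn
    have hAc : A ≤ Subgroup.center G := by
      intro a ha
      rw [Subgroup.mem_center_iff]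
      intro g
      have hle : N ⊔ Subgroup.zpowers x ≤ Subgroup.centralizer {a} := by
        refine sup_le (fun n hn => ?_) (Subgroup.zpowers_le.2 ?_)
        · exact Subgroup.mem_centralizer_singleton_iff.2 (hNab n hn a (hAN ha))
        · exact Subgroup.mem_centralizer_singleton_iff.2 (Subgroup.mem_centralizer_iff.1 hc a ha).symm
      exact Subgroup.mem_centralizer_singleton_iff.1 (hle (hNx ▸ Subgroup.mem_top g))
    haveI : Group.IsNilpotent (G ⧸ A) := hquot.isNilpotent
    exact Subgroup.isNilpotent_of_ker_le_center (QuotientGroup.mk' A) (by rwa [QuotientGroup.ker_mk'])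
  have hHtop : H = ⊤ := by
    by_contra hne
    have hnab : ¬ IsMulCommutative H := by
      intro hc
      apply hxA
      rw [Subgroup.mem_centralizer_iff]
      intro a ha
      exact congrArg Subtype.val ((IsMulCommutative.is_comm (M := H)).comm
        ⟨a, Subgroup.mem_sup_left ha⟩ ⟨x, Subgroup.mem_sup_right (Subgroup.mem_zpowers x)⟩)
    have h1 := hS H hnab
    have hcm : H = (H.map (QuotientGroup.mk' A)).comap (QuotientGroup.mk' A) := by
      rw [Subgroup.comap_map_eq, QuotientGroup.ker_mk', sup_eq_left.2 (le_sup_left : A ≤ H)]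
    rw [hcm, ← Subgroup.comap_normalizer_eq_of_surjective _ (QuotientGroup.mk'_surjective A)] at h1
    have h2 := Subgroup.comap_injective (QuotientGroup.mk'_surjective A) h1
    haveI : Group.IsNilpotent (G ⧸ A) := hquot.isNilpotent
    have h3 := normalizerCondition_iff_only_full_group_self_normalizing.1 normalizerCondition_of_isNilpotent _ h2
    exact hne (by rw [hcm, h3, Subgroup.comap_top])
  refine ⟨x, A, p, hNidx, hAn, ⟨⟨fun a b => Subtype.ext (hAab a a.2 b b.2)⟩⟩, ⟨e, hxord⟩, hAp, ?_, ?_, ?_⟩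
  · refine Subgroup.IsComplement'.symm (CfsgLib.Solvable.isComplement'_of_sup_eq_top hHtop ?_)
    refine Subgroup.disjoint_of_coprime_natCard ?_
    rw [Nat.card_zpowers, hxord]
    exact ((hNidx.coprime_iff_not_dvd.2 hAp).pow_left e).symm
  · rw [Subgroup.mem_center_iff]
    intro g
    have hle : N ⊔ Subgroup.zpowers x ≤ Subgroup.centralizer {x ^ p} := by
      refine sup_le (fun n hn => ?_) (Subgroup.zpowers_le.2 ?_)
      · exact Subgroup.mem_centralizer_singleton_iff.2 (hNab n hn _ (Subgroup.pow_index_mem N x))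
      · exact Subgroup.mem_centralizer_singleton_iff.2 (Commute.self_pow x p).eq
    exact Subgroup.mem_centralizer_singleton_iff.1 (hle (hNx ▸ Subgroup.mem_top g))
  · intro a ha ha1 hfix
    apply ha1
    refine CfsgLib.FGS73.eq_one_of_selfNormalizing hS A hAab x
      (Subgroup.le_normalizer_of_normal (H := A) (K := ⊤) (Subgroup.mem_top x))
      (by rw [hxord]; exact (hNidx.coprime_iff_not_dvd.2 hAp).pow_left e) hxA a ?_ ?_ (fun d hd => hAab a ha d hd)
    · exact congrArg Subtype.val (pow_card_eq_one' (x := (⟨a, ha⟩ : A)))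
    · exact (mul_inv_eq_iff_eq_mul.1 hfix).symm

theorem backward {G : Type*} [Group G] [Finite G]
    (h : ∃ (x : G) (A : Subgroup G) (p : ℕ), p.Prime ∧ A.Normal ∧ IsMulCommutative A ∧ (∃ k : ℕ, orderOf x = p ^ k) ∧
      ¬ p ∣ Nat.card A ∧ (Subgroup.zpowers x).IsComplement' A ∧ x ^ p ∈ Subgroup.center G ∧
      ∀ a : G, a ∈ A → a ≠ 1 → x * a * x⁻¹ ≠ a) :
    ∀ H : Subgroup G, ¬ IsMulCommutative H → Subgroup.normalizer (H : Set G) = H := by
  obtain ⟨x, A, p, hp, hAn, hAc, ⟨e, hxord⟩, hAp, hcomp, hxp, hfree⟩ := h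
  haveI := hAn
  have hab : ∀ a ∈ A, ∀ b ∈ A, a * b = b * a := fun a ha b hb =>
    congrArg Subtype.val ((IsMulCommutative.is_comm (M := A)).comm ⟨a, ha⟩ ⟨b, hb⟩)
  have hzc : ∀ (i : ℤ) (g : G), (x ^ p) ^ i * g = g * (x ^ p) ^ i := fun i g =>
    ((Subgroup.mem_center_iff.1 (zpow_mem hxp i)) g).symm
  have hdec : ∀ g : G, ∃ (i : ℤ) (a : G), a ∈ A ∧ g = x ^ i * a := by
    intro g
    obtain ⟨⟨u, a⟩, hg⟩ := hcomp.2 g
    obtain ⟨i, hi⟩ := Subgroup.mem_zpowers_iff.1 u.2
    exact ⟨i, a, a.2, by rw [hi]; exact hg.symm⟩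
  intro H hH
  refine le_antisymm (fun g hg => ?_) Subgroup.le_normalizer
  -- H contains an element outside A⟨x^p⟩
  obtain ⟨h0, hh0, i, a, ha, hi, heq⟩ : ∃ h0 ∈ H, ∃ (i : ℤ) (a : G), a ∈ A ∧ ¬ (p : ℤ) ∣ i ∧ h0 = x ^ i * a := by
    by_contra hno
    push Not at hno
    apply hH
    refine ⟨⟨fun u v => Subtype.ext ?_⟩⟩
    obtain ⟨i, a, ha, hu⟩ := hdec u
    obtain ⟨j, b, hb, hv⟩ := hdec v
    obtain ⟨c, rfl⟩ : (p : ℤ) ∣ i := by_contra fun h => hno u u.2 i a ha h hu
    obtain ⟨d, rfl⟩ : (p : ℤ) ∣ j := by_contra fun h => hno v v.2 j b hb h hv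
    rw [zpow_mul, zpow_natCast] at hu hv
    show (u : G) * v = v * u
    rw [hu, hv]
    exact (Commute.mul_left (Commute.mul_right (hzc c _) (hzc c b))
      (Commute.mul_right (hzc d a).symm (hab a ha b hb))).eq
  -- a power of it generates a complement
  set q := Nat.card A
  set y := h0 ^ q with hy
  have hyH : y ∈ H := pow_mem hh0 q
  have hyA : ∃ b ∈ A, y = x ^ (i * q) * b := by
    refine ⟨(x ^ (i * q))⁻¹ * y, ?_, (mul_inv_cancel_left _ _).symm⟩
    rw [← QuotientGroup.eq_one_iff, QuotientGroup.mk_mul, QuotientGroup.mk_inv, hy, heq, QuotientGroup.mk_pow,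
      QuotientGroup.mk_mul, (QuotientGroup.eq_one_iff a).2 ha, mul_one, QuotientGroup.mk_zpow,
      QuotientGroup.mk_zpow, ← zpow_natCast, ← zpow_mul, inv_mul_cancel]
  obtain ⟨b, hb, hyb⟩ := hyA
  have hiq : IsCoprime (i * q) ((p : ℤ) ^ e) := by
    refine IsCoprime.pow_right (IsCoprime.symm ((Nat.prime_iff_prime_int.1 hp).coprime_iff_not_dvd.2 ?_))
    intro hd
    rcases (Nat.prime_iff_prime_int.1 hp).dvd_or_dvd hd with hd | hd
    · exact hi hd
    · exact hAp (Int.natCast_dvd_natCast.1 hd)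
  have hyord : y ^ p ^ e = 1 := by
    have h1 : h0 ^ p ^ e ∈ A := by
      rw [← QuotientGroup.eq_one_iff, heq, QuotientGroup.mk_pow, QuotientGroup.mk_mul,
        (QuotientGroup.eq_one_iff a).2 ha, mul_one, ← QuotientGroup.mk_pow, ← zpow_natCast, ← zpow_mul, mul_comm,
        zpow_mul, zpow_natCast, ← hxord, pow_orderOf_eq_one, one_zpow, QuotientGroup.mk_one]
    rw [hy, ← pow_mul, mul_comm, pow_mul]
    exact congrArg Subtype.val (pow_card_eq_one' (x := (⟨_, h1⟩ : A)))
  have hgdec : ∀ u : G, ∃ (j : ℤ) (c : G), c ∈ A ∧ u = c * y ^ j := by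
    intro u
    obtain ⟨j, c, hc, rfl⟩ := hdec u
    obtain ⟨r, s, hrs⟩ := hiq
    refine ⟨j * r, x ^ j * c * (y ^ (j * r))⁻¹, ?_, (inv_mul_cancel_right _ _).symm⟩
    rw [← QuotientGroup.eq_one_iff, QuotientGroup.mk_mul, QuotientGroup.mk_mul, QuotientGroup.mk_inv,
      (QuotientGroup.eq_one_iff c).2 hc, mul_one, QuotientGroup.mk_zpow, QuotientGroup.mk_zpow, hyb,
      QuotientGroup.mk_mul, (QuotientGroup.eq_one_iff b).2 hb, mul_one, QuotientGroup.mk_zpow, ← zpow_mul,
      mul_inv_eq_one, ← QuotientGroup.mk_zpow, ← QuotientGroup.mk_zpow]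
    congr 1
    rw [zpow_eq_zpow_iff_modEq, hxord, Int.modEq_iff_dvd]
    refine ⟨-(j * s), ?_⟩
    push_cast
    linear_combination j * hrs
  -- y is fixed-point-free on A
  have hfy : ∀ c ∈ A, y * c = c * y → c = 1 := by
    intro c hc hyc
    by_contra hc1
    apply hfree c hc hc1
    have h1 : Commute c (x ^ (i * q)) := by
      have hxi : x ^ (i * q) = y * b⁻¹ := by rw [hyb, mul_inv_cancel_right]
      rw [hxi]
      exact Commute.mul_right hyc.symm (hab c hc b⁻¹ (inv_mem hb))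
    obtain ⟨r, s, hrs⟩ := hiq
    have h2 : Commute c x := by
      have h3 := h1.zpow_right r
      rw [← zpow_mul] at h3
      convert h3 using 1
      nth_rewrite 1 [← zpow_one x]
      rw [zpow_eq_zpow_iff_modEq, hxord, Int.modEq_iff_dvd]
      refine ⟨-s, ?_⟩
      push_cast
      linear_combination hrs
    rw [← h2.eq, mul_inv_cancel_right]
  obtain ⟨j, c, hc, hgc⟩ := hgdec g
  have hcN : c ∈ Subgroup.normalizer (H : Set G) := by
    have : c = g * (y ^ j)⁻¹ := by rw [hgc, mul_inv_cancel_right]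
    rw [this]
    exact mul_mem hg (Subgroup.le_normalizer (inv_mem (zpow_mem hyH j)))
  have hyN : y ∈ Subgroup.normalizer (A : Set G) :=
    Subgroup.le_normalizer_of_normal (H := A) (K := ⊤) (Subgroup.mem_top y)
  let δ := CfsgLib.FGS73.deltaHom A hab y hyN
  have hinj : Function.Injective δ := by
    rw [← MonoidHom.ker_eq_bot_iff, Subgroup.eq_bot_iff_forall]
    intro d hd
    have h1 : (δ d : G) = 1 := congrArg Subtype.val (MonoidHom.mem_ker.1 hd)
    rw [CfsgLib.FGS73.deltaHom_apply, mul_inv_eq_one, mul_inv_eq_iff_eq_mul] at h1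
    exact Subtype.ext (hfy d d.2 h1)
  -- δ restricts to a bijection of A ∩ H
  let T : Subgroup A := H.subgroupOf A
  have hmap : ∀ d ∈ T, δ d ∈ T := by
    intro d hd
    rw [Subgroup.mem_subgroupOf, CfsgLib.FGS73.deltaHom_apply]
    exact mul_mem (mul_mem (mul_mem hyH hd) (inv_mem hyH)) (inv_mem hd)
  have hTeq : T.map δ = T := Subgroup.eq_of_le_of_card_ge (by rintro _ ⟨d, hd, rfl⟩; exact hmap d hd)
    (Subgroup.card_map_of_injective hinj).ge
  have hc2 : δ ⟨c, hc⟩ ∈ T := by
    rw [Subgroup.mem_subgroupOf, CfsgLib.FGS73.deltaHom_apply]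
    show y * c * y⁻¹ * c⁻¹ ∈ H
    rw [show y * c * y⁻¹ * c⁻¹ = y * (c * y⁻¹ * c⁻¹) by simp [mul_assoc]]
    exact mul_mem hyH ((Subgroup.mem_normalizer_iff.1 hcN _).1 (inv_mem hyH))
  obtain ⟨d, hd, hdc⟩ := hTeq.symm.le hc2
  have : c ∈ H := by
    have := hinj hdc
    subst this
    exact hd
  rw [hgc]
  exact mul_mem this (zpow_mem hyH j)


/-- Let G be a finite solvable non-nilpotent group. Every non-abelian subgroup of G is self-normalizing if and only if G is a semidirect product ⟨x⟩ ⋉ A in which ⟨x⟩ is a p-group for some prime p, A is a normal abelian subgroup of order prime to p, x^p is central in G, and x acts fixed-point-freely on A (no non-identity element of A commutes with x). -/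
theorem result {G : Type*} [Group G] [Finite G]
    [Group.IsSolvable G] (hnn : ¬ Group.IsNilpotent G) :
    (∀ H : Subgroup G, ¬ IsMulCommutative H → Subgroup.normalizer (H : Set G) = H) ↔
    ∃ (x : G) (A : Subgroup G) (p : ℕ), p.Prime ∧ A.Normal ∧ IsMulCommutative A ∧ (∃ k : ℕ, orderOf x = p ^ k) ∧
      ¬ p ∣ Nat.card A ∧ (Subgroup.zpowers x).IsComplement' A ∧ x ^ p ∈ Subgroup.center G ∧
      ∀ a : G, a ∈ A → a ≠ 1 → x * a * x⁻¹ ≠ a := by
  constructor
  · exact forward hnn
  · exact backward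

end Cfsg.Agent.S4071
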