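import Cfsg.Statements.S4072
import Cfsg.Agent.Lib.FGS73.SelfNorm
import Cfsg.Agent.Lib.Transfer.Tate


set_option autoImplicit false
open Cfsg

namespace Cfsg.Agent.S4072

/-- A finite group in which every non-abelian subgroup is self-normalizing is solvable or simple. -/
theorem result {G : Type*} [Group G] [Finite G] (hS : ∀ H : Subgroup G, ¬ IsMulCommutative H → Subgroup.normalizer (H : Set G) = H) :
    Group.IsSolvable G ∨ IsSimpleGroup G := by
  by_contra hcon
  obtain ⟨hns, hsimp⟩ := not_or.1 hcon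
  haveI : Nontrivial G := by
    rcases subsingleton_or_nontrivial G with h | h
    · exact (hns (inferInstance : Group.IsSolvable G)).elim
    · exact h
  have hnab : ∀ M : Subgroup G, M.Normal → M ≠ ⊤ → ∀ a ∈ M, ∀ b ∈ M, a * b = b * a := by
    intro M hM hMt a ha b hb
    by_contra hab
    apply hMt
    rw [← hS M (fun hc => hab (congrArg Subtype.val ((IsMulCommutative.is_comm (M := M)).comm ⟨a, ha⟩ ⟨b, hb⟩)))]
    exact Subgroup.normalizer_eq_top_iff.2 hM
  have hsolv_of : ∀ (M : Subgroup G) [M.Normal], M ≠ ⊤ → Group.IsSolvable (G ⧸ M) → False := by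
    intro M hMn hMt hq
    haveI : Group.IsSolvable M := Group.isSolvable_of_comm fun a b => Subtype.ext (hnab M hMn hMt a a.2 b b.2)
    exact hns (Group.isSolvable_of_ker_le_range M.subtype (QuotientGroup.mk' M) (by simp))
  obtain ⟨N0, hN0, hN0b, hN0t⟩ : ∃ N0 : Subgroup G, N0.Normal ∧ N0 ≠ ⊥ ∧ N0 ≠ ⊤ := by
    by_contra h
    push Not at h
    exact hsimp ⟨fun H hH => or_iff_not_imp_left.2 fun hb => h H hH hb⟩
  obtain ⟨N, hN0N, hNmax⟩ := Finite.exists_le_maximal (p := fun M : Subgroup G => M.Normal ∧ M ≠ ⊤) ⟨hN0, hN0t⟩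
  obtain ⟨hNn, hNt⟩ := hNmax.prop
  have hNb : N ≠ ⊥ := fun h => hN0b (le_bot_iff.1 (h ▸ hN0N))
  by_cases hcent : Subgroup.centralizer (N : Set G) = ⊤
  · -- N is central and G is perfect
    obtain ⟨p, hp, hpN⟩ := Nat.exists_prime_and_dvd (n := Nat.card N) (fun h => hNb (Subgroup.card_eq_one.1 h))
    haveI := Fact.mk hp
    obtain ⟨z, hz⟩ := exists_prime_orderOf_dvd_card' p hpN
    have hzc : ∀ y : G, (z : G) * y = y * z := fun y =>
      Subgroup.mem_centralizer_iff.1 (show y ∈ Subgroup.centralizer (N : Set G) by rw [hcent]; exact Subgroup.mem_top y) z z.2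
    have hncomp : ¬ HasNormalPComplement p G := by
      rintro ⟨P, K, hK, hKP⟩
      haveI : Group.IsSolvable (G ⧸ K) := by
        haveI : Group.IsNilpotent (P : Subgroup G) := P.isPGroup'.isNilpotent
        exact Group.isSolvable_of_surjective (f := (hKP.symm.QuotientMulEquiv).symm.toMonoidHom) (hKP.symm.QuotientMulEquiv).symm.surjective
      refine hsolv_of K (fun hKt => ?_) inferInstance
      have h1 := hKP.disjoint
      rw [hKt, disjoint_iff, top_inf_eq] at h1
      refine P.ne_bot_of_dvd_card (hpN.trans (Subgroup.card_subgroup_dvd_card N)) h1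
    rw [CfsgLib.Transfer.hasNormalPComplement_iff_frobenius] at hncomp
    push Not at hncomp
    obtain ⟨D, hD, g, hg, hgcop, hgc⟩ := hncomp
    have hDb : D ≠ ⊥ := by
      rintro rfl
      exact hgc (by rw [Subgroup.mem_centralizer_iff]; intro y hy; rw [Subgroup.mem_bot.1 hy]; simp)
    have hDab : ∀ a ∈ D, ∀ b ∈ D, a * b = b * a := by
      intro a ha b hb
      by_contra hab
      rw [hS D (fun hc => hab (congrArg Subtype.val ((IsMulCommutative.is_comm (M := D)).comm ⟨a, ha⟩ ⟨b, hb⟩)))] at hg
      obtain ⟨k, hk⟩ := hD ⟨g, hg⟩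
      apply hgc
      have hg1 : g = 1 := by
        rw [← Subgroup.mem_bot]
        exact CfsgLib.FGS73.mem_of_pow_mem_coprime (hgcop.pow_right k) (by rw [pow_orderOf_eq_one]; exact one_mem _)
          (by rw [show g ^ p ^ k = 1 from congrArg Subtype.val hk]; exact one_mem _)
      rw [hg1]; exact one_mem _
    obtain ⟨k, hk⟩ := IsPGroup.iff_card.1 hD
    have hk0 : k ≠ 0 := fun h => hDb (Subgroup.card_eq_one.1 (by rw [hk, h, pow_zero]))
    have := CfsgLib.FGS73.eq_one_of_selfNormalizing hS D hDab g hg (hk ▸ hgcop.pow_right k) hgc (z : G)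
      (by rw [hk]; exact orderOf_dvd_iff_pow_eq_one.1 (by rw [Subgroup.orderOf_coe, hz]; exact dvd_pow_self p hk0))
      (hzc g) (fun d _ => hzc d)
    rw [← orderOf_eq_one_iff, Subgroup.orderOf_coe, hz] at this
    exact hp.ne_one this
  · -- N is self-centralizing
    haveI := hNn
    have hCN : Subgroup.centralizer (N : Set G) ≤ N := by
      refine hNmax.2 ⟨inferInstance, hcent⟩ fun a ha => ?_
      rw [Subgroup.mem_centralizer_iff]
      exact fun b hb => hnab N hNn hNt b hb a ha
    -- nontrivial subgroups of the quotient are self-normalizing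
    have hsn : ∀ Hb : Subgroup (G ⧸ N), Hb ≠ ⊥ → Subgroup.normalizer (Hb : Set (G ⧸ N)) = Hb := by
      intro Hb hHb
      set H := Hb.comap (QuotientGroup.mk' N) with hHdef
      have hnabH : ¬ IsMulCommutative H := by
        intro hc
        apply hHb
        rw [eq_bot_iff]
        intro y hy
        obtain ⟨a, rfl⟩ := QuotientGroup.mk'_surjective N y
        rw [Subgroup.mem_bot, QuotientGroup.mk'_apply, QuotientGroup.eq_one_iff]
        refine hCN ?_
        rw [Subgroup.mem_centralizer_iff]
        intro b hb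
        exact congrArg Subtype.val ((IsMulCommutative.is_comm (M := H)).comm
          ⟨b, show QuotientGroup.mk' N b ∈ Hb by rw [show QuotientGroup.mk' N b = 1 from (QuotientGroup.eq_one_iff b).2 hb]; exact one_mem _⟩
          ⟨a, hy⟩)
      have h1 := hS H hnabH
      rw [hHdef, ← Subgroup.comap_normalizer_eq_of_surjective _ (QuotientGroup.mk'_surjective N)] at h1
      exact Subgroup.comap_injective (QuotientGroup.mk'_surjective N) h1
    haveI : Nontrivial (G ⧸ N) := QuotientGroup.nontrivial_iff.2 hNt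
    obtain ⟨p, hp, hpd⟩ := Nat.exists_prime_and_dvd (n := Nat.card (G ⧸ N)) Finite.one_lt_card.ne'
    haveI := Fact.mk hp
    obtain ⟨P⟩ := (inferInstance : Nonempty (Sylow p (G ⧸ N)))
    have hPab : Subgroup.normalizer ((P : Subgroup (G ⧸ N)) : Set (G ⧸ N)) ≤
        Subgroup.centralizer ((P : Subgroup (G ⧸ N)) : Set (G ⧸ N)) := by
      rw [hsn _ (P.ne_bot_of_dvd_card hpd)]
      intro a ha
      rw [Subgroup.mem_centralizer_iff]
      intro b hb
      -- a central subgroup of P is self-normalizing, so P is abelian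
      haveI : Nontrivial ↥(P : Subgroup (G ⧸ N)) :=
        (Subgroup.nontrivial_iff_ne_bot _).2 (P.ne_bot_of_dvd_card hpd)
      haveI := P.isPGroup'.center_nontrivial
      set Z := (Subgroup.center ↥(P : Subgroup (G ⧸ N))).map (P : Subgroup (G ⧸ N)).subtype
      have hZb : Z ≠ ⊥ := by
        rw [Ne, Subgroup.map_eq_bot_iff_of_injective _ (Subgroup.subtype_injective _)]
        exact (Subgroup.nontrivial_iff_ne_bot _).1 inferInstance
      have haZ : a ∈ Z := by
        rw [← hsn Z hZb]
        exact CfsgLib.FGS73.normalizes_map _ _ ha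
      obtain ⟨a', ha', rfl⟩ := haZ
      exact congrArg Subtype.val (Subgroup.mem_center_iff.1 ha' ⟨b, hb⟩)
    have hc := MonoidHom.ker_transferSylow_isComplement' P hPab
    set K := (MonoidHom.transferSylow P hPab).ker
    have hKn : (K.comap (QuotientGroup.mk' N)).Normal := inferInstance
    have hKnot : K.comap (QuotientGroup.mk' N) ≠ ⊤ := by
      intro h
      have hKt : K = ⊤ := by
        rw [← Subgroup.comap_top (f := QuotientGroup.mk' N)] at h
        exact Subgroup.comap_injective (QuotientGroup.mk'_surjective N) h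
      have h2 := hc.disjoint
      rw [hKt, disjoint_iff, top_inf_eq] at h2
      exact P.ne_bot_of_dvd_card hpd h2
    have hKN : K.comap (QuotientGroup.mk' N) ≤ N := hNmax.2 ⟨hKn, hKnot⟩ (fun a ha => by
      show QuotientGroup.mk' N a ∈ K
      rw [show QuotientGroup.mk' N a = 1 from (QuotientGroup.eq_one_iff a).2 ha]; exact one_mem _)
    have hKbot : K = ⊥ := by
      rw [eq_bot_iff]
      intro y hy
      obtain ⟨a, rfl⟩ := QuotientGroup.mk'_surjective N y
      exact (QuotientGroup.eq_one_iff a).2 (hKN hy)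
    refine hsolv_of N hNt ?_
    have hPt : (P : Subgroup (G ⧸ N)) = ⊤ := by
      have := hc.sup_eq_top
      rwa [hKbot, bot_sup_eq] at this
    have hpg : IsPGroup p (G ⧸ N) := (hPt ▸ P.isPGroup').of_equiv Subgroup.topEquiv
    haveI := hpg.isNilpotent
    infer_instance

end Cfsg.Agent.S4072
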