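import Cfsg.Statements.S4073
import Cfsg.Agent.S5748
import Cfsg.Agent.Lib.FGS73.SelfNormNonab
import Cfsg.Agent.Lib.FGS73.PSLTwoPow

set_option autoImplicit false
open Cfsg

namespace Cfsg.Agent.S4073

open CfsgLib.FGS73

theorem hyp_of_equiv {G H : Type*} [Group G] [Group H] (e : G ≃* H) (h : SelfNormNonab.Hyp G) :
    SelfNormNonab.Hyp H := by
  intro K hK
  have hnc : ¬ IsMulCommutative (K.comap e.toMonoidHom) := fun hc => hK (SelfNormNonab.isMulComm_of fun a ha b hb => by
    have h1 := SelfNormNonab.comm_of_isMulComm hc (show e.symm a ∈ K.comap e.toMonoidHom by simpa using ha)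
      (show e.symm b ∈ K.comap e.toMonoidHom by simpa using hb)
    simpa using congrArg e h1)
  refine le_antisymm (fun x hx => ?_) Subgroup.le_normalizer
  have h1 : e.symm x ∈ Subgroup.normalizer ((K.comap e.toMonoidHom : Subgroup G) : Set G) := by
    rw [Subgroup.mem_normalizer_iff]
    intro g
    simpa using (Subgroup.mem_normalizer_iff.1 hx (e g))
  rw [h _ hnc] at h1
  simpa using h1

/-- Let G be a finite non-abelian simple group. Every non-abelian subgroup of G is self-normalizing if and only if G is isomorphic to PSL₂(2ⁿ) for some n ≥ 2 with 2ⁿ − 1 prime (this includes the alternating group of degree 5 as PSL₂(4)). -/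
theorem result {G : Type*} [Group G] [Finite G] [IsSimpleGroup G]
    (hna : ¬ IsMulCommutative G) :
    (∀ H : Subgroup G, ¬ IsMulCommutative H → Subgroup.normalizer (H : Set G) = H) ↔
    ∃ n : ℕ, 2 ≤ n ∧ (2 ^ n - 1).Prime ∧ Nonempty (G ≃* Matrix.ProjectiveSpecialLinearGroup (Fin 2) (GaloisField 2 n)) := by
  classical
  constructor
  · intro hyp
    have hCA := fun (x : G) (hx : x ≠ 1) => SelfNormNonab.centralizer_comm hyp hna hx
    obtain ⟨F, instF, instFin, f, hf, hcard, ⟨e⟩⟩ := (Cfsg.Agent.S5748.result hna).1 (by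
      intro a b c _ hb _ hab hbc
      exact hCA b hb a (Subgroup.mem_centralizer_singleton_iff.2 hab.eq)
        c (Subgroup.mem_centralizer_singleton_iff.2 hbc.symm.eq))
    haveI : Fact (Nat.Prime 2) := ⟨Nat.prime_two⟩
    haveI : CharP F 2 := charP_of_card_eq_prime_pow (f := f) hcard
    refine ⟨f, hf, PSLTwoPow.prime_of_hyp hf hcard (hyp_of_equiv e hyp), ?_⟩
    letI : Fintype (GaloisField 2 f) := Fintype.ofFinite _
    have hc : Fintype.card F = Fintype.card (GaloisField 2 f) := by
      rw [hcard, ← Nat.card_eq_fintype_card, GaloisField.card 2 f (by omega)]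
    obtain ⟨e'⟩ := CfsgLib.PSL2Sub.nonempty_pslEquiv (FiniteField.ringEquivOfCardEq hc)
    exact ⟨e.trans e'⟩
  · rintro ⟨n, hn, hr, ⟨e⟩⟩
    haveI : Fact (Nat.Prime 2) := ⟨Nat.prime_two⟩
    letI : Fintype (GaloisField 2 n) := Fintype.ofFinite _
    haveI : CharP (GaloisField 2 n) 2 := inferInstance
    have hcard : Fintype.card (GaloisField 2 n) = 2 ^ n := by
      rw [← Nat.card_eq_fintype_card, GaloisField.card 2 n (by omega)]
    let P := CfsgLib.PSL2Sub.PS (GaloisField 2 n)
    haveI : IsSimpleGroup P := CfsgLib.Linear.isSimpleGroup_PSL_fin (F := GaloisField 2 n) 2 le_rfl (fun _ => by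
      rw [GaloisField.card 2 n (by omega)]
      exact (show 4 = 2 ^ 2 from rfl) ▸ Nat.pow_le_pow_right two_pos hn)
    have hnaP : ¬ IsMulCommutative P := fun h => hna ⟨⟨fun a b => e.injective (by
      rw [map_mul, map_mul]; exact h.is_comm.comm _ _)⟩⟩
    have hCT := (Cfsg.Agent.S5748.result hnaP).2
      ⟨GaloisField 2 n, inferInstance, inferInstance, n, hn, hcard, ⟨MulEquiv.refl _⟩⟩
    have hCA : ∀ x : P, x ≠ 1 → ∀ a ∈ Subgroup.centralizer ({x} : Set P),
        ∀ b ∈ Subgroup.centralizer ({x} : Set P), a * b = b * a := by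
      intro x hx a ha b hb
      rcases eq_or_ne a 1 with rfl | ha1
      · simp
      rcases eq_or_ne b 1 with rfl | hb1
      · simp
      exact hCT a x b ha1 hx hb1 (Subgroup.mem_centralizer_singleton_iff.1 ha)
        (Subgroup.mem_centralizer_singleton_iff.1 hb).symm
    exact hyp_of_equiv e.symm (PSLTwoPow.selfNorm_of hnaP hCA
      (fun N hN => PSLTwoPow.exists_abelian_prime_index hcard hr N hN))

end Cfsg.Agent.S4073
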