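import Cfsg.Statements.S4074
import Mathlib


set_option autoImplicit false
open Cfsg

namespace Cfsg.Agent.S4074

/-- For n > 2, every non-abelian subgroup of the dihedral group of order 2n is self-normalizing if and only if n = 4 or n is odd. -/
theorem result (n : ℕ) (hn : 2 < n) :
    (∀ H : Subgroup (DihedralGroup n), ¬ IsMulCommutative H → Subgroup.normalizer (H : Set (DihedralGroup n)) = H) ↔
    (n = 4 ∨ Odd n) := by
  constructor
  · intro hS
    by_contra hcon
    obtain ⟨hn4, hodd⟩ := not_or.1 hcon
    have h2 : 2 ∣ n := (Nat.not_odd_iff_even.1 hodd).two_dvd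
    obtain ⟨m, rfl⟩ := h2
    let q : ZMod (2 * m) →+* ZMod 2 := ZMod.castHom (dvd_mul_right 2 m) (ZMod 2)
    let par : DihedralGroup (2 * m) → ZMod 2 := fun g => match g with
      | DihedralGroup.r i => q i
      | DihedralGroup.sr i => q i
    have hpar : ∀ a b, par (a * b) = par a + par b := by
      have h01 : ∀ u v : ZMod 2, v - u = u + v := by decide
      intro a b
      cases a <;> cases b <;> simp [par, h01, add_comm]
    let H : Subgroup (DihedralGroup (2 * m)) :=
      { carrier := {g | par g = 0}
        one_mem' := map_zero q
        mul_mem' := fun {a b} ha hb => by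
          simp only [Set.mem_ofPred_eq] at *
          rw [hpar, ha, hb, add_zero]
        inv_mem' := fun {a} ha => by
          simp only [Set.mem_ofPred_eq] at *
          have := hpar a a⁻¹
          rw [mul_inv_cancel, ha, zero_add] at this
          exact this ▸ map_zero q }
    have hnon : ¬ IsMulCommutative H := by
      intro hc
      have hq2 : q 2 = 0 := by
        have : (2 : ZMod 2) = 0 := by decide
        rw [map_ofNat]; exact this
      have h := congrArg Subtype.val ((IsMulCommutative.is_comm (M := H)).comm
        ⟨DihedralGroup.r 2, hq2⟩ ⟨DihedralGroup.sr 0, map_zero q⟩)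
      simp only [Subgroup.coe_mul, DihedralGroup.r_mul_sr, DihedralGroup.sr_mul_r, DihedralGroup.sr.injEq] at h
      have h4 : ((4 : ℕ) : ZMod (2 * m)) = 0 := by
        have : (0 : ZMod (2 * m)) + 2 - (0 - 2) = 0 := sub_eq_zero.2 h.symm
        rw [← this]; push_cast; ring
      rw [ZMod.natCast_eq_zero_iff] at h4
      obtain ⟨c, hc⟩ := h4
      rcases m with _ | _ | _ | m
      · omega
      · omega
      · exact hn4 rfl
      · rcases c with _ | c
        · omega
        · nlinarith
    have h1 : DihedralGroup.r 1 ∈ Subgroup.normalizer (H : Set (DihedralGroup (2 * m))) := by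
      rw [Subgroup.mem_normalizer_iff]
      intro h
      show par h = 0 ↔ par _ = 0
      have h0 : par 1 = 0 := map_zero q
      have h1 := hpar (DihedralGroup.r 1) (DihedralGroup.r 1)⁻¹
      rw [mul_inv_cancel, h0] at h1
      rw [hpar, hpar, add_comm (par (DihedralGroup.r 1)), add_assoc, ← h1, add_zero]
    rw [hS H hnon] at h1
    have : q 1 = 0 := h1
    rw [map_one] at this
    exact absurd this (by decide)
  · intro hcase H hH
    rcases hcase with rfl | hodd
    · have hH' : H = ⊤ := by
        by_contra hne
        apply hH
        have hcard : Nat.card (DihedralGroup 4) = 8 := DihedralGroup.nat_card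
        have hdvd := Subgroup.card_subgroup_dvd_card H
        rw [hcard] at hdvd
        have hle : Nat.card H ≠ 8 := fun h => hne (Subgroup.eq_top_of_card_eq H (h.trans hcard.symm))
        haveI : Fact (Nat.Prime 2) := ⟨Nat.prime_two⟩
        obtain ⟨k, hk, hk'⟩ := (Nat.dvd_prime_pow Nat.prime_two).1 (show Nat.card H ∣ 2 ^ 3 from hdvd)
        interval_cases k
        · haveI : Subsingleton H := (Nat.card_eq_one_iff_unique.1 hk').1
          exact ⟨⟨fun a b => Subsingleton.elim _ _⟩⟩
        · haveI : IsCyclic H := isCyclic_of_prime_card hk'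
          infer_instance
        · exact ⟨⟨IsPGroup.commutative_of_card_eq_prime_sq hk'⟩⟩
        · exact absurd hk' hle
      subst hH'
      exact top_unique (Subgroup.le_normalizer (H := ⊤))
    · refine le_antisymm (fun g hg => ?_) Subgroup.le_normalizer
      obtain ⟨a, ha⟩ : ∃ a, DihedralGroup.sr a ∈ H := by
        by_contra h
        apply hH
        refine ⟨⟨fun x y => Subtype.ext ?_⟩⟩
        obtain ⟨x, hx⟩ := x
        obtain ⟨y, hy⟩ := y
        cases x with
        | sr i => exact absurd ⟨i, hx⟩ h
        | r i => cases y with
          | sr j => exact absurd ⟨j, hy⟩ h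
          | r j => simp [add_comm]
      have key : ∀ k, DihedralGroup.r k ∈ Subgroup.normalizer (H : Set (DihedralGroup n)) →
          DihedralGroup.r k ∈ H := by
        intro k hk
        have h1 := (Subgroup.mem_normalizer_iff.1 hk _).1 ha
        have h2 := H.mul_mem ha (H.inv_mem h1)
        simp only [DihedralGroup.inv_r, DihedralGroup.r_mul_sr, DihedralGroup.sr_mul_r,
          DihedralGroup.inv_sr, DihedralGroup.sr_mul_sr] at h2
        obtain ⟨t, ht⟩ := hodd
        have h3 := H.pow_mem (H.inv_mem h2) (t + 1)
        rw [DihedralGroup.inv_r, DihedralGroup.r_pow] at h3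
        convert h3 using 2
        have hn0 : ((2 * t + 1 : ℕ) : ZMod n) = 0 := by rw [← ht, ZMod.natCast_self]
        push_cast at hn0 ⊢
        linear_combination (-k) * hn0
      cases g with
      | r k => exact key k hg
      | sr c =>
        have h1 := mul_mem hg (Subgroup.le_normalizer ha)
        rw [DihedralGroup.sr_mul_sr] at h1
        have h2 := H.mul_mem ha (H.inv_mem (key _ h1))
        simpa [DihedralGroup.inv_r, DihedralGroup.sr_mul_r] using h2

end Cfsg.Agent.S4074
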