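import Cfsg.Statements.S4075
import Mathlib


set_option autoImplicit false
open Cfsg

namespace Cfsg.Agent.S4075

/-- Let G be a finite nilpotent group. Every non-abelian subgroup of G is self-normalizing if and only if G is abelian or G is a minimal non-abelian p-group for some prime p (non-abelian of prime-power order with every proper subgroup abelian). -/
theorem result {G : Type*} [Group G] [Finite G]
    [Group.IsNilpotent G] :
    (∀ H : Subgroup G, ¬ IsMulCommutative H → Subgroup.normalizer (H : Set G) = H) ↔
    (IsMulCommutative G ∨ (IsPrimePow (Nat.card G) ∧ ¬ IsMulCommutative G ∧ ∀ H : Subgroup G, H ≠ ⊤ → IsMulCommutative H)) := by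
  have hdef : ∀ H : Subgroup G, (∀ a ∈ H, ∀ b ∈ H, a * b = b * a) → IsMulCommutative H :=
    fun H h => ⟨⟨fun a b => Subtype.ext (h a a.2 b b.2)⟩⟩
  constructor
  · intro hS
    have hab : ∀ H : Subgroup G, H ≠ ⊤ → IsMulCommutative H := by
      intro H hH
      by_contra hn
      exact (normalizerCondition_of_isNilpotent H (lt_top_iff_ne_top.2 hH)).ne' (hS H hn)
    by_cases hG : IsMulCommutative G
    · exact Or.inl hG
    refine Or.inr ⟨?_, hG, hab⟩
    by_contra hpp
    apply hG
    refine ⟨⟨fun a b => ?_⟩⟩
    -- all Sylow subgroups are proper, hence abelian, and centralize one another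
    have hprop : ∀ (p : ℕ) [Fact p.Prime] (P : Sylow p G), (P : Subgroup G) ≠ ⊤ := by
      intro p _ P htop
      obtain ⟨k, hk⟩ := IsPGroup.iff_card.1 P.isPGroup'
      rw [htop, Subgroup.card_top] at hk
      rcases k with _ | k
      · have : Subsingleton G := (Nat.card_eq_one_iff_unique.1 (by simpa using hk)).1
        exact hG ⟨⟨fun a b => Subsingleton.elim _ _⟩⟩
      · exact hpp ⟨p, k + 1, Nat.prime_iff.1 Fact.out, Nat.succ_pos k, hk.symm⟩
    have hnorm : ∀ (p : ℕ) [Fact p.Prime] (P : Sylow p G), (P : Subgroup G).Normal := fun p _ P =>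
      Sylow.normal_of_normalizerCondition normalizerCondition_of_isNilpotent P
    have hcent : ∀ (p : ℕ) [Fact p.Prime] (P : Sylow p G), (P : Subgroup G) ≤ Subgroup.center G := by
      intro p _ P x hx
      rw [Subgroup.mem_center_iff]
      intro g
      have htop : Subgroup.centralizer {x} = ⊤ := by
        rw [← Subgroup.index_eq_one, Nat.eq_one_iff_not_exists_prime_dvd]
        intro q hq hdvd
        haveI := Fact.mk hq
        obtain ⟨Q⟩ := (inferInstance : Nonempty (Sylow q G))
        refine Q.not_dvd_index (hdvd.trans (Subgroup.index_dvd_of_le fun y hy => ?_))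
        rw [Subgroup.mem_centralizer_singleton_iff]
        by_cases hpq : p = q
        · subst hpq
          haveI := P.unique_of_normal (hnorm p P)
          rw [Subsingleton.elim Q P] at hy
          haveI := hab _ (hprop p P)
          exact congrArg Subtype.val ((IsMulCommutative.is_comm (M := (P : Subgroup G))).comm ⟨y, hy⟩ ⟨x, hx⟩)
        · exact (Subgroup.commute_of_normal_of_disjoint _ _ (hnorm p P) (hnorm q Q)
            (IsPGroup.disjoint_of_ne p q hpq _ _ P.isPGroup' Q.isPGroup') x y hx hy).eq.symm
      exact Subgroup.mem_centralizer_singleton_iff.1 (htop ▸ Subgroup.mem_top g)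
    have hc : Subgroup.center G = ⊤ := by
      rw [← Subgroup.index_eq_one, Nat.eq_one_iff_not_exists_prime_dvd]
      intro q hq hdvd
      haveI := Fact.mk hq
      obtain ⟨Q⟩ := (inferInstance : Nonempty (Sylow q G))
      exact Q.not_dvd_index (hdvd.trans (Subgroup.index_dvd_of_le (hcent q Q)))
    exact Subgroup.mem_center_iff.1 (hc ▸ Subgroup.mem_top b) a
  · rintro (hG | ⟨-, -, hab⟩) H hH
    · exact absurd (hdef H fun a _ b _ => (IsMulCommutative.is_comm (M := G)).comm a b) hH
    · have : H = ⊤ := by
        by_contra h
        exact hH (hab H h)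
      subst this
      exact top_unique (Subgroup.le_normalizer (H := ⊤))

end Cfsg.Agent.S4075
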