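import Cfsg.Statements.S4079
import Cfsg.Agent.Lib.PGroup.OmegaRankTwo
import Cfsg.Agent.Lib.PGroup.SmallCentralizer
import Cfsg.Agent.Lib.PLocal.Uniserial
import Cfsg.Agent.Lib.FusionMaxClass.Basic
import Cfsg.Agent.Lib.FGS73.NormalElementary
import Cfsg.Agent.Lib.Invol.NormalFour

set_option autoImplicit false
set_option linter.style.haveILetI false
open Cfsg

namespace Cfsg.Agent.S4079

open Subgroup
open scoped commutatorElement

universe u

section Struct

variable {L : Type u} [Group L] [Finite L] {p : ℕ} [hp : Fact p.Prime]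

theorem not_isCyclic (hL : IsPGroup p L) [Nontrivial L]
    (hnc : ∀ C : Subgroup L, IsCyclic C → C.index ≠ p) : ¬ IsCyclic L := by
  intro hc
  obtain ⟨g, hg⟩ := hc.exists_generator
  have hord : orderOf g = Nat.card L := orderOf_eq_card_of_forall_mem_zpowers hg
  obtain ⟨k, hk⟩ := IsPGroup.iff_card.1 hL
  have h1 : 1 < Nat.card L := Finite.one_lt_card
  rw [hk] at h1 hord
  have hk0 : k ≠ 0 := fun h => by rw [h, pow_zero] at h1; exact lt_irrefl _ h1
  refine hnc (zpowers (g ^ p)) inferInstance ?_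
  have h2 := (zpowers (g ^ p)).card_mul_index
  rw [Nat.card_zpowers, orderOf_pow' g hp.out.ne_zero, hord, Nat.gcd_eq_right (dvd_pow_self p hk0), hk] at h2
  have h3 : p ^ k / p * p = p ^ k := Nat.div_mul_cancel (dvd_pow_self p hk0)
  have hpos : 0 < p ^ k / p := Nat.div_pos (Nat.le_self_pow hk0 p) hp.out.pos
  exact Nat.eq_of_mul_eq_mul_left hpos (h2.trans h3.symm)

/-- The first two omega subgroups of a metacyclic group without cyclic subgroups of index `p`. -/
theorem exists_omega (hp2 : p ≠ 2) (hL : IsPGroup p L) (hmc : Cfsg.IsMetacyclic L) [Nontrivial L]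
    (hnc : ∀ C : Subgroup L, IsCyclic C → C.index ≠ p) :
    ∃ K T : Subgroup L, (∀ x, x ∈ K ↔ x ^ p = 1) ∧ Nat.card K = p ^ 2 ∧ (∀ x, x ∈ T ↔ (x ^ p) ^ p = 1) ∧
      Nat.card T = p ^ 4 ∧ (∀ u ∈ T, ∀ v ∈ T, (u * v) ^ p = u ^ p * v ^ p) ∧ (∀ e ∈ K, ∃ w ∈ T, w ^ p = e) ∧
      ∀ u ∈ T, ∀ e ∈ K, Commute u e := by
  have hncyc := not_isCyclic hL hnc
  obtain ⟨K, hK, hKmem⟩ := CfsgLib.PGroup.metacyclic_omegaOne hp2 hL hmc hncyc
  obtain ⟨N, hN, hNc, hQc⟩ := hmc
  haveI := hN
  haveI := hNc
  haveI := hQc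
  haveI hKn : K.Normal := ⟨fun x hx g => by
    rw [hKmem, conj_pow, (hKmem x).1 hx, mul_one, mul_inv_cancel]⟩
  -- the quotient is again noncyclic and metacyclic
  have hQncyc : ¬ IsCyclic (L ⧸ K) := by
    intro hc
    obtain ⟨q, hq⟩ := hc.exists_generator
    obtain ⟨g, rfl⟩ := QuotientGroup.mk_surjective q
    have hcard : Nat.card L = Nat.card (L ⧸ K) * p ^ 2 := by
      rw [← hK]; exact K.card_eq_card_quotient_mul_card_subgroup
    have hqord : orderOf (g : L ⧸ K) = Nat.card (L ⧸ K) := orderOf_eq_card_of_forall_mem_zpowers hq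
    obtain ⟨k, hk⟩ := (IsPGroup.iff_orderOf.1 hL) g
    rcases Nat.eq_zero_or_pos k with rfl | hkpos
    · rw [pow_zero, orderOf_eq_one_iff] at hk
      subst hk
      rw [QuotientGroup.mk_one, orderOf_one] at hqord
      rw [← hqord, one_mul] at hcard
      obtain ⟨e, he⟩ := exists_prime_orderOf_dvd_card' p (by rw [hcard]; exact dvd_pow_self p two_ne_zero)
      refine hnc (zpowers e) inferInstance ?_
      have h2 := (zpowers e).card_mul_index
      rw [Nat.card_zpowers, he, hcard, sq] at h2
      exact Nat.eq_of_mul_eq_mul_left hp.out.pos h2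
    · have h1 : orderOf (g : L ⧸ K) ∣ p ^ (k - 1) := by
        apply orderOf_dvd_of_pow_eq_one
        rw [← QuotientGroup.mk_pow, QuotientGroup.eq_one_iff, hKmem, ← pow_mul, ← pow_succ,
          show k - 1 + 1 = k by omega, ← hk, pow_orderOf_eq_one]
      have h2 := Nat.le_of_dvd (pow_pos hp.out.pos _) h1
      rw [hqord] at h2
      have h3 := (zpowers g).card_mul_index
      rw [Nat.card_zpowers, hk, hcard] at h3
      have h4 : (zpowers g).index ≤ p := by
        refine Nat.le_of_mul_le_mul_left ?_ (pow_pos hp.out.pos k)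
        rw [h3]
        refine (Nat.mul_le_mul_right _ h2).trans_eq ?_
        rw [← pow_add, ← pow_succ]
        congr 1
        omega
      obtain ⟨j, hj⟩ := hL.index (zpowers g)
      rw [hj] at h4
      have hj1 : j ≤ 1 := (Nat.pow_le_pow_iff_right hp.out.one_lt).1 (by rwa [pow_one])
      rcases Nat.le_one_iff_eq_zero_or_eq_one.1 hj1 with rfl | rfl
      · rw [pow_zero, Subgroup.index_eq_one] at hj
        exact hncyc ⟨⟨g, fun x => by rw [← mem_zpowers_iff, hj]; exact mem_top x⟩⟩
      · exact hnc (zpowers g) inferInstance (by rw [hj, pow_one])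
  have hQmc : Cfsg.IsMetacyclic (L ⧸ K) := by
    haveI hNb : (N.map (QuotientGroup.mk' K)).Normal :=
      Subgroup.Normal.map inferInstance _ (QuotientGroup.mk'_surjective K)
    refine ⟨N.map (QuotientGroup.mk' K), hNb, ?_, ?_⟩
    · exact isCyclic_of_surjective ((QuotientGroup.mk' K).subgroupMap N) ((QuotientGroup.mk' K).subgroupMap_surjective N)
    · refine isCyclic_of_surjective (QuotientGroup.map N (N.map (QuotientGroup.mk' K)) (QuotientGroup.mk' K)
        (le_comap_map _ _)) ?_
      intro y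
      induction y using QuotientGroup.induction_on with
      | _ y =>
        induction y using QuotientGroup.induction_on with
        | _ y => exact ⟨(y : L ⧸ N), rfl⟩
  obtain ⟨K2, hK2, hK2mem⟩ := CfsgLib.PGroup.metacyclic_omegaOne hp2 (hL.to_quotient K) hQmc hQncyc
  set T := K2.comap (QuotientGroup.mk' K) with hT
  have hTmem : ∀ x, x ∈ T ↔ (x ^ p) ^ p = 1 := by
    intro x
    rw [hT, mem_comap, hK2mem, ← map_pow, QuotientGroup.mk'_apply, QuotientGroup.eq_one_iff, hKmem]
  have hKT : K ≤ T := fun x hx => (hTmem x).2 (by rw [(hKmem x).1 hx, one_pow])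
  have hTcard : Nat.card T = p ^ 4 := by
    have h1 := T.card_mul_index
    rw [show T.index = K2.index from Subgroup.index_comap_of_surjective K2 (QuotientGroup.mk'_surjective K)] at h1
    have h2 := K2.card_mul_index
    rw [K.card_eq_card_quotient_mul_card_subgroup, ← h2, hK, hK2] at h1
    refine Nat.eq_of_mul_eq_mul_right (Nat.pos_of_ne_zero K2.index_ne_zero_of_finite) (h1.trans ?_)
    ring
  -- commutators of `T`
  have hcom : ∀ u ∈ T, ∀ v ∈ T, ⁅u, v⁆ ^ p = 1 ∧ ∀ g, g * ⁅u, v⁆ = ⁅u, v⁆ * g := by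
    intro u hu v hv
    have hN1 : ⁅u, v⁆ ∈ N := by
      rw [← QuotientGroup.eq_one_iff, ← QuotientGroup.mk'_apply, map_commutatorElement,
        commutatorElement_eq_one_iff_commute]
      letI := hQc.commGroup
      exact Commute.all _ _
    have hK1 : ⁅u, v⁆ ∈ K := by
      rw [← QuotientGroup.eq_one_iff, ← QuotientGroup.mk'_apply, map_commutatorElement,
        commutatorElement_eq_one_iff_commute]
      have h := IsPGroup.isMulCommutative_of_card_eq_prime_sq hK2
      exact congrArg Subtype.val (h.is_comm.comm (⟨_, hu⟩ : K2) ⟨_, hv⟩)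
    refine ⟨(hKmem _).1 hK1, ?_⟩
    -- `N ⊓ K` is central
    have hcard : Nat.card (N ⊓ K : Subgroup L) ≤ p := by
      haveI : IsCyclic (N ⊓ K : Subgroup L) :=
        isCyclic_of_injective (Subgroup.inclusion (inf_le_left : N ⊓ K ≤ N)) (Subgroup.inclusion_injective _)
      obtain ⟨w, hw⟩ := IsCyclic.exists_generator (α := (N ⊓ K : Subgroup L))
      rw [← orderOf_eq_card_of_forall_mem_zpowers hw]
      exact orderOf_le_of_pow_eq_one hp.out.pos (Subtype.ext ((hKmem _).1 w.2.2))
    intro g
    by_cases hbot : (N ⊓ K : Subgroup L) = ⊥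
    · have : ⁅u, v⁆ = 1 := by rw [← mem_bot, ← hbot]; exact ⟨hN1, hK1⟩
      rw [this, mul_one, one_mul]
    · haveI : (N ⊓ K : Subgroup L).Normal := inferInstance
      haveI : Group.IsNilpotent L := hL.isNilpotent
      obtain ⟨z, hz, hzc, hz1⟩ : ∃ z ∈ (N ⊓ K : Subgroup L), z ∈ center L ∧ z ≠ 1 := by
        obtain ⟨z, hz, hzc, hz1⟩ := CfsgLib.Invol.exists_mem_center_ne_one hL (N ⊓ K) hbot
        exact ⟨z, hz, hzc, hz1⟩
      have hzp : zpowers z = (N ⊓ K : Subgroup L) := by
        refine Subgroup.eq_of_le_of_card_ge (zpowers_le.2 hz) ?_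
        rw [Nat.card_zpowers, orderOf_eq_prime ((hKmem z).1 hz.2) hz1]
        exact hcard
      obtain ⟨i, hi⟩ := mem_zpowers_iff.1 (show ⁅u, v⁆ ∈ zpowers z by rw [hzp]; exact ⟨hN1, hK1⟩)
      rw [← hi]
      exact mem_center_iff.1 (zpow_mem hzc i) g
  have hhom : ∀ u ∈ T, ∀ v ∈ T, (u * v) ^ p = u ^ p * v ^ p := by
    intro u hu v hv
    obtain ⟨h1, h2⟩ := hcom v hv u hu
    have hrel : v * u = ⁅v, u⁆ * (u * v) := by simp only [commutatorElement_def]; group
    have hpow := (CfsgLib.FGS73.NormEl.mul_pow_collect hrel (h2 u).symm (h2 v).symm p).2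
    obtain ⟨r, hr⟩ := CfsgLib.FGS73.NormEl.dvd_choose_two hp.out hp2
    rw [hpow, hr, pow_mul, h1, one_pow, one_mul]
  have hsurj : ∀ e ∈ K, ∃ w ∈ T, w ^ p = e := by
    let f : T →* K :=
      { toFun := fun u => ⟨(u : L) ^ p, (hKmem _).2 ((hTmem _).1 u.2)⟩
        map_one' := Subtype.ext (one_pow p)
        map_mul' := fun u v => Subtype.ext (hhom u u.2 v v.2) }
    have hker : f.ker = K.subgroupOf T := by
      ext u
      rw [MonoidHom.mem_ker, Subgroup.mem_subgroupOf, hKmem]
      exact ⟨fun h => congrArg Subtype.val h, fun h => Subtype.ext h⟩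
    have h1 := f.ker.card_eq_card_quotient_mul_card_subgroup
    rw [Nat.card_congr (QuotientGroup.quotientKerEquivRange f).toEquiv, hTcard, hker,
      Nat.card_congr (Subgroup.subgroupOfEquivOfLe hKT).toEquiv, hK] at h1
    have h2 : Nat.card f.range = p ^ 2 :=
      Nat.eq_of_mul_eq_mul_right (pow_pos hp.out.pos 2) (h1.symm.trans (by ring))
    have h3 : f.range = ⊤ := (Subgroup.card_eq_iff_eq_top _).1 (h2.trans hK.symm)
    intro e he
    obtain ⟨w, hw⟩ := (MonoidHom.range_eq_top.1 h3) ⟨e, he⟩
    exact ⟨w, w.2, congrArg Subtype.val hw⟩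
  refine ⟨K, T, hKmem, hK, hTmem, hTcard, hhom, hsurj, ?_⟩
  intro u hu e he
  obtain ⟨w, hw, rfl⟩ := hsurj e he
  obtain ⟨h1, h2⟩ := hcom u hu w hw
  have h3 : u * w * u⁻¹ = ⁅u, w⁆ * w := by simp only [commutatorElement_def]; group
  have h4 : u * w ^ p * u⁻¹ = w ^ p := by
    rw [← conj_pow, h3, (show Commute ⁅u, w⁆ w from (h2 w).symm).mul_pow, h1, one_mul]
  exact mul_inv_eq_iff_eq_mul.1 h4

end Struct

section Action

variable {L : Type u} [Group L] [Finite L] {p : ℕ} [hp : Fact p.Prime]

/-- The fixed subgroup of an automorphism of order `p` moving an element of order `p` has order `p`, and `p = 3`. -/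
theorem of_moves (hp2 : p ≠ 2) (hL : IsPGroup p L) {K T : Subgroup L} (hKmem : ∀ x, x ∈ K ↔ x ^ p = 1)
    (hK : Nat.card K = p ^ 2) (hTmem : ∀ x, x ∈ T ↔ (x ^ p) ^ p = 1)
    (hhom : ∀ u ∈ T, ∀ v ∈ T, (u * v) ^ p = u ^ p * v ^ p) (hsurj : ∀ e ∈ K, ∃ w ∈ T, w ^ p = e)
    (hcomm : ∀ u ∈ T, ∀ e ∈ K, Commute u e) (a : MulAut L) (ha : a ^ p = 1) {e0 : L} (he0 : e0 ∈ K)
    (hmove : a e0 ≠ e0) : p = 3 ∧ Nat.card {l : L // a l = l} = p := by
  classical
  have hKa : ∀ x ∈ K, a x ∈ K := fun x hx => by rw [hKmem, ← map_pow, (hKmem x).1 hx, map_one]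
  have hTa : ∀ x ∈ T, a x ∈ T := fun x hx => by rw [hTmem, ← map_pow, ← map_pow, (hTmem x).1 hx, map_one]
  have hKT : K ≤ T := fun x hx => (hTmem x).2 (by rw [(hKmem x).1 hx, one_pow])
  -- the displacement map on `K`
  have hKc : ∀ x ∈ K, ∀ y ∈ K, Commute x y := fun x hx y hy => hcomm x (hKT hx) y hy
  let δ : K →* K :=
    { toFun := fun x => ⟨(x : L)⁻¹ * a x, mul_mem (inv_mem x.2) (hKa x x.2)⟩
      map_one' := Subtype.ext (by simp)
      map_mul' := fun x y => Subtype.ext (by
        show ((x : L) * y)⁻¹ * a ((x : L) * y) = (x : L)⁻¹ * a x * ((y : L)⁻¹ * a y)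
        have h := (hKc _ (inv_mem y.2) _ (mul_mem (inv_mem x.2) (hKa x x.2))).eq
        rw [map_mul, mul_inv_rev]
        calc (y : L)⁻¹ * (x : L)⁻¹ * (a x * a y) = (y : L)⁻¹ * ((x : L)⁻¹ * a x) * a y := by simp only [mul_assoc]
          _ = (x : L)⁻¹ * a x * (y : L)⁻¹ * a y := by rw [h]
          _ = _ := by simp only [mul_assoc]) }
  have hδval : ∀ x : K, ((δ x : K) : L) = (x : L)⁻¹ * a x := fun _ => rfl
  have hδne : δ ≠ 1 := fun h => hmove (by
    have h1 : (e0 : L)⁻¹ * a e0 = 1 := congrArg Subtype.val (DFunLike.congr_fun h ⟨e0, he0⟩)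
    exact (inv_mul_eq_one.1 h1).symm)
  -- iterates
  have hfix : ∀ x : L, a x = x → ∀ k : ℕ, (a ^ k) x = x := by
    intro x hx k
    induction k with
    | zero => rfl
    | succ k ih => rw [pow_succ, MulAut.mul_apply, hx, ih]
  have hiter1 : ∀ u c : L, a u = u * c → a c = c → ∀ k : ℕ, (a ^ k) u = u * c ^ k := by
    intro u c hu hc k
    induction k with
    | zero => simp
    | succ k ih => rw [pow_succ, MulAut.mul_apply, hu, map_mul, ih, hfix c hc, pow_succ, mul_assoc]
  -- image of `δ` consists of fixed elements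
  have hδδ : ∀ x : K, δ (δ x) = 1 := by
    have hker : δ.ker ≠ ⊥ := by
      intro h
      rw [MonoidHom.ker_eq_bot_iff] at h
      letI : MulAction (zpowers a) K :=
        { smul := fun b x => ⟨(b : MulAut L) x, by rw [hKmem, ← map_pow, (hKmem _).1 x.2, map_one]⟩
          one_smul := fun x => Subtype.ext rfl
          mul_smul := fun b c x => Subtype.ext rfl }
      have hpg : IsPGroup p (zpowers a) := by
        intro b
        obtain ⟨i, hi⟩ := mem_zpowers_iff.1 b.2
        refine ⟨1, Subtype.ext ?_⟩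
        show (b : MulAut L) ^ p ^ 1 = 1
        rw [pow_one, ← hi, ← zpow_natCast, ← zpow_mul, mul_comm, zpow_mul, zpow_natCast, ha, one_zpow]
      obtain ⟨x, hx, hx1⟩ := hpg.exists_fixed_point_of_prime_dvd_card_of_fixed_point K
        (by rw [hK]; exact dvd_pow_self p two_ne_zero) (a := 1) (fun b => Subtype.ext (map_one (b : MulAut L)))
      have h1 : a (x : L) = x := congrArg Subtype.val (hx ⟨a, mem_zpowers a⟩)
      refine hx1 (h (Subtype.ext ?_)).symm
      rw [hδval, hδval, h1, inv_mul_cancel, OneMemClass.coe_one, inv_one, one_mul, map_one]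
    have hrange : Nat.card δ.range = p := by
      have h1 := δ.ker.card_eq_card_quotient_mul_card_subgroup
      rw [Nat.card_congr (QuotientGroup.quotientKerEquivRange δ).toEquiv, hK] at h1
      obtain ⟨i, hi⟩ := IsPGroup.iff_card.1 ((hL.to_subgroup K).to_subgroup δ.range)
      obtain ⟨j, hj⟩ := IsPGroup.iff_card.1 ((hL.to_subgroup K).to_subgroup δ.ker)
      have hi0 : i ≠ 0 := by
        intro h; rw [h, pow_zero] at hi
        exact hδne (MonoidHom.range_eq_bot_iff.1 (δ.range.eq_bot_of_card_eq hi))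
      have hj0 : j ≠ 0 := by
        intro h; rw [h, pow_zero] at hj
        exact hker (δ.ker.eq_bot_of_card_eq hj)
      rw [hi, hj, ← pow_add] at h1
      have := Nat.pow_right_injective hp.out.two_le h1
      rw [hi, show i = 1 by omega, pow_one]
    intro x
    by_contra hne
    -- otherwise `δ` permutes its image without fixed points
    have hinj : ∀ y ∈ δ.range, δ y = 1 → y = 1 := by
      intro y hy hy1
      by_contra hy'
      have hgen : zpowers y = δ.range := by
        refine Subgroup.eq_of_le_of_card_ge (zpowers_le.2 hy) ?_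
        rw [hrange, Nat.card_zpowers, orderOf_eq_prime (Subtype.ext ((hKmem _).1 y.2)) hy']
      obtain ⟨i, hi⟩ := mem_zpowers_iff.1 (show δ x ∈ zpowers y by rw [hgen]; exact ⟨x, rfl⟩)
      exact hne (by rw [← hi, map_zpow, hy1, one_zpow])
    letI : MulAction (zpowers a) δ.range :=
      { smul := fun b y => ⟨⟨(b : MulAut L) (y : K), by rw [hKmem, ← map_pow, (hKmem _).1 y.1.2, map_one]⟩, by
          obtain ⟨w, hw⟩ := y.2
          obtain ⟨i, hi⟩ := mem_zpowers_iff.1 b.2
          refine ⟨⟨(b : MulAut L) (w : L), by rw [hKmem, ← map_pow, (hKmem _).1 w.2, map_one]⟩, Subtype.ext ?_⟩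
          show ((b : MulAut L) (w : L))⁻¹ * a ((b : MulAut L) (w : L)) = (b : MulAut L) ((y : K) : L)
          have hc : a ((b : MulAut L) (w : L)) = (b : MulAut L) (a w) := by
            rw [← hi, ← MulAut.mul_apply, ← MulAut.mul_apply, ((Commute.refl a).zpow_right i).eq]
          rw [hc, ← map_inv, ← map_mul, ← hw]
          rfl⟩
        one_smul := fun y => Subtype.ext (Subtype.ext rfl)
        mul_smul := fun b c y => Subtype.ext (Subtype.ext rfl) }
    have hpg : IsPGroup p (zpowers a) := by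
      intro b
      obtain ⟨i, hi⟩ := mem_zpowers_iff.1 b.2
      refine ⟨1, Subtype.ext ?_⟩
      show (b : MulAut L) ^ p ^ 1 = 1
      rw [pow_one, ← hi, ← zpow_natCast, ← zpow_mul, mul_comm, zpow_mul, zpow_natCast, ha, one_zpow]
    obtain ⟨y, hy, hy1⟩ := hpg.exists_fixed_point_of_prime_dvd_card_of_fixed_point δ.range
      (by rw [hrange]) (a := 1) (fun b => Subtype.ext (Subtype.ext (map_one (b : MulAut L))))
    have h1 : a ((y : K) : L) = ((y : K) : L) := congrArg (fun t : δ.range => ((t : K) : L)) (hy ⟨a, mem_zpowers a⟩)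
    refine hy1 (Subtype.ext (hinj y y.2 (Subtype.ext ?_))).symm
    rw [hδval, h1, inv_mul_cancel]
    rfl
  -- elements
  obtain ⟨y, hyT, hy⟩ := hsurj e0 he0
  set d := y⁻¹ * a y with hd
  set z := e0⁻¹ * a e0 with hz
  have hdT : d ∈ T := mul_mem (inv_mem hyT) (hTa y hyT)
  have hdp : d ^ p = z := by rw [hd, hhom _ (inv_mem hyT) _ (hTa y hyT), inv_pow, hy, ← map_pow, hy]
  have hzK : z ∈ K := mul_mem (inv_mem he0) (hKa _ he0)
  have hz1 : z ≠ 1 := fun h => hmove (inv_mul_eq_one.1 h).symm
  have hzfix : a z = z := by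
    have h1 : z⁻¹ * a z = 1 := congrArg Subtype.val (hδδ ⟨e0, he0⟩)
    exact (inv_mul_eq_one.1 h1).symm
  set e := d⁻¹ * a d with he
  have heK : e ∈ K := by
    rw [hKmem, he, hhom _ (inv_mem hdT) _ (hTa d hdT), inv_pow, hdp, ← map_pow, hdp, hzfix, inv_mul_cancel]
  set z' := e⁻¹ * a e with hz'
  have hz'K : z' ∈ K := mul_mem (inv_mem heK) (hKa _ heK)
  have hz'fix : a z' = z' := by
    have h1 : z'⁻¹ * a z' = 1 := congrArg Subtype.val (hδδ ⟨e, heK⟩)
    exact (inv_mul_eq_one.1 h1).symm
  clear_value d e z z'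
  have cde : Commute d e := hcomm d hdT e heK
  have cdz : Commute d z' := hcomm d hdT z' hz'K
  have cez : Commute e z' := hKc e heK z' hz'K
  have had : a d = d * e := by rw [he, mul_inv_cancel_left]
  have hay : a y = y * d := by rw [hd, mul_inv_cancel_left]
  have hae : a e = e * z' := by rw [hz', mul_inv_cancel_left]
  have hid : ∀ k : ℕ, (a ^ k) d = d * e ^ k * z' ^ k.choose 2 := by
    intro k
    induction k with
    | zero => simp
    | succ k ih =>
      have hc : (k + 1).choose 2 = k.choose 2 + k := by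
        rw [Nat.choose_succ_succ' k 1, Nat.choose_one_right, add_comm]
      rw [pow_succ, MulAut.mul_apply, had, map_mul, ih, hiter1 e z' hae hz'fix k, hc, pow_succ e k, pow_add]
      calc d * e ^ k * z' ^ k.choose 2 * (e * z' ^ k)
          = d * e ^ k * (z' ^ k.choose 2 * e) * z' ^ k := by simp only [mul_assoc]
        _ = d * e ^ k * (e * z' ^ k.choose 2) * z' ^ k := by rw [(cez.pow_right (k.choose 2)).eq]
        _ = _ := by simp only [mul_assoc]
  have hiy : ∀ k : ℕ, (a ^ k) y = y * (d ^ k * e ^ k.choose 2 * z' ^ k.choose 3) := by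
    intro k
    induction k with
    | zero => simp
    | succ k ih =>
      have hc : (k + 1).choose 2 = k.choose 2 + k := by
        rw [Nat.choose_succ_succ' k 1, Nat.choose_one_right, add_comm]
      have hc3 : (k + 1).choose 3 = k.choose 3 + k.choose 2 := by rw [Nat.choose_succ_succ' k 2, add_comm]
      have h1 : Commute (e ^ k.choose 2 * z' ^ k.choose 3) d :=
        ((cde.pow_right (k.choose 2)).mul_right (cdz.pow_right (k.choose 3))).symm
      have h2 : Commute (z' ^ k.choose 3) (e ^ k) := (cez.pow_pow k (k.choose 3)).symm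
      rw [pow_succ, MulAut.mul_apply, hay, map_mul, ih, hid k, hc, hc3, pow_succ d k, pow_add e, pow_add z']
      calc y * (d ^ k * e ^ k.choose 2 * z' ^ k.choose 3) * (d * e ^ k * z' ^ k.choose 2)
          = y * (d ^ k * (e ^ k.choose 2 * z' ^ k.choose 3 * d) * e ^ k * z' ^ k.choose 2) := by simp only [mul_assoc]
        _ = y * (d ^ k * (d * (e ^ k.choose 2 * z' ^ k.choose 3)) * e ^ k * z' ^ k.choose 2) := by rw [h1.eq]
        _ = y * (d ^ k * d * e ^ k.choose 2 * (z' ^ k.choose 3 * e ^ k) * z' ^ k.choose 2) := by simp only [mul_assoc]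
        _ = y * (d ^ k * d * e ^ k.choose 2 * (e ^ k * z' ^ k.choose 3) * z' ^ k.choose 2) := by rw [h2.eq]
        _ = _ := by simp only [mul_assoc]
  have hmain : z * z' ^ p.choose 3 = 1 := by
    have h1 := hiy p
    rw [ha, MulAut.one_apply, hdp] at h1
    obtain ⟨r, hr⟩ := CfsgLib.FGS73.NormEl.dvd_choose_two hp.out hp2
    rw [hr, pow_mul, (hKmem e).1 heK, one_pow, mul_one] at h1
    exact (mul_eq_left.1 h1.symm)
  have hp3 : p = 3 := by
    by_contra h
    have h3 : 3 < p := lt_of_le_of_ne (lt_of_le_of_ne hp.out.two_le (Ne.symm hp2)) (Ne.symm h)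
    obtain ⟨r, hr⟩ := hp.out.dvd_choose_self (by norm_num) h3
    rw [hr, pow_mul, (hKmem z').1 hz'K, one_pow, mul_one] at hmain
    exact hz1 hmain
  have hz'1 : z' ≠ 1 := fun h => by rw [h, one_pow, mul_one] at hmain; exact hz1 hmain
  -- the fixed subgroup is generated by `z`
  refine ⟨hp3, ?_⟩
  let F : Subgroup L :=
    { carrier := {l | a l = l}
      one_mem' := map_one a
      mul_mem' := fun {u v} hu hv => by
        show a (u * v) = u * v
        rw [map_mul, show a u = u from hu, show a v = v from hv]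
      inv_mem' := fun {u} hu => by
        show a u⁻¹ = u⁻¹
        rw [map_inv, show a u = u from hu] }
  have hFmem : ∀ l, l ∈ F ↔ a l = l := fun _ => Iff.rfl
  have hzord : Nat.card (zpowers z) = p := by rw [Nat.card_zpowers, orderOf_eq_prime ((hKmem z).1 hzK) hz1]
  have hFK : ∀ l ∈ F, l ∈ K → l ∈ zpowers z := by
    intro l hlF hlK
    have hle : zpowers z ≤ F ⊓ K := zpowers_le.2 ⟨hzfix, hzK⟩
    have hlt : F ⊓ K < K := lt_of_le_of_ne inf_le_right fun h => hmove (by
      have : e0 ∈ F ⊓ K := by rw [h]; exact he0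
      exact this.1)
    obtain ⟨i, hi⟩ := IsPGroup.iff_card.1 (hL.to_subgroup (F ⊓ K : Subgroup L))
    have h1 : Nat.card (F ⊓ K : Subgroup L) < Nat.card K := lt_of_le_of_ne (card_le_of_le hlt.le)
      fun h => hlt.ne (Subgroup.eq_of_le_of_card_ge hlt.le h.ge)
    rw [hi, hK] at h1
    have h2 := (Nat.pow_lt_pow_iff_right hp.out.one_lt).1 h1
    rw [Subgroup.eq_of_le_of_card_ge hle (by
      rw [hzord, hi]
      calc p ^ i ≤ p ^ 1 := Nat.pow_le_pow_right hp.out.pos (by omega)
        _ = p := pow_one p)]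
    exact ⟨hlF, hlK⟩
  suffices hF : F = zpowers z by
    show Nat.card F = p
    rw [hF, hzord]
  refine le_antisymm (fun l hl => ?_) (zpowers_le.2 hzfix)
  by_contra hlz
  -- push `l` down to an element of `T` outside `K`
  obtain ⟨k, hk⟩ := hL l
  have hex : ∃ j, l ^ p ^ j ∈ K := ⟨k, by rw [hKmem, hk, one_pow]⟩
  set j := Nat.find hex with hj
  have hjK : l ^ p ^ j ∈ K := Nat.find_spec hex
  obtain ⟨j', hj'⟩ : ∃ j', j = j' + 1 := by
    refine ⟨j - 1, (Nat.succ_pred_eq_of_ne_zero fun h => ?_).symm⟩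
    rw [h, pow_zero, pow_one] at hjK
    exact hlz (hFK l hl hjK)
  set c := l ^ p ^ j' with hc
  have hcK : c ∉ K := Nat.find_min hex (by omega)
  have hcp : c ^ p ∈ K := by rw [hc, ← pow_mul, ← pow_succ, ← hj']; exact hjK
  have hcfix : a c = c := by rw [hc, map_pow, (hFmem l).1 hl]
  have hcT : c ∈ T := (hTmem c).2 ((hKmem _).1 hcp)
  have hcp' : c ^ p ∈ zpowers z := hFK _ (F.pow_mem ((hFmem c).2 hcfix) p) hcp
  have hgen : zpowers (c ^ p) = zpowers z := by
    refine Subgroup.eq_of_le_of_card_ge (zpowers_le.2 hcp') ?_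
    rw [hzord, Nat.card_zpowers, orderOf_eq_prime ((hKmem _).1 hcp) (fun h => hcK ((hKmem c).2 h))]
  obtain ⟨i, hi⟩ := mem_zpowers_iff.1 (show z ∈ zpowers (c ^ p) by rw [hgen]; exact mem_zpowers z)
  have he1 : (c ^ i)⁻¹ * d ∈ K := by
    rw [hKmem, hhom _ (inv_mem (zpow_mem hcT i)) _ hdT, inv_pow, hdp, ← zpow_natCast, ← zpow_mul, mul_comm i,
      zpow_mul, zpow_natCast, hi, inv_mul_cancel]
  set e1 := (c ^ i)⁻¹ * d with he1d
  have he' : e = e1⁻¹ * a e1 := by
    rw [he, he1d, map_mul, map_inv, map_zpow, hcfix, mul_inv_rev, inv_inv, mul_assoc, mul_inv_cancel_left]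
  apply hz'1
  have h1 : (e : L)⁻¹ * a e = 1 := by
    rw [he']
    exact congrArg Subtype.val (hδδ ⟨e1, he1⟩)
  rw [hz']
  exact h1

end Action

/-- Let p be an odd prime and L a finite metacyclic p-group with no cyclic subgroup of index p, and let a be an automorphism of L of order p. Then a moves some element of order p of L if and only if p = 3 and the semidirect product L ⋊ ⟨a⟩ (of order 3·#L) has maximal class, i.e. nilpotency class m where #L = 3^m. -/
theorem result {L : Type*} [Group L] [Finite L] {p : ℕ} [Fact p.Prime]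
    (hp : p ≠ 2) (hL : IsPGroup p L) (hmc : Cfsg.IsMetacyclic L) (hnc : ∀ C : Subgroup L, IsCyclic C → C.index ≠ p)
    (a : MulAut L) (ha : orderOf a = p) (m : ℕ) (hm : Nat.card L = p ^ m) :
    (∃ x : L, orderOf x = p ∧ a x ≠ x) ↔
    (p = 3 ∧ Group.nilpotencyClass (SemidirectProduct L ↥(Subgroup.zpowers a) (Subgroup.zpowers a).subtype) = m) := by
  have hpp : p.Prime := Fact.out
  have ha1 : a ^ p = 1 := by rw [← ha]; exact pow_orderOf_eq_one a
  haveI : Nontrivial L := by
    rw [← not_subsingleton_iff_nontrivial]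
    intro h
    rw [show a = 1 from MulEquiv.ext fun x => Subsingleton.elim _ _, orderOf_one] at ha
    exact hpp.ne_one ha.symm
  obtain ⟨K, T, hKmem, hK, hTmem, hTcard, hhom, hsurj, hcomm⟩ := exists_omega hp hL hmc hnc
  have hm4 : 4 ≤ m := by
    have := T.card_le_card_group
    rw [hTcard, hm] at this
    exact (Nat.pow_le_pow_iff_right hpp.one_lt).1 this
  set S := SemidirectProduct L ↥(Subgroup.zpowers a) (Subgroup.zpowers a).subtype with hS
  haveI : Finite S := Finite.of_equiv _ SemidirectProduct.equivProd.symm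
  have hScard : Nat.card S = p ^ (m + 1) := by
    rw [SemidirectProduct.card, hm, Nat.card_zpowers, ha, pow_succ]
  constructor
  · rintro ⟨x, hx, hmove⟩
    have hxK : x ∈ K := by rw [hKmem, ← hx]; exact pow_orderOf_eq_one x
    obtain ⟨h3, hfix⟩ := of_moves hp hL hKmem hK hTmem hhom hsurj hcomm a ha1 hxK hmove
    refine ⟨h3, ?_⟩
    set â : S := SemidirectProduct.inr ⟨a, mem_zpowers a⟩
    have hcen : Nat.card (centralizer ({â} : Set S)) ≤ p ^ 2 := by
      have hmem : ∀ s : centralizer ({â} : Set S), a (s : S).left = (s : S).left := by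
        intro s
        have h1 : (s : S) * â = â * (s : S) := mem_centralizer_singleton_iff.1 s.2
        have h2 := congrArg SemidirectProduct.left h1
        have h3 : (s : S).left * ((s : S).right : MulAut L) 1 = 1 * a (s : S).left := h2
        rw [map_one, mul_one, one_mul] at h3
        exact h3.symm
      refine (Nat.card_le_card_of_injective
        (fun s : centralizer ({â} : Set S) => ((⟨(s : S).left, hmem s⟩ : {l : L // a l = l}), (s : S).right)) ?_).trans ?_
      · intro s t hst
        simp only [Prod.mk.injEq, Subtype.mk.injEq] at hst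
        exact Subtype.ext (SemidirectProduct.ext hst.1 hst.2)
      · rw [Nat.card_prod, hfix, Nat.card_zpowers, ha, sq]
    have := CfsgLib.PGroup.nilpotencyClass_of_small_centralizer (m + 1) (by omega) hScard â hcen
    simpa using this
  · rintro ⟨-, hcl⟩
    by_contra hno
    push Not at hno
    have hKfix : ∀ e ∈ K, a e = e := by
      intro e he
      rcases eq_or_ne e 1 with rfl | h1
      · exact map_one a
      · exact hno e (orderOf_eq_prime ((hKmem e).1 he) h1)
    have hfixb : ∀ b : zpowers a, ∀ e ∈ K, (b : MulAut L) e = e := by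
      intro b e he
      have hle : zpowers a ≤ MulAction.stabilizer (MulAut L) e := zpowers_le.2 (hKfix e he)
      exact hle b.2
    have hnormal : ∀ D : Subgroup L, D.Normal → (∀ b : MulAut L, ∀ x ∈ D, b x ∈ D) →
        (D.map (SemidirectProduct.inl : L →* S)).Normal := by
      intro D hD hinv
      refine ⟨?_⟩
      rintro _ ⟨x, hx, rfl⟩ s
      refine ⟨s.left * (s.right : MulAut L) x * s.left⁻¹, hD.conj_mem _ (hinv _ x hx) _, ?_⟩
      rw [eq_mul_inv_iff_mul_eq]
      ext <;> simp [mul_assoc]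
    have hcl' : Group.nilpotencyClass S = m + 1 - 1 := by rw [hcl]; omega
    have hSp : IsPGroup p S := IsPGroup.of_card hScard
    haveI : Group.IsNilpotent S := hSp.isNilpotent
    have hZ : Nat.card (center S) = p := CfsgLib.FusionMaxClass.card_center hScard (by omega) (by
      rw [Ne, Subgroup.lowerCentralSeries_eq_bot_iff_nilpotencyClass_le, hcl]
      omega)
    obtain ⟨N, hN, hNc, hQc⟩ := hmc
    haveI := hN
    haveI := hNc
    haveI := hQc
    have hDN : commutator L ≤ N := by
      rw [_root_.commutator_def, Subgroup.commutator_le]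
      intro u _ v _
      rw [← QuotientGroup.eq_one_iff, ← QuotientGroup.mk'_apply, map_commutatorElement,
        commutatorElement_eq_one_iff_commute]
      letI := hQc.commGroup
      exact Commute.all _ _
    haveI : IsCyclic (commutator L) :=
      isCyclic_of_injective (Subgroup.inclusion hDN) (Subgroup.inclusion_injective _)
    obtain ⟨g, hg⟩ := IsCyclic.exists_generator (α := commutator L)
    obtain ⟨k, hk⟩ := IsPGroup.iff_card.1 (hL.to_subgroup (commutator L))
    have hgord : orderOf g = p ^ k := (orderOf_eq_card_of_forall_mem_zpowers hg).trans hk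
    by_cases hk2 : 2 ≤ k
    · -- two normal subgroups of order `p ^ 2`
      haveI hKn : K.Normal := ⟨fun x hx g => by rw [hKmem, conj_pow, (hKmem x).1 hx, mul_one, mul_inv_cancel]⟩
      haveI hTn : T.Normal := ⟨fun x hx g => by
        rw [hTmem, conj_pow, conj_pow, (hTmem x).1 hx, mul_one, mul_inv_cancel]⟩
      set C := T ⊓ commutator L with hC
      haveI h1 : (K.map (SemidirectProduct.inl : L →* S)).Normal := hnormal K hKn
        fun b x hx => by rw [hKmem, ← map_pow, (hKmem x).1 hx, map_one]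
      haveI h2 : (C.map (SemidirectProduct.inl : L →* S)).Normal := hnormal C inferInstance
        fun b x hx => ⟨(hTmem _).2 (by rw [← map_pow, ← map_pow, (hTmem x).1 hx.1, map_one]),
          (Subgroup.characteristic_iff_map_le.1 (inferInstance : (commutator L).Characteristic) b)
            (mem_map_of_mem _ hx.2)⟩
      haveI : IsCyclic C := isCyclic_of_injective (Subgroup.inclusion (inf_le_right : C ≤ commutator L))
        (Subgroup.inclusion_injective _)
      have hCcard : Nat.card C = p ^ 2 := by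
        set w := g ^ p ^ (k - 2) with hw
        have hword : orderOf w = p ^ 2 := by
          rw [hw, orderOf_pow' g (pow_pos hpp.pos _).ne', hgord,
            Nat.gcd_eq_right (pow_dvd_pow p (Nat.sub_le k 2)), Nat.pow_div (Nat.sub_le k 2) hpp.pos]
          congr 1
          omega
        have hwC : (w : L) ∈ C := by
          refine ⟨?_, w.2⟩
          have := pow_orderOf_eq_one w
          rw [hword, sq, pow_mul] at this
          exact (hTmem _).2 (congrArg Subtype.val this)
        refine le_antisymm ?_ ?_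
        · obtain ⟨c, hc⟩ := IsCyclic.exists_generator (α := C)
          rw [← orderOf_eq_card_of_forall_mem_zpowers hc, sq]
          exact orderOf_le_of_pow_eq_one (Nat.mul_pos hpp.pos hpp.pos)
            (Subtype.ext (by rw [pow_mul]; exact (hTmem _).1 c.2.1))
        · rw [← hword, ← Subgroup.orderOf_coe, ← Nat.card_zpowers]
          exact card_le_of_le (zpowers_le.2 hwC)
      have hidx : ∀ D : Subgroup L, Nat.card D = p ^ 2 →
          (D.map (SemidirectProduct.inl : L →* S)).index = p ^ (m - 1) := by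
        intro D hD
        have h := (D.map (SemidirectProduct.inl : L →* S)).card_mul_index
        rw [Subgroup.card_map_of_injective SemidirectProduct.inl_injective, hD, hScard,
          show m + 1 = 2 + (m - 1) by omega, pow_add] at h
        exact Nat.eq_of_mul_eq_mul_left (pow_pos hpp.pos 2) h
      have e1 := CfsgLib.PLoc.Uniserial.normal_eq_lcs hScard hcl' (by omega) (K.map SemidirectProduct.inl)
        (by omega : 2 ≤ m - 1) (hidx K hK)
      have e2 := CfsgLib.PLoc.Uniserial.normal_eq_lcs hScard hcl' (by omega) (C.map SemidirectProduct.inl)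
        (by omega : 2 ≤ m - 1) (hidx C hCcard)
      have hKC : K = C := Subgroup.map_injective SemidirectProduct.inl_injective (e1.trans e2.symm)
      obtain ⟨c, hc⟩ := IsCyclic.exists_generator (α := C)
      have h3 := orderOf_eq_card_of_forall_mem_zpowers hc
      rw [hCcard] at h3
      have h4 : c ^ p = 1 := Subtype.ext ((hKmem _).1 (by rw [hKC]; exact c.2))
      have h5 := orderOf_le_of_pow_eq_one hpp.pos h4
      rw [h3, sq] at h5
      exact absurd h5 (not_le.2 (lt_mul_of_one_lt_left hpp.pos hpp.one_lt))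
    · -- `K` is central
      have hcomp : ∀ u v : L, ⁅u, v⁆ ^ p = 1 ∧ ∀ w, w * ⁅u, v⁆ = ⁅u, v⁆ * w := by
        intro u v
        have hmem : ⁅u, v⁆ ∈ commutator L := commutator_mem_commutator (mem_top u) (mem_top v)
        have hexp : ∀ x ∈ commutator L, x ^ p = 1 := by
          intro x hx
          have h1 := pow_card_eq_one' (x := (⟨x, hx⟩ : commutator L))
          rw [hk] at h1
          have h2 : (⟨x, hx⟩ : commutator L) ^ p = 1 := by
            rcases Nat.le_one_iff_eq_zero_or_eq_one.1 (by omega : k ≤ 1) with rfl | rfl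
            · rw [pow_zero, pow_one] at h1; rw [h1, one_pow]
            · rwa [pow_one] at h1
          exact congrArg Subtype.val h2
        refine ⟨hexp _ hmem, fun w => ?_⟩
        by_cases hone : ⁅u, v⁆ = 1
        · rw [hone, mul_one, one_mul]
        obtain ⟨z, hz, hzc, hz1⟩ := CfsgLib.Invol.exists_mem_center_ne_one hL (commutator L)
          (fun h => hone (by rw [← mem_bot, ← h]; exact hmem))
        have hgen : zpowers z = commutator L := by
          refine Subgroup.eq_of_le_of_card_ge (zpowers_le.2 hz) ?_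
          rw [Nat.card_zpowers, orderOf_eq_prime (hexp z hz) hz1, hk]
          calc p ^ k ≤ p ^ 1 := Nat.pow_le_pow_right hpp.pos (by omega)
            _ = p := pow_one p
        obtain ⟨i, hi⟩ := mem_zpowers_iff.1 (show ⁅u, v⁆ ∈ zpowers z by rw [hgen]; exact hmem)
        rw [← hi]
        exact mem_center_iff.1 (zpow_mem hzc i) w
      have hKZ : K.map (SemidirectProduct.inl : L →* S) ≤ center S := by
        rintro _ ⟨e, he, rfl⟩
        rw [mem_center_iff]
        intro s
        have h1 : (s.right : MulAut L) e = e := hfixb s.right e he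
        obtain ⟨w, -, hw⟩ := hsurj e he
        obtain ⟨c1, c2⟩ := hcomp s.left w
        have h3 : s.left * w * s.left⁻¹ = ⁅s.left, w⁆ * w := by simp only [commutatorElement_def]; group
        have h4 : s.left * e * s.left⁻¹ = e := by
          rw [← hw, ← conj_pow, h3, (show Commute ⁅s.left, w⁆ w from (c2 w).symm).mul_pow, c1, one_mul]
        ext
        · simp [h1, mul_inv_eq_iff_eq_mul.1 h4]
        · simp
      have := card_le_of_le hKZ
      rw [Subgroup.card_map_of_injective SemidirectProduct.inl_injective, hK, hZ, sq] at this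
      exact absurd this (not_le.2 (lt_mul_of_one_lt_left hpp.pos hpp.one_lt))

end Cfsg.Agent.S4079
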