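import Cfsg.Statements.S4080
import Mathlib


set_option autoImplicit false
open Cfsg

namespace Cfsg.Agent.S4080

theorem prime_mul_sub_one {p : ℕ} (hp' : p.Prime) (hp : 3 < p) (A : Matrix (Fin 2) (Fin 2) (ZMod (p ^ 2)))
    (hAp : A ^ p = 1) : (p : ZMod (p ^ 2)) • (A - 1) = 0 := by
  haveI := Fact.mk hp'
  have hpp : (p : ZMod (p ^ 2)) * (p : ZMod (p ^ 2)) = 0 := by
    rw [← Nat.cast_mul, ← pow_two, ZMod.natCast_self]
  let q : ZMod (p ^ 2) →+* ZMod p := ZMod.castHom (dvd_pow_self p two_ne_zero) (ZMod p)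
  let Q : Matrix (Fin 2) (Fin 2) (ZMod (p ^ 2)) →+* Matrix (Fin 2) (Fin 2) (ZMod p) := q.mapMatrix
  set B := A - 1 with hB
  -- nilpotency modulo p
  have hnil : (Q B) ^ p = 0 := by
    rw [hB, map_sub, map_one, sub_pow_char_of_commute p (Commute.one_right _), ← map_pow, hAp, map_one,
      one_pow, sub_self]
  have hsq : (Q B) * (Q B) = 0 := by
    set N := Q B
    have hd : N.det = 0 := by
      have h := congrArg Matrix.det hnil
      rw [Matrix.det_pow, Matrix.det_zero] at h
      exact (pow_eq_zero_iff hp'.ne_zero).1 h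
    rw [Matrix.det_fin_two] at hd
    have hN : N * N = (N 0 0 + N 1 1) • N := by
      ext i j
      fin_cases i <;> fin_cases j <;> simp [Matrix.mul_apply, Fin.sum_univ_two]
      · linear_combination -hd
      · ring
      · ring
      · linear_combination -hd
    have hpow : ∀ n : ℕ, N ^ (n + 1) = (N 0 0 + N 1 1) ^ n • N := by
      intro n
      induction n with
      | zero => simp
      | succ n ih => rw [pow_succ, ih, smul_mul_assoc, hN, smul_smul, pow_succ]
    obtain ⟨n, rfl⟩ : ∃ n, p = n + 1 := ⟨p - 1, by omega⟩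
    rw [hpow] at hnil
    rw [hN]
    rcases smul_eq_zero.1 hnil with h | h
    · rw [(pow_eq_zero_iff (by omega : n ≠ 0)).1 h, zero_smul]
    · rw [h, smul_zero]
  obtain ⟨C, hC⟩ : ∃ C : Matrix (Fin 2) (Fin 2) (ZMod (p ^ 2)), B * B = (p : ZMod (p ^ 2)) • C := by
    have : ∀ r : ZMod (p ^ 2), q r = 0 → ∃ s : ZMod (p ^ 2), r = (p : ZMod (p ^ 2)) * s := by
      intro r hr
      rw [← ZMod.natCast_zmod_val r, map_natCast, ZMod.natCast_eq_zero_iff] at hr
      obtain ⟨s, hs⟩ := hr
      exact ⟨(s : ZMod (p ^ 2)), by rw [← ZMod.natCast_zmod_val r, hs, Nat.cast_mul]⟩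
    have h : ∀ i j, q ((B * B) i j) = 0 := fun i j => by
      have := congrFun (congrFun (show Q (B * B) = 0 by rw [map_mul, hsq]) i) j
      simpa [Q] using this
    choose C hC using fun i j => this _ (h i j)
    exact ⟨C, Matrix.ext fun i j => hC i j⟩
  have hp2 : ∀ k, (p : ZMod (p ^ 2)) • B ^ (k + 2) = 0 := by
    intro k
    rw [pow_add B k 2, show B ^ 2 = B * B from pow_two B, hC, mul_smul_comm, smul_smul, hpp, zero_smul]
  have hBp : B ^ p = 0 := by
    obtain ⟨n, hn⟩ : ∃ n, p = n + 4 := ⟨p - 4, by omega⟩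
    rw [show B ^ p = B ^ n * ((B * B) * (B * B)) by rw [← pow_two B, ← pow_add, ← pow_add, ← hn],
      hC, smul_mul_smul_comm, hpp, zero_smul, mul_zero]
  have hexp : A ^ p = 1 + (p : ZMod (p ^ 2)) • B := by
    have h1 : A = B + 1 := by rw [hB, sub_add_cancel]
    rw [h1, (Commute.one_right B).add_pow]
    have h0 : ∀ i ∈ Finset.range (p + 1), i ≠ 0 → i ≠ 1 → B ^ i * 1 ^ (p - i) * (p.choose i : Matrix (Fin 2) (Fin 2) (ZMod (p ^ 2))) = 0 := by
      intro i hi h0 h1
      rw [one_pow, mul_one]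
      rcases eq_or_ne i p with rfl | hip
      · rw [hBp, zero_mul]
      · obtain ⟨c, hc⟩ := hp'.dvd_choose_self h0 (by have := Finset.mem_range.1 hi; omega)
        obtain ⟨i, rfl⟩ : ∃ j, i = j + 2 := ⟨i - 2, by omega⟩
        have : (p.choose (i + 2) : Matrix (Fin 2) (Fin 2) (ZMod (p ^ 2))) =
            ((p : ZMod (p ^ 2)) * (c : ZMod (p ^ 2))) • 1 := by
          rw [← Nat.cast_mul, ← hc, Nat.cast_smul_eq_nsmul, nsmul_one]
        rw [this, mul_smul_comm, mul_one, mul_comm, mul_smul, hp2, smul_zero]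
    rw [Finset.sum_eq_add_of_mem 0 1 (by simp) (Finset.mem_range.2 (by omega)) (by norm_num)
      (fun i hi hne => h0 i hi hne.1 hne.2)]
    simp only [pow_zero, one_pow, mul_one, one_mul, Nat.choose_zero_right, Nat.cast_one, pow_one, Nat.choose_one_right]
    congr 1
    rw [show (p : Matrix (Fin 2) (Fin 2) (ZMod (p ^ 2))) = (p : ZMod (p ^ 2)) • 1 by rw [Nat.cast_smul_eq_nsmul, nsmul_one],
      mul_smul_comm, mul_one]
  rw [hAp] at hexp
  exact (add_eq_left.1 hexp.symm)


/-- Let p > 3 be a prime and L the direct product of two cyclic groups of order p². Every automorphism of L of order p fixes every element of order p of L. -/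
theorem result {p : ℕ} [Fact p.Prime] (hp : 3 < p)
    (a : MulAut (Multiplicative (ZMod (p ^ 2) × ZMod (p ^ 2)))) (ha : orderOf a = p)
    (x : Multiplicative (ZMod (p ^ 2) × ZMod (p ^ 2))) (hx : orderOf x = p) : a x = x := by
  have hp' : p.Prime := Fact.out
  let R := ZMod (p ^ 2)
  let F : Module.End R (Fin 2 → R) :=
    (LinearEquiv.finTwoArrow R R).symm.toLinearMap ∘ₗ
      (AddMonoidHom.toZModLinearMap (p ^ 2) (M := R × R) (M₁ := R × R) (AddMonoidHom.mk' (fun w : R × R => (a (Multiplicative.ofAdd w)).toAdd) (fun v w => by simp [ofAdd_add, toAdd_mul])))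
      ∘ₗ (LinearEquiv.finTwoArrow R R).toLinearMap
  have hF : ∀ v : Multiplicative (R × R), F ((LinearEquiv.finTwoArrow R R).symm v.toAdd) =
      (LinearEquiv.finTwoArrow R R).symm (a v).toAdd := fun v => by
    simp [F, AddMonoidHom.toZModLinearMap]
  have hFn : ∀ (n : ℕ) (v : Multiplicative (R × R)), (F ^ n) ((LinearEquiv.finTwoArrow R R).symm v.toAdd) =
      (LinearEquiv.finTwoArrow R R).symm ((a ^ n) v).toAdd := by
    intro n
    induction n with
    | zero => intro v; simp
    | succ n ih =>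
      intro v
      rw [pow_succ' F n, pow_succ' a n, Module.End.mul_apply, ih, hF]
      rfl
  have hFp : F ^ p = 1 := by
    refine LinearMap.ext fun w => ?_
    have := hFn p (Multiplicative.ofAdd (LinearEquiv.finTwoArrow R R w))
    have hap : a ^ p = 1 := by
      have := pow_orderOf_eq_one a
      rwa [ha] at this
    rw [hap] at this
    have he : (![w 0, w 1] : Fin 2 → R) = w := by ext i; fin_cases i <;> rfl
    simpa [he] using this
  obtain ⟨A, hA⟩ : ∃ A : Matrix (Fin 2) (Fin 2) R, A = LinearMap.toMatrixAlgEquiv' F := ⟨_, rfl⟩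
  have hAp : A ^ p = 1 := by rw [hA, ← map_pow, hFp, map_one]
  have hkey := prime_mul_sub_one hp' hp A hAp
  -- x is p times some element
  obtain ⟨v, hv⟩ : ∃ v : Fin 2 → R, (LinearEquiv.finTwoArrow R R).symm x.toAdd = (p : R) • v := by
    have hxp : x ^ p = 1 := by
      have := pow_orderOf_eq_one x
      rwa [hx] at this
    have hh : ∀ r : R, (p : R) * r = 0 → ∃ s : R, r = (p : R) * s := by
      intro r hr
      have h1 : ((p * r.val : ℕ) : R) = 0 := by rw [Nat.cast_mul, ZMod.natCast_zmod_val]; exact hr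
      rw [ZMod.natCast_eq_zero_iff] at h1
      obtain ⟨s, hs⟩ := Nat.dvd_of_mul_dvd_mul_left hp'.pos ((pow_two p).symm.dvd.trans h1)
      exact ⟨(s : R), by rw [← ZMod.natCast_zmod_val r, hs, Nat.cast_mul]⟩
    have h2 : p • x.toAdd = 0 := by rw [← toAdd_pow, hxp]; rfl
    obtain ⟨s, hs⟩ := hh x.toAdd.1 (by rw [← nsmul_eq_mul]; exact congrArg Prod.fst h2)
    obtain ⟨t, ht⟩ := hh x.toAdd.2 (by rw [← nsmul_eq_mul]; exact congrArg Prod.snd h2)
    refine ⟨![s, t], funext fun i => ?_⟩
    fin_cases i <;> simp [hs, ht]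
  have hfix : F ((LinearEquiv.finTwoArrow R R).symm x.toAdd) = (LinearEquiv.finTwoArrow R R).symm x.toAdd := by
    rw [hv, map_smul]
    have h1 : F v = A.mulVec v := by
      rw [hA]
      conv_lhs => rw [← LinearMap.toMatrixAlgEquiv'.symm_apply_apply F]
      rfl
    have h2 : ((p : R) • (A - 1)).mulVec v = 0 := by rw [hkey, Matrix.zero_mulVec]
    rw [Matrix.smul_mulVec, Matrix.sub_mulVec, Matrix.one_mulVec, smul_sub, sub_eq_zero] at h2
    rw [h1, h2]
  rw [hF] at hfix
  exact Multiplicative.toAdd.injective ((LinearEquiv.finTwoArrow R R).symm.injective hfix)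

end Cfsg.Agent.S4080
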