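import Cfsg.Statements.S4081
import Cfsg.Agent.Lib.Char.Burnside
import Cfsg.Agent.Lib.Frobenius.Fpf
import Mathlib.RingTheory.Polynomial.Cyclotomic.Factorization
import Mathlib.LinearAlgebra.Dual.Lemmas
import Mathlib.LinearAlgebra.FreeModule.Basic
import Mathlib.GroupTheory.Solvable
import Mathlib.GroupTheory.PGroup
import Mathlib.GroupTheory.Sylow

set_option autoImplicit false
set_option linter.style.haveILetI false
set_option linter.unusedSectionVars false
open Cfsg Polynomial

namespace Cfsg.Agent.S4081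

section Linear

variable {p q : ℕ} [hp : Fact p.Prime] [hq : Fact q.Prime]
  {V : Type*} [AddCommGroup V] [Module (ZMod p) V] [Finite V] [Nontrivial V]

omit [Finite V] [Nontrivial V] hq in
/-- A map intertwining `T` and `T'` intertwines `g(T)` and `g(T')`. -/
theorem aeval_intertwine (T T' : Module.End (ZMod p) V) (A : V ≃+ V)
    (hA : ∀ z, A (T z) = T' (A z)) (g : (ZMod p)[X]) (z : V) :
    A (aeval T g z) = aeval T' g (A z) := by
  induction g using Polynomial.induction_on generalizing z with
  | C a => simp only [aeval_C, Module.algebraMap_end_apply]; exact ZMod.map_smul A a z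
  | add f g hf hg => simp [hf, hg]
  | monomial n a ih =>
    rw [pow_succ, ← mul_assoc, map_mul (aeval T), map_mul (aeval T'), aeval_X, aeval_X,
      Module.End.mul_apply, Module.End.mul_apply, ih, hA]

omit [Finite V] [Nontrivial V] hq in
theorem aeval_pow_card_pow (T : Module.End (ZMod p) V) (g : (ZMod p)[X]) (k : ℕ) :
    (aeval T g) ^ (p ^ k) = aeval (T ^ (p ^ k)) g := by
  induction k generalizing g with
  | zero => simp
  | succ k ih =>
    rw [pow_succ', pow_mul, ← map_pow (aeval T), ← ZMod.expand_card, ih, expand_aeval,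
      ← pow_mul, mul_comm (p ^ k) p]

theorem orderOf_cast_ne_zero (hpq : p ≠ q) : (p : ZMod q) ≠ 0 := by
  intro h
  rw [ZMod.natCast_eq_zero_iff] at h
  exact hpq ((Nat.prime_dvd_prime_iff_eq hq.out hp.out).mp h).symm

/-- A finite domain fixed by `x ↦ x ^ p ^ d` cannot contain an element with `q - 1` distinct
conjugate powers unless `q - 1 ≤ d`. -/
theorem le_of_root_count {p q d : ℕ} [hp : Fact p.Prime] {R : Type*} [CommRing R] [IsDomain R]
    [Finite R] [Algebra (ZMod p) R] (hd : 0 < d) (t : R) (hfix : ∀ x : R, x ^ p ^ d = x)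
    (hconj : ∀ g : (ZMod p)[X], aeval t g = 0 → ∀ i : Fin (q - 1),
      aeval (t ^ ((i : ℕ) + 1)) g = 0)
    (hinj : Function.Injective fun i : Fin (q - 1) => t ^ ((i : ℕ) + 1)) : q - 1 ≤ d := by
  classical
  rcases Nat.eq_zero_or_pos (q - 1) with h0 | h0
  · omega
  haveI : Fintype R := Fintype.ofFinite R
  have hN1 : 1 < p ^ d := Nat.one_lt_pow hd.ne' hp.out.one_lt
  have hupper : Fintype.card R ≤ p ^ d := by
    have hdeg : (X ^ p ^ d - X : R[X]).natDegree = p ^ d := by
      rw [natDegree_sub_eq_left_of_natDegree_lt (by rwa [natDegree_X, natDegree_X_pow]),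
        natDegree_X_pow]
    have hne : (X ^ p ^ d - X : R[X]) ≠ 0 := ne_zero_of_natDegree_gt (hdeg ▸ hN1)
    have hsub : (Finset.univ : Finset R).val ⊆ (X ^ p ^ d - X : R[X]).roots := by
      intro x _
      rw [mem_roots hne, IsRoot, eval_sub, eval_pow, eval_X, sub_eq_zero, hfix]
    have := card_le_degree_of_subset_roots hsub
    rwa [hdeg, Finset.card_univ] at this
  let F : (Fin (q - 1) → ZMod p) → R := fun c => aeval t (∑ j, C (c j) * X ^ (j : ℕ))
  have hFinj : Function.Injective F := by
    intro c c' hcc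
    set g : (ZMod p)[X] := ∑ j : Fin (q - 1), C (c j - c' j) * X ^ (j : ℕ) with hg
    have hgt : aeval t g = 0 := by
      have : g = ∑ j, C (c j) * X ^ (j : ℕ) - ∑ j, C (c' j) * X ^ (j : ℕ) := by
        rw [hg, ← Finset.sum_sub_distrib]
        simp [sub_mul]
      rw [this, map_sub, sub_eq_zero]
      exact hcc
    have hgmap : g.map (algebraMap (ZMod p) R) = 0 := by
      refine eq_zero_of_natDegree_lt_card_of_eval_eq_zero _ hinj (fun i => ?_) ?_
      · rw [eval_map, ← aeval_def]
        exact hconj g hgt i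
      · rw [Fintype.card_fin]
        refine lt_of_le_of_lt (natDegree_map_le.trans
          (natDegree_sum_le_of_forall_le _ _ (n := q - 2) fun j _ => ?_)) (by omega)
        exact (natDegree_C_mul_X_pow_le _ _).trans (by omega)
    have hg0 : g = 0 :=
      (Polynomial.map_eq_zero_iff (algebraMap (ZMod p) R).injective).mp hgmap
    funext j
    have := congrArg (fun f => f.coeff (j : ℕ)) hg0
    simp only [hg, finsetSum_coeff, coeff_C_mul, coeff_X_pow, coeff_zero] at this
    rw [Finset.sum_eq_single j (fun k _ hk => by simp [Fin.val_ne_of_ne hk.symm])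
      (by simp)] at this
    simpa [sub_eq_zero] using this
  have := Fintype.card_le_of_injective F hFinj
  rw [Fintype.card_fun, ZMod.card, Fintype.card_fin] at this
  exact (Nat.pow_le_pow_iff_right hp.out.one_lt).mp (this.trans hupper)

set_option maxHeartbeats 1000000 in
/-- A semilinear-transitive fixed point free element of prime order `q` forces `p` to be a
primitive root mod `q`. -/
theorem orderOf_eq_of_transitive (hpq : p ≠ q) (T : Module.End (ZMod p) V) (hT : T ^ q = 1)
    (hT1 : T ≠ 1)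
    (hA : ∀ i : ℕ, ¬ q ∣ i → ∃ A : V ≃+ V, ∀ z, A (T z) = (T ^ i) (A z))
    (hB : ∀ y y' : V, y ≠ 0 → y' ≠ 0 → ∃ (A : V ≃+ V) (i : ℕ),
      A y = y' ∧ ∀ z, A (T z) = (T ^ i) (A z)) :
    orderOf (p : ZMod q) = q - 1 := by
  classical
  have hp0 : (p : ZMod q) ≠ 0 := orderOf_cast_ne_zero hpq
  have hdvd : orderOf (p : ZMod q) ∣ q - 1 := ZMod.orderOf_dvd_card_sub_one hp0
  have hq1 : 0 < q - 1 := Nat.sub_pos_of_lt hq.out.one_lt
  generalize hd : orderOf (p : ZMod q) = d at hdvd ⊢
  have hd0 : 0 < d := Nat.pos_of_dvd_of_pos hdvd hq1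
  set N := p ^ d with hN
  have hN1 : 1 < N := Nat.one_lt_pow hd0.ne' hp.out.one_lt
  have hTN : T ^ N = T := by
    have hmod : N ≡ 1 [MOD q] := by
      rw [← ZMod.natCast_eq_natCast_iff]
      rw [hN, ← hd, Nat.cast_pow, Nat.cast_one]
      exact pow_orderOf_eq_one _
    rw [← Nat.mod_add_div N q, pow_add, pow_mul, hT, one_pow, mul_one, hmod,
      Nat.mod_eq_of_lt hq.out.one_lt, pow_one]
  have hfix : ∀ g : (ZMod p)[X], (aeval T g) ^ N = aeval T g := fun g => by
    rw [hN, aeval_pow_card_pow, ← hN, hTN]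
  -- no nontrivial idempotent
  let IsId : (ZMod p)[X] → Prop := fun e =>
    aeval T e * aeval T e = aeval T e ∧ aeval T e ≠ 0 ∧ aeval T e ≠ 1
  have hId : ∀ e, ¬ IsId e := by
    intro e₀ he₀
    let r : (ZMod p)[X] → ℕ := fun e => Nat.card (Set.range (aeval T e))
    have hex : ∃ n, ∃ e, IsId e ∧ r e = n := ⟨_, e₀, he₀, rfl⟩
    obtain ⟨e, ⟨he2, he0, he1⟩, hre⟩ := Nat.find_spec hex
    have hmin : ∀ f, IsId f → r e ≤ r f := fun f hf => by
      rw [hre]; exact Nat.find_min' hex ⟨f, hf, rfl⟩
    -- absorption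
    have habs : ∀ a b : (ZMod p)[X], IsId a → r a = r e → aeval T b * aeval T b = aeval T b →
        aeval T a * aeval T b = 0 ∨ aeval T a * aeval T b = aeval T a := by
      intro a b ha hra hb
      by_cases h0 : aeval T a * aeval T b = 0
      · exact Or.inl h0
      right
      have hcomm : aeval T b * aeval T a = aeval T a * aeval T b := by
        rw [← map_mul, ← map_mul, mul_comm]
      have hab : aeval T (a * b) * aeval T (a * b) = aeval T (a * b) := by
        rw [map_mul]
        calc _ = aeval T a * (aeval T b * aeval T a) * aeval T b := by noncomm_ring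
          _ = aeval T a * aeval T a * (aeval T b * aeval T b) := by rw [hcomm]; noncomm_ring
          _ = _ := by rw [ha.1, hb]
      have hne1 : aeval T (a * b) ≠ 1 := by
        intro h1
        apply ha.2.2
        calc aeval T a = aeval T a * aeval T (a * b) := by rw [h1, mul_one]
          _ = aeval T (a * b) := by rw [map_mul, ← mul_assoc, ha.1]
          _ = 1 := h1
      have hle : r e ≤ r (a * b) := hmin _ ⟨hab, by rwa [map_mul], hne1⟩
      have hsub : Set.range (aeval T (a * b)) ⊆ Set.range (aeval T a) := by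
        rintro _ ⟨z, rfl⟩
        exact ⟨aeval T b z, by rw [map_mul]; rfl⟩
      have heq : Set.range (aeval T (a * b)) = Set.range (aeval T a) := by
        refine Set.eq_of_subset_of_ncard_le hsub ?_ (Set.toFinite _)
        rw [← Nat.card_coe_set_eq, ← Nat.card_coe_set_eq]
        exact hra.le.trans hle
      ext z
      obtain ⟨w, hw⟩ : aeval T a z ∈ Set.range (aeval T (a * b)) := by
        rw [heq]; exact ⟨z, rfl⟩
      have h3 : aeval T (a * b) (aeval T a z) = aeval T a z := by
        rw [← hw, ← Module.End.mul_apply, hab]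
      rw [← Module.End.mul_apply, map_mul, mul_assoc, hcomm, ← mul_assoc, ha.1] at h3
      exact h3
    obtain ⟨y₁, hy₁⟩ : ∃ z, aeval T e z ≠ 0 := by
      by_contra! h
      exact he0 (LinearMap.ext h)
    obtain ⟨y₂, hy₂⟩ : ∃ z, z - aeval T e z ≠ 0 := by
      by_contra! h
      exact he1 (LinearMap.ext fun z => (sub_eq_zero.mp (h z)).symm)
    set u := aeval T e y₁ with hu
    set v := y₂ - aeval T e y₂ with hv
    have heu : aeval T e u = u := by rw [hu, ← Module.End.mul_apply, he2]
    have hev : aeval T e v = 0 := by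
      rw [hv, map_sub, ← Module.End.mul_apply, he2, sub_self]
    have huv : u + v ≠ 0 := by
      intro h
      have := congrArg (aeval T e) h
      rw [map_add, heu, hev, add_zero, map_zero] at this
      exact hy₁ this
    obtain ⟨A, i, hAy, hAT⟩ := hB u (u + v) hy₁ huv
    have hint : ∀ z, A (aeval T e z) = aeval T (e.comp (X ^ i)) (A z) := fun z => by
      rw [aeval_intertwine T (T ^ i) A hAT e z, aeval_comp, map_pow, aeval_X]
    set e' := e.comp (X ^ i) with he'
    have he'2 : aeval T e' * aeval T e' = aeval T e' := by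
      ext z
      obtain ⟨w, rfl⟩ := A.surjective z
      rw [Module.End.mul_apply, ← hint, ← hint, ← Module.End.mul_apply, he2]
    have he'0 : aeval T e' ≠ 0 := by
      intro h
      refine hy₁ ?_
      have := hint y₁
      rw [h, LinearMap.zero_apply] at this
      exact A.map_eq_zero_iff.mp this
    have he'1 : aeval T e' ≠ 1 := by
      intro h
      apply he1
      ext z
      apply A.injective
      rw [hint z, h, Module.End.one_apply, Module.End.one_apply]
    have hr' : r e' = r e := by
      have himg : Set.range (aeval T e') = A '' Set.range (aeval T e) := by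
        rw [← Set.range_comp]
        apply Set.Subset.antisymm
        · rintro _ ⟨z, rfl⟩
          obtain ⟨w, rfl⟩ := A.surjective z
          exact ⟨w, hint w⟩
        · rintro _ ⟨w, rfl⟩
          exact ⟨A w, (hint w).symm⟩
      show Nat.card _ = Nat.card _
      rw [himg, Nat.card_image_of_injective A.injective]
    have he'uv : aeval T e' (u + v) = u + v := by
      rw [← hAy, ← hint, heu]
    have hcomm : aeval T e * aeval T e' = aeval T e' * aeval T e := by
      rw [← map_mul, ← map_mul, mul_comm]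
    rcases habs e e' ⟨he2, he0, he1⟩ rfl he'2 with h | h
    · have := congrArg (aeval T e) he'uv
      rw [← Module.End.mul_apply, h, LinearMap.zero_apply, map_add, heu, hev, add_zero] at this
      exact hy₁ this.symm
    · rcases habs e' e ⟨he'2, he'0, he'1⟩ hr' he2 with h' | h'
      · exact he0 (by rw [← h, hcomm, h'])
      · have hee : aeval T e = aeval T e' := by rw [← h, hcomm, h']
        have := he'uv
        rw [← hee, map_add, heu, hev, add_zero, left_eq_add] at this
        exact hy₂ this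
  -- the image of polynomials in `T` is a domain
  set I : Ideal (ZMod p)[X] := RingHom.ker (aeval T : (ZMod p)[X] →ₐ[ZMod p] _) with hI
  have hmem : ∀ g, g ∈ I ↔ aeval T g = 0 := fun g => RingHom.mem_ker
  haveI hprime : I.IsPrime := by
    refine ⟨?_, ?_⟩
    · rw [Ne, Ideal.eq_top_iff_one, hmem, map_one]
      exact one_ne_zero
    · intro f g hfg
      rw [hmem, map_mul] at hfg
      rw [hmem, hmem]
      by_contra! hne
      obtain ⟨hf, hg⟩ := hne
      have hf' : aeval T f * aeval T f ^ (N - 1) = aeval T f := by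
        rw [← pow_succ', Nat.sub_add_cancel hN1.le, hfix]
      refine hId (f ^ (N - 1)) ⟨?_, ?_, ?_⟩
      · rw [map_pow, ← pow_add]
        rw [show N - 1 + (N - 1) = N + (N - 2) by omega, pow_add, hfix, ← pow_succ']
        congr 1
        omega
      · intro h
        rw [← map_pow, h, mul_zero] at hf'
        exact hf hf'.symm
      · intro h
        rw [map_pow] at h
        apply hg
        have hcm : Commute (aeval T f) (aeval T g) :=
          (Commute.all f g).map (aeval T : (ZMod p)[X] →ₐ[ZMod p] _)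
        calc aeval T g = aeval T f ^ (N - 1) * aeval T g := by rw [h, one_mul]
          _ = aeval T f ^ (N - 2) * (aeval T f * aeval T g) := by
            rw [← mul_assoc, ← pow_succ]; congr 2; omega
          _ = 0 := by rw [hfg, mul_zero]
  have hπ0 : ∀ g, Ideal.Quotient.mkₐ (ZMod p) I g = 0 ↔ aeval T g = 0 := fun g =>
    Ideal.Quotient.eq_zero_iff_mem.trans (hmem g)
  have hπsurj : Function.Surjective (Ideal.Quotient.mkₐ (ZMod p) I) :=
    Ideal.Quotient.mkₐ_surjective _ _
  haveI : Finite (Module.End (ZMod p) V) := DFunLike.finite _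
  haveI : Finite ((ZMod p)[X] ⧸ I) := by
    refine Finite.of_injective (fun x => aeval T (Classical.choose (hπsurj x))) fun x y hxy => ?_
    rw [← Classical.choose_spec (hπsurj x), ← Classical.choose_spec (hπsurj y), ← sub_eq_zero,
      ← map_sub, hπ0, map_sub, sub_eq_zero]
    exact hxy
  haveI : IsDomain ((ZMod p)[X] ⧸ I) := (Ideal.Quotient.isDomain_iff_prime I).mpr hprime
  refine Nat.le_antisymm (Nat.le_of_dvd hq1 hdvd)
    (le_of_root_count (p := p) (q := q) hd0 (Ideal.Quotient.mkₐ (ZMod p) I X) (fun x => ?_) ?_ ?_)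
  · obtain ⟨g, rfl⟩ := hπsurj x
    rw [← map_pow, ← sub_eq_zero, ← map_sub, hπ0, map_sub, map_pow, ← hN, hfix, sub_self]
  · intro g hg i
    have hi : ¬ q ∣ (i : ℕ) + 1 := Nat.not_dvd_of_pos_of_lt (by omega) (by omega)
    obtain ⟨A, hA'⟩ := hA _ hi
    rw [aeval_algHom_apply, aeval_X_left_apply, hπ0] at hg
    rw [← map_pow, aeval_algHom_apply, hπ0, ← comp_eq_aeval, aeval_comp, map_pow, aeval_X]
    ext z
    obtain ⟨w, rfl⟩ := A.surjective z
    rw [← aeval_intertwine T _ A hA' g w, hg]
    simp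
  · intro i j hij
    dsimp only at hij
    rw [← map_pow, ← map_pow, ← sub_eq_zero, ← map_sub, hπ0, map_sub, map_pow, map_pow,
      aeval_X, sub_eq_zero] at hij
    rw [(isOfFinOrder_iff_pow_eq_one.mpr ⟨q, hq.out.pos, hT⟩).pow_eq_pow_iff_modEq,
      orderOf_eq_prime hT hT1] at hij
    apply Fin.ext
    have := hij.eq_of_lt_of_lt (by omega) (by omega)
    omega

/-- If `p` is a primitive root mod `q`, automorphisms centralising or normalising a fixed point
free element of order `q` act transitively. -/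
theorem exists_semilinear (hpq : p ≠ q) (hord : orderOf (p : ZMod q) = q - 1)
    (T : Module.End (ZMod p) V) (hT : T ^ q = 1) (hfix : ∀ z, T z = z → z = 0) :
    (∀ v w : V, v ≠ 0 → w ≠ 0 → ∃ A : V ≃+ V, A v = w ∧ ∀ z, A (T z) = T (A z)) ∧
    (∀ k : ℕ, ∃ A : V ≃+ V, ∀ z, A (T z) = (T ^ p ^ k) (A z)) := by
  classical
  set Φ : (ZMod p)[X] := cyclotomic q (ZMod p) with hΦ
  have hpq' : ¬ p ∣ q := fun h => hpq ((Nat.prime_dvd_prime_iff_eq hp.out hq.out).mp h)
  haveI hirr : Fact (Irreducible Φ) := ⟨by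
    refine ZMod.irreducible_of_dvd_cyclotomic_of_natDegree hpq' dvd_rfl ?_
    rw [natDegree_cyclotomic, Nat.totient_prime hq.out, ← orderOf_units, ZMod.coe_unitOfCoprime,
      hord]⟩
  have hΦT : aeval T Φ = 0 := by
    have h1 : (T - 1) * aeval T Φ = 0 := by
      rw [hΦ, cyclotomic_prime, map_sum]
      simp only [map_pow, aeval_X]
      rw [mul_geom_sum, hT, sub_self]
    ext z
    have := congrArg (fun f : Module.End (ZMod p) V => f z) h1
    simp only [Module.End.mul_apply, LinearMap.sub_apply, Module.End.one_apply,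
      LinearMap.zero_apply, sub_eq_zero] at this
    exact hfix _ this
  let K := AdjoinRoot Φ
  let φ : K →+* Module.End (ZMod p) V :=
    Ideal.Quotient.lift (Ideal.span {Φ}) (aeval T).toRingHom (fun g hg => by
      obtain ⟨g', rfl⟩ := Ideal.mem_span_singleton'.mp hg
      show aeval T (g' * Φ) = 0
      rw [map_mul, hΦT, mul_zero])
  letI : Module K V := Module.compHom V φ
  have hφX : φ (AdjoinRoot.root Φ) = T := aeval_X T
  have hsmul : ∀ (c : K) (z : V), c • z = φ c z := fun _ _ => rfl
  have hroot : ∀ z : V, AdjoinRoot.root Φ • z = T z := fun z => by rw [hsmul, hφX]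
  refine ⟨fun v w hv hw => ?_, fun k => ?_⟩
  · obtain ⟨f₁, hf₁⟩ := Module.Projective.exists_dual_ne_zero K hv
    obtain ⟨f₂, hf₂⟩ := Module.Projective.exists_dual_ne_zero K hw
    obtain ⟨f, hfv, hfw⟩ : ∃ f : Module.Dual K V, f v ≠ 0 ∧ f w ≠ 0 := by
      by_cases h1 : f₁ w = 0
      · by_cases h2 : f₂ v = 0
        · exact ⟨f₁ + f₂, by simp [h2, hf₁], by simp [h1, hf₂]⟩
        · exact ⟨f₂, h2, hf₂⟩
      · exact ⟨f₁, hf₁, h1⟩
    let L : V →ₗ[K] V := LinearMap.id + ((f v)⁻¹ • f).smulRight (w - v)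
    have hLap : ∀ z, L z = z + ((f v)⁻¹ * f z) • (w - v) := fun z => rfl
    have hinj : Function.Injective L := by
      rw [injective_iff_map_eq_zero]
      intro z hz
      rw [hLap] at hz
      have h2 := congrArg f hz
      simp only [map_add, map_smul, map_sub, map_zero, smul_eq_mul] at h2
      have hfz : f z = 0 := by
        have h3 : f z * ((f v)⁻¹ * f w) = 0 := by
          have : f z + (f v)⁻¹ * f z * (f w - f v) = f z * ((f v)⁻¹ * f w) := by
            linear_combination (f z) * (inv_mul_cancel₀ hfv).symm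
          rw [← this]; exact h2
        rcases mul_eq_zero.mp h3 with h | h
        · exact h
        · exact absurd h (mul_ne_zero (inv_ne_zero hfv) hfw)
      simpa [hfz] using hz
    let A : V ≃+ V := AddEquiv.ofBijective L.toAddMonoidHom ⟨hinj, Finite.surjective_of_injective hinj⟩
    refine ⟨A, ?_, fun z => ?_⟩
    · show L v = w
      rw [hLap, inv_mul_cancel₀ hfv, one_smul]
      abel
    · show L (T z) = T (L z)
      rw [← hroot, ← hroot, map_smul]
  · haveI : CharP K p := charP_of_injective_algebraMap (algebraMap (ZMod p) K).injective p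
    haveI : Module.Finite (ZMod p) K := (cyclotomic.monic q (ZMod p)).finite_adjoinRoot
    haveI : Finite K := Module.finite_of_finite (ZMod p)
    let σ : K ≃+* K := RingEquiv.ofBijective (iterateFrobenius K p k)
      ⟨(iterateFrobenius K p k).injective,
        Finite.surjective_of_injective (iterateFrobenius K p k).injective⟩
    let b := Module.Free.chooseBasis K V
    haveI : Fintype (Module.Free.ChooseBasisIndex K V) :=
      @Fintype.ofFinite _ (Finite.of_injective b b.injective)
    let e := b.equivFun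
    let A : V ≃+ V := e.toAddEquiv.trans
      ((AddEquiv.piCongrRight fun _ => σ.toAddEquiv).trans e.symm.toAddEquiv)
    have hAe : ∀ z, e (A z) = fun j => σ (e z j) := fun z => e.apply_symm_apply _
    refine ⟨A, fun z => ?_⟩
    have hpow : ∀ (m : ℕ) (z : V), (T ^ m) z = (AdjoinRoot.root Φ) ^ m • z := fun m z => by
      rw [hsmul, map_pow, hφX]
    apply e.injective
    rw [hpow, map_smul, hAe, hAe, ← hroot, map_smul]
    funext j
    simp only [Pi.smul_apply, smul_eq_mul, map_mul]
    rfl

end Linear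

section Group

variable {G : Type*} [Group G]

/-- Extend an automorphism of the normal subgroup `P`, semi-equivariant for conjugation by a
complement element `x`, to the whole group. -/
theorem exists_mulAut_extend [Finite G] {q : ℕ} {P : Subgroup G} [P.Normal] {x : G}
    (hx : orderOf x = q) (hc : Subgroup.IsComplement' P (Subgroup.zpowers x))
    {i : ℕ} (hi : q.Coprime i) (A : P ≃* P)
    (hA : ∀ v : P, ((A ⟨x * v * x⁻¹, ‹P.Normal›.conj_mem _ v.2 x⟩ : P) : G) =
      x ^ i * (A v : G) * (x ^ i)⁻¹) :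
    ∃ φ : MulAut G, (∀ v : P, φ v = (A v : G)) ∧ φ x = x ^ i := by
  classical
  have hdec : ∀ g : G, ∃ (v : P) (n : ℕ), g = (v : G) * x ^ n := by
    intro g
    obtain ⟨⟨v, c⟩, hvc⟩ := hc.2 g
    obtain ⟨n, hn⟩ := (mem_powers_iff_mem_zpowers).mpr c.2
    exact ⟨v, n, by rw [show x ^ n = (c : G) from hn]; exact hvc.symm⟩
  have huniq : ∀ (v v' : P) (n n' : ℕ), (v : G) * x ^ n = (v' : G) * x ^ n' →
      v = v' ∧ x ^ n = x ^ n' := by
    intro v v' n n' h
    have := @hc.1 (v, ⟨x ^ n, pow_mem (Subgroup.mem_zpowers x) n⟩)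
      (v', ⟨x ^ n', pow_mem (Subgroup.mem_zpowers x) n'⟩) h
    exact ⟨(Prod.mk.inj this).1, congrArg Subtype.val (Prod.mk.inj this).2⟩
  choose vv nn hg using hdec
  let f : G → G := fun g => (A (vv g) : G) * x ^ (i * nn g)
  have hxi : ∀ n n' : ℕ, x ^ n = x ^ n' → x ^ (i * n) = x ^ (i * n') := fun n n' h => by
    rw [mul_comm i, mul_comm i, pow_mul, pow_mul, h]
  have hf : ∀ (v : P) (n : ℕ), f ((v : G) * x ^ n) = (A v : G) * x ^ (i * n) := by
    intro v n
    obtain ⟨h1, h2⟩ := huniq _ _ _ _ (hg ((v : G) * x ^ n))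
    show (A (vv _) : G) * _ = _
    rw [← h1, hxi _ _ h2]
  have hAn : ∀ (n : ℕ) (v : P), (A ⟨x ^ n * v * (x ^ n)⁻¹, ‹P.Normal›.conj_mem _ v.2 _⟩ : G) =
      x ^ (i * n) * (A v : G) * (x ^ (i * n))⁻¹ := by
    intro n
    induction n with
    | zero => intro v; simp
    | succ n ih =>
      intro v
      have h1 : (⟨x ^ (n + 1) * v * (x ^ (n + 1))⁻¹, ‹P.Normal›.conj_mem _ v.2 _⟩ : P) =
          ⟨x * ((⟨x ^ n * v * (x ^ n)⁻¹, ‹P.Normal›.conj_mem _ v.2 _⟩ : P) : G) * x⁻¹,
            ‹P.Normal›.conj_mem _ (Subtype.mem _) x⟩ := by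
        apply Subtype.ext; simp [pow_succ', mul_assoc]
      rw [h1, hA, ih, Nat.mul_succ, add_comm (i * n) i, pow_add]
      group
  have hmul : ∀ a b : G, f (a * b) = f a * f b := by
    intro a b
    have hab : a * b = ((vv a * ⟨x ^ nn a * vv b * (x ^ nn a)⁻¹,
        ‹P.Normal›.conj_mem _ (vv b).2 _⟩ : P) : G) * x ^ (nn a + nn b) := by
      conv_lhs => rw [hg a, hg b]
      simp only [Subgroup.coe_mul, pow_add]
      group
    rw [hab, hf, map_mul, Subgroup.coe_mul, hAn, Nat.mul_add, pow_add]
    show _ = (A (vv a) : G) * x ^ (i * nn a) * ((A (vv b) : G) * x ^ (i * nn b))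
    group
  have hinj : Function.Injective f := by
    intro a b h
    obtain ⟨h1, h2⟩ := huniq _ _ _ _ h
    have h3 : x ^ nn a = x ^ nn b := by
      rw [(isOfFinOrder_of_finite x).pow_eq_pow_iff_modEq] at h2 ⊢
      exact Nat.ModEq.cancel_left_of_coprime (by rw [hx]; exact hi) h2
    rw [hg a, hg b, A.injective h1, h3]
  let φ : MulAut G := MulEquiv.ofBijective (MonoidHom.mk' f hmul)
    ⟨hinj, Finite.surjective_of_injective hinj⟩
  refine ⟨φ, fun v => ?_, ?_⟩
  · show f v = _
    have := hf v 0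
    simpa using this
  · show f x = _
    have := hf 1 1
    simpa using this

/-- The map from automorphism orbits to element orders. -/
noncomputable def orbitOrder : MulAction.orbitRel.Quotient (MulAut G) G → ℕ :=
  Quotient.lift orderOf fun a b h => by
    obtain ⟨φ, rfl⟩ := h
    exact (MulEquiv.orderOf_eq φ b)

theorem orbitOrder_mk (g : G) :
    orbitOrder (Quotient.mk (MulAction.orbitRel (MulAut G) G) g) = orderOf g := rfl

variable [Finite G]

theorem three_orbits_to {p q : ℕ} (hp : p.Prime) (hq : q.Prime) (hpq : p ≠ q)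
    (hp' : ∃ g : G, orderOf g = p) (hq' : ∃ g : G, orderOf g = q)
    (hall : ∀ g : G, g = 1 ∨ orderOf g = p ∨ orderOf g = q)
    (hconj : ∀ g g' : G, orderOf g = orderOf g' → ∃ φ : MulAut G, φ g = g') :
    Nat.card (MulAction.orbitRel.Quotient (MulAut G) G) = 3 := by
  have hinj : Function.Injective (orbitOrder (G := G)) := by
    intro a b
    induction a using Quotient.inductionOn with
    | h a =>
      induction b using Quotient.inductionOn with
      | h b =>
        intro h
        obtain ⟨φ, hφ⟩ := hconj b a h.symm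
        exact Quotient.sound ⟨φ, hφ⟩
  have hrange : Set.range (orbitOrder (G := G)) = {1, p, q} := by
    ext n
    constructor
    · rintro ⟨a, rfl⟩
      induction a using Quotient.inductionOn with
      | h g =>
        rw [orbitOrder_mk]
        rcases hall g with rfl | h | h
        · simp
        · simp [h]
        · simp [h]
    · rintro (rfl | rfl | rfl)
      · exact ⟨Quotient.mk _ 1, orderOf_one⟩
      · exact hp'.imp' (Quotient.mk _) fun g h => h
      · exact hq'.imp' (Quotient.mk _) fun g h => h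
  rw [← Nat.card_range_of_injective hinj, hrange, Nat.card_coe_set_eq]
  rw [Set.ncard_eq_three]
  exact ⟨1, p, q, hp.one_lt.ne, hq.one_lt.ne, hpq, rfl⟩

theorem three_orbits_from (hnpp : ¬ IsPrimePow (Nat.card G)) (hnt : Nat.card G ≠ 1)
    (h3 : Nat.card (MulAction.orbitRel.Quotient (MulAut G) G) = 3) :
    ∃ p q : ℕ, p.Prime ∧ q.Prime ∧ p ≠ q ∧ p ∣ Nat.card G ∧ q ∣ Nat.card G ∧
      (∀ g : G, g = 1 ∨ orderOf g = p ∨ orderOf g = q) ∧
      (∀ g g' : G, orderOf g = orderOf g' → ∃ φ : MulAut G, φ g = g') := by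
  classical
  obtain ⟨p, hp, hpd⟩ := Nat.exists_prime_and_dvd hnt
  obtain ⟨q, hq, hqd, hpq⟩ : ∃ q, q.Prime ∧ q ∣ Nat.card G ∧ p ≠ q := by
    by_contra! h
    apply hnpp
    rw [isPrimePow_iff_unique_prime_dvd]
    exact ⟨p, ⟨hp, hpd⟩, fun r hr => (h r hr.1 hr.2).symm⟩
  haveI := Fact.mk hp
  haveI := Fact.mk hq
  obtain ⟨x, hx⟩ := exists_prime_orderOf_dvd_card' p hpd
  obtain ⟨y, hy⟩ := exists_prime_orderOf_dvd_card' q hqd
  have hsub : ({1, p, q} : Set ℕ) ⊆ Set.range (orbitOrder (G := G)) := by
    rintro n (rfl | rfl | rfl)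
    · exact ⟨Quotient.mk _ 1, orderOf_one⟩
    · exact ⟨Quotient.mk _ x, hx⟩
    · exact ⟨Quotient.mk _ y, hy⟩
  have h3' : ({1, p, q} : Set ℕ).ncard = 3 := by
    rw [Set.ncard_eq_three]
    exact ⟨1, p, q, hp.one_lt.ne, hq.one_lt.ne, hpq, rfl⟩
  have hfin : (Set.range (orbitOrder (G := G))).ncard ≤ 3 := by
    rw [← h3, ← Set.image_univ]
    exact (Set.ncard_image_le Set.finite_univ).trans (le_of_eq (Set.ncard_univ _))
  have heq : Set.range (orbitOrder (G := G)) = {1, p, q} :=
    (Set.eq_of_subset_of_ncard_le hsub (h3' ▸ hfin) (Set.finite_range _)).symm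
  have hinj : Function.Injective (orbitOrder (G := G)) := by
    have h1 : (orbitOrder (G := G) '' Set.univ).ncard = (Set.univ : Set (MulAction.orbitRel.Quotient (MulAut G) G)).ncard := by
      rw [Set.image_univ, heq, h3', Set.ncard_univ, h3]
    have := Set.injOn_of_ncard_image_eq h1 Set.finite_univ
    exact Set.injOn_univ.mp this
  refine ⟨p, q, hp, hq, hpq, hpd, hqd, fun g => ?_, fun g g' h => ?_⟩
  · have : orderOf g ∈ ({1, p, q} : Set ℕ) := heq ▸ ⟨Quotient.mk _ g, rfl⟩
    rcases this with h | h | h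
    · exact Or.inl (orderOf_eq_one_iff.mp h)
    · exact Or.inr (Or.inl h)
    · exact Or.inr (Or.inr h)
  · have := hinj (a₁ := Quotient.mk _ g') (a₂ := Quotient.mk _ g) h.symm
    exact Quotient.exact this

end Group

section Conj

variable {G : Type*} [Group G] (P : Subgroup G) [P.Normal]

/-- The underlying group element. -/
def aVal {P : Subgroup G} (z : Additive ↥P) : G := ((Additive.toMul z : ↥P) : G)

/-- Conjugation on a normal subgroup, additively. -/
def conjAdd (x : G) : Additive ↥P →+ Additive ↥P :=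
  MonoidHom.toAdditive
    { toFun := fun v => ⟨x * v * x⁻¹, ‹P.Normal›.conj_mem _ v.2 x⟩
      map_one' := Subtype.ext (by simp)
      map_mul' := fun a b => Subtype.ext (by simp [mul_assoc]) }

theorem aVal_injective {P : Subgroup G} : Function.Injective (aVal (P := P)) :=
  fun _ _ h => Additive.toMul.injective (Subtype.ext h)

open IsMulCommutative in
/-- Conjugation as a linear map. -/
def conjEnd (p : ℕ) [IsMulCommutative P] [Module (ZMod p) (Additive ↥P)] (x : G) :
    Module.End (ZMod p) (Additive ↥P) := (conjAdd P x).toZModLinearMap p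

open IsMulCommutative in
theorem conjEnd_pow_apply (p : ℕ) [IsMulCommutative P] [Module (ZMod p) (Additive ↥P)] (x : G)
    (m : ℕ) (z : Additive ↥P) :
    aVal ((conjEnd P p x ^ m) z) = x ^ m * aVal z * (x ^ m)⁻¹ := by
  induction m generalizing z with
  | zero => simp
  | succ m ih =>
    rw [pow_succ', Module.End.mul_apply]
    show x * aVal ((conjEnd P p x ^ m) z) * x⁻¹ = _
    rw [ih, pow_succ']
    group

end Conj

open IsMulCommutative in
/-- The primitive root condition. -/
theorem forward_order {G : Type*} [Group G] [Finite G] {p q n : ℕ} [hp : Fact p.Prime]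
    [hq : Fact q.Prime] (hpq : p ≠ q)
    (hconj : ∀ g g' : G, orderOf g = orderOf g' → ∃ φ : MulAut G, φ g = g')
    (D : Subgroup G) [IsMulCommutative D] [D.Characteristic] [hDn : D.Normal] [Nontrivial D]
    [Module (ZMod p) (Additive D)]
    (hDexp : ∀ g ∈ D, g ^ p = 1) (hn : Nat.card D = p ^ n) (hcard : Nat.card G = p ^ n * q)
    (hfpf : ∀ x y : G, orderOf x = q → orderOf y = p → x * y * x⁻¹ ≠ y)
    {x : G} (hx : orderOf x = q) {y₀ : G} (hy₀D : y₀ ∈ D) (hy₀ : orderOf y₀ = p) :
    orderOf (p : ZMod q) = q - 1 := by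
  classical
  set T : Module.End (ZMod p) (Additive D) := conjEnd D p x with hTdef
  have hTpow : ∀ (m : ℕ) (v : D), aVal ((T ^ m) (Additive.ofMul v)) =
      x ^ m * v * (x ^ m)⁻¹ := fun m v => conjEnd_pow_apply D p x m (Additive.ofMul v)
  have hT : T ^ q = 1 := LinearMap.ext fun z => aVal_injective (by
    rw [conjEnd_pow_apply, Module.End.one_apply, ← hx, pow_orderOf_eq_one]
    simp)
  have hT1 : T ≠ 1 := by
    intro h
    apply hfpf x y₀ hx hy₀
    have := hTpow 1 ⟨y₀, hy₀D⟩
    rw [pow_one, pow_one, h] at this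
    exact this.symm
  have hres : ∀ φ : MulAut G, ∃ A : Additive D ≃+ Additive D,
      ∀ v : D, aVal (A (Additive.ofMul v)) = φ v := by
    intro φ
    have hmem : ∀ v : D, φ v ∈ D := fun v => by
      have h := Subgroup.characteristic_iff_map_eq.mp ‹D.Characteristic› φ
      exact (SetLike.ext_iff.mp h (φ v)).mp ⟨v, v.2, rfl⟩
    let f : D →* D := { toFun := fun v => ⟨φ v, hmem v⟩
                        map_one' := Subtype.ext (by simp)
                        map_mul' := fun a b => Subtype.ext (by simp) }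
    have hf : Function.Injective f := fun a b h =>
      Subtype.ext (φ.injective (congrArg Subtype.val h))
    exact ⟨MulEquiv.toAdditive (MulEquiv.ofBijective f ⟨hf, Finite.surjective_of_injective hf⟩),
      fun v => rfl⟩
  have hint : ∀ (φ : MulAut G) (A : Additive D ≃+ Additive D) (i : ℕ) (c : G), c ∈ D →
      (∀ v : D, aVal (A (Additive.ofMul v)) = φ v) →
      φ x = c * x ^ i * c⁻¹ → ∀ z, A (T z) = (T ^ i) (A z) := by
    intro φ A i c hc hA hφ z
    obtain ⟨v, rfl⟩ := Additive.ofMul.surjective z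
    obtain ⟨w, hw⟩ := Additive.ofMul.surjective (A (Additive.ofMul v))
    apply aVal_injective
    rw [← hw, hTpow]
    have hwv : (w : G) = φ v := by rw [← hA v, ← hw]; rfl
    have hAT : aVal (A (T (Additive.ofMul v))) = φ (x * v * x⁻¹) :=
      hA ⟨x * v * x⁻¹, hDn.conj_mem _ v.2 x⟩
    rw [hAT, map_mul, map_mul, map_inv, hφ, ← hwv]
    have h1 : (c⁻¹ : G) * w * c = w := by
      have := Subtype.ext_iff.mp ((IsMulCommutative.is_comm (M := D)).comm ⟨c, hc⟩ w)
      simp only [Subgroup.coe_mul] at this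
      rw [mul_assoc, ← this, inv_mul_cancel_left]
    have hxc : x ^ i * w * (x ^ i)⁻¹ ∈ D := hDn.conj_mem _ w.2 _
    calc c * x ^ i * c⁻¹ * ↑w * (c * x ^ i * c⁻¹)⁻¹
        = c * (x ^ i * (c⁻¹ * w * c) * (x ^ i)⁻¹) * c⁻¹ := by group
      _ = c * (x ^ i * w * (x ^ i)⁻¹) * c⁻¹ := by rw [h1]
      _ = x ^ i * w * (x ^ i)⁻¹ := by
        have := Subtype.ext_iff.mp ((IsMulCommutative.is_comm (M := D)).comm ⟨c, hc⟩ ⟨_, hxc⟩)
        simp only [Subgroup.coe_mul] at this
        rw [this, mul_inv_cancel_right]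
  refine orderOf_eq_of_transitive hpq T hT hT1 (fun i hi => ?_) (fun y y' hy hy' => ?_)
  · obtain ⟨φ, hφ⟩ := hconj x (x ^ i) (by
      rw [hx, orderOf_pow, hx, Nat.Coprime.gcd_eq_one ((hq.out.coprime_iff_not_dvd).mpr hi),
        Nat.div_one])
    obtain ⟨A, hA⟩ := hres φ
    exact ⟨A, hint φ A i 1 (one_mem D) hA (by simpa using hφ)⟩
  · obtain ⟨v, rfl⟩ := Additive.ofMul.surjective y
    obtain ⟨v', rfl⟩ := Additive.ofMul.surjective y'
    have hord : ∀ w : D, Additive.ofMul w ≠ 0 → orderOf (w : G) = p := fun w hw =>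
      orderOf_eq_prime (hDexp _ w.2) fun h1 => hw (by
        rw [show w = 1 from Subtype.ext h1]; rfl)
    obtain ⟨φ, hφ⟩ := hconj v v' ((hord v hy).trans (hord v' hy').symm)
    obtain ⟨A, hA⟩ := hres φ
    -- φ x is conjugate to a power of x by an element of D
    have hsup : ∀ g : G, ∃ c ∈ D, ∃ m : ℕ, g = c * x ^ m := by
      have hc : Subgroup.IsComplement' D (Subgroup.zpowers x) := by
        apply Subgroup.isComplement'_of_card_mul_and_disjoint
        · rw [hn, Nat.card_zpowers, hx, hcard]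
        · rw [disjoint_iff_inf_le]
          rintro g ⟨hg1, hg2⟩
          have h1 : orderOf g ∣ q := hx ▸ orderOf_dvd_of_mem_zpowers hg2
          have h2 : orderOf g ∣ p := orderOf_dvd_of_pow_eq_one (hDexp g hg1)
          rw [Subgroup.mem_bot, ← orderOf_eq_one_iff]
          exact Nat.eq_one_of_dvd_coprimes ((Nat.coprime_primes hp.out hq.out).mpr hpq) h2 h1
      intro g
      obtain ⟨⟨c, d⟩, hcd⟩ := hc.2 g
      obtain ⟨m, hm⟩ := (mem_powers_iff_mem_zpowers).mpr d.2
      exact ⟨c, c.2, m, by rw [show x ^ m = (d : G) from hm]; exact hcd.symm⟩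
    have hz : orderOf (φ x) = q := by rw [MulEquiv.orderOf_eq]; exact hx
    obtain ⟨P⟩ : Nonempty (Sylow q G) := inferInstance
    have hcardZ : ∀ z : G, orderOf z = q →
        Nat.card (Subgroup.zpowers z) = q ^ (Nat.card G).factorization q := by
      intro z hz
      rw [Nat.card_zpowers, hz, hcard, Nat.factorization_mul (pow_ne_zero _ hp.out.ne_zero) hq.out.ne_zero,
        Finsupp.add_apply, Nat.Prime.factorization_pow hp.out,
        Finsupp.single_eq_of_ne hpq.symm, Nat.Prime.factorization_self hq.out, zero_add, pow_one]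
    obtain ⟨g, hg⟩ := MulAction.exists_smul_eq G (Sylow.ofCard _ (hcardZ x hx))
      (Sylow.ofCard _ (hcardZ (φ x) hz))
    obtain ⟨c, hc, m, rfl⟩ := hsup g
    have hmem : φ x ∈ ((c * x ^ m) • Sylow.ofCard _ (hcardZ x hx) : Sylow q G) := by
      rw [hg]; exact Subgroup.mem_zpowers (φ x)
    obtain ⟨u, hu, hueq⟩ := hmem
    obtain ⟨k, rfl⟩ := (mem_powers_iff_mem_zpowers).mpr hu
    refine ⟨A, k, ?_, hint φ A k c hc hA ?_⟩
    · apply Additive.toMul.injective
      exact Subtype.ext ((hA v).trans hφ)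
    · rw [← hueq]
      simp only [MulDistribMulAction.toMonoidEnd_apply, MulDistribMulAction.toMonoidHom_apply,
        MulAut.smul_def, MulAut.conj_apply]
      group

open IsMulCommutative in
/-- Forward direction, when the last nontrivial characteristic subgroup has `p`-elements. -/
theorem forward {G : Type*} [Group G] [Finite G] {p q : ℕ} [hp : Fact p.Prime] [hq : Fact q.Prime]
    (hpq : p ≠ q) (hqd : q ∣ Nat.card G)
    (hall : ∀ g : G, g = 1 ∨ orderOf g = p ∨ orderOf g = q)
    (hconj : ∀ g g' : G, orderOf g = orderOf g' → ∃ φ : MulAut G, φ g = g')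
    (D : Subgroup G) [IsMulCommutative D] [D.Characteristic] (hD : ∃ y ∈ D, orderOf y = p) :
    ∃ n : ℕ, 1 ≤ n ∧ Nat.card G = p ^ n * q ∧
      (∀ P : Sylow p G, (P : Subgroup G).Normal ∧ Cfsg.IsElementaryAbelian p (P : Subgroup G)) ∧
      orderOf (p : ZMod q) = q - 1 ∧
      ∀ x y : G, orderOf x = q → orderOf y = p → x * y * x⁻¹ ≠ y := by
  classical
  obtain ⟨y₀, hy₀D, hy₀⟩ := hD
  have hmul : ∀ a b : G, orderOf a = q → orderOf b = p → ¬ Commute a b := by
    intro a b ha hb hab
    have h : orderOf (a * b) = q * p := by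
      rw [hab.orderOf_mul_eq_mul_orderOf_of_coprime (by
        rw [ha, hb]; exact (Nat.coprime_primes hq.out hp.out).mpr hpq.symm), ha, hb]
    have h1 := hp.out.two_le
    have h2 := hq.out.two_le
    rcases hall (a * b) with h' | h' | h'
    · rw [h', orderOf_one] at h; nlinarith
    · rw [h] at h'; nlinarith
    · rw [h] at h'; nlinarith
  have hpD : ∀ g : G, orderOf g = p → g ∈ D := by
    intro g hg
    obtain ⟨φ, rfl⟩ := hconj y₀ g (hy₀.trans hg.symm)
    have := Subgroup.characteristic_iff_map_eq.mp ‹D.Characteristic› φ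
    rw [← this]
    exact ⟨y₀, hy₀D, rfl⟩
  have hDexp : ∀ g ∈ D, g ^ p = 1 := by
    intro g hg
    rcases hall g with rfl | h | h
    · simp
    · rw [← h]; exact pow_orderOf_eq_one g
    · exact absurd (Subtype.ext_iff.mp
        ((IsMulCommutative.is_comm (M := D)).comm ⟨g, hg⟩ ⟨y₀, hy₀D⟩)) (hmul g y₀ h hy₀)
  have hDp : IsPGroup p D := fun g => ⟨1, Subtype.ext (by simpa using hDexp g g.2)⟩
  haveI hDn : D.Normal := Subgroup.normal_of_characteristic D
  have hP : ∀ P : Sylow p G, (P : Subgroup G) = D := by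
    intro P
    have hle : (P : Subgroup G) ≤ D := by
      intro g hg
      rcases hall g with rfl | h | h
      · exact one_mem D
      · exact hpD g h
      · exfalso
        obtain ⟨k, hk⟩ := P.isPGroup' ⟨g, hg⟩
        have : g ^ p ^ k = 1 := congrArg Subtype.val hk
        have := orderOf_dvd_of_pow_eq_one this
        rw [h] at this
        exact hpq ((Nat.prime_dvd_prime_iff_eq hq.out hp.out).mp (hq.out.dvd_of_dvd_pow this)).symm
    exact (P.is_maximal' hDp hle).symm
  have hfpf : ∀ x y : G, orderOf x = q → orderOf y = p → x * y * x⁻¹ ≠ y := fun x y hx hy h =>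
    hmul x y hx hy (mul_inv_eq_iff_eq_mul.mp h)
  obtain ⟨n, hn⟩ := IsPGroup.iff_card.mp hDp
  have hn1 : 1 ≤ n := by
    rcases Nat.eq_zero_or_pos n with rfl | h
    · exfalso
      rw [pow_zero] at hn
      rw [Subgroup.eq_bot_of_card_eq _ hn, Subgroup.mem_bot] at hy₀D
      rw [hy₀D, orderOf_one] at hy₀
      exact hp.out.one_lt.ne hy₀
    · exact h
  have hDne : D ≠ ⊥ := fun h => by
    rw [h, Subgroup.card_bot] at hn
    exact (Nat.one_lt_pow (by omega) hp.out.one_lt).ne hn
  -- Sylow q has order q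
  have hq2 : ¬ q ^ 2 ∣ Nat.card G := by
    intro h2
    obtain ⟨E, hE⟩ := Sylow.exists_subgroup_card_pow_prime q h2
    have hord : ∀ a ∈ E, a ≠ 1 → orderOf a = q := by
      intro a ha ha1
      rcases hall a with h | h | h
      · exact absurd h ha1
      · exfalso
        have := Subgroup.orderOf_dvd_natCard E ha
        rw [h, hE] at this
        exact hpq ((Nat.prime_dvd_prime_iff_eq hp.out hq.out).mp (hp.out.dvd_of_dvd_pow this))
      · exact h
    refine hDne (CfsgLib.Frobenius.eq_bot_of_elementary_fpf (A := E) ?_ ?_ hq.out hE ?_)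
    · rw [Subgroup.normalizer_eq_top]; exact le_top
    · intro a ha ha1
      rw [eq_bot_iff]
      rintro v ⟨hv, hvc⟩
      rw [Subgroup.mem_bot]
      by_contra hv1
      have hvp : orderOf v = p := by
        refine orderOf_eq_prime (hDexp v hv) hv1
      exact hmul a v (hord a ha ha1) hvp (Subgroup.mem_centralizer_singleton_iff.mp hvc).symm
    · intro a ha
      by_cases ha1 : a = 1
      · simp [ha1]
      · rw [← hord a ha ha1]; exact pow_orderOf_eq_one a
  have hcard : Nat.card G = p ^ n * q := by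
    obtain ⟨Q⟩ : Nonempty (Sylow p G) := inferInstance
    have hidx : ¬ p ∣ D.index := hP Q ▸ Q.not_dvd_index
    have hG := D.card_mul_index
    rw [hn] at hG
    have hqi : q ∣ D.index := by
      rw [← hG] at hqd
      rcases hq.out.dvd_mul.mp hqd with h | h
      · exact absurd ((Nat.prime_dvd_prime_iff_eq hq.out hp.out).mp (hq.out.dvd_of_dvd_pow h))
          hpq.symm
      · exact h
    obtain ⟨m, hm⟩ := hqi
    have hm1 : m = 1 := by
      by_contra hm1
      obtain ⟨r, hr, hrm⟩ := Nat.exists_prime_and_dvd hm1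
      haveI := Fact.mk hr
      have hrG : r ∣ Nat.card G := by
        rw [← hG, hm]; exact (hrm.mul_left q).mul_left _
      obtain ⟨g, hg⟩ := exists_prime_orderOf_dvd_card' r hrG
      rcases hall g with rfl | h | h
      · rw [orderOf_one] at hg; exact hr.one_lt.ne hg
      · rw [h] at hg; subst hg; exact hidx (hm ▸ hrm.mul_left q)
      · rw [h] at hg; subst hg
        apply hq2
        rw [← hG, hm, sq]
        exact (Nat.mul_dvd_mul_left q hrm).mul_left _
    rw [← hG, hm, hm1, mul_one]
  refine ⟨n, hn1, hcard, fun P => ?_, ?_, hfpf⟩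
  · rw [hP P]; exact ⟨hDn, ‹IsMulCommutative D›, hDexp⟩
  -- the order condition
  obtain ⟨x, hx⟩ := exists_prime_orderOf_dvd_card' q hqd
  haveI : Nontrivial D := D.nontrivial_iff_ne_bot.mpr hDne
  letI : Module (ZMod p) (Additive D) :=
    AddCommGroup.zmodModule (n := p) fun v => Additive.toMul.injective
        (Subtype.ext (by simpa using hDexp _ (Additive.toMul v).2))
  exact forward_order hpq hconj D hDexp hn hcard hfpf hx hy₀D hy₀

open IsMulCommutative in
/-- Backward direction, core. -/
theorem backward_core {G : Type*} [Group G] [Finite G] {p q n : ℕ} [hp : Fact p.Prime]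
    [hq : Fact q.Prime] (hpq : p ≠ q) (hcard : Nat.card G = p ^ n * q)
    (D : Subgroup G) [D.Normal] [IsMulCommutative D] [Nontrivial D]
    [Module (ZMod p) (Additive D)]
    (hDcard : Nat.card D = p ^ n) (hfac : (Nat.card G).factorization q = 1)
    (hDexp : ∀ g ∈ D, g ^ p = 1) (hord_p : ∀ v ∈ D, v ≠ 1 → orderOf v = p)
    (hmemD : ∀ g : G, ∀ k, g ^ p ^ k = 1 → g ∈ D)
    (hall : ∀ g : G, g = 1 ∨ orderOf g = p ∨ orderOf g = q)
    (hord : orderOf (p : ZMod q) = q - 1)
    (hfpf : ∀ x y : G, orderOf x = q → orderOf y = p → x * y * x⁻¹ ≠ y)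
    {x : G} (hx : orderOf x = q) {y₀ : G} (hy₀ : orderOf y₀ = p) :
    Nat.card (MulAction.orbitRel.Quotient (MulAut G) G) = 3 := by
  classical
  set T : Module.End (ZMod p) (Additive D) := conjEnd D p x with hTdef
  have hTpow : ∀ (m : ℕ) (v : D), aVal ((T ^ m) (Additive.ofMul v)) =
      x ^ m * v * (x ^ m)⁻¹ := fun m v => conjEnd_pow_apply D p x m (Additive.ofMul v)
  have hT : T ^ q = 1 := LinearMap.ext fun z => aVal_injective (by
    rw [conjEnd_pow_apply, Module.End.one_apply, ← hx, pow_orderOf_eq_one]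
    simp)
  have hfix : ∀ z, T z = z → z = 0 := by
    intro z hz
    obtain ⟨v, rfl⟩ := Additive.ofMul.surjective z
    by_contra h0
    refine hfpf x v hx (hord_p _ v.2 fun h1 => h0 ?_) ?_
    · rw [show v = 1 from Subtype.ext h1]; rfl
    · have := hTpow 1 v
      rw [pow_one, pow_one, hz] at this
      exact this.symm
  obtain ⟨htrans, hfrob⟩ := exists_semilinear hpq hord T hT hfix
  have hc : Subgroup.IsComplement' D (Subgroup.zpowers x) := by
    apply Subgroup.isComplement'_of_card_mul_and_disjoint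
    · rw [hDcard, Nat.card_zpowers, hx, hcard]
    · rw [disjoint_iff_inf_le]
      rintro g ⟨hg1, hg2⟩
      have h1 : orderOf g ∣ q := hx ▸ orderOf_dvd_of_mem_zpowers hg2
      have h2 : orderOf g ∣ p := orderOf_dvd_of_pow_eq_one (hDexp g hg1)
      rw [Subgroup.mem_bot, ← orderOf_eq_one_iff]
      exact Nat.eq_one_of_dvd_coprimes ((Nat.coprime_primes hp.out hq.out).mpr hpq) h2 h1
  have hext : ∀ (A : Additive D ≃+ Additive D) (i : ℕ), q.Coprime i →
      (∀ z, A (T z) = (T ^ i) (A z)) →
      ∃ φ : MulAut G, (∀ v : D, φ v = aVal (A (Additive.ofMul v))) ∧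
        φ x = x ^ i := by
    intro A i hi hA
    refine exists_mulAut_extend hx hc hi (MulEquiv.toAdditive.symm A) fun v => ?_
    show aVal (A (T (Additive.ofMul v))) = _
    rw [hA]
    exact hTpow i (Additive.toMul (A (Additive.ofMul v)))
  have hqconj : ∀ z : G, orderOf z = q → ∃ φ : MulAut G, φ x = z := by
    intro z hz
    have hcardZ : ∀ z : G, orderOf z = q →
        Nat.card (Subgroup.zpowers z) = q ^ (Nat.card G).factorization q := by
      intro z hz
      rw [Nat.card_zpowers, hz, hfac, pow_one]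
    obtain ⟨g, hg⟩ := MulAction.exists_smul_eq G (Sylow.ofCard _ (hcardZ x hx))
      (Sylow.ofCard _ (hcardZ z hz))
    have hmem : z ∈ (g • Sylow.ofCard _ (hcardZ x hx) : Sylow q G) := by
      rw [hg]; exact Subgroup.mem_zpowers z
    obtain ⟨u, hu, hueq⟩ := hmem
    obtain ⟨i, rfl⟩ := (mem_powers_iff_mem_zpowers).mpr hu
    have hueq' : g * x ^ i * g⁻¹ = z := hueq
    have hi : ¬ q ∣ i := by
      rintro ⟨j, rfl⟩
      rw [pow_mul, ← hx, pow_orderOf_eq_one, one_pow, mul_one, mul_inv_cancel] at hueq'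
      rw [← hueq', orderOf_one] at hz
      exact hq.out.one_lt.ne hz
    -- `i` is a power of `p` mod `q`
    obtain ⟨k, hk⟩ : ∃ k : ℕ, (p : ZMod q) ^ k = (i : ZMod q) := by
      have hp0 : (p : ZMod q) ≠ 0 := orderOf_cast_ne_zero hpq
      have hi0 : (i : ZMod q) ≠ 0 := by rwa [Ne, ZMod.natCast_eq_zero_iff]
      have htop : Subgroup.zpowers (Units.mk0 _ hp0) = (⊤ : Subgroup (ZMod q)ˣ) := by
        apply Subgroup.eq_top_of_card_eq
        rw [Nat.card_zpowers, ← orderOf_units, Units.val_mk0, hord, Nat.card_units, Nat.card_zmod]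
      obtain ⟨k, hk⟩ := (mem_powers_iff_mem_zpowers).mpr
        (htop ▸ Subgroup.mem_top (Units.mk0 _ hi0) :
          Units.mk0 _ hi0 ∈ Subgroup.zpowers (Units.mk0 _ hp0))
      exact ⟨k, by simpa using congrArg Units.val hk⟩
    obtain ⟨A, hA⟩ := hfrob k
    obtain ⟨φ, -, hφ⟩ := hext A (p ^ k)
      (Nat.Coprime.pow_right k ((Nat.coprime_primes hq.out hp.out).mpr hpq.symm)) hA
    refine ⟨MulAut.conj g * φ, ?_⟩
    have hxk : x ^ p ^ k = x ^ i := by
      rw [(isOfFinOrder_of_finite x).pow_eq_pow_iff_modEq, hx, ← ZMod.natCast_eq_natCast_iff,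
        Nat.cast_pow, hk]
    rw [MulAut.mul_apply, hφ, hxk, MulAut.conj_apply, hueq']
  refine three_orbits_to hp.out hq.out hpq ⟨y₀, hy₀⟩ ⟨x, hx⟩ hall fun g g' hgg => ?_
  rcases hall g with rfl | hg | hg
  · rw [orderOf_one, eq_comm, orderOf_eq_one_iff] at hgg
    exact ⟨1, hgg.symm⟩
  · have hgD : g ∈ D := hmemD g 1 (by rw [pow_one, ← hg]; exact pow_orderOf_eq_one g)
    have hg'D : g' ∈ D :=
      hmemD g' 1 (by rw [pow_one, ← hg, hgg]; exact pow_orderOf_eq_one g')
    have hne : ∀ (a : G) (ha : a ∈ D), orderOf a = p →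
        Additive.ofMul (⟨a, ha⟩ : D) ≠ 0 := fun a ha hap h => by
      have h' : a = 1 := congrArg (fun z => ((Additive.toMul z : D) : G)) h
      rw [h', orderOf_one] at hap; exact hp.out.one_lt.ne hap
    obtain ⟨A, hAv, hA⟩ := htrans _ _ (hne g hgD hg) (hne g' hg'D (hgg ▸ hg))
    obtain ⟨φ, hφ, -⟩ := hext A 1 (Nat.coprime_one_right q) (by simpa using hA)
    refine ⟨φ, ?_⟩
    have := hφ ⟨g, hgD⟩
    rw [hAv] at this
    exact this
  · obtain ⟨φ, hφ⟩ := hqconj g hg
    obtain ⟨ψ, hψ⟩ := hqconj g' (hgg ▸ hg)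
    exact ⟨ψ * φ⁻¹, by rw [MulAut.mul_apply, ← hφ, MulAut.inv_apply_self, hψ]⟩

open IsMulCommutative in
/-- Backward direction. -/
theorem backward {G : Type*} [Group G] [Finite G] {p q n : ℕ} [hp : Fact p.Prime]
    [hq : Fact q.Prime] (hpq : p ≠ q) (hn : 1 ≤ n) (hcard : Nat.card G = p ^ n * q)
    (hP : ∀ P : Sylow p G, (P : Subgroup G).Normal ∧
      Cfsg.IsElementaryAbelian p (P : Subgroup G))
    (hord : orderOf (p : ZMod q) = q - 1)
    (hfpf : ∀ x y : G, orderOf x = q → orderOf y = p → x * y * x⁻¹ ≠ y) :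
    Nat.card (MulAction.orbitRel.Quotient (MulAut G) G) = 3 := by
  classical
  obtain ⟨P₀⟩ : Nonempty (Sylow p G) := inferInstance
  set D : Subgroup G := (P₀ : Subgroup G) with hD
  obtain ⟨hDn, hDc, hDexp⟩ := hP P₀
  haveI := hDn
  haveI := hDc
  have hfac : (Nat.card G).factorization q = 1 := by
    rw [hcard, Nat.factorization_mul (pow_ne_zero _ hp.out.ne_zero) hq.out.ne_zero,
      Finsupp.add_apply, Nat.Prime.factorization_pow hp.out,
      Finsupp.single_eq_of_ne hpq.symm, Nat.Prime.factorization_self hq.out, zero_add]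
  have hDcard : Nat.card D = p ^ n := by
    rw [hD, P₀.card_eq_multiplicity, hcard, Nat.factorization_mul (pow_ne_zero _ hp.out.ne_zero)
      hq.out.ne_zero, Finsupp.add_apply, Nat.Prime.factorization_pow hp.out,
      Finsupp.single_eq_same, hq.out.factorization, Finsupp.single_eq_of_ne hpq, add_zero]
  have hidx : D.index = q := by
    have := D.card_mul_index
    rw [hDcard, hcard] at this
    exact Nat.eq_of_mul_eq_mul_left (pow_pos hp.out.pos n) this
  have hmemD : ∀ g : G, ∀ k, g ^ p ^ k = 1 → g ∈ D := by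
    intro g k hg
    have h1 : g ^ q ∈ D := hidx ▸ Subgroup.pow_index_mem D g
    have h2 : Nat.Coprime q (p ^ k) :=
      Nat.Coprime.pow_right k ((Nat.coprime_primes hq.out hp.out).mpr hpq.symm)
    obtain ⟨m, hm⟩ := (orderOf_dvd_of_pow_eq_one hg).trans (dvd_refl _) |> fun h =>
      exists_pow_eq_self_of_coprime (Nat.Coprime.coprime_dvd_right h h2)
    rw [← hm]
    exact pow_mem h1 m
  have hord_p : ∀ v ∈ D, v ≠ 1 → orderOf v = p := fun v hv hv1 =>
    orderOf_eq_prime (hDexp v hv) hv1
  have hall : ∀ g : G, g = 1 ∨ orderOf g = p ∨ orderOf g = q := by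
    intro g
    by_cases hg : g ^ q = 1
    · rcases (Nat.dvd_prime hq.out).mp (orderOf_dvd_of_pow_eq_one hg) with h | h
      · exact Or.inl (orderOf_eq_one_iff.mp h)
      · exact Or.inr (Or.inr h)
    have h1 : g ^ q ∈ D := hidx ▸ Subgroup.pow_index_mem D g
    have hgqp : orderOf (g ^ q) = p := hord_p _ h1 hg
    by_cases hx : orderOf (g ^ p ^ n) = q
    · exact absurd (by rw [← pow_mul_comm, mul_inv_cancel_right]) (hfpf _ _ hx hgqp)
    · have hgq : (g ^ p ^ n) ^ q = 1 := by rw [← pow_mul, ← hcard]; exact pow_card_eq_one'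
      have hgp : g ^ p ^ n = 1 := by
        rcases (Nat.dvd_prime hq.out).mp (orderOf_dvd_of_pow_eq_one hgq) with h | h
        · exact orderOf_eq_one_iff.mp h
        · exact absurd h hx
      by_cases hg1 : g = 1
      · exact Or.inl hg1
      · exact Or.inr (Or.inl (hord_p g (hmemD g n hgp) hg1))
  obtain ⟨x, hx⟩ := exists_prime_orderOf_dvd_card' q (hcard ▸ Dvd.intro_left _ rfl)
  obtain ⟨y₀, hy₀⟩ := exists_prime_orderOf_dvd_card' p
    (hcard ▸ (dvd_pow_self p (by omega)).mul_right q)
  have hy₀D : y₀ ∈ D := hmemD y₀ 1 (by rw [pow_one, ← hy₀]; exact pow_orderOf_eq_one y₀)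
  haveI : Nontrivial D := ⟨⟨⟨y₀, hy₀D⟩, 1, fun h => by
    have h' : y₀ = 1 := congrArg Subtype.val h
    rw [h', orderOf_one] at hy₀; exact hp.out.one_lt.ne hy₀⟩⟩
  letI : Module (ZMod p) (Additive D) :=
    AddCommGroup.zmodModule (n := p) fun v => Additive.toMul.injective
        (Subtype.ext (by simpa using hDexp _ (Additive.toMul v).2))
  exact backward_core hpq hcard D hDcard hfac hDexp hord_p hmemD hall hord hfpf hx hy₀

/-- Let G be a finite group whose order is not a prime power. Then the automorphism group of G has exactly three orbits on G if and only if there are distinct primes p, q with #G = pⁿ·q (n ≥ 1) such that G has a normal elementary abelian Sylow p-subgroup P, p is a primitive root modulo q (the multiplicative order of p mod q is q − 1), and every element of order q of G acts on P without non-identity fixed points. -/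
theorem result {G : Type*} [Group G] [Finite G] (hnpp : ¬ IsPrimePow (Nat.card G)) (hnt : Nat.card G ≠ 1) :
    Nat.card (MulAction.orbitRel.Quotient (MulAut G) G) = 3 ↔
    ∃ (p q n : ℕ) (_ : Fact p.Prime) (_ : Fact q.Prime), p ≠ q ∧ 1 ≤ n ∧ Nat.card G = p ^ n * q ∧
      (∀ P : Sylow p G, (P : Subgroup G).Normal ∧ Cfsg.IsElementaryAbelian p (P : Subgroup G)) ∧
      orderOf (p : ZMod q) = q - 1 ∧
      ∀ x y : G, orderOf x = q → orderOf y = p → x * y * x⁻¹ ≠ y := by
  constructor
  · intro h3
    classical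
    obtain ⟨p, q, hp, hq, hpq, hpd, hqd, hall, hconj⟩ := three_orbits_from hnpp hnt h3
    haveI := Fact.mk hp
    haveI := Fact.mk hq
    have hsolv : Group.IsSolvable G := by
      have hne : Nat.card G ≠ 0 := Nat.card_pos.ne'
      have hpf : (Nat.card G).primeFactors = {p, q} := by
        ext r
        rw [Nat.mem_primeFactors, Finset.mem_insert, Finset.mem_singleton]
        constructor
        · rintro ⟨hr, hrd, -⟩
          haveI := Fact.mk hr
          obtain ⟨g, hg⟩ := exists_prime_orderOf_dvd_card' r hrd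
          rcases hall g with rfl | h | h
          · rw [orderOf_one] at hg; exact absurd hg hr.one_lt.ne
          · exact Or.inl (hg.symm.trans h)
          · exact Or.inr (hg.symm.trans h)
        · rintro (rfl | rfl)
          exacts [⟨hp, hpd, hne⟩, ⟨hq, hqd, hne⟩]
      refine CfsgLib.Char.isSolvable_of_card_eq_prime_pow_mul
        (a := (Nat.card G).factorization p) (b := (Nat.card G).factorization q) hp hq ?_
      conv_lhs => rw [← Nat.prod_factorization_pow_eq_self hne]
      rw [Finsupp.prod, Nat.support_factorization, hpf, Finset.prod_pair hpq]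
    obtain ⟨k, hk1, hk0⟩ : ∃ k, derivedSeries G (k + 1) = ⊥ ∧ derivedSeries G k ≠ ⊥ := by
      obtain ⟨m, hm⟩ := (Group.isSolvable_def G).mp hsolv
      have hex : ∃ m, derivedSeries G m = ⊥ := ⟨m, hm⟩
      obtain ⟨k, hk⟩ : ∃ k, Nat.find hex = k + 1 := Nat.exists_eq_succ_of_ne_zero (by
        intro h0
        have := Nat.find_spec hex
        rw [h0, derivedSeries_zero] at this
        haveI := Subgroup.subsingleton_iff.mp (subsingleton_iff_bot_eq_top.mp this.symm)
        exact hnt (Nat.card_eq_one_iff_unique.mpr ⟨this, ⟨1⟩⟩) )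
      exact ⟨k, hk ▸ Nat.find_spec hex, Nat.find_min hex (hk ▸ Nat.lt_succ_self k)⟩
    set D := derivedSeries G k with hD
    haveI : IsMulCommutative D := by
      rw [derivedSeries_succ, Subgroup.commutator_eq_bot_iff_le_centralizer] at hk1
      exact Subgroup.le_centralizer_iff_isMulCommutative.mp hk1
    obtain ⟨z, hzD, hz1⟩ := D.bot_or_exists_ne_one.resolve_left hk0
    rcases hall z with h | h | h
    · exact absurd h hz1
    · obtain ⟨n, h1, h2, h3, h4, h5⟩ := forward hpq hqd hall hconj D ⟨z, hzD, h⟩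
      exact ⟨p, q, n, ⟨hp⟩, ⟨hq⟩, hpq, h1, h2, h3, h4, h5⟩
    · obtain ⟨n, h1, h2, h3, h4, h5⟩ := forward hpq.symm hpd
        (fun g => (hall g).imp_right Or.symm) hconj D ⟨z, hzD, h⟩
      exact ⟨q, p, n, ⟨hq⟩, ⟨hp⟩, hpq.symm, h1, h2, h3, h4, h5⟩
  · rintro ⟨p, q, n, hp, hq, hpq, hn, hcard, hP, hord, hfpf⟩
    exact backward hpq hn hcard hP hord hfpf

end Cfsg.Agent.S4081
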