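import Cfsg.Statements.S4082
import Cfsg.Agent.Lib.FGStruct.PByCyclic
import Cfsg.Agent.Lib.FGStruct.OmegaFixAll
import Cfsg.Agent.Lib.PNilpotent.Basic
import Cfsg.Agent.Lib.Solvable.Basic

set_option autoImplicit false
open Cfsg Pointwise

namespace Cfsg.Agent.S4082

/-- Let p be an odd prime and G a finite group with Sylow p-subgroup P. Say that G has restricted p-by-cyclic subgroups when every subgroup H of G whose Sylow p-subgroup is normal in H with cyclic quotient is itself cyclic or dihedral of order 2pⁿ for some n. Then G has restricted p-by-cyclic subgroups if and only if P is cyclic and one of the following holds: (1) N_G(P) = C_G(P); or (2) N_G(P)/C_G(P) has order 2 and, for the subgroup Q of order p of P, the centralizer C_G(Q) is abelian and every element of N_G(Q) outside C_G(Q) is an involution inverting every element of C_G(Q). -/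
theorem result {G : Type*} [Group G] [Finite G] {p : ℕ}
    [Fact p.Prime] (hp : p ≠ 2) (P : Sylow p G) :
    (∀ H : Subgroup G, (∀ S : Sylow p ↥H, (S : Subgroup ↥H).Normal) →
        (∀ (S : Sylow p ↥H) [(S : Subgroup ↥H).Normal], IsCyclic (↥H ⧸ (S : Subgroup ↥H))) →
        IsCyclic H ∨ (∃ n : ℕ, Nonempty (H ≃* DihedralGroup (p ^ n)))) ↔
    (IsCyclic P ∧
      (Subgroup.normalizer ((P : Subgroup G) : Set G) = Subgroup.centralizer ((P : Subgroup G) : Set G) ∨
       ((Subgroup.centralizer ((P : Subgroup G) : Set G)).relIndex (Subgroup.normalizer ((P : Subgroup G) : Set G)) = 2 ∧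
        ∀ Q : Subgroup G, Q ≤ P → Nat.card Q = p →
          IsMulCommutative ↥(Subgroup.centralizer (Q : Set G)) ∧
          ∀ x : G, x ∈ Subgroup.normalizer (Q : Set G) → x ∉ Subgroup.centralizer (Q : Set G) →
            orderOf x = 2 ∧ ∀ c : G, c ∈ Subgroup.centralizer (Q : Set G) → x * c * x⁻¹ = c⁻¹))) := by
  classical
  have hpp : p.Prime := Fact.out
  have hodd : ∀ x : G, (∃ k, orderOf x = p ^ k) → Odd (orderOf x) := fun x ⟨k, hk⟩ =>
    hk ▸ (hpp.odd_of_ne_two hp).pow
  constructor
  · intro hH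
    have hPc : IsCyclic P := by
      obtain ⟨h1, h2⟩ := CfsgLib.FGStruct.PByCyclic.isPByCyclic (P : Subgroup G) P.isPGroup' 1 (one_mem _)
      have hsup : (P : Subgroup G) ⊔ Subgroup.zpowers (1 : G) = P := by simp
      rcases hH _ h1 h2 with hc | ⟨n, ⟨e⟩⟩
      · exact isCyclic_of_surjective (MulEquiv.subgroupCongr hsup) (MulEquiv.subgroupCongr hsup).surjective
      · exfalso
        have hcard := Nat.card_congr e.toEquiv
        rw [hsup, DihedralGroup.nat_card] at hcard
        obtain ⟨k, hk⟩ := IsPGroup.iff_card.mp P.isPGroup'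
        rw [hk] at hcard
        exact hp ((Nat.prime_dvd_prime_iff_eq Nat.prime_two hpp).mp
          (Nat.prime_two.dvd_of_dvd_pow (hcard ▸ dvd_mul_right 2 _))).symm
    -- an element normalising but not centralising a `p`-subgroup is an involution inverting it
    have key : ∀ (Q : Subgroup G), IsPGroup p Q → ∀ y ∈ Subgroup.normalizer (Q : Set G),
        ∀ q ∈ Q, y * q ≠ q * y → orderOf y = 2 ∧ y * q * y⁻¹ = q⁻¹ := by
      intro Q hQ y hy q hq hne
      obtain ⟨h1, h2⟩ := CfsgLib.FGStruct.PByCyclic.isPByCyclic Q hQ y hy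
      set y' : ↥(Q ⊔ Subgroup.zpowers y) := ⟨y, Subgroup.mem_sup_right (Subgroup.mem_zpowers y)⟩
      set q' : ↥(Q ⊔ Subgroup.zpowers y) := ⟨q, Subgroup.mem_sup_left hq⟩
      have hne' : y' * q' ≠ q' * y' := fun h => hne (congrArg Subtype.val h)
      rcases hH _ h1 h2 with hc | ⟨n, ⟨e⟩⟩
      · letI := hc.commGroup
        exact absurd (mul_comm y' q') hne'
      · obtain ⟨k, hk⟩ := IsPGroup.iff_orderOf.mp hQ ⟨q, hq⟩
        obtain ⟨h3, h4⟩ := CfsgLib.FGStruct.PByCyclic.dihedral_odd_facts e (x := q') (y := y')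
          (by rw [← Subgroup.orderOf_coe]; exact hodd q ⟨k, by rw [← hk, Subgroup.orderOf_mk]⟩) hne'
        exact ⟨by rw [← h3, ← Subgroup.orderOf_coe], congrArg Subtype.val h4⟩
    refine ⟨hPc, ?_⟩
    by_cases hNC : Subgroup.normalizer ((P : Subgroup G) : Set G) = Subgroup.centralizer ((P : Subgroup G) : Set G)
    · exact Or.inl hNC
    right
    obtain ⟨g, hg⟩ := hPc.exists_generator
    have hPinv : ∀ x ∈ Subgroup.normalizer ((P : Subgroup G) : Set G),
        x ∉ Subgroup.centralizer ((P : Subgroup G) : Set G) → ∀ q ∈ (P : Subgroup G), x * q * x⁻¹ = q⁻¹ := by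
      intro x hx hxc q hq
      have hne : x * g ≠ g * x := by
        intro hcomm
        apply hxc
        rw [Subgroup.mem_centralizer_iff]
        intro z hz
        obtain ⟨i, hi⟩ := hg ⟨z, hz⟩
        have hzi : (g : G) ^ i = z := congrArg Subtype.val hi
        rw [← hzi]
        exact ((show Commute x (g : G) from hcomm).zpow_right i).eq.symm
      obtain ⟨-, hinv⟩ := key _ P.isPGroup' x hx g g.2 hne
      obtain ⟨i, hi⟩ := hg ⟨q, hq⟩
      have hqi : (g : G) ^ i = q := congrArg Subtype.val hi
      rw [← hqi, ← conj_zpow, hinv, inv_zpow]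
    have hle : Subgroup.centralizer ((P : Subgroup G) : Set G) ≤ Subgroup.normalizer ((P : Subgroup G) : Set G) :=
      Subgroup.centralizer_le_normalizer _
    obtain ⟨x₀, hx₀, hx₀c⟩ := SetLike.exists_of_lt (lt_of_le_of_ne hle (Ne.symm hNC))
    refine ⟨?_, ?_⟩
    · rw [Subgroup.relIndex, Subgroup.index_eq_two_iff]
      refine ⟨⟨x₀, hx₀⟩, fun b => ?_⟩
      simp only [Subgroup.mem_subgroupOf, Subgroup.coe_mul]
      by_cases hb : (b : G) ∈ Subgroup.centralizer ((P : Subgroup G) : Set G)
      · refine Or.inr ⟨hb, fun h => hx₀c ?_⟩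
        have := Subgroup.mul_mem _ (Subgroup.inv_mem _ hb) h
        simpa using this
      · refine Or.inl ⟨?_, hb⟩
        rw [Subgroup.mem_centralizer_iff]
        intro q hq
        have h1 := hPinv x₀ hx₀ hx₀c q hq
        have h2 := hPinv (b : G) b.2 hb q⁻¹ (Subgroup.inv_mem _ hq)
        rw [inv_inv, ← h1] at h2
        calc q * ((b : G) * x₀) = (b : G) * (x₀ * q * x₀⁻¹) * (b : G)⁻¹ * ((b : G) * x₀) := by rw [h2]
          _ = _ := by simp [mul_assoc]
    · intro Q hQP hQcard
      have hQ : IsPGroup p Q := IsPGroup.of_card (n := 1) (by rw [hQcard, pow_one])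
      have hinvol : ∀ x ∈ Subgroup.normalizer (Q : Set G), x ∉ Subgroup.centralizer (Q : Set G) → orderOf x = 2 := by
        intro x hx hxc
        rw [Subgroup.mem_centralizer_iff] at hxc
        push Not at hxc
        obtain ⟨q, hq, hne⟩ := hxc
        exact (key Q hQ x hx q hq (fun h => hne h.symm)).1
      have hinvC : ∀ x ∈ Subgroup.normalizer (Q : Set G), x ∉ Subgroup.centralizer (Q : Set G) →
          ∀ c ∈ Subgroup.centralizer (Q : Set G), x * c * x⁻¹ = c⁻¹ := by
        intro x hx hxc c hc
        have h1 := hinvol (x * c) (Subgroup.mul_mem _ hx (Subgroup.centralizer_le_normalizer _ hc))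
          (fun h => hxc (by simpa using Subgroup.mul_mem _ h (Subgroup.inv_mem _ hc)))
        have h2 := hinvol x hx hxc
        have h3 : (x * c) * (x * c) = 1 := by rw [← pow_two, ← h1]; exact pow_orderOf_eq_one _
        have h4 : x⁻¹ = x := inv_eq_of_mul_eq_one_left (by rw [← pow_two, ← h2]; exact pow_orderOf_eq_one _)
        rw [h4]
        exact eq_inv_of_mul_eq_one_left (by simpa [mul_assoc] using h3)
      have hx₀inv := hPinv x₀ hx₀ hx₀c
      have hx₀N : x₀ ∈ Subgroup.normalizer (Q : Set G) := by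
        rw [Subgroup.mem_normalizer_iff]
        intro q
        refine ⟨fun hq => ?_, fun hq => ?_⟩
        · rw [hx₀inv q (hQP hq)]; exact Q.inv_mem hq
        · have h1 := hx₀inv _ (hQP hq)
          have h2 : x₀ * (x₀ * q * x₀⁻¹) * x₀⁻¹ ∈ Q := h1 ▸ Q.inv_mem hq
          have hqP : q ∈ (P : Subgroup G) := by
            have := (Subgroup.mem_normalizer_iff.mp hx₀ q).mpr (hQP hq)
            exact this
          have h3 := hx₀inv q hqP
          rw [h3] at hq
          simpa using Q.inv_mem hq
      have hx₀Q : x₀ ∉ Subgroup.centralizer (Q : Set G) := by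
        intro h
        obtain ⟨q, hq, hq1⟩ := (Subgroup.bot_or_exists_ne_one Q).resolve_left (fun hb => by
          rw [hb, Subgroup.card_bot] at hQcard; exact hpp.one_lt.ne hQcard)
        have h1 := hx₀inv q (hQP hq)
        rw [← Subgroup.mem_centralizer_iff.mp h q hq, mul_inv_cancel_right] at h1
        obtain ⟨k, hk⟩ := IsPGroup.iff_orderOf.mp hQ ⟨q, hq⟩
        have h2 : orderOf q ∣ 2 := orderOf_dvd_of_pow_eq_one (by rw [pow_two]; exact eq_inv_iff_mul_eq_one.mp h1)
        have h3 := hodd q ⟨k, by rw [← hk, Subgroup.orderOf_mk]⟩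
        rcases (Nat.dvd_prime Nat.prime_two).mp h2 with h4 | h4
        · exact hq1 (orderOf_eq_one_iff.mp h4)
        · rw [h4] at h3; exact (Nat.not_odd_iff_even.mpr even_two) h3
      refine ⟨⟨⟨fun a b => ?_⟩⟩, fun x hx hxc => ⟨hinvol x hx hxc, hinvC x hx hxc⟩⟩
      apply Subtype.ext
      have h1 := hinvC x₀ hx₀N hx₀Q _ (Subgroup.mul_mem _ a.2 b.2)
      have h2 : x₀ * ((a : G) * b) * x₀⁻¹ = (x₀ * a * x₀⁻¹) * (x₀ * b * x₀⁻¹) := by simp [mul_assoc]
      rw [h2, hinvC x₀ hx₀N hx₀Q _ a.2, hinvC x₀ hx₀N hx₀Q _ b.2, ← mul_inv_rev, inv_inj] at h1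
      exact h1.symm
  · rintro ⟨hPc, hor⟩ H hn hcyc
    obtain ⟨S₀⟩ : Nonempty (Sylow p H) := inferInstance
    obtain ⟨T, hT⟩ := (S₀.isPGroup'.map H.subtype).exists_le_sylow
    obtain ⟨g, hg⟩ := MulAction.exists_smul_eq G T P
    haveI := hn S₀
    have hcyc0 := hcyc S₀
    set H' := H.map (MulAut.conj g).toMonoidHom with hH'
    let e : H ≃* H' := H.equivMapOfInjective _ (MulAut.conj g).injective
    suffices h : IsCyclic H' ∨ ∃ n : ℕ, Nonempty (H' ≃* DihedralGroup (p ^ n)) by
      rcases h with h | ⟨n, ⟨f⟩⟩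
      · exact Or.inl (isCyclic_of_surjective e.symm e.symm.surjective)
      · exact Or.inr ⟨n, ⟨e.trans f⟩⟩
    let S : Sylow p H' := S₀.mapSurjective (f := e.toMonoidHom) e.surjective
    have hScoe : (S : Subgroup H') = (S₀ : Subgroup H).map e.toMonoidHom := Sylow.coe_mapSurjective _ _
    haveI hSn : (S : Subgroup H').Normal := by rw [hScoe]; exact Subgroup.Normal.map inferInstance _ e.surjective
    have hSq : IsCyclic (H' ⧸ (S : Subgroup H')) := by
      haveI := hcyc0
      refine isCyclic_of_surjective (QuotientGroup.map (S₀ : Subgroup H) (S : Subgroup H') e.toMonoidHom ?_) ?_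
      · rw [hScoe]; exact Subgroup.le_comap_map _ _
      · intro z
        obtain ⟨h, rfl⟩ := QuotientGroup.mk_surjective z
        exact ⟨(e.symm h : H), by simp [QuotientGroup.map_mk]⟩
    have hSP : (S : Subgroup H').map H'.subtype ≤ (P : Subgroup G) := by
      rw [hScoe]
      rintro _ ⟨_, ⟨s, hs, rfl⟩, rfl⟩
      rw [← hg, Sylow.coe_subgroup_smul]
      exact Subgroup.smul_mem_pointwise_smul (s : G) (MulAut.conj g) _ (hT ⟨s, hs, rfl⟩)
    have hSc : IsCyclic (S : Subgroup H') := by
      haveI : IsCyclic ((S : Subgroup H').map H'.subtype) :=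
        isCyclic_of_injective (Subgroup.inclusion hSP) (Subgroup.inclusion_injective hSP)
      exact isCyclic_of_surjective ((S : Subgroup H').equivMapOfInjective _ H'.subtype_injective).symm
        (MulEquiv.surjective _)
    rcases eq_or_ne (S : Subgroup H') ⊥ with hS1 | hS1
    · left
      exact CfsgLib.FGStruct.PByCyclic.isCyclic_of_central S hSc (by rw [hS1]; exact bot_le) hSq
    obtain ⟨s, hs⟩ := hSc.exists_generator
    have hcardS : p ∣ Nat.card (S : Subgroup H') := by
      rcases S.isPGroup'.card_eq_or_dvd with h | h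
      · exact absurd (Subgroup.card_eq_one.mp h) hS1
      · exact h
    obtain ⟨q, hq⟩ := exists_prime_orderOf_dvd_card' (G := (S : Subgroup H')) p hcardS
    set Q := Subgroup.zpowers ((q : H') : G) with hQdef
    have hqo : orderOf ((q : H') : G) = p := by rw [Subgroup.orderOf_coe, Subgroup.orderOf_coe, hq]
    have hQc : Nat.card Q = p := by rw [hQdef, Nat.card_zpowers, hqo]
    have hqP : ((q : H') : G) ∈ (P : Subgroup G) := hSP ⟨q, q.2, rfl⟩
    have hQP : Q ≤ (P : Subgroup G) := Subgroup.zpowers_le.mpr hqP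
    have huniq : ∀ u ∈ (P : Subgroup G), u ^ p = 1 → u ∈ Q := by
      intro u hu hup
      haveI : Fintype (P : Subgroup G) := Fintype.ofFinite _
      have hsub : (Finset.univ.filter fun z : (P : Subgroup G) => (z : G) ∈ Q) ⊆
          Finset.univ.filter fun z : (P : Subgroup G) => z ^ p = 1 := by
        intro z hz
        simp only [Finset.mem_filter, Finset.mem_univ, true_and] at hz ⊢
        apply Subtype.ext
        rw [Subgroup.coe_pow, Subgroup.coe_one]
        exact orderOf_dvd_iff_pow_eq_one.mp ((orderOf_dvd_of_mem_zpowers hz).trans hqo.dvd)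
      have hge : p ≤ (Finset.univ.filter fun z : (P : Subgroup G) => (z : G) ∈ Q).card := by
        rw [← Fintype.card_subtype, ← Nat.card_eq_fintype_card]
        refine le_of_eq (hQc.symm.trans (Nat.card_congr ?_))
        exact { toFun := fun z => ⟨⟨z, hQP z.2⟩, z.2⟩, invFun := fun z => ⟨z.1, z.2⟩,
                left_inv := fun z => rfl, right_inv := fun z => rfl }
      have := Finset.eq_of_subset_of_card_le hsub ((IsCyclic.card_pow_eq_one_le hpp.pos).trans hge)
      have hmem : (⟨u, hu⟩ : (P : Subgroup G)) ∈ Finset.univ.filter fun z : (P : Subgroup G) => z ^ p = 1 := by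
        simp [Subtype.ext_iff, hup]
      rw [← this] at hmem
      simpa using hmem
    have hHQ : H' ≤ Subgroup.normalizer (Q : Set G) := by
      intro h hh
      have hconj : ∀ g ∈ H', g * ((q : H') : G) * g⁻¹ ∈ Q := by
        intro g hg
        refine huniq _ (hSP ⟨⟨g, hg⟩ * q * ⟨g, hg⟩⁻¹, hSn.conj_mem _ q.2 _, rfl⟩) ?_
        rw [conj_pow, orderOf_dvd_iff_pow_eq_one.mp hqo.dvd, mul_one, mul_inv_cancel]
      have hmap : ∀ g ∈ H', ∀ u ∈ Q, g * u * g⁻¹ ∈ Q := by
        rintro g hg _ ⟨i, rfl⟩
        show g * ((q : H') : G) ^ i * g⁻¹ ∈ Q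
        rw [← conj_zpow]; exact Q.zpow_mem (hconj g hg) i
      refine Subgroup.mem_normalizer_iff.mpr fun u => ⟨hmap h hh u, fun hu => ?_⟩
      have := hmap h⁻¹ (H'.inv_mem hh) _ hu
      simpa [mul_assoc] using this
    have hcentral : H' ≤ Subgroup.centralizer (Q : Set G) → IsCyclic H' := by
      intro hle
      refine CfsgLib.FGStruct.PByCyclic.isCyclic_of_central S hSc ?_ hSq
      have hS' : ∀ h : H', (orderOf h).Coprime p → ∀ u ∈ (S : Subgroup H'), h * u = u * h := by
        intro h hh u hu
        apply Subtype.ext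
        refine (CfsgLib.FGStruct.OmegaFixAll.commute_of_fix_orderOf ((S : Subgroup H').map H'.subtype)
          (S.isPGroup'.map _) ?_ (by rwa [Subgroup.orderOf_coe]) ?_ _ ⟨u, hu, rfl⟩).eq
        · exact Subgroup.le_normalizer_map H'.subtype ⟨h, Subgroup.normalizer_eq_top (S : Subgroup H') ▸ Subgroup.mem_top h, rfl⟩
        · intro x hx hxo
          rcases hxo with hxo | ⟨h2, -⟩
          · exact (Subgroup.mem_centralizer_iff.mp (hle h.2) x (huniq x (hSP hx) (hxo ▸ pow_orderOf_eq_one x))).symm
          · exact absurd h2 hp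
      intro u hu
      rw [Subgroup.mem_center_iff]
      intro h
      obtain ⟨i, j, hij, ⟨k, hi⟩, hj⟩ := CfsgLib.PNilpotent.exists_pPart_decomp (p := p) h
      have h1 : h ^ i ∈ (S : Subgroup H') :=
        (IsPGroup.of_card (p := p) (n := k) (G := ↥(Subgroup.zpowers (h ^ i))) (by rw [Nat.card_zpowers, hi])).exists_le_sylow.elim
          fun T hT => by
            haveI : Subsingleton (Sylow p H') := Sylow.unique_of_normal S hSn |>.instSubsingleton
            rw [Subsingleton.elim S T]; exact hT (Subgroup.mem_zpowers _)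
      have h2 : h ^ i * u = u * h ^ i := by
        letI := hSc.commGroup
        exact congrArg Subtype.val (mul_comm (⟨_, h1⟩ : (S : Subgroup H')) ⟨u, hu⟩)
      have h3 := hS' (h ^ j) hj u hu
      rw [← hij, mul_assoc, h3, ← mul_assoc, h2, mul_assoc]
    by_cases hle : H' ≤ Subgroup.centralizer (Q : Set G)
    · exact Or.inl (hcentral hle)
    rcases hor with hNC | ⟨-, hinv⟩
    · exfalso
      apply hle
      refine hHQ.trans ?_
      intro n hn'
      set C := Subgroup.centralizer (Q : Set G) with hC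
      have hPC : (P : Subgroup G) ≤ C := by
        intro x hx
        rw [hC, Subgroup.mem_centralizer_iff]
        intro u hu
        letI := hPc.commGroup
        exact congrArg Subtype.val (mul_comm (⟨u, hQP hu⟩ : (P : Subgroup G)) ⟨x, hx⟩)
      have hPC' : ((n⁻¹ • P : Sylow p G) : Subgroup G) ≤ C := by
        intro x hx
        rw [Sylow.coe_subgroup_smul, CfsgLib.Solvable.mem_conj_smul, inv_inv] at hx
        rw [hC, Subgroup.mem_centralizer_iff]
        intro u hu
        have h1 := Subgroup.mem_centralizer_iff.mp (hPC hx) (n * u * n⁻¹) ((Subgroup.mem_normalizer_iff.mp hn' u).mp hu)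
        calc u * x = n⁻¹ * ((n * u * n⁻¹) * (n * x * n⁻¹)) * n := by simp [mul_assoc]
          _ = x * u := by rw [h1]; simp [mul_assoc]
      obtain ⟨c, hc⟩ := MulAction.exists_smul_eq C (P.subtype hPC) ((n⁻¹ • P : Sylow p G).subtype hPC')
      rw [Sylow.smul_subtype] at hc
      have hc' := Sylow.subtype_injective hc
      have hc'' : (c : G) • P = n⁻¹ • P := hc'
      have h1 : n * c ∈ Subgroup.normalizer ((P : Subgroup G) : Set G) := by
        refine Sylow.smul_eq_iff_mem_normalizer.mp ?_
        rw [mul_smul, hc'', smul_inv_smul]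
      rw [hNC] at h1
      have h2 : n * c ∈ C := Subgroup.centralizer_le (fun u hu => hQP hu) h1
      simpa using C.mul_mem h2 (C.inv_mem c.2)
    · obtain ⟨hcomm, hinv⟩ := hinv Q hQP hQc
      obtain ⟨x, hxH, hxC⟩ := SetLike.not_le_iff_exists.mp hle
      obtain ⟨hx2, hxinv⟩ := hinv x (hHQ hxH) hxC
      right
      have hSC : ∀ u ∈ (S : Subgroup H'), (u : G) ∈ Subgroup.centralizer (Q : Set G) := by
        intro u hu
        rw [Subgroup.mem_centralizer_iff]
        intro v hv
        letI := hPc.commGroup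
        exact congrArg Subtype.val (mul_comm (⟨v, hQP hv⟩ : (P : Subgroup G)) ⟨u, hSP ⟨u, hu, rfl⟩⟩)
      have hxS : (⟨x, hxH⟩ : H') ∉ (S : Subgroup H') := fun h => hxC (hSC _ h)
      have hxx : x * x = 1 := by rw [← pow_two, ← hx2]; exact pow_orderOf_eq_one x
      have hD : ∀ d : H', (d : G) ∈ Subgroup.centralizer (Q : Set G) → d ∈ (S : Subgroup H') := by
        intro d hd
        set π := QuotientGroup.mk' (S : Subgroup H') with hπ
        letI := hSq.commGroup
        have e1 : π d = (π d)⁻¹ := by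
          have h1 : (⟨x, hxH⟩ : H') * d * (⟨x, hxH⟩ : H')⁻¹ = d⁻¹ := Subtype.ext (hxinv d hd)
          have h2 := congrArg π h1
          rw [map_mul, map_mul, map_inv, map_inv, mul_comm (π ⟨x, hxH⟩) (π d), mul_inv_cancel_right] at h2
          exact h2
        by_contra hdS
        have hd1 : π d ≠ 1 := fun h => hdS ((QuotientGroup.eq_one_iff d).mp h)
        have hx1 : π ⟨x, hxH⟩ ≠ 1 := fun h => hxS ((QuotientGroup.eq_one_iff _).mp h)
        have hd2 : π d ^ 2 = 1 := by rw [pow_two]; exact eq_inv_iff_mul_eq_one.mp e1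
        have hx2' : π ⟨x, hxH⟩ ^ 2 = 1 := by
          rw [← map_pow, show (⟨x, hxH⟩ : H') ^ 2 = 1 from Subtype.ext (by simp [pow_two, hxx]), map_one]
        have heq : π d = π ⟨x, hxH⟩ := by
          by_contra hne
          haveI : Fintype (H' ⧸ (S : Subgroup H')) := Fintype.ofFinite _
          have h3 := IsCyclic.card_pow_eq_one_le (α := H' ⧸ (S : Subgroup H')) (n := 2) two_pos
          have : ({1, π d, π ⟨x, hxH⟩} : Finset (H' ⧸ (S : Subgroup H'))) ⊆ Finset.univ.filter fun z => z ^ 2 = 1 := by
            intro z hz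
            simp only [Finset.mem_insert, Finset.mem_singleton] at hz
            rcases hz with rfl | rfl | rfl <;> simp [hd2, hx2']
          have h4 := (Finset.card_le_card this).trans h3
          rw [Finset.card_insert_of_notMem (by simp [Ne.symm hd1, Ne.symm hx1]), Finset.card_pair hne] at h4
          omega
        have h5 : d⁻¹ * ⟨x, hxH⟩ ∈ (S : Subgroup H') := QuotientGroup.eq.mp heq
        refine hxC ?_
        have h6 := Subgroup.mul_mem _ hd (hSC _ h5)
        simpa using h6
      have hso : orderOf ((s : H') : G) = Nat.card (S : Subgroup H') := by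
        rw [Subgroup.orderOf_coe, Subgroup.orderOf_coe, orderOf_eq_card_of_forall_mem_zpowers hs]
      obtain ⟨k, hk⟩ := IsPGroup.iff_card.mp S.isPGroup'
      refine ⟨k, CfsgLib.TwoFusion.exists_dihedral_mulEquiv (pow_pos hpp.pos k) (a := ((s : H') : G))
        (b := x) (hso.trans hk) hxx (hxinv _ (hSC _ s.2)) ?_ H' ?_⟩
      · intro h
        exact hxC (Subgroup.zpowers_le.mpr (hSC _ s.2) h)
      · intro y
        constructor
        · intro hy
          by_cases hyC : y ∈ Subgroup.centralizer (Q : Set G)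
          · obtain ⟨i, hi⟩ := hs ⟨⟨y, hy⟩, hD ⟨y, hy⟩ hyC⟩
            exact ⟨i, Or.inl (congrArg (fun z : (S : Subgroup H') => ((z : H') : G)) hi).symm⟩
          · have hxy : x * y ∈ Subgroup.centralizer (Q : Set G) := by
              rw [Subgroup.mem_centralizer_iff]
              intro v hv
              have hvC : v ∈ Subgroup.centralizer (Q : Set G) := by
                rw [Subgroup.mem_centralizer_iff]
                intro w hw
                letI := hPc.commGroup
                exact congrArg Subtype.val (mul_comm (⟨w, hQP hw⟩ : (P : Subgroup G)) ⟨v, hQP hv⟩)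
              have h1 := (hinv y (hHQ hy) hyC).2 v hvC
              have h2 := hxinv v⁻¹ (Subgroup.inv_mem _ hvC)
              rw [inv_inv, ← h1] at h2
              calc v * (x * y) = (x * (y * v * y⁻¹) * x⁻¹) * (x * y) := by rw [h2]
                _ = x * y * v := by simp [mul_assoc]
            obtain ⟨i, hi⟩ := hs ⟨⟨x, hxH⟩ * ⟨y, hy⟩, hD _ hxy⟩
            refine ⟨i, Or.inr ?_⟩
            have h1 : ((s : H') : G) ^ i = x * y := congrArg (fun z : (S : Subgroup H') => ((z : H') : G)) hi
            rw [h1, ← mul_assoc, hxx, one_mul]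
        · rintro ⟨i, rfl | rfl⟩
          · exact H'.zpow_mem (s : H').2 i
          · exact H'.mul_mem hxH (H'.zpow_mem (s : H').2 i)

end Cfsg.Agent.S4082
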