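import Cfsg.Statements.S4083
import Cfsg.Agent.Lib.FGStruct.PByCyclic
import Cfsg.Agent.Lib.OddOrder.OmegaFix
import Cfsg.Agent.Lib.PNilpotent.Basic
import Cfsg.Agent.Lib.Solvable.Basic
import Cfsg.Agent.S0228

set_option autoImplicit false
open Cfsg Pointwise

namespace Cfsg.Agent.S4083

/-- Let G be a finite group with Sylow 2-subgroup P. Every subgroup H of G whose Sylow 2-subgroup is normal in H with cyclic quotient is cyclic, dihedral of 2-power order, or isomorphic to the alternating group of degree 4, if and only if either P is cyclic, or P is dihedral (of order at least 4) and every elementary abelian subgroup K of order 4 of P satisfies C_G(K) = K. -/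
theorem result {G : Type*} [Group G] [Finite G] (P : Sylow 2 G) :
    (∀ H : Subgroup G, (∀ S : Sylow 2 ↥H, (S : Subgroup ↥H).Normal) →
        (∀ (S : Sylow 2 ↥H) [(S : Subgroup ↥H).Normal], IsCyclic (↥H ⧸ (S : Subgroup ↥H))) →
        IsCyclic H ∨ (∃ n : ℕ, Nonempty (H ≃* DihedralGroup (2 ^ n))) ∨ Nonempty (H ≃* alternatingGroup (Fin 4))) ↔
    (IsCyclic P ∨
      ((∃ n : ℕ, 1 ≤ n ∧ Nonempty ((P : Subgroup G) ≃* DihedralGroup (2 ^ n))) ∧
        ∀ K : Subgroup G, K ≤ P → Nat.card K = 4 → (∀ k ∈ K, k ^ 2 = 1) → Subgroup.centralizer (K : Set G) = K)) := by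
  classical
  haveI h2fact : Fact (Nat.Prime 2) := ⟨Nat.prime_two⟩
  constructor
  · intro hH
    have hA4 : ∀ {X : Type _} [Group X], Nonempty (X ≃* alternatingGroup (Fin 4)) →
        Nat.card X = 12 ∧ ∃ x y : X, x * y ≠ y * x := by
      intro X _ ⟨e⟩
      have hc12 : Nat.card (alternatingGroup (Fin 4)) = 12 := by
        rw [nat_card_alternatingGroup]; simp [Nat.factorial]
      refine ⟨(Nat.card_congr e.toEquiv).trans hc12, ?_⟩
      by_contra h
      push Not at h
      have hc : Subgroup.center (alternatingGroup (Fin 4)) = ⊤ := by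
        rw [eq_top_iff]
        intro x _
        rw [Subgroup.mem_center_iff]
        intro y
        apply e.symm.injective
        rw [map_mul, map_mul, h]
      rw [alternatingGroup.center_eq_bot (by simp)] at hc
      have h1 := congrArg (fun U : Subgroup (alternatingGroup (Fin 4)) => Nat.card U) hc
      simp only [Subgroup.card_bot, Subgroup.card_top, hc12] at h1
      omega
    have hP : IsCyclic P ∨ ∃ n : ℕ, 1 ≤ n ∧ Nonempty ((P : Subgroup G) ≃* DihedralGroup (2 ^ n)) := by
      obtain ⟨h1, h2⟩ := CfsgLib.FGStruct.PByCyclic.isPByCyclic (P : Subgroup G) P.isPGroup' 1 (one_mem _)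
      have hsup : (P : Subgroup G) ⊔ Subgroup.zpowers (1 : G) = P := by simp
      let e0 := MulEquiv.subgroupCongr hsup
      rcases hH _ h1 h2 with hc | ⟨n, ⟨e⟩⟩ | h4
      · exact Or.inl (isCyclic_of_surjective e0 e0.surjective)
      · rcases Nat.eq_zero_or_pos n with rfl | hn
        · left
          haveI : IsCyclic (DihedralGroup (2 ^ 0)) := DihedralGroup.isCyclic_iff.mpr (pow_zero 2)
          exact isCyclic_of_surjective (e.symm.trans e0) (e.symm.trans e0).surjective
        · exact Or.inr ⟨n, hn, ⟨e0.symm.trans e⟩⟩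
      · exfalso
        obtain ⟨h12, -⟩ := hA4 h4
        rw [Nat.card_congr e0.toEquiv] at h12
        obtain ⟨k, hk⟩ := IsPGroup.iff_card.mp P.isPGroup'
        rw [hk] at h12
        have h3 : 3 ∣ 2 ^ k := h12 ▸ (by norm_num)
        exact absurd ((Nat.prime_dvd_prime_iff_eq Nat.prime_three Nat.prime_two).mp (Nat.prime_three.dvd_of_dvd_pow h3)) (by norm_num)
    rcases hP with hP | hP
    · exact Or.inl hP
    refine Or.inr ⟨hP, fun K hKP hK4 hK2 => ?_⟩
    have hKcomm : ∀ a ∈ K, ∀ b ∈ K, a * b = b * a := by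
      intro a ha b hb
      have e : ∀ u ∈ K, u⁻¹ = u := fun u hu => inv_eq_of_mul_eq_one_left (by rw [← pow_two]; exact hK2 u hu)
      rw [← e _ (K.mul_mem ha hb), mul_inv_rev, e a ha, e b hb]
    apply le_antisymm
    · intro x hx
      have hxN : x ∈ Subgroup.normalizer (K : Set G) := Subgroup.centralizer_le_normalizer _ hx
      obtain ⟨h1, h2⟩ := CfsgLib.FGStruct.PByCyclic.isPByCyclic K (P.isPGroup'.to_le hKP) x hxN
      set L := K ⊔ Subgroup.zpowers x with hL
      have hLc : ∀ a b : L, a * b = b * a := by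
        have hgen : ∀ a ∈ L, ∀ b ∈ L, a * b = b * a := by
          have hle : L ≤ Subgroup.centralizer (L : Set G) := by
            rw [hL, sup_le_iff]
            constructor
            · rw [Subgroup.le_centralizer_iff, sup_le_iff, Subgroup.zpowers_le]
              exact ⟨fun a ha => Subgroup.mem_centralizer_iff.mpr fun b hb => hKcomm b hb a ha, hx⟩
            · rw [Subgroup.le_centralizer_iff, sup_le_iff]
              refine ⟨fun a ha => Subgroup.mem_centralizer_iff.mpr ?_, fun a ha => Subgroup.mem_centralizer_iff.mpr ?_⟩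
              · rintro _ ⟨i, rfl⟩
                exact ((show Commute a x from Subgroup.mem_centralizer_iff.mp hx a ha).zpow_right i).eq.symm
              · rintro _ ⟨i, rfl⟩
                obtain ⟨j, rfl⟩ := ha
                exact ((Commute.refl x).zpow_zpow i j).eq
          intro a ha b hb
          exact Subgroup.mem_centralizer_iff.mp (hle hb) a ha
        intro a b
        exact Subtype.ext (hgen a a.2 b b.2)
      have hKL : K ≤ L := le_sup_left
      rcases hH _ h1 h2 with hc | ⟨n, ⟨e⟩⟩ | h4
      · exfalso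
        haveI : IsCyclic K := isCyclic_of_injective (Subgroup.inclusion hKL) (Subgroup.inclusion_injective hKL)
        have hsub : ∀ u : K, u ^ 2 = 1 := fun u => Subtype.ext (hK2 u u.2)
        haveI : Fintype K := Fintype.ofFinite _
        have h3 := IsCyclic.card_pow_eq_one_le (α := K) (n := 2) two_pos
        rw [Finset.filter_true_of_mem (fun u _ => hsub u), Finset.card_univ, ← Nat.card_eq_fintype_card, hK4] at h3
        omega
      · have hn : 2 ^ n = 1 ∨ 2 ^ n = 2 := DihedralGroup.commutative_iff.mp ⟨⟨fun a b => e.symm.injective (by rw [map_mul, map_mul, hLc])⟩⟩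
        have hcard : Nat.card L ≤ 4 := by
          rw [Nat.card_congr e.toEquiv, DihedralGroup.nat_card]; omega
        rw [Subgroup.eq_of_le_of_card_ge hKL (hcard.trans hK4.ge), hL]
        exact Subgroup.mem_sup_right (Subgroup.mem_zpowers x)
      · obtain ⟨-, a, b, hab⟩ := hA4 h4
        exact absurd (hLc a b) hab
    · exact fun a ha => Subgroup.mem_centralizer_iff.mpr fun b hb => hKcomm b hb a ha
  · intro hP H hn hcyc
    obtain ⟨S₀⟩ : Nonempty (Sylow 2 H) := inferInstance
    obtain ⟨T, hT⟩ := (S₀.isPGroup'.map H.subtype).exists_le_sylow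
    obtain ⟨g, hg⟩ := MulAction.exists_smul_eq G T P
    haveI := hn S₀
    have hcyc0 := hcyc S₀
    set H' := H.map (MulAut.conj g).toMonoidHom with hH'
    let e : H ≃* H' := H.equivMapOfInjective _ (MulAut.conj g).injective
    suffices h : IsCyclic H' ∨ (∃ n : ℕ, Nonempty (H' ≃* DihedralGroup (2 ^ n))) ∨ Nonempty (H' ≃* alternatingGroup (Fin 4)) by
      rcases h with h | h | h
      · exact Or.inl (isCyclic_of_surjective e.symm e.symm.surjective)
      · obtain ⟨n, ⟨f'⟩⟩ := h
        exact Or.inr (Or.inl ⟨n, ⟨e.trans f'⟩⟩)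
      · exact Or.inr (Or.inr (h.map e.trans))
    let S : Sylow 2 H' := S₀.mapSurjective (f := e.toMonoidHom) e.surjective
    have hScoe : (S : Subgroup H') = (S₀ : Subgroup H).map e.toMonoidHom := Sylow.coe_mapSurjective _ _
    haveI hSn : (S : Subgroup H').Normal := by rw [hScoe]; exact Subgroup.Normal.map inferInstance _ e.surjective
    have hSq : IsCyclic (H' ⧸ (S : Subgroup H')) := by
      haveI := hcyc0
      refine isCyclic_of_surjective (QuotientGroup.map (S₀ : Subgroup H) (S : Subgroup H') e.toMonoidHom ?_) ?_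
      · rw [hScoe]; exact Subgroup.le_comap_map _ _
      · intro z
        obtain ⟨h, rfl⟩ := QuotientGroup.mk_surjective z
        exact ⟨(e.symm h : H), by simp [QuotientGroup.map_mk]⟩
    set D := (S : Subgroup H').map H'.subtype with hD
    have hSP : D ≤ (P : Subgroup G) := by
      rw [hD, hScoe]
      rintro _ ⟨_, ⟨s, hs, rfl⟩, rfl⟩
      rw [← hg, Sylow.coe_subgroup_smul]
      exact Subgroup.smul_mem_pointwise_smul (s : G) (MulAut.conj g) _ (hT ⟨s, hs, rfl⟩)
    have hDH : D ≤ H' := Subgroup.map_subtype_le _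
    have hmemS : ∀ u : H', u ∈ (S : Subgroup H') ↔ (u : G) ∈ D := fun u =>
      (Subgroup.mem_map_iff_mem H'.subtype_injective).symm
    have hHN : H' ≤ Subgroup.normalizer (D : Set G) := by
      intro h hh
      exact Subgroup.le_normalizer_map H'.subtype
        ⟨⟨h, hh⟩, Subgroup.normalizer_eq_top (S : Subgroup H') ▸ Subgroup.mem_top _, rfl⟩
    have h2part : ∀ h : H', (∀ j : ℕ, (orderOf (h ^ j)).Coprime 2 → h ^ j = 1) → h ∈ (S : Subgroup H') := by
      intro h hh
      obtain ⟨i, j, hij, ⟨k, hi⟩, hj⟩ := CfsgLib.PNilpotent.exists_pPart_decomp (p := 2) h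
      rw [← hij, hh j hj, mul_one]
      obtain ⟨T', hT'⟩ := (IsPGroup.of_card (p := 2) (n := k) (G := ↥(Subgroup.zpowers (h ^ i)))
        (by rw [Nat.card_zpowers, hi])).exists_le_sylow
      haveI : Subsingleton (Sylow 2 H') := Sylow.unique_of_normal S hSn |>.instSubsingleton
      rw [Subsingleton.elim S T']; exact hT' (Subgroup.mem_zpowers _)
    by_cases hDc : IsCyclic D
    · left
      have hSc : IsCyclic (S : Subgroup H') :=
        isCyclic_of_surjective ((S : Subgroup H').equivMapOfInjective _ H'.subtype_injective).symm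
          (MulEquiv.surjective _)
      refine CfsgLib.FGStruct.PByCyclic.isCyclic_of_central S hSc ?_ hSq
      intro u hu
      rw [Subgroup.mem_center_iff]
      intro h
      obtain ⟨i, j, hij, ⟨k, hi⟩, hj⟩ := CfsgLib.PNilpotent.exists_pPart_decomp (p := 2) h
      have h1 : h ^ i ∈ (S : Subgroup H') := by
        refine h2part _ fun l hl => orderOf_eq_one_iff.mp ?_
        obtain ⟨m, -, hm⟩ := (Nat.dvd_prime_pow Nat.prime_two).mp
          (show orderOf ((h ^ i) ^ l) ∣ 2 ^ k from hi ▸ orderOf_pow_dvd l)
        rw [hm] at hl ⊢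
        rcases Nat.eq_zero_or_pos m with rfl | hm0
        · rfl
        · exact absurd ((Nat.coprime_pow_left_iff hm0 2 2).mp hl) (by decide)
      have h2 : h ^ i * u = u * h ^ i := by
        letI := hSc.commGroup
        exact congrArg Subtype.val (mul_comm (⟨_, h1⟩ : (S : Subgroup H')) ⟨u, hu⟩)
      have h3 : h ^ j * u = u * h ^ j := by
        apply Subtype.ext
        refine CfsgLib.FGStruct.PByCyclic.commute_of_cyclic D hDc (hHN (h ^ j).2) ?_ ((hmemS u).mp hu)
        obtain ⟨m, hm⟩ := IsPGroup.iff_card.mp (S.isPGroup'.map H'.subtype)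
        rw [← hD] at hm
        rw [hm, Subgroup.orderOf_coe]
        refine Nat.Coprime.coprime_dvd_right ?_ (hj.pow_right m)
        rcases Nat.eq_zero_or_pos m with rfl | hm0
        · simp
        · rw [Nat.totient_prime_pow Nat.prime_two hm0]; simp only [Nat.add_one_sub_one, mul_one]
          exact pow_dvd_pow 2 (Nat.sub_le _ _)
      rw [← hij, mul_assoc, h3, ← mul_assoc, h2, mul_assoc]
    rcases hP with hPc | ⟨⟨n, hn1, ⟨f⟩⟩, hK⟩
    · exact absurd (isCyclic_of_injective (Subgroup.inclusion hSP) (Subgroup.inclusion_injective hSP)) hDc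
    -- `D` is a noncyclic subgroup of a dihedral group
    have : NeZero (2 ^ n) := ⟨(pow_pos two_pos n).ne'⟩
    set r : G := ((f.symm (DihedralGroup.r 1) : (P : Subgroup G)) : G) with hr
    set A := Subgroup.zpowers r with hA
    have hrot : ∀ (y : G) (hy : y ∈ (P : Subgroup G)), y ∈ A ∨ (y * y = 1 ∧ y * r * y⁻¹ = r⁻¹ ∧
        ∀ y' ∈ (P : Subgroup G), y' ∉ A → y * y' ∈ A) := by
      intro y hy
      have hA' : ∀ (u : G) (hu : u ∈ (P : Subgroup G)) (i : ZMod (2 ^ n)), f ⟨u, hu⟩ = DihedralGroup.r i → u ∈ A := by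
        intro u hu i hi
        refine ⟨(i.val : ℤ), ?_⟩
        show r ^ ((i.val : ℕ) : ℤ) = u
        have : (⟨u, hu⟩ : (P : Subgroup G)) = f.symm (DihedralGroup.r 1) ^ i.val := by
          apply f.injective
          rw [map_pow, MulEquiv.apply_symm_apply, hi, DihedralGroup.r_one_pow, ZMod.natCast_zmod_val]
        rw [zpow_natCast, hr, ← Subgroup.coe_pow, ← this]
      cases hfy : f ⟨y, hy⟩ with
      | r i => exact Or.inl (hA' y hy i hfy)
      | sr i =>
        refine Or.inr ⟨?_, ?_, ?_⟩
        · have h1 : (⟨y, hy⟩ : (P : Subgroup G)) * ⟨y, hy⟩ = 1 := by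
            apply f.injective
            rw [map_mul, map_one, hfy, DihedralGroup.sr_mul_self]
          exact congrArg Subtype.val h1
        · have h1 : (⟨y, hy⟩ : (P : Subgroup G)) * f.symm (DihedralGroup.r 1) * (⟨y, hy⟩ : (P : Subgroup G))⁻¹ =
              (f.symm (DihedralGroup.r 1))⁻¹ := by
            apply f.injective
            rw [map_mul, map_mul, map_inv, map_inv, MulEquiv.apply_symm_apply, hfy, DihedralGroup.inv_sr,
              DihedralGroup.sr_mul_r, DihedralGroup.sr_mul_sr, DihedralGroup.inv_r]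
            simp
          exact congrArg Subtype.val h1
        · intro y' hy' hy'A
          cases hfy' : f ⟨y', hy'⟩ with
          | r j => exact absurd (hA' y' hy' j hfy') hy'A
          | sr j =>
            refine hA' (y * y') (Subgroup.mul_mem _ hy hy') (j - i) ?_
            have : (⟨y * y', Subgroup.mul_mem _ hy hy'⟩ : (P : Subgroup G)) = ⟨y, hy⟩ * ⟨y', hy'⟩ := rfl
            rw [this, map_mul, hfy, hfy', DihedralGroup.sr_mul_sr]
    haveI : IsCyclic A := inferInstance
    haveI : IsCyclic (D ⊓ A : Subgroup G) :=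
      isCyclic_of_injective (Subgroup.inclusion (inf_le_right : D ⊓ A ≤ A)) (Subgroup.inclusion_injective _)
    obtain ⟨⟨a, haD, haA⟩, ha⟩ := IsCyclic.exists_generator (α := (D ⊓ A : Subgroup G))
    have hDA : ∀ u ∈ D, u ∈ A → ∃ i : ℤ, u = a ^ i := fun u hu huA => by
      obtain ⟨i, hi⟩ := ha ⟨u, hu, huA⟩
      exact ⟨i, (congrArg Subtype.val hi).symm⟩
    obtain ⟨b, hbD, hbA⟩ : ∃ b ∈ D, b ∉ A := by
      by_contra h
      push Not at h
      exact hDc (isCyclic_of_injective (Subgroup.inclusion (h : D ≤ A)) (Subgroup.inclusion_injective _))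
    obtain ⟨hbb, hbr, hbmul⟩ := (hrot b (hSP hbD)).resolve_left hbA
    have hbinv : ∀ u ∈ A, b * u * b⁻¹ = u⁻¹ := by
      rintro _ ⟨i, rfl⟩
      show b * r ^ i * b⁻¹ = (r ^ i)⁻¹
      rw [← conj_zpow, hbr, inv_zpow]
    have hDmem : ∀ u, u ∈ D ↔ ∃ i : ℤ, u = a ^ i ∨ u = b * a ^ i := by
      intro u
      constructor
      · intro hu
        by_cases huA : u ∈ A
        · obtain ⟨i, hi⟩ := hDA u hu huA; exact ⟨i, Or.inl hi⟩
        · obtain ⟨i, hi⟩ := hDA (b * u) (D.mul_mem hbD hu) (hbmul u (hSP hu) huA)
          exact ⟨i, Or.inr (by rw [← hi, ← mul_assoc, hbb, one_mul])⟩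
      · rintro ⟨i, rfl | rfl⟩
        · exact D.zpow_mem haD i
        · exact D.mul_mem hbD (D.zpow_mem haD i)
    obtain ⟨k, hk⟩ : ∃ k, orderOf a = 2 ^ k := by
      obtain ⟨k, hk⟩ := IsPGroup.iff_orderOf.mp P.isPGroup' ⟨a, hSP haD⟩
      exact ⟨k, by rw [← hk, Subgroup.orderOf_mk]⟩
    have hk0 : 0 < k := by
      rcases Nat.eq_zero_or_pos k with rfl | h
      · exfalso
        rw [pow_zero, orderOf_eq_one_iff] at hk
        refine hDc (isCyclic_of_injective (Subgroup.inclusion (show D ≤ Subgroup.zpowers b from fun u hu => ?_)) (Subgroup.inclusion_injective _))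
        obtain ⟨i, rfl | rfl⟩ := (hDmem u).mp hu <;> simp [hk]
      · exact h
    have hba : b ∉ Subgroup.zpowers a := fun h => hbA (Subgroup.zpowers_le.mpr haA h)
    obtain ⟨φ⟩ := CfsgLib.TwoFusion.exists_dihedral_mulEquiv (pow_pos two_pos k) hk hbb (hbinv a haA) hba D hDmem
    -- the four-group inside `D`
    set z := a ^ 2 ^ (k - 1) with hz
    have hzo : orderOf z = 2 := by
      rw [hz, orderOf_pow, hk, Nat.gcd_eq_right (pow_dvd_pow 2 (Nat.sub_le k 1)),
        Nat.pow_div (Nat.sub_le k 1) two_pos, show k - (k - 1) = 1 by omega, pow_one]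
    have hzA : z ∈ A := A.pow_mem haA _
    have hzD : z ∈ D := D.pow_mem haD _
    set K := CfsgLib.TwoFusion.cyclicByInverter z b (hbinv z hzA) (by rw [hbb]; exact one_mem _) with hKdef
    have hKmem := CfsgLib.TwoFusion.mem_cyclicByInverter (hbinv z hzA) (by rw [hbb]; exact one_mem _)
    obtain ⟨ψ⟩ := CfsgLib.TwoFusion.exists_dihedral_mulEquiv two_pos hzo hbb (hbinv z hzA)
      (fun h => hbA (Subgroup.zpowers_le.mpr hzA h)) K hKmem
    have hKD : K ≤ D := by
      intro u hu
      obtain ⟨i, rfl | rfl⟩ := (hKmem u).mp hu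
      · exact D.zpow_mem hzD i
      · exact D.mul_mem hbD (D.zpow_mem hzD i)
    have hK4 : Nat.card K = 4 := by
      rw [Nat.card_congr ψ.toEquiv, DihedralGroup.nat_card]; all_goals norm_num
    have hzz : z * z = 1 := by rw [← pow_two, ← hzo]; exact pow_orderOf_eq_one z
    have hzi : ∀ i : ℤ, z ^ i * z ^ i = 1 := fun i => by
      rw [← (Commute.refl z).mul_zpow, hzz, one_zpow]
    have hK2 : ∀ u ∈ K, u ^ 2 = 1 := by
      intro u hu
      obtain ⟨i, rfl | rfl⟩ := (hKmem u).mp hu
      · rw [pow_two, hzi]
      · have h1 := hbinv (z ^ i) (A.zpow_mem hzA i)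
        have h2 : b⁻¹ = b := inv_eq_of_mul_eq_one_left hbb
        rw [pow_two]
        calc b * z ^ i * (b * z ^ i) = (b * z ^ i * b⁻¹) * z ^ i := by rw [h2]; simp [mul_assoc]
          _ = 1 := by rw [h1, inv_mul_cancel]
    have hCK := hK K (hKD.trans hSP) hK4 hK2
    have hzK : z ∈ K := (hKmem z).mpr ⟨1, Or.inl (zpow_one z).symm⟩
    have hbK : b ∈ K := (hKmem b).mpr ⟨0, Or.inr (by simp)⟩
    have hoddK : ∀ h : G, h ∈ K → (orderOf h).Coprime 2 → h = 1 := by
      intro h hh hc
      rw [← orderOf_eq_one_iff]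
      exact Nat.eq_one_of_dvd_coprimes hc dvd_rfl (orderOf_dvd_of_pow_eq_one (hK2 h hh))
    rcases eq_or_lt_of_le (Nat.succ_le_of_lt hk0) with hk1 | hk2
    · -- `D` is a four-group
      obtain rfl : k = 1 := by omega
      have hDK : D = K := by
        refine (Subgroup.eq_of_le_of_card_ge hKD ?_).symm
        rw [hK4, Nat.card_congr φ.toEquiv, DihedralGroup.nat_card]
        norm_num
      have hcube : ∀ h : H', (orderOf h).Coprime 2 → h ^ 3 = 1 := by
        intro h hh
        let F : MulAut D →* Equiv.Perm {x : D // x ≠ 1} :=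
          { toFun := fun f => (f.toEquiv).subtypeEquiv (fun x => by simp)
            map_one' := rfl
            map_mul' := fun f g => rfl }
        have hF : Function.Injective F := by
          intro f g hfg
          apply MulEquiv.ext
          intro x
          by_cases hx : x = 1
          · simp [hx]
          · exact congrArg Subtype.val (Equiv.congr_fun hfg ⟨x, hx⟩)
        set θ := D.normalizerMonoidHom ⟨h, hHN h.2⟩ with hθ
        have h1 : orderOf θ ∣ 6 := by
          rw [← orderOf_injective F hF θ]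
          have h6 : Nat.card (Equiv.Perm {x : D // x ≠ 1}) = 6 := by
            have hD4 : Nat.card D = 4 := hDK ▸ hK4
            haveI : Fintype D := Fintype.ofFinite _
            rw [Nat.card_perm, Nat.card_eq_fintype_card, Fintype.card_subtype_compl, Fintype.card_subtype_eq,
              ← Nat.card_eq_fintype_card, hD4]
            rfl
          exact h6 ▸ orderOf_dvd_natCard _
        have h2 : orderOf θ ∣ orderOf h :=
          (orderOf_map_dvd _ _).trans (dvd_of_eq ((Subgroup.orderOf_mk (h : G) (hHN h.2)).trans (Subgroup.orderOf_coe h)))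
        have h3 : orderOf θ ∣ 3 :=
          (Nat.Coprime.coprime_dvd_left h2 hh).dvd_of_dvd_mul_left (show orderOf θ ∣ 2 * 3 from h1)
        have h4 : θ ^ 3 = 1 := orderOf_dvd_iff_pow_eq_one.mp h3
        rw [hθ, ← map_pow] at h4
        have h5 : ((h : G) ^ 3) ∈ Subgroup.centralizer (K : Set G) := by
          rw [Subgroup.mem_centralizer_iff]
          intro u hu
          have h6 : (h : G) ^ 3 * u * ((h : G) ^ 3)⁻¹ = u :=
            congrArg Subtype.val (DFunLike.congr_fun h4 (⟨u, hKD hu⟩ : D))
          exact (mul_inv_eq_iff_eq_mul.mp h6).symm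
        rw [hCK] at h5
        apply Subtype.ext
        show (h : G) ^ 3 = 1
        refine hoddK _ h5 ?_
        rw [← Subgroup.orderOf_coe] at hh
        exact Nat.Coprime.coprime_dvd_left (orderOf_pow_dvd 3) hh
      have hidx : (S : Subgroup H').index ∣ 3 := by
        obtain ⟨w, hw⟩ := hSq.exists_generator
        obtain ⟨y, rfl⟩ := QuotientGroup.mk_surjective w
        have hm : orderOf (y : H' ⧸ (S : Subgroup H')) = (S : Subgroup H').index := by
          rw [orderOf_eq_card_of_forall_mem_zpowers hw, Subgroup.index_eq_card]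
        have hcopI : Nat.Coprime 2 (S : Subgroup H').index :=
          (Nat.Prime.coprime_iff_not_dvd Nat.prime_two).mpr S.not_dvd_index
        have h1 : (y ^ 4) ^ (S : Subgroup H').index = 1 := by
          rw [← pow_mul, mul_comm, pow_mul]
          have h := (hmemS _).mp (Subgroup.pow_index_mem (S : Subgroup H') y)
          rw [hDK] at h
          apply Subtype.ext
          show ((y ^ (S : Subgroup H').index : H') : G) ^ (2 * 2) = 1
          rw [pow_mul, hK2 _ h, one_pow]
        have h2 := hcube (y ^ 4) (Nat.Coprime.coprime_dvd_left (orderOf_dvd_of_pow_eq_one h1) hcopI.symm)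
        rw [← pow_mul] at h2
        have h3 : orderOf (y : H' ⧸ (S : Subgroup H')) ∣ 4 * 3 :=
          orderOf_dvd_of_pow_eq_one (by rw [← QuotientGroup.mk_pow, h2]; rfl)
        rw [hm] at h3
        exact (Nat.Coprime.pow_right 2 hcopI.symm).dvd_of_dvd_mul_left h3
      have hcardS : Nat.card (S : Subgroup H') = 4 := by
        rw [← Subgroup.card_map_of_injective H'.subtype_injective, ← hD, hDK, hK4]
      rcases (Nat.dvd_prime Nat.prime_three).mp hidx with h1 | h3
      · right; left
        refine ⟨1, ⟨(MulEquiv.subgroupCongr ?_).trans φ⟩⟩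
        refine (Subgroup.eq_of_le_of_card_ge hDH ?_).symm
        rw [← (S : Subgroup H').card_mul_index, h1, mul_one, hD,
          Subgroup.card_map_of_injective H'.subtype_injective]
      · right; right
        refine Cfsg.Agent.S0228.result (by rw [← (S : Subgroup H').card_mul_index, h3, hcardS]) ?_
        intro w hw hwc
        have hwK : (w : G) ∈ K := by
          rw [← hCK, Subgroup.mem_centralizer_iff]
          intro u hu
          exact congrArg Subtype.val (Subgroup.mem_center_iff.mp hwc ⟨u, hDH (hKD hu)⟩)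
        haveI : Fact (Nat.Prime 3) := ⟨Nat.prime_three⟩
        obtain ⟨h, hh⟩ := exists_prime_orderOf_dvd_card' (G := H') 3
          (by rw [← (S : Subgroup H').card_mul_index, h3, hcardS]; norm_num)
        have hwh : (h : G) * w * (h : G)⁻¹ = w := by
          have := congrArg Subtype.val (Subgroup.mem_center_iff.mp hwc h)
          simp only [Subgroup.coe_mul] at this
          rw [this, mul_inv_cancel_right]
        have hw1 : (w : G) ≠ 1 := by
          intro he
          have hw1' : w = 1 := Subtype.ext he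
          rw [hw1', orderOf_one] at hw
          norm_num at hw
        have hcent : (h : G) ∈ Subgroup.centralizer (K : Set G) := by
          rw [Subgroup.mem_centralizer_iff]
          intro v hv
          have hconj : ∀ u ∈ K, (h : G) * u * (h : G)⁻¹ ∈ K := fun u hu =>
            hDK ▸ (Subgroup.mem_normalizer_iff.mp (hHN h.2) u).mp (hKD hu)
          rw [eq_comm, ← mul_inv_eq_iff_eq_mul]
          by_cases hv1 : v = 1
          · simp [hv1]
          by_cases hvw : v = (w : G)
          · rw [hvw, hwh]
          haveI : Fintype K := Fintype.ofFinite _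
          have hset : ∀ u ∈ K, u = 1 ∨ u = (w : G) ∨ u = v ∨ u = (w : G) * v := by
            intro u hu
            by_contra hne
            push Not at hne
            obtain ⟨hu1, hu2, hu3, hu4⟩ := hne
            have hww : (w : G) * w = 1 := by rw [← pow_two]; exact hK2 _ hwK
            have hwv1 : (w : G) * v ≠ 1 := fun h1 => hvw (by
              calc v = (w : G) * w * v := by rw [hww, one_mul]
                _ = (w : G) := by rw [mul_assoc, h1, mul_one])
            have n1 : (⟨(w : G) * v, K.mul_mem hwK hv⟩ : K) ≠ ⟨u, hu⟩ := fun he => hu4 (congrArg Subtype.val he).symm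
            have n2 : (⟨v, hv⟩ : K) ∉ ({⟨(w : G) * v, K.mul_mem hwK hv⟩, ⟨u, hu⟩} : Finset K) := by
              simp only [Finset.mem_insert, Finset.mem_singleton, Subtype.ext_iff, not_or]
              exact ⟨fun he => hw1 (mul_eq_right.mp he.symm), fun he => hu3 he.symm⟩
            have n3 : (⟨(w : G), hwK⟩ : K) ∉ ({⟨v, hv⟩, ⟨(w : G) * v, K.mul_mem hwK hv⟩, ⟨u, hu⟩} : Finset K) := by
              simp only [Finset.mem_insert, Finset.mem_singleton, Subtype.ext_iff, not_or]
              exact ⟨fun he => hvw he.symm, fun he => hv1 (mul_eq_left.mp he.symm), fun he => hu2 he.symm⟩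
            have n4 : (⟨1, K.one_mem⟩ : K) ∉
                ({⟨(w : G), hwK⟩, ⟨v, hv⟩, ⟨(w : G) * v, K.mul_mem hwK hv⟩, ⟨u, hu⟩} : Finset K) := by
              simp only [Finset.mem_insert, Finset.mem_singleton, Subtype.ext_iff, not_or]
              exact ⟨fun he => hw1 he.symm, fun he => hv1 he.symm, fun he => hwv1 he.symm, fun he => hu1 he.symm⟩
            have h5 : ({⟨1, K.one_mem⟩, ⟨(w : G), hwK⟩, ⟨v, hv⟩, ⟨(w : G) * v, K.mul_mem hwK hv⟩, ⟨u, hu⟩} : Finset K).card = 5 := by
              rw [Finset.card_insert_of_notMem n4, Finset.card_insert_of_notMem n3, Finset.card_insert_of_notMem n2,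
                Finset.card_pair n1]
            have h6 := Finset.card_le_univ ({⟨1, K.one_mem⟩, ⟨(w : G), hwK⟩, ⟨v, hv⟩, ⟨(w : G) * v, K.mul_mem hwK hv⟩, ⟨u, hu⟩} : Finset K)
            rw [h5, ← Nat.card_eq_fintype_card, hK4] at h6
            omega
          have h3' : (h : G) ^ 3 = 1 := by rw [← hh, ← Subgroup.orderOf_coe]; exact pow_orderOf_eq_one _
          rcases hset _ (hconj v hv) with e1 | e1 | e1 | e1
          · exact absurd (by simpa using e1) hv1
          · exfalso
            apply hvw
            conv_rhs at e1 => rw [← hwh]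
            simpa using e1
          · exact e1
          · exfalso
            have hvv : v * v = 1 := by rw [← pow_two]; exact hK2 v hv
            have hww : (w : G) * w = 1 := by rw [← pow_two]; exact hK2 _ hwK
            have e2 : (h : G) * ((w : G) * v) * (h : G)⁻¹ = v := by
              calc (h : G) * ((w : G) * v) * (h : G)⁻¹ = ((h : G) * w * (h : G)⁻¹) * ((h : G) * v * (h : G)⁻¹) := by simp [mul_assoc]
                _ = v := by rw [hwh, e1, ← mul_assoc, hww, one_mul]
            have e3 : (h : G) ^ 3 * v * ((h : G) ^ 3)⁻¹ = (w : G) * v := by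
              calc (h : G) ^ 3 * v * ((h : G) ^ 3)⁻¹
                  = (h : G) * ((h : G) * ((h : G) * v * (h : G)⁻¹) * (h : G)⁻¹) * (h : G)⁻¹ := by simp [pow_succ, mul_assoc]
                _ = (w : G) * v := by rw [e1, e2, e1]
            rw [h3'] at e3
            exact hw1 (by simpa using e3)
        rw [hCK] at hcent
        have h7 := hoddK _ hcent (by rw [Subgroup.orderOf_coe, hh]; decide)
        have h8 : h = 1 := Subtype.ext h7
        rw [h8, orderOf_one] at hh
        norm_num at hh
    · -- `a` has order at least 4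
      right; left
      refine ⟨k, ⟨(MulEquiv.subgroupCongr ?_).trans φ⟩⟩
      refine le_antisymm ?_ hDH
      intro h hh
      refine (hmemS ⟨h, hh⟩).mp (h2part _ fun j hj => ?_)
      set y : G := (((⟨h, hh⟩ : H') ^ j : H') : G) with hy
      have hyo : (orderOf y).Coprime 2 := by rw [hy, Subgroup.orderOf_coe]; exact hj
      have hyN : y ∈ Subgroup.normalizer (D : Set G) := hHN ((⟨h, hh⟩ : H') ^ j).2
      have hya : y ∈ Subgroup.normalizer ((Subgroup.zpowers a : Subgroup G) : Set G) := by
        have hmap : ∀ c : G, c ∈ Subgroup.normalizer (D : Set G) → ∀ u ∈ Subgroup.zpowers a, c * u * c⁻¹ ∈ Subgroup.zpowers a := by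
          rintro c hc _ ⟨i, rfl⟩
          show c * a ^ i * c⁻¹ ∈ _
          rw [← conj_zpow]
          refine Subgroup.zpow_mem _ ?_ i
          obtain ⟨l, hl | hl⟩ := (hDmem _).mp ((Subgroup.mem_normalizer_iff.mp hc a).mp haD)
          · exact ⟨l, hl.symm⟩
          · exfalso
            have h1 : orderOf (c * a * c⁻¹) = 2 ^ k := by
              rw [← hk]; exact (MulAut.conj c).orderOf_eq a
            have h2 : (b * a ^ l) ^ 2 = 1 := by
              have h3 := hbinv (a ^ l) (A.zpow_mem haA l)
              have h4 : b⁻¹ = b := inv_eq_of_mul_eq_one_left hbb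
              rw [pow_two]
              calc b * a ^ l * (b * a ^ l) = (b * a ^ l * b⁻¹) * a ^ l := by rw [h4]; simp [mul_assoc]
                _ = 1 := by rw [h3, inv_mul_cancel]
            rw [← hl] at h2
            have h5 := Nat.le_of_dvd two_pos (h1 ▸ orderOf_dvd_of_pow_eq_one h2)
            have h6 : 2 ^ 2 ≤ 2 ^ k := Nat.pow_le_pow_right two_pos hk2
            omega
        refine Subgroup.mem_normalizer_iff.mpr fun u => ⟨hmap y hyN u, fun hu => ?_⟩
        have := hmap y⁻¹ (Subgroup.inv_mem _ hyN) _ hu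
        simpa [mul_assoc] using this
      have hca : ∀ u ∈ Subgroup.zpowers a, y * u = u * y := by
        intro u hu
        refine CfsgLib.FGStruct.PByCyclic.commute_of_cyclic (Subgroup.zpowers a) inferInstance hya ?_ hu
        rw [Nat.card_zpowers, hk, Nat.totient_prime_pow Nat.prime_two hk0]
        simp only [Nat.add_one_sub_one, mul_one]
        exact hyo.pow_right _
      have hcb : y * b = b * y := by
        obtain ⟨l, hl | hl⟩ := (hDmem _).mp ((Subgroup.mem_normalizer_iff.mp hyN b).mp hbD)
        · exfalso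
          apply hba
          have h1 := hca (a ^ l) (Subgroup.zpow_mem _ (Subgroup.mem_zpowers a) l)
          have : b = a ^ l := by
            calc b = y⁻¹ * (y * b * y⁻¹) * y := by simp [mul_assoc]
              _ = y⁻¹ * (a ^ l * y) := by rw [hl, mul_assoc]
              _ = a ^ l := by rw [← h1]; simp
          rw [this]; exact Subgroup.zpow_mem _ (Subgroup.mem_zpowers a) l
        · have h1 : y * b * y⁻¹ = (b * a ^ l * b⁻¹) * b := by rw [hl]; simp [mul_assoc]
          have h2 : b * a ^ l * b⁻¹ ∈ Subgroup.zpowers a := by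
            rw [hbinv _ (A.zpow_mem haA l)]
            exact Subgroup.inv_mem _ (Subgroup.zpow_mem _ (Subgroup.mem_zpowers a) l)
          have h3 := CfsgLib.OddOrder.eq_one_of_conj_eq_mul_left h1 (hca _ h2) (by
            refine Nat.Coprime.coprime_dvd_right (orderOf_dvd_of_mem_zpowers h2) ?_
            rw [hk]; exact hyo.pow_right k)
          rw [h3, one_mul] at h1
          exact mul_inv_eq_iff_eq_mul.mp h1
      have hyK : y ∈ K := by
        rw [← hCK, Subgroup.mem_centralizer_iff]
        intro u hu
        obtain ⟨i, rfl | rfl⟩ := (hKmem u).mp hu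
        · exact (hca _ (Subgroup.zpow_mem _ (Subgroup.pow_mem _ (Subgroup.mem_zpowers a) _) i)).symm
        · have h1 := hca (z ^ i) (Subgroup.zpow_mem _ (Subgroup.pow_mem _ (Subgroup.mem_zpowers a) _) i)
          rw [mul_assoc, ← h1, ← mul_assoc, ← hcb, mul_assoc]
      exact Subtype.ext (hoddK y hyK hyo)

end Cfsg.Agent.S4083
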