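import Cfsg.Statements.S4084
import Mathlib.GroupTheory.Perm.Cycle.Type

set_option autoImplicit false
open Cfsg Pointwise

namespace Cfsg.Agent.S4084

theorem commuting_transfer {A : Type*} {B : Type*} [Group A] [Finite A] [Group B] [Finite B] (f : A ≃ B)
    (hf : ∀ x y : A, Commute x y ↔ Commute (f x) (f y)) {p q : ℕ} (hp : p.Prime) (hq : q.Prime) (hpq : p ≠ q) :
    (∃ g : A, orderOf g = p * q) → ∃ h : B, orderOf h = p * q := by
  rintro ⟨g, hg⟩
  set D := Subgroup.centralizer ((Subgroup.centralizer ({g} : Set A) : Subgroup A) : Set A) with hD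
  have himg : ∀ S : Set A, f '' (Subgroup.centralizer S : Set A) = (Subgroup.centralizer (f '' S) : Set B) := by
    intro S
    ext b
    simp only [Set.mem_image, SetLike.mem_coe, Subgroup.mem_centralizer_iff]
    constructor
    · rintro ⟨a, ha, rfl⟩ _ ⟨s, hs, rfl⟩
      exact (hf s a).mp (ha s hs)
    · intro hb
      refine ⟨f.symm b, fun s hs => (hf s _).mpr ?_, f.apply_symm_apply b⟩
      rw [f.apply_symm_apply]
      exact hb _ ⟨s, hs, rfl⟩
  have hgD : g ∈ D := Subgroup.mem_centralizer_iff.mpr fun y hy => Subgroup.mem_centralizer_singleton_iff.mp hy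
  have hcomm : ∀ a ∈ D, ∀ b ∈ D, Commute a b := by
    intro a ha b hb
    have hbC : b ∈ Subgroup.centralizer ({g} : Set A) := by
      rw [Subgroup.mem_centralizer_singleton_iff]
      exact (Subgroup.mem_centralizer_iff.mp hb g (Subgroup.mem_centralizer_singleton_iff.mpr rfl)).symm
    exact (Subgroup.mem_centralizer_iff.mp ha b hbC).symm
  set D' := Subgroup.centralizer ((Subgroup.centralizer ({f g} : Set B) : Subgroup B) : Set B) with hD'
  have hDD : f '' (D : Set A) = (D' : Set B) := by
    rw [hD, himg, himg, Set.image_singleton]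
  have hcard : Nat.card D' = Nat.card D := by
    rw [← SetLike.coe_sort_coe, ← SetLike.coe_sort_coe, ← hDD, Nat.card_image_of_injective f.injective]
  have hdvd : ∀ r : ℕ, r.Prime → r ∣ p * q → ∃ b : D', orderOf b = r := by
    intro r hr hrd
    haveI := Fact.mk hr
    refine exists_prime_orderOf_dvd_card' r ?_
    rw [hcard]
    exact hrd.trans (hg ▸ Subgroup.orderOf_dvd_natCard D hgD)
  obtain ⟨a, ha⟩ := hdvd p hp (dvd_mul_right p q)
  obtain ⟨b, hb⟩ := hdvd q hq (dvd_mul_left q p)
  have hab : Commute (a : B) (b : B) := by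
    obtain ⟨a₀, ha₀, ha₁⟩ := (hDD ▸ a.2 : (a : B) ∈ f '' (D : Set A))
    obtain ⟨b₀, hb₀, hb₁⟩ := (hDD ▸ b.2 : (b : B) ∈ f '' (D : Set A))
    rw [← ha₁, ← hb₁]
    exact (hf _ _).mp (hcomm _ ha₀ _ hb₀)
  refine ⟨(a : B) * b, ?_⟩
  rw [← Subgroup.orderOf_coe] at ha hb
  rw [hab.orderOf_mul_eq_mul_orderOf_of_coprime (by rw [ha, hb]; exact (Nat.coprime_primes hp hq).mpr hpq), ha, hb]

/-- Let G and H be finite groups whose commuting graphs are isomorphic: there is a bijection e : G → H with x, y commuting exactly when e(x), e(y) commute. Then G and H have the same prime graph: for distinct primes p, q, G has an element of order pq if and only if H does (and #G = #H, so the prime divisors agree). -/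
theorem result {G H : Type*} [Group G] [Finite G] [Group H] [Finite H] (e : G ≃ H)
    (he : ∀ x y : G, Commute x y ↔ Commute (e x) (e y))
    {p q : ℕ} (hp : p.Prime) (hq : q.Prime) (hpq : p ≠ q) :
    (∃ g : G, orderOf g = p * q) ↔ (∃ h : H, orderOf h = p * q) := by
  refine ⟨commuting_transfer e he hp hq hpq, commuting_transfer e.symm (fun x y => ?_) hp hq hpq⟩
  rw [he (e.symm x) (e.symm y), e.apply_symm_apply, e.apply_symm_apply]

end Cfsg.Agent.S4084
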