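import Cfsg.Statements.S4085
import Mathlib.GroupTheory.Sylow
import Mathlib.GroupTheory.SpecificGroups.Cyclic
import Mathlib.RingTheory.IntegralDomain
import Mathlib.Data.Nat.Totient

set_option autoImplicit false
set_option linter.style.haveILetI false
open Cfsg

namespace Cfsg.Agent.S4085

variable {G : Type*} [Group G]

/-- Adjacency in the power graph (reflexive). -/
def Adj (x y : G) : Prop := x ∈ Subgroup.zpowers y ∨ y ∈ Subgroup.zpowers x

/-- The closed neighbourhood. -/
def nbhd (x : G) : Set G := {y | Adj x y}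

theorem adj_comm {x y : G} : Adj x y ↔ Adj y x := Or.comm

theorem adj_congr {x x' y : G} (h : Subgroup.zpowers x = Subgroup.zpowers x') :
    Adj x y ↔ Adj x' y := by
  simp only [Adj, h, ← Subgroup.zpowers_le]

theorem adj_one (y : G) : Adj 1 y := Or.inl (one_mem _)

variable [Finite G]

theorem mem_iff_dvd {z x y : G} (hx : x ∈ Subgroup.zpowers z) (hy : y ∈ Subgroup.zpowers z) :
    x ∈ Subgroup.zpowers y ↔ orderOf x ∣ orderOf y := by
  refine ⟨fun h => orderOf_dvd_of_mem_zpowers h, fun h => ?_⟩
  classical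
  obtain ⟨c, hc⟩ := h
  haveI : Fintype (Subgroup.zpowers z) := Fintype.ofFinite _
  have hyz : Subgroup.zpowers y ≤ Subgroup.zpowers z := Subgroup.zpowers_le.mpr hy
  have key := IsCyclic.card_pow_eq_one_le (α := Subgroup.zpowers z) (n := orderOf y)
    (orderOf_pos y)
  set S := (Finset.univ.filter fun a : Subgroup.zpowers z => a ^ orderOf y = 1) with hS
  set T := (Finset.univ.filter fun a : Subgroup.zpowers z => (a : G) ∈ Subgroup.zpowers y) with hT
  have hTS : T ⊆ S := by
    intro a ha
    simp only [hT, Finset.mem_filter, Finset.mem_univ, true_and] at ha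
    simp only [hS, Finset.mem_filter, Finset.mem_univ, true_and]
    apply Subtype.ext
    rw [Subgroup.coe_pow, Subgroup.coe_one]
    exact orderOf_dvd_iff_pow_eq_one.mp (orderOf_dvd_of_mem_zpowers ha)
  have hTcard : orderOf y = T.card := by
    rw [← Nat.card_zpowers, ← Nat.card_eq_finsetCard]
    exact Nat.card_congr
      { toFun := fun a => ⟨⟨a, hyz a.2⟩, by simp [hT]⟩
        invFun := fun a => ⟨a.1.1, (Finset.mem_filter.mp a.2).2⟩
        left_inv := fun a => rfl
        right_inv := fun a => rfl }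
  have heq : T = S := Finset.eq_of_subset_of_card_le hTS (key.trans hTcard.le)
  have hxS : (⟨x, hx⟩ : Subgroup.zpowers z) ∈ S := by
    simp only [hS, Finset.mem_filter, Finset.mem_univ, true_and]
    apply Subtype.ext
    rw [Subgroup.coe_pow, Subgroup.coe_one, hc, pow_mul, pow_orderOf_eq_one, one_pow]
  rw [← heq] at hxS
  exact (Finset.mem_filter.mp hxS).2

theorem adj_iff_dvd {z x y : G} (hx : x ∈ Subgroup.zpowers z) (hy : y ∈ Subgroup.zpowers z) :
    Adj x y ↔ orderOf x ∣ orderOf y ∨ orderOf y ∣ orderOf x :=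
  or_congr (mem_iff_dvd hx hy) (mem_iff_dvd hy hx)

theorem exists_orderOf_eq {z : G} {d : ℕ} (hd : d ∣ orderOf z) :
    ∃ x ∈ Subgroup.zpowers z, orderOf x = d := by
  obtain ⟨c, hc⟩ := hd
  have hc0 : c ≠ 0 := by rintro rfl; rw [mul_zero] at hc; exact (orderOf_pos z).ne' hc
  refine ⟨z ^ c, pow_mem (Subgroup.mem_zpowers z) _, ?_⟩
  rw [orderOf_pow' z hc0, hc, Nat.gcd_eq_right (dvd_mul_left c d),
    Nat.mul_div_cancel _ (Nat.pos_of_ne_zero hc0)]

theorem ncard_orderOf_eq {z : G} {d : ℕ} (hd : d ∣ orderOf z) :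
    {x : G | x ∈ Subgroup.zpowers z ∧ orderOf x = d}.ncard = d.totient := by
  classical
  haveI : Fintype (Subgroup.zpowers z) := Fintype.ofFinite _
  have h := IsCyclic.card_orderOf_eq_totient (α := Subgroup.zpowers z) (d := d)
    (by rw [← Nat.card_eq_fintype_card, Nat.card_zpowers]; exact hd)
  rw [← h, ← Nat.card_coe_set_eq, ← Nat.card_eq_finsetCard]
  exact Nat.card_congr
    { toFun := fun a => ⟨⟨a.1, a.2.1⟩, by simp [Subgroup.orderOf_mk, a.2.2]⟩
      invFun := fun a => ⟨a.1.1, a.1.2, by
        have := (Finset.mem_filter.mp a.2).2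
        rw [← Subgroup.orderOf_coe] at this
        exact this⟩
      left_inv := fun a => rfl
      right_inv := fun a => rfl }

/-- A prime power in `m` incomparable with a proper nontrivial divisor. -/
theorem exists_incomparable {m d : ℕ} {r s : ℕ} (hr : r.Prime) (hs : s.Prime) (hrs : r ≠ s)
    (hrm : r ∣ m) (hsm : s ∣ m) (hm : m ≠ 0) (hd : d ∣ m) (hd1 : d ≠ 1) (hdm : d ≠ m) :
    ∃ t : ℕ, t.Prime ∧ t ∣ m ∧ ¬ t ^ m.factorization t ∣ d ∧ ¬ d ∣ t ^ m.factorization t := by
  obtain ⟨t, ht, htd⟩ : ∃ t, t.Prime ∧ ¬ t ^ m.factorization t ∣ d := by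
    by_contra! h
    apply hdm
    refine Nat.dvd_antisymm hd ?_
    rw [Nat.dvd_iff_prime_pow_dvd_dvd]
    intro u k hu huk
    exact (pow_dvd_pow u ((hu.pow_dvd_iff_le_factorization hm).mp huk)).trans (h u hu)
  have htm : t ∣ m := by
    by_contra h
    exact htd (by rw [Nat.factorization_eq_zero_of_not_dvd h, pow_zero]; exact one_dvd d)
  by_cases hdt : d ∣ t ^ m.factorization t
  · obtain ⟨k, hk, rfl⟩ := (Nat.dvd_prime_pow ht).mp hdt
    obtain ⟨u, hu, hum, hut⟩ : ∃ u, u.Prime ∧ u ∣ m ∧ u ≠ t := by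
      by_cases h : r = t
      · exact ⟨s, hs, hsm, fun hst => hrs (h.trans hst.symm)⟩
      · exact ⟨r, hr, hrm, h⟩
    have hk0 : k ≠ 0 := fun h => hd1 (by simp [h])
    refine ⟨u, hu, hum, fun h => ?_, fun h => ?_⟩
    · refine hut ((Nat.prime_dvd_prime_iff_eq hu ht).mp (hu.dvd_of_dvd_pow ((dvd_pow_self u ?_).trans h)))
      exact (hu.factorization_pos_of_dvd hm hum).ne'
    · exact hut ((Nat.prime_dvd_prime_iff_eq ht hu).mp
        (ht.dvd_of_dvd_pow ((dvd_pow_self t hk0).trans h))).symm
  · exact ⟨t, ht, htm, htd, hdt⟩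

/-- A nontrivial universal vertex in a group whose order is not a prime power generates it. -/
theorem exists_orderOf_eq_card {r s : ℕ} (hr : r.Prime) (hs : s.Prime) (hrs : r ≠ s)
    (hrG : r ∣ Nat.card G) (hsG : s ∣ Nat.card G) {u : G} (hu : u ≠ 1) (hU : ∀ y, Adj u y) :
    orderOf u = Nat.card G := by
  have hnot : ∀ t j : ℕ, t.Prime → orderOf u ≠ t ^ j := by
    intro t j ht hj
    obtain ⟨v, hv, hvG, hvt⟩ : ∃ v, v.Prime ∧ v ∣ Nat.card G ∧ v ≠ t := by
      by_cases h : r = t
      · exact ⟨s, hs, hsG, fun hst => hrs (h.trans hst.symm)⟩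
      · exact ⟨r, hr, hrG, h⟩
    haveI := Fact.mk hv
    obtain ⟨y, hy⟩ := exists_prime_orderOf_dvd_card' v hvG
    rcases hU y with h | h
    · have := orderOf_dvd_of_mem_zpowers h
      rw [hy] at this
      rcases (Nat.dvd_prime hv).mp this with h' | h'
      · exact hu (orderOf_eq_one_iff.mp h')
      · exact hvt ((Nat.prime_dvd_prime_iff_eq hv ht).mp
          (hv.dvd_of_dvd_pow (dvd_of_eq (h'.symm.trans hj))))
    · have := orderOf_dvd_of_mem_zpowers h
      rw [hy, hj] at this
      exact hvt ((Nat.prime_dvd_prime_iff_eq hv ht).mp (hv.dvd_of_dvd_pow this))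
  refine Nat.dvd_antisymm (orderOf_dvd_natCard u) ?_
  rw [Nat.dvd_iff_prime_pow_dvd_dvd]
  intro t k ht htk
  haveI := Fact.mk ht
  obtain ⟨P⟩ : Nonempty (Sylow t G) := inferInstance
  have hPle : (P : Subgroup G) ≤ Subgroup.zpowers u := by
    intro x hx
    rcases hU x with h | h
    · exfalso
      obtain ⟨j, hj⟩ := (IsPGroup.iff_orderOf.mp P.isPGroup') ⟨x, hx⟩
      rw [← Subgroup.orderOf_coe] at hj
      have := orderOf_dvd_of_mem_zpowers h
      change orderOf x = t ^ j at hj
      rw [hj] at this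
      obtain ⟨i, -, hi⟩ := (Nat.dvd_prime_pow ht).mp this
      exact hnot t i ht hi
    · exact h
  have := Subgroup.card_dvd_of_le hPle
  rw [Nat.card_zpowers, P.card_eq_multiplicity] at this
  exact (pow_dvd_pow t ((ht.pow_dvd_iff_le_factorization Nat.card_pos.ne').mp htk)).trans this

/-- If all classes of generators in a set have size divisible by `t`, so has the set. -/
theorem dvd_ncard_of_closed (Y : Set G) (t : ℕ)
    (hcl : ∀ x ∈ Y, ∀ x' : G, Subgroup.zpowers x' = Subgroup.zpowers x → x' ∈ Y)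
    (ht : ∀ x ∈ Y, t ∣ (orderOf x).totient) : t ∣ Y.ncard := by
  classical
  haveI : Fintype G := Fintype.ofFinite G
  have hsum : Y.ncard = ∑ C ∈ Y.toFinset.image Subgroup.zpowers,
      (Y.toFinset.filter fun x => Subgroup.zpowers x = C).card := by
    rw [Set.ncard_eq_toFinset_card']
    exact Finset.card_eq_sum_card_image _ _
  rw [hsum]
  refine Finset.dvd_sum fun C hC => ?_
  obtain ⟨x, hx, rfl⟩ := Finset.mem_image.mp hC
  rw [Set.mem_toFinset] at hx
  have : (Y.toFinset.filter fun x' => Subgroup.zpowers x' = Subgroup.zpowers x).card =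
      (orderOf x).totient := by
    rw [← ncard_orderOf_eq (z := x) (dvd_refl _), ← Set.ncard_coe_finset]
    congr 1
    ext x'
    simp only [Finset.coe_filter, Set.mem_toFinset, Set.mem_ofPred_eq]
    refine ⟨fun h => ⟨h.2 ▸ Subgroup.mem_zpowers x', ?_⟩, fun h => ?_⟩
    · rw [← Nat.card_zpowers, h.2, Nat.card_zpowers]
    · have h' : Subgroup.zpowers x' = Subgroup.zpowers x :=
        Subgroup.eq_of_le_of_card_ge (Subgroup.zpowers_le.mpr h.1)
          (by rw [Nat.card_zpowers, Nat.card_zpowers, h.2])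
      exact ⟨hcl x hx x' h', h'⟩
  rw [this]
  exact ht x hx

/-- In a power graph isomorphism without nontrivial universal vertices, an element of
non-prime-power order generating a maximal cyclic subgroup gives one of the same order. -/
theorem exists_same_order {H : Type*} [Group H] [Finite H] (e : G ≃ H)
    (he : ∀ x y : G, Adj x y ↔ Adj (e x) (e y)) (he1 : e 1 = 1) {z : G} {r s : ℕ} (hr : r.Prime) (hs : s.Prime) (hrs : r ≠ s)
    (hrm : r ∣ orderOf z) (hsm : s ∣ orderOf z)
    (hmax : ∀ y, z ∈ Subgroup.zpowers y → y ∈ Subgroup.zpowers z) :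
    ∃ h : H, orderOf h = orderOf z := by
  classical
  set m := orderOf z with hm
  have hm0 : m ≠ 0 := (orderOf_pos z).ne'
  -- choose the generator with the largest image
  obtain ⟨z₁, hz₁, hz₁max⟩ := Set.exists_max_image
    {x : G | Subgroup.zpowers x = Subgroup.zpowers z} (fun x => orderOf (e x)) (Set.toFinite _)
    ⟨z, rfl⟩
  have hz₁' : Subgroup.zpowers z₁ = Subgroup.zpowers z := hz₁
  have hz₁ord : orderOf z₁ = m := by rw [← Nat.card_zpowers, hz₁', Nat.card_zpowers]
  have hN : ∀ x, Adj z₁ x ↔ x ∈ Subgroup.zpowers z := by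
    intro x
    rw [adj_congr hz₁']
    exact ⟨fun h => h.elim (hmax x) id, Or.inr⟩
  -- universal vertices within the neighbourhood
  have huniv : ∀ x ∈ Subgroup.zpowers z,
      ((∀ y ∈ Subgroup.zpowers z, Adj x y) ↔ x = 1 ∨ orderOf x = m) := by
    intro x hx
    constructor
    · intro h
      by_contra! hne
      have hd : orderOf x ∣ m := orderOf_dvd_of_mem_zpowers hx
      obtain ⟨t, -, -, h1, h2⟩ := exists_incomparable hr hs hrs hrm hsm hm0 hd
        (fun h1 => hne.1 (orderOf_eq_one_iff.mp h1)) hne.2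
      obtain ⟨y, hy, hyt⟩ := exists_orderOf_eq (z := z) (Nat.ordProj_dvd m t)
      rcases (adj_iff_dvd hx hy).mp (h y hy) with h' | h'
      · exact h2 (hyt ▸ h')
      · exact h1 (hyt ▸ h')
    · rintro (rfl | h) y hy
      · exact adj_one y
      · refine (adj_iff_dvd hx hy).mpr (Or.inr ?_)
        rw [h]
        exact orderOf_dvd_of_mem_zpowers hy
  set w := e z₁ with hw
  set k := orderOf w with hk
  have hw1 : w ≠ 1 := fun h => by
    have : z₁ = 1 := e.injective (h.trans he1.symm)
    rw [this, orderOf_one] at hz₁ord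
    exact hr.one_lt.ne' (Nat.dvd_one.mp (hz₁ord ▸ hrm))
  have hNw : ∀ y, Adj w (e y) ↔ y ∈ Subgroup.zpowers z := fun y => (he _ _).symm.trans (hN y)
  have hNw' : ∀ y', Adj w y' ↔ e.symm y' ∈ Subgroup.zpowers z := fun y' => by
    rw [← hNw, e.apply_symm_apply]
  -- vertices universal in the neighbourhood of `w`
  have huw : ∀ y, Adj w y → (∀ y', Adj w y' → Adj y y') → y ≠ 1 →
      Subgroup.zpowers (e.symm y) = Subgroup.zpowers z := by
    intro y hy hall hy1
    have hmem := (hNw' y).mp hy
    rcases (huniv _ hmem).mp (fun x hx => by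
      rw [he, e.apply_symm_apply]
      exact hall _ ((hNw x).mpr hx)) with h | h
    · exact absurd (by rw [← e.apply_symm_apply y, h, he1]) hy1
    · exact Subgroup.eq_of_le_of_card_ge (Subgroup.zpowers_le.mpr hmem)
        (by rw [Nat.card_zpowers, Nat.card_zpowers, h])
  have hgen : ∀ x, Subgroup.zpowers x = Subgroup.zpowers z →
      (∀ y', Adj w y' → Adj (e x) y') ∧ e x ∈ Subgroup.zpowers w := by
    intro x hx
    refine ⟨fun y' hy' => ?_, ?_⟩
    · rw [← e.apply_symm_apply y', ← he, adj_congr hx]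
      exact Or.inr ((hNw' y').mp hy')
    · rcases (hNw x).mpr (hx ▸ Subgroup.mem_zpowers x) with h | h
      · have hle := Subgroup.zpowers_le.mpr h
        have := Subgroup.eq_of_le_of_card_ge hle
          (by rw [Nat.card_zpowers, Nat.card_zpowers]; exact hz₁max x hx)
        rw [hw, this]
        exact Subgroup.mem_zpowers _
      · exact h
  -- elements of `⟨w⟩` are below everything else in the neighbourhood
  have hbelow : ∀ y y', Adj w y' → y' ∉ Subgroup.zpowers w → y ∈ Subgroup.zpowers w →
      Adj y y' := by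
    intro y y' h1 h2 h3
    rcases h1 with h | h
    · exact Or.inl (Subgroup.zpowers_le.mpr h h3)
    · exact absurd h h2
  have hm_card : {y : H | Adj w y}.ncard = m := by
    have : {y : H | Adj w y} = e '' (Subgroup.zpowers z : Set G) := by
      ext y
      constructor
      · intro h; exact ⟨e.symm y, (hNw' y).mp h, e.apply_symm_apply y⟩
      · rintro ⟨x, hx, rfl⟩; exact (hNw x).mpr hx
    rw [this, Set.ncard_image_of_injective _ e.injective, ← Nat.card_coe_set_eq]
    exact Nat.card_zpowers z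
  have hphi : {x : G | Subgroup.zpowers x = Subgroup.zpowers z}.ncard = m.totient := by
    rw [← ncard_orderOf_eq (z := z) (dvd_refl _)]
    congr 1
    ext x
    simp only [Set.mem_ofPred_eq]
    refine ⟨fun h => ⟨h ▸ Subgroup.mem_zpowers x, ?_⟩, fun h => ?_⟩
    · rw [← Nat.card_zpowers, h, Nat.card_zpowers]
    · exact Subgroup.eq_of_le_of_card_ge (Subgroup.zpowers_le.mpr h.1)
        (by rw [Nat.card_zpowers, Nat.card_zpowers, h.2])
  refine ⟨w, ?_⟩
  by_cases hpp : ∃ t i : ℕ, t.Prime ∧ k = t ^ i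
  · exfalso
    obtain ⟨t, i, ht, hki⟩ := hpp
    have hchain : ∀ y ∈ Subgroup.zpowers w, ∀ y' ∈ Subgroup.zpowers w, Adj y y' := by
      intro y hy y' hy'
      rw [adj_iff_dvd hy hy']
      obtain ⟨a, -, ha⟩ := (Nat.dvd_prime_pow ht).mp ((orderOf_dvd_of_mem_zpowers hy).trans (dvd_of_eq hki))
      obtain ⟨b, -, hb⟩ := (Nat.dvd_prime_pow ht).mp ((orderOf_dvd_of_mem_zpowers hy').trans (dvd_of_eq hki))
      rw [ha, hb]
      exact (le_total a b).imp (pow_dvd_pow t) (pow_dvd_pow t)
    have huall : ∀ y ∈ Subgroup.zpowers w, ∀ y', Adj w y' → Adj y y' := fun y hy y' hy' => by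
      by_cases h : y' ∈ Subgroup.zpowers w
      · exact hchain y hy y' h
      · exact hbelow y y' hy' h hy
    -- `φ m = k - 1`
    have hphik : m.totient = k - 1 := by
      have hset : e '' {x : G | Subgroup.zpowers x = Subgroup.zpowers z} =
          (Subgroup.zpowers w : Set H) \ {1} := by
        ext y
        constructor
        · rintro ⟨x, hx, rfl⟩
          refine ⟨(hgen x hx).2, fun h => ?_⟩
          have hx1 : x = 1 := e.injective (h.trans he1.symm)
          have hx' : Subgroup.zpowers x = Subgroup.zpowers z := hx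
          rw [hx1, Subgroup.zpowers_one_eq_bot, eq_comm, Subgroup.zpowers_eq_bot] at hx'
          rw [hx', orderOf_one] at hm
          exact hr.one_lt.ne' (Nat.dvd_one.mp (hm ▸ hrm))
        · rintro ⟨hy, hy1⟩
          exact ⟨e.symm y, huw y (Or.inr hy) (huall y hy) hy1, e.apply_symm_apply y⟩
      rw [← hphi, ← Set.ncard_image_of_injective _ e.injective, hset,
        Set.ncard_sdiff_singleton_of_mem (one_mem _), ← Nat.card_coe_set_eq]
      exact congrArg (· - 1) (Nat.card_zpowers w)
    -- for each prime `u ∣ m`, `φ k ∣ u - 1`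
    have hkey : ∀ u : ℕ, u.Prime → u ∣ m → k.totient ∣ u - 1 := by
      intro u hu hum
      obtain ⟨a, ha, hau⟩ := exists_orderOf_eq (z := z) hum
      have hane : ¬ ∀ y ∈ Subgroup.zpowers z, Adj a y := fun h => by
        rcases (huniv a ha).mp h with h' | h'
        · rw [h', orderOf_one] at hau; exact hu.one_lt.ne hau
        · rw [hau] at h'
          rw [← h'] at hrm hsm
          exact hrs (((Nat.prime_dvd_prime_iff_eq hr hu).mp hrm).trans
            ((Nat.prime_dvd_prime_iff_eq hs hu).mp hsm).symm)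
      set X := {x : G | x ∈ Subgroup.zpowers z ∧ ∀ y ∈ Subgroup.zpowers z, (Adj x y ↔ Adj a y)}
      have hX : X = {x : G | x ∈ Subgroup.zpowers z ∧ orderOf x = u} := by
        ext x
        refine and_congr_right fun hx => ⟨fun h => ?_, fun h y hy => ?_⟩
        · have hd : orderOf x ∣ m := orderOf_dvd_of_mem_zpowers hx
          have hxne : ¬ ∀ y ∈ Subgroup.zpowers z, Adj x y := fun h' =>
            hane fun y hy => (h y hy).mp (h' y hy)
          have hx1 : orderOf x ≠ 1 := fun h1 =>
            hxne ((huniv x hx).mpr (Or.inl (orderOf_eq_one_iff.mp h1)))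
          have hua : u ∣ orderOf x := by
            rcases (adj_iff_dvd hx ha).mp ((h a ha).mpr (Or.inl (Subgroup.mem_zpowers a))) with
              h' | h'
            · rw [hau] at h'
              rcases (Nat.dvd_prime hu).mp h' with h'' | h''
              · exact absurd h'' hx1
              · rw [h'']
            · exact hau ▸ h'
          by_contra hxu
          obtain ⟨v, hv, hvu, hvx⟩ | hpow :
              (∃ v, v.Prime ∧ v ≠ u ∧ v ∣ orderOf x) ∨ ∀ v, v.Prime → v ∣ orderOf x → v = u := by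
            by_cases h' : ∃ v, v.Prime ∧ v ≠ u ∧ v ∣ orderOf x
            · exact Or.inl h'
            · push Not at h'
              exact Or.inr fun v hv hvd => by_contra fun hne => h' v hv hne hvd
          · obtain ⟨y, hy, hyv⟩ := exists_orderOf_eq (z := z) (hvx.trans hd)
            have := (h y hy).mp ((adj_iff_dvd hx hy).mpr (Or.inr (hyv ▸ hvx)))
            rw [adj_iff_dvd ha hy, hau, hyv, Nat.prime_dvd_prime_iff_eq hu hv,
              Nat.prime_dvd_prime_iff_eq hv hu] at this
            exact hvu (this.elim Eq.symm id)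
          · obtain ⟨v, hv, hvm, hvu⟩ : ∃ v, v.Prime ∧ v ∣ m ∧ v ≠ u := by
              by_cases h : r = u
              · exact ⟨s, hs, hsm, fun hst => hrs (h.trans hst.symm)⟩
              · exact ⟨r, hr, hrm, h⟩
            have huv : u * v ∣ m :=
              ((Nat.coprime_primes hu hv).mpr hvu.symm).mul_dvd_of_dvd_of_dvd hum hvm
            obtain ⟨y, hy, hyv⟩ := exists_orderOf_eq (z := z) huv
            have := (h y hy).mpr ((adj_iff_dvd ha hy).mpr (Or.inl (by rw [hau, hyv]; exact dvd_mul_right u v)))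
            rw [adj_iff_dvd hx hy, hyv] at this
            rcases this with h' | h'
            · -- `orderOf x` is a power of `u` dividing `u * v`
              obtain ⟨c, hc⟩ := hua
              rw [hc] at h'
              have hcv := Nat.dvd_of_mul_dvd_mul_left hu.pos h'
              rcases (Nat.dvd_prime hv).mp hcv with h'' | h''
              · exact hxu (by rw [hc, h'', mul_one])
              · exact hvu (hpow v hv (by rw [hc, h'']; exact dvd_mul_left v u))
            · exact hvu (hpow v hv ((dvd_mul_left v u).trans h'))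
        · exact adj_congr (Subgroup.eq_of_le_of_card_ge
            (Subgroup.zpowers_le.mpr ((mem_iff_dvd hx ha).mpr (by rw [h, hau])))
            (by rw [Nat.card_zpowers, Nat.card_zpowers, h, hau]))
      have hXc : X.ncard = u - 1 := by
        rw [hX, ncard_orderOf_eq hum, Nat.totient_prime hu]
      rw [← hXc, ← Set.ncard_image_of_injective _ e.injective]
      have hnot : ∀ y ∈ e '' X, y ∉ Subgroup.zpowers w := by
        rintro _ ⟨x, hx, rfl⟩ hmem
        refine hane fun y hy => (hx.2 y hy).mp ?_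
        rw [he]
        exact huall _ hmem _ ((hNw y).mpr hy)
      refine dvd_ncard_of_closed _ _ ?_ ?_
      · rintro _ ⟨x, hx, rfl⟩ x' hx'
        have hadj : Adj w x' := by
          rw [adj_comm, adj_congr hx', adj_comm]
          exact (hNw x).mpr hx.1
        refine ⟨e.symm x', ⟨(hNw' x').mp hadj, fun y hy => ?_⟩, e.apply_symm_apply x'⟩
        rw [he, e.apply_symm_apply, adj_congr hx', ← he]
        exact hx.2 y hy
      · intro y hy
        apply Nat.totient_dvd_of_dvd
        obtain ⟨x, hx, rfl⟩ := hy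
        rcases (hNw x).mpr hx.1 with h | h
        · exact orderOf_dvd_of_mem_zpowers h
        · exact absurd h (hnot _ ⟨x, hx, rfl⟩)
    have hi : i = 1 := by
      have hi0 : i ≠ 0 := fun h => hw1 (orderOf_eq_one_iff.mp (by rw [← hk, hki, h, pow_zero]))
      by_contra hi1
      have h1 : k.totient ∣ k - 1 := by
        refine (hkey r hr hrm).trans ?_
        rw [← hphik, ← Nat.totient_prime hr]
        exact Nat.totient_dvd_of_dvd hrm
      have h2 : t ∣ k.totient := by
        rw [hki, Nat.totient_prime_pow ht (Nat.pos_of_ne_zero hi0)]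
        exact (dvd_pow_self t (by omega)).mul_right _
      have h3 : t ∣ k := hki ▸ dvd_pow_self t hi0
      have h4 : t ∣ k - (k - 1) := Nat.dvd_sub h3 (h2.trans h1)
      have : 0 < k := orderOf_pos w
      rw [show k - (k - 1) = 1 by omega] at h4
      exact ht.one_lt.ne' (Nat.dvd_one.mp h4)
    rw [hi, pow_one] at hki
    have heq : ∀ u : ℕ, u.Prime → u ∣ m → u = t := by
      intro u hu hum
      have h1 : k.totient ∣ u - 1 := hkey u hu hum
      have h2 : u - 1 ∣ k - 1 := by
        rw [← hphik, ← Nat.totient_prime hu]; exact Nat.totient_dvd_of_dvd hum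
      rw [hki, Nat.totient_prime ht] at h1
      rw [hki] at h2
      have := Nat.dvd_antisymm h1 h2
      have := hu.one_lt
      have := ht.one_lt
      omega
    exact hrs ((heq r hr hrm).trans (heq s hs hsm).symm)
  · push Not at hpp
    obtain ⟨r', hr', hr'k⟩ := Nat.exists_prime_and_dvd
      (n := k) (fun h => hw1 (orderOf_eq_one_iff.mp h))
    obtain ⟨a', ha', ha'o⟩ := exists_orderOf_eq (z := w) hr'k
    have ha'1 : a' ≠ 1 := fun h => by rw [h, orderOf_one] at ha'o; exact hr'.one_lt.ne ha'o
    -- vertices of `⟨z⟩` that are not universal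
    set NU : G → Prop := fun x => x ∈ Subgroup.zpowers z ∧ ¬ (x = 1 ∨ orderOf x = m) with hNU
    have ha'NU : NU (e.symm a') := by
      refine ⟨(hNw' a').mp (Or.inr ha'), ?_⟩
      rintro (h | h)
      · exact ha'1 (by rw [← e.apply_symm_apply a', h, he1])
      · have hz' : Subgroup.zpowers (e.symm a') = Subgroup.zpowers z :=
          Subgroup.eq_of_le_of_card_ge (Subgroup.zpowers_le.mpr ((hNw' a').mp (Or.inr ha')))
            (by rw [Nat.card_zpowers, Nat.card_zpowers, h])
        have hall := (hgen _ hz').1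
        rw [e.apply_symm_apply] at hall
        obtain ⟨v, hv, hvk, hvr⟩ : ∃ v, v.Prime ∧ v ∣ k ∧ v ≠ r' := by
          by_contra! hv
          exact hpp r' _ hr'
            (Nat.eq_prime_pow_of_unique_prime_dvd (orderOf_pos w).ne' fun {d} hd hdk => hv d hd hdk)
        obtain ⟨b', hb', hb'o⟩ := exists_orderOf_eq (z := w) hvk
        have := (adj_iff_dvd ha' hb').mp (hall b' (Or.inr hb'))
        rw [ha'o, hb'o, Nat.prime_dvd_prime_iff_eq hr' hv, Nat.prime_dvd_prime_iff_eq hv hr'] at this
        exact hvr (this.elim Eq.symm id)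
    have hside : ∀ x y, NU x → NU y → ¬ Adj x y →
        (e x ∈ Subgroup.zpowers w ↔ e y ∈ Subgroup.zpowers w) := by
      intro x y hx hy hxy
      constructor
      · intro h
        by_contra h'
        exact hxy ((he x y).mpr (hbelow _ _ ((hNw y).mpr hy.1) h' h))
      · intro h
        by_contra h'
        exact hxy (adj_comm.mp ((he y x).mpr (hbelow _ _ ((hNw x).mpr hx.1) h' h)))
    have hfull : ∀ t, t.Prime → t ∣ m → ∀ f ∈ Subgroup.zpowers z,
        orderOf f = t ^ m.factorization t → NU f := by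
      intro t ht htm f hf hfo
      refine ⟨hf, ?_⟩
      rintro (h | h)
      · rw [h, orderOf_one, eq_comm, pow_eq_one_iff] at hfo
        exact hfo.elim ht.one_lt.ne' (ht.factorization_pos_of_dvd hm0 htm).ne'
      · rw [h] at hfo
        rw [hfo] at hrm hsm
        exact hrs (((Nat.prime_dvd_prime_iff_eq hr ht).mp (hr.dvd_of_dvd_pow hrm)).trans
          ((Nat.prime_dvd_prime_iff_eq hs ht).mp (hs.dvd_of_dvd_pow hsm)).symm)
    have hconn : ∀ x, NU x → ∃ t, t.Prime ∧ t ∣ m ∧ ∀ f ∈ Subgroup.zpowers z,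
        orderOf f = t ^ m.factorization t → ¬ Adj x f := by
      intro x hx
      obtain ⟨hx1, hxm⟩ := not_or.mp hx.2
      obtain ⟨t, ht, htm, h1, h2⟩ := exists_incomparable hr hs hrs hrm hsm hm0
        (orderOf_dvd_of_mem_zpowers hx.1) (fun h => hx1 (orderOf_eq_one_iff.mp h)) hxm
      refine ⟨t, ht, htm, fun f hf hfo h => ?_⟩
      rw [adj_iff_dvd hx.1 hf, hfo] at h
      exact h.elim h2 h1
    obtain ⟨t₀, ht₀, ht₀m, ht₀f⟩ := hconn _ ha'NU
    obtain ⟨f₀, hf₀, hf₀o⟩ := exists_orderOf_eq (z := z) (Nat.ordProj_dvd m t₀)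
    have hf₀in : e f₀ ∈ Subgroup.zpowers w :=
      (hside _ _ ha'NU (hfull t₀ ht₀ ht₀m f₀ hf₀ hf₀o) (ht₀f f₀ hf₀ hf₀o)).mp
        (by rwa [e.apply_symm_apply])
    have hall : ∀ x ∈ Subgroup.zpowers z, e x ∈ Subgroup.zpowers w := by
      intro x hx
      by_cases hxu : x = 1 ∨ orderOf x = m
      · rcases hxu with rfl | h
        · rw [he1]; exact one_mem _
        · exact (hgen x (Subgroup.eq_of_le_of_card_ge (Subgroup.zpowers_le.mpr hx)
            (by rw [Nat.card_zpowers, Nat.card_zpowers, h]))).2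
      obtain ⟨t, ht, htm, htf⟩ := hconn x ⟨hx, hxu⟩
      obtain ⟨f, hf, hfo⟩ := exists_orderOf_eq (z := z) (Nat.ordProj_dvd m t)
      have hfNU := hfull t ht htm f hf hfo
      have hfin : e f ∈ Subgroup.zpowers w := by
        by_cases htt : t = t₀
        · subst htt
          have : Subgroup.zpowers f = Subgroup.zpowers f₀ := Subgroup.eq_of_le_of_card_ge
            (Subgroup.zpowers_le.mpr ((mem_iff_dvd hf hf₀).mpr (by rw [hfo, hf₀o])))
            (by rw [Nat.card_zpowers, Nat.card_zpowers, hfo, hf₀o])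
          obtain ⟨v, hv, hvm, hvt⟩ : ∃ v, v.Prime ∧ v ∣ m ∧ v ≠ t := by
            by_cases h : r = t
            · exact ⟨s, hs, hsm, fun hst => hrs (h.trans hst.symm)⟩
            · exact ⟨r, hr, hrm, h⟩
          obtain ⟨g, hg, hgo⟩ := exists_orderOf_eq (z := z) (Nat.ordProj_dvd m v)
          have hgNU := hfull v hv hvm g hg hgo
          have hnadj : ∀ f' ∈ Subgroup.zpowers z, orderOf f' = t ^ m.factorization t →
              ¬ Adj f' g := by
            intro f' hf' hf'o h
            rw [adj_iff_dvd hf' hg, hf'o, hgo] at h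
            rcases h with h | h
            · exact hvt ((Nat.prime_dvd_prime_iff_eq ht hv).mp (ht.dvd_of_dvd_pow
                ((dvd_pow_self t (ht.factorization_pos_of_dvd hm0 htm).ne').trans h))).symm
            · exact hvt ((Nat.prime_dvd_prime_iff_eq hv ht).mp (hv.dvd_of_dvd_pow
                ((dvd_pow_self v (hv.factorization_pos_of_dvd hm0 hvm).ne').trans h)))
          exact (hside f g hfNU hgNU (hnadj f hf hfo)).mpr
            ((hside f₀ g (hfull t ht₀ ht₀m f₀ hf₀ hf₀o) hgNU (hnadj f₀ hf₀ hf₀o)).mp hf₀in)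
        · refine (hside f f₀ hfNU (hfull t₀ ht₀ ht₀m f₀ hf₀ hf₀o) ?_).mpr hf₀in
          intro h
          rw [adj_iff_dvd hf hf₀, hfo, hf₀o] at h
          rcases h with h | h
          · exact htt ((Nat.prime_dvd_prime_iff_eq ht ht₀).mp (ht.dvd_of_dvd_pow
              ((dvd_pow_self t (ht.factorization_pos_of_dvd hm0 htm).ne').trans h)))
          · exact htt ((Nat.prime_dvd_prime_iff_eq ht₀ ht).mp (ht₀.dvd_of_dvd_pow
              ((dvd_pow_self t₀ (ht₀.factorization_pos_of_dvd hm0 ht₀m).ne').trans h))).symm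
      exact (hside x f ⟨hx, hxu⟩ hfNU (htf f hf hfo)).mpr hfin
    have hset : {y : H | Adj w y} = (Subgroup.zpowers w : Set H) := by
      ext y
      refine ⟨fun h => ?_, Or.inr⟩
      rw [← e.apply_symm_apply y]
      exact hall _ ((hNw' y).mp h)
    rw [← hm_card, hset, ← Nat.card_coe_set_eq]
    exact (Nat.card_zpowers w).symm

/-- One direction of the statement. -/
theorem exists_pq_of_exists_pq {H : Type*} [Group H] [Finite H] (e : G ≃ H)
    (he : ∀ x y : G, Adj x y ↔ Adj (e x) (e y)) {p q : ℕ} (hp : p.Prime) (hq : q.Prime)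
    (hpq : p ≠ q) (hex : ∃ g : G, orderOf g = p * q) : ∃ h : H, orderOf h = p * q := by
  classical
  obtain ⟨g, hg⟩ := hex
  have hpG : p ∣ Nat.card G := (Dvd.intro q rfl).trans (hg ▸ orderOf_dvd_natCard g)
  have hqG : q ∣ Nat.card G := (Dvd.intro_left p rfl).trans (hg ▸ orderOf_dvd_natCard g)
  have hcard : Nat.card G = Nat.card H := Nat.card_congr e
  suffices ∃ h : H, p * q ∣ orderOf h by
    obtain ⟨h, hh⟩ := this
    obtain ⟨x, -, hx⟩ := exists_orderOf_eq (z := h) hh
    exact ⟨x, hx⟩
  by_cases huG : ∃ u : G, u ≠ 1 ∧ ∀ y, Adj u y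
  · obtain ⟨u, hu1, hu⟩ := huG
    -- two universal vertices in `H`
    have hU1 : ∀ y, Adj (e 1) y := fun y => by
      rw [← e.apply_symm_apply y, ← he]; exact adj_one _
    have hU2 : ∀ y, Adj (e u) y := fun y => by
      rw [← e.apply_symm_apply y, ← he]; exact hu _
    obtain ⟨v, hv1, hv⟩ : ∃ v : H, v ≠ 1 ∧ ∀ y, Adj v y := by
      by_cases h : e 1 = 1
      · exact ⟨e u, fun h' => hu1 (e.injective (h'.trans h.symm)), hU2⟩
      · exact ⟨e 1, h, hU1⟩
    refine ⟨v, ?_⟩
    rw [exists_orderOf_eq_card hp hq hpq (hcard ▸ hpG) (hcard ▸ hqG) hv1 hv, ← hcard, ← hg]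
    exact orderOf_dvd_natCard g
  · push Not at huG
    have he1 : e 1 = 1 := by
      by_contra h
      obtain ⟨y, hy⟩ := huG (e.symm 1) (fun h' => h (by rw [← h', e.apply_symm_apply]))
      exact hy (by rw [he, e.apply_symm_apply]; exact adj_one _)
    obtain ⟨z, hz, hzmax⟩ := Set.exists_max_image {x : G | p * q ∣ orderOf x} orderOf
      (Set.toFinite _) ⟨g, hg ▸ dvd_refl _⟩
    have hz' : p * q ∣ orderOf z := hz
    obtain ⟨h, hh⟩ := exists_same_order e he
      he1 hp hq hpq ((Dvd.intro q rfl).trans hz') ((Dvd.intro_left p rfl).trans hz')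
      (fun y hy => by
        have hd : orderOf z ∣ orderOf y := orderOf_dvd_of_mem_zpowers hy
        have := Subgroup.eq_of_le_of_card_ge (Subgroup.zpowers_le.mpr hy)
          (by rw [Nat.card_zpowers, Nat.card_zpowers]; exact hzmax y (hz'.trans hd))
        rw [this]
        exact Subgroup.mem_zpowers y)
    exact ⟨h, hh ▸ hz'⟩

/-- Let G and H be finite groups whose power graphs are isomorphic: there is a bijection e : G → H such that, for all x, y, one of x, y is a power of the other exactly when one of e(x), e(y) is a power of the other. Then G and H have the same prime graph: for distinct primes p, q, G has an element of order pq if and only if H does. -/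
theorem result {G H : Type*} [Group G] [Finite G] [Group H] [Finite H] (e : G ≃ H)
    (he : ∀ x y : G, (x ∈ Subgroup.zpowers y ∨ y ∈ Subgroup.zpowers x) ↔
      (e x ∈ Subgroup.zpowers (e y) ∨ e y ∈ Subgroup.zpowers (e x)))
    {p q : ℕ} (hp : p.Prime) (hq : q.Prime) (hpq : p ≠ q) :
    (∃ g : G, orderOf g = p * q) ↔ (∃ h : H, orderOf h = p * q) := by
  refine ⟨exists_pq_of_exists_pq e he hp hq hpq,
    exists_pq_of_exists_pq e.symm (fun x y => ?_) hp hq hpq⟩
  have := (he (e.symm x) (e.symm y)).symm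
  rwa [e.apply_symm_apply, e.apply_symm_apply] at this

end Cfsg.Agent.S4085
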