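import Cfsg.Statements.S4086
import Mathlib.Data.Nat.Factorization.PrimePow

set_option autoImplicit false
open Cfsg

namespace Cfsg.Agent.S4086

/-- For a finite group G the following are equivalent: every non-identity element has prime-power order; whenever two elements generate a cyclic subgroup, one of them is a power of the other (the enhanced power graph of G coincides with its power graph). -/
theorem result {G : Type*} [Group G] [Finite G] :
    (∀ g : G, g ≠ 1 → IsPrimePow (orderOf g)) ↔
    (∀ x y : G, IsCyclic ↥(Subgroup.closure ({x, y} : Set G)) → (x ∈ Subgroup.zpowers y ∨ y ∈ Subgroup.zpowers x)) := by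
  constructor
  · intro h x y hc
    obtain ⟨g, hg⟩ := hc.exists_generator
    have hdvd : orderOf x ∣ orderOf y ∨ orderOf y ∣ orderOf x := by
      obtain ⟨a, ha⟩ := hg ⟨x, Subgroup.subset_closure (by simp)⟩
      obtain ⟨b, hb⟩ := hg ⟨y, Subgroup.subset_closure (by simp)⟩
      have hxd : orderOf x ∣ orderOf (g : G) := by
        exact orderOf_dvd_of_mem_zpowers ⟨a, congrArg Subtype.val ha⟩
      have hyd : orderOf y ∣ orderOf (g : G) := by
        exact orderOf_dvd_of_mem_zpowers ⟨b, congrArg Subtype.val hb⟩
      by_cases hg1 : (g : G) = 1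
      · rw [hg1, orderOf_one, Nat.dvd_one] at hxd; exact Or.inl (hxd ▸ one_dvd _)
      obtain ⟨p, k, hp, -, hpk⟩ := h _ hg1
      rw [← hpk] at hxd hyd
      obtain ⟨i, -, hi⟩ := (Nat.dvd_prime_pow hp.nat_prime).mp hxd
      obtain ⟨j, -, hj⟩ := (Nat.dvd_prime_pow hp.nat_prime).mp hyd
      rw [hi, hj]
      exact (le_total i j).imp (pow_dvd_pow p) (pow_dvd_pow p)
    have key : ∀ u v : Subgroup.closure ({x, y} : Set G), orderOf u ∣ orderOf v → u ∈ Subgroup.zpowers v := by
      intro u v huv
      classical
      haveI := Fintype.ofFinite (Subgroup.closure ({x, y} : Set G))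
      have hcard := IsCyclic.card_pow_eq_one_le (α := Subgroup.closure ({x, y} : Set G)) (orderOf_pos v)
      have hsub : (Finset.univ.filter fun z => z ∈ Subgroup.zpowers v) ⊆
          (Finset.univ.filter fun z : Subgroup.closure ({x, y} : Set G) => z ^ orderOf v = 1) := by
        intro z hz
        simp only [Finset.mem_filter, Finset.mem_univ, true_and] at hz ⊢
        exact orderOf_dvd_iff_pow_eq_one.mp (orderOf_dvd_of_mem_zpowers hz)
      have heq := Finset.eq_of_subset_of_card_le hsub (hcard.trans_eq (by
        rw [← Nat.card_zpowers, Nat.card_eq_fintype_card]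
        convert Fintype.card_subtype (fun z => z ∈ Subgroup.zpowers v)))
      have : u ∈ (Finset.univ.filter fun z : Subgroup.closure ({x, y} : Set G) => z ^ orderOf v = 1) := by
        simp [← orderOf_dvd_iff_pow_eq_one, huv]
      rw [← heq] at this
      simpa using this
    rcases hdvd with h1 | h1
    · left
      obtain ⟨i, hi⟩ := key ⟨x, Subgroup.subset_closure (by simp)⟩ ⟨y, Subgroup.subset_closure (by simp)⟩
        (by simpa using h1)
      exact ⟨i, congrArg Subtype.val hi⟩
    · right
      obtain ⟨i, hi⟩ := key ⟨y, Subgroup.subset_closure (by simp)⟩ ⟨x, Subgroup.subset_closure (by simp)⟩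
        (by simpa using h1)
      exact ⟨i, congrArg Subtype.val hi⟩
  · intro h g hg
    have hn1 : orderOf g ≠ 1 := fun e => hg (orderOf_eq_one_iff.mp e)
    obtain ⟨p, hp, hpn⟩ := Nat.exists_prime_and_dvd hn1
    rw [isPrimePow_iff_card_primeFactors_eq_one, Finset.card_eq_one]
    refine ⟨p, Finset.eq_singleton_iff_unique_mem.mpr ⟨Nat.mem_primeFactors.mpr ⟨hp, hpn, (orderOf_pos g).ne'⟩, fun q hq' => ?_⟩⟩
    obtain ⟨hq, hqn, -⟩ := Nat.mem_primeFactors.mp hq' 
    set x := g ^ (orderOf g / p)
    set y := g ^ (orderOf g / q)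
    have hx : orderOf x = p := orderOf_pow_orderOf_div (orderOf_pos g).ne' hpn
    have hy : orderOf y = q := orderOf_pow_orderOf_div (orderOf_pos g).ne' hqn
    have hle : Subgroup.closure ({x, y} : Set G) ≤ Subgroup.zpowers g := by
      rw [Subgroup.closure_le]
      rintro z (rfl | rfl) <;> exact Subgroup.npow_mem_zpowers g _
    have hc : IsCyclic ↥(Subgroup.closure ({x, y} : Set G)) :=
      isCyclic_of_injective (Subgroup.inclusion hle) (Subgroup.inclusion_injective hle)
    rcases h x y hc with h1 | h1
    · have := orderOf_dvd_of_mem_zpowers h1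
      rw [hx, hy] at this
      exact ((Nat.prime_dvd_prime_iff_eq hp hq).mp this).symm
    · have := orderOf_dvd_of_mem_zpowers h1
      rw [hx, hy] at this
      exact (Nat.prime_dvd_prime_iff_eq hq hp).mp this

end Cfsg.Agent.S4086
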