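import Cfsg.Statements.S4088
import Cfsg.Agent.Lib.FGStruct.Subnormalizer

set_option autoImplicit false
open Cfsg Pointwise

namespace Cfsg.Agent.S4088

/-- Let G be a finite group, p a prime dividing the order of G, H a p-subgroup of G and P a Sylow p-subgroup of G. Call the subnormalizer of H the set of elements g of G such that H is subnormal in the subgroup generated by H and g. Then the number of elements of the subnormalizer of H equals the number of Sylow p-subgroups of G containing H times the order of N_G(P), and also equals the number of conjugates of H contained in P times the order of N_G(H). -/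
theorem result {G : Type*} [Group G] [Finite G] (p : ℕ) [Fact p.Prime]
    (hp : p ∣ Nat.card G) (H : Subgroup G) (hH : IsPGroup p H) (P : Sylow p G) :
    Nat.card {g : G // ((H).subgroupOf (H ⊔ Subgroup.zpowers g)).IsSubnormal} =
        Nat.card {Q : Sylow p G // H ≤ (Q : Subgroup G)} * Nat.card (Subgroup.normalizer ((P : Subgroup G) : Set G)) ∧
    Nat.card {g : G // ((H).subgroupOf (H ⊔ Subgroup.zpowers g)).IsSubnormal} =
        Nat.card {K : Subgroup G // K ≤ (P : Subgroup G) ∧ ∃ g : G, K = H.map (MulAut.conj g).toMonoidHom} *
          Nat.card (Subgroup.normalizer (H : Set G)) := by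
  open CfsgLib.FGStruct.Subnormalizer in
  have hcard := card_subnormalizer hH P
  constructor
  · rw [hcard]
    exact CfsgLib.FGStruct.Subnormalizer.card_preimage_eq_mul (fun x : G => x • P) _
      (fun a b => by
        show a • P = b • P ↔ _
        refine ⟨fun h => Sylow.smul_eq_iff_mem_normalizer.mp ?_, fun h => ?_⟩
        · rw [mul_smul, ← h, inv_smul_smul]
        · have := Sylow.smul_eq_iff_mem_normalizer.mpr h
          rwa [mul_smul, inv_smul_eq_iff, eq_comm] at this)
      {Q : Sylow p G | H ≤ (Q : Subgroup G)} (fun Q _ => MulAction.exists_smul_eq G P Q)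
  · rw [hcard]
    refine Eq.trans ?_ (CfsgLib.FGStruct.Subnormalizer.card_preimage_eq_mul
      (fun x : G => MulAut.conj x • H) (Subgroup.normalizer (H : Set G))
      (fun a b => by
        show MulAut.conj a • H = MulAut.conj b • H ↔ _
        rw [CfsgLib.FGStruct.Subnormalizer.mem_normalizer_of_conj_smul_eq, map_mul, mul_smul, map_inv,
          inv_smul_eq_iff, eq_comm])
      {K : Subgroup G | K ≤ (P : Subgroup G) ∧ ∃ g : G, K = H.map (MulAut.conj g).toMonoidHom}
      (fun K hK => ⟨hK.2.choose, hK.2.choose_spec.symm⟩))
    refine Nat.card_congr ((Equiv.inv G).subtypeEquiv fun x => ?_)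
    rw [Sylow.coe_subgroup_smul, ← Subgroup.pointwise_smul_le_pointwise_smul_iff (a := (MulAut.conj x)⁻¹),
      inv_smul_smul, ← map_inv]
    exact ⟨fun h => ⟨h, x⁻¹, rfl⟩, fun h => h.1⟩

end Cfsg.Agent.S4088
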