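import Cfsg.Statements.S4089
import Cfsg.Agent.Lib.FGStruct.Subnormalizer

set_option autoImplicit false
open Cfsg Pointwise

namespace Cfsg.Agent.S4089

/-- Let G be a finite group, p a prime and H a p-subgroup of G. Then the set of elements g of G such that H is subnormal in the subgroup generated by H and g is the union of the normalizers N_G(R) over the subgroups R of G containing H with R = O_p(N_G(R)); and this set does not change when H is replaced by the intersection of all Sylow p-subgroups of G containing H. -/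
theorem result {G : Type*} [Group G] [Finite G] (p : ℕ) [Fact p.Prime]
    (H : Subgroup G) (hH : IsPGroup p H) :
    {g : G | ((H).subgroupOf (H ⊔ Subgroup.zpowers g)).IsSubnormal} =
      {g : G | ∃ R : Subgroup G, H ≤ R ∧ (Cfsg.pCore p (Subgroup.normalizer (R : Set G))).map (Subgroup.normalizer (R : Set G)).subtype = R ∧ g ∈ Subgroup.normalizer (R : Set G)} ∧
    ∀ g : G, (((H).subgroupOf (H ⊔ Subgroup.zpowers g)).IsSubnormal ↔
      (((sInf {K : Subgroup G | ∃ Q : Sylow p G, H ≤ (Q : Subgroup G) ∧ K = (Q : Subgroup G)})).subgroupOf ((sInf {K : Subgroup G | ∃ Q : Sylow p G, H ≤ (Q : Subgroup G) ∧ K = (Q : Subgroup G)}) ⊔ Subgroup.zpowers g)).IsSubnormal) := by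
  have radical : ∀ R : Subgroup G, IsPGroup p R →
      (Cfsg.pCore p (Subgroup.normalizer (R : Set G))).map (Subgroup.normalizer (R : Set G)).subtype = R →
      R = sInf {K : Subgroup G | ∃ Q : Sylow p G, R ≤ (Q : Subgroup G) ∧ K = (Q : Subgroup G)} := by
    intro R hR hrad
    set J := sInf {K : Subgroup G | ∃ Q : Sylow p G, R ≤ (Q : Subgroup G) ∧ K = (Q : Subgroup G)} with hJ
    have hRJ : R ≤ J := le_sInf fun K ⟨Q, hQ, e⟩ => e ▸ hQ
    obtain ⟨Q, hQ⟩ := hR.exists_le_sylow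
    have hJp : IsPGroup p J := Q.isPGroup'.to_le (sInf_le ⟨Q, hQ, rfl⟩)
    refine le_antisymm hRJ ?_
    set N := Subgroup.normalizer (R : Set G) with hN
    have hNJ : N ≤ Subgroup.normalizer ((J ⊓ N : Subgroup G) : Set G) := by
      have hle : ∀ m ∈ N, ∀ x ∈ J ⊓ N, m * x * m⁻¹ ∈ J ⊓ N := by
        intro m hm x hx
        refine ⟨Subgroup.mem_sInf.mpr ?_, N.mul_mem (N.mul_mem hm hx.2) (N.inv_mem hm)⟩
        rintro K ⟨Q, hQ, rfl⟩
        have hQ' : R ≤ ((m⁻¹ • Q : Sylow p G) : Subgroup G) := by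
          rw [Sylow.coe_subgroup_smul,
            ← CfsgLib.FGStruct.Subnormalizer.mem_normalizer_of_conj_smul_eq.mp (N.inv_mem hm)]
          exact Subgroup.pointwise_smul_le_pointwise_smul_iff.mpr hQ
        have := Subgroup.mem_sInf.mp hx.1 _ ⟨m⁻¹ • Q, hQ', rfl⟩
        rw [Sylow.coe_subgroup_smul, CfsgLib.Solvable.mem_conj_smul, inv_inv] at this
        exact this
      intro m hm
      refine Subgroup.mem_normalizer_iff.mpr fun x => ⟨hle m hm x, fun h => ?_⟩
      have := hle m⁻¹ (N.inv_mem hm) _ h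
      simpa [mul_assoc] using this
    have h1 := CfsgLib.CharP.subgroup_le_pCore_map (p := p) inf_le_right hNJ hJp.to_inf_left
    rw [hrad] at h1
    by_contra hne
    haveI := hJp.isNilpotent
    have hlt : R.subgroupOf J < Subgroup.normalizer ((R.subgroupOf J : Subgroup J) : Set J) :=
      Group.normalizerCondition_of_isNilpotent _ (lt_top_iff_ne_top.mpr fun h =>
        hne (Subgroup.subgroupOf_eq_top.mp h))
    obtain ⟨x, hx, hxR⟩ := SetLike.exists_of_lt hlt
    refine hxR (h1 ⟨x.2, Subgroup.mem_normalizer_iff.mpr fun y => ?_⟩)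
    by_cases hy : y ∈ J
    · exact Subgroup.mem_normalizer_iff.mp hx ⟨y, hy⟩
    · refine ⟨fun h => absurd (hRJ h) hy, fun h => absurd ?_ hy⟩
      have := J.mul_mem (J.mul_mem (J.inv_mem x.2) (hRJ h)) x.2
      simpa [mul_assoc] using this
  have hiff : ∀ (K : Subgroup G), IsPGroup p K → ∀ g : G,
      ((K.subgroupOf (K ⊔ Subgroup.zpowers g)).IsSubnormal ↔ ∃ R : Subgroup G, K ≤ R ∧
        (Cfsg.pCore p (Subgroup.normalizer (R : Set G))).map (Subgroup.normalizer (R : Set G)).subtype = R ∧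
        g ∈ Subgroup.normalizer (R : Set G)) := by
    intro K hK g
    rw [CfsgLib.FGStruct.Subnormalizer.isSubnormal_sup_zpowers_iff hK]
    constructor
    · intro h
      obtain ⟨R, ⟨hKR, hR, hg⟩, hmax⟩ := (Set.toFinite {R : Subgroup G | K ≤ R ∧ IsPGroup p R ∧
        g ∈ Subgroup.normalizer (R : Set G)}).exists_maximal h
      refine ⟨R, hKR, ?_, hg⟩
      have hle : R ≤ (Cfsg.pCore p (Subgroup.normalizer (R : Set G))).map (Subgroup.normalizer (R : Set G)).subtype :=
        CfsgLib.CharP.subgroup_le_pCore_map Subgroup.le_normalizer le_rfl hR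
      exact le_antisymm (hmax ⟨hKR.trans hle, CfsgLib.CharP.pCore_isPGroup'.map _,
        CfsgLib.CharP.le_normalizer_pCore_map _ hg⟩ hle) hle
    · rintro ⟨R, hKR, hrad, hg⟩
      exact ⟨R, hKR, hrad ▸ CfsgLib.CharP.pCore_isPGroup'.map _, hg⟩
  refine ⟨Set.ext fun g => hiff H hH g, fun g => ?_⟩
  set I := sInf {K : Subgroup G | ∃ Q : Sylow p G, H ≤ (Q : Subgroup G) ∧ K = (Q : Subgroup G)} with hI
  have hHI : H ≤ I := le_sInf fun K ⟨Q, hQ, e⟩ => e ▸ hQ
  obtain ⟨Q, hQ⟩ := hH.exists_le_sylow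
  rw [hiff H hH g, hiff I (Q.isPGroup'.to_le (sInf_le ⟨Q, hQ, rfl⟩)) g]
  constructor
  · rintro ⟨R, hHR, hrad, hg⟩
    refine ⟨R, ?_, hrad, hg⟩
    rw [radical R (hrad ▸ CfsgLib.CharP.pCore_isPGroup'.map _) hrad]
    exact sInf_le_sInf fun K ⟨Q, hQ, e⟩ => ⟨Q, hHR.trans hQ, e⟩
  · rintro ⟨R, hIR, hrad, hg⟩
    exact ⟨R, hHI.trans hIR, hrad, hg⟩

end Cfsg.Agent.S4089
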