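import Cfsg.Statements.S4090
import Cfsg.Agent.Lib.FGStruct.Subnormalizer

set_option autoImplicit false
open scoped BigOperators
open Cfsg Pointwise

namespace Cfsg.Agent.S4090

/-- Let G be a finite p-solvable group, H a p-subgroup of G and P a Sylow p-subgroup, and fix a chain of normal subgroups 1 = M₀ ≤ M₁ ≤ ⋯ ≤ Mₙ = G of G each of whose factors is a p-group or a p'-group. Then the number of elements g of G such that H is subnormal in the subgroup generated by H and g equals the order of P times the product, over the factors Mᵢ₊₁/Mᵢ of order prime to p, of the order of the centralizer of H in Mᵢ₊₁/Mᵢ (counted as the number of u ∈ Mᵢ₊₁ with [h, u] ∈ Mᵢ for all h ∈ H, divided by the order of Mᵢ). -/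
theorem result {G : Type*} [Group G] [Finite G] (p : ℕ) [Fact p.Prime]
    (hG : Cfsg.IsPSolvable p G) (H : Subgroup G) (hH : IsPGroup p H) (P : Sylow p G)
    (n : ℕ) (M : Fin (n + 1) → Subgroup G) (h0 : M 0 = ⊥) (hn : M (Fin.last n) = ⊤) (hmono : Monotone M)
    (hnormal : ∀ i, (M i).Normal)
    (hfac : ∀ i : Fin n, (∃ m : ℕ, (M i.castSucc).relIndex (M i.succ) = p ^ m) ∨ ((M i.castSucc).relIndex (M i.succ)).Coprime p) :
    Nat.card {g : G // ((H).subgroupOf (H ⊔ Subgroup.zpowers g)).IsSubnormal} =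
      Nat.card (P : Subgroup G) *
        ∏ i : Fin n, (if ((M i.castSucc).relIndex (M i.succ)).Coprime p then
          Nat.card {u : G // u ∈ M i.succ ∧ ∀ h ∈ H, h * u * h⁻¹ * u⁻¹ ∈ M i.castSucc} / Nat.card (M i.castSucc)
          else 1) := by
  classical
  haveI : Fintype G := Fintype.ofFinite G
  rw [CfsgLib.FGStruct.Subnormalizer.card_subnormalizer hH P]
  haveI : ∀ i, (M i).Normal := hnormal
  -- the sets of elements conjugating `H` into `P M`
  let S : Subgroup G → Finset G := fun A => Finset.univ.filter fun y => ∀ h ∈ H, y * h * y⁻¹ ∈ (P : Subgroup G) ⊔ A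
  let C : Subgroup G → Subgroup G → Finset G := fun A B =>
    Finset.univ.filter fun u => u ∈ B ∧ ∀ h ∈ H, h * u * h⁻¹ * u⁻¹ ∈ A
  have hsubA : ∀ (A B : Subgroup G) [A.Normal] [B.Normal] (K : Subgroup G), ∃ D : Subgroup G,
      (D : Set G) = {u : G | u ∈ B ∧ ∀ h ∈ K, h * u * h⁻¹ * u⁻¹ ∈ A} := by
    intro A B _ _ K
    refine ⟨{ carrier := {u : G | u ∈ B ∧ ∀ h ∈ K, h * u * h⁻¹ * u⁻¹ ∈ A}
              one_mem' := ⟨B.one_mem, fun h _ => by simp⟩
              mul_mem' := ?_
              inv_mem' := ?_ }, rfl⟩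
    · intro u v hu hv
      refine ⟨B.mul_mem hu.1 hv.1, fun h hh => ?_⟩
      have e : h * (u * v) * h⁻¹ * (u * v)⁻¹ = (h * u * h⁻¹ * u⁻¹) * (u * (h * v * h⁻¹ * v⁻¹) * u⁻¹) := by
        simp [mul_assoc]
      rw [e]; exact A.mul_mem (hu.2 h hh) (Subgroup.Normal.conj_mem inferInstance _ (hv.2 h hh) u)
    · intro u hu
      refine ⟨B.inv_mem hu.1, fun h hh => ?_⟩
      have e : h * u⁻¹ * h⁻¹ * u⁻¹⁻¹ = u⁻¹ * (h * u * h⁻¹ * u⁻¹)⁻¹ * u := by simp [mul_assoc]
      rw [e]
      simpa using Subgroup.Normal.conj_mem inferInstance _ (A.inv_mem (hu.2 h hh)) u⁻¹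
  -- the step over one factor
  have step : ∀ (A B : Subgroup G) [A.Normal] [B.Normal], A ≤ B → (A.relIndex B).Coprime p →
      (S A).card * Nat.card B = (S B).card * (C A B).card := by
    intro A B _ _ hAB hcop
    have hcard : (Finset.univ.filter fun u : G => u ∈ B).card = Nat.card B := by
      rw [Nat.card_eq_fintype_card, Fintype.card_subtype]
    have hSS : ∀ y ∈ S A, y ∈ S B := by
      intro y hy
      simp only [S, Finset.mem_filter, Finset.mem_univ, true_and] at hy ⊢
      exact fun h hh => (sup_le_sup_left hAB _ : (P : Subgroup G) ⊔ A ≤ _) (hy h hh)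
    have hinv : ∀ u ∈ B, ∀ y ∈ S B, u * y ∈ S B := by
      intro u hu y hy
      simp only [S, Finset.mem_filter, Finset.mem_univ, true_and] at hy ⊢
      intro h hh
      have e : u * y * h * (u * y)⁻¹ = u * (y * h * y⁻¹) * u⁻¹ := by simp [mul_assoc]
      rw [e]
      exact Subgroup.mul_mem _ (Subgroup.mul_mem _ (Subgroup.mem_sup_right hu) (hy h hh))
        (Subgroup.mem_sup_right (B.inv_mem hu))
    have hPB : ∀ z ∈ (P : Subgroup G), z ∈ B → z ∈ A := by
      intro z hzP hzB
      obtain ⟨k, hk⟩ := P.isPGroup' ⟨z, hzP⟩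
      have hk' : z ^ p ^ k = 1 := congrArg Subtype.val hk
      have h2 := Subgroup.pow_index_mem (A.subgroupOf B) (⟨z, hzB⟩ : B)
      change z ^ A.relIndex B ∈ A at h2
      have h3 : (QuotientGroup.mk' A z) ^ A.relIndex B = 1 := by
        rw [← map_pow]; exact (QuotientGroup.eq_one_iff _).mpr h2
      have h4 : (QuotientGroup.mk' A z) ^ p ^ k = 1 := by rw [← map_pow, hk', map_one]
      refine (QuotientGroup.eq_one_iff _).mp (orderOf_eq_one_iff.mp (Nat.eq_one_of_dvd_coprimes
        (Nat.Coprime.pow_right k hcop) (orderOf_dvd_of_pow_eq_one h3) (orderOf_dvd_of_pow_eq_one h4)))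
    have hYB : ∀ z ∈ (P : Subgroup G) ⊔ A, z ∈ B → z ∈ A := by
      intro z hz hzB
      obtain ⟨a, ha, x, hx, rfl⟩ := Subgroup.mem_sup_of_normal_right.mp hz
      refine A.mul_mem (hPB a ha ?_) hx
      simpa using B.mul_mem hzB (B.inv_mem (hAB hx))
    have hfib : ∀ y ∈ S B, ((Finset.univ.filter fun u : G => u ∈ B).filter fun u => u * y ∈ S A).card = (C A B).card := by
      intro y hy
      simp only [S, Finset.mem_filter, Finset.mem_univ, true_and] at hy
      obtain ⟨u₀, hu₀, hu₀y⟩ : ∃ u₀ ∈ B, ∀ h ∈ H, u₀ * y * h * (u₀ * y)⁻¹ ∈ (P : Subgroup G) := by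
        set Y := (P : Subgroup G) ⊔ B
        have hPY : (P : Subgroup G) ≤ Y := le_sup_left
        let K : Subgroup G := H.map (MulAut.conj y).toMonoidHom
        have hKY : K ≤ Y := by
          rintro _ ⟨h, hh, rfl⟩
          exact hy h hh
        obtain ⟨R, hR⟩ := ((hH.map (MulAut.conj y).toMonoidHom).comap_subtype (K := Y)).exists_le_sylow
        obtain ⟨z, hz⟩ := MulAction.exists_smul_eq Y R (P.subtype hPY)
        obtain ⟨a, ha, u, hu, hau⟩ := Subgroup.mem_sup_of_normal_right.mp z.2
        refine ⟨u, hu, fun h hh => ?_⟩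
        have hkR : (⟨y * h * y⁻¹, hy h hh⟩ : Y) ∈ (R : Subgroup Y) := hR ⟨h, hh, rfl⟩
        have hzR : z * ⟨y * h * y⁻¹, hy h hh⟩ * z⁻¹ ∈ ((z • R : Sylow p Y) : Subgroup Y) := by
          rw [Sylow.coe_subgroup_smul, CfsgLib.Solvable.mem_conj_smul]
          simpa [mul_assoc] using hkR
        rw [hz] at hzR
        have hzP : a * u * (y * h * y⁻¹) * (a * u)⁻¹ ∈ (P : Subgroup G) := by
          rw [hau]; exact hzR
        have e : u * y * h * (u * y)⁻¹ = a⁻¹ * (a * u * (y * h * y⁻¹) * (a * u)⁻¹) * a := by simp [mul_assoc]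
        rw [e]
        exact Subgroup.mul_mem _ (Subgroup.mul_mem _ (Subgroup.inv_mem _ ha) hzP) ha
      set g := u₀ * y with hg
      refine (Finset.card_bij (fun v _ => g * v * g⁻¹ * u₀) ?_ ?_ ?_).symm
      · intro v hv
        simp only [C, S, Finset.mem_filter, Finset.mem_univ, true_and] at hv ⊢
        refine ⟨B.mul_mem (Subgroup.Normal.conj_mem inferInstance _ hv.1 g) hu₀, fun h hh => ?_⟩
        have e : g * v * g⁻¹ * u₀ * y * h * (g * v * g⁻¹ * u₀ * y)⁻¹ =
            (g * (h * v * h⁻¹ * v⁻¹)⁻¹ * g⁻¹) * (g * h * g⁻¹) := by simp [hg, mul_assoc]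
        rw [e]
        refine Subgroup.mul_mem _ (Subgroup.mem_sup_right
          (Subgroup.Normal.conj_mem inferInstance _ (A.inv_mem ?_) g)) (Subgroup.mem_sup_left (hu₀y h hh))
        exact hv.2 h hh
      · intro v _ w _ hvw
        simpa using hvw
      · intro u hu
        simp only [C, S, Finset.mem_filter, Finset.mem_univ, true_and] at hu ⊢
        set u' := u * u₀⁻¹ with hu'
        have hu'B : u' ∈ B := B.mul_mem hu.1 (B.inv_mem hu₀)
        refine ⟨g⁻¹ * u' * g, ⟨by simpa using Subgroup.Normal.conj_mem inferInstance _ hu'B g⁻¹, fun h hh => ?_⟩,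
          by simp [hu', mul_assoc]⟩
        have hk : u' * (g * h * g⁻¹) * u'⁻¹ * (g * h * g⁻¹)⁻¹ ∈ A := by
          refine hYB _ ?_ ?_
          · refine Subgroup.mul_mem _ ?_ (Subgroup.inv_mem _ (Subgroup.mem_sup_left (hu₀y h hh)))
            have e : u' * (g * h * g⁻¹) * u'⁻¹ = u * y * h * (u * y)⁻¹ := by simp [hu', hg, mul_assoc]
            rw [e]; exact hu.2 h hh
          · rw [mul_assoc u', mul_assoc u']
            exact B.mul_mem hu'B (Subgroup.Normal.conj_mem inferInstance _ (B.inv_mem hu'B) _)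
        have e : h * (g⁻¹ * u' * g) * h⁻¹ * (g⁻¹ * u' * g)⁻¹ =
            g⁻¹ * (u' * (g * h * g⁻¹) * u'⁻¹ * (g * h * g⁻¹)⁻¹)⁻¹ * g := by simp [mul_assoc]
        rw [e]
        simpa using Subgroup.Normal.conj_mem inferInstance _ (A.inv_mem hk) g⁻¹
    have hL : ∀ u ∈ Finset.univ.filter (fun u : G => u ∈ B), ((S B).filter fun y => u * y ∈ S A).card = (S A).card := by
      intro u hu
      simp only [Finset.mem_filter, Finset.mem_univ, true_and] at hu
      refine Finset.card_bij (fun y _ => u * y) (fun y hy => (Finset.mem_filter.mp hy).2)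
        (fun y _ z _ h => by simpa using h) (fun z hz => ⟨u⁻¹ * z, ?_, by simp⟩)
      exact Finset.mem_filter.mpr ⟨hinv u⁻¹ (B.inv_mem hu) z (hSS z hz), by simpa using hz⟩
    have h := Finset.sum_card_bipartiteAbove_eq_sum_card_bipartiteBelow
      (s := Finset.univ.filter fun u : G => u ∈ B) (t := S B) (fun u y => u * y ∈ S A)
    simp only [Finset.bipartiteAbove, Finset.bipartiteBelow] at h
    rw [Finset.sum_congr rfl hL, Finset.sum_congr rfl hfib, Finset.sum_const, Finset.sum_const,
      smul_eq_mul, smul_eq_mul, hcard] at h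
    rw [mul_comm]; exact h
  -- a `p`-factor changes nothing
  have pstep : ∀ (A B : Subgroup G) [A.Normal] [B.Normal], A ≤ B → (∃ m, A.relIndex B = p ^ m) →
      (S A).card = (S B).card := by
    intro A B _ _ hAB hm
    obtain ⟨m, hm⟩ := hm
    have hBp : IsPGroup p ↥(B.map (QuotientGroup.mk' A)) := by
      rintro ⟨x, b, hb, rfl⟩
      refine ⟨m, Subtype.ext ?_⟩
      show (QuotientGroup.mk' A b) ^ p ^ m = 1
      rw [← map_pow]
      refine (QuotientGroup.eq_one_iff _).mpr ?_
      have := Subgroup.pow_index_mem (A.subgroupOf B) (⟨b, hb⟩ : B)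
      change b ^ A.relIndex B ∈ A at this
      rwa [hm] at this
    haveI : (B.map (QuotientGroup.mk' A)).Normal :=
      Subgroup.Normal.map inferInstance _ (QuotientGroup.mk'_surjective A)
    have hle := hBp.le_sylow_of_normal (P.mapSurjective (QuotientGroup.mk'_surjective A))
    rw [Sylow.coe_mapSurjective, Subgroup.map_le_map_iff, QuotientGroup.ker_mk'] at hle
    have heq : (P : Subgroup G) ⊔ A = (P : Subgroup G) ⊔ B :=
      le_antisymm (sup_le_sup_left hAB _) (sup_le le_sup_left hle)
    simp only [S, heq]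
  have tele : ∀ (n : ℕ) (f : Fin (n + 1) → ℕ) (c r : Fin n → ℕ),
      (∀ i : Fin n, f i.succ * c i = f i.castSucc * r i) → f 0 * ∏ i, r i = f (Fin.last n) * ∏ i, c i := by
    intro n
    induction n with
    | zero => intro f c r _; simp
    | succ n ih =>
      intro f c r h
      have h1 := ih (fun j => f j.castSucc) (fun i => c i.castSucc) (fun i => r i.castSucc)
        (fun i => by have := h i.castSucc; rwa [Fin.succ_castSucc] at this)
      have h2 := h (Fin.last n)
      simp only [Fin.castSucc_zero, Fin.succ_last] at h1 h2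
      rw [Fin.prod_univ_castSucc, Fin.prod_univ_castSucc]
      calc f 0 * ((∏ i : Fin n, r i.castSucc) * r (Fin.last n))
          = (f 0 * ∏ i : Fin n, r i.castSucc) * r (Fin.last n) := by ring
        _ = (f (Fin.last n).castSucc * r (Fin.last n)) * ∏ i : Fin n, c i.castSucc := by rw [h1]; ring
        _ = _ := by rw [← h2]; ring
  have hle : ∀ i : Fin n, M i.castSucc ≤ M i.succ := fun i => hmono (Fin.castSucc_le_succ i)
  set R : Fin n → ℕ := fun i => (M i.castSucc).relIndex (M i.succ) with hR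
  have hMr : ∀ i : Fin n, Nat.card (M i.castSucc) * R i = Nat.card (M i.succ) := by
    intro i
    have h := Subgroup.relIndex_mul_relIndex ⊥ (M i.castSucc) (M i.succ) bot_le (hle i)
    simpa [Subgroup.relIndex_bot_left] using h
  set c : Fin n → ℕ := fun i => if (R i).Coprime p then
      Nat.card {u : G // u ∈ M i.succ ∧ ∀ h ∈ H, h * u * h⁻¹ * u⁻¹ ∈ M i.castSucc} / Nat.card (M i.castSucc)
      else 1 with hc
  set r : Fin n → ℕ := fun i => if (R i).Coprime p then R i else 1 with hr
  have hstep : ∀ i : Fin n, (S (M i.succ)).card * c i = (S (M i.castSucc)).card * r i := by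
    intro i
    simp only [hc, hr]
    split_ifs with hcop
    · obtain ⟨D, hD⟩ := hsubA (M i.castSucc) (M i.succ) H
      have hCD : Nat.card {u : G // u ∈ M i.succ ∧ ∀ h ∈ H, h * u * h⁻¹ * u⁻¹ ∈ M i.castSucc} = Nat.card D := by
        show _ = Nat.card ((D : Set G) : Type _)
        rw [hD]; rfl
      have hAD : M i.castSucc ≤ D := by
        intro u hu
        rw [← SetLike.mem_coe, hD]
        refine ⟨hle i hu, fun h _ => ?_⟩
        exact Subgroup.mul_mem _ (Subgroup.Normal.conj_mem inferInstance _ hu h) (Subgroup.inv_mem _ hu)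
      have hCC : (C (M i.castSucc) (M i.succ)).card = Nat.card D := by
        rw [← hCD, Nat.card_eq_fintype_card, Fintype.card_subtype]
      have h := step (M i.castSucc) (M i.succ) (hle i) hcop
      rw [hCC, ← hMr i, ← Nat.mul_div_cancel' (Subgroup.card_dvd_of_le hAD)] at h
      rw [hCD]
      refine Nat.eq_of_mul_eq_mul_left (Nat.card_pos (α := M i.castSucc)) ?_
      calc Nat.card (M i.castSucc) * ((S (M i.succ)).card * (Nat.card D / Nat.card (M i.castSucc)))
          = (S (M i.succ)).card * (Nat.card (M i.castSucc) * (Nat.card D / Nat.card (M i.castSucc))) := by ring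
        _ = (S (M i.castSucc)).card * (Nat.card (M i.castSucc) * R i) := h.symm
        _ = _ := by ring
    · rw [mul_one, mul_one]
      exact ((pstep _ _ (hle i) ((hfac i).resolve_right hcop))).symm
  have h1 := tele n (fun j => (S (M j)).card) c r hstep
  have htop : (S (M (Fin.last n))).card = Nat.card G := by
    rw [hn, Nat.card_eq_fintype_card]
    simp [S]
  have hzero : Nat.card {x : G // H ≤ ((x • P : Sylow p G) : Subgroup G)} = (S (M 0)).card := by
    rw [h0, Nat.card_eq_fintype_card, Fintype.card_subtype]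
    refine Finset.card_bij (fun x _ => x⁻¹) ?_ (fun x _ y _ h => inv_injective h) ?_
    · intro x hx
      simp only [S, Finset.mem_filter, Finset.mem_univ, true_and, sup_bot_eq] at hx ⊢
      intro h hh
      have := hx hh
      rw [Sylow.coe_subgroup_smul, CfsgLib.Solvable.mem_conj_smul] at this
      simpa using this
    · intro y hy
      refine ⟨y⁻¹, ?_, inv_inv y⟩
      simp only [S, Finset.mem_filter, Finset.mem_univ, true_and, sup_bot_eq] at hy ⊢
      intro h hh
      rw [Sylow.coe_subgroup_smul, CfsgLib.Solvable.mem_conj_smul, inv_inv]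
      exact hy h hh
  have hall : (∏ i, r i) * ∏ i, (if (R i).Coprime p then 1 else R i) = Nat.card G := by
    have h2 := tele n (fun j => Nat.card (M j)) (fun _ => 1) R (fun i => by rw [mul_one]; exact (hMr i).symm)
    rw [h0, hn, Subgroup.card_bot, Subgroup.card_top, one_mul, Finset.prod_const_one, mul_one] at h2
    rw [← Finset.prod_mul_distrib, ← h2]
    refine Finset.prod_congr rfl fun i _ => ?_
    simp only [hr]
    split_ifs <;> simp
  have hP : ∏ i, (if (R i).Coprime p then 1 else R i) = Nat.card (P : Subgroup G) := by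
    have hcr : (∏ i, r i).Coprime p := Nat.Coprime.prod_left fun i _ => by
      simp only [hr]
      split_ifs with h
      · exact h
      · exact Nat.coprime_one_left p
    obtain ⟨a, ha⟩ : ∃ a, ∏ i, (if (R i).Coprime p then 1 else R i) = p ^ a := by
      refine Finset.prod_induction _ (fun x => ∃ a, x = p ^ a)
        (fun x y ⟨a, ha⟩ ⟨b, hb⟩ => ⟨a + b, by rw [ha, hb, pow_add]⟩) ⟨0, rfl⟩ fun i _ => ?_
      split_ifs with h
      · exact ⟨0, rfl⟩
      · exact (hfac i).resolve_right h
    obtain ⟨b, hb⟩ := IsPGroup.iff_card.mp P.isPGroup'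
    have hPG := (P : Subgroup G).card_mul_index
    rw [← hall, ha, hb] at hPG
    rw [ha, hb]
    apply Nat.dvd_antisymm
    · refine Nat.Coprime.dvd_of_dvd_mul_right ?_ (Dvd.intro_left _ hPG.symm)
      exact Nat.Coprime.pow_left a ((Nat.Prime.coprime_iff_not_dvd Fact.out).mpr P.not_dvd_index)
    · exact Nat.Coprime.dvd_of_dvd_mul_left (hcr.symm.pow_left b) (Dvd.intro _ hPG)
  rw [htop, ← hall, hP, ← hzero] at h1
  have hr0 : 0 < ∏ i, r i := Nat.pos_of_ne_zero fun h0' => by
    rw [h0', zero_mul] at hall; exact Nat.card_pos.ne hall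
  refine Nat.eq_of_mul_eq_mul_left hr0 ?_
  rw [mul_comm _ (Nat.card {x : G // H ≤ ((x • P : Sylow p G) : Subgroup G)}), h1]
  ring

end Cfsg.Agent.S4090
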