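import Cfsg.Statements.S4091
import Cfsg.Agent.Lib.Solvable.CoprimeAction
import Cfsg.Agent.Lib.Solvable.PSolvableHall
import Cfsg.Agent.Lib.PLocal.HallHigman
import Cfsg.Agent.Lib.PGroup.Basic
import Mathlib.Analysis.MeanInequalities

set_option autoImplicit false
set_option linter.style.haveILetI false
set_option linter.unusedSectionVars false
open Cfsg

namespace Cfsg.Agent.S4091

open Subgroup

universe u

/-- Order of the centraliser of `x` in `V`. -/
noncomputable def cf {G : Type*} [Group G] (V : Subgroup G) (x : G) : ℕ :=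
  Nat.card (V ⊓ centralizer ({x} : Set G) : Subgroup G)

/-- Order of the centraliser of `A` in `V`. -/
noncomputable def cfix {G : Type*} [Group G] (V A : Subgroup G) : ℕ :=
  Nat.card (V ⊓ centralizer (A : Set G) : Subgroup G)

section CoprimeProduct

variable {G : Type*} [Group G] [Finite G] {p : ℕ} [hp : Fact p.Prime]

omit [Finite G] hp in
/-- Conjugation is a homomorphism on an invariant subgroup. -/
theorem conj_noncommProd {V : Subgroup G} {x : G} (hV : ∀ v ∈ V, x * v * x⁻¹ ∈ V)
    [IsMulCommutative V] (n : ℕ) (c : ℕ → V) :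
    x * ((List.ofFn fun i : Fin n => c i).prod : V) * x⁻¹ =
      ((List.ofFn fun i : Fin n => (⟨x * c i * x⁻¹, hV _ (c i).2⟩ : V)).prod : V) := by
  induction n generalizing c with
  | zero => simp
  | succ n ih =>
    rw [List.ofFn_succ, List.ofFn_succ, List.prod_cons, List.prod_cons, Subgroup.coe_mul,
      Subgroup.coe_mul]
    have := ih (fun i => c (i + 1))
    simp only [Fin.val_succ, Fin.val_zero] at *
    rw [← this]
    group

/-- The key inequality on one coset of a central subgroup of order `p`. -/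
theorem coset_ineq {V : Subgroup G} [IsMulCommutative V] {A : Subgroup G}
    (hAV : A ≤ normalizer (V : Set G)) (hcop : (Nat.card V).Coprime p) {x z : G} (hx : x ∈ A)
    (hz : z ∈ A) (hzp : ∀ v ∈ V, z ^ p * v = v * z ^ p)
    (hxz : ∀ v ∈ V, x * z * v * (x * z)⁻¹ = z * x * v * (z * x)⁻¹) :
    (∏ i : Fin p, cf V (x * z ^ (i : ℕ))) * Nat.card (V ⊓ centralizer {z} : Subgroup G) ≤
      Nat.card V * cf (V ⊓ centralizer {z}) x ^ p := by
  classical
  set W := V ⊓ centralizer ({z} : Set G) with hW
  set D := W ⊓ centralizer ({x} : Set G) with hD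
  letI : CommGroup V := { (inferInstance : Group V) with
    mul_comm := (IsMulCommutative.is_comm (M := V)).comm }
  have hnorm : ∀ g ∈ A, ∀ v ∈ V, g * v * g⁻¹ ∈ V := fun g hg v hv =>
    ((Subgroup.mem_normalizer_iff.mp (hAV hg)) v).mp hv
  -- the endomorphisms given by `x` and `z`
  let X : V →* V := { toFun := fun v => ⟨x * v * x⁻¹, hnorm x hx v v.2⟩
                      map_one' := Subtype.ext (by simp)
                      map_mul' := fun a b => Subtype.ext (by simp [mul_assoc]) }
  let Zf : V →* V := { toFun := fun v => ⟨z * v * z⁻¹, hnorm z hz v v.2⟩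
                       map_one' := Subtype.ext (by simp)
                       map_mul' := fun a b => Subtype.ext (by simp [mul_assoc]) }
  have hZcoe : ∀ (j : ℕ) (v : V), (((Zf : V → V)^[j]) v : G) = z ^ j * v * (z ^ j)⁻¹ := by
    intro j
    induction j with
    | zero => intro v; simp
    | succ j ih =>
      intro v
      rw [Function.iterate_succ_apply']
      show z * (((Zf : V → V)^[j]) v : G) * z⁻¹ = _
      rw [ih, pow_succ']; group
  have hXcoe : ∀ (j : ℕ) (v : V), (((X : V → V)^[j]) v : G) = x ^ j * v * (x ^ j)⁻¹ := by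
    intro j
    induction j with
    | zero => intro v; simp
    | succ j ih =>
      intro v
      rw [Function.iterate_succ_apply']
      show x * (((X : V → V)^[j]) v : G) * x⁻¹ = _
      rw [ih, pow_succ']; group
  have hXZ : ∀ v, X (Zf v) = Zf (X v) := fun v => Subtype.ext (by
    show x * (z * v * z⁻¹) * x⁻¹ = z * (x * v * x⁻¹) * z⁻¹
    calc x * (z * v * z⁻¹) * x⁻¹ = x * z * v * (x * z)⁻¹ := by group
      _ = z * x * v * (z * x)⁻¹ := hxz v v.2
      _ = z * (x * v * x⁻¹) * z⁻¹ := by group)
  have hZp : ∀ v, ((Zf : V → V)^[p]) v = v := fun v => Subtype.ext (by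
    rw [hZcoe, hzp v v.2, mul_inv_cancel_right])
  have hZmul : ∀ (n : ℕ) (v : V), ((Zf : V → V)^[p * n]) v = v := by
    intro n
    induction n with
    | zero => intro v; simp
    | succ n ih => intro v; rw [Nat.mul_succ, Function.iterate_add_apply, hZp, ih]
  have hZmod : ∀ (n : ℕ) (v : V), ((Zf : V → V)^[n]) v = ((Zf : V → V)^[n % p]) v := by
    intro n v
    conv_lhs => rw [← Nat.mod_add_div n p, Function.iterate_add_apply, hZmul]
  have hXZit : ∀ (n : ℕ) (v : V), X (((Zf : V → V)^[n]) v) = ((Zf : V → V)^[n]) (X v) := by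
    intro n
    induction n with
    | zero => intro v; rfl
    | succ n ih => intro v; rw [Function.iterate_succ_apply', Function.iterate_succ_apply', hXZ, ih]
  let C : Fin p → Subgroup G := fun i => V ⊓ centralizer {x * z ^ (i : ℕ)}
  have hCV : ∀ i, C i ≤ V := fun i => inf_le_left
  -- `x` acts on `C i` as `z ^ (-i)`
  have hXc : ∀ (i : Fin p) (c : V), (c : G) ∈ C i →
      ((Zf : V → V)^[(i : ℕ)]) (X c) = c := by
    intro i c hc
    have h2 := (Subgroup.mem_centralizer_singleton_iff.mp hc.2)
    have h3 : X (((Zf : V → V)^[(i : ℕ)]) c) = c := Subtype.ext (by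
      show x * (((Zf : V → V)^[(i : ℕ)]) c : G) * x⁻¹ = c
      rw [hZcoe]
      calc x * (z ^ (i : ℕ) * c * (z ^ (i : ℕ))⁻¹) * x⁻¹
          = (x * z ^ (i : ℕ) * c) * (x * z ^ (i : ℕ))⁻¹ := by group
        _ = (c * (x * z ^ (i : ℕ))) * (x * z ^ (i : ℕ))⁻¹ := by rw [← h2]
        _ = c := mul_inv_cancel_right _ _)
    rwa [hXZit] at h3
  have hXj : ∀ (i : Fin p) (c : V), (c : G) ∈ C i → ∀ j : ℕ,
      ((X : V → V)^[j]) c = ((Zf : V → V)^[(p - i) * j]) c := by
    intro i c hc j
    have h1 : X c = ((Zf : V → V)^[p - i]) c := by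
      conv_rhs => rw [← hXc i c hc, ← Function.iterate_add_apply,
        show p - (i : ℕ) + i = p by omega, hZp]
    induction j with
    | zero => simp
    | succ j ih =>
      rw [Function.iterate_succ_apply', ih, hXZit, h1, ← Function.iterate_add_apply,
        Nat.mul_succ]
  let Φ : (∀ i, C i) → V := fun c => ∏ i, (⟨c i, hCV i (c i).2⟩ : V)
  -- tuples with product in `W` lie in `D`
  have hkey : ∀ c : ∀ i, C i, (Φ c : G) ∈ W → ∀ i, (c i : G) ∈ D := by
    intro c hc k
    let e : Fin p → V := fun i => ⟨c i, hCV i (c i).2⟩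
    obtain ⟨w, hwdef⟩ : ∃ w, w = Φ c := ⟨_, rfl⟩
    have hwfix : Zf w = w := Subtype.ext (by
      show z * (w : G) * z⁻¹ = w
      rw [hwdef, ← Subgroup.mem_centralizer_singleton_iff.mp hc.2, mul_inv_cancel_right])
    have hwfix' : ∀ n : ℕ, ((Zf : V → V)^[n]) w = w := by
      intro n
      induction n with
      | zero => rfl
      | succ n ih => rw [Function.iterate_succ_apply', ih, hwfix]
    have hit : ∀ (f : V →* V) (n : ℕ) (g : Fin p → V),
        ((f : V → V)^[n]) (∏ i, g i) = ∏ i, ((f : V → V)^[n]) (g i) := by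
      intro f n
      induction n with
      | zero => intro g; rfl
      | succ n ih => intro g; simp only [Function.iterate_succ_apply', ih, map_prod]
    have hXfix : ∀ (n : ℕ) (v : V), Zf v = v → Zf (((X : V → V)^[n]) v) = ((X : V → V)^[n]) v := by
      intro n
      induction n with
      | zero => intro v hv; exact hv
      | succ n ih => intro v hv; rw [Function.iterate_succ_apply', ← hXZ, ih v hv]
    have hXfix' : ∀ (n m : ℕ) (v : V), Zf v = v →
        ((Zf : V → V)^[m]) (((X : V → V)^[n]) v) = ((X : V → V)^[n]) v := by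
      intro n m v hv
      induction m with
      | zero => rfl
      | succ m ih => rw [Function.iterate_succ_apply', ih, hXfix n v hv]
    -- `Σ_j z^(k j) x^j w = Σ_i Σ_j z^((k - i) j) c i`
    have hsum : (∏ j : Fin p, ((X : V → V)^[(j : ℕ)]) w) =
        ∏ i : Fin p, ∏ j : Fin p, ((Zf : V → V)^[(k + (p - i)) * j]) (e i) := by
      rw [Finset.prod_comm]
      refine Finset.prod_congr rfl fun j _ => ?_
      rw [← hXfix' j ((k : ℕ) * j) w hwfix, hwdef, hit, hit]
      refine Finset.prod_congr rfl fun i _ => ?_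
      rw [hXj i (e i) (c i).2, ← Function.iterate_add_apply, Nat.add_mul]
    -- inner products for `i ≠ k` are fixed by `z`
    have hinner : ∀ i : Fin p, i ≠ k →
        Zf (∏ j : Fin p, ((Zf : V → V)^[(k + (p - i)) * j]) (e i)) =
          ∏ j : Fin p, ((Zf : V → V)^[(k + (p - i)) * j]) (e i) := by
      intro i hik
      set m := (k : ℕ) + (p - i) with hm
      have hmne : (m : ZMod p) ≠ 0 := by
        rw [Ne, ZMod.natCast_eq_zero_iff]
        rintro ⟨t, ht⟩
        apply hik
        apply Fin.ext
        have := k.isLt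
        have := i.isLt
        have ht1 : t = 1 := by
          by_contra hne
          rcases Nat.lt_or_ge t 1 with h | h
          · interval_cases t; omega
          · have h2 : p * 2 ≤ p * t := Nat.mul_le_mul_left p (by omega)
            omega
        subst ht1
        omega
      haveI : NeZero p := ⟨hp.out.ne_zero⟩
      obtain ⟨s, hs⟩ : ∃ s : ℕ, (s : ZMod p) * m = 1 :=
        ⟨(m : ZMod p)⁻¹.val, by rw [ZMod.natCast_zmod_val, inv_mul_cancel₀ hmne]⟩
      rw [map_prod]
      let σ : Fin p ≃ Fin p := Equiv.addRight (Fin.ofNat p s)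
      refine Fintype.prod_equiv σ _ _ fun j => ?_
      rw [← Function.iterate_succ_apply' (Zf : V → V)]
      rw [hZmod (m * j + 1), hZmod (m * (σ j : ℕ))]
      have hmod : (m * j + 1) % p = (m * (σ j : ℕ)) % p := by
        show Nat.ModEq p _ _
        rw [← ZMod.natCast_eq_natCast_iff]
        have hσ : ((σ j : ℕ) : ZMod p) = (j : ℕ) + (s : ℕ) := by
          simp [σ, Fin.val_add]
        push_cast
        rw [hσ, mul_add, mul_comm (m : ZMod p) (s : ZMod p), hs]
      rw [hmod]
    have hk' : (∏ j : Fin p, ((Zf : V → V)^[(k + (p - k)) * j]) (e k)) = e k ^ p := by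
      rw [show (k : ℕ) + (p - k) = p by omega]
      rw [Finset.prod_congr (rfl : (Finset.univ : Finset (Fin p)) = _) fun (j : Fin p) _ => hZmul (j : ℕ) (e k),
        Finset.prod_const, Finset.card_univ,
        Fintype.card_fin]
    have hfixl : Zf (∏ j : Fin p, ((X : V → V)^[(j : ℕ)]) w) = ∏ j : Fin p, ((X : V → V)^[(j : ℕ)]) w := by
      rw [map_prod]
      exact Finset.prod_congr rfl fun j _ => hXfix j w hwfix
    have hkfix : Zf (e k ^ p) = e k ^ p := by
      rw [hsum, ← Finset.mul_prod_erase Finset.univ _ (Finset.mem_univ k), hk', map_mul, map_prod,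
        Finset.prod_congr rfl fun i hi => hinner i (Finset.ne_of_mem_erase hi)] at hfixl
      exact mul_right_cancel hfixl
    have hek : Zf (e k) = e k := by
      have h1 : (Zf (e k) * (e k)⁻¹) ^ p = 1 := by
        rw [mul_pow, ← map_pow, hkfix, inv_pow, mul_inv_cancel]
      have h2 : orderOf (Zf (e k) * (e k)⁻¹) = 1 :=
        Nat.eq_one_of_dvd_coprimes hcop (orderOf_dvd_natCard _) (orderOf_dvd_of_pow_eq_one h1)
      rw [orderOf_eq_one_iff, mul_inv_eq_one] at h2
      exact h2
    have hz' : z * (c k : G) * z⁻¹ = c k := congrArg Subtype.val hek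
    have hek' : ∀ n : ℕ, ((Zf : V → V)^[n]) (e k) = e k := by
      intro n
      induction n with
      | zero => rfl
      | succ n ih => rw [Function.iterate_succ_apply', ih, hek]
    have hxk : X (e k) = e k := by
      have h1 := hXj k (e k) (c k).2 1
      rw [Function.iterate_one, hek'] at h1
      exact h1
    have hx' : x * (c k : G) * x⁻¹ = c k := congrArg Subtype.val hxk
    exact ⟨⟨hCV k (c k).2, Subgroup.mem_centralizer_singleton_iff.mpr
      (mul_inv_eq_iff_eq_mul.mp hz').symm⟩,
      Subgroup.mem_centralizer_singleton_iff.mpr (mul_inv_eq_iff_eq_mul.mp hx').symm⟩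
  -- turn into counting
  let Ψ : (∀ i, C i) →* V := MonoidHom.mk' Φ fun c c' => by
    show ∏ i, _ = (∏ i, _) * ∏ i, _
    rw [← Finset.prod_mul_distrib]
    exact Finset.prod_congr rfl fun i _ => Subtype.ext rfl
  have hWV : W ≤ V := inf_le_left
  have hdom : Nat.card (∀ i, C i) = ∏ i : Fin p, cf V (x * z ^ (i : ℕ)) := Nat.card_pi
  have hker_rng : Nat.card Ψ.ker * Nat.card Ψ.range = Nat.card (∀ i, C i) := by
    rw [Subgroup.card_eq_card_quotient_mul_card_subgroup Ψ.ker,
      Nat.card_congr (QuotientGroup.quotientKerEquivRange Ψ).toEquiv, mul_comm]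
  -- the kernel embeds in `D ^ (p - 1)`
  obtain ⟨q, hq⟩ : ∃ q, p = q + 1 := ⟨p - 1, by have := hp.out.pos; omega⟩
  have hker : Nat.card Ψ.ker ≤ Nat.card D ^ q := by
    subst hq
    have hmem : ∀ (c : Ψ.ker) (i : Fin (q + 1)), ((c.1 i : C i) : G) ∈ D := fun c i =>
      hkey c.1 (by
        rw [show Φ c.1 = 1 from MonoidHom.mem_ker.mp c.2]; exact one_mem W) i
    have h := Nat.card_le_card_of_injective
      (fun (c : Ψ.ker) (i : Fin q) => (⟨(c.1 i.succ : G), hmem c i.succ⟩ : D)) (fun c c' hcc => by
      have hs : ∀ i : Fin q, c.1 i.succ = c'.1 i.succ := fun i => Subtype.ext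
        (congrArg Subtype.val (congrFun hcc i) : _)
      have h1 : Φ c.1 = 1 := MonoidHom.mem_ker.mp c.2
      have h2 : Φ c'.1 = 1 := MonoidHom.mem_ker.mp c'.2
      simp only [Φ, Fin.prod_univ_succ, hs] at h1 h2
      apply Subtype.ext
      funext i
      refine Fin.cases ?_ hs i
      have h3 := h1.trans h2.symm
      have h4 := mul_right_cancel h3
      exact Subtype.ext (congrArg Subtype.val h4 :))
    rwa [Nat.card_fun, Nat.card_fin] at h
  -- the range meets `W` in at most `D`
  have hrange : Nat.card Ψ.range * Nat.card W ≤ Nat.card V * Nat.card D := by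
    let W' := W.subgroupOf V
    have hle : Nat.card (Ψ.range ⊓ W' : Subgroup V) ≤ Nat.card D := by
      refine Nat.card_le_card_of_injective (fun w => (⟨(w.1 : V), ?_⟩ : D))
        (fun a b h => Subtype.ext (Subtype.ext (congrArg Subtype.val h :)))
      obtain ⟨⟨c, hc⟩, hcW⟩ := w.2
      have hcW' : (Φ c : G) ∈ W := by
        have : (Ψ c : G) ∈ W := by rw [hc]; exact hcW
        exact this
      have hall := hkey c hcW'
      rw [← hc]
      show ((∏ i, (⟨c i, hCV i (c i).2⟩ : V) : V) : G) ∈ D
      refine Finset.prod_induction _ (fun v : V => (v : G) ∈ D) (fun a b ha hb => mul_mem ha hb)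
        (one_mem D) fun i _ => hall i
    have h1 : Nat.card (Ψ.range ⊓ W' : Subgroup V) * W'.relIndex Ψ.range = Nat.card Ψ.range := by
      rw [← inf_relIndex_right, inf_comm W' Ψ.range, ← relIndex_bot_left (Ψ.range ⊓ W'),
        relIndex_mul_relIndex _ _ _ bot_le inf_le_left, relIndex_bot_left]
    have h2 : W'.relIndex Ψ.range ≤ W'.index := by
      rw [← relIndex_top_right]
      exact relIndex_le_of_le_right le_top index_ne_zero_of_finite
    have h3 : Nat.card W' = Nat.card W := Nat.card_congr (subgroupOfEquivOfLe hWV).toEquiv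
    calc Nat.card Ψ.range * Nat.card W
        = Nat.card (Ψ.range ⊓ W' : Subgroup V) * (W'.relIndex Ψ.range * Nat.card W) := by
          rw [← mul_assoc, h1]
      _ ≤ Nat.card D * (W'.index * Nat.card W) := Nat.mul_le_mul hle (Nat.mul_le_mul_right _ h2)
      _ = Nat.card V * Nat.card D := by
          rw [← h3, mul_comm W'.index, card_mul_index, mul_comm]
  show _ ≤ Nat.card V * Nat.card D ^ p
  calc (∏ i : Fin p, cf V (x * z ^ (i : ℕ))) * Nat.card W
      = Nat.card Ψ.ker * (Nat.card Ψ.range * Nat.card W) := by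
        rw [← hdom, ← hker_rng, mul_assoc]
    _ ≤ Nat.card D ^ q * (Nat.card V * Nat.card D) := Nat.mul_le_mul hker hrange
    _ = Nat.card V * Nat.card D ^ p := by subst hq; ring

/-- The product inequality for abelian `V`. -/
theorem abelian_ineq : ∀ (d : ℕ) (A V : Subgroup G), IsMulCommutative V → IsPGroup p A →
    A ≤ normalizer (V : Set G) → (Nat.card V).Coprime p →
    Nat.card A ≤ d + Nat.card (A ⊓ centralizer (V : Set G) : Subgroup G) →
    ∀ [Fintype A], (∏ x : A, cf V x) ^ p ≤
      Nat.card V ^ Nat.card A * cfix V A ^ (Nat.card A * (p - 1)) := by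
  intro d
  induction d with
  | zero =>
    intro A V _ hA _ _ hd _
    have heq : A ⊓ centralizer (V : Set G) = A :=
      eq_of_le_of_card_ge inf_le_left (by simpa using hd)
    have hfix : ∀ x ∈ A, V ≤ centralizer ({x} : Set G) := fun x hx v hv => by
      rw [← heq] at hx
      exact Subgroup.mem_centralizer_singleton_iff.mpr (mem_centralizer_iff.mp hx.2 v hv)
    have h1 : ∀ x : A, cf V x = Nat.card V := fun x => by
      rw [cf, inf_eq_left.mpr (hfix x x.2)]
    have h2 : cfix V A = Nat.card V := by
      rw [cfix, inf_eq_left.mpr]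
      intro v hv
      rw [mem_centralizer_iff]
      intro a ha
      exact (Subgroup.mem_centralizer_singleton_iff.mp (hfix a ha hv)).symm
    rw [Finset.prod_congr rfl (fun x _ => h1 x), Finset.prod_const, Finset.card_univ,
      ← Nat.card_eq_fintype_card, h2, ← pow_mul, ← pow_add]
    obtain ⟨q, hq⟩ : ∃ q, p = q + 1 := ⟨p - 1, by have := hp.out.pos; omega⟩
    subst hq
    rw [Nat.add_sub_cancel]
    exact le_of_eq (by ring_nf)
  | succ d ih =>
    intro A V hVc hA hAV hcop hd _
    set A₀ := A ⊓ centralizer (V : Set G) with hA₀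
    by_cases heq : A₀ = A
    · exact ih A V hVc hA hAV hcop (by rw [← hA₀, heq]; omega)
    haveI := hVc
    haveI : (A₀.subgroupOf A).Normal := by
      refine ⟨fun a ha g => ?_⟩
      rw [mem_subgroupOf] at ha ⊢
      refine ⟨A.mul_mem (A.mul_mem g.2 ha.1) (A.inv_mem g.2), mem_centralizer_iff.mpr fun v hv => ?_⟩
      have hv' : (g : G)⁻¹ * v * g ∈ V :=
        ((Subgroup.mem_normalizer_iff''.mp (hAV g.2)) v).mp hv
      have := mem_centralizer_iff.mp ha.2 _ hv'
      push_cast
      calc v * ((g : G) * a * (g : G)⁻¹) = g * (((g : G)⁻¹ * v * g) * a) * (g : G)⁻¹ := by group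
        _ = g * (a * ((g : G)⁻¹ * v * g)) * (g : G)⁻¹ := by rw [this]
        _ = g * a * (g : G)⁻¹ * v := by group
    obtain ⟨z, -, hz, hzp, hzc⟩ := CfsgLib.PGroup.exists_step hA (A₀.subgroupOf A) ⊤
      (lt_top_iff_ne_top.mpr fun h => heq (le_antisymm inf_le_left (subgroupOf_eq_top.mp h)))
    have hzp' : ∀ v ∈ V, (z : G) ^ p * v = v * (z : G) ^ p := fun v hv =>
      (mem_centralizer_iff.mp hzp.2 v hv).symm
    have hxz : ∀ x : A, ∀ v ∈ V, (x : G) * z * v * ((x : G) * z)⁻¹ =
        (z : G) * x * v * ((z : G) * x)⁻¹ := by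
      intro x v hv
      have hc : (z : G) * x * (z : G)⁻¹ * (x : G)⁻¹ ∈ centralizer (V : Set G) := (hzc x).2
      have hw : (x : G) * z * v * ((x : G) * z)⁻¹ ∈ V :=
        ((Subgroup.mem_normalizer_iff.mp (hAV (A.mul_mem x.2 z.2))) v).mp hv
      have h5 := mem_centralizer_iff.mp hc _ hw
      calc (x : G) * z * v * ((x : G) * z)⁻¹
          = ((x : G) * z * v * ((x : G) * z)⁻¹ * ((z : G) * x * (z : G)⁻¹ * (x : G)⁻¹)) *
              ((z : G) * x * (z : G)⁻¹ * (x : G)⁻¹)⁻¹ := (mul_inv_cancel_right _ _).symm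
        _ = ((z : G) * x * (z : G)⁻¹ * (x : G)⁻¹) * ((x : G) * z * v * ((x : G) * z)⁻¹) *
              ((z : G) * x * (z : G)⁻¹ * (x : G)⁻¹)⁻¹ := by rw [h5]
        _ = (z : G) * x * v * ((z : G) * x)⁻¹ := by group
    set W := V ⊓ centralizer ({(z : G)} : Set G) with hW
    have hWV : W ≤ V := inf_le_left
    have hAW : A ≤ normalizer (W : Set G) := by
      have hstep : ∀ a : A, ∀ w ∈ W, (a : G) * w * (a : G)⁻¹ ∈ W := by
        intro a w hw
        refine ⟨((Subgroup.mem_normalizer_iff.mp (hAV a.2)) w).mp hw.1, ?_⟩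
        apply Subgroup.mem_centralizer_singleton_iff.mpr
        have h := hxz a w hw.1
        have hwz := Subgroup.mem_centralizer_singleton_iff.mp hw.2
        have h' : (a : G) * w * (a : G)⁻¹ = (z : G) * ((a : G) * w * (a : G)⁻¹) * (z : G)⁻¹ := by
          calc (a : G) * w * (a : G)⁻¹ = (a : G) * z * w * ((a : G) * z)⁻¹ := by
                rw [mul_assoc (a : G) z w, ← hwz]; group
            _ = (z : G) * a * w * ((z : G) * a)⁻¹ := h
            _ = _ := by group
        conv_lhs => rw [h']
        group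
      intro a ha
      rw [Subgroup.mem_normalizer_iff]
      refine fun w => ⟨hstep ⟨a, ha⟩ w, fun hw => ?_⟩
      have := hstep ⟨a⁻¹, inv_mem ha⟩ _ hw
      simpa [mul_assoc] using this
    have hcopW : (Nat.card W).Coprime p := hcop.coprime_dvd_left (card_dvd_of_le hWV)
    haveI : IsMulCommutative W := ⟨⟨fun a b => Subtype.ext (congrArg Subtype.val
      ((IsMulCommutative.is_comm (M := V)).comm ⟨a, hWV a.2⟩ ⟨b, hWV b.2⟩) :)⟩⟩
    have hlt : Nat.card A₀ < Nat.card (A ⊓ centralizer (W : Set G) : Subgroup G) := by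
      refine lt_of_le_of_ne (card_le_of_le (inf_le_inf_left A (centralizer_le hWV))) fun hc => hz ?_
      have h := eq_of_le_of_card_ge (inf_le_inf_left A (centralizer_le hWV)) hc.ge
      rw [mem_subgroupOf, hA₀, h]
      exact ⟨z.2, mem_centralizer_iff.mpr fun w hw =>
        Subgroup.mem_centralizer_singleton_iff.mp hw.2⟩
    have hih := ih A W inferInstance hA hAW hcopW (by omega)
    have hre : (∏ x : A, cf V x) ^ p = ∏ x : A, ∏ i : Fin p, cf V ((x : G) * (z : G) ^ (i : ℕ)) := by
      rw [Finset.prod_comm]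
      have : ∀ i : Fin p, ∏ x : A, cf V ((x : G) * (z : G) ^ (i : ℕ)) = ∏ x : A, cf V x := fun i =>
        Fintype.prod_equiv (Equiv.mulRight (z ^ (i : ℕ))) _ _ fun x => by simp
      rw [Finset.prod_congr rfl fun i _ => this i, Finset.prod_const, Finset.card_univ,
        Fintype.card_fin]
    have hmul : (∏ x : A, cf V x) ^ p * Nat.card W ^ Nat.card A ≤
        Nat.card V ^ Nat.card A * (∏ x : A, cf W x) ^ p := by
      rw [hre, Nat.card_eq_fintype_card (α := A), ← Finset.card_univ, ← Finset.prod_const,
        ← Finset.prod_const, ← Finset.prod_pow, ← Finset.prod_mul_distrib,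
        ← Finset.prod_mul_distrib]
      exact Finset.prod_le_prod' fun x _ => coset_ineq hAV hcop x.2 z.2 hzp' (hxz x)
    have hcfix : cfix W A = cfix V A := by
      show Nat.card (W ⊓ centralizer (A : Set G) : Subgroup G) =
        Nat.card (V ⊓ centralizer (A : Set G) : Subgroup G)
      have h : W ⊓ centralizer (A : Set G) = V ⊓ centralizer (A : Set G) := by
        rw [hW, inf_assoc, inf_eq_right.mpr (centralizer_le (Set.singleton_subset_iff.mpr z.2))]
      rw [h]
    refine Nat.le_of_mul_le_mul_right ?_ (pow_pos (Nat.card_pos (α := W)) (Nat.card A))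
    refine hmul.trans ((Nat.mul_le_mul_left _ hih).trans (le_of_eq ?_))
    rw [hcfix]; ring

end CoprimeProduct

/-- The inequality in subgroups and quotients. -/
theorem rgroup_ineq {p r : ℕ} [hp : Fact p.Prime] [hr : Fact r.Prime] (hrp : r ≠ p) :
    ∀ (d : ℕ) (G : Type u) [Group G] [Finite G] (A F : Subgroup G) [Fintype A], Nat.card F ≤ d →
      F.Normal → IsPGroup r F → IsPGroup p A →
      (∏ x : A, cf F x) ^ p ≤ Nat.card F ^ Nat.card A * cfix F A ^ (Nat.card A * (p - 1)) := by
  intro d
  induction d using Nat.strong_induction_on with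
  | _ d ih =>
    intro G _ _ A F _ hd hFn hF hA
    haveI := hFn
    have hcopF : (Nat.card F).Coprime p := by
      obtain ⟨k, hk⟩ := IsPGroup.iff_card.mp hF
      rw [hk]; exact ((Nat.coprime_primes hr.out hp.out).mpr hrp).pow_left k
    set V := (center F).map F.subtype with hV
    have hVF : V ≤ F := map_subtype_le _
    haveI : V.Normal := by
      rw [hV]; exact ConjAct.normal_of_characteristic_of_normal
    haveI hVc : IsMulCommutative V := by
      rw [hV]
      refine ⟨⟨?_⟩⟩
      rintro ⟨_, a, ha, rfl⟩ ⟨_, b, hb, rfl⟩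
      exact Subtype.ext (congrArg Subtype.val (Subgroup.mem_center_iff.mp hb a) :)
    by_cases hFtriv : F = ⊥
    · have h1 : ∀ x : A, cf F x = 1 := fun x => by
        rw [cf, hFtriv, bot_inf_eq, Subgroup.card_bot]
      rw [Finset.prod_congr rfl fun x _ => h1 x, Finset.prod_const_one, one_pow]
      exact Nat.one_le_iff_ne_zero.mpr (mul_ne_zero (pow_ne_zero _ Nat.card_pos.ne')
        (pow_ne_zero _ (Nat.card_pos (α := (F ⊓ centralizer (A : Set G) : Subgroup G))).ne'))
    haveI : Nontrivial F := F.nontrivial_iff_ne_bot.mpr hFtriv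
    have hVne : V ≠ ⊥ := by
      rw [hV, Ne, map_eq_bot_iff_of_injective _ F.subtype_injective]
      exact (Subgroup.nontrivial_iff_ne_bot _).mp hF.center_nontrivial
    have hcopV : (Nat.card V).Coprime p := hcopF.coprime_dvd_left (card_dvd_of_le hVF)
    let π := QuotientGroup.mk' V
    set F' := F.map π with hF'
    set A' := A.map π with hA'
    haveI : Fintype A' := Fintype.ofFinite A'
    have hlt : Nat.card F' < Nat.card F := by
      have h1 : V.relIndex F = Nat.card F' := by
        have h := relIndex_ker π (K := F)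
        rwa [QuotientGroup.ker_mk'] at h
      have h2 : Nat.card V * V.relIndex F = Nat.card F := by
        rw [← relIndex_bot_left V, relIndex_mul_relIndex _ _ _ bot_le hVF, relIndex_bot_left]
      rw [← h2, h1]
      have hV1 : 1 < Nat.card V := by
        rcases Nat.lt_or_ge 1 (Nat.card V) with h | h
        · exact h
        · exact absurd (V.eq_bot_of_card_le h) hVne
      exact lt_mul_of_one_lt_left Nat.card_pos hV1
    have hinj : Function.Injective (π.subgroupMap A) := by
      rw [injective_iff_map_eq_one]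
      intro a ha
      have h1 : π (a : G) = 1 := congrArg Subtype.val ha
      rw [QuotientGroup.mk'_apply, QuotientGroup.eq_one_iff] at h1
      obtain ⟨i, hi⟩ := IsPGroup.iff_orderOf.mp hA a
      rw [← orderOf_eq_one_iff, ← Subgroup.orderOf_coe]
      refine Nat.eq_one_of_dvd_coprimes (hcopV.pow_right i) (Subgroup.orderOf_dvd_natCard V h1) ?_
      rw [Subgroup.orderOf_coe, hi]
    let eA : A ≃* A' := MulEquiv.ofBijective (π.subgroupMap A) ⟨hinj, π.subgroupMap_surjective A⟩
    have hF'n : F'.Normal := hFn.map π (QuotientGroup.mk'_surjective V)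
    have hih := ih (Nat.card F') (lt_of_lt_of_le hlt hd) (G ⧸ V) A' F' le_rfl hF'n (hF.map π)
      (hA.map π)
    have hAV : A ≤ normalizer (V : Set G) := by rw [normalizer_eq_top]; exact le_top
    have hAF : A ≤ normalizer (F : Set G) := by rw [normalizer_eq_top]; exact le_top
    have hab := abelian_ineq (p := p) (Nat.card A) A V hVc hA hAV hcopV (by omega)
    -- fixed points in `F` fibre over those in `F'`
    have hfib : ∀ B : Subgroup G, Nat.card (F ⊓ B : Subgroup G) =
        Nat.card (V ⊓ B : Subgroup G) * Nat.card ((F ⊓ B).map π) := by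
      intro B
      have h := relIndex_ker π (K := F ⊓ B)
      rw [QuotientGroup.ker_mk'] at h
      rw [← h, ← inf_relIndex_right V (F ⊓ B), show V ⊓ (F ⊓ B) = V ⊓ B by
          rw [← inf_assoc, inf_eq_left.mpr hVF],
        ← relIndex_bot_left (V ⊓ B), relIndex_mul_relIndex _ _ _ bot_le (inf_le_inf_right B hVF),
        relIndex_bot_left]
    have hcfle : ∀ x : A, cf F x ≤ cf V x * cf F' (eA x : G ⧸ V) := by
      intro x
      show Nat.card (F ⊓ centralizer ({(x : G)} : Set G) : Subgroup G) ≤
        Nat.card (V ⊓ centralizer ({(x : G)} : Set G) : Subgroup G) * _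
      rw [hfib]
      refine Nat.mul_le_mul_left _ (card_le_of_le ?_)
      rintro _ ⟨w, ⟨hwF, hwx⟩, rfl⟩
      refine ⟨⟨w, hwF, rfl⟩, Subgroup.mem_centralizer_singleton_iff.mpr ?_⟩
      show π w * π x = π x * π w
      rw [← map_mul, ← map_mul, Subgroup.mem_centralizer_singleton_iff.mp hwx]
    have hcfix : cfix V A * cfix F' A' ≤ cfix F A := by
      show _ ≤ Nat.card (F ⊓ centralizer (A : Set G) : Subgroup G)
      rw [hfib]
      refine Nat.mul_le_mul_left _ (card_le_of_le ?_)
      rintro _ ⟨⟨k, hk, rfl⟩, hkc⟩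
      have hcopA : (Nat.card A).Coprime (Nat.card F) := by
        obtain ⟨k, hk⟩ := IsPGroup.iff_card.mp hA
        rw [hk]; exact hcopF.symm.pow_left k
      obtain ⟨c, hc, hkc'⟩ := CfsgLib.Solvable.exists_fixed_of_fixed_mod hAF hcopA
        (Or.inl (by haveI := hA.isNilpotent; infer_instance)) hVF
        (by rw [normalizer_eq_top]; exact le_top) hAV hk (fun a ha => by
          rw [← QuotientGroup.eq_one_iff, ← QuotientGroup.mk'_apply (N := V), map_mul, map_mul,
            map_mul, map_inv, map_inv, (mem_centralizer_iff.mp hkc (π a) ⟨a, ha, rfl⟩),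
            mul_inv_cancel_right, mul_inv_cancel])
      refine ⟨c, hc, ?_⟩
      rw [QuotientGroup.mk'_apply, QuotientGroup.mk'_apply, eq_comm, QuotientGroup.eq]
      exact hkc'
    have hcardF : Nat.card V * Nat.card F' = Nat.card F := by
      have := hfib ⊤
      rw [inf_top_eq, inf_top_eq] at this
      exact this.symm
    calc (∏ x : A, cf F x) ^ p
        ≤ (∏ x : A, cf V x * cf F' (eA x : G ⧸ V)) ^ p :=
          Nat.pow_le_pow_left (Finset.prod_le_prod' fun x _ => hcfle x) p
      _ = (∏ x : A, cf V x) ^ p * (∏ y : A', cf F' (y : G ⧸ V)) ^ p := by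
          rw [Finset.prod_mul_distrib, mul_pow,
            Fintype.prod_equiv eA.toEquiv (fun x : A => cf F' (eA x : G ⧸ V))
              (fun y : A' => cf F' (y : G ⧸ V)) (fun _ => rfl)]
      _ ≤ (Nat.card V ^ Nat.card A * cfix V A ^ (Nat.card A * (p - 1))) *
            (Nat.card F' ^ Nat.card A' * cfix F' A' ^ (Nat.card A' * (p - 1))) :=
          Nat.mul_le_mul hab hih
      _ = Nat.card F ^ Nat.card A * (cfix V A * cfix F' A') ^ (Nat.card A * (p - 1)) := by
          rw [show Nat.card A' = Nat.card A from Nat.card_congr eA.symm.toEquiv, ← hcardF,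
            mul_pow, mul_pow]
          ring
      _ ≤ _ := Nat.mul_le_mul_left _ (Nat.pow_le_pow_left hcfix _)

section Invariant

variable {G : Type u} [Group G] [Finite G] {p : ℕ} [hp : Fact p.Prime]

/-- An invariant Sylow subgroup meets the fixed points in a Sylow subgroup of them. -/
theorem card_inf_sylow {r : ℕ} [hr : Fact r.Prime] {B F : Subgroup G} [F.Normal]
    (hcop : (Nat.card B).Coprime (Nat.card F)) (hB : Group.IsSolvable B) (R : Sylow r F)
    (hR : B ≤ normalizer ((R : Subgroup F).map F.subtype : Set G)) :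
    Nat.card ((R : Subgroup F).map F.subtype ⊓ centralizer (B : Set G) : Subgroup G) =
      r ^ (cfix F B).factorization r := by
  set R' := (R : Subgroup F).map F.subtype with hR'
  set C := F ⊓ centralizer (B : Set G) with hC
  have hBF : B ≤ normalizer (F : Set G) := by rw [normalizer_eq_top]; exact le_top
  obtain ⟨S⟩ : Nonempty (Sylow r C) := inferInstance
  set S' := (S : Subgroup C).map C.subtype with hS'
  have hS'card : Nat.card S' = r ^ (cfix F B).factorization r := by
    rw [hS', Nat.card_congr ((S : Subgroup C).equivMapOfInjective _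
      (subtype_injective _)).toEquiv.symm, S.card_eq_multiplicity]
    rfl
  have hBS : B ≤ normalizer (S' : Set G) := by
    intro b hb
    rw [Subgroup.mem_normalizer_iff]
    intro s
    have hfix : ∀ w ∈ S', b * w * b⁻¹ = w := fun w hw => by
      rw [mem_centralizer_iff.mp (map_subtype_le _ hw).2 b hb, mul_inv_cancel_right]
    refine ⟨fun hs => by rwa [hfix s hs], fun hs => ?_⟩
    have h1 := hfix _ hs
    have h2 : b * s * b⁻¹ = s := by
      calc b * s * b⁻¹ = b⁻¹ * (b * (b * s * b⁻¹) * b⁻¹) * b := by group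
        _ = b⁻¹ * (b * s * b⁻¹) * b := by rw [h1]
        _ = s := by group
    rwa [h2] at hs
  obtain ⟨Q, hSQ, hQ⟩ := CfsgLib.Solvable.exists_invariant_sylow_ge hBF hcop (Or.inl hB) r
    ((map_subtype_le _).trans inf_le_left) (S.isPGroup'.map _) hBS
  obtain ⟨c, hc, hcQ⟩ := CfsgLib.Solvable.exists_invariant_sylow_conj hBF hcop (Or.inl hB) Q R hQ hR
  refine le_antisymm ?_ ?_
  · obtain ⟨i, hi⟩ := IsPGroup.iff_card.mp
      ((R.isPGroup'.map F.subtype).to_le (inf_le_left : R' ⊓ centralizer (B : Set G) ≤ R'))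
    rw [hi]
    refine Nat.pow_le_pow_right hr.out.pos ((hr.out.pow_dvd_iff_le_factorization
      (Nat.card_pos (α := C)).ne').mp ?_)
    rw [← hi]
    exact card_dvd_of_le (inf_le_inf_right _ (map_subtype_le _))
  · rw [← hS'card, Nat.card_congr (S'.equivMapOfInjective (MulAut.conj (c : G)).toMonoidHom
      (MulEquiv.injective _)).toEquiv]
    refine card_le_of_le ?_
    rintro _ ⟨s, hs, rfl⟩
    have hsC := map_subtype_le _ hs
    refine ⟨?_, ?_⟩
    · obtain ⟨t, ht, rfl⟩ := hSQ hs
      refine ⟨c * t * c⁻¹, ?_, rfl⟩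
      rw [← hcQ]
      exact ⟨t, ht, rfl⟩
    · exact (centralizer (B : Set G)).mul_mem ((centralizer (B : Set G)).mul_mem hc hsC.2)
        ((centralizer (B : Set G)).inv_mem hc)

theorem cf_eq_cfix_zpowers (F : Subgroup G) (x : G) : cf F x = cfix F (zpowers x) := by
  rw [cf, cfix, zpowers_eq_closure, centralizer_closure]

/-- The product inequality for a `p`-group acting on a normal `p'`-subgroup. -/
theorem coprime_ineq (A F : Subgroup G) [Fintype A] [F.Normal] (hA : IsPGroup p A)
    (hcop : (Nat.card F).Coprime p) :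
    (∏ x : A, cf F x) ^ p ≤ Nat.card F ^ Nat.card A * cfix F A ^ (Nat.card A * (p - 1)) := by
  classical
  set s := (Nat.card F).primeFactors with hs
  have hcopA : (Nat.card A).Coprime (Nat.card F) := by
    obtain ⟨k, hk⟩ := IsPGroup.iff_card.mp hA
    rw [hk]; exact hcop.symm.pow_left k
  haveI := hA.isNilpotent
  have hAF : A ≤ normalizer (F : Set G) := by rw [normalizer_eq_top]; exact le_top
  have hdecomp : ∀ H : Subgroup G, H ≤ F →
      Nat.card H = ∏ r ∈ s, r ^ (Nat.card H).factorization r := by
    intro H hH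
    conv_lhs => rw [← Nat.prod_factorization_pow_eq_self (Nat.card_pos (α := H)).ne']
    rw [Finsupp.prod, Nat.support_factorization]
    refine Finset.prod_subset (Nat.primeFactors_mono (card_dvd_of_le hH) Nat.card_pos.ne') ?_
    intro r _ hr
    rw [← Nat.support_factorization, Finsupp.notMem_support_iff] at hr
    rw [hr, pow_zero]
  have hlocal : ∀ r ∈ s, (∏ x : A, r ^ (cf F x).factorization r) ^ p ≤
      (r ^ (Nat.card F).factorization r) ^ Nat.card A *
        (r ^ (cfix F A).factorization r) ^ (Nat.card A * (p - 1)) := by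
    intro r hrs
    have hr := Nat.prime_of_mem_primeFactors hrs
    haveI := Fact.mk hr
    have hrp : r ≠ p := fun h => by
      have h2 := Nat.dvd_of_mem_primeFactors hrs
      rw [h] at h2
      exact hp.out.coprime_iff_not_dvd.mp hcop.symm h2
    obtain ⟨R, hR⟩ := CfsgLib.Solvable.exists_invariant_sylow hAF hcopA
      (Or.inl (inferInstance : Group.IsSolvable A)) r
    set R' := (R : Subgroup F).map F.subtype with hR'
    set N := normalizer (R' : Set G) with hN
    have hRN : R' ≤ N := le_normalizer
    haveI : (R'.subgroupOf N).Normal := normal_in_normalizer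
    let eA : A ≃* A.subgroupOf N := (subgroupOfEquivOfLe hR).symm
    haveI : Fintype (A.subgroupOf N) := Fintype.ofFinite _
    have h := rgroup_ineq (p := p) (r := r) hrp (Nat.card (R'.subgroupOf N)) N
      (A.subgroupOf N) (R'.subgroupOf N) le_rfl inferInstance
      ((R.isPGroup'.map F.subtype).of_equiv (subgroupOfEquivOfLe hRN).symm)
      (hA.of_equiv eA)
    have hR'card : Nat.card (R'.subgroupOf N) = r ^ (Nat.card F).factorization r := by
      rw [Nat.card_congr (subgroupOfEquivOfLe hRN).toEquiv, hR',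
        Nat.card_congr ((R : Subgroup F).equivMapOfInjective _
          (subtype_injective _)).toEquiv.symm, R.card_eq_multiplicity]
    have htr : ∀ (H : Subgroup G) (H' : Subgroup N), H'.map N.subtype = H ⊓ N →
        cfix (R'.subgroupOf N) H' = Nat.card (R' ⊓ centralizer ((H ⊓ N : Subgroup G) : Set G) : Subgroup G) := by
      intro H H' hH'
      rw [cfix, Nat.card_congr ((R'.subgroupOf N ⊓ centralizer (H' : Set N)).equivMapOfInjective _
        (subtype_injective _)).toEquiv]
      congr 1
      have : (R'.subgroupOf N ⊓ centralizer (H' : Set N)).map N.subtype =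
          R' ⊓ centralizer ((H ⊓ N : Subgroup G) : Set G) := by
        ext w
        constructor
        · rintro ⟨w, ⟨hw, hw'⟩, rfl⟩
          refine ⟨hw, mem_centralizer_iff.mpr fun a ha => ?_⟩
          rw [← hH'] at ha
          obtain ⟨a, ha, rfl⟩ := ha
          exact congrArg Subtype.val (mem_centralizer_iff.mp hw' a ha)
        · rintro ⟨hw, hw'⟩
          refine ⟨⟨w, hRN hw⟩, ⟨hw, mem_centralizer_iff.mpr fun a ha => Subtype.ext ?_⟩, rfl⟩
          exact mem_centralizer_iff.mp hw' a (hH' ▸ ⟨a, ha, rfl⟩)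
      rw [this]
    have hA' : cfix (R'.subgroupOf N) (A.subgroupOf N) = r ^ (cfix F A).factorization r := by
      rw [htr A _ (subgroupOf_map_subtype A N), inf_eq_left.mpr hR]
      exact card_inf_sylow hcopA inferInstance R hR
    have hx : ∀ x : A, cf (R'.subgroupOf N) (eA x : N) = r ^ (cf F x).factorization r := by
      intro x
      have hzp : (zpowers (eA x : N)).map N.subtype = zpowers (x : G) ⊓ N := by
        rw [MonoidHom.map_zpowers, inf_eq_left.mpr (zpowers_le.mpr (hR x.2))]
        rfl
      rw [cf_eq_cfix_zpowers, htr (zpowers (x : G)) _ hzp,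
        inf_eq_left.mpr (zpowers_le.mpr (hR x.2)), cf_eq_cfix_zpowers]
      refine card_inf_sylow ?_ inferInstance R (zpowers_le.mpr (hR x.2))
      exact Nat.Coprime.coprime_dvd_left (card_dvd_of_le (zpowers_le.mpr x.2)) hcopA
    rw [Nat.card_congr eA.symm.toEquiv, hA', hR'card] at h
    refine le_of_eq_of_le ?_ h
    rw [Fintype.prod_equiv eA.toEquiv (fun x : A => r ^ (cf F x).factorization r)
      (fun y : A.subgroupOf N => cf (R'.subgroupOf N) (y : N)) (fun x => (hx x).symm)]
  have hx : ∀ x : A, cf F x = ∏ r ∈ s, r ^ (cf F x).factorization r := fun x =>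
    hdecomp _ inf_le_left
  calc (∏ x : A, cf F x) ^ p = ∏ r ∈ s, (∏ x : A, r ^ (cf F x).factorization r) ^ p := by
        rw [Finset.prod_pow, Finset.prod_comm]
        congr 1
        exact Finset.prod_congr rfl fun x _ => hx x
    _ ≤ ∏ r ∈ s, ((r ^ (Nat.card F).factorization r) ^ Nat.card A *
          (r ^ (cfix F A).factorization r) ^ (Nat.card A * (p - 1))) := Finset.prod_le_prod' hlocal
    _ = _ := by
        rw [Finset.prod_mul_distrib, Finset.prod_pow, Finset.prod_pow, ← hdecomp F le_rfl,
          ← hdecomp (F ⊓ centralizer (A : Set G)) inf_le_left |> fun h => (show cfix F A =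
            ∏ r ∈ s, r ^ (cfix F A).factorization r from h)]

end Invariant

/-- The number of Sylow subgroups containing `x`. -/
noncomputable def lam (p : ℕ) {G : Type*} [Group G] (x : G) : ℕ :=
  Nat.card {Q : Sylow p G // x ∈ (Q : Subgroup G)}

/-- `∏_{x ∈ P} λ(x) ≤ n^{|P|/p}`. -/
theorem sylow_product {p : ℕ} [hp : Fact p.Prime] : ∀ (d : ℕ) (G : Type u) [Group G] [Finite G],
    Nat.card G ≤ d → Cfsg.IsPSolvable p G → ∀ (P : Sylow p G) [Fintype (P : Subgroup G)],
      (∏ x : (P : Subgroup G), lam p (x : G)) ^ p ≤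
        Nat.card (Sylow p G) ^ Nat.card (P : Subgroup G) := by
  intro d
  induction d using Nat.strong_induction_on with
  | _ d ih =>
    intro G _ _ hd hG P _
    classical
    rcases subsingleton_or_nontrivial G with hs | hs
    on_goal 1 =>
      haveI : Subsingleton (Sylow p G) := ⟨fun a b => Sylow.ext (Subgroup.ext fun w => by
        simp [Subsingleton.elim w 1])⟩
    · have h1 : ∀ x : (P : Subgroup G), lam p (x : G) ≤ 1 := fun x =>
        Finite.card_le_one_iff_subsingleton.mpr inferInstance
      calc (∏ x : (P : Subgroup G), lam p (x : G)) ^ p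
          ≤ (∏ _x : (P : Subgroup G), 1) ^ p :=
            Nat.pow_le_pow_left (Finset.prod_le_prod' fun x _ => h1 x) p
        _ = 1 := by simp
        _ ≤ _ := Nat.one_le_pow _ _ Nat.card_pos
    obtain ⟨N, hNn, hN1, hN⟩ := CfsgLib.Solvable.exists_normal_pgroup_or_coprime hG
    haveI := hNn
    let π := QuotientGroup.mk' N
    have hπ : Function.Surjective π := QuotientGroup.mk'_surjective N
    have hlt : Nat.card (G ⧸ N) < Nat.card G := by
      rw [N.card_eq_card_quotient_mul_card_subgroup]
      have : 1 < Nat.card N := by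
        rcases Nat.lt_or_ge 1 (Nat.card N) with h | h
        · exact h
        · exact absurd (N.eq_bot_of_card_le h) hN1
      exact lt_mul_of_one_lt_right Nat.card_pos this
    have hsolv := CfsgLib.PLoc.isPSolvable_of_surjective (p := p) hπ hG
    let P' := P.mapSurjective hπ
    haveI : Fintype (P' : Subgroup (G ⧸ N)) := Fintype.ofFinite _
    have hih := ih (Nat.card (G ⧸ N)) (lt_of_lt_of_le hlt hd) (G ⧸ N) le_rfl hsolv P'
    let f : Sylow p G → Sylow p (G ⧸ N) := fun Q => Q.mapSurjective hπ
    have hfsurj : Function.Surjective f := Sylow.mapSurjective_surjective hπ p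
    have hfcoe : ∀ Q : Sylow p G, ((f Q : Sylow p (G ⧸ N)) : Subgroup (G ⧸ N)) =
        (Q : Subgroup G).map π := fun Q => rfl
    rcases hN with hNp | hNc
    · -- `N` is a `p`-group
      have hNQ : ∀ Q : Sylow p G, N ≤ (Q : Subgroup G) := fun Q => by
        have h1 := Q.3 (IsPGroup.to_sup_of_normal_left hNp Q.2) le_sup_right
        exact le_sup_left.trans_eq h1
      have hfinj : Function.Injective f := fun Q Q' h => by
        have h1 := congrArg (fun S : Sylow p (G ⧸ N) => (S : Subgroup (G ⧸ N)).comap π) h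
        simp only [hfcoe, comap_map_eq, π, QuotientGroup.ker_mk', sup_eq_left.mpr (hNQ _)] at h1
        exact Sylow.ext h1
      let ef := Equiv.ofBijective f ⟨hfinj, hfsurj⟩
      have hn : Nat.card (Sylow p G) = Nat.card (Sylow p (G ⧸ N)) := Nat.card_congr ef
      have hlam : ∀ x : G, lam p x = lam p (π x) := fun x =>
        Nat.card_congr (Equiv.subtypeEquiv ef fun Q => by
          show x ∈ (Q : Subgroup G) ↔ π x ∈ (Q : Subgroup G).map π
          rw [← Subgroup.mem_comap, comap_map_eq]
          simp only [π, QuotientGroup.ker_mk', sup_eq_left.mpr (hNQ Q)])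
      let g : ↥(P : Subgroup G) →* ↥(P' : Subgroup (G ⧸ N)) := π.subgroupMap (P : Subgroup G)
      have hg : Function.Surjective g := π.subgroupMap_surjective _
      have hker : Nat.card g.ker = Nat.card N := by
        refine Nat.card_congr
          { toFun := fun w => ⟨(w.1 : G), ?_⟩
            invFun := fun n => ⟨⟨n, hNQ P n.2⟩, ?_⟩
            left_inv := fun w => rfl
            right_inv := fun n => rfl }
        · have h1 : π (w.1 : G) = 1 := congrArg Subtype.val (MonoidHom.mem_ker.mp w.2)
          rwa [QuotientGroup.mk'_apply, QuotientGroup.eq_one_iff] at h1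
        · exact MonoidHom.mem_ker.mpr (Subtype.ext ((QuotientGroup.eq_one_iff _).mpr n.2))
      have hfibre : ∀ y : (P' : Subgroup (G ⧸ N)),
          (Finset.univ.filter fun x : (P : Subgroup G) => g x = y).card = Nat.card N := by
        intro y
        obtain ⟨x₀, rfl⟩ := hg y
        rw [← hker, ← Nat.card_eq_finsetCard]
        exact Nat.card_congr
          { toFun := fun x => ⟨x₀⁻¹ * x.1, MonoidHom.mem_ker.mpr (by
              have hx : g x.1 = g x₀ := by
                have h := x.2
                rw [Finset.mem_filter] at h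
                exact h.2
              rw [map_mul, map_inv, hx, inv_mul_cancel])⟩
            invFun := fun w => ⟨x₀ * w.1, by
              have hw : g (x₀ * w.1) = g x₀ := by rw [map_mul, MonoidHom.mem_ker.mp w.2, mul_one]
              rw [Finset.mem_filter]
              exact ⟨Finset.mem_univ _, hw⟩⟩
            left_inv := fun x => Subtype.ext (mul_inv_cancel_left _ _)
            right_inv := fun w => Subtype.ext (inv_mul_cancel_left _ _) }
      have hprod : ∏ x : (P : Subgroup G), lam p (x : G) =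
          (∏ y : (P' : Subgroup (G ⧸ N)), lam p (y : G ⧸ N)) ^ Nat.card N := by
        rw [← Finset.prod_pow, ← Finset.prod_fiberwise Finset.univ g]
        refine Finset.prod_congr rfl fun y _ => ?_
        rw [← hfibre y, ← Finset.prod_const]
        refine Finset.prod_congr rfl fun x hx => ?_
        rw [hlam, ← (Finset.mem_filter.mp hx).2]
        rfl
      have hcard : Nat.card (P : Subgroup G) = Nat.card (P' : Subgroup (G ⧸ N)) * Nat.card N := by
        have h := Finset.card_eq_sum_card_fiberwise (f := g) (s := Finset.univ)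
          (t := Finset.univ) (fun _ _ => Finset.mem_univ _)
        rw [Finset.sum_congr rfl fun y _ => hfibre y, Finset.sum_const, smul_eq_mul,
          Finset.card_univ, Finset.card_univ, ← Nat.card_eq_fintype_card,
          ← Nat.card_eq_fintype_card] at h
        exact h
      rw [hprod, ← pow_mul, mul_comm, pow_mul, hn, hcard, pow_mul]
      exact Nat.pow_le_pow_left hih _
    · -- `N` is a `p'`-group
      have hinj : ∀ Q : Sylow p G, ∀ a ∈ (Q : Subgroup G), π a = 1 → a = 1 := by
        intro Q a ha h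
        rw [QuotientGroup.mk'_apply, QuotientGroup.eq_one_iff] at h
        obtain ⟨i, hi⟩ := IsPGroup.iff_orderOf.mp Q.2 ⟨a, ha⟩
        rw [← orderOf_eq_one_iff]
        refine Nat.eq_one_of_dvd_coprimes (hNc.pow_right i) (Subgroup.orderOf_dvd_natCard N h) ?_
        rw [← hi, ← Subgroup.orderOf_coe]
      have hstab : ∀ (Q : Sylow p G) (n : G), n ∈ N →
          (n • Q = Q ↔ n ∈ centralizer ((Q : Subgroup G) : Set G)) := by
        intro Q n hn
        constructor
        · intro h
          rw [mem_centralizer_iff]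
          intro a ha
          have hmem : n * a * n⁻¹ ∈ (Q : Subgroup G) := by
            rw [← h]; exact ⟨a, ha, rfl⟩
          have h1 : (n * a * n⁻¹) * a⁻¹ = 1 := hinj Q _ (mul_mem hmem (inv_mem ha)) (by
            have hn1 : π n = 1 := (QuotientGroup.eq_one_iff _).mpr hn
            rw [map_mul, map_mul, map_mul, map_inv, map_inv, hn1]
            group)
          rw [mul_inv_eq_one, mul_inv_eq_iff_eq_mul] at h1
          exact h1.symm
        · intro h
          apply Sylow.ext
          ext a
          constructor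
          · rintro ⟨b, hb, rfl⟩
            show n * b * n⁻¹ ∈ (Q : Subgroup G)
            rw [← mem_centralizer_iff.mp h b hb, mul_inv_cancel_right]
            exact hb
          · intro ha
            refine ⟨a, ha, ?_⟩
            show n * a * n⁻¹ = a
            rw [← mem_centralizer_iff.mp h a ha, mul_inv_cancel_right]
      have hfn : ∀ (Q : Sylow p G) (n : N), f (n • Q) = f Q := by
        intro Q n
        apply Sylow.ext
        rw [hfcoe, hfcoe]
        have hn1 : π (n : G) = 1 := (QuotientGroup.eq_one_iff _).mpr n.2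
        ext y
        constructor
        · rintro ⟨_, ⟨b, hb, rfl⟩, rfl⟩
          refine ⟨b, hb, ?_⟩
          show π b = π ((n : G) * b * (n : G)⁻¹)
          rw [map_mul, map_mul, map_inv, hn1]; group
        · rintro ⟨b, hb, rfl⟩
          refine ⟨(n : G) * b * (n : G)⁻¹, ⟨b, hb, rfl⟩, ?_⟩
          rw [map_mul, map_mul, map_inv, hn1]; group
      -- Sylow subgroups with the same image are conjugate under `N`
      have hfibre : ∀ Q Q' : Sylow p G, f Q = f Q' → ∃ n : N, n • Q = Q' := by
        intro Q Q' h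
        have h1 : (Q' : Subgroup G) ≤ N ⊔ (Q : Subgroup G) := by
          have h2 := congrArg (fun S : Sylow p (G ⧸ N) => (S : Subgroup (G ⧸ N)).comap π) h
          simp only [hfcoe, comap_map_eq, π, QuotientGroup.ker_mk'] at h2
          rw [sup_comm, h2]
          exact le_sup_left
        obtain ⟨g, hg⟩ := MulAction.exists_smul_eq (N ⊔ (Q : Subgroup G) : Subgroup G)
          (Q.subtype le_sup_right) (Q'.subtype h1)
        obtain ⟨n, hn, a, ha, hga⟩ :=
          (Subgroup.mem_sup_of_normal_left (s := N) (t := (Q : Subgroup G))).mp g.2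
        refine ⟨⟨n, hn⟩, ?_⟩
        have hgQ : (g : G) • Q = Q' := by
          apply Sylow.ext
          refine (eq_of_le_of_card_ge ?_ (le_of_eq ?_)).symm
          · intro w hw
            have hw' : (⟨w, h1 hw⟩ : (N ⊔ (Q : Subgroup G) : Subgroup G)) ∈
                ((g • Q.subtype le_sup_right : Sylow p (N ⊔ (Q : Subgroup G) : Subgroup G)) :
                  Subgroup (N ⊔ (Q : Subgroup G) : Subgroup G)) := by
              rw [hg]; exact hw
            obtain ⟨b, hb, hbe⟩ := hw'
            exact ⟨b, hb, congrArg Subtype.val hbe⟩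
          · rw [Q'.card_eq_multiplicity, Sylow.card_eq_multiplicity]
        rw [← hga, mul_smul] at hgQ
        have haQ : a • Q = Q := Sylow.smul_eq_iff_mem_normalizer.mpr (le_normalizer ha)
        rw [haQ] at hgQ
        exact hgQ
      set c := cfix N (P : Subgroup G) with hc
      have hcQ : ∀ Q : Sylow p G, cfix N (Q : Subgroup G) = c := by
        intro Q
        obtain ⟨g, rfl⟩ := MulAction.exists_smul_eq G P Q
        rw [hc, cfix, cfix, Nat.card_congr ((N ⊓ centralizer ((P : Subgroup G) : Set G)).equivMapOfInjective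
          (MulAut.conj g).toMonoidHom (MulEquiv.injective _)).toEquiv]
        refine congrArg (fun H : Subgroup G => Nat.card H) ?_
        ext w
        constructor
        · rintro ⟨hwN, hwc⟩
          refine ⟨g⁻¹ * w * g, ⟨by simpa using hNn.conj_mem _ hwN g⁻¹, ?_⟩, by simp [mul_assoc]⟩
          apply mem_centralizer_iff.mpr
          intro b hb
          have h := mem_centralizer_iff.mp hwc (g * b * g⁻¹) ⟨b, hb, rfl⟩
          calc b * (g⁻¹ * w * g) = g⁻¹ * ((g * b * g⁻¹) * w) * g := by group
            _ = g⁻¹ * (w * (g * b * g⁻¹)) * g := by rw [h]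
            _ = g⁻¹ * w * g * b := by group
        · rintro ⟨v, ⟨hvN, hvc⟩, rfl⟩
          refine ⟨hNn.conj_mem _ hvN g, mem_centralizer_iff.mpr ?_⟩
          rintro _ ⟨b, hb, rfl⟩
          show g * b * g⁻¹ * (g * v * g⁻¹) = g * v * g⁻¹ * (g * b * g⁻¹)
          calc g * b * g⁻¹ * (g * v * g⁻¹) = g * (b * v) * g⁻¹ := by group
            _ = g * (v * b) * g⁻¹ := by rw [mem_centralizer_iff.mp hvc b hb]
            _ = _ := by group
      -- fibre sizes
      have hsize : ∀ S : Sylow p (G ⧸ N), Nat.card {Q : Sylow p G // f Q = S} * c = Nat.card N := by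
        intro S
        obtain ⟨Q, rfl⟩ := hfsurj S
        let φ : N → {Q' : Sylow p G // f Q' = f Q} := fun n => ⟨n • Q, hfn Q n⟩
        have hφ : ∀ Q' : {Q' : Sylow p G // f Q' = f Q}, Nat.card {n : N // φ n = Q'} = c := by
          rintro ⟨Q', hQ'⟩
          obtain ⟨n₀, hn₀⟩ := hfibre Q Q' hQ'.symm
          rw [← hcQ Q]
          refine Nat.card_congr
            { toFun := fun n => ⟨((n₀⁻¹ * n.1 : N) : G), (n₀⁻¹ * n.1).2, ?_⟩
              invFun := fun w => ⟨n₀ * ⟨w.1, w.2.1⟩, ?_⟩
              left_inv := fun n => Subtype.ext (Subtype.ext (mul_inv_cancel_left _ _))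
              right_inv := fun w => Subtype.ext (inv_mul_cancel_left _ _) }
          · refine (hstab Q _ (n₀⁻¹ * n.1).2).mp ?_
            show (n₀⁻¹ * n.1) • Q = Q
            have h := congrArg Subtype.val n.2
            simp only [φ] at h
            rw [mul_smul, h, ← hn₀, inv_smul_smul]
          · apply Subtype.ext
            show (n₀ * ⟨w.1, w.2.1⟩ : N) • Q = Q'
            rw [mul_smul, show (⟨w.1, w.2.1⟩ : N) • Q = Q from (hstab Q _ w.2.1).mpr w.2.2, hn₀]
        haveI : Fintype {Q' : Sylow p G // f Q' = f Q} := Fintype.ofFinite _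
        rw [← Nat.card_congr (Equiv.sigmaFiberEquiv φ), Nat.card_sigma,
          Finset.sum_congr rfl fun Q' _ => hφ Q', Finset.sum_const, smul_eq_mul, Finset.card_univ,
          ← Nat.card_eq_fintype_card]
      haveI : Fintype (Sylow p (G ⧸ N)) := Fintype.ofFinite _
      have hn : Nat.card (Sylow p G) * c = Nat.card (Sylow p (G ⧸ N)) * Nat.card N := by
        rw [← Nat.card_congr (Equiv.sigmaFiberEquiv f), Nat.card_sigma, Finset.sum_mul,
          Finset.sum_congr rfl fun S _ => hsize S, Finset.sum_const, smul_eq_mul, Finset.card_univ,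
          ← Nat.card_eq_fintype_card]
      have hlam : ∀ x : (P : Subgroup G), lam p (x : G) * c = lam p (π (x : G)) * cf N (x : G) := by
        intro x
        obtain ⟨i, hi⟩ := P.2 x
        have hxp : IsPGroup p (zpowers (x : G)) :=
          P.2.to_le (zpowers_le.mpr x.2)
        let g : {Q : Sylow p G // (x : G) ∈ (Q : Subgroup G)} →
            {S : Sylow p (G ⧸ N) // π (x : G) ∈ (S : Subgroup (G ⧸ N))} :=
          fun Q => ⟨f Q.1, ⟨x, Q.2, rfl⟩⟩
        have hgs : ∀ S, Nat.card {Q // g Q = S} * c = cf N (x : G) := by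
          rintro ⟨S, hS⟩
          obtain ⟨Q, rfl⟩ := hfsurj S
          -- a member of the fibre containing `x`
          obtain ⟨Q₁, hQ₁, hxQ₁⟩ : ∃ Q₁ : Sylow p G, f Q₁ = f Q ∧ (x : G) ∈ (Q₁ : Subgroup G) := by
            obtain ⟨q, hq, hqe⟩ := hS
            have hxM : (x : G) ∈ N ⊔ (Q : Subgroup G) := by
              rw [show (x : G) = ((x : G) * q⁻¹) * q by group]
              refine mul_mem (mem_sup_left ?_) (mem_sup_right hq)
              rw [← QuotientGroup.eq_one_iff, ← QuotientGroup.mk'_apply (N := N), map_mul, map_inv]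
              show π (x : G) * (π q)⁻¹ = 1
              rw [hqe, mul_inv_cancel]
            set M := N ⊔ (Q : Subgroup G) with hM
            obtain ⟨S₁, hS₁⟩ := ((hxp.of_equiv (subgroupOfEquivOfLe
              (zpowers_le.mpr hxM)).symm)).exists_le_sylow
            obtain ⟨g', hg'⟩ := MulAction.exists_smul_eq M (Q.subtype le_sup_right) S₁
            obtain ⟨n, hn, a, ha, hga⟩ := (Subgroup.mem_sup_of_normal_left (s := N) (t := (Q : Subgroup G))).mp g'.2
            refine ⟨(⟨n, hn⟩ : N) • Q, hfn Q _, ?_⟩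
            have hmem : (⟨(x : G), hxM⟩ : M) ∈
                ((g' • Q.subtype le_sup_right : Sylow p M) : Subgroup M) := by
              rw [hg']; exact hS₁ (mem_zpowers (x : G))
            obtain ⟨b, hb, hbe⟩ := hmem
            refine ⟨a * (b : G) * a⁻¹, mul_mem (mul_mem ha hb) (inv_mem ha), ?_⟩
            show n * (a * (b : G) * a⁻¹) * n⁻¹ = x
            have h : (g' : G) * (b : G) * (g' : G)⁻¹ = x := congrArg Subtype.val hbe
            rw [← hga] at h
            rw [← h]; group
          set W := N ⊓ centralizer ({(x : G)} : Set G) with hW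
          let ψ : W → {Q' // g Q' = ⟨f Q, hS⟩} := fun w =>
            ⟨⟨(⟨w.1, w.2.1⟩ : N) • Q₁, by
              refine ⟨x, hxQ₁, ?_⟩
              show (w : G) * x * (w : G)⁻¹ = x
              rw [Subgroup.mem_centralizer_singleton_iff.mp w.2.2, mul_inv_cancel_right]⟩,
              Subtype.ext ((hfn Q₁ _).trans hQ₁)⟩
          have hψ : ∀ Q', Nat.card {w : W // ψ w = Q'} = c := by
            rintro ⟨⟨Q', hxQ'⟩, hQ'⟩
            obtain ⟨n₀, hn₀⟩ := hfibre Q₁ Q' (hQ₁.trans (congrArg Subtype.val hQ').symm)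
            -- `n₀` centralises `x`
            have hn₀x : (n₀ : G) ∈ centralizer ({(x : G)} : Set G) := by
              have hmem : (x : G) ∈ ((n₀ • Q₁ : Sylow p G) : Subgroup G) := hn₀.symm ▸ hxQ'
              obtain ⟨b, hb, hbe⟩ := hmem
              have hbe' : (n₀ : G) * b * (n₀ : G)⁻¹ = x := hbe
              have hbx : b * (x : G)⁻¹ = 1 := hinj Q₁ _ (mul_mem hb (inv_mem hxQ₁)) (by
                have hn1 : π (n₀ : G) = 1 := (QuotientGroup.eq_one_iff _).mpr n₀.2
                rw [← hbe', map_mul, map_inv, map_mul, map_mul, map_inv, hn1]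
                group)
              rw [mul_inv_eq_one] at hbx
              rw [hbx, mul_inv_eq_iff_eq_mul] at hbe'
              exact Subgroup.mem_centralizer_singleton_iff.mpr hbe'
            rw [← hcQ Q₁]
            refine Nat.card_congr
              { toFun := fun w => ⟨((n₀⁻¹ * ⟨w.1.1, w.1.2.1⟩ : N) : G), (n₀⁻¹ * ⟨w.1.1, w.1.2.1⟩).2, ?_⟩
                invFun := fun v => ⟨⟨(n₀ : G) * v.1, N.mul_mem n₀.2 v.2.1, mul_mem hn₀x ?_⟩, ?_⟩
                left_inv := fun w => Subtype.ext (Subtype.ext (mul_inv_cancel_left _ _))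
                right_inv := fun v => Subtype.ext (inv_mul_cancel_left _ _) }
            · refine (hstab Q₁ _ (n₀⁻¹ * ⟨w.1.1, w.1.2.1⟩).2).mp ?_
              show (n₀⁻¹ * ⟨w.1.1, w.1.2.1⟩ : N) • Q₁ = Q₁
              have h := congrArg (fun Q => Q.1.1) w.2
              simp only [ψ] at h
              rw [mul_smul, h, ← hn₀, inv_smul_smul]
            · exact Subgroup.mem_centralizer_singleton_iff.mpr
                (mem_centralizer_iff.mp v.2.2 x hxQ₁).symm
            · apply Subtype.ext
              apply Subtype.ext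
              show (⟨(n₀ : G) * v.1, _⟩ : N) • Q₁ = Q'
              rw [show (⟨(n₀ : G) * v.1, N.mul_mem n₀.2 v.2.1⟩ : N) = n₀ * ⟨v.1, v.2.1⟩ from rfl,
                mul_smul, show (⟨v.1, v.2.1⟩ : N) • Q₁ = Q₁ from (hstab Q₁ _ v.2.1).mpr v.2.2, hn₀]
          haveI : Fintype {Q' // g Q' = ⟨f Q, hS⟩} := Fintype.ofFinite _
          show _ = Nat.card W
          rw [← Nat.card_congr (Equiv.sigmaFiberEquiv ψ), Nat.card_sigma,
            Finset.sum_congr rfl fun Q' _ => hψ Q', Finset.sum_const, smul_eq_mul, Finset.card_univ,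
            ← Nat.card_eq_fintype_card]
        haveI : Fintype {S : Sylow p (G ⧸ N) // π (x : G) ∈ (S : Subgroup (G ⧸ N))} :=
          Fintype.ofFinite _
        show Nat.card {Q : Sylow p G // (x : G) ∈ (Q : Subgroup G)} * c = _
        rw [← Nat.card_congr (Equiv.sigmaFiberEquiv g), Nat.card_sigma, Finset.sum_mul,
          Finset.sum_congr rfl fun S _ => hgs S, Finset.sum_const, smul_eq_mul, Finset.card_univ,
          ← Nat.card_eq_fintype_card]
        rfl
      let eP : (P : Subgroup G) ≃* (P' : Subgroup (G ⧸ N)) :=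
        MulEquiv.ofBijective (π.subgroupMap (P : Subgroup G))
          ⟨(injective_iff_map_eq_one _).mpr fun a ha =>
            Subtype.ext (hinj P a a.2 (congrArg Subtype.val ha)),
            π.subgroupMap_surjective _⟩
      have hprodlam : ∏ x : (P : Subgroup G), lam p (π (x : G)) =
          ∏ y : (P' : Subgroup (G ⧸ N)), lam p (y : G ⧸ N) :=
        Fintype.prod_equiv eP.toEquiv _ _ fun _ => rfl
      have hcop := coprime_ineq (p := p) (P : Subgroup G) N P.2 hNc
      have hcard : Nat.card (P' : Subgroup (G ⧸ N)) = Nat.card (P : Subgroup G) :=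
        Nat.card_congr eP.symm.toEquiv
      rw [hcard, ← hprodlam] at hih
      have hcpos : 0 < c := Nat.card_pos
      refine Nat.le_of_mul_le_mul_right ?_ (pow_pos hcpos (Nat.card (P : Subgroup G) * p))
      calc (∏ x : (P : Subgroup G), lam p (x : G)) ^ p * c ^ (Nat.card (P : Subgroup G) * p)
          = (∏ x : (P : Subgroup G), lam p (π (x : G))) ^ p *
              (∏ x : (P : Subgroup G), cf N (x : G)) ^ p := by
            rw [pow_mul, ← mul_pow, ← mul_pow]
            congr 1
            rw [Nat.card_eq_fintype_card, ← Finset.card_univ, ← Finset.prod_const,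
              ← Finset.prod_mul_distrib, ← Finset.prod_mul_distrib]
            exact Finset.prod_congr rfl fun x _ => hlam x
        _ ≤ Nat.card (Sylow p (G ⧸ N)) ^ Nat.card (P : Subgroup G) *
              (Nat.card N ^ Nat.card (P : Subgroup G) *
                c ^ (Nat.card (P : Subgroup G) * (p - 1))) := Nat.mul_le_mul hih hcop
        _ = _ := by
            obtain ⟨q, hq⟩ : ∃ q, p = q + 1 := ⟨p - 1, by have := hp.out.pos; omega⟩
            rw [← mul_assoc, ← mul_pow, ← hn, mul_pow, mul_assoc, ← pow_add]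
            congr 2
            subst hq
            rw [Nat.add_sub_cancel]; ring

/-- Let G be a finite p-solvable group, P a Sylow p-subgroup of G, u the number of p-elements of G (elements of p-power order, the identity included) and n the number of Sylow p-subgroups of G. Then u/#P ≥ n^((p−1)/p), stated as u^p ≥ #P^p · n^(p−1). -/
theorem result {G : Type*} [Group G] [Finite G] (p : ℕ) [Fact p.Prime]
    (hG : Cfsg.IsPSolvable p G) (P : Sylow p G) :
    Nat.card (P : Subgroup G) ^ p * Nat.card (Sylow p G) ^ (p - 1) ≤ Nat.card {g : G // ∃ k : ℕ, orderOf g = p ^ k} ^ p := by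
  classical
  haveI : Fintype G := Fintype.ofFinite G
  haveI : Fintype (P : Subgroup G) := Fintype.ofFinite _
  haveI : Fintype (Sylow p G) := Fintype.ofFinite _
  have hprod := sylow_product (p := p) (Nat.card G) G le_rfl hG P
  set m := Nat.card (P : Subgroup G) with hm
  set n := Nat.card (Sylow p G) with hn
  have hlampos : ∀ (Q : Sylow p G), ∀ x ∈ (Q : Subgroup G), 0 < lam p x := fun Q x hx => by
    haveI : Nonempty {Q : Sylow p G // x ∈ (Q : Subgroup G)} := ⟨⟨Q, hx⟩⟩
    exact Nat.card_pos
  set E := Finset.univ.filter (fun g : G => ∃ k : ℕ, orderOf g = p ^ k) with hE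
  have hu : Nat.card {g : G // ∃ k : ℕ, orderOf g = p ^ k} = E.card := by
    rw [← Nat.card_eq_finsetCard]
    exact Nat.card_congr (Equiv.subtypeEquivRight fun g => by simp [hE])
  -- double counting
  have hsumQ : ∀ Q : Sylow p G, (∑ x : G, if x ∈ (Q : Subgroup G) then (lam p x : ℝ)⁻¹ else 0) =
      ∑ x : (P : Subgroup G), (lam p (x : G) : ℝ)⁻¹ := by
    intro Q
    obtain ⟨g, rfl⟩ := MulAction.exists_smul_eq G P Q
    rw [← Finset.sum_filter]
    refine (Finset.sum_bij (fun (x : (P : Subgroup G)) _ => g * (x : G) * g⁻¹) ?_ ?_ ?_ ?_).symm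
    · intro x _
      exact Finset.mem_filter.mpr ⟨Finset.mem_univ _, ⟨x, x.2, rfl⟩⟩
    · intro a _ b _ h
      exact Subtype.ext (mul_left_cancel (mul_right_cancel h))
    · intro y hy
      obtain ⟨b, hb, rfl⟩ := (Finset.mem_filter.mp hy).2
      exact ⟨⟨b, hb⟩, Finset.mem_univ _, rfl⟩
    · intro x _
      have : lam p (g * (x : G) * g⁻¹) = lam p (x : G) := (Nat.card_congr
        (Equiv.subtypeEquiv (MulAction.toPerm g) fun S => by
          show (x : G) ∈ (S : Subgroup G) ↔ g * x * g⁻¹ ∈ ((g • S : Sylow p G) : Subgroup G)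
          constructor
          · intro h; exact ⟨x, h, rfl⟩
          · rintro ⟨b, hb, hbe⟩
            have hbe' : g * b * g⁻¹ = g * x * g⁻¹ := hbe
            rwa [← mul_left_cancel (mul_right_cancel hbe')])).symm
      rw [this]
  have hcount : (E.card : ℝ) = (n : ℝ) * ∑ x : (P : Subgroup G), (lam p (x : G) : ℝ)⁻¹ := by
    have h1 : ∀ x : G, (∑ Q : Sylow p G, if x ∈ (Q : Subgroup G) then (lam p x : ℝ)⁻¹ else 0) =
        if x ∈ E then 1 else 0 := by
      intro x
      rw [← Finset.sum_filter, Finset.sum_const, nsmul_eq_mul]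
      have hcard : (Finset.univ.filter fun Q : Sylow p G => x ∈ (Q : Subgroup G)).card = lam p x := by
        rw [← Nat.card_eq_finsetCard]
        exact Nat.card_congr (Equiv.subtypeEquivRight fun Q => by simp)
      rw [hcard]
      by_cases hx : x ∈ E
      · rw [if_pos hx]
        obtain ⟨k, hk⟩ := (Finset.mem_filter.mp hx).2
        obtain ⟨Q, hQ⟩ := (IsPGroup.of_card (G := zpowers x) (p := p) (n := k)
          (by rw [Nat.card_zpowers, hk])).exists_le_sylow
        exact mul_inv_cancel₀ (Nat.cast_ne_zero.mpr (hlampos Q x (hQ (mem_zpowers x))).ne')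
      · rw [if_neg hx]
        have h0 : lam p x = 0 := by
          rw [← hcard, Finset.card_eq_zero, Finset.filter_eq_empty_iff]
          intro Q _ hQ
          obtain ⟨k, hk⟩ := IsPGroup.iff_orderOf.mp Q.2 ⟨x, hQ⟩
          rw [← Subgroup.orderOf_coe] at hk
          exact hx (Finset.mem_filter.mpr ⟨Finset.mem_univ _, k, hk⟩)
        simp [h0]
    have h2 : (E.card : ℝ) = ∑ x : G, if x ∈ E then (1 : ℝ) else 0 := by simp
    rw [h2, Finset.sum_congr rfl fun x _ => (h1 x).symm, Finset.sum_comm,
      Finset.sum_congr rfl fun Q _ => hsumQ Q, Finset.sum_const, Finset.card_univ,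
      nsmul_eq_mul, hn, Nat.card_eq_fintype_card]
  -- AM–GM
  set a : ↥(P : Subgroup G) → ℝ := fun x => (lam p (x : G) : ℝ)⁻¹ with ha
  have ha0 : ∀ x, 0 ≤ a x := fun x => inv_nonneg.mpr (Nat.cast_nonneg _)
  have hmpos : 0 < m := Nat.card_pos
  have hamgm : (∏ x, a x) * (m : ℝ) ^ m ≤ (∑ x, a x) ^ m := by
    have h := Real.geom_mean_le_arith_mean Finset.univ (fun _ : (P : Subgroup G) => (1 : ℝ)) a
      (fun _ _ => zero_le_one) (by simpa using Fintype.card_pos) (fun x _ => ha0 x)
    simp only [Real.rpow_one, one_mul, Finset.sum_const, Finset.card_univ, nsmul_eq_mul, mul_one,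
      ← Nat.card_eq_fintype_card, ← hm] at h
    have h0 : (0 : ℝ) ≤ ∏ x, a x := Finset.prod_nonneg fun x _ => ha0 x
    have h1 := pow_le_pow_left₀ (Real.rpow_nonneg h0 _) h m
    rw [Real.rpow_inv_natCast_pow h0 hmpos.ne', div_pow, le_div_iff₀ (by positivity)] at h1
    exact h1
  have hP' : (∏ x : (P : Subgroup G), lam p (x : G)) ≠ 0 :=
    Finset.prod_ne_zero_iff.mpr fun x _ => (hlampos P x x.2).ne'
  have hPi : (0 : ℝ) < ((∏ x : (P : Subgroup G), lam p (x : G) : ℕ) : ℝ) :=
    Nat.cast_pos.mpr (Nat.pos_of_ne_zero hP')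
  have hmain : m ^ m * n ^ m ≤ E.card ^ m * ∏ x : (P : Subgroup G), lam p (x : G) := by
    rw [← Nat.cast_le (α := ℝ)]
    push_cast
    rw [hcount, mul_pow]
    have h1 : (∏ x, a x) * ∏ x : (P : Subgroup G), (lam p (x : G) : ℝ) = 1 := by
      rw [← Finset.prod_mul_distrib]
      exact Finset.prod_eq_one fun x _ =>
        inv_mul_cancel₀ (Nat.cast_ne_zero.mpr (hlampos P x x.2).ne')
    calc (m : ℝ) ^ m * (n : ℝ) ^ m
        = (n : ℝ) ^ m * ((∏ x, a x) * (m : ℝ) ^ m) * ∏ x : (P : Subgroup G), (lam p (x : G) : ℝ) := by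
          rw [mul_comm ((∏ x, a x)) ((m : ℝ) ^ m), mul_assoc, mul_assoc, h1, mul_one, mul_comm]
      _ ≤ (n : ℝ) ^ m * (∑ x, a x) ^ m * ∏ x : (P : Subgroup G), (lam p (x : G) : ℝ) := by
          gcongr
  rw [hu]
  obtain ⟨q, rfl⟩ : ∃ q, p = q + 1 := ⟨p - 1, by have := (Fact.out : p.Prime).pos; omega⟩
  rw [Nat.add_sub_cancel]
  refine (Nat.pow_le_pow_iff_left hmpos.ne').mp ?_
  refine Nat.le_of_mul_le_mul_right ?_ (pow_pos (Nat.card_pos (α := Sylow (q + 1) G)) m)
  calc (m ^ (q + 1) * n ^ q) ^ m * n ^ m = (m ^ m * n ^ m) ^ (q + 1) := by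
        rw [mul_pow, mul_pow, ← pow_mul, ← pow_mul, ← pow_mul, ← pow_mul, mul_assoc, ← pow_add]
        ring_nf
    _ ≤ (E.card ^ m * ∏ x : (P : Subgroup G), lam (q + 1) (x : G)) ^ (q + 1) :=
        Nat.pow_le_pow_left hmain _
    _ ≤ (E.card ^ (q + 1)) ^ m * n ^ m := by
        rw [mul_pow, ← pow_mul, ← pow_mul, mul_comm m (q + 1)]
        exact Nat.mul_le_mul_left _ hprod

end Cfsg.Agent.S4091
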