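import Cfsg.Statements.S4092

set_option autoImplicit false
open Cfsg Pointwise

namespace Cfsg.Agent.S4092

/-- Let G be a finite group, p a prime and P a Sylow p-subgroup of G that is not normal in G. Then G has at least p·#P elements of p-power order (the identity included). -/
theorem result {G : Type*} [Group G] [Finite G] (p : ℕ) [Fact p.Prime]
    (P : Sylow p G) (hP : ¬ (P : Subgroup G).Normal) :
    p * Nat.card (P : Subgroup G) ≤ Nat.card {g : G // ∃ k : ℕ, orderOf g = p ^ k} := by
  classical
  haveI : Fintype G := Fintype.ofFinite G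
  haveI : Fintype (Sylow p G) := Fintype.ofFinite _
  have hne : ((Finset.univ : Finset (Sylow p G × Sylow p G)).filter fun x => x.1 ≠ x.2).Nonempty := by
    by_contra h
    apply hP
    haveI : Subsingleton (Sylow p G) := ⟨fun Q R => by
      by_contra hQR
      exact h ⟨(Q, R), Finset.mem_filter.mpr ⟨Finset.mem_univ _, hQR⟩⟩⟩
    exact Sylow.normal_of_subsingleton P
  obtain ⟨⟨Q, R⟩, hQR, hmax⟩ := Finset.exists_max_image _
    (fun x : Sylow p G × Sylow p G => Nat.card ↥((x.1 : Subgroup G) ⊓ (x.2 : Subgroup G))) hne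
  simp only [Finset.mem_filter, Finset.mem_univ, true_and] at hQR hmax
  set D := (Q : Subgroup G) ⊓ (R : Subgroup G) with hD
  have hDp : IsPGroup p D := Q.isPGroup'.to_inf_left
  have hmaxeq : ∀ S T : Sylow p G, S ≠ T → D ≤ S → D ≤ T → (S : Subgroup G) ⊓ (T : Subgroup G) = D := by
    intro S T hST hS hT
    exact (Subgroup.eq_of_le_of_card_ge (le_inf hS hT) (hmax (S, T) hST)).symm
  have hlt : ∀ S : Sylow p G, D ≤ S → D ≠ (S : Subgroup G) → ∃ x ∈ (S : Subgroup G), x ∉ D ∧ x ∈ Subgroup.normalizer (D : Set G) := by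
    intro S hS hne
    haveI := S.isPGroup'.isNilpotent
    have hlt : D.subgroupOf (S : Subgroup G) < Subgroup.normalizer ((D.subgroupOf (S : Subgroup G) : Subgroup (S : Subgroup G)) : Set (S : Subgroup G)) :=
      Group.normalizerCondition_of_isNilpotent _ (lt_top_iff_ne_top.mpr fun h =>
        hne (le_antisymm hS (Subgroup.subgroupOf_eq_top.mp h)))
    obtain ⟨x, hx, hxD⟩ := SetLike.exists_of_lt hlt
    refine ⟨x, x.2, hxD, Subgroup.mem_normalizer_iff.mpr fun y => ?_⟩
    by_cases hy : y ∈ (S : Subgroup G)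
    · exact Subgroup.mem_normalizer_iff.mp hx ⟨y, hy⟩
    · refine ⟨fun h => absurd (hS h) hy, fun h => absurd ?_ hy⟩
      have := (S : Subgroup G).mul_mem ((S : Subgroup G).mul_mem ((S : Subgroup G).inv_mem x.2) (hS h)) x.2
      simpa [mul_assoc] using this
  have hPcard : ∀ S : Sylow p G, Nat.card (S : Subgroup G) = Nat.card (P : Subgroup G) := fun S => by
    rw [Sylow.card_eq_multiplicity, Sylow.card_eq_multiplicity]
  have hDne : ∀ S : Sylow p G, D ≤ S → D ≠ (S : Subgroup G) := by
    intro S hS h
    apply hQR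
    have hle : ∀ T : Sylow p G, D ≤ T → (T : Subgroup G) = D := fun T hT =>
      (Subgroup.eq_of_le_of_card_ge hT ((hPcard T).trans ((hPcard S).symm.trans (by rw [← h]))).le).symm
    exact Sylow.ext ((hle Q inf_le_left).trans (hle R inf_le_right).symm)
  set M := Subgroup.normalizer (D : Set G) with hM
  have hDM : D ≤ M := Subgroup.le_normalizer
  choose f hf using fun T : Sylow p M => T.exists_comap_subtype_eq
  have hfinj : Function.Injective f := fun T T' h => Sylow.ext (by rw [← hf T, ← hf T', h])
  have hfD : ∀ T : Sylow p M, D ≤ (f T : Subgroup G) := by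
    intro T d hd
    haveI : (D.subgroupOf M).Normal := Subgroup.normal_in_normalizer
    have hp' : IsPGroup p ↥(D.subgroupOf M) := hDp.comap_subtype
    have h1 : (⟨d, hDM hd⟩ : M) ∈ (T : Subgroup M) := hp'.le_sylow_of_normal T hd
    rw [← hf T] at h1
    exact h1
  have hnp : p + 1 ≤ Nat.card (Sylow p M) := by
    have hmod : Nat.card (Sylow p M) ≡ 1 [MOD p] := card_sylow_modEq_one p M
    have hne1 : Nat.card (Sylow p M) ≠ 1 := by
      intro h
      haveI : Subsingleton (Sylow p M) := (Nat.card_eq_one_iff_unique.mp h).1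
      obtain ⟨T⟩ : Nonempty (Sylow p M) := inferInstance
      have : ∀ S : Sylow p G, D ≤ S → S = f T := by
        intro S hS
        by_contra hne
        obtain ⟨x, hxS, hxD, hxM⟩ := hlt S hS (hDne S hS)
        obtain ⟨T', hT'⟩ := ((S.isPGroup'.comap_subtype (K := M))).exists_le_sylow
        rw [Subsingleton.elim T' T] at hT'
        have hxT : (⟨x, hxM⟩ : M) ∈ (T : Subgroup M) := hT' hxS
        rw [← hf T] at hxT
        apply hxD
        rw [← hmaxeq S (f T) hne hS (hfD T)]
        exact ⟨hxS, hxT⟩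
      exact hQR ((this Q inf_le_left).trans (this R inf_le_right).symm)
    have hpos : 0 < Nat.card (Sylow p M) := Nat.card_pos
    have h1 : p ∣ Nat.card (Sylow p M) - 1 := (Nat.modEq_iff_dvd' hpos).mp hmod.symm
    have := Nat.le_of_dvd (by omega) h1
    omega
  -- count
  haveI : Fintype (Sylow p M) := Fintype.ofFinite _
  let A : Sylow p M → Finset G := fun T => Finset.univ.filter fun x => x ∈ (f T : Subgroup G) ∧ x ∉ D
  let Df : Finset G := Finset.univ.filter fun x => x ∈ D
  have hdisj : ((Finset.univ : Finset (Sylow p M)) : Set (Sylow p M)).PairwiseDisjoint A := by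
    intro T _ T' _ hne
    refine Finset.disjoint_left.mpr fun x hx hx' => ?_
    simp only [A, Finset.mem_filter, Finset.mem_univ, true_and] at hx hx'
    apply hx.2
    rw [← hmaxeq (f T) (f T') (fun h => hne (hfinj h)) (hfD T) (hfD T')]
    exact ⟨hx.1, hx'.1⟩
  have hA : ∀ T, (A T).card + Nat.card D = Nat.card (P : Subgroup G) := by
    intro T
    rw [← hPcard (f T)]
    simp only [Nat.card_eq_fintype_card, Fintype.card_subtype]
    rw [← Finset.card_union_of_disjoint (Finset.disjoint_left.mpr fun x hx hx' => by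
      simp [A] at hx hx'; exact hx.2 hx')]
    congr 1
    ext x
    simp only [A, Finset.mem_union, Finset.mem_filter, Finset.mem_univ, true_and]
    exact ⟨fun h => h.elim (fun h => h.1) (fun h => hfD T h), fun h => (em (x ∈ D)).elim Or.inr fun h' => Or.inl ⟨h, h'⟩⟩
  have hu : Nat.card (Sylow p M) * (Nat.card (P : Subgroup G) - Nat.card D) + Nat.card D ≤
      Nat.card {g : G // ∃ k : ℕ, orderOf g = p ^ k} := by
    have e1 : Nat.card (Sylow p M) * (Nat.card (P : Subgroup G) - Nat.card D) =
        ((Finset.univ : Finset (Sylow p M)).biUnion A).card := by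
      rw [Finset.card_biUnion hdisj, Finset.sum_congr rfl (g := fun _ => Nat.card (P : Subgroup G) - Nat.card D)
        (fun T _ => by have := hA T; omega), Finset.sum_const, Finset.card_univ, smul_eq_mul,
        ← Nat.card_eq_fintype_card]
    have e2 : Nat.card D = Df.card := by rw [Nat.card_eq_fintype_card, Fintype.card_subtype]
    rw [e1, e2, ← Finset.card_union_of_disjoint]
    · rw [Nat.card_eq_fintype_card, Fintype.card_subtype]
      refine Finset.card_le_card fun x hx => ?_
      simp only [A, Df, Finset.mem_union, Finset.mem_biUnion, Finset.mem_filter, Finset.mem_univ, true_and] at hx ⊢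
      obtain ⟨S, hS⟩ : ∃ S : Sylow p G, x ∈ (S : Subgroup G) := by
        rcases hx with ⟨T, h, -⟩ | h
        · exact ⟨f T, h⟩
        · exact ⟨Q, h.1⟩
      obtain ⟨k, hk⟩ := IsPGroup.iff_orderOf.mp S.isPGroup' ⟨x, hS⟩
      exact ⟨k, by rw [← hk]; exact (Subgroup.orderOf_mk x hS).symm⟩
    · refine Finset.disjoint_left.mpr fun x hx hx' => ?_
      simp [A, Df] at hx hx'
      exact hx.2 hx'
  refine le_trans ?_ hu
  -- arithmetic
  obtain ⟨m, hm⟩ := IsPGroup.iff_card.mp Q.isPGroup'
  obtain ⟨d, hd⟩ := IsPGroup.iff_card.mp hDp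
  have hdm : d < m := by
    have : Nat.card D < Nat.card (Q : Subgroup G) := by
      refine lt_of_le_of_ne (Subgroup.card_le_of_le inf_le_left) fun h => hDne Q inf_le_left ?_
      exact Subgroup.eq_of_le_of_card_ge inf_le_left h.ge
    rw [hm, hd] at this
    exact (Nat.pow_lt_pow_iff_right (Fact.out : p.Prime).one_lt).mp this
  have hpD : p * Nat.card D ≤ Nat.card (P : Subgroup G) := by
    rw [← hPcard Q, hm, hd, ← pow_succ']
    exact Nat.pow_le_pow_right (Fact.out : p.Prime).pos hdm
  have hDP : Nat.card D ≤ Nat.card (P : Subgroup G) := le_trans (Nat.le_mul_of_pos_left _ (Fact.out : p.Prime).pos) hpD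
  have h2 : (p + 1) * (Nat.card (P : Subgroup G) - Nat.card D) ≤
      Nat.card (Sylow p M) * (Nat.card (P : Subgroup G) - Nat.card D) := Nat.mul_le_mul_right _ hnp
  have h3 : p * Nat.card (P : Subgroup G) + Nat.card (P : Subgroup G) =
      (p + 1) * (Nat.card (P : Subgroup G) - Nat.card D) + (p * Nat.card D + Nat.card D) := by
    obtain ⟨e, he⟩ := Nat.exists_eq_add_of_le hDP
    rw [he, Nat.add_sub_cancel_left]; ring
  omega

end Cfsg.Agent.S4092
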