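import Cfsg.Statements.S4093

set_option autoImplicit false
open scoped BigOperators
open Cfsg Pointwise

namespace Cfsg.Agent.S4093

/-- Let G be a finite group with a normal subgroup N complementing a Sylow p-subgroup P (a normal p-complement). Then the number of elements of G of p-power order equals the sum over x ∈ P of the index of C_N(x) in N. -/
theorem result {G : Type*} [Group G] [Finite G] (p : ℕ) [Fact p.Prime]
    (P : Sylow p G) (N : Subgroup G) [N.Normal] (hNP : N.IsComplement' (P : Subgroup G)) :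
    Nat.card {g : G // ∃ k : ℕ, orderOf g = p ^ k} =
      ∑ᶠ x : (P : Subgroup G), Nat.card N / Nat.card ↥(N ⊓ Subgroup.centralizer ({(x : G)} : Set G)) := by
  classical
  haveI : Fintype G := Fintype.ofFinite G
  -- every `p`-element is a conjugate under `N` of an element of `P`
  have hrep : ∀ g : G, (∃ k : ℕ, orderOf g = p ^ k) → ∃ x : (P : Subgroup G), ∃ n ∈ N, n * x * n⁻¹ = g := by
    rintro g ⟨k, hk⟩
    obtain ⟨Q, hQ⟩ := (IsPGroup.of_card (p := p) (n := k) (G := ↥(Subgroup.zpowers g)) (by rw [Nat.card_zpowers, hk])).exists_le_sylow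
    obtain ⟨a, ha⟩ := MulAction.exists_smul_eq G P Q
    obtain ⟨⟨n, z⟩, hnz, -⟩ := hNP.existsUnique a
    have hgQ : g ∈ ((a • P : Sylow p G) : Subgroup G) := ha ▸ hQ (Subgroup.mem_zpowers g)
    rw [Sylow.coe_subgroup_smul, Subgroup.mem_pointwise_smul_iff_inv_smul_mem, ← map_inv,
      MulAut.smul_def, MulAut.conj_apply, inv_inv] at hgQ
    replace hnz : (n : G) * (z : G) = a := hnz
    refine ⟨⟨(z : G) * (a⁻¹ * g * a) * (z : G)⁻¹, Subgroup.mul_mem _ (Subgroup.mul_mem _ z.2 hgQ) (Subgroup.inv_mem _ z.2)⟩,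
      n, n.2, ?_⟩
    show (n : G) * ((z : G) * (a⁻¹ * g * a) * (z : G)⁻¹) * (n : G)⁻¹ = g
    rw [← hnz]; simp [mul_assoc]
  have huniq : ∀ (x y : (P : Subgroup G)) (n : G), n ∈ N → n * x * n⁻¹ = y → x = y := by
    intro x y n hn h
    have h' : (x : G)⁻¹ * y ∈ N := by
      rw [← h]
      have e : (x : G)⁻¹ * (n * x * n⁻¹) = ((x : G)⁻¹ * n * (x : G)) * n⁻¹ := by simp [mul_assoc]
      rw [e]
      exact N.mul_mem (by simpa using Subgroup.Normal.conj_mem inferInstance _ hn (x : G)⁻¹) (N.inv_mem hn)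
    have h1 := hNP.disjoint.le_bot ⟨h', Subgroup.mul_mem _ (Subgroup.inv_mem _ x.2) y.2⟩
    exact Subtype.ext (inv_mul_eq_one.mp (Subgroup.mem_bot.mp h1))
  choose rep n hn hnr using hrep
  rw [finsum_eq_sum_of_fintype, Nat.card_eq_fintype_card, Fintype.card_subtype,
    Finset.card_eq_sum_ones]
  rw [← Finset.sum_fiberwise_of_maps_to (t := (Finset.univ : Finset (P : Subgroup G)))
    (g := fun g => if h : ∃ k : ℕ, orderOf g = p ^ k then rep g h else 1) (fun _ _ => Finset.mem_univ _)]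
  refine Finset.sum_congr rfl fun x _ => ?_
  rw [← Finset.card_eq_sum_ones]
  set C := Subgroup.centralizer ({(x : G)} : Set G) with hC
  have hdiv : Nat.card N / Nat.card ↥(N ⊓ C) = C.relIndex N := by
    rw [← Subgroup.inf_relIndex_right, inf_comm C N]
    exact Nat.div_eq_of_eq_mul_right Nat.card_pos
      (by simpa [Subgroup.relIndex_bot_left] using (Subgroup.relIndex_mul_relIndex ⊥ (N ⊓ C) N bot_le inf_le_left).symm)
  rw [hdiv]
  have hx : ∃ k : ℕ, orderOf (x : G) = p ^ k := by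
    obtain ⟨k, hk⟩ := IsPGroup.iff_orderOf.mp P.isPGroup' x
    exact ⟨k, by rw [← hk, Subgroup.orderOf_coe]⟩
  set S := (Finset.univ.filter fun g : G => ∃ k : ℕ, orderOf g = p ^ k).filter
    (fun g => (if h : ∃ k : ℕ, orderOf g = p ^ k then rep g h else 1) = x) with hS
  have hmem : ∀ m : N, (m : G) * x * (m : G)⁻¹ ∈ S := by
    intro m
    have hord : ∃ k : ℕ, orderOf ((m : G) * x * (m : G)⁻¹) = p ^ k := by
      obtain ⟨k, hk⟩ := hx
      exact ⟨k, by rw [← hk]; exact ((MulAut.conj (m : G)).orderOf_eq (x : G))⟩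
    simp only [hS, Finset.mem_filter, Finset.mem_univ, true_and, dif_pos hord]
    refine ⟨hord, huniq _ x ((m : G)⁻¹ * n _ hord) (N.mul_mem (N.inv_mem m.2) (hn _ hord)) ?_⟩
    have := hnr _ hord
    calc (m : G)⁻¹ * n _ hord * (rep _ hord : G) * ((m : G)⁻¹ * n _ hord)⁻¹
        = (m : G)⁻¹ * (n _ hord * (rep _ hord : G) * (n _ hord)⁻¹) * (m : G) := by simp [mul_assoc]
      _ = x := by rw [this]; simp [mul_assoc]
  rw [Subgroup.relIndex, Subgroup.index]
  symm
  rw [← Nat.card_eq_finsetCard]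
  refine Nat.card_congr (Equiv.ofBijective (Quotient.lift (fun m : N => (⟨(m : G) * x * (m : G)⁻¹, hmem m⟩ : S)) ?_) ⟨?_, ?_⟩)
  · intro a b hab
    replace hab := (QuotientGroup.leftRel_apply.mp hab)
    rw [Subgroup.mem_subgroupOf, hC, Subgroup.mem_centralizer_singleton_iff] at hab
    apply Subtype.ext
    show (a : G) * x * (a : G)⁻¹ = (b : G) * x * (b : G)⁻¹
    have e : (b : G) = a * (((a⁻¹ * b : N) : G)) := by simp
    calc (a : G) * x * (a : G)⁻¹ = a * (((a⁻¹ * b : N) : G) * x * (((a⁻¹ * b : N) : G))⁻¹) * (a : G)⁻¹ := by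
          rw [hab]; simp [mul_assoc]
      _ = (b : G) * x * (b : G)⁻¹ := by simp [mul_assoc]
  · rintro ⟨a⟩ ⟨b⟩ h
    replace h : (a : G) * x * (a : G)⁻¹ = (b : G) * x * (b : G)⁻¹ := congrArg Subtype.val h
    refine Quotient.sound (QuotientGroup.leftRel_apply.mpr ?_)
    rw [Subgroup.mem_subgroupOf, hC, Subgroup.mem_centralizer_singleton_iff]
    calc ((a⁻¹ * b : N) : G) * x = (a : G)⁻¹ * ((b : G) * x * (b : G)⁻¹) * b := by simp [mul_assoc]
      _ = x * ((a⁻¹ * b : N) : G) := by rw [← h]; simp [mul_assoc]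
  · rintro ⟨g, hg⟩
    simp only [hS, Finset.mem_filter, Finset.mem_univ, true_and] at hg
    have hg1 := hg.1
    have hg2 : rep g hg1 = x := by
      have h2 := hg.2
      rwa [dif_pos hg1] at h2
    refine ⟨Quotient.mk _ ⟨n g hg1, hn g hg1⟩, Subtype.ext ?_⟩
    have h3 := hnr g hg1
    rw [hg2] at h3
    exact h3

end Cfsg.Agent.S4093
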