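import Cfsg.Statements.S4097
import Cfsg.Agent.S0042
import Cfsg.Agent.Lib.Frobenius.Basic

set_option autoImplicit false
open Cfsg

namespace Cfsg.Agent.S4097

universe u

/-- The preimage of a cyclic subgroup over a soluble normal subgroup is soluble. -/
theorem isSolvable_comap_zpowers {G : Type u} [Group G] (U : Subgroup G) [U.Normal]
    (hU : Group.IsSolvable U) (g : G) :
    Group.IsSolvable ((Subgroup.zpowers (QuotientGroup.mk' U g)).comap (QuotientGroup.mk' U)) := by
  haveI := hU
  set P := (Subgroup.zpowers (QuotientGroup.mk' U g)).comap (QuotientGroup.mk' U) with hP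
  have hle : U ≤ P := fun u hu => by
    rw [hP, Subgroup.mem_comap, show QuotientGroup.mk' U u = 1 from (QuotientGroup.eq_one_iff u).2 hu]
    exact Subgroup.one_mem _
  letI : CommGroup (Subgroup.zpowers (QuotientGroup.mk' U g)) := IsCyclic.commGroup
  refine Group.isSolvable_of_ker_le_range (Subgroup.inclusion hle)
    ((QuotientGroup.mk' U).subgroupComap (Subgroup.zpowers (QuotientGroup.mk' U g))) ?_
  intro x hx
  have hxU : (x : G) ∈ U := (QuotientGroup.eq_one_iff (x : G)).1 (congrArg Subtype.val hx)
  exact ⟨⟨x, hxU⟩, Subtype.ext rfl⟩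

theorem aux : ∀ (n : ℕ) {G : Type u} [Group G] [Finite G], Nat.card G = n →
    ∀ (A : Subgroup G), Group.IsSolvable A →
    (∀ S : Subgroup G, A ≤ S → Group.IsSolvable S → ∀ a ∈ A, ∀ s ∈ S, a * s = s * a) →
    A ≤ Subgroup.center G := by
  intro n
  induction n using Nat.strong_induction_on with
  | _ n ih =>
  intro G _ _ hn A hA hc
  set C := Subgroup.centralizer (A : Set G) with hC
  have memC : ∀ {x : G}, x ∈ C ↔ ∀ a ∈ A, a * x = x * a := fun {x} =>
    Subgroup.mem_centralizer_iff
  by_contra hne
  have hCtop : C ≠ ⊤ := fun e => hne fun a ha => Subgroup.mem_center_iff.2 fun x =>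
    (memC.1 (e ▸ Subgroup.mem_top x) a ha).symm
  have hAC : A ≤ C := fun x hx => memC.2 fun a ha => hc A le_rfl hA a ha x hx
  have key : ∀ M : Subgroup G, M ≠ ⊤ → A ≤ M → M ≤ C := by
    intro M hM hAM
    have hlt : Nat.card M < n := hn ▸ lt_of_le_of_ne (Nat.le_of_dvd Nat.card_pos
      M.card_subgroup_dvd_card) fun e => hM (Subgroup.eq_top_of_card_eq _ e)
    haveI := hA
    have h := ih _ hlt (G := M) rfl (A.subgroupOf M)
      (Group.isSolvable_of_isSolvable_injective (f := (Subgroup.subgroupOfEquivOfLe hAM).toMonoidHom)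
        (Subgroup.subgroupOfEquivOfLe hAM).injective)
      (fun S hS hSs a ha s hs => by
        haveI := hSs
        have hS' : Group.IsSolvable (S.map M.subtype) :=
          Group.isSolvable_of_surjective (f := M.subtype.subgroupMap S)
            (M.subtype.subgroupMap_surjective S)
        refine Subtype.ext (hc (S.map M.subtype) (fun x hx => ⟨⟨x, hAM hx⟩, hS hx, rfl⟩) hS'
          a ha s ⟨s, hs, rfl⟩))
    intro m hm
    exact memC.2 fun a ha => (congrArg Subtype.val
      (Subgroup.mem_center_iff.1 (h (x := ⟨a, hAM ha⟩) ha) ⟨m, hm⟩)).symm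
  have hns : ¬ Group.IsSolvable G := fun h => by
    haveI := h
    exact hne fun a ha => Subgroup.mem_center_iff.2 fun x =>
      (hc ⊤ le_top inferInstance a ha x (Subgroup.mem_top x)).symm
  -- the centraliser is not normal
  have hnn : ¬ C.Normal := fun hN => by
    haveI := hN
    set U := C ⊓ Subgroup.centralizer (C : Set G) with hU
    haveI : U.Normal := by rw [hU]; infer_instance
    have hAU : A ≤ U := fun a ha => ⟨hAC ha, Subgroup.mem_centralizer_iff.2 fun x hx =>
      (memC.1 hx a ha).symm⟩
    have hUs : Group.IsSolvable U :=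
      Group.isSolvable_of_comm fun a b => Subtype.ext
        (Subgroup.mem_centralizer_iff.1 b.2.2 _ a.2.1)
    refine hCtop ((Subgroup.eq_top_iff' _).2 fun g => memC.2 fun a ha => ?_)
    refine hc ((Subgroup.zpowers (QuotientGroup.mk' U g)).comap (QuotientGroup.mk' U)) ?_
      (isSolvable_comap_zpowers U hUs g) a ha g (Subgroup.mem_zpowers _)
    intro x hx
    rw [Subgroup.mem_comap, show QuotientGroup.mk' U x = 1 from (QuotientGroup.eq_one_iff x).2 (hAU hx)]
    exact Subgroup.one_mem _
  -- conjugates of the centraliser meet in the centre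
  have hTI : ∀ g : G, g ∉ C → ∀ x ∈ C, g⁻¹ * x * g ∈ C → x ∈ Subgroup.center G := by
    intro g hg x hx hx'
    by_contra hxz
    have hD : Subgroup.centralizer ({x} : Set G) ≠ ⊤ := fun e => hxz
      (Subgroup.mem_center_iff.2 fun y =>
        (Subgroup.mem_centralizer_iff.1 (e.ge (Subgroup.mem_top y)) x rfl).symm)
    have hDC := key _ hD fun a ha => Subgroup.mem_centralizer_iff.2 fun y hy => by
      rw [Set.mem_singleton_iff.1 hy]
      exact (memC.1 hx a ha).symm
    have hAg : ∀ a ∈ A, g * a * g⁻¹ ∈ C := fun a ha => hDC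
      (Subgroup.mem_centralizer_iff.2 fun y hy => by
        rw [Set.mem_singleton_iff.1 hy]
        have e := memC.1 hx' a ha
        calc x * (g * a * g⁻¹) = g * ((g⁻¹ * x * g) * a) * g⁻¹ := by group
          _ = g * (a * (g⁻¹ * x * g)) * g⁻¹ := by rw [e]
          _ = g * a * g⁻¹ * x := by group)
    have hconj : C.map (MulAut.conj g⁻¹).toMonoidHom ≤ C := by
      refine key _ (fun e => hCtop (Subgroup.eq_top_of_card_eq _ ?_)) fun a ha =>
        ⟨g * a * g⁻¹, hAg a ha, by simp [mul_assoc]⟩
      rw [← Subgroup.card_map_of_injective (f := (MulAut.conj g⁻¹).toMonoidHom)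
        (MulAut.conj g⁻¹).injective, e, Subgroup.card_top]
    have heq : C.map (MulAut.conj g⁻¹).toMonoidHom = C := Subgroup.eq_of_le_of_card_ge hconj
      (le_of_eq (Subgroup.card_map_of_injective (MulAut.conj g⁻¹).injective).symm)
    have hgN : g⁻¹ ∈ Subgroup.normalizer (C : Set G) := Subgroup.mem_normalizer_iff.2 fun m => by
      constructor
      · intro hm
        exact heq.le ⟨m, hm, rfl⟩
      · intro hm
        obtain ⟨y, hy, e⟩ := heq.ge hm
        simpa [(MulAut.conj g⁻¹).injective.eq_iff] using (show m = y from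
          (MulAut.conj g⁻¹).injective (e ▸ rfl)) ▸ hy
    by_cases hN : Subgroup.normalizer (C : Set G) = ⊤
    · exact hnn (Subgroup.normalizer_eq_top_iff.1 hN)
    · exact hg (inv_mem_iff.1 (key _ hN (hAC.trans Subgroup.le_normalizer) hgN))
  set Z := Subgroup.center G with hZ
  set f := QuotientGroup.mk' Z with hf
  have hker : f.ker = Z := QuotientGroup.ker_mk' _
  have hZC : Z ≤ C := Subgroup.center_le_centralizer _
  have hCm : (C.map f).comap f = C := by
    rw [Subgroup.comap_map_eq, hker, sup_eq_left.2 hZC]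
  have hFC : Cfsg.IsFrobeniusComplement (C.map f) := by
    refine ⟨fun e => hne (hAC.trans ?_), fun e => hCtop ?_, fun q hq => ?_⟩
    · rw [← hCm, e, MonoidHom.comap_bot, hker]
    · rw [← hCm, e, Subgroup.comap_top]
    · obtain ⟨g, rfl⟩ := QuotientGroup.mk'_surjective Z q
      refine (Subgroup.eq_bot_iff_forall _).2 fun y hy => ?_
      obtain ⟨hy1, hy2⟩ := hy
      replace hy2 := CfsgLib.Frobenius.mem_conjSMul_iff.1 hy2
      obtain ⟨x, hx, rfl⟩ := hy1
      have hgC : g ∉ C := fun h => hq ⟨g, h, rfl⟩
      have hx' : g⁻¹ * x * g ∈ C := by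
        rw [← hCm, Subgroup.mem_comap, map_mul, map_mul, map_inv]
        exact hy2
      exact (QuotientGroup.eq_one_iff x).2 (hTI g hgC x hx hx')
  obtain ⟨N, hNk, hNn, hNnil⟩ := Cfsg.Agent.S0042.result (C.map f) hFC
  haveI := hNn
  haveI := hNnil
  haveI : Group.IsSolvable N := inferInstance
  have hNbot : N ≠ ⊥ := fun e => by
    have h2 := CfsgLib.Frobenius.index_ge_two hFC
    have h1 := CfsgLib.Frobenius.ncard_kernel hFC
    rw [← hNk, e, Subgroup.coe_bot, Set.ncard_singleton] at h1
    omega
  haveI : Group.IsSolvable Z := Group.isSolvable_of_comm fun a b =>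
    Subtype.ext (Subgroup.mem_center_iff.1 b.2 a)
  set K := N.comap f with hK
  have hKs : Group.IsSolvable K := by
    refine Group.isSolvable_of_ker_le_range (Subgroup.inclusion (show Z ≤ K from fun z hz => by
      rw [hK, Subgroup.mem_comap, show f z = 1 from (QuotientGroup.eq_one_iff z).2 hz]
      exact Subgroup.one_mem _)) (f.subgroupComap N) ?_
    intro x hx
    have hxZ : (x : G) ∈ Z := (QuotientGroup.eq_one_iff (x : G)).1 (congrArg Subtype.val hx)
    exact ⟨⟨x, hxZ⟩, Subtype.ext rfl⟩
  have hKA : K ⊔ A = ⊤ := by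
    by_contra h
    refine hNbot ((Subgroup.eq_bot_iff_forall _).2 fun y hy => ?_)
    obtain ⟨x, rfl⟩ := QuotientGroup.mk'_surjective Z y
    exact CfsgLib.Frobenius.eq_one_of_mem_kernel_of_mem' (H := C.map f) (by rw [← hNk]; exact hy)
      (Subgroup.mem_map_of_mem f
        (key _ h le_sup_right (Subgroup.mem_sup_left (Subgroup.mem_comap.2 hy))))
  haveI := hKs
  haveI := hA
  haveI : Group.IsSolvable (G ⧸ K) := by
    refine Group.isSolvable_of_surjective (f := (QuotientGroup.mk' K).comp A.subtype) ?_
    rw [← MonoidHom.range_eq_top, MonoidHom.range_comp, Subgroup.range_subtype]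
    rw [← Subgroup.map_top_of_surjective _ (QuotientGroup.mk'_surjective K), ← hKA,
      Subgroup.map_sup, QuotientGroup.map_mk'_self, bot_sup_eq]
  exact hns (Group.isSolvable_of_ker_le_range K.subtype (QuotientGroup.mk' K)
    (by rw [QuotientGroup.ker_mk', Subgroup.range_subtype]))

/-- Let A be a solvable subgroup of a finite group G such that A lies in the centre of every solvable subgroup of G containing A. Then A lies in the centre of G. -/
theorem result {G : Type*} [Group G] [Finite G]
    (A : Subgroup G) (hA : Group.IsSolvable A)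
    (hc : ∀ S : Subgroup G, A ≤ S → Group.IsSolvable S → ∀ a ∈ A, ∀ s ∈ S, a * s = s * a) : A ≤ Subgroup.center G := by
  exact aux _ rfl A hA hc

end Cfsg.Agent.S4097
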