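import Cfsg.Statements.S4100
import Cfsg.Agent.Lib.SolvCent.Degree

set_option autoImplicit false
open Cfsg

namespace Cfsg.Agent.S4100

/-- Let G be a finite group and p a prime other than 3 such that the centralizer of every non-central element of p-power order is solvable. Then every alternating group of degree at least 5 involved in G (as a section) has degree at most p + 4, or at most p + 6 = 8 when p = 2. -/
theorem result {G : Type*} [Group G] [Finite G] (p : ℕ) [Fact p.Prime] (hp3 : p ≠ 3)
    (h : ∀ x : G, x ∉ Subgroup.center G → (∃ k : ℕ, orderOf x = p ^ k) → Group.IsSolvable (Subgroup.centralizer ({x} : Set G)))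
    (d : ℕ) (hd : 5 ≤ d) (hinv : Cfsg.Involves (alternatingGroup (Fin d)) G) :
    d ≤ p + 4 + (if p = 2 then 2 else 0) := by
  classical
  have hp := (Fact.out : p.Prime)
  have hG : CfsgLib.SolvCent.Hyp p G := h
  by_contra hlt
  push Not at hlt
  rcases eq_or_ne p 2 with rfl | hp2
  · rw [if_pos rfl] at hlt
    obtain ⟨H, π, hH, hπ⟩ := CfsgLib.SolvCent.exists_cover hG (N := 5 + 4) (by omega) hinv
    exact CfsgLib.SolvCent.no_cover_of 4 (t := Equiv.swap 0 1 * Equiv.swap 2 3) (by decide) (by decide) (by decide)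
      (Or.inr fun V _ _ _ hV hs => CfsgLib.SolvCent.Mod9.false_of_solvable hV hs) H hH π hπ
  · rw [if_neg hp2, add_zero] at hlt
    obtain ⟨H, π, hH, hπ⟩ := CfsgLib.SolvCent.exists_cover hG (N := 5 + p) (by omega) hinv
    rcases eq_or_ne p 5 with rfl | hp5
    · exact CfsgLib.SolvCent.no_cover_of 5 (t := finRotate 5) (by decide) (by decide) (by decide)
        (Or.inr fun V _ _ _ hV hs => CfsgLib.SolvCent.Mod10.false_of_solvable hV hs) H hH π hπ
    · obtain ⟨q, rfl⟩ : ∃ q, p = q + 2 := ⟨p - 2, by have := hp.two_le; omega⟩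
      refine CfsgLib.SolvCent.no_cover_of (q + 2) (t := finRotate (q + 2)) ?_ (fun e => ?_) ?_ (Or.inl ?_) H hH π hπ
      · rw [sign_finRotate]
        exact Even.neg_one_pow (Nat.Odd.sub_odd (hp.odd_of_ne_two hp2) odd_one)
      · exact isCycle_finRotate.ne_one e
      · have h1 := isCycle_finRotate.orderOf (f := finRotate (q + 2))
        rw [support_finRotate, Finset.card_univ, Fintype.card_fin] at h1
        conv_lhs => arg 2; rw [← h1]
        exact pow_orderOf_eq_one _
      · rw [hp.coprime_iff_not_dvd]
        intro hd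
        rw [show 60 = 2 * 2 * 3 * 5 from rfl] at hd
        rcases hp.dvd_mul.1 hd with hd | hd
        · rcases hp.dvd_mul.1 hd with hd | hd
          · rcases hp.dvd_mul.1 hd with hd | hd <;> exact hp2 ((Nat.prime_dvd_prime_iff_eq hp Nat.prime_two).1 hd)
          · exact hp3 ((Nat.prime_dvd_prime_iff_eq hp Nat.prime_three).1 hd)
        · exact hp5 ((Nat.prime_dvd_prime_iff_eq hp Nat.prime_five).1 hd)

end Cfsg.Agent.S4100
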