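import Cfsg.Statements.S4104
import Cfsg.Agent.Lib.PiClassHall.Main

set_option autoImplicit false
open Cfsg

namespace Cfsg.Agent.S4104

/-- Let G be a finite group, π a set of primes with least member p, m the π-part of the order of G and k the number of conjugacy classes of G consisting of π-elements (elements whose order is divisible only by primes in π). If k > m/p, then G has a nilpotent Hall π-subgroup (a nilpotent subgroup of order m) whose derived subgroup has order at most p. -/
theorem result {G : Type*} [Group G] [Finite G]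
    (π : Set ℕ) (hπ : ∀ q ∈ π, q.Prime) (p : ℕ) (hp : p ∈ π) (hmin : ∀ q ∈ π, p ≤ q)
    (m : ℕ) (hm : m ∣ Nat.card G) (hmπ : ∀ q : ℕ, q.Prime → q ∣ m → q ∈ π)
    (hm' : ∀ q ∈ π, ¬ q ∣ Nat.card G / m)
    (k : ℕ) (hk : k = Nat.card {C : ConjClasses G // ∀ q : ℕ, q.Prime → (∃ g : G, ConjClasses.mk g = C ∧ q ∣ orderOf g) → q ∈ π})
    (hmany : m < p * k) :
    ∃ H : Subgroup G, Nat.card H = m ∧ Group.IsNilpotent H ∧ Nat.card (commutator H) ≤ p := by
  have hp2 : 2 ≤ p := (hπ p hp).two_le
  have := Fact.mk (hπ p hp)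
  have hpq : (2 : ℚ) ≤ p := by exact_mod_cast hp2
  have hp0 : (0 : ℚ) < p := by linarith
  set T : ℚ := 1 / (p : ℚ) with hTdef
  have hT : 1 ≤ (p : ℚ) * T := by rw [hTdef, mul_div_cancel₀ _ hp0.ne']
  have hmany' : T * m < (k : ℚ) := by
    have h : (m : ℚ) < (p : ℚ) * k := by exact_mod_cast hmany
    rw [hTdef, div_mul_eq_mul_div, div_lt_iff₀ hp0]
    linarith
  obtain ⟨H, hH, hHc, hcl⟩ :=
    CfsgLib.PiClassHall.exists_hall_and_classes hp2 hT π hπ hmin m hm hmπ hm' k hk hmany'
  refine ⟨H, hHc, hH, ?_⟩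
  obtain ⟨P⟩ := (inferInstance : Nonempty (Sylow p H))
  refine (CfsgLib.PiClassHall.card_commutator_le_of_nilpotent hH (fun r hr hrp S => ?_) P).trans ?_
  · have := Fact.mk hr
    by_cases hrπ : r ∈ π
    · exact CfsgLib.PiClassHall.isMulCommutative_of_many hp2 hT
        (lt_of_le_of_ne (hmin r hrπ) (Ne.symm hrp)) S.isPGroup' (hcl r hrπ S)
    · refine IsMulCommutative.of_comm fun a b => ?_
      have h1 : Nat.card S = 1 := by
        rw [S.card_eq_multiplicity, Nat.factorization_eq_zero_of_not_dvd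
          (fun h => hrπ (hmπ r hr (hHc ▸ h))), pow_zero]
      have := (Nat.card_eq_one_iff_unique.mp h1).1
      exact Subsingleton.elim _ _
  · by_contra hlt
    have h1 : (p : ℚ) * Nat.card (ConjClasses P) ≤ Nat.card P := by
      exact_mod_cast CfsgLib.PiClassHall.class_bound_of_large_commutator P.isPGroup' (not_le.mp hlt)
    have h2 := mul_lt_mul_of_pos_left (hcl p hp P) hp0
    rw [hTdef, ← mul_assoc, mul_div_cancel₀ _ hp0.ne', one_mul] at h2
    linarith

end Cfsg.Agent.S4104
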