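import Cfsg.Statements.S4105
import Cfsg.Agent.Lib.PiClassHall.Main

set_option autoImplicit false
open Cfsg

namespace Cfsg.Agent.S4105

/-- Let G be a finite group, π a set of primes with least member p, m the π-part of the order of G and k the number of conjugacy classes of G consisting of π-elements. If k > m·(p² + p − 1)/p³, then G has an abelian Hall π-subgroup (an abelian subgroup of order m). -/
theorem result {G : Type*} [Group G] [Finite G]
    (π : Set ℕ) (hπ : ∀ q ∈ π, q.Prime) (p : ℕ) (hp : p ∈ π) (hmin : ∀ q ∈ π, p ≤ q)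
    (m : ℕ) (hm : m ∣ Nat.card G) (hmπ : ∀ q : ℕ, q.Prime → q ∣ m → q ∈ π)
    (hm' : ∀ q ∈ π, ¬ q ∣ Nat.card G / m)
    (k : ℕ) (hk : k = Nat.card {C : ConjClasses G // ∀ q : ℕ, q.Prime → (∃ g : G, ConjClasses.mk g = C ∧ q ∣ orderOf g) → q ∈ π})
    (hmany : m * (p ^ 2 + p - 1) < p ^ 3 * k) :
    ∃ H : Subgroup G, Nat.card H = m ∧ IsMulCommutative H := by
  have hp2 : 2 ≤ p := (hπ p hp).two_le
  have := Fact.mk (hπ p hp)
  obtain ⟨s, hs⟩ : ∃ s, p = s + 2 := ⟨p - 2, by omega⟩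
  have hnum : ((p ^ 2 + p - 1 : ℕ) : ℚ) = (p : ℚ) ^ 2 + p - 1 := by
    rw [Nat.cast_sub (by nlinarith)]
    push_cast
    ring
  have hpq : (2 : ℚ) ≤ p := by exact_mod_cast hp2
  have hp3 : (0 : ℚ) < (p : ℚ) ^ 3 := pow_pos (by linarith) 3
  set T : ℚ := ((p : ℚ) ^ 2 + p - 1) / (p : ℚ) ^ 3 with hTdef
  have hT : 1 ≤ (p : ℚ) * T := by
    rw [hTdef, mul_div_assoc', le_div_iff₀ hp3]
    nlinarith
  have hmany' : T * m < (k : ℚ) := by
    have h : (m : ℚ) * ((p ^ 2 + p - 1 : ℕ) : ℚ) < (p : ℚ) ^ 3 * k := by exact_mod_cast hmany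
    rw [hnum] at h
    rw [hTdef, div_mul_eq_mul_div, div_lt_iff₀ hp3]
    linarith
  obtain ⟨H, hH, hHc, hcl⟩ :=
    CfsgLib.PiClassHall.exists_hall_and_classes hp2 hT π hπ hmin m hm hmπ hm' k hk hmany'
  refine ⟨H, hHc, CfsgLib.ConjAbelian.isMulCommutative_of_sylow hH fun r hr S => ?_⟩
  have := Fact.mk hr
  by_cases hrπ : r ∈ π
  · rcases eq_or_lt_of_le (hmin r hrπ) with hrp | hrp
    · subst hrp
      by_contra hna
      have h1 : (p : ℚ) ^ 3 * Nat.card (ConjClasses S) + Nat.card S ≤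
          ((p : ℚ) ^ 2 + p) * Nat.card S := by
        exact_mod_cast CfsgLib.PiClassHall.class_bound_of_nonabelian S.isPGroup' hna
      have h2 := mul_lt_mul_of_pos_left (hcl p hrπ S) hp3
      rw [hTdef, ← mul_assoc, mul_div_cancel₀ _ hp3.ne'] at h2
      linarith
    · exact CfsgLib.PiClassHall.isMulCommutative_of_many hp2 hT hrp S.isPGroup' (hcl r hrπ S)
  · refine IsMulCommutative.of_comm fun a b => ?_
    have h1 : Nat.card S = 1 := by
      rw [S.card_eq_multiplicity, Nat.factorization_eq_zero_of_not_dvd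
        (fun h => hrπ (hmπ r hr (hHc ▸ h))), pow_zero]
    have := (Nat.card_eq_one_iff_unique.mp h1).1
    exact Subsingleton.elim _ _

end Cfsg.Agent.S4105
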