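import Cfsg.Statements.S4106

set_option autoImplicit false
open Cfsg Pointwise

namespace Cfsg.Agent.S4106

/-- Let G be a finite group, π a set of primes and m the π-part of the order of G. Then the number of conjugacy classes of G consisting of π-elements (elements whose order is divisible only by primes in π) is at most m. -/
theorem result {G : Type*} [Group G] [Finite G]
    (π : Set ℕ) (hπ : ∀ q ∈ π, q.Prime)
    (m : ℕ) (hm : m ∣ Nat.card G) (hmπ : ∀ q : ℕ, q.Prime → q ∣ m → q ∈ π)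
    (hm' : ∀ q ∈ π, ¬ q ∣ Nat.card G / m) :
    Nat.card {C : ConjClasses G // ∀ q : ℕ, q.Prime → (∃ g : G, ConjClasses.mk g = C ∧ q ∣ orderOf g) → q ∈ π} ≤ m := by
  classical
  suffices key : ∀ (s : Finset ℕ) (X : Subgroup G), (∀ q ∈ s, q.Prime) →
      ∃ R : Finset G, R.card ≤ ∏ q ∈ s, q ^ (Nat.card X).factorization q ∧
        ∀ g ∈ X, (∀ q : ℕ, q.Prime → q ∣ orderOf g → q ∈ s) → ∃ r ∈ R, ∃ c ∈ X, c * r * c⁻¹ = g by
    obtain ⟨R, hR, hcov⟩ := key m.primeFactors ⊤ (fun q hq => Nat.prime_of_mem_primeFactors hq)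
    have hmG : ∀ q ∈ m.primeFactors, (Nat.card (⊤ : Subgroup G)).factorization q = m.factorization q := by
      intro q hq
      have hm0 : m ≠ 0 := fun h => Nat.card_pos.ne' (zero_dvd_iff.mp (h ▸ hm))
      obtain ⟨hq1, hq2, -⟩ := Nat.mem_primeFactors.mp hq
      have h2 : Nat.card G / m ≠ 0 := by
        have := Nat.div_pos (Nat.le_of_dvd Nat.card_pos hm) (Nat.pos_of_ne_zero hm0)
        omega
      rw [Subgroup.card_top, ← Nat.mul_div_cancel' hm, Nat.factorization_mul hm0 h2, Finsupp.add_apply,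
        Nat.factorization_eq_zero_of_not_dvd (hm' q (hmπ q hq1 hq2)), add_zero]
    have hprod : ∏ q ∈ m.primeFactors, q ^ (Nat.card (⊤ : Subgroup G)).factorization q = m := by
      rw [Finset.prod_congr rfl (fun q hq => by rw [hmG q hq])]
      have hm0 : m ≠ 0 := fun h => Nat.card_pos.ne' (zero_dvd_iff.mp (h ▸ hm))
      exact Nat.prod_factorization_pow_eq_self hm0
    rw [hprod] at hR
    refine le_trans ?_ hR
    rw [← Nat.card_eq_finsetCard]
    have hrep : ∀ C : {C : ConjClasses G // ∀ q : ℕ, q.Prime → (∃ g : G, ConjClasses.mk g = C ∧ q ∣ orderOf g) → q ∈ π},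
        ∃ r : R, ConjClasses.mk (r : G) = C.1 := by
      rintro ⟨C, hC⟩
      obtain ⟨g, rfl⟩ := ConjClasses.mk_surjective C
      obtain ⟨r, hr, c, -, hcr⟩ := hcov g trivial (fun q hq hqd => by
        refine Nat.mem_primeFactors.mpr ⟨hq, ?_, fun h => Nat.card_pos.ne' (zero_dvd_iff.mp (h ▸ hm))⟩
        have hqG : q ∣ m * (Nat.card G / m) := by
          rw [Nat.mul_div_cancel' hm]; exact hqd.trans (orderOf_dvd_natCard g)
        exact (hq.dvd_mul.mp hqG).resolve_right (hm' q (hC q hq ⟨g, rfl, hqd⟩)))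
      exact ⟨⟨r, hr⟩, ConjClasses.mk_eq_mk_iff_isConj.mpr (isConj_iff.mpr ⟨c, hcr⟩)⟩
    choose f hf using hrep
    exact Nat.card_le_card_of_injective f fun C D h => Subtype.ext (by rw [← hf C, ← hf D, h])
  intro s
  induction s using Finset.induction with
  | empty =>
    intro X _
    refine ⟨{1}, by simp, fun g hg h => ⟨1, by simp, 1, X.one_mem, ?_⟩⟩
    have : orderOf g = 1 := by
      by_contra hne
      obtain ⟨q, hq, hqd⟩ := Nat.exists_prime_and_dvd hne
      exact absurd (h q hq hqd) (Finset.notMem_empty q)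
    rw [orderOf_eq_one_iff.mp this]; simp
  | @insert p s hps ih =>
    intro X hs
    haveI := Fact.mk (hs p (Finset.mem_insert_self p s))
    haveI : Fintype G := Fintype.ofFinite G
    obtain ⟨P⟩ : Nonempty (Sylow p X) := inferInstance
    choose R hR hcov using fun Y : Subgroup G => ih Y (fun q hq => hs q (Finset.mem_insert_of_mem hq))
    let Pset : Finset G := Finset.univ.filter fun x => x ∈ (P : Subgroup X).map X.subtype
    refine ⟨Pset.biUnion fun x => (R (X ⊓ Subgroup.centralizer {x})).image (x * ·), ?_, ?_⟩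
    · calc _ ≤ ∑ x ∈ Pset, ((R (X ⊓ Subgroup.centralizer {x})).image (x * ·)).card := Finset.card_biUnion_le
        _ ≤ Pset.card * ∏ q ∈ s, q ^ (Nat.card X).factorization q := by
            rw [← smul_eq_mul]
            refine Finset.sum_le_card_nsmul _ _ _ fun x _ => ?_
            refine Finset.card_image_le.trans ((hR _).trans (Finset.prod_le_prod' fun q hq => ?_))
            refine Nat.pow_le_pow_right (hs q (Finset.mem_insert_of_mem hq)).pos ?_
            exact (Nat.factorization_le_iff_dvd Nat.card_pos.ne' Nat.card_pos.ne').mpr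
              (Subgroup.card_dvd_of_le inf_le_left) q
        _ = _ := by
            rw [Finset.prod_insert hps, ← Sylow.card_eq_multiplicity P]
            congr 1
            rw [← Subgroup.card_map_of_injective X.subtype_injective, Nat.card_eq_fintype_card, Fintype.card_subtype]
    intro g hg hgs
    have hn0 := (orderOf_pos g).ne'
    set n := orderOf g
    obtain ⟨x, y, hxy, hxz, hyz, hxo, hyo⟩ : ∃ x y : G, x * y = g ∧ x ∈ Subgroup.zpowers g ∧ y ∈ Subgroup.zpowers g ∧
        x ^ (ordProj[p] n) = 1 ∧ y ^ (ordCompl[p] n) = 1 := by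
      obtain ⟨A, hA⟩ : ∃ A, A = ordProj[p] n := ⟨_, rfl⟩
      obtain ⟨B, hB⟩ : ∃ B, B = ordCompl[p] n := ⟨_, rfl⟩
      have hc : A.Coprime B := hA ▸ hB ▸
        Nat.Coprime.pow_left _ (Nat.coprime_ordCompl (Fact.out : p.Prime) hn0)
      have hAB : g ^ (A * B) = 1 := by
        rw [hA, hB, Nat.ordProj_mul_ordCompl_eq_self]; exact pow_orderOf_eq_one g
      obtain ⟨u, v, huv⟩ := Nat.isCoprime_iff_coprime.mpr hc
      rw [← hB, ← hA]
      refine ⟨g ^ (v * (B : ℤ)), g ^ (u * (A : ℤ)), ?_, ⟨_, rfl⟩, ⟨_, rfl⟩, ?_, ?_⟩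
      · rw [← zpow_add, add_comm, huv, zpow_one]
      · rw [← zpow_natCast, ← zpow_mul, show v * (B : ℤ) * (A : ℤ) = ((A * B : ℕ) : ℤ) * v by push_cast; ring,
          zpow_mul, zpow_natCast, hAB, one_zpow]
      · rw [← zpow_natCast, ← zpow_mul, show u * (A : ℤ) * (B : ℤ) = ((A * B : ℕ) : ℤ) * u by push_cast; ring,
          zpow_mul, zpow_natCast, hAB, one_zpow]
    have hxX : x ∈ X := Subgroup.zpowers_le.mpr hg hxz
    have hyX : y ∈ X := Subgroup.zpowers_le.mpr hg hyz
    obtain ⟨Q, hQ⟩ := (IsPGroup.of_card_dvd_pow (p := p) (n := n.factorization p)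
      (G := ↥(Subgroup.zpowers (⟨x, hxX⟩ : X))) (by
        rw [Nat.card_zpowers, ← Subgroup.orderOf_coe]
        exact orderOf_dvd_of_pow_eq_one hxo)).exists_le_sylow
    obtain ⟨c, hc⟩ := MulAction.exists_smul_eq X P Q
    have hx0 : (c : G)⁻¹ * x * c ∈ (P : Subgroup X).map X.subtype := by
      have h1 := hQ (Subgroup.mem_zpowers _)
      rw [← hc, Sylow.coe_subgroup_smul, Subgroup.mem_pointwise_smul_iff_inv_smul_mem] at h1
      exact ⟨_, h1, by simp [mul_assoc]⟩
    set x₀ := (c : G)⁻¹ * x * c with hx₀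
    have hy0 : (c : G)⁻¹ * y * c ∈ X ⊓ Subgroup.centralizer {x₀} := by
      refine ⟨X.mul_mem (X.mul_mem (X.inv_mem c.2) hyX) c.2, Subgroup.mem_centralizer_singleton_iff.mpr ?_⟩
      obtain ⟨i, rfl⟩ := hxz
      obtain ⟨j, rfl⟩ := hyz
      rw [hx₀]
      simp only [mul_assoc, mul_inv_cancel_left]
      rw [← mul_assoc (g ^ j) (g ^ i), ← zpow_add, ← mul_assoc (g ^ i) (g ^ j), ← zpow_add, add_comm]
    obtain ⟨r, hr, d, hd, hdr⟩ := hcov (X ⊓ Subgroup.centralizer {x₀}) _ hy0 (fun q hq hqd => by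
      have he : orderOf ((c : G)⁻¹ * y * c) = orderOf y := by
        simpa using (MulAut.conj (c : G)⁻¹).orderOf_eq y
      rw [he] at hqd
      have hqy := hqd.trans (orderOf_dvd_of_pow_eq_one hyo)
      refine (Finset.mem_insert.mp (hgs q hq (hqy.trans (Nat.ordCompl_dvd n p)))).resolve_left ?_
      rintro rfl
      exact Nat.not_dvd_ordCompl hq hn0 hqy)
    refine ⟨x₀ * r, Finset.mem_biUnion.mpr ⟨x₀, Finset.mem_filter.mpr ⟨Finset.mem_univ _, hx0⟩, Finset.mem_image_of_mem _ hr⟩,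
      c * d, X.mul_mem c.2 hd.1, ?_⟩
    have hdx : d * x₀ = x₀ * d := Subgroup.mem_centralizer_singleton_iff.mp hd.2
    calc (c : G) * d * (x₀ * r) * ((c : G) * d)⁻¹
        = (c : G) * (d * x₀) * (r * d⁻¹) * (c : G)⁻¹ := by simp [mul_assoc]
      _ = (c : G) * x₀ * (d * r * d⁻¹) * (c : G)⁻¹ := by rw [hdx]; simp [mul_assoc]
      _ = g := by rw [hdr, hx₀, ← hxy]; simp [mul_assoc]

end Cfsg.Agent.S4106
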