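import Cfsg.Statements.S4107

set_option autoImplicit false
open Cfsg

namespace Cfsg.Agent.S4107

/-- Let G be a finite group and N a proper non-trivial normal subgroup such that for every x outside N all elements of the coset xN have the same order as x. Then N ≤ F(G) or F(G) ≤ N, where F(G) is the Fitting subgroup; and if N is properly contained in F(G) then F(G) has prime-power order. -/
theorem result {G : Type*} [Group G] [Finite G] (N : Subgroup G) [N.Normal] (hN1 : N ≠ ⊥) (hN2 : N ≠ ⊤)
    (heq : ∀ x : G, x ∉ N → ∀ n ∈ N, orderOf (x * n) = orderOf x) :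
    (N ≤ Cfsg.fittingSubgroup G ∨ Cfsg.fittingSubgroup G ≤ N) ∧
    (N < Cfsg.fittingSubgroup G → IsPrimePow (Nat.card (Cfsg.fittingSubgroup G))) := by
  have hnil : ∀ (K : Subgroup G), Group.IsNilpotent K → ∀ (p : ℕ) [Fact p.Prime] (P : Sylow p K),
      (P : Subgroup K).Characteristic := by
    intro K hK p _ P
    exact Sylow.characteristic_of_normal P ((Group.isNilpotent_of_finite_tfae.out 0 3 rfl rfl).mp hK p inferInstance P)
  by_cases hF : Cfsg.fittingSubgroup G ≤ N
  · exact ⟨Or.inr hF, fun h => absurd (le_antisymm h.le hF) h.ne⟩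
  -- a normal `p`-subgroup not inside `N` forces `N` to be a `p`-group
  have keyN : ∀ (p : ℕ) [Fact p.Prime] (P : Subgroup G), P.Normal → IsPGroup p P → ¬ P ≤ N → IsPGroup p N := by
    intro p _ P hPn hP hPN
    obtain ⟨x, hxP, hxN⟩ := SetLike.not_le_iff_exists.mp hPN
    obtain ⟨k, hk⟩ := hP ⟨x, hxP⟩
    have hk' : x ^ p ^ k = 1 := congrArg Subtype.val hk
    intro n
    have h1 : (x * (n : G)) ^ p ^ k = 1 := by
      rw [← orderOf_dvd_iff_pow_eq_one, heq x hxN n n.2, orderOf_dvd_iff_pow_eq_one]; exact hk'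
    have := congrArg (QuotientGroup.mk' P) h1
    rw [map_pow, map_mul, map_one, (QuotientGroup.eq_one_iff x).mpr hxP |> fun e => (show QuotientGroup.mk' P x = 1 from e), one_mul, ← map_pow] at this
    have hmem : (n : G) ^ p ^ k ∈ P := (QuotientGroup.eq_one_iff _).mp this
    obtain ⟨l, hl⟩ := hP ⟨_, hmem⟩
    refine ⟨k + l, Subtype.ext ?_⟩
    have hl' : ((n : G) ^ p ^ k) ^ p ^ l = 1 := congrArg Subtype.val hl
    rw [Subgroup.coe_pow, Subgroup.coe_one, pow_add, pow_mul]
    exact hl'
  -- find a normal `p`-subgroup outside `N`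
  obtain ⟨K, ⟨hKn, hKnil⟩, hKN⟩ : ∃ K : Subgroup G, (K.Normal ∧ Group.IsNilpotent K) ∧ ¬ K ≤ N := by
    by_contra h
    push Not at h
    exact hF (sSup_le fun K hK => h K hK)
  have hex : ∃ (p : ℕ) (_ : Fact p.Prime) (P : Subgroup G), P.Normal ∧ IsPGroup p P ∧ ¬ P ≤ N := by
    by_contra h
    push Not at h
    apply hKN
    have hsub : ∀ q ∈ (Nat.card K).primeFactors, ∀ Q : Sylow q K, (Q : Subgroup K) ≤ N.subgroupOf K := by
      intro q hq Q
      haveI := Fact.mk (Nat.prime_of_mem_primeFactors hq)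
      haveI := hnil K hKnil q Q
      haveI := hKn
      have hn : ((Q : Subgroup K).map K.subtype).Normal := inferInstance
      have := h q inferInstance _ hn (Q.isPGroup'.map _)
      rwa [Subgroup.map_le_iff_le_comap] at this
    rw [← Subgroup.subgroupOf_eq_top]
    apply Subgroup.eq_top_of_card_eq
    refine Nat.dvd_antisymm (Subgroup.card_subgroup_dvd_card _) ?_
    rw [Nat.dvd_iff_prime_pow_dvd_dvd]
    intro q k hq hqk
    rcases Nat.eq_zero_or_pos k with rfl | hk
    · simp
    haveI := Fact.mk hq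
    obtain ⟨Q⟩ : Nonempty (Sylow q K) := inferInstance
    have hmem : q ∈ (Nat.card K).primeFactors :=
      Nat.mem_primeFactors.mpr ⟨hq, (dvd_pow_self q hk.ne').trans hqk, Nat.card_pos.ne'⟩
    exact (Q.pow_dvd_card_of_pow_dvd_card hqk).trans (Subgroup.card_dvd_of_le (hsub q hmem Q))
  obtain ⟨p, hp, P, hPn, hP, hPN⟩ := hex
  have hNp : IsPGroup p N := keyN p P hPn hP hPN
  have hallp : ∀ K : Subgroup G, K.Normal → Group.IsNilpotent K → IsPGroup p K := by
    intro K hKn hKnil
    have hpart : ∀ (q : ℕ), q.Prime → q ≠ p → ¬ q ∣ Nat.card K := by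
      intro q hq hqp hdvd
      haveI := Fact.mk hq
      obtain ⟨Q⟩ : Nonempty (Sylow q K) := inferInstance
      haveI := hnil K hKnil q Q
      haveI := hKn
      have hn : ((Q : Subgroup K).map K.subtype).Normal := inferInstance
      have hQ : IsPGroup q ((Q : Subgroup K).map K.subtype) := Q.isPGroup'.map _
      have hbot : (Q : Subgroup K).map K.subtype = ⊥ := by
        by_cases hle : (Q : Subgroup K).map K.subtype ≤ N
        · exact disjoint_self.mp (IsPGroup.disjoint_of_ne q p hqp _ _ hQ (hNp.to_le hle))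
        · exact absurd (disjoint_self.mp (IsPGroup.disjoint_of_ne q p hqp _ _ (keyN q _ hn hQ hle) hNp)) hN1
      rw [Subgroup.map_eq_bot_iff_of_injective _ K.subtype_injective] at hbot
      exact Q.ne_bot_of_dvd_card hdvd hbot
    apply IsPGroup.of_card (n := (Nat.card K).primeFactorsList.length)
    exact Nat.eq_prime_pow_of_unique_prime_dvd Nat.card_pos.ne' fun {d} hd hdd => by
      by_contra hne
      exact hpart d hd hne hdd
  have hFp : IsPGroup p (Cfsg.fittingSubgroup G) :=
    Sylow.sSup_of_normal _ (fun K hK => hallp K hK.1 hK.2) (fun K hK => hK.1)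
  have hNF : N ≤ Cfsg.fittingSubgroup G := le_sSup ⟨inferInstance, hNp.isNilpotent⟩
  refine ⟨Or.inl hNF, fun _ => ?_⟩
  obtain ⟨n, hn⟩ := IsPGroup.iff_card.mp hFp
  have hn0 : n ≠ 0 := by
    rintro rfl
    rw [pow_zero, Subgroup.card_eq_one] at hn
    exact hN1 (le_bot_iff.mp (hn ▸ hNF))
  rw [hn]
  exact hp.out.isPrimePow.pow hn0

end Cfsg.Agent.S4107
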