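import Cfsg.Statements.S4108

set_option autoImplicit false
open Cfsg Pointwise

namespace Cfsg.Agent.S4108

/-- Let G be a finite group, p a prime and N a proper non-trivial normal p-subgroup such that for every x outside N all elements of the coset xN have the same order as x. Then every non-trivial subgroup H of G of order prime to p acts fixed-point-freely on N: NH is a Frobenius group with complement H and kernel N. -/
theorem result {G : Type*} [Group G] [Finite G] (N : Subgroup G) [N.Normal] (hN1 : N ≠ ⊥) (hN2 : N ≠ ⊤)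
    (heq : ∀ x : G, x ∉ N → ∀ n ∈ N, orderOf (x * n) = orderOf x)
    (p : ℕ) [Fact p.Prime] (hNp : IsPGroup p N) :
    ∀ H : Subgroup G, H ≠ ⊥ → (Nat.card H).Coprime p →
      Cfsg.IsFrobeniusComplement (H.subgroupOf (N ⊔ H)) ∧ Cfsg.frobeniusKernel (H.subgroupOf (N ⊔ H)) = (N.subgroupOf (N ⊔ H) : Set ↥(N ⊔ H)) := by
  intro H hH1 hcop
  have hdisj : ∀ z ∈ N, z ∈ H → z = 1 := by
    intro z hzN hzH
    obtain ⟨k, hk⟩ := hNp ⟨z, hzN⟩
    have hk' : z ^ p ^ k = 1 := congrArg Subtype.val hk
    have h1 : orderOf z ∣ p ^ k := orderOf_dvd_of_pow_eq_one hk'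
    have h2 : orderOf z ∣ Nat.card H := Subgroup.orderOf_dvd_natCard _ hzH
    rw [← orderOf_eq_one_iff]
    exact Nat.eq_one_of_dvd_coprimes (Nat.Coprime.pow_right k hcop) h2 h1
  have key : ∀ h ∈ H, h ≠ 1 → ∀ c ∈ N, c * h = h * c → c = 1 := by
    intro h hh hh1 c hc hcomm
    have hhN : h ∉ N := fun e => hh1 (hdisj h e hh)
    obtain ⟨k, hk⟩ := hNp ⟨c, hc⟩
    have hk' : c ^ p ^ k = 1 := congrArg Subtype.val hk
    have hco : (orderOf h).Coprime (orderOf c) :=
      Nat.Coprime.of_dvd (Subgroup.orderOf_dvd_natCard _ hh) (orderOf_dvd_of_pow_eq_one hk')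
        (Nat.Coprime.pow_right k hcop)
    have := heq h hhN c hc
    rw [Commute.orderOf_mul_eq_mul_orderOf_of_coprime hcomm.symm hco] at this
    exact orderOf_eq_one_iff.mp (mul_eq_left₀ (orderOf_pos h).ne' |>.mp this)
  have mem_conj : ∀ (g : ↥(N ⊔ H)) (x : ↥(N ⊔ H)),
      x ∈ MulAut.conj g • H.subgroupOf (N ⊔ H) ↔ (g : G)⁻¹ * x * g ∈ H := by
    intro g x
    rw [Subgroup.mem_pointwise_smul_iff_inv_smul_mem, Subgroup.mem_subgroupOf]
    simp
  constructor
  · refine ⟨?_, ?_, ?_⟩
    · intro h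
      rw [Subgroup.subgroupOf_eq_bot, disjoint_iff] at h
      exact hH1 (by rwa [inf_eq_left.mpr le_sup_right] at h)
    · intro h
      rw [Subgroup.subgroupOf_eq_top] at h
      exact hN1 (eq_bot_iff.mpr fun z hz => hdisj z hz (h (Subgroup.mem_sup_left hz)))
    · rintro ⟨g, hg⟩ hgH
      rw [Subgroup.eq_bot_iff_forall]
      rintro ⟨y, hy⟩ ⟨hyH, hy2⟩
      replace hyH : y ∈ H := hyH
      have hy2' : g⁻¹ * y * g ∈ H := (mem_conj _ _).mp hy2
      replace hgH : g ∉ H := hgH
      obtain ⟨m, hm, h, hh, rfl⟩ := Subgroup.mem_sup_of_normal_left.mp hg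
      set w := m⁻¹ * y * m with hw
      have hwH : w ∈ H := by
        have e : w = h * ((m * h)⁻¹ * y * (m * h)) * h⁻¹ := by rw [hw]; simp [mul_assoc]
        rw [e]; exact H.mul_mem (H.mul_mem hh hy2') (H.inv_mem hh)
      have hq : y * w⁻¹ = 1 := by
        refine hdisj _ ?_ (H.mul_mem hyH (H.inv_mem hwH))
        have e : y * w⁻¹ = (y * m⁻¹ * y⁻¹) * m := by rw [hw]; simp [mul_assoc]
        rw [e]; exact N.mul_mem (Subgroup.Normal.conj_mem inferInstance _ (N.inv_mem hm) y) hm
      have hcomm : m * y = y * m := by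
        calc m * y = m * w := by rw [mul_inv_eq_one.mp hq]
          _ = y * m := by rw [hw]; simp [mul_assoc]
      apply Subtype.ext
      by_contra hy1
      have hm1 := key y hyH hy1 m hm hcomm
      exact hgH (by simpa [hm1] using hh)
  · ext x
    simp only [Cfsg.frobeniusKernel, Set.mem_setOf_eq, SetLike.mem_coe, Subgroup.mem_subgroupOf]
    constructor
    · intro hx
      by_contra hxN
      rcases hx with rfl | hx
      · exact hxN (by simp)
      obtain ⟨m, hm, h, hh, hmh⟩ := Subgroup.mem_sup_of_normal_left.mp x.2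
      have hh1 : h ≠ 1 := fun e => hxN (by rw [← hmh, e, mul_one]; exact hm)
      let φ : N → N := fun a => ⟨(a : G) * h * (a : G)⁻¹ * h⁻¹, by
        rw [mul_assoc (a : G) h, mul_assoc (a : G)]
        exact N.mul_mem a.2 (Subgroup.Normal.conj_mem inferInstance _ (N.inv_mem a.2) h)⟩
      have hinj : Function.Injective φ := by
        intro a b hab
        have e : (a : G) * h * (a : G)⁻¹ = (b : G) * h * (b : G)⁻¹ := mul_right_cancel (congrArg Subtype.val hab)
        have e2 := key h hh hh1 ((b : G)⁻¹ * a) (N.mul_mem (N.inv_mem b.2) a.2) (by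
          calc (b : G)⁻¹ * a * h = (b : G)⁻¹ * ((a : G) * h * (a : G)⁻¹) * a := by simp [mul_assoc]
            _ = h * ((b : G)⁻¹ * a) := by rw [e]; simp [mul_assoc])
        exact Subtype.ext (inv_mul_eq_one.mp e2).symm
      obtain ⟨a, ha⟩ := (Finite.injective_iff_surjective.mp hinj) ⟨m, hm⟩
      have ha' : (a : G) * h * (a : G)⁻¹ = x := by
        have := congrArg Subtype.val ha
        simp only [φ] at this
        rw [← hmh, ← this]; simp [mul_assoc]
      exact hx ⟨a, Subgroup.mem_sup_left a.2⟩ ((mem_conj _ _).mpr (by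
        show (a : G)⁻¹ * (x : G) * a ∈ H
        rw [← ha']; simpa [mul_assoc] using hh))
    · intro hxN
      by_contra hx
      push Not at hx
      obtain ⟨hx1, g, hg⟩ := hx
      rw [mem_conj] at hg
      have h1 : (g : G)⁻¹ * x * g = 1 :=
        hdisj _ (by simpa using Subgroup.Normal.conj_mem inferInstance _ hxN (g : G)⁻¹) hg
      apply hx1
      apply Subtype.ext
      show (x : G) = 1
      calc (x : G) = g * ((g : G)⁻¹ * x * g) * (g : G)⁻¹ := by simp [mul_assoc]
        _ = 1 := by rw [h1]; simp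

end Cfsg.Agent.S4108
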