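import Cfsg.Statements.S4112
import Cfsg.Agent.Lib.Solvable.CoprimeAction

set_option autoImplicit false
open Cfsg Pointwise

namespace Cfsg.Agent.S4112

/-- Let G be a finite group and M ≤ N non-trivial proper normal subgroups such that for every g outside N the conjugacy class of g is a union of cosets of M (equivalently gm is conjugate to g for every m ∈ M). Then (1) and (2) below are equivalent, and they imply (3): (1) every g outside N acts fixed-point-freely on M, that is C_G(x) ≤ N for every x ∈ M, x ≠ 1; (2) the index of N in G is coprime to the order of M; (3) there is a subgroup H of G with HN = G and H ∩ M = 1. -/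
theorem result {G : Type*} [Group G] [Finite G] (N M : Subgroup G) [N.Normal] [M.Normal] (hMN : M ≤ N) (hM1 : M ≠ ⊥) (hN2 : N ≠ ⊤)
    (hcam : ∀ g : G, g ∉ N → ∀ m ∈ M, ∃ x : G, x * g * x⁻¹ = g * m) :
    ((∀ x ∈ M, x ≠ 1 → Subgroup.centralizer ({x} : Set G) ≤ N) ↔ N.index.Coprime (Nat.card M)) ∧
    ((∀ x ∈ M, x ≠ 1 → Subgroup.centralizer ({x} : Set G) ≤ N) → ∃ H : Subgroup G, H ⊔ N = ⊤ ∧ H ⊓ M = ⊥) := by
  have hgen : N.index.Coprime (Nat.card M) → ∀ x ∈ M, x ≠ 1 → Subgroup.centralizer ({x} : Set G) ≤ N := by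
    intro hcop x hx hx1 g hg
    by_contra hgN
    set d := orderOf (QuotientGroup.mk' N g) with hd
    have hd1 : d ≠ 1 := fun h => hgN ((QuotientGroup.eq_one_iff g).mp (orderOf_eq_one_iff.mp h))
    obtain ⟨r, hr, hrd⟩ := Nat.exists_prime_and_dvd hd1
    set n := orderOf g with hn
    have hn0 : n ≠ 0 := (orderOf_pos g).ne'
    set g' := g ^ (ordCompl[r] n) with hg'
    have hg'N : g' ∉ N := by
      intro h
      have h1 : d ∣ ordCompl[r] n := orderOf_dvd_of_pow_eq_one (by
        rw [← map_pow]; exact (QuotientGroup.eq_one_iff _).mpr h)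
      exact Nat.not_dvd_ordCompl hr hn0 (hrd.trans h1)
    have hord : orderOf g' ∣ ordProj[r] n := orderOf_dvd_of_pow_eq_one (by
      rw [hg', ← pow_mul, mul_comm, Nat.ordProj_mul_ordCompl_eq_self]; exact pow_orderOf_eq_one g)
    have hrM : ¬ r ∣ Nat.card M := fun h =>
      Nat.not_coprime_of_dvd_of_dvd hr.one_lt (hrd.trans (orderOf_dvd_natCard _)) h hcop
    have hco : (orderOf g').Coprime (orderOf x) :=
      Nat.Coprime.of_dvd hord (Subgroup.orderOf_dvd_natCard M hx)
        (Nat.Coprime.pow_left _ (hr.coprime_iff_not_dvd.mpr hrM))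
    obtain ⟨c, hc⟩ := hcam g' hg'N x hx
    have hcomm : Commute g' x := Commute.pow_left (Subgroup.mem_centralizer_singleton_iff.mp hg) _
    have h2 : orderOf (g' * x) = orderOf g' := by
      rw [← hc]; exact (MulAut.conj c).orderOf_eq g'
    rw [hcomm.orderOf_mul_eq_mul_orderOf_of_coprime hco] at h2
    exact hx1 (orderOf_eq_one_iff.mp ((mul_eq_left₀ (orderOf_pos g').ne').mp h2))
  have hcop : (∀ x ∈ M, x ≠ 1 → Subgroup.centralizer ({x} : Set G) ≤ N) → N.index.Coprime (Nat.card M) := by
    intro hC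
    rw [Nat.coprime_iff_gcd_eq_one]
    by_contra hne
    obtain ⟨r, hr, hrd⟩ := Nat.exists_prime_and_dvd hne
    haveI := Fact.mk hr
    obtain ⟨y, hy⟩ := exists_prime_orderOf_dvd_card' (G := M) r (hrd.trans (Nat.gcd_dvd_right _ _))
    obtain ⟨R, hR⟩ := (IsPGroup.of_card (p := r) (n := 1) (G := ↥(Subgroup.zpowers (y : G)))
      (by rw [Nat.card_zpowers, Subgroup.orderOf_coe, hy, pow_one])).exists_le_sylow
    have hne' : M.subgroupOf (R : Subgroup G) ≠ ⊥ := by
      intro h
      have : (⟨y, hR (Subgroup.mem_zpowers _)⟩ : (R : Subgroup G)) ∈ M.subgroupOf (R : Subgroup G) := y.2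
      rw [h, Subgroup.mem_bot, Subtype.ext_iff] at this
      have hy1 : y = 1 := Subtype.ext this
      rw [hy1, orderOf_one] at hy
      exact hr.one_lt.ne hy
    obtain ⟨z, hz, hz1⟩ := CfsgLib.Solvable.exists_ne_one_mem_inf_center_of_normal R.isPGroup' hne'
    have hRN : (R : Subgroup G) ≤ N := by
      intro g hg
      refine hC z hz.1 (fun h => hz1 (Subtype.ext h)) (Subgroup.mem_centralizer_singleton_iff.mpr ?_)
      exact congrArg Subtype.val (Subgroup.mem_center_iff.mp hz.2 ⟨g, hg⟩)
    exact R.not_dvd_index ((hrd.trans (Nat.gcd_dvd_left _ _)).trans (Subgroup.index_dvd_of_le hRN))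
  refine ⟨⟨hcop, hgen⟩, fun hC => ?_⟩
  obtain ⟨H, hH, hmin⟩ := (Set.toFinite {H : Subgroup G | H ⊔ N = ⊤}).exists_minimal ⟨⊤, top_sup_eq _⟩
  refine ⟨H, hH, ?_⟩
  have hfr : N.subgroupOf H ≤ frattini H := by
    refine le_iInf₂ fun L hL => ?_
    by_contra hle
    have h1 : L ⊔ N.subgroupOf H = ⊤ := hL.2 _ (left_lt_sup.mpr hle)
    have h2 : L.map H.subtype ⊔ N = ⊤ := by
      rw [eq_top_iff, ← hH, sup_le_iff]
      refine ⟨?_, le_sup_right⟩
      have h3 := congrArg (Subgroup.map H.subtype) h1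
      rw [Subgroup.map_sup, ← MonoidHom.range_eq_map, Subgroup.range_subtype] at h3
      calc H = L.map H.subtype ⊔ (N.subgroupOf H).map H.subtype := h3.symm
        _ ≤ _ := sup_le_sup_left ((Subgroup.subgroupOf_map_subtype N H).trans_le inf_le_left) _
    have h4 : H ≤ L.map H.subtype := hmin h2 (Subgroup.map_subtype_le _)
    exact hL.1 (eq_top_iff.mpr fun x _ => by
      obtain ⟨y, hy, hyx⟩ := h4 x.2
      rwa [← H.subtype_injective hyx])
  have hprimes : ∀ q : ℕ, q.Prime → q ∣ Nat.card H → q ∣ N.index := by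
    intro q hq hqH
    by_contra hqN
    haveI := Fact.mk hq
    obtain ⟨Q⟩ : Nonempty (Sylow q H) := inferInstance
    have hidx : (N.subgroupOf H).index ∣ N.index := Subgroup.relIndex_dvd_index_of_normal N H
    have hQN : (Q : Subgroup H) ≤ N.subgroupOf H := by
      intro x hx
      obtain ⟨k, hk⟩ := Q.isPGroup' ⟨x, hx⟩
      have hk' : x ^ q ^ k = 1 := congrArg Subtype.val hk
      have h2 := Subgroup.pow_index_mem (N.subgroupOf H) x
      obtain ⟨j, hj⟩ := exists_pow_eq_self_of_coprime (x := x) (n := (N.subgroupOf H).index)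
        (Nat.Coprime.coprime_dvd_right (orderOf_dvd_of_pow_eq_one hk')
          (Nat.Coprime.pow_right k ((hq.coprime_iff_not_dvd.mpr fun h => hqN (h.trans hidx)).symm)))
      rw [← hj]
      exact Subgroup.pow_mem _ h2 j
    have hQF : (Q : Subgroup H) ≤ frattini H := hQN.trans hfr
    haveI hnil : Group.IsNilpotent (frattini H) := frattini_nilpotent
    let Q' : Sylow q (frattini H) := Q.subtype hQF
    haveI : (Q' : Subgroup (frattini H)).Characteristic :=
      Sylow.characteristic_of_normal Q'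
        ((Group.isNilpotent_of_finite_tfae.out 0 3 rfl rfl).mp hnil q inferInstance Q')
    haveI hQn : (Q : Subgroup H).Normal := by
      have e : ((Q : Subgroup H).subgroupOf (frattini H)).map (frattini H).subtype = (Q : Subgroup H) :=
        Subgroup.map_subgroupOf_eq_of_le hQF
      rw [← e]
      show ((Q' : Subgroup (frattini H)).map (frattini H).subtype).Normal
      infer_instance
    obtain ⟨L, hL⟩ := Subgroup.exists_right_complement'_of_coprime (N := (Q : Subgroup H)) Q.card_coprime_index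
    have hLtop : L = ⊤ := frattini_nongenerating (top_le_iff.mp (by
      rw [← hL.sup_eq_top]; exact sup_le (hQF.trans le_sup_right) le_sup_left))
    subst hLtop
    exact Q.ne_bot_of_dvd_card hqH (disjoint_top.mp hL.disjoint)
  rw [Subgroup.eq_bot_iff_forall]
  rintro x ⟨hxH, hxM⟩
  rw [← orderOf_eq_one_iff]
  by_contra hne
  obtain ⟨q, hq, hqd⟩ := Nat.exists_prime_and_dvd hne
  exact Nat.not_coprime_of_dvd_of_dvd hq.one_lt (hprimes q hq (hqd.trans (Subgroup.orderOf_dvd_natCard H hxH)))
    (hqd.trans (Subgroup.orderOf_dvd_natCard M hxM)) (hcop hC)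

end Cfsg.Agent.S4112
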