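import Cfsg.Statements.S4113

set_option autoImplicit false
open Cfsg

namespace Cfsg.Agent.S4113

/-- Let G be a finite group, M ≤ N non-trivial proper normal subgroups, and H a subgroup with HM = G and H ∩ M = 1. Then every element of G outside N acts fixed-point-freely on M (C_G(x) ≤ N for every x ∈ M, x ≠ 1) if and only if H ∩ gHg⁻¹ ≤ H ∩ N for every g outside H, with H proper and non-trivial and H ∩ N proper in H. -/
theorem result {G : Type*} [Group G] [Finite G] (N M : Subgroup G) [N.Normal] [M.Normal] (hMN : M ≤ N) (hM1 : M ≠ ⊥) (hN2 : N ≠ ⊤)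
    (H : Subgroup G) (hHM : H ⊔ M = ⊤) (hHM' : H ⊓ M = ⊥) :
    (∀ x ∈ M, x ≠ 1 → Subgroup.centralizer ({x} : Set G) ≤ N) ↔
      (H ≠ ⊥ ∧ H ≠ ⊤ ∧ H ⊓ N < H ∧ ∀ g : G, g ∉ H → H ⊓ H.map (MulAut.conj g).toMonoidHom ≤ N) := by
  constructor
  · intro hC
    have hnot : ¬ H ≤ N := fun h => hN2 (top_le_iff.mp (hHM ▸ sup_le h hMN))
    refine ⟨?_, ?_, ?_, ?_⟩
    · intro h; exact hnot (h ▸ bot_le)
    · intro h; rw [h, top_inf_eq] at hHM'; exact hM1 hHM'
    · exact lt_of_le_of_ne inf_le_left (fun h => hnot (inf_eq_left.mp h))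
    · intro g hg y hy
      obtain ⟨hyH, z, hz, hzy⟩ := hy
      replace hzy : g * z * g⁻¹ = y := hzy
      have hgm : g ∈ M ⊔ H := by rw [sup_comm, hHM]; trivial
      obtain ⟨m, hm, h, hh, rfl⟩ := Subgroup.mem_sup_of_normal_left.mp hgm
      have hm1 : m ≠ 1 := fun e => hg (by simpa [e] using hh)
      set w := h * z * h⁻¹ with hw
      have hwH : w ∈ H := H.mul_mem (H.mul_mem hh hz) (H.inv_mem hh)
      have hy' : y = m * w * m⁻¹ := by rw [← hzy, hw]; simp [mul_assoc]
      have hq : y * w⁻¹ ∈ H ⊓ M := by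
        refine ⟨H.mul_mem hyH (H.inv_mem hwH), ?_⟩
        rw [hy', mul_assoc m w, mul_assoc m]
        exact M.mul_mem hm (Subgroup.Normal.conj_mem inferInstance _ (M.inv_mem hm) w)
      rw [hHM', Subgroup.mem_bot, mul_inv_eq_one] at hq
      apply hC m hm hm1
      rw [Subgroup.mem_centralizer_singleton_iff]
      rw [← hq] at hy'
      calc y * m = (m * y * m⁻¹) * m := by rw [← hy']
        _ = m * y := by simp
  · rintro ⟨-, -, -, hFW⟩ x hx hx1 y hy
    by_contra hyN
    have hym : y ∈ M ⊔ H := by rw [sup_comm, hHM]; trivial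
    obtain ⟨m, hm, h, hh, rfl⟩ := Subgroup.mem_sup_of_normal_left.mp hym
    have hhN : h ∉ N := fun e => hyN (N.mul_mem (hMN hm) e)
    have key : ∀ c ∈ M, c * h = h * c → c = 1 := by
      intro c hc hcomm
      by_contra hc1
      refine hhN (hFW c ?_ ⟨hh, h, hh, ?_⟩)
      · intro hcH
        have hcb : c ∈ H ⊓ M := ⟨hcH, hc⟩
        rw [hHM'] at hcb
        exact hc1 (Subgroup.mem_bot.mp hcb)
      · show c * h * c⁻¹ = h
        rw [hcomm]; simp
    let φ : M → M := fun a => ⟨(a : G) * h * (a : G)⁻¹ * h⁻¹, by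
      rw [mul_assoc (a : G) h, mul_assoc (a : G)]
      exact M.mul_mem a.2 (Subgroup.Normal.conj_mem inferInstance _ (M.inv_mem a.2) h)⟩
    have hinj : Function.Injective φ := by
      intro a b hab
      have e : (a : G) * h * (a : G)⁻¹ = (b : G) * h * (b : G)⁻¹ := mul_right_cancel (congrArg Subtype.val hab)
      have e2 := key ((b : G)⁻¹ * a) (M.mul_mem (M.inv_mem b.2) a.2) (by
        calc (b : G)⁻¹ * a * h = (b : G)⁻¹ * ((a : G) * h * (a : G)⁻¹) * a := by simp [mul_assoc]
          _ = h * ((b : G)⁻¹ * a) := by rw [e]; simp [mul_assoc])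
      exact Subtype.ext (inv_mul_eq_one.mp e2).symm
    obtain ⟨a, ha⟩ := (Finite.injective_iff_surjective.mp hinj) ⟨m, hm⟩
    have ha' : (a : G) * h * (a : G)⁻¹ = m * h := by
      have := congrArg Subtype.val ha
      simp only [φ] at this
      rw [← this]; simp [mul_assoc]
    have hx' := key ((a : G)⁻¹ * x * a) (by simpa using Subgroup.Normal.conj_mem inferInstance _ hx (a : G)⁻¹) (by
      rw [Subgroup.mem_centralizer_singleton_iff] at hy
      rw [← ha'] at hy
      calc (a : G)⁻¹ * x * a * h = (a : G)⁻¹ * (x * ((a : G) * h * (a : G)⁻¹)) * a := by simp [mul_assoc]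
        _ = (a : G)⁻¹ * (((a : G) * h * (a : G)⁻¹) * x) * a := by rw [hy]
        _ = h * ((a : G)⁻¹ * x * a) := by simp [mul_assoc])
    apply hx1
    calc x = (a : G) * ((a : G)⁻¹ * x * a) * (a : G)⁻¹ := by simp [mul_assoc]
      _ = 1 := by rw [hx']; simp

end Cfsg.Agent.S4113
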