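import Cfsg.Statements.S4115
import Cfsg.Agent.Lib.FGStruct.TIHall
-- import your own Cfsg.Agent.* helpers here

set_option autoImplicit false
universe u
open Cfsg

namespace Cfsg.Agent.S4115

/-- Let G be a finite group and H a subgroup that meets each of its conjugates by elements outside N_G(H) trivially and whose order is coprime to its index in N_G(H). Then H has a normal complement in N_G(H) if and only if H has a normal complement in G. Moreover, if H is not normal in G and has a normal complement in N_G(H), then H is isomorphic to a Frobenius complement of some finite Frobenius group. -/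
theorem result {G : Type u} [Group G] [Finite G] (H : Subgroup G)
    (hTI : Cfsg.IsTISubset (H : Set G)) (hHall : (Nat.card H).Coprime (H.subgroupOf (Subgroup.normalizer (H : Set G))).index) :
    ((∃ K : Subgroup (Subgroup.normalizer (H : Set G)), K.Normal ∧ K.IsComplement' (H.subgroupOf (Subgroup.normalizer (H : Set G)))) ↔
      (∃ N : Subgroup G, N.Normal ∧ N.IsComplement' H)) ∧
    (¬ H.Normal → (∃ K : Subgroup (Subgroup.normalizer (H : Set G)), K.Normal ∧ K.IsComplement' (H.subgroupOf (Subgroup.normalizer (H : Set G)))) →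
      ∃ (F : Type u) (_ : Group F) (_ : Finite F) (C : Subgroup F), Cfsg.IsFrobeniusComplement C ∧ Nonempty (H ≃* C)) := by
  refine ⟨⟨?_, ?_⟩, ?_⟩
  · rintro ⟨K, hKn, hc⟩
    exact CfsgLib.TIHall.exists_normal_complement hTI hHall hKn hc
  · rintro ⟨N, hN, hc⟩
    refine ⟨N.subgroupOf _, hN.subgroupOf _, Subgroup.isComplement'_of_disjoint_and_mul_eq_univ ?_ ?_⟩
    · rw [Subgroup.disjoint_def]
      intro x hx hx'
      exact Subtype.ext (Subgroup.disjoint_def.1 hc.disjoint hx hx')
    · refine Set.eq_univ_of_forall fun x => ?_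
      obtain ⟨⟨n, h⟩, hnh⟩ := hc.2 (x : G)
      have hh : (h : G) ∈ Subgroup.normalizer (H : Set G) := Subgroup.le_normalizer h.2
      have hn : (n : G) ∈ Subgroup.normalizer (H : Set G) := by
        have := mul_mem x.2 (inv_mem hh)
        rwa [← hnh, mul_inv_cancel_right] at this
      exact Set.mem_mul.2 ⟨⟨n, hn⟩, n.2, ⟨h, hh⟩, h.2, Subtype.ext hnh⟩
  · rintro hnn ⟨K, hKn, hc⟩
    obtain ⟨N, hN, hcN⟩ := CfsgLib.TIHall.exists_normal_complement hTI hHall hKn hc
    exact CfsgLib.TIHall.exists_frobenius_complement hTI hHall hnn hN hcN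

end Cfsg.Agent.S4115
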