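import Cfsg.Statements.S4116

set_option autoImplicit false
open Cfsg Pointwise

namespace Cfsg.Agent.S4116

/-- Let G be a finite group with a subgroup H whose order is coprime to its index (a Hall subgroup) and which meets each of its conjugates by elements outside N_G(H) trivially. Then every subgroup of G whose order is divisible only by primes dividing the order of H lies in a conjugate of H. -/
theorem result {G : Type*} [Group G] [Finite G] (H : Subgroup G)
    (hHall : (Nat.card H).Coprime H.index) (hTI : Cfsg.IsTISubset (H : Set G))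
    (K : Subgroup G) (hK : ∀ q : ℕ, q.Prime → q ∣ Nat.card K → q ∣ Nat.card H) :
    ∃ g : G, K ≤ H.map (MulAut.conj g).toMonoidHom := by
  classical
  haveI : Fintype G := Fintype.ofFinite G
  by_contra hcon
  push Not at hcon
  -- elements of the normalizer of `H` whose primes divide `|H|` lie in `H`
  have hnorm : ∀ x : G, x ∈ Subgroup.normalizer (H : Set G) → (∀ q : ℕ, q.Prime → q ∣ orderOf x → q ∣ Nat.card H) → x ∈ H := by
    intro x hx hπ
    set N := Subgroup.normalizer (H : Set G)
    haveI : (H.subgroupOf N).Normal := Subgroup.normal_in_normalizer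
    have h1 : (H.subgroupOf N).index ∣ H.index := Subgroup.relIndex_dvd_index_of_le Subgroup.le_normalizer
    have h2 := Subgroup.pow_index_mem (H.subgroupOf N) (⟨x, hx⟩ : N)
    change x ^ (H.subgroupOf N).index ∈ H at h2
    have hcop : ((H.subgroupOf N).index).Coprime (orderOf x) := by
      rw [Nat.coprime_iff_gcd_eq_one]
      by_contra hne
      obtain ⟨q, hq, hqd⟩ := Nat.exists_prime_and_dvd hne
      exact Nat.not_coprime_of_dvd_of_dvd hq.one_lt (hπ q hq (hqd.trans (Nat.gcd_dvd_right _ _)))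
        ((hqd.trans (Nat.gcd_dvd_left _ _)).trans h1) hHall
    obtain ⟨j, hj⟩ := exists_pow_eq_self_of_coprime (x := x) hcop
    rw [← hj]
    exact H.pow_mem h2 j
  let I : G → Subgroup G := fun a => K ⊓ H.map (MulAut.conj a).toMonoidHom
  have memI : ∀ (a y : G), y ∈ I a ↔ y ∈ K ∧ a⁻¹ * y * a ∈ H := by
    intro a y
    show y ∈ K ∧ _ ↔ _
    refine and_congr_right fun _ => ⟨?_, fun h => ⟨_, h, by simp [mul_assoc]⟩⟩
    rintro ⟨z, hz, rfl⟩
    simpa [mul_assoc] using hz
  -- trivial intersection
  have hTI' : ∀ a b y : G, y ∈ I a → y ∈ I b → y ≠ 1 → a⁻¹ * b ∈ Subgroup.normalizer (H : Set G) := by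
    intro a b y hya hyb hy1
    by_contra hn
    refine hy1 ?_
    have h := hTI (a⁻¹ * b) hn (b⁻¹ * y * b) ((memI b y).mp hyb).2 (by simpa [mul_assoc] using ((memI a y).mp hya).2)
    calc y = b * (b⁻¹ * y * b) * b⁻¹ := by simp [mul_assoc]
      _ = 1 := by rw [h]; simp
  have hIeq : ∀ a b : G, a⁻¹ * b ∈ Subgroup.normalizer (H : Set G) → I a = I b := by
    intro a b hn
    ext y
    rw [memI, memI]
    refine and_congr_right fun _ => ?_
    rw [Subgroup.mem_normalizer_iff.mp hn (b⁻¹ * y * b)]
    simp [mul_assoc]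
  -- each nontrivial `I a` is a proper self-normalising TI subgroup of `K`
  have hself : ∀ a y : G, ∀ k ∈ K, y ∈ I a → y ≠ 1 → k * y * k⁻¹ ∈ I a → k ∈ I a := by
    intro a y k hk hy hy1 hky
    have hyk : k * y * k⁻¹ ∈ I (k * a) := by
      rw [memI]
      refine ⟨K.mul_mem (K.mul_mem hk ((memI a y).mp hy).1) (K.inv_mem hk), ?_⟩
      simpa [mul_assoc] using ((memI a y).mp hy).2
    have hn := hTI' a (k * a) _ hky hyk (by simpa using hy1)
    rw [← mul_assoc] at hn
    rw [memI]
    refine ⟨hk, hnorm _ hn fun q hq hqd => hK q hq (hqd.trans ?_)⟩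
    have : orderOf (a⁻¹ * k * a) = orderOf k := by
      have := (MulAut.conj a⁻¹).orderOf_eq k
      simpa using this
    rw [this]
    exact Subgroup.orderOf_dvd_natCard K hk
  let T : G → Finset G := fun a => Finset.univ.filter fun z => z ≠ 1 ∧ ∃ k ∈ K, k⁻¹ * z * k ∈ I a
  have hlow : ∀ a, I a ≠ ⊥ → Nat.card K ≤ 2 * (T a).card := by
    intro a ha
    set J := (I a).subgroupOf K with hJ
    have hJc : Nat.card J = Nat.card (I a) := Nat.card_congr (Subgroup.subgroupOfEquivOfLe inf_le_left).toEquiv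
    let φ : (K ⧸ J) × {y : I a // y ≠ 1} → T a := fun cy =>
      ⟨(cy.1.out : G) * (cy.2.1 : G) * (cy.1.out : G)⁻¹, by
        simp only [T, Finset.mem_filter, Finset.mem_univ, true_and]
        refine ⟨fun h => cy.2.2 (Subtype.ext ?_), cy.1.out, cy.1.out.2, ?_⟩
        · have h2 : (cy.2.1 : G) = 1 := by simpa using h
          simpa using h2
        · simpa [mul_assoc] using cy.2.1.2⟩
    have hinj : Function.Injective φ := by
      rintro ⟨c, y, hy⟩ ⟨c', y', hy'⟩ h
      replace h : (c.out : G) * (y : G) * (c.out : G)⁻¹ = (c'.out : G) * (y' : G) * (c'.out : G)⁻¹ := congrArg Subtype.val h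
      have e : ((c'.out⁻¹ * c.out : K) : G) * y * ((c'.out⁻¹ * c.out : K) : G)⁻¹ = y' := by
        simp only [Subgroup.coe_mul, Subgroup.coe_inv]
        calc (c'.out : G)⁻¹ * c.out * y * ((c'.out : G)⁻¹ * c.out)⁻¹
            = (c'.out : G)⁻¹ * ((c.out : G) * y * (c.out : G)⁻¹) * c'.out := by simp [mul_assoc]
          _ = y' := by rw [h]; simp [mul_assoc]
      have hmem : (c'.out⁻¹ * c.out : K) ∈ J := hself a y _ (c'.out⁻¹ * c.out : K).2 y.2
        (fun h1 => hy (Subtype.ext h1)) (e ▸ y'.2)
      have hcc : c' = c := by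
        rw [← QuotientGroup.out_eq' c', ← QuotientGroup.out_eq' c]
        exact QuotientGroup.eq.mpr hmem
      subst hcc
      have hyy : (y : G) = y' := by simpa using h
      simp [Subtype.ext_iff, hyy]
    have hcard := Nat.card_le_card_of_injective φ hinj
    rw [Nat.card_prod, Nat.card_eq_finsetCard] at hcard
    have hne : Nat.card {y : I a // y ≠ 1} = Nat.card (I a) - 1 := by
      rw [Nat.card_eq_fintype_card, Nat.card_eq_fintype_card, Fintype.card_subtype_compl, Fintype.card_subtype_eq]
    have h2 : 2 ≤ Nat.card (I a) := (Subgroup.one_lt_card_iff_ne_bot _).mpr ha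
    have hmul := J.index_mul_card
    rw [hJc] at hmul
    rw [hne] at hcard
    change J.index * (Nat.card (I a) - 1) ≤ (T a).card at hcard
    rw [← hmul]
    have : J.index * Nat.card (I a) ≤ 2 * (J.index * (Nat.card (I a) - 1)) := by
      rw [← mul_assoc, mul_comm 2, mul_assoc]
      exact Nat.mul_le_mul_left _ (by omega)
    omega
  -- for each prime divisor of `|K|` a Sylow subgroup lies in some `I a`
  have hsyl : ∀ q k : ℕ, q.Prime → 0 < k → q ^ k ∣ Nat.card K → ∃ a, q ^ k ∣ Nat.card (I a) ∧ I a ≠ ⊥ := by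
    intro q k hq hk hqk
    haveI := Fact.mk hq
    obtain ⟨R⟩ : Nonempty (Sylow q K) := inferInstance
    obtain ⟨S, hS⟩ := (R.isPGroup'.map K.subtype).exists_le_sylow
    obtain ⟨Q⟩ : Nonempty (Sylow q H) := inferInstance
    obtain ⟨S', hS'⟩ := (Q.isPGroup'.map H.subtype).exists_le_sylow
    have hqH : q ∣ Nat.card H := hK q hq ((dvd_pow_self q hk.ne').trans hqk)
    have hS'H : (S' : Subgroup G) ≤ H := by
      have heq : (Q : Subgroup H).map H.subtype = (S' : Subgroup G) := by
        refine Subgroup.eq_of_le_of_card_ge hS' (Nat.le_of_dvd Nat.card_pos ?_)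
        rw [Subgroup.card_map_of_injective H.subtype_injective, Sylow.card_eq_multiplicity S', ← H.card_mul_index,
          Nat.factorization_mul Nat.card_pos.ne' Subgroup.index_ne_zero_of_finite, Finsupp.add_apply,
          Nat.factorization_eq_zero_of_not_dvd (fun h => Nat.not_coprime_of_dvd_of_dvd hq.one_lt hqH h hHall),
          add_zero]
        exact dvd_of_eq (Sylow.card_eq_multiplicity Q).symm
      rw [← heq]; exact Subgroup.map_subtype_le _
    obtain ⟨a, ha⟩ := MulAction.exists_smul_eq G S' S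
    have hle : (R : Subgroup K).map K.subtype ≤ I a := fun y hy => by
      refine ⟨Subgroup.map_subtype_le _ hy, ?_⟩
      have hyS := hS hy
      rw [← ha, Sylow.coe_subgroup_smul] at hyS
      exact Subgroup.map_mono hS'H hyS
    refine ⟨a, ?_, ?_⟩
    · refine (R.pow_dvd_card_of_pow_dvd_card hqk).trans ?_
      rw [← Subgroup.card_map_of_injective K.subtype_injective]
      exact Subgroup.card_dvd_of_le hle
    · intro hbot
      rw [hbot, le_bot_iff, Subgroup.map_eq_bot_iff_of_injective _ K.subtype_injective] at hle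
      exact R.ne_bot_of_dvd_card ((dvd_pow_self q hk.ne').trans hqk) hle
  by_cases hK1 : K = ⊥
  · exact hcon 1 (hK1 ▸ bot_le)
  obtain ⟨q₀, hq₀, hq₀d⟩ := Nat.exists_prime_and_dvd (fun h => hK1 (Subgroup.card_eq_one.mp h))
  obtain ⟨a₀, -, ha₀⟩ := hsyl q₀ 1 hq₀ one_pos (by rwa [pow_one])
  have hsame : ∀ b, I b ≠ ⊥ → Nat.card (I b) = Nat.card (I a₀) := by
    intro b hb
    by_contra hne
    have hdisj : Disjoint (T a₀) (T b) := by
      refine Finset.disjoint_left.mpr fun z hz hz' => hne ?_
      simp only [T, Finset.mem_filter, Finset.mem_univ, true_and] at hz hz'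
      obtain ⟨hz1, k, hk, hzk⟩ := hz
      obtain ⟨-, l, hl, hzl⟩ := hz'
      have h1 : k⁻¹ * z * k ∈ I (k⁻¹ * l * b) := by
        rw [memI]
        refine ⟨((memI _ _).mp hzk).1, ?_⟩
        simpa [mul_assoc] using ((memI _ _).mp hzl).2
      have heq := hIeq _ _ (hTI' _ _ _ hzk h1 (fun h => hz1 (by
        calc z = k * (k⁻¹ * z * k) * k⁻¹ := by simp [mul_assoc]
          _ = 1 := by rw [h]; simp)))
      rw [heq]
      refine (Nat.card_congr (Subgroup.equivMapOfInjective _ (MulAut.conj (k⁻¹ * l)).toMonoidHom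
        (MulAut.conj (k⁻¹ * l)).injective).toEquiv).trans ?_
      have hkl : k⁻¹ * l ∈ K := K.mul_mem (K.inv_mem hk) hl
      congr 2
      ext y
      rw [memI]
      constructor
      · rintro ⟨x, hx, rfl⟩
        refine ⟨K.mul_mem (K.mul_mem hkl ((memI _ _).mp hx).1) (K.inv_mem hkl), ?_⟩
        simpa [mul_assoc] using ((memI _ _).mp hx).2
      · rintro ⟨hy, hy'⟩
        refine ⟨(k⁻¹ * l)⁻¹ * y * (k⁻¹ * l), (memI _ _).mpr ⟨K.mul_mem (K.mul_mem (K.inv_mem hkl) hy) hkl, ?_⟩, ?_⟩
        · simpa [mul_assoc] using hy'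
        · simp [mul_assoc]
    have h1 : (T a₀ ∪ T b).card + 1 ≤ Nat.card K := by
      have hsub : T a₀ ∪ T b ⊆ (Finset.univ.filter fun z : G => z ∈ K).erase 1 := by
        intro z hz
        simp only [T, Finset.mem_union, Finset.mem_filter, Finset.mem_univ, true_and] at hz
        simp only [Finset.mem_erase, Finset.mem_filter, Finset.mem_univ, true_and]
        rcases hz with ⟨h1, k, hk, hzk⟩ | ⟨h1, k, hk, hzk⟩
        all_goals
          refine ⟨h1, ?_⟩
          have := K.mul_mem (K.mul_mem hk ((memI _ _).mp hzk).1) (K.inv_mem hk)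
          simpa [mul_assoc] using this
      have h2 := Finset.card_le_card hsub
      rw [Finset.card_erase_of_mem (by simp), ← Fintype.card_subtype, ← Nat.card_eq_fintype_card] at h2
      have : 0 < Nat.card K := Nat.card_pos
      change (T a₀ ∪ T b).card ≤ Nat.card K - 1 at h2
      omega
    rw [Finset.card_union_of_disjoint hdisj] at h1
    have := hlow a₀ ha₀
    have := hlow b hb
    omega
  have hdvd : Nat.card K ∣ Nat.card (I a₀) := by
    rw [Nat.dvd_iff_prime_pow_dvd_dvd]
    intro q k hq hqk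
    rcases Nat.eq_zero_or_pos k with rfl | hk
    · simp
    obtain ⟨b, hb, hbne⟩ := hsyl q k hq hk hqk
    rwa [← hsame b hbne]
  have hKI : I a₀ = K := Subgroup.eq_of_le_of_card_ge inf_le_left (Nat.le_of_dvd Nat.card_pos hdvd)
  exact hcon a₀ (hKI ▸ inf_le_right)

end Cfsg.Agent.S4116
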