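import Cfsg.Statements.S4117
import Cfsg.Agent.Lib.Solvable.CoprimeMulAction
import Mathlib.GroupTheory.SpecificGroups.ZGroup

set_option autoImplicit false
set_option linter.style.haveILetI false
open Cfsg

namespace Cfsg.Agent.S4117

open Subgroup

/-- In a cyclic group, an element killed by `p` lies in the subgroup of any element of order `p`. -/
theorem mem_zpowers_of_pow_eq_one {H : Type*} [Group H] [Finite H] [IsCyclic H] {p : ℕ}
    (hp : 0 < p) {a b : H} (ha : a ^ p = 1) (hb : orderOf b = p) : a ∈ zpowers b := by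
  classical
  haveI : Fintype H := Fintype.ofFinite H
  have key := IsCyclic.card_pow_eq_one_le (α := H) (n := p) hp
  set S := Finset.univ.filter fun c : H => c ^ p = 1
  set T := Finset.univ.filter fun c : H => c ∈ zpowers b with hT
  have hTS : T ⊆ S := by
    intro c hc
    simp only [hT, Finset.mem_filter, Finset.mem_univ, true_and] at hc
    simp only [S, Finset.mem_filter, Finset.mem_univ, true_and]
    exact orderOf_dvd_iff_pow_eq_one.mp (hb ▸ orderOf_dvd_of_mem_zpowers hc)
  have hTcard : p = T.card := by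
    rw [← hb, ← Nat.card_zpowers, ← Nat.card_eq_finsetCard]
    exact Nat.card_congr (Equiv.subtypeEquivRight (fun c => by simp [hT]))
  have heq : T = S := Finset.eq_of_subset_of_card_le hTS (key.trans hTcard.le)
  have haS : a ∈ S := by simp [S, ha]
  rw [← heq] at haS
  exact (Finset.mem_filter.mp haS).2

/-- Let A be a finite group acting on the finite group G by automorphisms with the orders of A and G coprime, and suppose every Sylow subgroup of G is cyclic. Then the fixed-point subgroup C_G(A) is a Hall subgroup of G (its order is coprime to its index), the subgroup [G, A] generated by the elements g⁻¹·a(g) is cyclic and normal with [G, A] ∩ C_G(A) = 1 and [G, A]·C_G(A) = G. -/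
theorem result {G A : Type*} [Group G] [Finite G] [Group A] [Finite A]
    [MulDistribMulAction A G] (hcop : (Nat.card A).Coprime (Nat.card G))
    (hcyc : ∀ (p : ℕ) [Fact p.Prime] (P : Sylow p G), IsCyclic (P : Subgroup G)) :
    (Nat.card (MulAction.fixedPoints A G : Set G)).Coprime (Nat.card G / Nat.card (MulAction.fixedPoints A G : Set G)) ∧
    IsCyclic (Subgroup.closure {y : G | ∃ (a : A) (g : G), y = g⁻¹ * a • g}) ∧
    (Subgroup.closure {y : G | ∃ (a : A) (g : G), y = g⁻¹ * a • g}).Normal ∧
    (Subgroup.closure {y : G | ∃ (a : A) (g : G), y = g⁻¹ * a • g} : Set G) ∩ MulAction.fixedPoints A G = {1} ∧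
    Subgroup.closure {y : G | ∃ (a : A) (g : G), y = g⁻¹ * a • g} ⊔ Subgroup.closure (MulAction.fixedPoints A G) = ⊤ := by
  classical
  haveI : IsZGroup G := ⟨fun p hp P => @hcyc p ⟨hp⟩ P⟩
  haveI hDcyc : IsCyclic (commutator G) := IsZGroup.isCyclic_commutator G
  set K := Subgroup.closure {y : G | ∃ (a : A) (g : G), y = g⁻¹ * a • g} with hKdef
  set D := commutator G with hDdef
  have hgenK : ∀ (a : A) (g : G), g⁻¹ * a • g ∈ K := fun a g => subset_closure ⟨a, g, rfl⟩
  -- conjugation acts on `D` by powers
  have hpow : ∀ g : G, ∃ i : ℤ, ∀ d ∈ D, g * d * g⁻¹ = d ^ i := by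
    intro g
    haveI : D.Normal := Subgroup.normal_of_characteristic D
    let σ : D →* D :=
      { toFun := fun d => ⟨g * d * g⁻¹, ‹D.Normal›.conj_mem _ d.2 g⟩
        map_one' := Subtype.ext (by simp)
        map_mul' := fun d d' => Subtype.ext (by simp [mul_assoc]) }
    obtain ⟨i, hi⟩ := σ.map_cyclic
    exact ⟨i, fun d hd => congrArg Subtype.val (hi ⟨d, hd⟩)⟩
  have hDinv : ∀ (a : A), ∀ d ∈ D, a • d ∈ D := by
    intro a d hd
    have h := Subgroup.characteristic_iff_map_eq.mp (inferInstance : D.Characteristic)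
      (MulDistribMulAction.toMulEquiv G a)
    rw [← h]
    exact ⟨d, hd, rfl⟩
  set L := centralizer (D : Set G) with hL
  have hKL : K ≤ L := by
    rw [hKdef, closure_le]
    rintro _ ⟨a, g, rfl⟩
    rw [SetLike.mem_coe, hL, mem_centralizer_iff]
    intro d hd
    obtain ⟨i, hi⟩ := hpow g
    have h2 : (a • g) * d * (a • g)⁻¹ = d ^ i := by
      have h1 := hi _ (hDinv a⁻¹ d hd)
      have h3 := congrArg (a • ·) h1
      simpa [smul_mul', smul_inv', smul_zpow'] using h3
    have h4 : g⁻¹ * (a • g) * d * (g⁻¹ * (a • g))⁻¹ = d := by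
      calc g⁻¹ * (a • g) * d * (g⁻¹ * (a • g))⁻¹ = g⁻¹ * ((a • g) * d * (a • g)⁻¹) * g := by group
        _ = g⁻¹ * (g * d * g⁻¹) * g := by rw [h2, hi d hd]
        _ = d := by group
    exact (mul_inv_eq_iff_eq_mul.mp h4).symm
  -- `L` is cyclic
  haveI : L.Normal := by
    haveI : D.Normal := Subgroup.normal_of_characteristic D
    exact Subgroup.normal_centralizer
  haveI hLcyc : IsCyclic L := by
    haveI : IsCyclic (G ⧸ commutator G) := IsZGroup.isCyclic_abelianization (G := G)
    have hc : ∀ u v : L, u * v = v * u :=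
      commutative_of_cyclic_center_quotient ((QuotientGroup.mk' (commutator G)).comp L.subtype)
        (by
          intro w hw
          rw [MonoidHom.mem_ker, MonoidHom.comp_apply, QuotientGroup.mk'_apply,
            QuotientGroup.eq_one_iff] at hw
          rw [Subgroup.mem_center_iff]
          intro v
          exact Subtype.ext ((mem_centralizer_iff.mp v.2) _ hw).symm)
    haveI : IsZGroup L := IsZGroup.of_injective (f := L.subtype) L.subtype_injective
    haveI : Group.IsNilpotent L := by
      letI : CommGroup L := { (inferInstance : Group L) with mul_comm := hc }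
      infer_instance
    infer_instance
  have hKcyc : IsCyclic K := isCyclic_of_injective (inclusion hKL) (inclusion_injective hKL)
  have hKn : K.Normal := by
    refine ⟨fun k hk g => ?_⟩
    let σ : L →* L :=
      { toFun := fun d => ⟨g * d * g⁻¹, ‹L.Normal›.conj_mem _ d.2 g⟩
        map_one' := Subtype.ext (by simp)
        map_mul' := fun d d' => Subtype.ext (by simp [mul_assoc]) }
    obtain ⟨i, hi⟩ := σ.map_cyclic
    have : g * k * g⁻¹ = k ^ i := congrArg Subtype.val (hi ⟨k, hKL hk⟩)
    rw [this]
    exact zpow_mem hk i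
  have hKinv : ∀ (a : A), ∀ k ∈ K, a • k ∈ K := by
    intro a k hk
    have := mul_mem hk (hgenK a k)
    rwa [mul_inv_cancel_left] at this
  haveI : Group.IsSolvable G := inferInstance
  have hdec : ∀ g : G, ∃ k ∈ K, ∃ c : G, (∀ a : A, a • c = c) ∧ g = c * k := by
    intro g
    obtain ⟨d, hd, h⟩ := CfsgLib.Solvable.exists_smul_fixed_mem_coset hcop (Or.inr inferInstance)
      hKinv (x := g) (fun a => hgenK a g)
    exact ⟨d⁻¹, inv_mem hd, g * d, h, by group⟩
  haveI : IsMulCommutative K := by
    haveI := hKcyc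
    infer_instance
  have hinf : ∀ x ∈ K, (∀ a : A, a • x = x) → x = 1 := by
    haveI : Fintype A := Fintype.ofFinite A
    have hKcomm : ∀ u v : K, u * v = v * u := (IsMulCommutative.is_comm (M := K)).comm
    letI : CommGroup K := { (inferInstance : Group K) with mul_comm := hKcomm }
    let ν : K → K := fun k => ∏ a : A, (⟨a • (k : G), hKinv a k k.2⟩ : K)
    have hνmul : ∀ u v : K, ν (u * v) = ν u * ν v := fun u v => by
      rw [← Finset.prod_mul_distrib]
      exact Finset.prod_congr rfl fun a _ => Subtype.ext (smul_mul' a (u : G) (v : G))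
    let νh : K →* K := MonoidHom.mk' ν hνmul
    have hker : ∀ (k : G) (hk : k ∈ K), νh ⟨k, hk⟩ = 1 := by
      intro k hk
      have hle : K ≤ νh.ker.map K.subtype := by
        conv_lhs => rw [hKdef]
        rw [closure_le]
        rintro _ ⟨b, g, rfl⟩
        obtain ⟨k, hk, c, hc, rfl⟩ := hdec g
        refine ⟨⟨k⁻¹ * b • k, hgenK b k⟩, ?_, ?_⟩
        · rw [SetLike.mem_coe, MonoidHom.mem_ker]
          have h1 : (⟨k⁻¹ * b • k, hgenK b k⟩ : K) = ⟨k, hk⟩⁻¹ * ⟨b • k, hKinv b k hk⟩ :=
            Subtype.ext rfl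
          rw [h1, map_mul, map_inv, inv_mul_eq_one]
          show ν _ = ν _
          refine (Fintype.prod_equiv (Equiv.mulRight b) _ _ fun a => ?_).symm
          exact Subtype.ext (by simp [mul_smul])
        · show k⁻¹ * b • k = (c * k)⁻¹ * b • (c * k)
          rw [smul_mul', hc b]
          group
      obtain ⟨w, hw, hwk⟩ := hle hk
      have : w = ⟨k, hk⟩ := Subtype.ext hwk
      exact this ▸ MonoidHom.mem_ker.mp hw
    intro x hx hfix
    have h1 := hker x hx
    have h2 : νh ⟨x, hx⟩ = (⟨x, hx⟩ : K) ^ Fintype.card A := by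
      show ν _ = _
      refine (Finset.prod_congr rfl fun a _ => (Subtype.ext (hfix a) : _ = (⟨x, hx⟩ : K))).trans ?_
      rw [Finset.prod_const, Finset.card_univ]
    rw [h2, ← Nat.card_eq_fintype_card] at h1
    have h3 : x ^ Nat.card A = 1 := congrArg Subtype.val h1
    rw [← orderOf_eq_one_iff]
    exact Nat.eq_one_of_dvd_coprimes hcop (orderOf_dvd_of_pow_eq_one h3) (orderOf_dvd_natCard x)
  -- the fixed subgroup
  let C : Subgroup G :=
    { carrier := MulAction.fixedPoints A G
      one_mem' := fun a => smul_one a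
      mul_mem' := fun {u v} hu hv a => by rw [smul_mul', hu a, hv a]
      inv_mem' := fun {u} hu a => by rw [smul_inv', hu a] }
  have hCK : Subgroup.closure (MulAction.fixedPoints A G) = C := Subgroup.closure_eq C
  have hcompl : Subgroup.IsComplement' C K := by
    refine isComplement'_of_disjoint_and_mul_eq_univ ?_ ?_
    · rw [disjoint_iff_inf_le]
      rintro x ⟨hx, hx'⟩
      exact hinf x hx' hx
    · ext g
      simp only [Set.mem_univ, iff_true]
      obtain ⟨k, hk, c, hc, rfl⟩ := hdec g
      exact Set.mul_mem_mul hc hk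
  have hcard : Nat.card C * Nat.card K = Nat.card G := hcompl.card_mul_card
  refine ⟨?_, hKcyc, hKn, ?_, ?_⟩
  · show (Nat.card C).Coprime (Nat.card G / Nat.card C)
    rw [← hcard, Nat.mul_div_cancel_left _ Nat.card_pos]
    refine Nat.coprime_of_dvd fun p hp hpC hpK => ?_
    haveI := Fact.mk hp
    obtain ⟨y, hy⟩ := exists_prime_orderOf_dvd_card' p hpC
    obtain ⟨x, hx⟩ := exists_prime_orderOf_dvd_card' p hpK
    rw [← Subgroup.orderOf_coe] at hx hy
    haveI : (zpowers (x : G)).Normal := by
      refine ⟨fun z hz g => ?_⟩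
      let σ : L →* L :=
        { toFun := fun d => ⟨g * d * g⁻¹, ‹L.Normal›.conj_mem _ d.2 g⟩
          map_one' := Subtype.ext (by simp)
          map_mul' := fun d d' => Subtype.ext (by simp [mul_assoc]) }
      obtain ⟨i, hi⟩ := σ.map_cyclic
      have : g * z * g⁻¹ = z ^ i :=
        congrArg Subtype.val (hi ⟨z, hKL ((zpowers_le.mpr x.2) hz)⟩)
      rw [this]
      exact zpow_mem hz i
    have hU : IsPGroup p (zpowers (x : G) ⊔ zpowers (y : G) : Subgroup G) :=
      IsPGroup.to_sup_of_normal_left
        (IsPGroup.of_card (n := 1) (by rw [Nat.card_zpowers, hx, pow_one]))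
        (IsPGroup.of_card (n := 1) (by rw [Nat.card_zpowers, hy, pow_one]))
    obtain ⟨P, hP⟩ := hU.exists_le_sylow
    haveI := hcyc p P
    have hxP : (x : G) ∈ (P : Subgroup G) := hP (mem_sup_left (mem_zpowers _))
    have hyP : (y : G) ∈ (P : Subgroup G) := hP (mem_sup_right (mem_zpowers _))
    have hmem := mem_zpowers_of_pow_eq_one hp.pos
      (a := (⟨y, hyP⟩ : (P : Subgroup G))) (b := ⟨x, hxP⟩)
      (Subtype.ext (by
        rw [Subgroup.coe_pow, Subgroup.coe_one]
        exact orderOf_dvd_iff_pow_eq_one.mp (dvd_of_eq hy)))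
      (by rw [← Subgroup.orderOf_coe]; exact hx)
    obtain ⟨i, hi⟩ := Subgroup.mem_zpowers_iff.mp hmem
    have hyK : (y : G) ∈ K := by
      have : (x : G) ^ i = (y : G) := congrArg Subtype.val hi
      rw [← this]; exact zpow_mem x.2 i
    rw [hinf _ hyK y.2, orderOf_one] at hy
    exact hp.one_lt.ne hy
  · ext x
    simp only [Set.mem_inter_iff, Set.mem_singleton_iff, SetLike.mem_coe]
    constructor
    · rintro ⟨hx, hx'⟩; exact hinf x hx hx'
    · rintro rfl; exact ⟨one_mem K, fun a => smul_one a⟩
  · rw [hCK, eq_top_iff]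
    intro g _
    obtain ⟨k, hk, c, hc, rfl⟩ := hdec g
    exact mul_mem (mem_sup_right hc) (mem_sup_left hk)

end Cfsg.Agent.S4117
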