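import Cfsg.Statements.S4118
import Cfsg.Agent.Lib.FGStruct.TIHall
import Cfsg.Agent.Lib.FGStruct.AutFpf
import Cfsg.Agent.Lib.Zassenhaus.Main
import Cfsg.Agent.Lib.Zassenhaus.Transfer
import Cfsg.Agent.Lib.Linear.Transvection
import Cfsg.Agent.Lib.Solvable.CoprimeAction
-- import your own Cfsg.Agent.* helpers here

set_option autoImplicit false
set_option linter.style.haveILetI false
open Cfsg Pointwise

namespace Cfsg.Agent.S4118

/-- `SL(2, 5)` is not solvable. -/
theorem not_isSolvable_sl25 : ¬ Group.IsSolvable (Matrix.SpecialLinearGroup (Fin 2) (ZMod 5)) := by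
  intro h
  have a1 : (2 : ZMod 5) ≠ 0 := by decide
  have a2 : (2 : ZMod 5) ^ 2 ≠ 1 := by decide
  haveI : Nontrivial (Matrix.SpecialLinearGroup (Fin 2) (ZMod 5)) :=
    ⟨⟨1, ⟨!![1, 1; 0, 1], by decide⟩, fun e => absurd (congrArg (fun M : Matrix.SpecialLinearGroup (Fin 2) (ZMod 5) => (M : Matrix (Fin 2) (Fin 2) (ZMod 5)) 0 1) e) (by decide)⟩⟩
  haveI : Fact (Nat.Prime 5) := ⟨by norm_num⟩
  have h1 : commutator (Matrix.SpecialLinearGroup (Fin 2) (ZMod 5)) = ⊤ :=
    CfsgLib.Linear.commutator_SL_eq_top (Or.inr ⟨2, a1, a2⟩)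
  haveI := h
  exact (Group.IsSolvable.commutator_lt_top_of_nontrivial _).ne h1

/-- The join of a normal subgroup with a subgroup normalised by a supplement is normal. -/
theorem normal_sup_of_normalized {G : Type*} [Group G] {O X Y : Subgroup G} (hO : O.Normal)
    (htop : O ⊔ Y = ⊤) (hY : Y ≤ Subgroup.normalizer (X : Set G)) : (O ⊔ X).Normal := by
  rw [← Subgroup.normalizer_eq_top_iff, eq_top_iff, ← htop]
  refine sup_le (le_sup_left.trans Subgroup.le_normalizer) fun y hy => ?_
  rw [Subgroup.mem_normalizer_iff_map_conj_eq, Subgroup.map_sup,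
    Subgroup.mem_normalizer_iff_map_conj_eq.1 (hY hy),
    Subgroup.mem_normalizer_iff_map_conj_eq.1 (show y ∈ Subgroup.normalizer (O : Set G) by
      rw [Subgroup.normalizer_eq_top]; trivial)]

theorem coprime_card_sup {G : Type*} [Group G] [Finite G] {O X : Subgroup G} (hO : O.Normal) {m : ℕ}
    (h1 : (Nat.card O).Coprime m) (h2 : (Nat.card X).Coprime m) :
    (Nat.card ↥(O ⊔ X)).Coprime m := by
  haveI := hO
  have h := Subgroup.relIndex_mul_relIndex ⊥ O (O ⊔ X) bot_le le_sup_left
  rw [Subgroup.relIndex_bot_left, Subgroup.relIndex_bot_left, sup_comm, Subgroup.relIndex_sup_right,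
    sup_comm] at h
  rw [← h]
  exact h1.mul_left (h2.coprime_dvd_left (Subgroup.relIndex_dvd_card O X))

/-- Let G be a finite group and H a non-normal subgroup meeting each of its conjugates by elements outside N_G(H) trivially, with the order of H coprime to its index in N_G(H); let π be the set of primes dividing the order of H and suppose G is π-separable (it has a chain of normal subgroups from 1 to G each of whose factors has order divisible only by primes in π or coprime to the order of H). Let O be the largest normal subgroup of G of order coprime to the order of H. Then G = O·N_G(H), O·H is normal in G, and G is solvable if and only if O is solvable and H has no subgroup isomorphic to SL₂(5). -/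
theorem result {G : Type*} [Group G] [Finite G] (H : Subgroup G)
    (hTI : Cfsg.IsTISubset (H : Set G)) (hnn : ¬ H.Normal)
    (hHall : (Nat.card H).Coprime (H.subgroupOf (Subgroup.normalizer (H : Set G))).index)
    (hsep : ∃ (n : ℕ) (M : Fin (n + 1) → Subgroup G), M 0 = ⊥ ∧ M (Fin.last n) = ⊤ ∧ Monotone M ∧ (∀ i, (M i).Normal) ∧
      ∀ i : Fin n, (∀ q : ℕ, q.Prime → q ∣ (M i.castSucc).relIndex (M i.succ) → q ∣ Nat.card H) ∨
        ((M i.castSucc).relIndex (M i.succ)).Coprime (Nat.card H))
    (O : Subgroup G) (hO : O = sSup {K : Subgroup G | K.Normal ∧ (Nat.card K).Coprime (Nat.card H)}) :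
    O ⊔ Subgroup.normalizer (H : Set G) = ⊤ ∧ (O ⊔ H).Normal ∧
    (Group.IsSolvable G ↔ Group.IsSolvable O ∧
      ∀ K : Subgroup G, K ≤ H → ¬ Nonempty (K ≃* Matrix.SpecialLinearGroup (Fin 2) (ZMod 5))) := by
  classical
  have hHallG := CfsgLib.TIHall.coprime_index hTI hHall
  set NH := Subgroup.normalizer (H : Set G) with hNH
  have hHle : H ≤ NH := Subgroup.le_normalizer
  have hHne : H ≠ ⊥ := fun h => hnn (by rw [h]; infer_instance)
  -- the first factor of order not prime to `|H|`
  obtain ⟨n, M, hM0, hMl, hmono, hnorm, hfac⟩ := hsep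
  have hex : ∃ i : Fin (n + 1), ¬ (Nat.card (M i)).Coprime (Nat.card H) :=
    ⟨Fin.last n, by
      rw [hMl, Subgroup.card_top]
      intro hc
      exact hHne (Subgroup.card_eq_one.1 (Nat.Coprime.eq_one_of_dvd hc.symm H.card_subgroup_dvd_card))⟩
  obtain ⟨i₁, hi₁, hmin⟩ : ∃ i, ¬ (Nat.card (M i)).Coprime (Nat.card H) ∧
      ∀ j < i, (Nat.card (M j)).Coprime (Nat.card H) := by
    obtain ⟨i, hi, hmin⟩ := wellFounded_lt.has_min {i : Fin (n + 1) | ¬ (Nat.card (M i)).Coprime (Nat.card H)} hex
    exact ⟨i, hi, fun j hj => by_contra fun hc => hmin j hc hj⟩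
  obtain ⟨i, rfl⟩ : ∃ i : Fin n, i.succ = i₁ := by
    refine Fin.exists_succ_eq.2 fun h0 => hi₁ ?_
    rw [h0, hM0, Subgroup.card_bot]
    exact Nat.coprime_one_left _
  haveI hM0n : (M i.castSucc).Normal := hnorm _
  haveI hM1n : (M i.succ).Normal := hnorm _
  have hle01 : M i.castSucc ≤ M i.succ := hmono (by simp [Fin.le_def])
  have hcop0 : (Nat.card (M i.castSucc)).Coprime (Nat.card H) := hmin _ (by simp [Fin.lt_def])
  have hprod1 : Nat.card (M i.castSucc) * (M i.castSucc).relIndex (M i.succ) = Nat.card (M i.succ) := by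
    have := Subgroup.relIndex_mul_relIndex ⊥ (M i.castSucc) (M i.succ) bot_le hle01
    rwa [Subgroup.relIndex_bot_left, Subgroup.relIndex_bot_left] at this
  set M0 := M i.castSucc with hM0def
  set M1 := M i.succ with hM1def
  set H1 := M1 ⊓ H with hH1
  have hrH : (M0.relIndex M1).Coprime H.index := by
    rcases hfac i with h | h
    · refine Nat.coprime_of_dvd fun q hq h1 h2 => ?_
      exact hq.ne_one (Nat.eq_one_of_dvd_coprimes hHallG (h q hq h1) h2)
    · exact absurd (by rw [← hprod1]; exact hcop0.mul_left h) hi₁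
  -- `M₁ = M₀ (M₁ ∩ H)`
  have hdis01 : M0 ⊓ H1 = ⊥ :=
    Subgroup.inf_eq_bot_of_coprime (hcop0.coprime_dvd_right (Subgroup.card_dvd_of_le inf_le_right))
  have hM1eq : M0 ⊔ H1 = M1 := by
    refine Subgroup.eq_of_le_of_card_ge (sup_le hle01 inf_le_left) ?_
    rw [CfsgLib.Solvable.card_sup_of_disjoint (by rw [Subgroup.normalizer_eq_top]; exact le_top)
      (disjoint_iff.2 hdis01), ← hprod1]
    refine Nat.mul_le_mul_left _ (Nat.le_of_dvd Nat.card_pos ?_)
    refine hrH.dvd_of_dvd_mul_right ?_
    have h1 : Nat.card M1 * M1.relIndex H ∣ Nat.card G := by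
      have h := Subgroup.relIndex_mul_relIndex ⊥ M1 (M1 ⊔ H) bot_le le_sup_left
      rw [Subgroup.relIndex_bot_left, Subgroup.relIndex_bot_left, sup_comm, Subgroup.relIndex_sup_right] at h
      rw [h]
      exact Subgroup.card_subgroup_dvd_card _
    have h2 : Nat.card H1 * M1.relIndex H = Nat.card H := by
      have h := Subgroup.relIndex_mul_relIndex ⊥ H1 H bot_le inf_le_right
      rwa [Subgroup.relIndex_bot_left, Subgroup.relIndex_bot_left, hH1, Subgroup.inf_relIndex_right] at h
    rw [← H.card_mul_index, ← h2, mul_right_comm] at h1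
    exact (Dvd.intro_left _ hprod1).trans (Nat.dvd_of_mul_dvd_mul_right
      (Nat.pos_of_ne_zero fun h0 => by rw [h0, mul_zero] at h2; exact Nat.card_pos.ne h2) h1)
  -- the Frattini argument
  obtain ⟨q, hq, hqM1, hqH⟩ := Nat.Prime.not_coprime_iff_dvd.1 hi₁
  haveI : Fact q.Prime := ⟨hq⟩
  set T : Sylow q H1 := default with hT
  set R := (T : Subgroup H1).map H1.subtype with hR
  have hRH : R ≤ H := (Subgroup.map_subtype_le _).trans inf_le_right
  have hRM : R ≤ M1 := (Subgroup.map_subtype_le _).trans inf_le_left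
  have hcardM1 : Nat.card M1 = Nat.card M0 * Nat.card H1 := by
    rw [← CfsgLib.Solvable.card_sup_of_disjoint (by rw [Subgroup.normalizer_eq_top]; exact le_top)
      (disjoint_iff.2 hdis01), hM1eq]
  have hqM0 : ¬ q ∣ Nat.card M0 := fun h => hq.ne_one (Nat.eq_one_of_dvd_coprimes hcop0 h hqH)
  have hidx : ¬ q ∣ (R.subgroupOf M1).index := by
    have h3 := (R.subgroupOf M1).card_mul_index
    rw [Nat.card_congr (Subgroup.subgroupOfEquivOfLe hRM).toEquiv, hcardM1, hR,
      Subgroup.card_map_of_injective H1.subtype_injective, ← (T : Subgroup H1).card_mul_index,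
      mul_left_comm] at h3
    rw [Nat.eq_of_mul_eq_mul_left Nat.card_pos h3, hq.dvd_mul, not_or]
    exact ⟨hqM0, T.not_dvd_index⟩
  let P : Sylow q M1 := (T.isPGroup'.map H1.subtype).comap_subtype.toSylow hidx
  have hRne : R ≠ ⊥ := by
    intro e
    rw [hR, Subgroup.map_eq_bot_iff_of_injective _ H1.subtype_injective] at e
    have h1 : q ∣ Nat.card H1 :=
      (hq.dvd_mul.1 (hcardM1 ▸ hqM1)).resolve_left hqM0
    exact T.ne_bot_of_dvd_card h1 e
  have hNR : Subgroup.normalizer (R : Set G) ≤ NH := by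
    intro g hg
    obtain ⟨x, hx, hx1⟩ := (Subgroup.bot_or_exists_ne_one R).resolve_left hRne
    exact CfsgLib.TIHall.mem_normalizer_of_conj hTI (hRH hx) hx1
      (hRH ((Subgroup.mem_normalizer_iff.1 hg x).1 hx))
  have hfrat : M0 ⊔ NH = ⊤ := by
    have h1 := P.normalizer_sup_eq_top
    rw [show ((P : Subgroup M1).map M1.subtype) = R from Subgroup.map_subgroupOf_eq_of_le hRM] at h1
    rw [eq_top_iff, ← h1]
    refine sup_le (hNR.trans le_sup_right) ?_
    rw [← hM1eq]
    exact sup_le_sup_left (inf_le_right.trans hHle) _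
  -- the largest normal subgroup of order prime to `|H|`
  have hOS : O.Normal ∧ (Nat.card O).Coprime (Nat.card H) := by
    obtain ⟨X, hX, hmax⟩ := Set.Finite.exists_maximal
      (Set.toFinite {K : Subgroup G | K.Normal ∧ (Nat.card K).Coprime (Nat.card H)})
      ⟨⊥, inferInstance, by simp⟩
    have : O = X := by
      refine le_antisymm (hO ▸ sSup_le fun K hK => ?_) (hO ▸ le_sSup hX)
      haveI := hX.1
      haveI := hK.1
      exact le_sup_right.trans
        (hmax ⟨(inferInstance : (X ⊔ K).Normal), coprime_card_sup hX.1 hX.2 hK.2⟩ le_sup_left)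
    rw [this]
    exact hX
  obtain ⟨hOn, hOc⟩ := hOS
  have hM0O : M0 ≤ O := hO ▸ le_sSup ⟨hM0n, hcop0⟩
  have htop : O ⊔ NH = ⊤ := top_le_iff.1 (hfrat ▸ sup_le_sup_right hM0O _)
  refine ⟨htop, normal_sup_of_normalized hOn htop le_rfl, ?_, ?_⟩
  · intro hG
    refine ⟨inferInstance, fun K _ ⟨e⟩ => not_isSolvable_sl25 ?_⟩
    exact Group.isSolvable_of_surjective (f := e.toMonoidHom) e.surjective
  rintro ⟨hOsol, hnoSL⟩
  -- `H` acts fixed-point-freely
  have hfpf : CfsgLib.Zassenhaus.HasFpf H := by
    set G' := M0 ⊔ H with hG'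
    have hHG : H ≤ G' := le_sup_right
    set H' := H.subgroupOf G' with hH'
    have hcardH' : Nat.card H' = Nat.card H :=
      Nat.card_congr (Subgroup.subgroupOfEquivOfLe hHG).toEquiv
    have hnormeq : Subgroup.normalizer (H' : Set G') = NH.subgroupOf G' := by
      rw [hH', hNH, ← Subgroup.subgroupOf_normalizer_eq hHG]
    have hTI' : Cfsg.IsTISubset (H' : Set G') := by
      intro g hg x hx hgx
      refine Subtype.ext (hTI g (fun h => hg ?_) x hx (by simpa [hH', Subgroup.mem_subgroupOf] using hgx))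
      rw [hnormeq]
      exact h
    have hdisj : Disjoint (M0.subgroupOf G') H' := by
      rw [Subgroup.disjoint_def]
      intro x hx hx'
      exact Subtype.ext ((Subgroup.disjoint_def.1 (disjoint_iff.2
        (Subgroup.inf_eq_bot_of_coprime hcop0))) hx hx')
    have hc : (M0.subgroupOf G').IsComplement' H' := by
      refine Subgroup.isComplement'_of_disjoint_and_mul_eq_univ hdisj ?_
      rw [← Subgroup.normal_mul, hH', ← Subgroup.subgroupOf_sup le_sup_left le_sup_right]
      exact (by rw [Subgroup.subgroupOf_self, Subgroup.coe_top] :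
        ((G'.subgroupOf G' : Subgroup G') : Set G') = Set.univ)
    have hHall' : (Nat.card H').Coprime (H'.subgroupOf (Subgroup.normalizer (H' : Set G'))).index := by
      refine Nat.Coprime.coprime_dvd_right
        (Dvd.intro _ (Subgroup.relIndex_mul_index (Subgroup.le_normalizer (H := H')))) ?_
      rw [hc.index_eq_card, hcardH', Nat.card_congr (Subgroup.subgroupOfEquivOfLe le_sup_left).toEquiv]
      exact hcop0.symm
    have hnn' : ¬ H'.Normal := by
      intro h
      apply hnn
      rw [← Subgroup.normalizer_eq_top_iff, eq_top_iff, ← hfrat]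
      refine sup_le ?_ le_rfl
      intro m hm
      have : (⟨m, le_sup_left (b := H) hm⟩ : G') ∈ NH.subgroupOf G' := by
        rw [← hnormeq, Subgroup.normalizer_eq_top]; trivial
      exact this
    obtain ⟨F, iF, fF, C, hC, ⟨e⟩⟩ := CfsgLib.TIHall.exists_frobenius_complement hTI' hHall' hnn'
      inferInstance hc
    exact (CfsgLib.Zassenhaus.HasFpf.of_isFrobeniusComplement hC).of_injective
      ((Subgroup.subgroupOfEquivOfLe hHG).symm.trans e).toMonoidHom (MulEquiv.injective _)
  -- `H` is solvable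
  haveI hHsol : Group.IsSolvable H := by
    by_contra hns
    obtain ⟨E, hEH, hE1, hEE, -⟩ := CfsgLib.Zassenhaus.exists_perfect H hns
    haveI : Nontrivial E := (Subgroup.nontrivial_iff_ne_bot E).2 hE1
    refine hnoSL E hEH ((hfpf.of_injective (Subgroup.inclusion hEH)
      (Subgroup.inclusion_injective hEH)).nonempty_mulEquiv_SL25 ?_)
    apply Subgroup.map_injective E.subtype_injective
    rw [Subgroup.map_subtype_commutator, ← MonoidHom.range_eq_map, E.range_subtype, hEE]
  -- the centraliser of `H`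
  set C := Subgroup.centralizer (H : Set G) with hCdef
  have hCN : C ≤ NH := Subgroup.centralizer_le_normalizer _
  haveI hHn : (H.subgroupOf NH).Normal := Subgroup.normal_in_normalizer
  set Z := H.subgroupOf C with hZ
  have hZc : ∀ z ∈ Z, ∀ c : C, c * z = z * c := fun z hz c =>
    Subtype.ext (Subgroup.mem_centralizer_iff.1 c.2 z hz).symm
  haveI hZn : Z.Normal := ⟨fun z hz c => by rwa [hZc z hz c, mul_inv_cancel_right]⟩
  have hZidx : (Nat.card H).Coprime Z.index := by
    refine hHall.coprime_dvd_right ?_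
    have := Subgroup.relIndex_dvd_index_of_normal (H.subgroupOf NH) (C.subgroupOf NH)
    rwa [Subgroup.relIndex_subgroupOf hCN] at this
  have hZcard : Nat.card Z ∣ Nat.card H := by
    rw [← Subgroup.card_map_of_injective C.subtype_injective, hZ, Subgroup.subgroupOf_map_subtype]
    exact Subgroup.card_dvd_of_le inf_le_left
  obtain ⟨D, hD⟩ := Subgroup.exists_right_complement'_of_coprime (hZidx.coprime_dvd_left hZcard)
  haveI hDn : D.Normal := ⟨fun d hd c => by
    obtain ⟨⟨z, d'⟩, hzd⟩ := hD.2 c
    simp only at hzd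
    rw [← hzd]
    have h2 := hZc _ z.2 ((d' : C) * d * (d' : C)⁻¹)
    have h3 : (z : C) * (d' : C) * d * ((z : C) * (d' : C))⁻¹ = (d' : C) * d * (d' : C)⁻¹ := by
      rw [show (z : C) * (d' : C) * d * ((z : C) * (d' : C))⁻¹ =
        (z : C) * ((d' : C) * d * (d' : C)⁻¹) * (z : C)⁻¹ by group, ← h2, mul_inv_cancel_right]
    rw [h3]
    exact D.mul_mem (D.mul_mem d'.2 hd) (D.inv_mem d'.2)⟩
  have hDidx : D.index ∣ Nat.card H := by rw [hD.index_eq_card]; exact hZcard
  have hDcard : (Nat.card D).Coprime (Nat.card H) := by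
    rw [← hD.symm.index_eq_card]; exact hZidx.symm
  have hDnorm : NH ≤ Subgroup.normalizer ((D.map C.subtype : Subgroup G) : Set G) := by
    have key : ∀ g ∈ NH, ∀ x ∈ D.map C.subtype, g * x * g⁻¹ ∈ D.map C.subtype := by
      rintro g hg _ ⟨d, hd, rfl⟩
      simp only [Subgroup.coe_subtype]
      have hgC : g * (d : G) * g⁻¹ ∈ C := by
        refine Subgroup.mem_centralizer_iff.2 fun h hh => ?_
        have hh' : g⁻¹ * h * g ∈ H := (Subgroup.mem_normalizer_iff''.1 hg h).1 hh
        have h4 := Subgroup.mem_centralizer_iff.1 d.2 _ hh'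
        calc h * (g * (d : G) * g⁻¹) = g * ((g⁻¹ * h * g) * d) * g⁻¹ := by group
          _ = g * ((d : G) * (g⁻¹ * h * g)) * g⁻¹ := by rw [h4]
          _ = g * (d : G) * g⁻¹ * h := by group
      refine ⟨⟨_, hgC⟩, ?_, rfl⟩
      rw [SetLike.mem_coe, ← QuotientGroup.eq_one_iff, ← orderOf_eq_one_iff]
      refine Nat.eq_one_of_dvd_coprimes hDcard ?_
        (orderOf_dvd_natCard _ |>.trans (Subgroup.index_eq_card D ▸ hDidx))
      refine (orderOf_map_dvd (QuotientGroup.mk' D) _).trans ?_
      rw [← Subgroup.orderOf_coe]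
      show orderOf (g * (d : G) * g⁻¹) ∣ _
      rw [← MulAut.conj_apply, MulEquiv.orderOf_eq, Subgroup.orderOf_coe]
      exact Subgroup.orderOf_dvd_natCard D hd
    intro g hg
    rw [Subgroup.mem_normalizer_iff]
    exact fun x => ⟨key g hg x, fun hx => by simpa [mul_assoc] using key _ (inv_mem hg) _ hx⟩
  have hDO : D.map C.subtype ≤ O := by
    have hmem : O ⊔ D.map C.subtype ∈
        {K : Subgroup G | K.Normal ∧ (Nat.card K).Coprime (Nat.card H)} :=
      ⟨normal_sup_of_normalized hOn htop hDnorm, coprime_card_sup hOn hOc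
        (by rwa [Subgroup.card_map_of_injective C.subtype_injective])⟩
    have h := le_sSup hmem
    rw [← hO] at h
    exact le_sup_right.trans h
  haveI hCsol : Group.IsSolvable C := by
    haveI : Group.IsSolvable D := by
      haveI := hOsol
      refine Group.isSolvable_of_isSolvable_injective
        (f := (C.subtype.comp D.subtype).codRestrict O fun d => hDO ⟨d, d.2, rfl⟩) ?_
      intro a b hab
      exact Subtype.ext (Subtype.ext (congrArg (fun t : O => (t : G)) hab))
    haveI : Group.IsSolvable (C ⧸ D) := Group.isSolvable_of_comm fun a b => by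
      obtain ⟨a, rfl⟩ := QuotientGroup.mk'_surjective D a
      obtain ⟨b, rfl⟩ := QuotientGroup.mk'_surjective D b
      obtain ⟨⟨z, d⟩, rfl⟩ := hD.2 a
      simp only [map_mul]
      rw [show QuotientGroup.mk' D (d : C) = 1 from (QuotientGroup.eq_one_iff _).2 d.2, mul_one,
        ← map_mul, ← map_mul, hZc _ z.2]
    exact Group.isSolvable_iff_subgroup_quotient D |>.2 ⟨inferInstance, inferInstance⟩
  -- the normaliser is solvable
  haveI hNsol : Group.IsSolvable NH := by
    haveI := CfsgLib.AutFpf.isSolvable_mulAut hfpf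
    refine Group.isSolvable_of_ker_le_range (Subgroup.inclusion hCN) H.normalizerMonoidHom ?_
    intro x hx
    rw [Subgroup.normalizerMonoidHom_ker, Subgroup.mem_subgroupOf] at hx
    exact ⟨⟨x, hx⟩, rfl⟩
  haveI := hOsol
  haveI : Group.IsSolvable (G ⧸ O) := by
    refine Group.isSolvable_of_surjective (f := (QuotientGroup.mk' O).comp NH.subtype) fun y => ?_
    obtain ⟨g, rfl⟩ := QuotientGroup.mk'_surjective O y
    have hg : g ∈ ((O ⊔ NH : Subgroup G) : Set G) := by rw [htop]; trivial
    rw [Subgroup.normal_mul] at hg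
    obtain ⟨o, ho, x, hx, rfl⟩ := Set.mem_mul.1 hg
    refine ⟨⟨x, hx⟩, ?_⟩
    simp only [MonoidHom.comp_apply, Subgroup.coe_subtype, map_mul]
    rw [show QuotientGroup.mk' O o = 1 from (QuotientGroup.eq_one_iff _).2 ho, one_mul]
  exact Group.isSolvable_iff_subgroup_quotient O |>.2 ⟨inferInstance, inferInstance⟩

end Cfsg.Agent.S4118
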