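import Cfsg.Statements.S4126
import Cfsg.Agent.Lib.FGStruct.OmegaFixAll
import Cfsg.Agent.Lib.FGStruct.PPowerClass
import Cfsg.Agent.Lib.PNilpotent.Basic
import Cfsg.Agent.Lib.Solvable.Core

set_option autoImplicit false
open Cfsg Pointwise

namespace Cfsg.Agent.S4126

/-- Let G be a finite group and p a prime. Suppose every element of order p, and when p = 2 also every element of order 4, has a conjugacy class of p-power size. Then G has a normal p-complement. -/
theorem result {G : Type*} [Group G] [Finite G] (p : ℕ) [Fact p.Prime]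
    (h : ∀ x : G, (orderOf x = p ∨ (p = 2 ∧ orderOf x = 4)) → ∃ a : ℕ, (Subgroup.centralizer ({x} : Set G)).index = p ^ a) :
    Cfsg.HasNormalPComplement p G := by
  obtain ⟨P⟩ : Nonempty (Sylow p G) := inferInstance
  let Z : ℕ → Subgroup G := fun i => (Subgroup.upperCentralSeries (P : Subgroup G) i).map (P : Subgroup G).subtype
  -- the normal core in `G` of each term is centralised by every `p'`-element
  have hZ : ∀ i, ∀ s : G, (orderOf s).Coprime p → ∀ y ∈ (Z i).normalCore, Commute s y := by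
    intro i
    induction i with
    | zero =>
      intro s _ y hy
      have h0 := (Z 0).normalCore_le hy
      simp only [Z, Subgroup.upperCentralSeries_zero, Subgroup.map_bot, Subgroup.mem_bot] at h0
      rw [h0]; exact Commute.one_right s
    | succ i ih =>
      intro s hs y hy
      haveI : (Z (i + 1)).normalCore.Normal := Subgroup.normalCore_normal _
      have hp' : IsPGroup p (Z (i + 1)).normalCore :=
        P.isPGroup'.to_le ((Z (i + 1)).normalCore_le.trans (Subgroup.map_subtype_le _))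
      refine CfsgLib.FGStruct.OmegaFixAll.commute_of_fix_orderOf _ hp'
        (by rw [Subgroup.normalizer_eq_top]; trivial) hs ?_ y hy
      intro x hx hxo
      obtain ⟨a, ha⟩ := h x hxo
      have hxZ := (Z (i + 1)).normalCore_le hx
      obtain ⟨x', hx', hxx⟩ := hxZ
      replace hxx : (x' : G) = x := hxx
      -- conjugates of `x` differ from it by elements of `Z i`
      have hconj : ∀ g : G, x⁻¹ * (g * x * g⁻¹) ∈ Z i := by
        intro g
        obtain ⟨u, hu, he⟩ := CfsgLib.FGStruct.PPowerClass.exists_conj_eq x g ha P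
        have h1 := Subgroup.mem_upperCentralSeries_succ_iff.mp hx' ⟨u, hu⟩
        simp only [commutatorElement_def] at h1
        refine ⟨x'⁻¹ * ⟨u, hu⟩ * x' * ⟨u, hu⟩⁻¹, ?_, ?_⟩
        · have h2 : x'⁻¹ * ⟨u, hu⟩ * x' * ⟨u, hu⟩⁻¹ = x'⁻¹ * (x' * ⟨u, hu⟩ * x'⁻¹ * ⟨u, hu⟩⁻¹)⁻¹ * x' := by
            simp [mul_assoc]
          rw [h2]
          simpa using Subgroup.Normal.conj_mem inferInstance _ (Subgroup.inv_mem _ h1) x'⁻¹
        · rw [he, ← hxx]; simp [mul_assoc]
      have hc : x⁻¹ * (s * x * s⁻¹) ∈ (Z i).normalCore := by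
        intro g
        have e : g * (x⁻¹ * (s * x * s⁻¹)) * g⁻¹ =
            (x⁻¹ * (g * x * g⁻¹))⁻¹ * (x⁻¹ * ((g * s) * x * (g * s)⁻¹)) := by simp [mul_assoc]
        rw [e]
        exact Subgroup.mul_mem _ (Subgroup.inv_mem _ (hconj g)) (hconj (g * s))
      have hcomm := ih s hs _ hc
      have hcp : (orderOf s).Coprime (orderOf (x⁻¹ * (s * x * s⁻¹))) :=
        CfsgLib.OddOrder.coprime_orderOf_of_isPGroup P.isPGroup' hs
          (((Z i).normalCore_le.trans (Subgroup.map_subtype_le _)) hc)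
      have h3 : x⁻¹ * (s * x * s⁻¹) = 1 := by
        have h4 : s * x⁻¹ * s⁻¹ = (x⁻¹ * (s * x * s⁻¹))⁻¹ * x⁻¹ := by simp [mul_assoc]
        exact inv_eq_one.mp (CfsgLib.OddOrder.eq_one_of_conj_eq_mul_left h4 hcomm.inv_right (by rwa [orderOf_inv]))
      show s * x = x * s
      rw [inv_mul_eq_one] at h3
      conv_rhs => rw [h3]
      simp [mul_assoc]
  haveI := P.isPGroup'.isNilpotent
  obtain ⟨n, hn⟩ := Group.IsNilpotent.nilpotent (P : Subgroup G)
  have hyp : CfsgLib.PNilpotent.PrimeToPCentralizes p G := by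
    intro Q hQ g hg hgo
    rw [Subgroup.mem_centralizer_iff]
    intro q hq
    refine (CfsgLib.FGStruct.OmegaFixAll.commute_of_fix_orderOf Q hQ hg hgo ?_ q hq).symm
    intro x _ hxo
    obtain ⟨a, ha⟩ := h x hxo
    refine hZ n g hgo x ?_
    intro u
    have hord : ∃ k, orderOf (u * x * u⁻¹) = p ^ k := by
      have e : orderOf (u * x * u⁻¹) = orderOf x := (MulAut.conj u).orderOf_eq x
      rcases hxo with h1 | ⟨rfl, h1⟩
      · exact ⟨1, by rw [e, h1, pow_one]⟩
      · exact ⟨2, by rw [e, h1]; rfl⟩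
    obtain ⟨k, hk⟩ := hord
    obtain ⟨b, hb⟩ := h (u * x * u⁻¹) (by
      rcases hxo with h1 | ⟨h2, h1⟩
      · exact Or.inl (by rw [← h1]; exact (MulAut.conj u).orderOf_eq x)
      · exact Or.inr ⟨h2, by rw [← h1]; exact (MulAut.conj u).orderOf_eq x⟩)
    have hmem := CfsgLib.Solvable.pCore_le_sylow P (CfsgLib.FGStruct.PPowerClass.mem_pCore _ hk hb)
    exact ⟨⟨_, hmem⟩, by rw [hn]; trivial, rfl⟩
  obtain ⟨N, hN, hNP⟩ := CfsgLib.PNilpotent.exists_normal_complement hyp P
  exact ⟨P, N, hN, hNP⟩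

end Cfsg.Agent.S4126
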