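import Cfsg.Statements.S4130
import Cfsg.Agent.Lib.FGStruct.SquareFreeClass
-- import your own Cfsg.Agent.* helpers here

set_option autoImplicit false
open Cfsg
open scoped commutatorElement

namespace Cfsg.Agent.S4130

/-- The quotient by the Fitting subgroup is cyclic of square-free order. -/
theorem quotient_fitting {G : Type*} [Group G] [Finite G]
    (h : ∀ x : G, Squarefree (Subgroup.centralizer ({x} : Set G)).index)
    (_hn : (Cfsg.fittingSubgroup G).Normal) :
    IsCyclic (G ⧸ Cfsg.fittingSubgroup G) ∧ Squarefree (Cfsg.fittingSubgroup G).index := by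
  obtain ⟨v, hv⟩ := CfsgLib.FGStruct.SquareFreeClass.exists_centralizer_le_fitting h
  have hsq := (h v).squarefree_of_dvd (Subgroup.index_dvd_of_le hv)
  refine ⟨?_, hsq⟩
  haveI : IsZGroup (G ⧸ Cfsg.fittingSubgroup G) :=
    IsZGroup.of_squarefree (by rw [← Subgroup.index_eq_card]; exact hsq)
  haveI : Group.IsNilpotent (G ⧸ Cfsg.fittingSubgroup G) := CfsgLib.Solvable.isNilpotent_of_comm (by
    intro a b
    obtain ⟨a, rfl⟩ := QuotientGroup.mk'_surjective _ a
    obtain ⟨b, rfl⟩ := QuotientGroup.mk'_surjective _ b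
    rw [← map_mul, ← map_mul, QuotientGroup.mk'_apply, QuotientGroup.mk'_apply, QuotientGroup.eq]
    have := CfsgLib.FGStruct.SquareFreeClass.commutator_le_fitting h
      (CfsgLib.FGStruct.SquareFreeClass.comm_mem_commutator b⁻¹ a⁻¹)
    simpa [mul_assoc] using this)
  infer_instance

/-- The `r`-part of the derived subgroup of a group with square-free class sizes divides `r`. -/
theorem not_sq_dvd_card_commutator {G : Type*} [Group G] [Finite G]
    (h : ∀ x : G, Squarefree (Subgroup.centralizer ({x} : Set G)).index)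
    (r : ℕ) (hr : r.Prime) : ¬ r * r ∣ Nat.card (commutator G) := by
  haveI : Fact r.Prime := ⟨hr⟩
  haveI hKn : (pPrimeCore r G).Normal := CfsgLib.Solvable.pPrimeCore_normal r G
  set q := QuotientGroup.mk' (pPrimeCore r G) with hq
  have hqs : Function.Surjective q := QuotientGroup.mk'_surjective _
  set Q := G ⧸ pPrimeCore r G with hQ
  have hsq : ∀ x : Q, Squarefree (Subgroup.centralizer ({x} : Set Q)).index := fun x => by
    obtain ⟨y, rfl⟩ := hqs x
    exact (h y).squarefree_of_dvd
      (CfsgLib.FGStruct.ClassPSq.index_centralizer_dvd_of_surjective q hqs y)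
  have hbot : pPrimeCore r Q = ⊥ := CfsgLib.Solvable.pPrimeCore_quotient_eq_bot _ rfl
  -- the Fitting subgroup is the normal Sylow `r`-subgroup
  have hFle : fittingSubgroup Q ≤ pCore r Q := by
    rw [CfsgLib.Solvable.fittingSubgroup_eq_iSup_pCore]
    refine iSup_le fun s => ?_
    by_cases hsr : (s : ℕ) = r
    · rw [hsr]
    haveI : Fact (s : ℕ).Prime := ⟨(Nat.mem_primeFactors.1 s.2).1⟩
    obtain ⟨m, hm⟩ := IsPGroup.iff_card.1 (CfsgLib.Solvable.pCore_isPGroup (s : ℕ) Q)
    have h1 : pCore (s : ℕ) Q ≤ pPrimeCore r Q :=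
      le_sSup ⟨CfsgLib.Solvable.pCore_normal (s : ℕ) Q, by
        rw [hm]; exact Nat.Coprime.pow_left m ((Nat.coprime_primes Fact.out hr).2 hsr)⟩
    rw [hbot] at h1
    exact h1.trans bot_le
  inhabit Sylow r Q
  set S : Sylow r Q := default with hS
  have hFS : fittingSubgroup Q ≤ (S : Subgroup Q) := hFle.trans (CfsgLib.Solvable.pCore_le_sylow S)
  haveI hSn : (S : Subgroup Q).Normal := Subgroup.Normal.of_commutator_le Q
    ((CfsgLib.FGStruct.SquareFreeClass.commutator_le_fitting hsq).trans hFS)
  have hSF : (S : Subgroup Q) ≤ fittingSubgroup Q :=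
    (CfsgLib.Solvable.le_pCore hSn S.isPGroup').trans CfsgLib.Solvable.pCore_le_fittingSubgroup
  haveI hFn : (fittingSubgroup Q).Normal := CfsgLib.Solvable.fittingSubgroup_normal Q
  -- a generator of order prime to `r` modulo the Sylow subgroup
  obtain ⟨g', hg'⟩ := (quotient_fitting hsq hFn).1.exists_generator
  obtain ⟨g, rfl⟩ := QuotientGroup.mk'_surjective (fittingSubgroup Q) g'
  obtain ⟨a, b, hab, ⟨k, hk⟩, hb⟩ := CfsgLib.PNilpotent.exists_pPart_decomp (p := r) g
  have hga : g ^ a ∈ (S : Subgroup Q) := by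
    obtain ⟨T, hT⟩ := (IsPGroup.of_card (p := r) (n := k) (G := Subgroup.zpowers (g ^ a))
      (by rw [Nat.card_zpowers, hk])).exists_le_sylow
    haveI := Sylow.unique_of_normal S hSn
    rw [Subsingleton.elim T S] at hT
    exact hT (Subgroup.mem_zpowers _)
  have hgen : (S : Subgroup Q) ⊔ Subgroup.zpowers (g ^ b) = ⊤ := by
    rw [eq_top_iff]
    intro x _
    obtain ⟨i, hi⟩ := Subgroup.mem_zpowers_iff.1 (hg' (QuotientGroup.mk' _ x))
    have hg : g ∈ (S : Subgroup Q) ⊔ Subgroup.zpowers (g ^ b) := by
      have h1 := mul_mem (Subgroup.mem_sup_left (T := Subgroup.zpowers (g ^ b)) hga)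
        (Subgroup.mem_sup_right (S := (S : Subgroup Q)) (Subgroup.mem_zpowers (g ^ b)))
      rwa [hab] at h1
    rw [← map_zpow, QuotientGroup.mk'_apply, QuotientGroup.mk'_apply, QuotientGroup.eq] at hi
    have h2 := mul_mem (zpow_mem hg i) (Subgroup.mem_sup_left (T := Subgroup.zpowers (g ^ b)) (hFS hi))
    rwa [mul_inv_cancel_left] at h2
  have hcard : Nat.card (commutator Q) ∣ r :=
    CfsgLib.FGStruct.SquareFreeClass.card_commutator_dvd (S : Subgroup Q) S.isPGroup' (g ^ b) hb hgen
      (fun x hx y hy => CfsgLib.FGStruct.SquareFreeClass.fitting_comm_mem_center hsq (hSF hx) (hSF hy))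
      (fun x => CfsgLib.FGStruct.SquareFreeClass.relIndex_centralizer_dvd _ S.isPGroup' x (hsq x))
  have hmap : (commutator G).map q = commutator Q := by
    rw [commutator_def, Subgroup.map_commutator, Subgroup.map_top_of_surjective q hqs, commutator_def]
  intro hd
  have h1 := CfsgLib.Solvable.card_inf_mul_relIndex q.ker (commutator G)
  rw [Subgroup.relIndex_ker, hmap] at h1
  have h2 : Nat.Coprime (Nat.card ↥(q.ker ⊓ commutator G)) r := by
    refine (CfsgLib.Solvable.pPrimeCore_card_coprime r G).coprime_dvd_left ?_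
    rw [QuotientGroup.ker_mk']
    exact Subgroup.card_dvd_of_le inf_le_left
  rw [← h1] at hd
  have h3 : r * r ∣ Nat.card (commutator Q) :=
    ((h2.symm.mul_left h2.symm)).dvd_of_dvd_mul_left hd
  have h4 := Nat.le_of_dvd hr.pos (h3.trans hcard)
  have h5 := hr.two_le
  nlinarith

/-- Let G be a finite group all of whose conjugacy class sizes are square-free. Then G is supersolvable, G/F(G) and the derived subgroup G′ are cyclic of square-free order (F(G) the Fitting subgroup, which is normal), F(G) has nilpotency class at most 2, and G is metabelian. -/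
theorem result {G : Type*} [Group G] [Finite G]
    (h : ∀ x : G, Squarefree (Subgroup.centralizer ({x} : Set G)).index) :
    Cfsg.IsSupersolvable G ∧ (Cfsg.fittingSubgroup G).Normal ∧
    (∀ _h : (Cfsg.fittingSubgroup G).Normal, IsCyclic (G ⧸ Cfsg.fittingSubgroup G) ∧ Squarefree (Cfsg.fittingSubgroup G).index) ∧
    IsCyclic (commutator G) ∧ Squarefree (Nat.card (commutator G)) ∧
    Subgroup.upperCentralSeries ↥(Cfsg.fittingSubgroup G) 2 = ⊤ ∧ commutator ↥(commutator G) = ⊥ := by
  haveI hsup := CfsgLib.FGStruct.SquareFreeClass.isSupersolvable h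
  haveI : Group.IsNilpotent (commutator G) := CfsgLib.Supersolvable.commutator_nilpotent hsup
  have hsq : Squarefree (Nat.card (commutator G)) :=
    Nat.squarefree_iff_prime_squarefree.2 fun r hr =>
      not_sq_dvd_card_commutator h r hr
  haveI : IsZGroup (commutator G) := IsZGroup.of_squarefree hsq
  have hcyc : IsCyclic (commutator G) := inferInstance
  refine ⟨hsup, CfsgLib.Solvable.fittingSubgroup_normal G, fun hn => quotient_fitting h hn, hcyc, hsq,
    ?_, ?_⟩
  · rw [eq_top_iff]
    intro x _
    rw [Subgroup.mem_upperCentralSeries_succ_iff]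
    intro y
    rw [Subgroup.upperCentralSeries_one, Subgroup.mem_center_iff]
    intro z
    apply Subtype.ext
    exact Subgroup.mem_center_iff.1
      (CfsgLib.FGStruct.SquareFreeClass.fitting_comm_mem_center h x.2 y.2) (z : G)
  · show ⁅(⊤ : Subgroup (commutator G)), ⊤⁆ = ⊥
    rw [Subgroup.commutator_eq_bot_iff_le_centralizer]
    intro a _
    rw [Subgroup.mem_centralizer_iff]
    intro b _
    exact ((IsCyclic.isMulCommutative (α := commutator G)).is_comm.comm a b).symm

end Cfsg.Agent.S4130
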