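import Cfsg.Statements.S4134
import Cfsg.Agent.Lib.FGStruct.ItoTwoSizes
import Mathlib.GroupTheory.Nilpotent

set_option autoImplicit false
set_option linter.style.haveILetI false
open Cfsg

namespace Cfsg.Agent.S4134

open Subgroup

/-- In a finite `p`-group where `C(y ^ p) ≤ C(y)` whenever `y ^ p` is noncentral, some normal
abelian subgroup contains all `p`-th powers. -/
theorem exists_abelian_containing_powers {P : Type*} [Group P] [Finite P] {p : ℕ} [Fact p.Prime]
    (hP : IsPGroup p P)
    (hc : ∀ y : P, y ^ p ∉ center P →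
      centralizer ({y ^ p} : Set P) ≤ centralizer ({y} : Set P)) :
    ∃ A : Subgroup P, A.Normal ∧ IsMulCommutative A ∧ ∀ y : P, y ^ p ∈ A := by
  classical
  haveI : Group.IsNilpotent P := hP.isNilpotent
  obtain ⟨A, ⟨hAn, hAc⟩, hmax⟩ := (Set.toFinite
    {A : Subgroup P | A.Normal ∧ IsMulCommutative A}).exists_maximal
      ⟨center P, inferInstance, inferInstance⟩
  haveI := hAn
  have hcent : centralizer (A : Set P) = A :=
    CfsgLib.PGroup.centralizer_eq_of_maximal_normal_abelian hP A hAc
      fun B hB hBc hAB => le_antisymm (hmax ⟨hB, hBc⟩ hAB) hAB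
  refine ⟨A, hAn, hAc, fun y => ?_⟩
  by_cases hy : y ^ p ∈ center P
  · have h1 : center P ≤ centralizer (A : Set P) := Subgroup.center_le_centralizer _
    rw [hcent] at h1
    exact h1 hy
  refine pow_mem ?_ p
  have key : ∀ i : ℕ, ∀ a ∈ A, a ∈ Subgroup.upperCentralSeries P i → Commute a y := by
    intro i
    induction i with
    | zero =>
      intro a _ ha
      rw [Subgroup.upperCentralSeries_zero, mem_bot] at ha
      rw [ha]; exact Commute.one_left y
    | succ i ih =>
      intro a haA ha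
      obtain ⟨c, hc'⟩ : ∃ c, c = a * y * a⁻¹ * y⁻¹ := ⟨_, rfl⟩
      have hcA : c ∈ A := by
        rw [hc', show a * y * a⁻¹ * y⁻¹ = a * (y * a⁻¹ * y⁻¹) by group]
        exact mul_mem haA (hAn.conj_mem _ (inv_mem haA) y)
      have hcy : Commute c y :=
        ih c hcA (hc' ▸ Subgroup.mem_upperCentralSeries_succ_iff.mp ha y)
      have hcomm : ∀ b ∈ A, Commute b c := fun b hb =>
        Subtype.ext_iff.mp ((IsMulCommutative.is_comm (M := A)).comm ⟨b, hb⟩ ⟨c, hcA⟩)
      -- `y` translates powers of `a` by powers of `c⁻¹`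
      have hconj : y * a * y⁻¹ = c⁻¹ * a := by rw [hc']; group
      have hiter : ∀ j m : ℕ, y ^ j * a ^ m * (y ^ j)⁻¹ = c⁻¹ ^ (j * m) * a ^ m := by
        intro j
        induction j with
        | zero => intro m; simp
        | succ j ihj =>
          intro m
          have h1 : y * a ^ m * y⁻¹ = c⁻¹ ^ m * a ^ m := by
            rw [← conj_pow, hconj, ((hcomm a haA).symm.inv_left).mul_pow]
          have h2 : y ^ (j + 1) * a ^ m * (y ^ (j + 1))⁻¹ =
              y * (y ^ j * a ^ m * (y ^ j)⁻¹) * y⁻¹ := by rw [pow_succ']; group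
          rw [h2, ihj, ← mul_assoc y, ((hcy.symm.inv_right).pow_right (j * m)).eq, Nat.succ_mul,
            pow_add]
          calc c⁻¹ ^ (j * m) * y * a ^ m * y⁻¹ = c⁻¹ ^ (j * m) * (y * a ^ m * y⁻¹) := by group
            _ = _ := by rw [h1, mul_assoc]
      have hdown : ∀ j : ℕ, c ^ p ^ (j + 1) = 1 → c ^ p ^ j = 1 := by
        intro j hj
        have h1 : a ^ p ^ j ∈ centralizer ({y ^ p} : Set P) := by
          rw [mem_centralizer_singleton_iff]
          have := hiter p (p ^ j)
          rw [← pow_succ', inv_pow, hj, inv_one, one_mul, mul_inv_eq_iff_eq_mul] at this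
          exact this.symm
        have h2 := Subgroup.mem_centralizer_singleton_iff.mp (hc y hy h1)
        have h3 := hiter 1 (p ^ j)
        rw [pow_one, one_mul, ← h2, mul_inv_cancel_right, inv_pow, right_eq_mul, inv_eq_one] at h3
        exact h3
      have hzero : ∀ j : ℕ, c ^ p ^ j = 1 → c = 1 := by
        intro j
        induction j with
        | zero => simp
        | succ j ihj => intro hj; exact ihj (hdown j hj)
      obtain ⟨j, hj⟩ := hP c
      have hc1 : c = 1 := hzero j hj
      rw [hc', mul_inv_eq_one, mul_inv_eq_iff_eq_mul] at hc1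
      exact hc1
  rw [← hcent, mem_centralizer_iff]
  intro a ha
  exact key _ a ha (by rw [Subgroup.upperCentralSeries_nilpotencyClass]; exact mem_top a)

/-- Let G be a finite group whose conjugacy classes have exactly two sizes, 1 and n > 1. Then n is a power of a prime p and G is the direct product of a p-group and an abelian group of order prime to p: its Sylow p-subgroup P is normal with an abelian normal complement centralizing it; moreover P has an abelian normal subgroup A with P/A of exponent dividing p. -/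
theorem result {G : Type*} [Group G] [Finite G] (n : ℕ) (hn : 1 < n)
    (h : ∀ x : G, (Subgroup.centralizer ({x} : Set G)).index = 1 ∨ (Subgroup.centralizer ({x} : Set G)).index = n) (hex : ∃ x : G, (Subgroup.centralizer ({x} : Set G)).index = n) :
    ∃ (p : ℕ) (_ : Fact p.Prime) (a : ℕ), n = p ^ a ∧ ∀ P : Sylow p G, (P : Subgroup G).Normal ∧
      (∃ N : Subgroup G, N.Normal ∧ N.IsComplement' (P : Subgroup G) ∧ IsMulCommutative N ∧
        ∀ x ∈ N, ∀ y ∈ (P : Subgroup G), x * y = y * x) ∧
      ∃ A : Subgroup (P : Subgroup G), A.Normal ∧ IsMulCommutative A ∧ ∀ y : (P : Subgroup G), y ^ p ∈ A := by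
  classical
  have h' : ∀ x : G, x ∉ center G → (centralizer ({x} : Set G)).index = n := fun x hx =>
    (h x).resolve_left fun h1 => hx (CfsgLib.FGStruct.ItoTwoSizes.mem_center_iff_index.mpr h1)
  obtain ⟨x₀, hx₀⟩ := hex
  have hx₀c : x₀ ∉ center G := fun hc => by
    rw [CfsgLib.FGStruct.ItoTwoSizes.mem_center_iff_index.mp hc] at hx₀
    omega
  obtain ⟨p, hp, hcent⟩ := CfsgLib.FGStruct.ItoTwoSizes.exists_isolated h' ⟨x₀, hx₀c⟩
  haveI := Fact.mk hp
  let N : Subgroup G :=
    { carrier := {z | z ∈ center G ∧ (orderOf z).Coprime p}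
      one_mem' := ⟨one_mem _, by rw [orderOf_one]; exact Nat.coprime_one_left p⟩
      mul_mem' := fun {a b} ha hb => ⟨mul_mem ha.1 hb.1,
        Nat.Coprime.coprime_dvd_left
          (Commute.orderOf_mul_dvd_mul_orderOf (Subgroup.mem_center_iff.mp hb.1 a))
          (Nat.Coprime.mul_left ha.2 hb.2)⟩
      inv_mem' := fun {a} ha => ⟨inv_mem ha.1, by rw [orderOf_inv]; exact ha.2⟩ }
  have hsyl : ∀ (q : ℕ) [Fact q.Prime] (Q : Sylow q G), q ≠ p → (Q : Subgroup G) ≤ N := by
    intro q hq Q hqp u hu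
    obtain ⟨i, hi⟩ := (IsPGroup.iff_orderOf.mp Q.isPGroup') ⟨u, hu⟩
    rw [← Subgroup.orderOf_coe] at hi
    have hco : (orderOf u).Coprime p := by
      change orderOf u = q ^ i at hi
      rw [hi]; exact ((Nat.coprime_primes hq.out hp).mpr hqp).pow_left i
    exact ⟨hcent u hco, hco⟩
  obtain ⟨a, ha⟩ : ∃ a, n = p ^ a := by
    refine ⟨_, Nat.eq_prime_pow_of_unique_prime_dvd (by omega) fun {q} hq hqn => ?_⟩
    by_contra hqp
    haveI := Fact.mk hq
    obtain ⟨Q⟩ : Nonempty (Sylow q G) := inferInstance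
    have hQ : (Q : Subgroup G) ≤ centralizer ({x₀} : Set G) := fun u hu =>
      CfsgLib.FGStruct.ItoTwoSizes.center_le_cl x₀ (hsyl q Q hqp hu).1
    rw [← hx₀] at hqn
    exact Q.not_dvd_index (hqn.trans (index_dvd_of_le hQ))
  refine ⟨p, ⟨hp⟩, a, ha, fun P => ?_⟩
  haveI hNn : N.Normal := ⟨fun z hz g => by
    rwa [Subgroup.mem_center_iff.mp hz.1 g, mul_inv_cancel_right]⟩
  have hcard : Nat.card N * Nat.card (P : Subgroup G) = Nat.card G := by
    apply Nat.dvd_antisymm
    · refine Nat.Coprime.mul_dvd_of_dvd_of_dvd ?_ (card_subgroup_dvd_card N)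
        (card_subgroup_dvd_card _)
      obtain ⟨k, hk⟩ := IsPGroup.iff_card.mp P.isPGroup'
      rw [hk]
      refine Nat.Coprime.pow_right k ?_
      rw [Nat.coprime_comm, hp.coprime_iff_not_dvd]
      intro hd
      obtain ⟨z, hz⟩ := exists_prime_orderOf_dvd_card' p hd
      rw [← Subgroup.orderOf_coe] at hz
      have := z.2.2
      rw [hz, Nat.coprime_self] at this
      exact hp.one_lt.ne' this
    · rw [Nat.dvd_iff_prime_pow_dvd_dvd]
      intro q k hq hqk
      haveI := Fact.mk hq
      by_cases hqp : q = p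
      · subst hqp
        refine dvd_mul_of_dvd_right ?_ _
        rw [P.card_eq_multiplicity]
        exact pow_dvd_pow q ((hq.pow_dvd_iff_le_factorization Nat.card_pos.ne').mp hqk)
      · obtain ⟨Q⟩ : Nonempty (Sylow q G) := inferInstance
        refine dvd_mul_of_dvd_left (dvd_trans ?_ (card_dvd_of_le (hsyl q Q hqp))) _
        rw [Q.card_eq_multiplicity]
        exact pow_dvd_pow q ((hq.pow_dvd_iff_le_factorization Nat.card_pos.ne').mp hqk)
  have hdis : Disjoint N (P : Subgroup G) := by
    rw [disjoint_iff_inf_le]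
    rintro z ⟨⟨-, hz⟩, hzP⟩
    obtain ⟨i, hi⟩ := (IsPGroup.iff_orderOf.mp P.isPGroup') ⟨z, hzP⟩
    rw [← Subgroup.orderOf_coe] at hi
    change orderOf z = p ^ i at hi
    rw [hi] at hz
    rw [mem_bot, ← orderOf_eq_one_iff, hi]
    rcases i with _ | i
    · simp
    · exact absurd ((Nat.coprime_pow_left_iff (Nat.succ_pos i) _ _).mp hz)
        (fun hh => hp.one_lt.ne' ((Nat.coprime_self p).mp hh))
  have hc : N.IsComplement' (P : Subgroup G) := isComplement'_of_card_mul_and_disjoint hcard hdis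
  have hPn : (P : Subgroup G).Normal := by
    refine ⟨fun u hu g => ?_⟩
    obtain ⟨⟨z, w⟩, hzw⟩ := hc.2 g
    have hg : g = (z : G) * (w : G) := hzw.symm
    have hcz : Commute (z : G) (w * u * (w : G)⁻¹) := (Subgroup.mem_center_iff.mp z.2.1 _).symm
    have : g * u * g⁻¹ = (w : G) * u * (w : G)⁻¹ := by
      rw [hg, show (z : G) * w * u * ((z : G) * w)⁻¹ = z * (w * u * (w : G)⁻¹) * (z : G)⁻¹ by group,
        hcz.eq, mul_inv_cancel_right]
    rw [this]
    exact mul_mem (mul_mem w.2 hu) (inv_mem w.2)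
  refine ⟨hPn, ⟨N, hNn, hc, ⟨⟨fun a b => Subtype.ext (Subgroup.mem_center_iff.mp b.2.1 a)⟩⟩,
    fun z hz w _ => (Subgroup.mem_center_iff.mp hz.1 w).symm⟩, ?_⟩
  refine exists_abelian_containing_powers P.isPGroup' fun y hy w hw => ?_
  have hyG : (y : G) ^ p ∉ center G := fun hh => hy (Subgroup.mem_center_iff.mpr fun g =>
    Subtype.ext (Subgroup.mem_center_iff.mp hh g))
  have heq := CfsgLib.FGStruct.ItoTwoSizes.cl_eq_of_le h' hyG
    (CfsgLib.FGStruct.ItoTwoSizes.cl_le_pow (y : G) p)
  rw [Subgroup.mem_centralizer_singleton_iff] at hw ⊢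
  have hw' : (w : G) ∈ centralizer ({(y : G) ^ p} : Set G) :=
    Subgroup.mem_centralizer_singleton_iff.mpr (congrArg Subtype.val hw)
  rw [← heq, Subgroup.mem_centralizer_singleton_iff] at hw'
  exact Subtype.ext hw'

end Cfsg.Agent.S4134
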