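import Cfsg.Statements.S4135
import Cfsg.Agent.Lib.FGStruct.ItoNormal
import Mathlib.GroupTheory.Nilpotent

set_option autoImplicit false
set_option linter.style.haveILetI false
set_option linter.unusedSectionVars false
open Cfsg

namespace Cfsg.Agent.S4135

open Subgroup CfsgLib.FGStruct.ItoNormal CfsgLib.FGStruct.ItoTwoSizes

local notation "Cl" x => Subgroup.centralizer ({x} : Set _)

/-- The arithmetic of the orbit count. -/
theorem arith {ι : Type*} [DecidableEq ι] (O : Finset ι) (k : ι → ℕ) {r M a c : ℕ} (hr : 1 < r)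
    (hM : 0 < M) (hc : 0 < c) (hca : c < a) (hdvd : c ∣ a) (hk : ∀ i ∈ O, k i ∣ M)
    (he : O.card ≤ r + 1) (heq : (∑ i ∈ O, k i) * (a - c) = a * (r * M) - c) :
    1 < O.card ∧ ∃ i ∈ O, k i = 1 := by
  set t := ∑ i ∈ O, k i with ht
  have hle : ∀ i ∈ O, k i ≤ M := fun i hi => Nat.le_of_dvd hM (hk i hi)
  obtain ⟨α, hα⟩ := hdvd
  subst hα
  have hα1 : 1 < α := by
    by_contra hh
    interval_cases α <;> simp at hca
  have hfac : c * α - c = c * (α - 1) := by rw [Nat.mul_sub_one]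
  have hfac' : c * α * (r * M) - c = c * (α * (r * M) - 1) := by rw [Nat.mul_sub_one, mul_assoc]
  rw [hfac, hfac', mul_left_comm] at heq
  have heq' : t * (α - 1) = α * (r * M) - 1 := Nat.eq_of_mul_eq_mul_left hc heq
  have hrM : 1 < r * M := lt_of_lt_of_le hr (Nat.le_mul_of_pos_right r hM)
  obtain ⟨β, rfl⟩ : ∃ β, α = β + 1 := ⟨α - 1, by omega⟩
  rw [Nat.add_sub_cancel] at heq'
  have ht_lt : r * M < t := by
    by_contra hh
    push Not at hh
    have h1 : t * β ≤ r * M * β := Nat.mul_le_mul_right β hh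
    rw [add_mul, one_mul, mul_comm β] at heq'
    omega
  set F := O.filter fun i => k i = M with hF
  have hsplit := Finset.sum_filter_add_sum_filter_not O (fun i => k i = M) k
  have hFsum : ∑ i ∈ F, k i = F.card * M := by
    rw [Finset.sum_congr rfl (fun i hi => (Finset.mem_filter.mp hi).2), Finset.sum_const, smul_eq_mul]
  have hnot : 2 * ∑ i ∈ O.filter (fun i => ¬ k i = M), k i ≤
      (O.filter fun i => ¬ k i = M).card * M := by
    rw [Finset.mul_sum]
    refine (Finset.sum_le_sum (g := fun _ => M) fun i hi => ?_).trans (by simp)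
    obtain ⟨hiO, hne⟩ := Finset.mem_filter.mp hi
    obtain ⟨b, hb⟩ := hk i hiO
    have hb2 : 2 ≤ b := by
      by_contra hb2
      interval_cases b
      · simp at hb; omega
      · exact hne (by rw [hb, mul_one])
    calc 2 * k i ≤ b * k i := Nat.mul_le_mul_right _ hb2
      _ = M := by rw [hb, mul_comm]
  have hcards := Finset.card_filter_add_card_filter_not (s := O) (fun i => k i = M)
  rw [← hF] at hsplit hcards
  have h2 : 2 * (r * M) < (F.card + O.card) * M := by
    calc 2 * (r * M) < 2 * t := by omega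
      _ ≤ 2 * (F.card * M) + (O.filter fun i => ¬ k i = M).card * M := by
        rw [ht, ← hsplit, hFsum]; omega
      _ = (F.card + O.card) * M := by rw [← hcards]; ring
  have h3 : 2 * r < F.card + O.card := by
    by_contra hh
    push Not at hh
    have := Nat.mul_le_mul_right M hh
    rw [mul_assoc] at this
    omega
  have hFO : F.card ≤ O.card := Finset.card_filter_le _ _
  obtain ⟨i₀, hi₀, hrest⟩ : ∃ i₀ ∈ O, ∀ i ∈ O, i ≠ i₀ → k i = M := by
    by_cases hall : ∀ i ∈ O, k i = M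
    · obtain ⟨i₀, hi₀⟩ : O.Nonempty := Finset.card_pos.mp (by omega)
      exact ⟨i₀, hi₀, fun i hi _ => hall i hi⟩
    · push Not at hall
      obtain ⟨i₀, hi₀, hne⟩ := hall
      refine ⟨i₀, hi₀, fun i hi hii => ?_⟩
      by_contra hiM
      have : 2 ≤ (O.filter fun j => ¬ k j = M).card := by
        refine Finset.one_lt_card.mpr ⟨i, Finset.mem_filter.mpr ⟨hi, hiM⟩, i₀,
          Finset.mem_filter.mpr ⟨hi₀, hne⟩, hii⟩
      omega
  have hO : O.card = r + 1 := by
    refine le_antisymm he ?_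
    by_contra hh
    have h4 : t ≤ r * M := by
      calc t ≤ O.card * M := by
            rw [ht]; exact (Finset.sum_le_sum hle).trans (by simp)
        _ ≤ r * M := Nat.mul_le_mul_right M (by omega)
    omega
  have hsum : t = k i₀ + r * M := by
    rw [ht, ← Finset.add_sum_erase O k hi₀, Finset.sum_congr rfl (fun i hi =>
      hrest i (Finset.mem_of_mem_erase hi) (Finset.ne_of_mem_erase hi)), Finset.sum_const,
      smul_eq_mul, Finset.card_erase_of_mem hi₀, hO, Nat.add_sub_cancel]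
  refine ⟨by omega, i₀, hi₀, ?_⟩
  obtain ⟨b, hb⟩ := hk i₀ hi₀
  have h5 : k i₀ * β + 1 = r * M := by
    rw [hsum, add_mul, add_mul, one_mul, mul_comm β] at heq'
    omega
  have h6 : k i₀ ∣ 1 := by
    refine (Nat.dvd_add_right (dvd_mul_right (k i₀) β)).mp ?_
    rw [h5, hb]
    exact ⟨r * b, by ring⟩
  exact Nat.dvd_one.mp h6

variable {G : Type*} [Group G] [Finite G] {r : ℕ} [hr : Fact r.Prime] {N : Subgroup G} {m : ℕ}

/-- If an `r`-element of `B` normalises `A`, then `A` is `A ∩ B` modulo `N`. -/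
theorem le_sup_of_normalizes (H : Hyp r N m) {A B : Subgroup G} (hA : IsComp r N A)
    (hB : IsComp r N B) {u : G} (huB : u ∈ B) (hur : IsR r u) (hu : u ∉ center G)
    (huA : u ∈ normalizer (A : Set G)) : A ⊔ N ≤ (A ⊓ B) ⊔ N := by
  classical
  haveI := H.normal
  refine sup_le (fun w hw => ?_) le_sup_right
  obtain ⟨a', a, hab, ⟨k', hk'⟩, har⟩ := CfsgLib.PNilpotent.exists_pPart_decomp (p := r) w
  rw [← hab]
  refine mul_mem (mem_sup_right (H.rmem _ (isR_iff.mpr ⟨k', hk'⟩))) ?_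
  set x := w ^ a with hx
  have hxA : x ∈ A := pow_mem hw a
  -- the `r'`-part of `A ∩ N`
  let M : Subgroup G :=
    { carrier := {z | z ∈ A ∧ z ∈ N ∧ (orderOf z).Coprime r}
      one_mem' := ⟨one_mem A, one_mem N, by rw [orderOf_one]; exact Nat.coprime_one_left r⟩
      mul_mem' := fun {z z'} hz hz' => ⟨mul_mem hz.1 hz'.1, mul_mem hz.2.1 hz'.2.1,
        Nat.Coprime.coprime_dvd_left
          (H.comp_comm hA hz.1 hz'.1 hz'.2.1).orderOf_mul_dvd_mul_orderOf
          (Nat.Coprime.mul_left hz.2.2 hz'.2.2)⟩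
      inv_mem' := fun {z} hz => ⟨inv_mem hz.1, inv_mem hz.2.1, by rw [orderOf_inv]; exact hz.2.2⟩ }
  have hMconj : ∀ g ∈ normalizer (A : Set G), ∀ z ∈ M, g * z * g⁻¹ ∈ M := fun g hg z hz =>
    ⟨((Subgroup.mem_normalizer_iff.mp hg) z).mp hz.1, H.normal.conj_mem _ hz.2.1 g, by
      rw [show orderOf (g * z * g⁻¹) = orderOf z from (MulAut.conj g).orderOf_eq z]
      exact hz.2.2⟩
  obtain ⟨c, hc⟩ : ∃ c, c = u * x * u⁻¹ * x⁻¹ := ⟨_, rfl⟩
  have hcA : c ∈ A := hc ▸ mul_mem (((Subgroup.mem_normalizer_iff.mp huA) x).mp hxA) (inv_mem hxA)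
  have huN := H.rmem u hur
  have hcN : c ∈ N := by
    rw [hc, show u * x * u⁻¹ * x⁻¹ = u * (x * u⁻¹ * x⁻¹) by group]
    exact mul_mem huN (H.normal.conj_mem _ (inv_mem huN) x)
  have hcM : c ∈ M := by
    obtain ⟨i, j, hij, ⟨k, hk⟩, hj⟩ := CfsgLib.PNilpotent.exists_pPart_decomp (p := r) c
    obtain ⟨c₁, hc₁⟩ : ∃ c₁, c₁ = c ^ i := ⟨_, rfl⟩
    obtain ⟨c₂, hc₂⟩ : ∃ c₂, c₂ = c ^ j := ⟨_, rfl⟩
    have hc₂M : c₂ ∈ M := hc₂ ▸ ⟨pow_mem hcA j, pow_mem hcN j, hj⟩
    have hc₁r : IsR r c₁ := hc₁ ▸ isR_iff.mpr ⟨k, hk⟩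
    have hc₁A : c₁ ∈ A := hc₁ ▸ pow_mem hcA i
    suffices h1 : c₁ = 1 by
      rw [← hij, ← hc₁, ← hc₂, h1, one_mul]
      exact hc₂M
    set o := orderOf x with ho
    have hxor : (orderOf x).Coprime r := har
    -- `(c₂ x) ^ o` lies in `M`
    have hpow : ∀ e : ℕ, ∃ z ∈ M, (c₂ * x) ^ e = z * x ^ e := by
      intro e
      induction e with
      | zero => exact ⟨1, one_mem M, by simp⟩
      | succ e ih =>
        obtain ⟨z, hz, he⟩ := ih
        refine ⟨z * (x ^ e * c₂ * (x ^ e)⁻¹),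
          mul_mem hz (hMconj _ (le_normalizer (pow_mem hxA e)) _ hc₂M), ?_⟩
        rw [pow_succ, he, pow_succ]; group
    obtain ⟨z, hz, he⟩ := hpow o
    rw [ho, pow_orderOf_eq_one, mul_one, ← ho] at he
    have h2 : u * x * u⁻¹ = c₁ * (c₂ * x) := by
      rw [← mul_assoc, hc₁, hc₂, hij, hc]; group
    have h3 : (u * x * u⁻¹) ^ o = 1 := by
      rw [conj_pow, ho, pow_orderOf_eq_one]; group
    have hcomm : Commute c₁ (c₂ * x) :=
      (H.comp_r_comm hA hc₁A hc₁r (mul_mem hc₂M.1 hxA)).symm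
    rw [h2, hcomm.mul_pow, he, mul_eq_one_iff_eq_inv] at h3
    have h4 : c₁ ^ o = 1 := by
      have hor : IsR r (c₁ ^ o) := by
        obtain ⟨n, hn⟩ := hc₁r
        exact ⟨n, by rw [← pow_mul, mul_comm, pow_mul, hn, one_pow]⟩
      exact eq_one_of_isR hor (by rw [h3, orderOf_inv]; exact hz.2.2)
    obtain ⟨n, hn⟩ := isR_iff.mp hc₁r
    rw [← orderOf_eq_one_iff]
    exact Nat.eq_one_of_dvd_coprimes (hxor.pow_right n) (orderOf_dvd_of_pow_eq_one h4)
      (dvd_of_eq hn)
  -- a fixed point of `u` in the coset `M x`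
  have hstable : ∀ v ∈ zpowers u, ∀ z ∈ M, v * (z * x) * v⁻¹ * x⁻¹ ∈ M := by
    have h1 : ∀ n : ℕ, ∀ z ∈ M, u ^ n * (z * x) * (u ^ n)⁻¹ * x⁻¹ ∈ M := by
      intro n
      induction n with
      | zero => intro z hz; simpa using hz
      | succ n ih =>
        intro z hz
        have h2 := ih z hz
        rw [show u ^ (n + 1) * (z * x) * (u ^ (n + 1))⁻¹ * x⁻¹ =
          (u * (u ^ n * (z * x) * (u ^ n)⁻¹ * x⁻¹) * u⁻¹) * c by
            rw [hc, pow_succ']; group]
        exact mul_mem (hMconj u huA _ h2) hcM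
    intro v hv
    obtain ⟨n, rfl⟩ := mem_powers_iff_mem_zpowers.mpr hv
    exact h1 n
  let X := {g : G // g * x⁻¹ ∈ M}
  letI : MulAction (zpowers u) X :=
    { smul := fun v g => ⟨(v : G) * g.1 * (v : G)⁻¹, by
        have := hstable v v.2 _ g.2
        rwa [inv_mul_cancel_right] at this⟩
      one_smul := fun g => Subtype.ext (show ((1 : zpowers u) : G) * g.1 * ((1 : zpowers u) : G)⁻¹ = g.1 by simp)
      mul_smul := fun v v' g => Subtype.ext (show ((v * v' : zpowers u) : G) * g.1 * ((v * v' : zpowers u) : G)⁻¹ =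
        (v : G) * ((v' : G) * g.1 * (v' : G)⁻¹) * (v : G)⁻¹ by simp [mul_assoc]) }
  have hXcard : Nat.card X = Nat.card M := Nat.card_congr
    { toFun := fun g => ⟨g.1 * x⁻¹, g.2⟩
      invFun := fun z => ⟨z.1 * x, by rw [mul_inv_cancel_right]; exact z.2⟩
      left_inv := fun g => Subtype.ext (inv_mul_cancel_right _ _)
      right_inv := fun z => Subtype.ext (mul_inv_cancel_right _ _) }
  have hnd : ¬ r ∣ Nat.card X := by
    rw [hXcard]
    intro hd
    obtain ⟨z, hz⟩ := exists_prime_orderOf_dvd_card' r hd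
    rw [← Subgroup.orderOf_coe] at hz
    have := z.2.2.2
    rw [hz, Nat.coprime_self] at this
    exact hr.out.one_lt.ne' this
  obtain ⟨d, hd⟩ := (isPGroup_zpowers hur).nonempty_fixed_point_of_prime_not_dvd_card X hnd
  have hdu : u * d.1 * u⁻¹ = d.1 := congrArg Subtype.val (hd ⟨u, mem_zpowers u⟩)
  have hdB : d.1 ∈ B := by
    rw [← H.comp_cl_r hB huB hur hu, mem_cl_iff]
    exact (mul_inv_eq_iff_eq_mul.mp hdu).symm
  have hdA : d.1 ∈ A := by
    have := mul_mem d.2.1 hxA
    rwa [inv_mul_cancel_right] at this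
  rw [show x = (d.1 * x⁻¹)⁻¹ * d.1 by group]
  exact mul_mem (mem_sup_right (inv_mem d.2.2.1)) (mem_sup_left ⟨hdA, hdB⟩)

theorem card_inf_eq (H : Hyp r N m) {A B : Subgroup G} (hA : IsComp r N A) (hB : IsComp r N B)
    {u v : G} (huB : u ∈ B) (hur : IsR r u) (hu : u ∉ center G)
    (huA : u ∈ normalizer (A : Set G)) (hvA : v ∈ A) (hvr : IsR r v) (hv : v ∉ center G)
    (hvB : v ∈ normalizer (B : Set G)) :
    Nat.card (A ⊓ N : Subgroup G) = Nat.card (B ⊓ N : Subgroup G) := by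
  haveI := H.normal
  have h1 := le_sup_of_normalizes H hA hB huB hur hu huA
  have h2 := le_sup_of_normalizes H hB hA hvA hvr hv hvB
  have heq : A ⊔ N = B ⊔ N :=
    le_antisymm (h1.trans (sup_le_sup_right inf_le_right N))
      (h2.trans (sup_le_sup_right inf_le_right N))
  have key : ∀ C : Subgroup G,
      Nat.card (C ⊓ N : Subgroup G) * N.relIndex (C ⊔ N) = Nat.card C := by
    intro C
    rw [relIndex_sup_right, ← inf_relIndex_right N C, inf_comm N C,
      ← relIndex_bot_left (C ⊓ N), relIndex_mul_relIndex _ _ _ bot_le inf_le_left,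
      relIndex_bot_left]
  have h3 := key A
  rw [heq, H.comp_card hA hB, ← key B] at h3
  exact Nat.eq_of_mul_eq_mul_right (Nat.pos_of_ne_zero (fun h => by
    rw [relIndex_sup_right] at h; exact index_ne_zero_of_finite h)) h3

/-- The main contradiction. -/
theorem no_comp (H : Hyp r N m) : ¬ ∃ A, IsComp r N A := by
  classical
  intro hne
  haveI := H.normal
  haveI : Fintype G := Fintype.ofFinite G
  obtain ⟨R⟩ : Nonempty (Sylow r G) := inferInstance
  set Z := (R : Subgroup G) ⊓ center G with hZ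
  have hRnc : ¬ (R : Subgroup G) ≤ center G := by
    intro hle
    obtain ⟨t, ⟨k, hk⟩, ht⟩ := H.ex
    obtain ⟨P, hP⟩ := (isPGroup_zpowers (r := r) ⟨k, hk⟩).exists_le_sylow
    obtain ⟨g, hg⟩ := MulAction.exists_smul_eq G P R
    have h1 : g * t * g⁻¹ ∈ ((g • P : Sylow r G) : Subgroup G) := ⟨t, hP (mem_zpowers t), rfl⟩
    rw [hg] at h1
    exact ht (mem_center_conj (hle h1))
  obtain ⟨⟨x₀, hx₀R⟩, -, hx₀, hx₀p, hx₀c'⟩ := CfsgLib.PGroup.exists_step R.isPGroup'
    ((center G).subgroupOf (R : Subgroup G)) ⊤ (lt_top_iff_ne_top.mpr fun hh =>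
      hRnc (subgroupOf_eq_top.mp hh))
  have hx₀' : x₀ ∉ center G := hx₀
  have hx₀c : ∀ u ∈ (R : Subgroup G), x₀ * u * x₀⁻¹ * u⁻¹ ∈ center G := fun u hu => hx₀c' ⟨u, hu⟩
  obtain ⟨A₀, hA₀, hx₀A⟩ := H.exists_comp_mem R hx₀R hx₀' hx₀p hx₀c hne
  have hx₀r : IsR r x₀ := isR_of_mem R.isPGroup' hx₀R
  have hA₀cl := H.comp_cl_r hA₀ hx₀A hx₀r hx₀'
  have hRA₀ : (R : Subgroup G) ≤ normalizer (A₀ : Set G) :=
    hA₀cl ▸ H.le_normalizer_of_comm hx₀c
  have hpowA₀ : ∀ u ∈ (R : Subgroup G), u ^ r ∈ A₀ := fun u hu =>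
    hA₀cl ▸ H.pow_mem_cl hx₀p hx₀c hu
  set S₀ := (R : Subgroup G) ⊓ A₀ with hS₀
  have hS₀R : Nat.card (R : Subgroup G) = r * Nat.card S₀ := by
    have h1 := H.fpf_bound hA₀ hRA₀ R.isPGroup' hpowA₀
    obtain ⟨i, hi⟩ := IsPGroup.iff_card.mp R.isPGroup'
    obtain ⟨j, hj⟩ := IsPGroup.iff_card.mp (R.isPGroup'.to_le (inf_le_left : S₀ ≤ R))
    have hlt : Nat.card S₀ < Nat.card (R : Subgroup G) := by
      refine lt_of_le_of_ne (card_le_of_le inf_le_left) fun he => hRnc fun x hx => ?_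
      have heq := eq_of_le_of_card_ge (inf_le_left : S₀ ≤ (R : Subgroup G)) he.ge
      refine H.cent R x hx fun u hu => ?_
      rw [← heq] at hx hu
      exact H.comp_r_comm hA₀ hu.2 (isR_of_mem R.isPGroup' hu.1) hx.2
    rw [hi, hj] at hlt
    rw [hi, ← hS₀, hj, ← pow_succ'] at h1
    have h2 := (Nat.pow_lt_pow_iff_right hr.out.one_lt).mp hlt
    have h3 := (Nat.pow_le_pow_iff_right hr.out.one_lt).mp h1
    rw [hi, hj, ← pow_succ', show i = j + 1 by omega]
  have hvG : (Nat.card G).factorization r = (Nat.card A₀).factorization r + 1 := by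
    rw [R.card_eq_multiplicity, hS₀, inf_card R hRA₀, ← pow_succ'] at hS₀R
    exact Nat.pow_right_injective hr.out.two_le hS₀R
  -- every noncentral element of `N` lies in a component
  have hrich : ∀ u : G, IsR r u → u ∉ center G → ∃ A, IsComp r N A ∧ u ∈ A := by
    intro u hur hu
    obtain ⟨P, hP⟩ := (isPGroup_zpowers hur).exists_le_sylow
    obtain ⟨g, hg⟩ := MulAction.exists_smul_eq G P R
    have hvR : g * u * g⁻¹ ∈ (R : Subgroup G) := by
      rw [← hg]; exact ⟨u, hP (mem_zpowers u), rfl⟩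
    obtain ⟨v, hv⟩ : ∃ v, v = g * u * g⁻¹ := ⟨_, rfl⟩
    rw [← hv] at hvR
    have hv' : v ∉ center G := hv ▸ fun h => hu (mem_center_conj h)
    suffices ∃ A, IsComp r N A ∧ v ∈ A by
      obtain ⟨A, hA, hvA⟩ := this
      exact ⟨_, H.comp_map hA g⁻¹, v, hvA, by rw [hv]; simp [mul_assoc]⟩
    by_cases hvA₀ : v ∈ A₀
    · exact ⟨A₀, hA₀, hvA₀⟩
    have hvr : IsR r v := isR_of_mem R.isPGroup' hvR
    have hvp : v ^ r ∈ center G := by
      by_contra h
      apply hvA₀
      rw [← H.comp_cl_r hA₀ (hpowA₀ v hvR) (isR_of_mem R.isPGroup' (pow_mem hvR r)) h]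
      exact mem_cl_iff.mpr ((Commute.refl v).pow_right r)
    set D : Subgroup G := (centralizer {QuotientGroup.mk' (center G) v}).comap
      (QuotientGroup.mk' (center G)) with hD
    have hDmem : ∀ w, w ∈ D → v * w * v⁻¹ * w⁻¹ ∈ center G := by
      intro w hw
      rw [hD, mem_comap, mem_centralizer_singleton_iff, ← map_mul, ← map_mul] at hw
      rw [← QuotientGroup.eq_one_iff, ← QuotientGroup.mk'_apply (N := center G), map_mul, map_mul,
        map_mul, map_inv, map_inv, ← map_mul, ← hw, map_mul, mul_inv_cancel_right, mul_inv_cancel]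
    set C := (Cl v : Subgroup G) with hC
    set X := C ⊔ zpowers x₀ with hX
    have hx₀D : x₀ ∈ D := by
      rw [hD, mem_comap, mem_centralizer_singleton_iff]
      apply mul_inv_eq_iff_eq_mul.mp
      apply mul_inv_eq_one.mp
      rw [← map_inv, ← map_inv, ← map_mul, ← map_mul, ← map_mul, QuotientGroup.mk'_apply,
        QuotientGroup.eq_one_iff]
      exact hx₀c v hvR
    have hXD : X ≤ D := by
      refine sup_le (fun w hw => ?_) (zpowers_le.mpr hx₀D)
      rw [hD, mem_comap, mem_centralizer_singleton_iff, ← map_mul, ← map_mul, (mem_cl_iff.mp hw).eq]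
    have hnorm : X ≤ normalizer (C : Set G) := H.le_normalizer_of_comm fun w hw => hDmem w (hXD hw)
    have hx₀C : x₀ ∉ C := fun h => hvA₀ (by
      rw [← hA₀cl, mem_cl_iff]; exact (mem_cl_iff.mp h).symm)
    haveI : (C.subgroupOf X).Normal := normal_subgroupOf_of_le_normalizer hnorm
    have hrX : r ∣ C.relIndex X := by
      have hx₀X : x₀ ∈ X := mem_sup_right (mem_zpowers x₀)
      have h1 : orderOf (QuotientGroup.mk' (C.subgroupOf X) ⟨x₀, hx₀X⟩) = r := by
        apply orderOf_eq_prime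
        · rw [← map_pow, QuotientGroup.mk'_apply, QuotientGroup.eq_one_iff, mem_subgroupOf]
          exact center_le_cl v hx₀p
        · rw [QuotientGroup.mk'_apply, Ne, QuotientGroup.eq_one_iff, mem_subgroupOf]
          exact hx₀C
      rw [relIndex, index_eq_card, ← h1]
      exact orderOf_dvd_natCard _
    have hvX : v ∈ X := mem_sup_left (mem_cl_self v)
    obtain ⟨Ph, hPh⟩ := ((isPGroup_zpowers hvr).comap_of_injective X.subtype
      (subtype_injective X)).exists_le_sylow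
    set P' := (Ph : Subgroup X).map X.subtype with hP'
    have hvP' : v ∈ P' := ⟨⟨v, hvX⟩, hPh (mem_zpowers v), rfl⟩
    have hP'card : Nat.card P' = r ^ (Nat.card G).factorization r := by
      rw [hP', Nat.card_congr ((Ph : Subgroup X).equivMapOfInjective _
        (subtype_injective _)).toEquiv.symm, Ph.card_eq_multiplicity]
      congr 1
      refine le_antisymm ((Nat.factorization_le_iff_dvd Nat.card_pos.ne' Nat.card_pos.ne').mpr
        (card_subgroup_dvd_card X) r) ?_
      have hXC : Nat.card C * C.relIndex X = Nat.card X := by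
        rw [← relIndex_bot_left C, relIndex_mul_relIndex _ _ _ bot_le le_sup_left,
          relIndex_bot_left]
      have hne0 : C.relIndex X ≠ 0 := index_ne_zero_of_finite
      rw [← hXC, Nat.factorization_mul Nat.card_pos.ne' hne0, Finsupp.add_apply, hvG,
        H.comp_card_cl hA₀ (H.rmem v hvr) hv', ← hC]
      exact Nat.add_le_add_left (hr.out.factorization_pos_of_dvd hne0 hrX) _
    exact H.exists_comp_mem (Sylow.ofCard P' hP'card) hvP' hv' hvp
      (fun w hw => hDmem w (hXD (map_subtype_le _ hw))) hne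
  have hcomp : ∀ w ∈ N, w ∉ center G → ∃ A, IsComp r N A ∧ w ∈ A := by
    intro w hwN hw
    obtain ⟨a, b, hab, ⟨k, hk⟩, hb⟩ := CfsgLib.PNilpotent.exists_pPart_decomp (p := r) w
    by_cases hb' : w ^ b ∈ center G
    · have ha' : w ^ a ∉ center G := fun h => hw (hab ▸ mul_mem h hb')
      obtain ⟨A, hA, haA⟩ := hrich _ (isR_iff.mpr ⟨k, hk⟩) ha'
      refine ⟨A, hA, ?_⟩
      obtain ⟨y, -, -, -, rfl⟩ := id hA
      rw [← hab]
      exact mul_mem haA (center_le_cl y hb')
    · exact ⟨_, ⟨w ^ b, pow_mem hwN b, hb', hb, rfl⟩, cl_le_pow w b (mem_cl_self w)⟩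
  -- the components with `r`-part inside `R`
  set Λ := (Set.toFinite {A : Subgroup G | IsComp r N A ∧ rPart r A ≤ (R : Subgroup G)}).toFinset
    with hΛdef
  have hΛ : ∀ A, A ∈ Λ ↔ IsComp r N A ∧ rPart r A ≤ (R : Subgroup G) := fun A => by
    simp [hΛdef]
  have hS₀eq : rPart r A₀ = S₀ := (H.inf_eq_rPart hA₀ R hRA₀).symm
  have hA₀Λ : A₀ ∈ Λ := (hΛ _).mpr ⟨hA₀, hS₀eq ▸ inf_le_left⟩
  have hZle : ∀ A, IsComp r N A → Z ≤ rPart r A := fun A hA z hz => (H.mem_rPart_iff hA).mpr ⟨by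
    obtain ⟨y, -, -, -, rfl⟩ := hA
    exact center_le_cl y hz.2, isR_of_mem R.isPGroup' hz.1⟩
  have hcardP : ∀ A, IsComp r N A → Nat.card (rPart r A) = Nat.card S₀ := fun A hA => by
    rw [← hS₀eq, H.card_rPart hA, H.card_rPart hA₀, H.comp_card hA hA₀]
  have hex_u : ∀ A ∈ Λ, ∃ u, u ∈ A ∧ u ∈ (R : Subgroup G) ∧ IsR r u ∧ u ∉ center G := by
    intro A hA
    obtain ⟨hA', hle⟩ := (hΛ A).mp hA
    obtain ⟨u, huA, hur, hu⟩ := H.comp_exists_r hA'
    exact ⟨u, huA, hle ((H.mem_rPart_iff hA').mpr ⟨huA, hur⟩), hur, hu⟩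
  have hsmall : ∀ A ∈ Λ, A ≠ A₀ → Nat.card S₀ = r * Nat.card Z ∧
      ∀ a ∈ (R : Subgroup G), ∀ b ∈ (R : Subgroup G), a * b * a⁻¹ * b⁻¹ ∈ center G := by
    intro A hA hne'
    obtain ⟨hA', hle⟩ := (hΛ A).mp hA
    have hinf : S₀ ⊓ rPart r A ≤ Z := fun w hw => ⟨hw.1.1, by
      by_contra hw'
      obtain ⟨hwA, hwr⟩ := (H.mem_rPart_iff hA').mp hw.2
      exact hne' (H.comp_eq hA' hA₀ hwA hw.1.2 (H.rmem w hwr) hw')⟩
    have hle2 : Nat.card S₀ ≤ r * Nat.card Z := by
      have h1 : S₀.relIndex (rPart r A) ≤ S₀.relIndex (R : Subgroup G) :=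
        relIndex_le_of_le_right hle index_ne_zero_of_finite
      have h2 : Nat.card (S₀ ⊓ rPart r A : Subgroup G) * S₀.relIndex (rPart r A) =
          Nat.card (rPart r A) := by
        rw [← inf_relIndex_right, ← relIndex_bot_left (S₀ ⊓ rPart r A),
          relIndex_mul_relIndex _ _ _ bot_le inf_le_right, relIndex_bot_left]
      have h3 : Nat.card S₀ * S₀.relIndex (R : Subgroup G) = Nat.card (R : Subgroup G) := by
        rw [← relIndex_bot_left S₀, relIndex_mul_relIndex _ _ _ bot_le inf_le_left,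
          relIndex_bot_left]
      rw [hS₀R, mul_comm r] at h3
      have h4 : S₀.relIndex (R : Subgroup G) = r := Nat.eq_of_mul_eq_mul_left Nat.card_pos h3
      rw [h4] at h1
      rw [← hcardP A hA', ← h2, mul_comm r]
      exact Nat.mul_le_mul (card_le_of_le hinf) h1
    have heq : Nat.card S₀ = r * Nat.card Z := by
      refine le_antisymm hle2 ?_
      obtain ⟨i, hi⟩ := IsPGroup.iff_card.mp (R.isPGroup'.to_le (inf_le_left : S₀ ≤ R))
      obtain ⟨j, hj⟩ := IsPGroup.iff_card.mp (R.isPGroup'.to_le (inf_le_left : Z ≤ R))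
      have hlt : Nat.card Z < Nat.card S₀ := by
        refine lt_of_le_of_ne (card_le_of_le (hS₀eq ▸ hZle A₀ hA₀)) fun he => hx₀' ?_
        have := eq_of_le_of_card_ge (hS₀eq ▸ hZle A₀ hA₀ : Z ≤ S₀) he.ge
        exact (this.symm ▸ (⟨hx₀R, hx₀A⟩ : x₀ ∈ S₀) : x₀ ∈ Z).2
      rw [hi, hj] at hlt ⊢
      rw [← pow_succ']
      exact Nat.pow_le_pow_right hr.out.pos ((Nat.pow_lt_pow_iff_right hr.out.one_lt).mp hlt)
    refine ⟨heq, fun a ha b hb => ?_⟩
    haveI hZn : (Z.subgroupOf (R : Subgroup G)).Normal := ⟨fun z hz g => by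
      have hzc : (z : G) ∈ center G := hz.2
      refine ⟨(R : Subgroup G).mul_mem ((R : Subgroup G).mul_mem g.2 z.2) ((R : Subgroup G).inv_mem g.2), ?_⟩
      exact (inferInstance : (center G).Normal).conj_mem _ hzc g⟩
    have hidx : Nat.card ((R : Subgroup G) ⧸ Z.subgroupOf (R : Subgroup G)) = r ^ 2 := by
      refine Nat.eq_of_mul_eq_mul_left (Nat.card_pos (α := Z.subgroupOf (R : Subgroup G))) ?_
      rw [← index_eq_card, card_mul_index, Nat.card_congr (subgroupOfEquivOfLe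
        (inf_le_left : Z ≤ (R : Subgroup G))).toEquiv, hS₀R, heq]
      ring
    have hc := (IsPGroup.isMulCommutative_of_card_eq_prime_sq hidx).is_comm.comm
      (QuotientGroup.mk' _ ⟨a, ha⟩) (QuotientGroup.mk' _ ⟨b, hb⟩)
    have h5 : (QuotientGroup.mk' (Z.subgroupOf (R : Subgroup G)))
        (⟨a, ha⟩ * ⟨b, hb⟩ * ⟨a, ha⟩⁻¹ * ⟨b, hb⟩⁻¹) = 1 := by
      rw [map_mul, map_mul, map_mul, map_inv, map_inv, hc, mul_inv_cancel_right, mul_inv_cancel]
    rw [QuotientGroup.mk'_apply, QuotientGroup.eq_one_iff, mem_subgroupOf] at h5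
    exact h5.2
  have hRΛ : ∀ A ∈ Λ, (R : Subgroup G) ≤ normalizer (A : Set G) := by
    intro A hA
    by_cases h : A = A₀
    · rw [h]; exact hRA₀
    obtain ⟨v, hvA, hvR, hvr, hv⟩ := hex_u A hA
    rw [← H.comp_cl_r ((hΛ A).mp hA).1 hvA hvr hv]
    exact H.le_normalizer_of_comm fun u hu => (hsmall A hA h).2 v hvR u hu
  have hΛcard : Λ.card ≤ r + 1 := by
    by_cases hall : ∀ A ∈ Λ, A = A₀
    · have : Λ ⊆ {A₀} := fun A hA => Finset.mem_singleton.mpr (hall A hA)
      exact (Finset.card_le_card this).trans (by simp)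
    push Not at hall
    obtain ⟨A₁, hA₁, hne₁⟩ := hall
    obtain ⟨hs, -⟩ := hsmall A₁ hA₁ hne₁
    let D : Subgroup G → Finset G := fun A =>
      (rPart r A : Set G).toFinset \ (Z : Set G).toFinset
    have hDcard : ∀ A ∈ Λ, (D A).card = r * Nat.card Z - Nat.card Z := by
      intro A hA
      have hA' := ((hΛ A).mp hA).1
      rw [Finset.card_sdiff_of_subset (fun z hz => by
          rw [Set.mem_toFinset] at hz ⊢; exact hZle A hA' hz),
        ← Set.ncard_eq_toFinset_card', ← Set.ncard_eq_toFinset_card', ← Nat.card_coe_set_eq,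
        ← Nat.card_coe_set_eq, SetLike.coe_sort_coe, SetLike.coe_sort_coe, hcardP A hA', hs]
    have hdisj : (Λ : Set (Subgroup G)).PairwiseDisjoint D := by
      intro A hA B hB hAB
      rw [Function.onFun, Finset.disjoint_left]
      intro w hwA hwB
      simp only [D, Finset.mem_sdiff, Set.mem_toFinset, SetLike.mem_coe] at hwA hwB
      obtain ⟨hA', hAle⟩ := (hΛ A).mp hA
      obtain ⟨hwA', hwr⟩ := (H.mem_rPart_iff hA').mp hwA.1
      obtain ⟨hwB', -⟩ := (H.mem_rPart_iff ((hΛ B).mp hB).1).mp hwB.1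
      exact hAB (H.comp_eq hA' ((hΛ B).mp hB).1 hwA' hwB' (H.rmem w hwr)
        fun hwc => hwA.2 ⟨hAle hwA.1, hwc⟩)
    have hsub : Λ.biUnion D ⊆ ((R : Subgroup G) : Set G).toFinset \ (Z : Set G).toFinset := by
      intro w hw
      obtain ⟨A, hA, hwA⟩ := Finset.mem_biUnion.mp hw
      simp only [D, Finset.mem_sdiff, Set.mem_toFinset, SetLike.mem_coe] at hwA ⊢
      exact ⟨((hΛ A).mp hA).2 hwA.1, hwA.2⟩
    have h1 := Finset.card_le_card hsub
    rw [Finset.card_biUnion hdisj, Finset.sum_congr rfl hDcard, Finset.sum_const, smul_eq_mul,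
      Finset.card_sdiff_of_subset (fun z hz => by
        rw [Set.mem_toFinset] at hz ⊢; exact hz.1),
      ← Set.ncard_eq_toFinset_card', ← Set.ncard_eq_toFinset_card', ← Nat.card_coe_set_eq,
      ← Nat.card_coe_set_eq, SetLike.coe_sort_coe, SetLike.coe_sort_coe, hS₀R, hs] at h1
    obtain ⟨r', hr'⟩ : ∃ r', r = r' + 1 := ⟨r - 1, by have := hr.out.pos; omega⟩
    rw [hr'] at h1 ⊢
    have hz : 0 < Nat.card Z := Nat.card_pos
    have e1 : (r' + 1) * Nat.card Z - Nat.card Z = r' * Nat.card Z := by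
      rw [add_mul, one_mul, Nat.add_sub_cancel]
    have e2 : (r' + 1) * ((r' + 1) * Nat.card Z) - Nat.card Z =
        (r' + 2) * (r' * Nat.card Z) := by
      refine Nat.sub_eq_of_eq_add ?_
      ring
    rw [e1, e2] at h1
    have hr'0 : 0 < r' := by have := hr.out.two_le; omega
    exact Nat.le_of_mul_le_mul_right h1 (Nat.mul_pos hr'0 hz)
  -- every component is conjugate under `N` to one in `Λ`
  let orb : Subgroup G → Finset (Subgroup G) := fun A =>
    (Finset.univ : Finset N).image fun g : N => A.map (MulAut.conj (g : G)).toMonoidHom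
  have hmap : ∀ (A : Subgroup G) (g h : G),
      (A.map (MulAut.conj g).toMonoidHom).map (MulAut.conj h).toMonoidHom =
        A.map (MulAut.conj (h * g)).toMonoidHom := fun A g h => by
    rw [map_map]; congr 1; ext w; simp [mul_assoc]
  have hΛrep : ∀ B, IsComp r N B → ∃ A ∈ Λ, B ∈ orb A := by
    intro B hB
    obtain ⟨R₁, hR₁⟩ := (H.isPGroup_rPart hB).exists_le_sylow
    have hR₁N : (R₁ : Subgroup G) ≤ N := fun w hw => H.rmem w (isR_of_mem R₁.isPGroup' hw)
    have hRN : (R : Subgroup G) ≤ N := fun w hw => H.rmem w (isR_of_mem R.isPGroup' hw)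
    obtain ⟨g, hg⟩ := MulAction.exists_smul_eq N (R₁.subtype hR₁N) (R.subtype hRN)
    refine ⟨B.map (MulAut.conj (g : G)).toMonoidHom, (hΛ _).mpr ⟨H.comp_map hB _, ?_⟩,
      Finset.mem_image.mpr ⟨g⁻¹, Finset.mem_univ _, ?_⟩⟩
    · intro w hw
      obtain ⟨⟨b, hb, rfl⟩, k, hk⟩ := (H.mem_rPart_iff (H.comp_map hB _)).mp hw
      rw [← map_pow] at hk
      have hbP : b ∈ rPart r B :=
        (H.mem_rPart_iff hB).mpr ⟨hb, k, (MulEquiv.map_eq_one_iff _).mp hk⟩
      have hbR := hR₁ hbP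
      have h1 : g * ⟨b, hR₁N hbR⟩ * g⁻¹ ∈ ((g • R₁.subtype hR₁N : Sylow r N) : Subgroup N) :=
        ⟨⟨b, hR₁N hbR⟩, hbR, rfl⟩
      rw [hg] at h1
      exact h1
    · rw [hmap]; ext w; simp
  set c := Nat.card (center G ⊓ N : Subgroup G) with hc
  set a := Nat.card (A₀ ⊓ N : Subgroup G) with ha
  have hLle : ∀ A, IsComp r N A → center G ⊓ N ≤ A ⊓ N := fun A hA => by
    obtain ⟨y, -, -, -, rfl⟩ := hA
    exact inf_le_inf_right N (center_le_cl y)
  have haΛ : ∀ A ∈ Λ, Nat.card (A ⊓ N : Subgroup G) = a := by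
    intro A hA
    obtain ⟨u, huA, huR, hur, hu⟩ := hex_u A hA
    exact card_inf_eq H ((hΛ A).mp hA).1 hA₀ hx₀A hx₀r hx₀' (hRΛ A hA hx₀R) huA hur hu
      (hRA₀ huR)
  have haall : ∀ B, IsComp r N B → Nat.card (B ⊓ N : Subgroup G) = a := by
    intro B hB
    obtain ⟨A, hA, hBA⟩ := hΛrep B hB
    obtain ⟨g, -, rfl⟩ := Finset.mem_image.mp hBA
    have h1 : A.map (MulAut.conj (g : G)).toMonoidHom ⊓ N =
        (A ⊓ N).map (MulAut.conj (g : G)).toMonoidHom := by
      ext w
      simp only [mem_inf, mem_map_equiv, MulAut.conj_symm_apply]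
      refine and_congr_right fun _ => ⟨fun hw => ?_, fun hw => ?_⟩
      · simpa using H.normal.conj_mem _ hw (g : G)⁻¹
      · simpa [mul_assoc] using H.normal.conj_mem _ hw (g : G)
    rw [h1, Nat.card_congr ((A ⊓ N).equivMapOfInjective _ (MulEquiv.injective _)).toEquiv.symm,
      haΛ A hA]
  have hca : c < a := by
    refine lt_of_le_of_ne (card_le_of_le (hLle A₀ hA₀)) fun he => hx₀' ?_
    have := eq_of_le_of_card_ge (hLle A₀ hA₀) (le_of_eq he.symm)
    exact (this.symm ▸ (⟨hx₀A, H.rmem x₀ hx₀r⟩ : x₀ ∈ A₀ ⊓ N) : x₀ ∈ center G ⊓ N).1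
  set n₀ := (A₀ ⊓ N).relIndex N with hn₀
  have hNcard : a * n₀ = Nat.card N := by
    rw [ha, hn₀, ← relIndex_bot_left (A₀ ⊓ N), relIndex_mul_relIndex _ _ _ bot_le inf_le_right,
      relIndex_bot_left]
  have hrn : r ∣ n₀ := by
    have h1 : Nat.card (R : Subgroup G) ∣ Nat.card N :=
      card_dvd_of_le fun w hw => H.rmem w (isR_of_mem R.isPGroup' hw)
    rw [R.card_eq_multiplicity] at h1
    by_contra hh
    have h2 := Nat.Coprime.dvd_of_dvd_mul_right
      ((hr.out.coprime_iff_not_dvd.mpr hh).pow_left _) (hNcard ▸ h1)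
    have h3 := (hr.out.pow_dvd_iff_le_factorization Nat.card_pos.ne').mp
      (h2.trans (card_dvd_of_le (inf_le_left : A₀ ⊓ N ≤ A₀)))
    omega
  obtain ⟨M, hM⟩ := hrn
  have hM0 : 0 < M := by
    refine Nat.pos_of_ne_zero ?_
    rintro rfl
    rw [hM, mul_zero, mul_zero] at hNcard
    exact Nat.card_pos.ne hNcard
  -- orbit sizes
  have horb : ∀ A ∈ Λ, (orb A).card ∣ M := by
    intro A hA
    set W := normalizer (A : Set G) ⊓ N with hW
    have hwd : Nat.card W * (orb A).card = Nat.card N := by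
      have hfib : ∀ B ∈ orb A, ((Finset.univ : Finset N).filter
          fun g : N => A.map (MulAut.conj (g : G)).toMonoidHom = B).card = Nat.card W := by
        intro B hB
        obtain ⟨g₀, -, rfl⟩ := Finset.mem_image.mp hB
        rw [← Nat.card_eq_finsetCard]
        refine Nat.card_congr
          { toFun := fun g => ⟨(g₀ : G)⁻¹ * (g.1 : G), ?_,
              N.mul_mem (N.inv_mem g₀.2) g.1.2⟩
            invFun := fun w => ⟨g₀ * ⟨w.1, w.2.2⟩, ?_⟩
            left_inv := fun g => Subtype.ext (Subtype.ext (mul_inv_cancel_left _ _))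
            right_inv := fun w => Subtype.ext (inv_mul_cancel_left _ _) }
        · have h1 := (Finset.mem_filter.mp g.2).2
          have h2 := congrArg (fun B : Subgroup G => B.map (MulAut.conj (g₀ : G)⁻¹).toMonoidHom) h1
          simp only [hmap, inv_mul_cancel] at h2
          show (g₀ : G)⁻¹ * (g.1 : G) ∈ normalizer (A : Set G)
          rw [Subgroup.mem_normalizer_iff]
          intro w
          have h3 : A.map (MulAut.conj ((g₀ : G)⁻¹ * (g.1 : G))).toMonoidHom = A := by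
            rw [h2]; ext; simp
          have h4 := SetLike.ext_iff.mp h3 (((g₀ : G)⁻¹ * (g.1 : G)) * w * ((g₀ : G)⁻¹ * (g.1 : G))⁻¹)
          rw [mem_map_equiv, MulAut.conj_symm_apply] at h4
          simpa [mul_assoc] using h4
        · refine Finset.mem_filter.mpr ⟨Finset.mem_univ _, ?_⟩
          rw [Subgroup.coe_mul, ← hmap]
          congr 1
          ext z
          rw [mem_map_equiv, MulAut.conj_symm_apply,
            (Subgroup.mem_normalizer_iff.mp w.2.1) (w.1⁻¹ * z * w.1)]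
          simp [mul_assoc]
      have h1 := Finset.card_eq_sum_card_fiberwise
        (f := fun g : N => A.map (MulAut.conj (g : G)).toMonoidHom) (s := Finset.univ)
        (t := orb A) (fun g hg => Finset.mem_image_of_mem _ hg)
      rw [Finset.sum_congr rfl hfib, Finset.sum_const, smul_eq_mul, Finset.card_univ,
        ← Nat.card_eq_fintype_card] at h1
      rw [h1, mul_comm]
    have haW : a ∣ Nat.card W := haΛ A hA ▸ card_dvd_of_le
      (le_inf (inf_le_left.trans le_normalizer) inf_le_right)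
    have hRW : Nat.card (R : Subgroup G) ∣ Nat.card W := card_dvd_of_le
      (le_inf (hRΛ A hA) fun w hw => H.rmem w (isR_of_mem R.isPGroup' hw))
    obtain ⟨w, hw⟩ := haW
    have hrw : r ∣ w := by
      rw [hw, R.card_eq_multiplicity] at hRW
      by_contra hh
      have h2 := Nat.Coprime.dvd_of_dvd_mul_right
        ((hr.out.coprime_iff_not_dvd.mpr hh).pow_left _) hRW
      have h3 := (hr.out.pow_dvd_iff_le_factorization Nat.card_pos.ne').mp
        (h2.trans (card_dvd_of_le (inf_le_left : A₀ ⊓ N ≤ A₀)))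
      omega
    obtain ⟨w', rfl⟩ := hrw
    rw [hw, ← hNcard, hM, mul_assoc, mul_assoc] at hwd
    exact ⟨w', by
      rw [mul_comm]
      exact (Nat.eq_of_mul_eq_mul_left hr.out.pos
        (Nat.eq_of_mul_eq_mul_left (Nat.zero_lt_of_lt hca) hwd)).symm⟩
  have horbA : ∀ A, A ∈ orb A := fun A => Finset.mem_image.mpr ⟨1, Finset.mem_univ _, by
    ext w; simp⟩
  have horbeq : ∀ A, ∀ B ∈ orb A, orb B = orb A := by
    intro A B hB
    obtain ⟨g, -, rfl⟩ := Finset.mem_image.mp hB
    ext C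
    simp only [orb, Finset.mem_image, Finset.mem_univ, true_and, hmap]
    constructor
    · rintro ⟨h, rfl⟩; exact ⟨h * g, by simp⟩
    · rintro ⟨h, rfl⟩; exact ⟨h * g⁻¹, by simp⟩
  set Os := Λ.image orb with hOs
  -- the class equation
  let D : Subgroup G → Finset G := fun B =>
    ((B ⊓ N : Subgroup G) : Set G).toFinset \ ((center G ⊓ N : Subgroup G) : Set G).toFinset
  have hcompΩ : ∀ B ∈ Os.biUnion id, IsComp r N B := by
    intro B hB
    obtain ⟨O, hO, hBO⟩ := Finset.mem_biUnion.mp hB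
    obtain ⟨A, hA, rfl⟩ := Finset.mem_image.mp hO
    obtain ⟨g, -, rfl⟩ := Finset.mem_image.mp hBO
    exact H.comp_map ((hΛ A).mp hA).1 g
  have hDcard : ∀ B ∈ Os.biUnion id, (D B).card = a - c := by
    intro B hB
    rw [Finset.card_sdiff_of_subset (fun z hz => by
        rw [Set.mem_toFinset] at hz ⊢; exact hLle B (hcompΩ B hB) hz),
      ← Set.ncard_eq_toFinset_card', ← Set.ncard_eq_toFinset_card', ← Nat.card_coe_set_eq,
      ← Nat.card_coe_set_eq, SetLike.coe_sort_coe, SetLike.coe_sort_coe, haall B (hcompΩ B hB)]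
  have hdisjD : ((Os.biUnion id : Finset (Subgroup G)) : Set (Subgroup G)).PairwiseDisjoint D := by
    intro B hB B' hB' hne'
    rw [Function.onFun, Finset.disjoint_left]
    intro w hw hw'
    simp only [D, Finset.mem_sdiff, Set.mem_toFinset, SetLike.mem_coe] at hw hw'
    exact hne' (H.comp_eq (hcompΩ B hB) (hcompΩ B' hB') hw.1.1 hw'.1.1 hw.1.2
      fun h => hw.2 ⟨h, hw.1.2⟩)
  have hunion : (Os.biUnion id).biUnion D =
      (N : Set G).toFinset \ ((center G ⊓ N : Subgroup G) : Set G).toFinset := by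
    ext w
    simp only [D, Finset.mem_biUnion, Finset.mem_sdiff, Set.mem_toFinset, SetLike.mem_coe]
    constructor
    · rintro ⟨B, -, hw, hw'⟩; exact ⟨hw.2, hw'⟩
    · rintro ⟨hwN, hw'⟩
      obtain ⟨B, hB, hwB⟩ := hcomp w hwN fun h => hw' ⟨h, hwN⟩
      obtain ⟨A, hA, hBA⟩ := hΛrep B hB
      exact ⟨B, ⟨orb A, Finset.mem_image_of_mem _ hA, hBA⟩, ⟨hwB, hwN⟩, hw'⟩
  have hdisjO : ((Os : Finset (Finset (Subgroup G))) : Set (Finset (Subgroup G))).PairwiseDisjoint
      id := by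
    intro O hO O' hO' hne'
    rw [Function.onFun, id, id, Finset.disjoint_left]
    intro B hB hB'
    obtain ⟨A, -, rfl⟩ := Finset.mem_image.mp hO
    obtain ⟨A', -, rfl⟩ := Finset.mem_image.mp hO'
    exact hne' ((horbeq A B hB).symm.trans (horbeq A' B hB'))
  have heq : (∑ O ∈ Os, O.card) * (a - c) = a * (r * M) - c := by
    have h1 := congrArg Finset.card hunion
    rw [Finset.card_biUnion hdisjD, Finset.sum_congr rfl hDcard, Finset.sum_const, smul_eq_mul,
      Finset.card_biUnion hdisjO,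
      Finset.card_sdiff_of_subset (fun z hz => by rw [Set.mem_toFinset] at hz ⊢; exact hz.2),
      ← Set.ncard_eq_toFinset_card', ← Set.ncard_eq_toFinset_card', ← Nat.card_coe_set_eq,
      ← Nat.card_coe_set_eq, SetLike.coe_sort_coe, SetLike.coe_sort_coe, ← hNcard, hM] at h1
    exact h1
  obtain ⟨hOs1, O₁, hO₁, hO₁card⟩ := arith Os (fun O => O.card) hr.out.one_lt hM0 Nat.card_pos hca
    (card_dvd_of_le (hLle A₀ hA₀))
    (fun O hO => by obtain ⟨A, hA, rfl⟩ := Finset.mem_image.mp hO; exact horb A hA)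
    (Finset.card_image_le.trans hΛcard) heq
  obtain ⟨B₀, hB₀, rfl⟩ := Finset.mem_image.mp hO₁
  obtain ⟨O₂, hO₂, hne₂⟩ := Finset.exists_mem_ne hOs1 (orb B₀)
  obtain ⟨A, hA, rfl⟩ := Finset.mem_image.mp hO₂
  have hfix : ∀ g ∈ N, B₀.map (MulAut.conj g).toMonoidHom = B₀ := fun g hg =>
    Finset.card_le_one.mp hO₁card.le _ (Finset.mem_image.mpr ⟨⟨g, hg⟩, Finset.mem_univ _, rfl⟩) _
      (horbA B₀)
  obtain ⟨u, huB, huR, hur, hu⟩ := hex_u B₀ hB₀
  obtain ⟨y, hy, hy', hyr, hAy⟩ := id ((hΛ A).mp hA).1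
  have hz : u * y * u⁻¹ * y⁻¹ ∈ center G := by
    by_contra hzc
    have hA' := ((hΛ A).mp hA).1
    have hyA : y ∈ A := hAy ▸ mem_cl_self y
    have h1 : u * y * u⁻¹ * y⁻¹ ∈ A :=
      mul_mem (((Subgroup.mem_normalizer_iff.mp (hRΛ A hA huR)) y).mp hyA) (inv_mem hyA)
    have h2 : u * y * u⁻¹ * y⁻¹ ∈ B₀ := by
      rw [show u * y * u⁻¹ * y⁻¹ = u * (y * u⁻¹ * y⁻¹) by group]
      refine mul_mem huB ?_
      rw [← hfix y hy]
      exact ⟨u⁻¹, inv_mem huB, rfl⟩
    have huN := H.rmem u hur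
    have h3 : u * y * u⁻¹ * y⁻¹ ∈ N :=
      mul_mem (H.normal.conj_mem _ hy u) (inv_mem hy)
    exact hne₂ (congrArg orb (H.comp_eq hA' ((hΛ B₀).mp hB₀).1 h1 h2 h3 hzc))
  obtain ⟨k, hk⟩ := isR_iff.mp hur
  have hcomm := commute_of_commutator_central (by rw [hk]; exact hyr.symm.pow_left k) hz
  have huA : u ∈ A := by rw [hAy]; exact mem_cl_iff.mpr hcomm
  exact hne₂ (congrArg orb (H.comp_eq ((hΛ A).mp hA).1 ((hΛ B₀).mp hB₀).1 huA huB
    (H.rmem u hur) hu))

/-- Let G be a finite group, r a prime and R a Sylow r-subgroup of G that is not central, N a normal subgroup of G containing R, and m a natural number such that every element of N has a conjugacy class in G of size 1 or m. Then N is nilpotent. -/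
theorem result {G : Type*} [Group G] [Finite G] (r : ℕ) [Fact r.Prime]
    (R : Sylow r G) (hR : ¬ (R : Subgroup G) ≤ Subgroup.center G) (N : Subgroup G) [N.Normal] (hRN : (R : Subgroup G) ≤ N)
    (m : ℕ) (h : ∀ x ∈ N, (Subgroup.centralizer ({x} : Set G)).index = 1 ∨ (Subgroup.centralizer ({x} : Set G)).index = m) : Group.IsNilpotent N := by
  classical
  have hcls : ∀ x ∈ N, x ∉ center G → (Cl x : Subgroup G).index = m := fun x hx hx' =>
    (h x hx).resolve_left fun h1 => hx' (mem_center_iff_index.mpr h1)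
  have hall : ∀ P : Sylow r G, (P : Subgroup G) ≤ N := by
    intro P w hw
    obtain ⟨g, hg⟩ := MulAction.exists_smul_eq G R P
    have : w ∈ ((g • R : Sylow r G) : Subgroup G) := hg.symm ▸ hw
    obtain ⟨v, hv, rfl⟩ := this
    exact ‹N.Normal›.conj_mem _ (hRN hv) g
  have hrmem : ∀ x : G, IsR r x → x ∈ N := fun x hx => by
    obtain ⟨P, hP⟩ := (isPGroup_zpowers hx).exists_le_sylow
    exact hall P (hP (mem_zpowers x))
  obtain ⟨t, htR, ht⟩ := SetLike.not_le_iff_exists.mp hR
  have htr : IsR r t := isR_of_mem R.isPGroup' htR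
  -- a nilpotency criterion
  have hnil : (∀ w : N, ∃ k, w ^ r ^ k ∈ center N) → Group.IsNilpotent N := by
    intro hw
    have hp : IsPGroup r (N ⧸ center N) := fun q => by
      induction q using QuotientGroup.induction_on with
      | _ w =>
        obtain ⟨k, hk⟩ := hw w
        exact ⟨k, by rw [← QuotientGroup.mk_pow, QuotientGroup.eq_one_iff]; exact hk⟩
    haveI : Group.IsNilpotent (N ⧸ center N) := hp.isNilpotent
    exact Subgroup.isNilpotent_of_ker_le_center (QuotientGroup.mk' (center N))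
      (by rw [QuotientGroup.ker_mk'])
  by_cases hcomp : ∃ A, IsComp r N A
  swap
  · refine hnil fun w => ?_
    obtain ⟨a, b, hab, ⟨k, hk⟩, hb⟩ := CfsgLib.PNilpotent.exists_pPart_decomp (p := r) (w : G)
    refine ⟨k, ?_⟩
    have hbc : (w : G) ^ b ∈ center G := by
      by_contra hh
      exact hcomp ⟨_, (w : G) ^ b, pow_mem w.2 b, hh, hb, rfl⟩
    have h1 : ((w : G) ^ a) ^ r ^ k = 1 := by rw [← hk]; exact pow_orderOf_eq_one _
    rw [Subgroup.mem_center_iff]
    intro v
    apply Subtype.ext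
    push_cast
    conv_lhs => rw [← hab]
    conv_rhs => rw [← hab]
    rw [(Commute.pow_pow (Commute.refl (w : G)) a b).mul_pow, h1, one_mul]
    exact Subgroup.mem_center_iff.mp (pow_mem hbc _) v
  by_cases hcent : ∀ P : Sylow r G, ∀ x ∈ (P : Subgroup G),
      (∀ u ∈ (P : Subgroup G), Commute x u) → x ∈ center G
  · exact absurd hcomp (no_comp ⟨‹N.Normal›, hcls, hrmem, ⟨t, htr, ht⟩, hcent⟩)
  push Not at hcent
  obtain ⟨P, x, hxP, hxc, hx⟩ := hcent
  have hxr : IsR r x := isR_of_mem P.isPGroup' hxP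
  have hm : ¬ r ∣ m := by
    rw [← hcls x (hrmem x hxr) hx]
    intro hd
    exact P.not_dvd_index (hd.trans (index_dvd_of_le fun u hu => mem_cl_iff.mpr (hxc u hu).symm))
  -- every element of `N` centralises a conjugate of `P` by an element of `N`
  have hPc : ∀ w ∈ N, ∀ u ∈ (P : Subgroup G), Commute w u := by
    have htop : (centralizer ((P : Subgroup G) : Set G)).subgroupOf N = ⊤ := by
      apply CfsgLib.FGStruct.PPowerClass.eq_top_of_conj_cover
      intro z
      have hnd : ¬ r ∣ (Cl (z : G) : Subgroup G).index := by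
        by_cases hz : (z : G) ∈ center G
        · rw [mem_center_iff_index.mp hz]; exact (Fact.out : r.Prime).not_dvd_one
        · rwa [hcls _ z.2 hz]
      obtain ⟨S⟩ : Nonempty (Sylow r (Cl (z : G) : Subgroup G)) := inferInstance
      set S' := (S : Subgroup (Cl (z : G) : Subgroup G)).map (Cl (z : G) : Subgroup G).subtype
        with hS'
      have hcard : Nat.card S' = r ^ (Nat.card G).factorization r := by
        rw [hS', Nat.card_congr ((S : Subgroup (Cl (z : G) : Subgroup G)).equivMapOfInjective _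
          (subtype_injective _)).toEquiv.symm, S.card_eq_multiplicity,
          ← (Cl (z : G) : Subgroup G).card_mul_index,
          Nat.factorization_mul Nat.card_pos.ne' index_ne_zero_of_finite, Finsupp.add_apply,
          Nat.factorization_eq_zero_of_not_dvd hnd, add_zero]
      obtain ⟨c, hc⟩ := MulAction.exists_smul_eq N (P.subtype (hall P))
        ((Sylow.ofCard S' hcard).subtype (hall _))
      refine ⟨c, mem_centralizer_iff.mpr fun w hw => ?_⟩
      have hmem : (c : G) * w * (c : G)⁻¹ ∈ S' := by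
        have h1 : c * ⟨w, hall P hw⟩ * c⁻¹ ∈ ((c • P.subtype (hall P) : Sylow r N) : Subgroup N) :=
          ⟨⟨w, hall P hw⟩, hw, rfl⟩
        rw [hc] at h1
        exact h1
      have hcomm := mem_cl_iff.mp (map_subtype_le _ hmem)
      push_cast
      calc w * ((c : G)⁻¹ * z * c) = (c : G)⁻¹ * (((c : G) * w * (c : G)⁻¹) * z) * c := by group
        _ = (c : G)⁻¹ * (z * ((c : G) * w * (c : G)⁻¹)) * c := by rw [hcomm.eq]
        _ = (c : G)⁻¹ * z * c * w := by group
    intro w hw u hu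
    exact (mem_centralizer_iff.mp (subgroupOf_eq_top.mp htop hw) u hu).symm
  -- hence `N` is abelian
  have hclp : ∀ y ∈ N, y ∉ center G → (orderOf y).Coprime r →
      (Cl x : Subgroup G) = (Cl y : Subgroup G) := fun y hy hy' hyr => by
    obtain ⟨k, hk⟩ := isR_iff.mp hxr
    have hxy : Commute x y := (hPc y hy x hxP).symm
    have hcop : Nat.Coprime (orderOf x) (orderOf y) := by rw [hk]; exact hyr.symm.pow_left k
    have hzN : x * y ∈ N := mul_mem (hrmem x hxr) hy
    obtain ⟨a, ha1, ha2⟩ := Nat.chineseRemainder hcop 1 0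
    obtain ⟨b, hb1, hb2⟩ := Nat.chineseRemainder hcop 0 1
    have hxa : x = (x * y) ^ a := by
      rw [hxy.mul_pow, orderOf_dvd_iff_pow_eq_one.mp (Nat.modEq_zero_iff_dvd.mp ha2), mul_one]
      conv_lhs => rw [← pow_one x]
      exact pow_eq_pow_iff_modEq.mpr ha1.symm
    have hyb : y = (x * y) ^ b := by
      rw [hxy.mul_pow, orderOf_dvd_iff_pow_eq_one.mp (Nat.modEq_zero_iff_dvd.mp hb1), one_mul]
      conv_lhs => rw [← pow_one y]
      exact pow_eq_pow_iff_modEq.mpr hb2.symm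
    have key : ∀ w ∈ N, w ∉ center G → (∀ e : ℕ, w = (x * y) ^ e →
        (Cl (x * y) : Subgroup G) = (Cl w : Subgroup G)) := by
      intro w hw hw' e he
      have hle : (Cl (x * y) : Subgroup G) ≤ (Cl w : Subgroup G) := by
        rw [he]; exact cl_le_pow _ e
      refine eq_of_le_of_card_ge hle (le_of_eq ?_)
      have hz' := not_mem_center_of_le hw' hle
      have h1 := (Cl w : Subgroup G).card_mul_index
      have h2 := (Cl (x * y) : Subgroup G).card_mul_index
      rw [hcls w hw hw'] at h1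
      rw [hcls _ hzN hz'] at h2
      refine Nat.eq_of_mul_eq_mul_right (Nat.pos_of_ne_zero ?_) (h1.trans h2.symm)
      rw [← hcls w hw hw']; exact index_ne_zero_of_finite
    rw [← key x (hrmem x hxr) hx a hxa, ← key y hy hy' b hyb]
  have hab : ∀ u ∈ N, ∀ v ∈ N, Commute u v := by
    intro u hu v hv
    obtain ⟨a, b, hab, ⟨k, hk⟩, hb⟩ := CfsgLib.PNilpotent.exists_pPart_decomp (p := r) u
    rw [← hab]
    refine Commute.mul_left ?_ ?_
    · -- `r`-elements of `N` lie in `P`
      obtain ⟨P₁, hP₁⟩ := (isPGroup_zpowers (isR_iff.mpr ⟨k, hk⟩)).exists_le_sylow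
      obtain ⟨c, hc⟩ := MulAction.exists_smul_eq N (P.subtype (hall P)) (P₁.subtype (hall P₁))
      have hmem : (⟨u ^ a, pow_mem hu a⟩ : N) ∈ ((c • P.subtype (hall P) : Sylow r N) : Subgroup N) := by
        rw [hc]; exact hP₁ (mem_zpowers _)
      obtain ⟨w, hw, hwe⟩ := hmem
      have hwc : Commute (c : G) (w : G) := hPc c c.2 w hw
      have heq : u ^ a = (w : G) := by
        have := congrArg Subtype.val hwe
        simp only at this
        rw [← this]
        show (c : G) * w * (c : G)⁻¹ = w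
        rw [hwc.eq, mul_inv_cancel_right]
      rw [heq]
      exact (hPc v hv w hw).symm
    · by_cases hb' : u ^ b ∈ center G
      · exact (Subgroup.mem_center_iff.mp hb' v).symm
      · have hvx : v ∈ (Cl x : Subgroup G) := mem_cl_iff.mpr (hPc v hv x hxP)
        rw [hclp _ (pow_mem hu b) hb' hb] at hvx
        exact (mem_cl_iff.mp hvx).symm
  refine hnil fun w => ⟨0, Subgroup.mem_center_iff.mpr fun v => Subtype.ext ?_⟩
  simpa using (hab v v.2 w w.2).eq

end Cfsg.Agent.S4135
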