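import Cfsg.Statements.S4137
import Cfsg.Agent.Lib.ClassSize.RankThree.Main
import Cfsg.Agent.Lib.ConjRankThree.Antichain
import Cfsg.Agent.Lib.ThreeClass.Sizes
import Cfsg.Agent.Lib.PSL2Sub.PSL
import Cfsg.Agent.Lib.Recog.SL2Module
import Cfsg.Agent.S2202
import Cfsg.Agent.S0205

set_option autoImplicit false
open Cfsg

namespace Cfsg.Agent.S4137

open CfsgLib CfsgLib.ConjRankThree CfsgLib.ClassSize.RankThree in
/-- Distinct comparable class sizes are impossible. -/
theorem antichain {G : Type*} [Group G] [Finite G] (hns : ¬ Group.IsSolvable G)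
    (hZ : Subgroup.center G = ⊥)
    (h : Nat.card {n : ℕ | 1 < n ∧ ∃ x : G, (Subgroup.centralizer ({x} : Set G)).index = n} ≤ 3) :
    ∀ x y : G, x ≠ 1 → y ≠ 1 → cc x ∣ cc y → cc x = cc y := by
  classical
  intro x y hx hy hd
  by_contra hne
  set M : Set ℕ := {n : ℕ | 1 < n ∧ ∃ x : G, (Subgroup.centralizer ({x} : Set G)).index = n} with hM
  have hmem : ∀ g : G, g ≠ 1 → idx g ∈ M := by
    intro g hg
    refine ⟨?_, g, rfl⟩
    have h0 := idx_ne_zero g
    have h1 : idx g ≠ 1 := fun e => hg (by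
      have h2 : g ∈ Subgroup.center G := (CfsgLib.ClassSize.Three.index_Cz_eq_one_iff g).1 e
      rwa [hZ, Subgroup.mem_bot] at h2)
    omega
  have hne' : idx x ≠ idx y := fun e => hne (cc_eq_of_idx e)
  have hdvd : idx y ∣ idx x := by
    obtain ⟨k, hk⟩ := hd
    refine ⟨k, Nat.eq_of_mul_eq_mul_left (n := cc x) Nat.card_pos ?_⟩
    show cc x * (Cent x).index = cc x * ((Cent y).index * k)
    rw [cc_mul_index, ← cc_mul_index y, hk]; ring
  have hfin : M.Finite :=
    (Set.finite_range (fun g : G => idx g)).subset fun n ⟨_, g, hg⟩ => ⟨g, hg⟩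
  by_cases hthree : ∀ g : G, g ≠ 1 → idx g = idx x ∨ idx g = idx y
  · refine hns (CfsgLib.ThreeClass.isSolvable_of_three (n₁ := idx x) (n₂ := idx y) ?_ (hmem y hy).1 ?_
      ⟨x, rfl⟩ ⟨y, rfl⟩)
    · exact lt_of_le_of_ne (Nat.le_of_dvd (Nat.pos_of_ne_zero (idx_ne_zero x)) hdvd) (Ne.symm hne')
    · intro g
      by_cases hg : g = 1
      · subst hg
        exact Or.inl ((CfsgLib.ClassSize.Three.index_Cz_eq_one_iff (1 : G)).2 (one_mem _))
      · exact Or.inr (hthree g hg).symm
  · push Not at hthree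
    obtain ⟨z, hz, hzx, hzy⟩ := hthree
    refine Data.false (na := idx x) (nb := idx y) (nc := idx z)
      ⟨hns, hZ, fun g hg => ?_, ⟨x, hx, rfl⟩, ⟨y, hy, rfl⟩, ⟨z, hz, rfl⟩, hdvd, hne', Ne.symm hzx,
        Ne.symm hzy⟩
    by_contra hno
    push Not at hno
    have hsub : ({idx g, idx x, idx y, idx z} : Set ℕ) ⊆ M := by
      rintro n (rfl | rfl | rfl | rfl)
      exacts [hmem g hg, hmem x hx, hmem y hy, hmem z hz]
    have hc := Set.ncard_le_ncard hsub hfin
    rw [Set.ncard_insert_of_notMem (by simp [hno.1, hno.2.1, hno.2.2]),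
      Set.ncard_insert_of_notMem (by simp [hne', Ne.symm hzx]),
      Set.ncard_pair (Ne.symm hzy), ← Nat.card_coe_set_eq] at hc
    omega

/-- Let G be a finite group with trivial centre and at most three distinct sizes of conjugacy classes other than 1. Then G is solvable or G is isomorphic to PSL₂(2^a) for some a ≥ 1. -/
theorem result {G : Type*} [Group G] [Finite G]
    (hZ : Subgroup.center G = ⊥) (h : Nat.card {n : ℕ | 1 < n ∧ ∃ x : G, (Subgroup.centralizer ({x} : Set G)).index = n} ≤ 3) :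
    Group.IsSolvable G ∨ ∃ a : ℕ, 0 < a ∧ Nonempty (G ≃* Matrix.ProjectiveSpecialLinearGroup (Fin 2) (GaloisField 2 a)) := by
  classical
  refine Classical.or_iff_not_imp_left.2 fun hns => ?_
  have hanti := antichain hns hZ h
  have hCA : ∀ t : G, orderOf t = 2 → IsMulCommutative ↥(Subgroup.centralizer ({t} : Set G)) :=
    fun t ht => ⟨⟨fun a b => Subtype.ext (CfsgLib.ConjRankThree.commute_cent_of_antichain hanti
      (CfsgLib.ConjRankThree.ne_one_of_prime_order Nat.prime_two ht) a a.2 b b.2)⟩⟩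
  have heven : Even (Nat.card G) := by
    by_contra hodd
    exact hns (Cfsg.Agent.S0205.result (Nat.not_even_iff_odd.1 hodd))
  haveI : Fact (Nat.Prime 2) := ⟨Nat.prime_two⟩
  obtain ⟨P⟩ : Nonempty (Sylow 2 G) := inferInstance
  rcases Cfsg.Agent.S2202.result heven hCA with hcyc | hnorm | ⟨F, iF, iFF, A, iA, iAF, hchar, hodd, ⟨e⟩⟩
  · exfalso
    haveI := hcyc P
    have hNC : Subgroup.normalizer ((P : Subgroup G) : Set G) ≤ Subgroup.centralizer ((P : Subgroup G) : Set G) :=
      IsCyclic.normalizer_le_centralizer ((Nat.minFac_eq_two_iff _).2 (even_iff_two_dvd.1 heven)) (hcyc P)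
    set f := MonoidHom.transferSylow P hNC with hf
    haveI : Group.IsSolvable f.ker := Cfsg.Agent.S0205.result (Nat.not_even_iff_odd.1 fun he =>
      MonoidHom.not_dvd_card_ker_transferSylow P hNC (even_iff_two_dvd.1 he))
    haveI : Group.IsSolvable (P : Subgroup G) := haveI := P.2.isNilpotent; inferInstance
    exact hns (Group.isSolvable_of_ker_le_range f.ker.subtype f (by simp))
  · exfalso
    haveI := hnorm P
    haveI : Group.IsSolvable (P : Subgroup G) := haveI := P.2.isNilpotent; inferInstance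
    haveI : Group.IsSolvable (G ⧸ (P : Subgroup G)) := by
      refine Cfsg.Agent.S0205.result (Nat.not_even_iff_odd.1 fun he => P.not_dvd_index ?_)
      rw [Subgroup.index_eq_card]
      exact even_iff_two_dvd.1 he
    exact hns (Group.isSolvable_of_ker_le_range (P : Subgroup G).subtype
      (QuotientGroup.mk' (P : Subgroup G)) (by simp))
  · have hA : ∀ a : A, a = 1 := fun a => by
      have h1 : e.symm (1, a) ∈ Subgroup.center G := by
        refine Subgroup.mem_center_iff.2 fun g => e.injective ?_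
        rw [map_mul, map_mul, e.apply_symm_apply]
        exact Prod.ext (by simp) (mul_comm _ _)
      rw [hZ, Subgroup.mem_bot, MulEquiv.map_eq_one_iff] at h1
      exact congrArg Prod.snd h1
    let φ : G ≃* Matrix.SpecialLinearGroup (Fin 2) F := e.trans
      { toFun := Prod.fst
        invFun := fun s => (s, 1)
        left_inv := fun s => Prod.ext rfl (hA s.2).symm
        right_inv := fun s => rfl
        map_mul' := fun a b => rfl }
    haveI := hchar
    obtain ⟨n, -, hn⟩ := FiniteField.card F 2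
    let ψ : Matrix.SpecialLinearGroup (Fin 2) F ≃* Matrix.ProjectiveSpecialLinearGroup (Fin 2) F :=
      MulEquiv.ofBijective (QuotientGroup.mk' (Subgroup.center (Matrix.SpecialLinearGroup (Fin 2) F)))
        ⟨by rw [← MonoidHom.ker_eq_bot_iff, QuotientGroup.ker_mk',
            CfsgLib.Recog.center_sl2_eq_bot (F := F)],
          QuotientGroup.mk'_surjective _⟩
    refine ⟨(n : ℕ), n.pos, ?_⟩
    letI : Fintype (GaloisField 2 (n : ℕ)) := Fintype.ofFinite _
    have hc : Fintype.card F = Fintype.card (GaloisField 2 (n : ℕ)) := by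
      rw [hn, ← Nat.card_eq_fintype_card, GaloisField.card 2 (n : ℕ) n.pos.ne']
    obtain ⟨e'⟩ := CfsgLib.PSL2Sub.nonempty_pslEquiv (FiniteField.ringEquivOfCardEq hc)
    exact ⟨(φ.trans ψ).trans e'⟩

end Cfsg.Agent.S4137
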