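import Cfsg.Statements.S4142
import Cfsg.Agent.Lib.ClassSize.SylowCentralizer

set_option autoImplicit false
open Cfsg

namespace Cfsg.Agent.S4142

/-- Let G be a finite group and N a normal subgroup. Then the conjugacy class of every element g outside N is a union of cosets of N (gn is conjugate to g for all n ∈ N) if and only if for every g outside N the centralizer of g in G has the same order as the centralizer of gN in G/N. -/
theorem result {G : Type*} [Group G] [Finite G] (N : Subgroup G) [N.Normal] :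
    (∀ g : G, g ∉ N → ∀ n ∈ N, ∃ x : G, x * g * x⁻¹ = g * n) ↔
      ∀ g : G, g ∉ N → Nat.card (Subgroup.centralizer ({g} : Set G)) =
        Nat.card (Subgroup.centralizer ({(QuotientGroup.mk g : G ⧸ N)} : Set (G ⧸ N))) := by
  classical
  refine forall₂_congr fun g hg => ?_
  set π := QuotientGroup.mk' N
  have hsub : {y : G | IsConj g y} ⊆ π ⁻¹' {q | IsConj (π g) q} :=
    fun y hy => π.map_isConj hy
  have hiff : (∀ n ∈ N, ∃ x : G, x * g * x⁻¹ = g * n) ↔
      {y : G | IsConj g y} = π ⁻¹' {q | IsConj (π g) q} := by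
    constructor
    · refine fun h => hsub.antisymm fun y hy => ?_
      obtain ⟨c, hc⟩ := isConj_iff.1 (hy : IsConj (π g) (π y))
      obtain ⟨c, rfl⟩ := QuotientGroup.mk'_surjective N c
      rw [← map_inv, ← map_mul, ← map_mul, QuotientGroup.mk'_apply, QuotientGroup.mk'_apply,
        QuotientGroup.eq] at hc
      have hn := ‹N.Normal›.conj_mem _ hc c⁻¹
      obtain ⟨x, hx⟩ := h _ hn
      refine isConj_iff.2 ⟨c * x, ?_⟩
      calc c * x * g * (c * x)⁻¹ = c * (x * g * x⁻¹) * c⁻¹ := by group
        _ = y := by rw [hx]; group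
    · intro h n hn
      have hmem : g * n ∈ π ⁻¹' {q | IsConj (π g) q} := by
        show IsConj (π g) (π (g * n))
        rw [map_mul, show π n = 1 from (QuotientGroup.eq_one_iff n).2 hn, mul_one]
      rw [← h] at hmem
      exact isConj_iff.1 hmem
  have hpre : (π ⁻¹' {q | IsConj (π g) q}).ncard =
      Nat.card N * {q : G ⧸ N | IsConj (π g) q}.ncard := by
    rw [← Nat.card_coe_set_eq, ← Nat.card_coe_set_eq, ← Nat.card_prod]
    exact Nat.card_congr (QuotientGroup.preimageMkEquivSubgroupProdSet N _)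
  have h1 := (Subgroup.centralizer ({g} : Set G)).index_mul_card
  have h2 := (Subgroup.centralizer ({(π g)} : Set (G ⧸ N))).index_mul_card
  have h3 : Nat.card G = Nat.card N * Nat.card (G ⧸ N) := N.card_eq_card_quotient_mul_card_subgroup.trans (mul_comm _ _)
  rw [← CfsgLib.ClassSize.ncard_setOf_isConj] at h1 h2
  rw [hiff]
  show _ ↔ _ = Nat.card (Subgroup.centralizer ({π g} : Set (G ⧸ N)))
  have hC : 0 < Nat.card (Subgroup.centralizer ({π g} : Set (G ⧸ N))) := Nat.card_pos
  have hQ : 0 < {q : G ⧸ N | IsConj (π g) q}.ncard := by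
    rw [Set.ncard_pos]; exact ⟨π g, IsConj.refl _⟩
  rw [← h2, ← h1, ← mul_assoc, ← hpre] at h3
  constructor
  · intro h
    rw [← h] at h3
    exact Nat.eq_of_mul_eq_mul_left ((Set.ncard_pos (Set.toFinite _)).2 ⟨g, IsConj.refl _⟩) h3
  · intro h
    rw [h] at h3
    exact Set.eq_of_subset_of_ncard_le hsub (Nat.eq_of_mul_eq_mul_right hC h3).ge

end Cfsg.Agent.S4142
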