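import Cfsg.Statements.S4143
import Cfsg.Agent.Lib.PGroup.SmallCentralizer

set_option autoImplicit false
open Cfsg

namespace Cfsg.Agent.S4143

/-- Let X be a finite p-group of order p^n containing a non-abelian subgroup B of order p³ with C_X(B) ≤ B. Then X has nilpotency class n − 1 (maximal class). -/
theorem result {X : Type*} [Group X] [Finite X] {p : ℕ} [Fact p.Prime] (n : ℕ) (hX : Nat.card X = p ^ n)
    (B : Subgroup X) (hB : Nat.card B = p ^ 3) (hBna : ¬ IsMulCommutative B) (hC : Subgroup.centralizer (B : Set X) ≤ B) :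
    Group.nilpotencyClass X = n - 1 := by
  classical
  have hp : p.Prime := Fact.out
  have hXp : IsPGroup p X := IsPGroup.of_card hX
  have hn3 : 3 ≤ n := by
    have := Subgroup.card_subgroup_dvd_card B
    rw [hB, hX, Nat.pow_dvd_pow_iff_le_right hp.one_lt] at this
    exact this
  haveI : Nontrivial X := Finite.one_lt_card_iff_nontrivial.1
    (by rw [hX]; exact Nat.one_lt_pow (by omega) hp.one_lt)
  haveI : Group.IsNilpotent X := hXp.isNilpotent
  set Z := Subgroup.center X with hZ
  set C := Subgroup.centralizer (B : Set X) with hCdef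
  have hZC : Z ≤ C := fun z hz => Subgroup.mem_centralizer_iff.2 fun b _ => Subgroup.mem_center_iff.1 hz b
  -- the centraliser of `B` has order `p`
  have hCB : (C.subgroupOf B) = Subgroup.center B := by
    ext b
    rw [Subgroup.mem_subgroupOf, Subgroup.mem_center_iff, hCdef, Subgroup.mem_centralizer_iff]
    exact ⟨fun h a => Subtype.ext (h a a.2), fun h a ha => congrArg Subtype.val (h ⟨a, ha⟩)⟩
  have hBp : IsPGroup p B := hXp.to_subgroup B
  have hC1 : Nat.card C ≤ p := by
    rw [← Nat.card_congr (Subgroup.subgroupOfEquivOfLe hC).toEquiv, hCB]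
    obtain ⟨i, hi⟩ := IsPGroup.iff_card.1 (hBp.to_subgroup (Subgroup.center B))
    rw [hi]
    by_contra hlt
    have hi2 : 2 ≤ i := by
      by_contra h
      exact hlt ((Nat.pow_le_pow_right hp.pos (by omega : i ≤ 1)).trans (pow_one p).le)
    -- then `B / Z(B)` is cyclic
    have h1 := (Subgroup.center B).card_eq_card_quotient_mul_card_subgroup
    rw [hB, hi] at h1
    have hq : Nat.card (B ⧸ Subgroup.center B) ∣ p ^ 3 := ⟨p ^ i, h1⟩
    obtain ⟨j, hj, hj'⟩ := (Nat.dvd_prime_pow hp).1 hq
    rw [hj', ← pow_add, (Nat.pow_right_injective hp.two_le).eq_iff] at h1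
    have hcyc : IsCyclic (B ⧸ Subgroup.center B) := by
      rcases (by omega : j = 0 ∨ j = 1) with rfl | rfl
      · haveI := (Nat.card_eq_one_iff_unique.1 (hj'.trans (pow_zero p))).1
        exact isCyclic_of_subsingleton
      · exact isCyclic_of_prime_card (hj'.trans (pow_one p))
    exact hBna ⟨⟨fun a b => commutative_of_cyclic_center_quotient (QuotientGroup.mk' (Subgroup.center B))
      (QuotientGroup.ker_mk' _).le a b⟩⟩
  have hZcard : Nat.card Z = p := by
    refine le_antisymm ((Subgroup.card_le_of_le hZC).trans hC1) ?_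
    haveI := hXp.center_nontrivial
    obtain ⟨i, hi⟩ := IsPGroup.iff_card.1 (hXp.to_subgroup Z)
    have := Finite.one_lt_card (α := Z)
    rw [hi] at this ⊢
    exact Nat.le_self_pow (fun h => by rw [h, pow_zero] at this; exact lt_irrefl _ this) p
  have hCZ : C = Z := (Subgroup.eq_of_le_of_card_ge hZC (by rw [hZcard]; exact hC1)).symm
  rw [Group.nilpotencyClass_eq_quotient_center_plus_one]
  set π := QuotientGroup.mk' Z with hπ
  set Bb := B.map π with hBb
  have hQ : Nat.card (X ⧸ Z) = p ^ (n - 1) := by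
    have h1 := Z.card_eq_card_quotient_mul_card_subgroup
    rw [hX, hZcard, show n = (n - 1) + 1 by omega, pow_succ] at h1
    exact (Nat.eq_of_mul_eq_mul_right hp.pos h1).symm
  have hZB : Z ≤ B := hZC.trans hC
  have hBbcard : Nat.card Bb = p ^ 2 := by
    have h1 := (π.domRestrict B).ker.card_eq_card_quotient_mul_card_subgroup
    rw [Nat.card_congr (QuotientGroup.quotientKerEquivRange _).toEquiv, MonoidHom.domRestrict_range,
      MonoidHom.ker_domRestrict, QuotientGroup.ker_mk',
      Nat.card_congr (Subgroup.subgroupOfEquivOfLe hZB).toEquiv, hB, hZcard, pow_succ] at h1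
    exact (Nat.eq_of_mul_eq_mul_right hp.pos h1).symm
  haveI hBbcomm : IsMulCommutative Bb := IsPGroup.isMulCommutative_of_card_eq_prime_sq hBbcard
  -- `B / Z` is self-centralising
  have hCb : Subgroup.centralizer (Bb : Set (X ⧸ Z)) ≤ Bb := by
    obtain ⟨S, hS⟩ : ∃ S : Finset X, S.card ≤ 2 ∧ (S : Set X) ⊆ B ∧
        Subgroup.centralizer (S : Set X) ≤ C := by
      obtain ⟨a, b, hab⟩ : ∃ a b : B, a * b ≠ b * a := by
        by_contra h
        push Not at h
        exact hBna ⟨⟨h⟩⟩
      refine ⟨{(a : X), (b : X)}, Finset.card_le_two, by simp [Set.insert_subset_iff], fun g hg => ?_⟩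
      -- `a` and `b` generate `B`
      set K := Subgroup.closure ({a, b} : Set B) with hK
      have hKtop : K = ⊤ := by
        refine Subgroup.eq_top_of_le_card _ ?_
        obtain ⟨i, hi⟩ := IsPGroup.iff_card.1 (hBp.to_subgroup K)
        rw [hB, hi]
        refine Nat.pow_le_pow_right hp.pos ?_
        by_contra hlt
        haveI hKc : IsMulCommutative K := by
          rcases (by omega : i = 0 ∨ i = 1 ∨ i = 2) with rfl | rfl | rfl
          · haveI := (Nat.card_eq_one_iff_unique.1 (hi.trans (pow_zero p))).1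
            exact ⟨⟨fun u v => Subsingleton.elim _ _⟩⟩
          · haveI := isCyclic_of_prime_card (hi.trans (pow_one p))
            exact ⟨⟨fun u v => IsCyclic.commGroup.mul_comm u v⟩⟩
          · exact IsPGroup.isMulCommutative_of_card_eq_prime_sq hi
        exact hab (congrArg Subtype.val
          (hKc.is_comm.comm (⟨a, Subgroup.subset_closure (Set.mem_insert a {b})⟩ : K)
            ⟨b, Subgroup.subset_closure (Set.mem_insert_of_mem a (Set.mem_singleton b))⟩))
      rw [hCdef, Subgroup.mem_centralizer_iff]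
      intro y hy
      have hle : K ≤ (Subgroup.centralizer ({g} : Set X)).subgroupOf B := by
        rw [hK, Subgroup.closure_le]
        intro z hz
        rw [SetLike.mem_coe, Subgroup.mem_subgroupOf, Subgroup.mem_centralizer_singleton_iff]
        rcases hz with rfl | rfl
        · exact Subgroup.mem_centralizer_iff.1 hg _ (by simp)
        · exact Subgroup.mem_centralizer_iff.1 hg _ (by simp)
      exact Subgroup.mem_centralizer_singleton_iff.1
        (hle (hKtop ▸ Subgroup.mem_top (⟨y, hy⟩ : B)))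
    have h := CfsgLib.PGroup.card_centralizer_mk_le S
    have h2 : Nat.card (Subgroup.centralizer (π '' (S : Set X))) * p ≤ p * p ^ 2 := by
      rw [← hZcard]
      refine h.trans (Nat.mul_le_mul ?_ (Nat.pow_le_pow_right Nat.card_pos hS.1))
      exact (Subgroup.card_le_of_le hS.2.2).trans (by rw [hCZ])
    rw [mul_comm p] at h2
    have h3 := Nat.le_of_mul_le_mul_right h2 hp.pos
    have h4 : Subgroup.centralizer (Bb : Set (X ⧸ Z)) ≤ Subgroup.centralizer (π '' (S : Set X)) :=
      Subgroup.centralizer_le (Set.image_mono hS.2.1)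
    have h5 : Bb ≤ Subgroup.centralizer (Bb : Set (X ⧸ Z)) := Subgroup.le_centralizer Bb
    exact (Subgroup.eq_of_le_of_card_ge h5
      (by rw [hBbcard]; exact (Subgroup.card_le_of_le h4).trans h3)).ge
  have hQp : IsPGroup p (X ⧸ Z) := IsPGroup.of_card hQ
  haveI : Group.IsNilpotent (X ⧸ Z) := hQp.isNilpotent
  haveI : Nontrivial (X ⧸ Z) := Finite.one_lt_card_iff_nontrivial.1
    (by rw [hQ]; exact Nat.one_lt_pow (by omega) hp.one_lt)
  obtain rfl | hn4 := hn3.eq_or_lt
  · haveI : IsMulCommutative (X ⧸ Z) := IsPGroup.isMulCommutative_of_card_eq_prime_sq hQ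
    have h1 := (Group.IsNilpotent.nilpotencyClass_le_one_iff (G := X ⧸ Z)).2 inferInstance
    have h2 : Group.nilpotencyClass (X ⧸ Z) ≠ 0 := by
      rw [Ne, nilpotencyClass_zero_iff_subsingleton]
      exact not_subsingleton _
    show Group.nilpotencyClass (X ⧸ Z) + 1 = 3 - 1
    omega
  rw [Group.nilpotencyClass_eq_quotient_center_plus_one]
  set W := Subgroup.center (X ⧸ Z) with hW
  set Cb := Subgroup.centralizer (Bb : Set (X ⧸ Z)) with hCbdef
  have hWB : W ≤ Bb := fun w hw =>
    hCb (Subgroup.mem_centralizer_iff.2 fun b _ => Subgroup.mem_center_iff.1 hw b)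
  have hne : W ≠ Bb := by
    intro he
    have htop : Cb = ⊤ := eq_top_iff.2 fun g _ => Subgroup.mem_centralizer_iff.2 fun b hb =>
      (Subgroup.mem_center_iff.1 ((he ▸ hb : b ∈ W) : b ∈ Subgroup.center (X ⧸ Z)) g).symm
    have := Subgroup.card_le_of_le (htop ▸ hCb)
    rw [Subgroup.card_top, hQ, hBbcard, Nat.pow_le_pow_iff_right hp.one_lt] at this
    omega
  obtain ⟨w, hwB, hwW⟩ := SetLike.exists_of_lt (lt_of_le_of_ne hWB hne)
  have hWcard : Nat.card W = p := by
    haveI := hQp.center_nontrivial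
    obtain ⟨i, hi⟩ := IsPGroup.iff_card.1 (hQp.to_subgroup W)
    have h1 := Finite.one_lt_card (α := W)
    have h2 : Nat.card W < Nat.card Bb := lt_of_le_of_ne (Subgroup.card_le_of_le hWB)
      fun h => hne (Subgroup.eq_of_le_of_card_ge hWB h.ge)
    rw [hBbcard, hi, Nat.pow_lt_pow_iff_right hp.one_lt] at h2
    have h3 : i ≠ 0 := by rintro rfl; rw [hi, pow_zero] at h1; exact lt_irrefl _ h1
    rw [hi, show i = 1 by omega, pow_one]
  -- `B/Z` is generated by `w` and the centre
  have hgenB : W ⊔ Subgroup.zpowers w = Bb := by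
    refine Subgroup.eq_of_le_of_card_ge (sup_le hWB (Subgroup.zpowers_le.2 hwB)) ?_
    obtain ⟨i, hi⟩ := IsPGroup.iff_card.1 (hQp.to_subgroup (W ⊔ Subgroup.zpowers w))
    have h1 : Nat.card W < Nat.card ↥(W ⊔ Subgroup.zpowers w) :=
      lt_of_le_of_ne (Subgroup.card_le_of_le le_sup_left) fun h => hwW (by
        rw [Subgroup.eq_of_le_of_card_ge le_sup_left h.ge]
        exact (le_sup_right : _ ≤ W ⊔ Subgroup.zpowers w) (Subgroup.mem_zpowers w))
    rw [hi, hWcard] at h1
    rw [hBbcard, hi]
    refine Nat.pow_le_pow_right hp.pos ?_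
    by_contra h
    exact absurd ((Nat.pow_le_pow_right hp.pos (by omega : i ≤ 1)).trans (pow_one p).le) h1.not_ge
  have hcw : Subgroup.centralizer ({w} : Set (X ⧸ Z)) ≤ Cb := by
    intro g hg
    rw [Subgroup.mem_centralizer_iff]
    intro b hb
    have hle : W ⊔ Subgroup.zpowers w ≤ Subgroup.centralizer ({g} : Set (X ⧸ Z)) := by
      refine sup_le (fun z hz => Subgroup.mem_centralizer_singleton_iff.2 (Subgroup.mem_center_iff.1 hz g).symm) ?_
      rw [Subgroup.zpowers_le, Subgroup.mem_centralizer_singleton_iff]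
      exact (Subgroup.mem_centralizer_singleton_iff.1 hg).symm
    exact Subgroup.mem_centralizer_singleton_iff.1 (hle (hgenB.symm ▸ hb))
  have hQ2 : Nat.card ((X ⧸ Z) ⧸ W) = p ^ (n - 2) := by
    have h1 := W.card_eq_card_quotient_mul_card_subgroup
    rw [hQ, hWcard, show n - 1 = (n - 2) + 1 by omega, pow_succ] at h1
    exact (Nat.eq_of_mul_eq_mul_right hp.pos h1).symm
  rw [CfsgLib.PGroup.nilpotencyClass_of_small_centralizer (n - 2) (by omega) hQ2 (w : (X ⧸ Z) ⧸ W)
    ((CfsgLib.PGroup.card_centralizer_mk_singleton_le w).trans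
      ((Subgroup.card_le_of_le (hcw.trans hCb)).trans hBbcard.le))]
  omega

end Cfsg.Agent.S4143
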