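import Cfsg.Statements.S4145
import Mathlib.GroupTheory.Transfer
import Mathlib.NumberTheory.Multiplicity
import Mathlib.RingTheory.Int.Basic

set_option autoImplicit false
open Cfsg

namespace Cfsg.Agent.S4145

/-- Let G be a finite group with a cyclic Sylow p-subgroup and H a normal subgroup such that p divides both the order of H and the index of H. Then H has a normal p-complement and G is p-solvable. -/
theorem result {G : Type*} [Group G] [Finite G] (p : ℕ) [Fact p.Prime]
    (P : Sylow p G) (hP : IsCyclic (P : Subgroup G)) (H : Subgroup G) [H.Normal] (h1 : p ∣ Nat.card H) (h2 : p ∣ H.index) :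
    Cfsg.HasNormalPComplement p H ∧ Cfsg.IsPSolvable p G := by
  classical
  have hp : p.Prime := Fact.out
  haveI := hP
  obtain ⟨g, hg⟩ := (Subgroup.isCyclic_iff_exists_zpowers_eq_top (P : Subgroup G)).1 hP
  have hgP : g ∈ (P : Subgroup G) := hg ▸ Subgroup.mem_zpowers g
  obtain ⟨s, hs⟩ := IsPGroup.iff_card.1 P.2
  have hgs : g ^ p ^ s = 1 := by rw [← hs, ← hg, Nat.card_zpowers]; exact pow_orderOf_eq_one g
  have hord : orderOf g = p ^ s := by rw [← hs, ← hg, Nat.card_zpowers]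
  -- a normalising element acting as a power congruent to one centralises
  have key : ∀ y : G, y ∈ Subgroup.normalizer (P : Set G) → ∀ k : ℤ, y * g * y⁻¹ = g ^ k →
      (p : ℤ) ∣ k - 1 → y ∈ Subgroup.centralizer (P : Set G) := by
    intro y hy k hk hdvd
    have hpow : ∀ n : ℕ, y ^ n * g * (y ^ n)⁻¹ = g ^ (k ^ n) := by
      intro n
      induction n with
      | zero => simp
      | succ n ih =>
        calc y ^ (n + 1) * g * (y ^ (n + 1))⁻¹ = y * (y ^ n * g * (y ^ n)⁻¹) * y⁻¹ := by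
              rw [pow_succ']; group
          _ = (y * g * y⁻¹) ^ (k ^ n) := by rw [ih, conj_zpow]
          _ = g ^ (k ^ (n + 1)) := by rw [hk, ← zpow_mul, pow_succ']
    have h1 : y ^ p ^ s ∈ Subgroup.centralizer (P : Set G) := by
      have h2 := dvd_sub_pow_of_dvd_sub hdvd s
      rw [one_pow] at h2
      have h3 : ((p ^ s : ℕ) : ℤ) ∣ k ^ p ^ s - 1 := by
        push_cast
        exact (pow_dvd_pow _ (Nat.le_succ s)).trans h2
      have h4 : g ^ (k ^ p ^ s) = g := by
        obtain ⟨c, hc⟩ := h3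
        rw [sub_eq_iff_eq_add] at hc
        rw [hc, zpow_add, zpow_mul, zpow_natCast, hgs, one_zpow, one_mul, zpow_one]
      have h5 := (hpow (p ^ s)).trans h4
      rw [Subgroup.mem_centralizer_iff]
      intro b hb
      obtain ⟨j, rfl⟩ := Subgroup.mem_zpowers_iff.1 (hg.symm ▸ hb : b ∈ Subgroup.zpowers g)
      exact ((show Commute (y ^ p ^ s) g from mul_inv_eq_iff_eq_mul.1 h5).zpow_right j).symm.eq
    have hle : (P : Subgroup G) ≤ Subgroup.centralizer (P : Set G) := Subgroup.le_centralizer _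
    set CP := Subgroup.centralizer (P : Set G) with hCP
    set NP := Subgroup.normalizer (P : Set G) with hNP
    haveI : (CP.subgroupOf NP).Normal := by
      refine ⟨fun c hc n => ?_⟩
      rw [Subgroup.mem_subgroupOf, hCP, Subgroup.mem_centralizer_iff] at *
      intro b hb
      have hb' := (Subgroup.mem_normalizer_iff''.1 n.2 b).1 hb
      have h6 := hc _ hb'
      simp only [Subgroup.coe_mul, Subgroup.coe_inv]
      calc b * ((n : G) * c * (n : G)⁻¹) = n * ((n : G)⁻¹ * b * n * c) * (n : G)⁻¹ := by group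
        _ = n * (c * ((n : G)⁻¹ * b * n)) * (n : G)⁻¹ := by rw [h6]
        _ = n * c * (n : G)⁻¹ * b := by group
    have hidx : ¬ p ∣ (CP.subgroupOf NP).index := fun h => P.not_dvd_index
      ((h.trans (Dvd.intro _ (Subgroup.relIndex_mul_index (Subgroup.centralizer_le_normalizer _)))).trans
        (Subgroup.index_dvd_of_le hle))
    set q : ↥NP ⧸ CP.subgroupOf NP := ((⟨y, hy⟩ : NP) : ↥NP ⧸ CP.subgroupOf NP)
    have hq1 : q ^ p ^ s = 1 := by
      rw [← QuotientGroup.mk_pow, QuotientGroup.eq_one_iff, Subgroup.mem_subgroupOf]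
      simpa using h1
    have hq : q = 1 := by
      rw [← orderOf_eq_one_iff]
      exact Nat.eq_one_of_dvd_coprimes ((((Nat.Prime.coprime_iff_not_dvd hp).2 hidx)).pow_left s)
        (orderOf_dvd_of_pow_eq_one hq1) (orderOf_dvd_natCard q)
    exact Subgroup.mem_subgroupOf.1 ((QuotientGroup.eq_one_iff _).1 hq)
  have conjpow : ∀ y : G, y ∈ Subgroup.normalizer (P : Set G) → ∃ k : ℤ, y * g * y⁻¹ = g ^ k := by
    intro y hy
    obtain ⟨k, hk⟩ := Subgroup.mem_zpowers_iff.1
      (hg.symm ▸ (Subgroup.mem_normalizer_iff.1 hy g).1 hgP : y * g * y⁻¹ ∈ Subgroup.zpowers g)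
    exact ⟨k, hk.symm⟩
  set P0 := (P : Subgroup G) ⊓ H with hP0
  have hnd : ¬ p ∣ P0.relIndex H := by
    rw [hP0, Subgroup.inf_relIndex_right]
    intro h
    refine P.not_dvd_index (h.trans ?_)
    have h1 := Subgroup.relIndex_mul_relIndex ((P : Subgroup G) ⊓ H) (P : Subgroup G) ((P : Subgroup G) ⊔ H) inf_le_left le_sup_left
    have h2 := Subgroup.relIndex_mul_relIndex ((P : Subgroup G) ⊓ H) H ((P : Subgroup G) ⊔ H) inf_le_right le_sup_right
    rw [← h1, Subgroup.relIndex_sup_right, Subgroup.inf_relIndex_left, Subgroup.inf_relIndex_right,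
      mul_comm ((P : Subgroup G).relIndex H)] at h2
    have h0 : H.relIndex P ≠ 0 := fun h0 => by
      have := Subgroup.relIndex_dvd_card H (P : Subgroup G)
      rw [h0, zero_dvd_iff] at this
      exact Nat.card_pos.ne' this
    rw [Nat.eq_of_mul_eq_mul_left (Nat.pos_of_ne_zero h0) h2]
    exact Dvd.intro _ (Subgroup.relIndex_mul_index (le_sup_left : (P : Subgroup G) ≤ (P : Subgroup G) ⊔ H))
  have hP0p : IsPGroup p P0 := P.2.to_le inf_le_left
  let Q : Sylow p H :=
    { toSubgroup := P0.subgroupOf H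
      isPGroup' := hP0p.comap_subtype
      is_maximal' := fun {R} hR hle => (Subgroup.eq_of_le_of_card_ge hle (by
        obtain ⟨a, ha⟩ := IsPGroup.iff_card.1 hR
        rw [ha]
        refine Nat.le_of_dvd Nat.card_pos (Nat.Coprime.dvd_of_dvd_mul_right
          (((Nat.Prime.coprime_iff_not_dvd hp).2 hnd).pow_left a) ?_)
        rw [Subgroup.relIndex, Subgroup.card_mul_index, ← ha]
        exact R.card_subgroup_dvd_card)).symm }
  have hP0ne : P0 ≠ ⊥ := by
    intro h
    have := Q.card_eq_multiplicity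
    have h3 : p ∣ Nat.card (Q : Subgroup H) := Q.dvd_card_of_dvd_card h1
    have h4 : Nat.card (Q : Subgroup H) = 1 := by
      show Nat.card (P0.subgroupOf H) = 1
      rw [h, Subgroup.bot_subgroupOf, Subgroup.card_bot]
    rw [h4] at h3
    exact hp.ne_one (Nat.dvd_one.1 h3)
  have hP0ltP : ¬ (P : Subgroup G) ≤ H := fun h =>
    P.not_dvd_index (h2.trans (Subgroup.index_dvd_of_le h))
  set N := Subgroup.normalizer (P0 : Set G) with hN
  set C := Subgroup.centralizer (P0 : Set G) with hC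
  have hPC : (P : Subgroup G) ≤ C :=
    (Subgroup.le_centralizer _).trans (Subgroup.centralizer_le inf_le_left)
  obtain ⟨b, hb, hb1⟩ := (Subgroup.bot_or_exists_ne_one P0).resolve_left hP0ne
  obtain ⟨j, hj⟩ := Subgroup.mem_zpowers_iff.1 (hg.symm ▸ hb.1 : b ∈ Subgroup.zpowers g)
  -- `C` has a normal `p`-complement
  have hCN : ∀ y ∈ C, y ∈ Subgroup.normalizer (P : Set G) → y ∈ Subgroup.centralizer (P : Set G) := by
    intro y hyC hy
    obtain ⟨k, hk⟩ := conjpow y hy
    refine key y hy k hk ?_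
    have h5 : y * b * y⁻¹ = b := by
      rw [← Subgroup.mem_centralizer_iff.1 hyC b hb, mul_inv_cancel_right]
    rw [← hj, ← conj_zpow, hk, ← zpow_mul, ← mul_inv_eq_one, ← zpow_neg, ← zpow_add,
      ← orderOf_dvd_iff_zpow_eq_one, hord] at h5
    have h6 : ¬ ((p ^ s : ℕ) : ℤ) ∣ j := by
      rw [← hord, orderOf_dvd_iff_zpow_eq_one, hj]; exact hb1
    by_contra hcon
    refine h6 ?_
    have h7 : IsCoprime ((p ^ s : ℕ) : ℤ) (k - 1) := by
      push_cast
      exact ((Nat.prime_iff_prime_int.1 hp).coprime_iff_not_dvd.2 hcon).pow_left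
    refine h7.dvd_of_dvd_mul_right ?_
    rwa [show j * (k - 1) = k * j + -j by ring]
  let PC : Sylow p C := P.subtype hPC
  have hPCle : Subgroup.normalizer (PC : Set C) ≤ Subgroup.centralizer (PC : Set C) := by
    intro y hy
    have hy' : (y : G) ∈ Subgroup.normalizer (P : Set G) := by
      show (y : G) ∈ Subgroup.normalizer ((P : Subgroup G) : Set G)
      rw [Subgroup.mem_normalizer_iff]
      intro a
      constructor
      · intro ha
        exact (Subgroup.mem_normalizer_iff.1 hy ⟨a, hPC ha⟩).1 ha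
      · intro ha
        have haC : a ∈ C := by
          have := C.mul_mem (C.mul_mem (C.inv_mem y.2) (hPC ha)) y.2
          simpa [mul_assoc] using this
        exact (Subgroup.mem_normalizer_iff.1 hy ⟨a, haC⟩).2 ha
    have := hCN y y.2 hy'
    rw [Subgroup.mem_centralizer_iff] at this ⊢
    exact fun a ha => Subtype.ext (this a ha)
  set L' := (MonoidHom.transferSylow PC hPCle).ker with hL'
  have hL'c := MonoidHom.ker_transferSylow_isComplement' PC hPCle
  have hL'nd : ¬ p ∣ Nat.card L' := MonoidHom.not_dvd_card_ker_transferSylow PC hPCle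
  set L := L'.map C.subtype with hL
  have hLnd : ¬ p ∣ Nat.card L := by
    rwa [hL, Subgroup.card_map_of_injective C.subtype_injective]
  -- `p'`-elements of `C` lie in `L`
  have hLmem : ∀ c ∈ C, (∃ m : ℕ, ¬ p ∣ m ∧ c ^ m = 1) → c ∈ L := by
    rintro c hc ⟨m, hm, hcm⟩
    refine ⟨⟨c, hc⟩, ?_, rfl⟩
    rw [SetLike.mem_coe, hL', MonoidHom.mem_ker, ← orderOf_eq_one_iff]
    obtain ⟨a, ha⟩ := IsPGroup.iff_orderOf.1 PC.2 (MonoidHom.transferSylow PC hPCle ⟨c, hc⟩)
    refine Nat.eq_one_of_dvd_coprimes ((((Nat.Prime.coprime_iff_not_dvd hp).2 hm)).pow_left a) (ha ▸ dvd_rfl) ?_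
    exact (orderOf_map_dvd _ _).trans (orderOf_dvd_of_pow_eq_one (Subtype.ext (by simpa using hcm)))
  have hCnorm : ∀ n ∈ N, ∀ c ∈ C, n * c * n⁻¹ ∈ C := by
    intro n hn c hc
    rw [hC, Subgroup.mem_centralizer_iff] at hc ⊢
    intro a ha
    have h5 := hc _ ((Subgroup.mem_normalizer_iff''.1 hn a).1 ha)
    calc a * (n * c * n⁻¹) = n * ((n⁻¹ * a * n) * c) * n⁻¹ := by group
      _ = n * (c * (n⁻¹ * a * n)) * n⁻¹ := by rw [h5]
      _ = n * c * n⁻¹ * a := by group
  have hLnorm : ∀ n ∈ N, ∀ c ∈ L, n * c * n⁻¹ ∈ L := by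
    intro n hn c hc
    refine hLmem _ (hCnorm n hn c (Subgroup.map_subtype_le _ hc)) ⟨Nat.card L, hLnd, ?_⟩
    rw [conj_pow, show c ^ Nat.card L = 1 from
      congrArg Subtype.val (pow_card_eq_one' (x := (⟨c, hc⟩ : L))), mul_one, mul_inv_cancel]
  have hCP : ∀ c ∈ C, ∀ a ∈ (P : Subgroup G), c * a * c⁻¹ * a⁻¹ ∈ L := by
    intro c hc a ha
    refine ⟨⟨c, hc⟩ * ⟨a, hPC ha⟩ * ⟨c, hc⟩⁻¹ * ⟨a, hPC ha⟩⁻¹, ?_, rfl⟩
    rw [SetLike.mem_coe, hL', MonoidHom.mem_ker, map_mul, map_mul, map_mul, map_inv, map_inv]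
    haveI : IsMulCommutative (PC : Subgroup C) := ⟨⟨fun u v => by
      apply Subtype.ext; apply Subtype.ext
      obtain ⟨i, hi⟩ := Subgroup.mem_zpowers_iff.1 (hg.symm ▸ u.2 : ((u : C) : G) ∈ Subgroup.zpowers g)
      obtain ⟨l, hl⟩ := Subgroup.mem_zpowers_iff.1 (hg.symm ▸ v.2 : ((v : C) : G) ∈ Subgroup.zpowers g)
      show ((u : C) : G) * ((v : C) : G) = ((v : C) : G) * ((u : C) : G)
      rw [← hi, ← hl, ← zpow_add, ← zpow_add, add_comm]⟩⟩
    rw [mul_assoc _ (MonoidHom.transferSylow PC hPCle ⟨a, hPC ha⟩),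
      IsMulCommutative.is_comm.comm (MonoidHom.transferSylow PC hPCle ⟨a, hPC ha⟩)]
    group
  -- `N ∩ H` centralises `P0`
  have hNH : ∀ x ∈ H, x ∈ N → x ∈ C := by
    intro x hxH hxN
    have hPx : ((x • P : Sylow p G) : Subgroup G) ≤ C := by
      rw [Sylow.coe_subgroup_smul]
      rintro _ ⟨a, ha, rfl⟩
      exact hCnorm x hxN a (hPC ha)
    obtain ⟨c, hc⟩ := MulAction.exists_smul_eq C ((x • P : Sylow p G).subtype hPx) PC
    have hy : (c : G) * x ∈ Subgroup.normalizer (P : Set G) := by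
      rw [← Sylow.smul_eq_iff_mem_normalizer]
      rw [Sylow.smul_subtype] at hc
      exact mul_smul (c : G) x P ▸ Sylow.subtype_injective hc
    obtain ⟨k, hk⟩ := conjpow _ hy
    suffices hyC : (c : G) * x ∈ Subgroup.centralizer (P : Set G) by
      have := C.mul_mem (C.inv_mem c.2) (Subgroup.centralizer_le (inf_le_left (b := H) : P0 ≤ P) hyC)
      rwa [inv_mul_cancel_left] at this
    refine key _ hy k hk ?_
    -- the `p`-element `g ^ (k - 1)` lies in `H ⊔ L`
    have hmem : g ^ (k - 1) ∈ H ⊔ L := by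
      have h5 : x * g * x⁻¹ * g⁻¹ ∈ H := by
        rw [mul_assoc x g, mul_assoc, ]
        exact H.mul_mem hxH (‹H.Normal›.conj_mem _ (H.inv_mem hxH) g)
      have h6 : (c : G) * (x * g * x⁻¹) * (c : G)⁻¹ * (x * g * x⁻¹)⁻¹ ∈ H ⊔ L := by
        have e : (c : G) * (x * g * x⁻¹) * (c : G)⁻¹ * (x * g * x⁻¹)⁻¹ =
            ((c : G) * (x * g * x⁻¹ * g⁻¹) * (c : G)⁻¹) * ((c : G) * g * (c : G)⁻¹ * g⁻¹) *
              (x * g * x⁻¹ * g⁻¹)⁻¹ := by group
        rw [e]
        exact mul_mem (mul_mem ((le_sup_left : H ≤ H ⊔ L) (‹H.Normal›.conj_mem _ h5 _))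
          ((le_sup_right : L ≤ H ⊔ L) (hCP c c.2 g hgP))) ((le_sup_left : H ≤ H ⊔ L) (H.inv_mem h5))
      have e : g ^ (k - 1) = ((c : G) * (x * g * x⁻¹) * (c : G)⁻¹ * (x * g * x⁻¹)⁻¹) * (x * g * x⁻¹ * g⁻¹) := by
        rw [zpow_sub, zpow_one, ← hk]; group
      rw [e]
      exact mul_mem h6 ((le_sup_left : H ≤ H ⊔ L) h5)
    have hH : g ^ (k - 1) ∈ H := by
      obtain ⟨u, hu, l, hl, hul⟩ := Subgroup.mem_sup_of_normal_left.1 hmem
      rw [← QuotientGroup.eq_one_iff, ← orderOf_eq_one_iff]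
      refine Nat.eq_one_of_dvd_coprimes (((Nat.Prime.coprime_iff_not_dvd hp).2 hLnd).pow_left s) ?_ ?_
      · refine orderOf_dvd_of_pow_eq_one ?_
        rw [← QuotientGroup.mk_pow, ← zpow_natCast, ← zpow_mul, mul_comm, zpow_mul, zpow_natCast, hgs, one_zpow,
          QuotientGroup.mk_one]
      · rw [← hul, QuotientGroup.mk_mul, (QuotientGroup.eq_one_iff u).2 hu, one_mul]
        refine orderOf_dvd_of_pow_eq_one ?_
        rw [← QuotientGroup.mk_pow, show l ^ Nat.card L = 1 from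
          congrArg Subtype.val (pow_card_eq_one' (x := (⟨l, hl⟩ : L))), QuotientGroup.mk_one]
    by_contra hcon
    refine hP0ltP fun a ha => ?_
    -- otherwise `g` is a power of `g ^ (k - 1)`
    obtain ⟨u, v, huv⟩ := (((Nat.prime_iff_prime_int.1 hp).coprime_iff_not_dvd.2 hcon).pow_left (m := s))
    obtain ⟨i, rfl⟩ := Subgroup.mem_zpowers_iff.1 (hg.symm ▸ ha : a ∈ Subgroup.zpowers g)
    refine H.zpow_mem ?_ i
    have e : g = (g ^ (k - 1)) ^ v := by
      conv_lhs => rw [← zpow_one g, ← huv, zpow_add, mul_comm u, zpow_mul, ← Nat.cast_pow,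
        zpow_natCast, hgs, one_zpow, one_mul, mul_comm v, zpow_mul]
    rw [e]; exact H.zpow_mem hH v
  -- Burnside in `H`
  have hQle : Subgroup.normalizer (Q : Set H) ≤ Subgroup.centralizer (Q : Set H) := by
    intro x hx
    have hxN : (x : G) ∈ N := by
      rw [hN, Subgroup.mem_normalizer_iff]
      intro a
      constructor
      · intro ha
        exact (Subgroup.mem_normalizer_iff.1 hx ⟨a, ha.2⟩).1 ha
      · intro ha
        have haH : a ∈ H := by
          have := ‹H.Normal›.conj_mem _ ha.2 (x : G)⁻¹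
          simpa [mul_assoc] using this
        exact (Subgroup.mem_normalizer_iff.1 hx ⟨a, haH⟩).2 ha
    have := hNH x x.2 hxN
    rw [hC, Subgroup.mem_centralizer_iff] at this
    rw [Subgroup.mem_centralizer_iff]
    exact fun a ha => Subtype.ext (this a ha)
  set K' := (MonoidHom.transferSylow Q hQle).ker with hK'
  have hK'c := MonoidHom.ker_transferSylow_isComplement' Q hQle
  refine ⟨⟨Q, K', inferInstance, hK'c⟩, ?_⟩
  set K := K'.map H.subtype with hK
  have hKnd : ¬ p ∣ Nat.card K := by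
    rw [hK, Subgroup.card_map_of_injective H.subtype_injective]
    exact MonoidHom.not_dvd_card_ker_transferSylow Q hQle
  have hKnormal : K.Normal := by
    refine ⟨fun u hu a => ?_⟩
    have huH : u ∈ H := Subgroup.map_subtype_le _ hu
    refine ⟨⟨a * u * a⁻¹, ‹H.Normal›.conj_mem u huH a⟩, ?_, rfl⟩
    rw [SetLike.mem_coe, hK', MonoidHom.mem_ker, ← orderOf_eq_one_iff]
    obtain ⟨e, he⟩ := IsPGroup.iff_orderOf.1 Q.2
      (MonoidHom.transferSylow Q hQle ⟨a * u * a⁻¹, ‹H.Normal›.conj_mem u huH a⟩)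
    refine Nat.eq_one_of_dvd_coprimes ((((Nat.Prime.coprime_iff_not_dvd hp).2 hKnd)).pow_left e) (he ▸ dvd_rfl) ?_
    refine (orderOf_map_dvd _ _).trans (orderOf_dvd_of_pow_eq_one (Subtype.ext ?_))
    rw [SubmonoidClass.coe_pow, conj_pow, show u ^ Nat.card K = 1 from
      congrArg Subtype.val (pow_card_eq_one' (x := (⟨u, hu⟩ : K))), mul_one, mul_inv_cancel]
    rfl
  have hfrat : N ⊔ H = ⊤ := by
    have := Q.normalizer_sup_eq_top
    rw [show ((Q : Subgroup H).map H.subtype) = P0 from Subgroup.map_subgroupOf_eq_of_le inf_le_right] at this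
    exact this
  have hsupnormal : ∀ M : Subgroup G, (∀ n ∈ N, ∀ c ∈ M, n * c * n⁻¹ ∈ M) → (H ⊔ M).Normal := by
    intro M hM
    rw [← Subgroup.normalizer_eq_top_iff, eq_top_iff, ← hfrat, sup_le_iff]
    refine ⟨fun n hn => ?_, le_sup_left.trans Subgroup.le_normalizer⟩
    have hstep : ∀ n ∈ N, ∀ d ∈ H ⊔ M, n * d * n⁻¹ ∈ H ⊔ M := by
      intro n hn d hd
      obtain ⟨u, hu, v, hv, rfl⟩ := Subgroup.mem_sup_of_normal_left.1 hd
      rw [show n * (u * v) * n⁻¹ = (n * u * n⁻¹) * (n * v * n⁻¹) by group]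
      exact mul_mem ((le_sup_left : H ≤ H ⊔ M) (‹H.Normal›.conj_mem u hu n))
        ((le_sup_right : M ≤ H ⊔ M) (hM n hn v hv))
    rw [Subgroup.mem_normalizer_iff]
    refine fun d => ⟨hstep n hn d, fun hd => ?_⟩
    have := hstep n⁻¹ (N.inv_mem hn) _ hd
    simpa [mul_assoc] using this
  let S : Fin 6 → Subgroup G := ![⊥, K, H, H ⊔ L, H ⊔ C, ⊤]
  have hLC : L ≤ C := Subgroup.map_subtype_le _
  have hdvd : ∀ A B : Subgroup G, A.Normal → A.relIndex (A ⊔ B) ∣ Nat.card B := by
    intro A B hA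
    rw [Subgroup.relIndex_sup_left]
    exact Subgroup.relIndex_dvd_card A B
  refine ⟨5, S, rfl, rfl, Fin.monotone_iff_le_succ.2 ?_, ?_, ?_⟩
  · intro i
    fin_cases i
    exacts [bot_le, Subgroup.map_subtype_le _, le_sup_left, sup_le_sup_left hLC _, le_top]
  · intro i
    fin_cases i
    exacts [inferInstanceAs (⊥ : Subgroup G).Normal, hKnormal, ‹H.Normal›, hsupnormal L hLnorm,
      hsupnormal C hCnorm, inferInstanceAs (⊤ : Subgroup G).Normal]
  · intro i
    fin_cases i
    · exact Or.inr (by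
        show ((⊥ : Subgroup G).relIndex K).Coprime p
        rw [Subgroup.relIndex_bot_left]
        exact ((Nat.Prime.coprime_iff_not_dvd hp).2 hKnd).symm)
    · refine Or.inl ?_
      show ∃ m, K.relIndex H = p ^ m
      rw [Subgroup.relIndex, hK, show (K'.map H.subtype).subgroupOf H = K' from Subgroup.comap_map_eq_self_of_injective H.subtype_injective _,
        hK'c.symm.index_eq_card]
      exact IsPGroup.iff_card.1 Q.2
    · refine Or.inr ?_
      show (H.relIndex (H ⊔ L)).Coprime p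
      exact Nat.Coprime.coprime_dvd_left (hdvd H L ‹_›) ((Nat.Prime.coprime_iff_not_dvd hp).2 hLnd).symm
    · refine Or.inl ?_
      show ∃ m, (H ⊔ L).relIndex (H ⊔ C) = p ^ m
      haveI := hsupnormal L hLnorm
      have h5 : (H ⊔ L).relIndex (H ⊔ C) = (H ⊔ L).relIndex C := by
        rw [show H ⊔ C = (H ⊔ L) ⊔ C by rw [sup_assoc, sup_eq_right.2 hLC], Subgroup.relIndex_sup_left]
      obtain ⟨e, he⟩ := IsPGroup.iff_card.1 PC.2
      have h6 : (H ⊔ L).relIndex C ∣ p ^ e := by
        rw [← he, ← hL'c.symm.index_eq_card, ← hL',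
          ← show L.subgroupOf C = L' from Subgroup.comap_map_eq_self_of_injective C.subtype_injective _]
        exact Subgroup.relIndex_dvd_of_le_left C le_sup_right
      obtain ⟨m, -, hm⟩ := (Nat.dvd_prime_pow hp).1 h6
      exact ⟨m, h5.trans hm⟩
    · refine Or.inr ?_
      show ((H ⊔ C).relIndex ⊤).Coprime p
      rw [Subgroup.relIndex_top_right]
      exact ((Nat.Prime.coprime_iff_not_dvd hp).2 fun h => P.not_dvd_index
        (h.trans (Subgroup.index_dvd_of_le (hPC.trans le_sup_right)))).symm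

end Cfsg.Agent.S4145
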