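import Cfsg.Statements.S4149
import Cfsg.Agent.Lib.ClassSize.SylowCentralizer

set_option autoImplicit false
open Cfsg

namespace Cfsg.Agent.S4149

/-- Let G be a finite group that has a normal p-complement for at most one prime p dividing its order, and let σ be a natural number such that every conjugacy class size of G has at most σ distinct prime divisors. Then the number of primes dividing at least one conjugacy class size of G is at most 2σ. -/
theorem result {G : Type*} [Group G] [Finite G] (σ : ℕ)
    (hσ : ∀ x : G, ((Subgroup.centralizer ({x} : Set G)).index).primeFactors.card ≤ σ)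
    (hnil : ∀ p q : ℕ, p.Prime → q.Prime → p ∣ Nat.card G → q ∣ Nat.card G →
      Cfsg.HasNormalPComplement p G → Cfsg.HasNormalPComplement q G → p = q) :
    Nat.card {p : ℕ | p.Prime ∧ ∃ x : G, p ∣ (Subgroup.centralizer ({x} : Set G)).index} ≤ 2 * σ := by
  classical
  cases nonempty_fintype G
  set idx : G → ℕ := fun x => (Subgroup.centralizer ({x} : Set G)).index with hidx
  have hne : Nat.card G ≠ 0 := Nat.card_pos.ne'
  set ρ : Finset ℕ := (Nat.card G).primeFactors.filter fun p => ∃ x : G, p ∣ idx x with hρ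
  have hset : {p : ℕ | p.Prime ∧ ∃ x : G, p ∣ (Subgroup.centralizer ({x} : Set G)).index} = ↑ρ := by
    ext p
    simp only [Set.mem_ofPred_eq, hρ, Finset.coe_filter, Nat.mem_primeFactors]
    exact ⟨fun ⟨hp, x, hx⟩ => ⟨⟨hp, hx.trans (Subgroup.index_dvd_card _), hne⟩, x, hx⟩,
      fun ⟨⟨hp, _, _⟩, hx⟩ => ⟨hp, hx⟩⟩
  rw [hset, Nat.card_coe_set_eq, Set.ncard_coe_finset]
  rcases Nat.eq_zero_or_pos ρ.card with h0 | hpos
  · omega
  -- at most one prime of `ρ` has a normal complement
  set sp := ρ.filter fun p => Cfsg.HasNormalPComplement p G with hsp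
  have hsp1 : sp.card ≤ 1 := by
    refine Finset.card_le_one.2 fun p hp q hq => ?_
    simp only [hsp, hρ, Finset.mem_filter, Nat.mem_primeFactors] at hp hq
    exact hnil p q hp.1.1.1 hq.1.1.1 hp.1.1.2.1 hq.1.1.2.1 hp.2 hq.2
  have hlow : ∀ p ∈ ρ, ¬ Cfsg.HasNormalPComplement p G →
      Nat.card G ≤ 2 * (Finset.univ.filter fun x => p ∣ idx x).card := by
    intro p hp hnp
    simp only [hρ, Finset.mem_filter, Nat.mem_primeFactors] at hp
    haveI : Fact p.Prime := ⟨hp.1.1⟩
    have h1 := CfsgLib.ClassSize.two_mul_ncard_coprimeClassSet_le p hnp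
    have h2 : CfsgLib.ClassSize.coprimeClassSet G p =
        ↑(Finset.univ.filter fun x => ¬ p ∣ idx x) := by
      simp [CfsgLib.ClassSize.coprimeClassSet, hidx]
    rw [h2, Set.ncard_coe_finset] at h1
    have h3 := Finset.card_filter_add_card_filter_not (s := (Finset.univ : Finset G)) (fun x => p ∣ idx x)
    rw [Finset.card_univ, ← Nat.card_eq_fintype_card] at h3
    omega
  have hsum : (ρ.card - 1) * Nat.card G ≤
      2 * ∑ p ∈ ρ, (Finset.univ.filter fun x => p ∣ idx x).card := by
    rw [Finset.mul_sum]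
    calc (ρ.card - 1) * Nat.card G ≤ ∑ _p ∈ ρ.filter (fun p => ¬ Cfsg.HasNormalPComplement p G), Nat.card G := by
          rw [Finset.sum_const, smul_eq_mul]
          refine Nat.mul_le_mul_right _ ?_
          have := Finset.card_filter_add_card_filter_not (s := ρ) (fun p => Cfsg.HasNormalPComplement p G)
          rw [← hsp] at this
          omega
      _ ≤ ∑ p ∈ ρ.filter (fun p => ¬ Cfsg.HasNormalPComplement p G),
            2 * (Finset.univ.filter fun x => p ∣ idx x).card :=
          Finset.sum_le_sum fun p hp => hlow p (Finset.mem_filter.1 hp).1 (Finset.mem_filter.1 hp).2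
      _ ≤ _ := Finset.sum_le_sum_of_subset (Finset.filter_subset _ _)
  have hswap : ∑ p ∈ ρ, (Finset.univ.filter fun x => p ∣ idx x).card =
      ∑ x : G, (ρ.filter fun p => p ∣ idx x).card := by
    simp only [Finset.card_filter]
    exact Finset.sum_comm
  have hone : ρ.filter (fun p => p ∣ idx 1) = ∅ := by
    refine Finset.filter_eq_empty_iff.2 fun p hp => ?_
    simp only [hρ, Finset.mem_filter, Nat.mem_primeFactors] at hp
    exact fun h => (CfsgLib.ClassSize.one_mem_coprimeClassSet (G := G) p hp.1.1.ne_one) h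
  have hup : ∑ x : G, (ρ.filter fun p => p ∣ idx x).card ≤ (Nat.card G - 1) * σ := by
    rw [← Finset.sum_erase (a := (1 : G)) _ (by rw [hone, Finset.card_empty])]
    refine le_trans (Finset.sum_le_card_nsmul _ _ σ fun x _ => ?_) ?_
    · refine le_trans (Finset.card_le_card ?_) (hσ x)
      intro p hp
      simp only [hρ, Finset.mem_filter, Nat.mem_primeFactors] at hp
      exact Nat.mem_primeFactors.2 ⟨hp.1.1.1, hp.2, Subgroup.index_ne_zero_of_finite⟩
    · simp [Finset.card_univ, Nat.card_eq_fintype_card]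
  have hσpos : 0 < σ := by
    obtain ⟨p, hp⟩ := Finset.card_pos.1 hpos
    simp only [hρ, Finset.mem_filter, Nat.mem_primeFactors] at hp
    obtain ⟨x, hx⟩ := hp.2
    exact lt_of_lt_of_le (Finset.card_pos.2
      ⟨p, Nat.mem_primeFactors.2 ⟨hp.1.1, hx, Subgroup.index_ne_zero_of_finite⟩⟩) (hσ x)
  rw [hswap] at hsum
  have hfin : (ρ.card - 1) * Nat.card G < 2 * σ * Nat.card G := by
    calc (ρ.card - 1) * Nat.card G ≤ 2 * ((Nat.card G - 1) * σ) := by omega
      _ = (2 * σ) * (Nat.card G - 1) := by ring
      _ < 2 * σ * Nat.card G := Nat.mul_lt_mul_of_pos_left (by omega) (by omega)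
  have := Nat.lt_of_mul_lt_mul_right hfin
  omega

end Cfsg.Agent.S4149
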