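import Cfsg.Statements.S4150
import Cfsg.Agent.Lib.AltTwoGen.Small
import Cfsg.Agent.Lib.AltSpec.ThreePrimes

set_option autoImplicit false
open Cfsg

namespace Cfsg.Agent.S4150
open Equiv Equiv.Perm MulAction

/-- The group generated by two even permutations, a `q`-cycle `t` and an element `s` of order `p`,
acting on the union of their supports. -/
theorem main {α : Type*} [Fintype α] [DecidableEq α] (s t : Equiv.Perm α) (hs : Equiv.Perm.sign s = 1)
    (ht : Equiv.Perm.sign t = 1) {p q : ℕ} (hp : p.Prime) (hq : q.Prime) (hsp : orderOf s = p)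
    (htq : orderOf t = q) (hpq : p < q) (h2p : Fintype.card α ≤ 2 * p) (hqm : q ≤ Fintype.card α)
    (hsel : (Fintype.card α < 2 * p ∧ p + 3 ≤ q) ∨ (p = 3 ∧ q = 5) ∨ (p = 5 ∧ q = 7) ∨
      (p = 11 ∧ q = 13 ∧ Fintype.card α < 2 * p)) :
    ∃ d : ℕ, 5 ≤ d ∧ Nonempty (Subgroup.closure ({s, t} : Set (Equiv.Perm α)) ≃* alternatingGroup (Fin d)) := by
  classical
  set U := s.support ∪ t.support with hU
  have hUs : ∀ x, s x ≠ x → x ∈ U := fun x hx => Finset.mem_union_left _ (Equiv.Perm.mem_support.2 hx)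
  have hUt : ∀ x, t x ≠ x → x ∈ U := fun x hx => Finset.mem_union_right _ (Equiv.Perm.mem_support.2 hx)
  have hiff : ∀ f : Equiv.Perm α, (∀ x, f x ≠ x → x ∈ U) → ∀ x, f x ∈ U ↔ x ∈ U := by
    intro f hf x
    by_cases hx : f x = x
    · rw [hx]
    · exact iff_of_true (hf _ fun h => hx (f.injective h)) (hf x hx)
  set s' : Equiv.Perm {x // x ∈ U} := s.subtypePerm (hiff s hUs) with hs'
  set t' : Equiv.Perm {x // x ∈ U} := t.subtypePerm (hiff t hUt) with ht'
  have hs'' : Equiv.Perm.ofSubtype s' = s := Equiv.Perm.ofSubtype_subtypePerm (hiff s hUs) hUs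
  have ht'' : Equiv.Perm.ofSubtype t' = t := Equiv.Perm.ofSubtype_subtypePerm (hiff t hUt) hUt
  set G := Subgroup.closure ({s', t'} : Set (Equiv.Perm {x // x ∈ U})) with hG
  have hmap : G.map Equiv.Perm.ofSubtype = Subgroup.closure ({s, t} : Set (Equiv.Perm α)) := by
    rw [hG, MonoidHom.map_closure, Set.image_pair, hs'', ht'']
  have iso : G ≃* Subgroup.closure ({s, t} : Set (Equiv.Perm α)) :=
    (G.equivMapOfInjective _ Equiv.Perm.ofSubtype_injective).trans (MulEquiv.subgroupCongr hmap)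
  have hsG : s' ∈ G := Subgroup.subset_closure (Set.mem_insert _ _)
  have htG : t' ∈ G := Subgroup.subset_closure (Set.mem_insert_of_mem _ rfl)
  have heven : G ≤ alternatingGroup {x // x ∈ U} := by
    rw [hG, Subgroup.closure_le]
    rintro f (rfl | rfl)
    · exact Equiv.Perm.mem_alternatingGroup.2 ((Equiv.Perm.sign_ofSubtype s').symm.trans (by rw [hs'']; exact hs))
    · exact Equiv.Perm.mem_alternatingGroup.2 ((Equiv.Perm.sign_ofSubtype t').symm.trans (by rw [ht'']; exact ht))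
  have hs'p : orderOf s' = p := by
    rw [← orderOf_injective _ Equiv.Perm.ofSubtype_injective, hs'', hsp]
  have ht'q : orderOf t' = q := by
    rw [← orderOf_injective _ Equiv.Perm.ofSubtype_injective, ht'', htq]
  set d := Fintype.card {x // x ∈ U} with hd
  have hdm : d ≤ Fintype.card α := Fintype.card_subtype_le _
  have htc : t'.IsCycle := Equiv.Perm.isCycle_of_prime_order' (by rw [ht'q]; exact hq) (by rw [ht'q]; omega)
  have htcard : t'.support.card = q := by rw [← htc.orderOf, ht'q]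
  have hqd : q ≤ d := htcard ▸ t'.support.card_le_univ
  have hmove : ∀ x, t' x = x → s' x ≠ x := by
    intro x hx hx'
    rcases Finset.mem_union.1 x.2 with h | h
    · exact Equiv.Perm.mem_support.1 h (congrArg Subtype.val hx')
    · exact Equiv.Perm.mem_support.1 h (congrArg Subtype.val hx)
  haveI hpre : IsPretransitive G {x // x ∈ U} := CfsgLib.AltTwoGen.isPretransitive_of_two G hsG htG htc
    (by rw [hs'p]; exact hp) (by rw [hs'p, htcard]; omega) hmove
  have hprim := CfsgLib.AltTwoGen.isPreprimitive_of_cycle G htc htG (by rw [htcard]; exact hq) (by rw [htcard]; omega)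
  have hsc : d < 2 * p → s'.IsCycle ∧ s'.support.card = p := fun h => by
    have h1 : s'.IsCycle := Equiv.Perm.isCycle_of_prime_order' (by rw [hs'p]; exact hp) (by rw [hs'p]; omega)
    exact ⟨h1, by rw [← h1.orderOf, hs'p]⟩
  have finish : alternatingGroup {x // x ∈ U} ≤ G →
      ∃ d : ℕ, 5 ≤ d ∧ Nonempty (Subgroup.closure ({s, t} : Set (Equiv.Perm α)) ≃* alternatingGroup (Fin d)) := by
    intro h
    refine ⟨d, ?_, ⟨(iso.symm.trans (MulEquiv.subgroupCongr (le_antisymm heven h))).trans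
      (Equiv.altCongrHom (Fintype.equivFin _))⟩⟩
    have := hp.two_le
    omega
  have jordan : ∀ g ∈ G, g.IsCycle → ∀ r : ℕ, r.Prime → g.support.card = r → r + 3 ≤ d → 5 ≤ d →
      alternatingGroup {x // x ∈ U} ≤ G := fun g hg hgc r hr hgr hr3 h5 =>
    Cfsg.Agent.S0713.result G hprim hr h5 hr3 hgc hgr hg
  rcases hsel with ⟨h1, h2⟩ | ⟨rfl, rfl⟩ | ⟨rfl, rfl⟩ | ⟨rfl, rfl, h1⟩
  · obtain ⟨hc, hcard⟩ := hsc (by omega)
    exact finish (jordan _ hsG hc p hp hcard (by omega) (by have := hp.two_le; omega))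
  · by_cases h6 : d = 5
    · obtain ⟨hc, hcard⟩ := hsc (by omega)
      exact finish (Equiv.Perm.alternatingGroup_le_of_isPreprimitive_of_isThreeCycle_mem hprim
        (card_support_eq_three_iff.1 hcard) hsG)
    rcases CfsgLib.AltTwoGen.iso_six heven (show d = 6 by omega) hsG hs'p htG htc htcard with h | h
    · exact finish h
    · obtain ⟨e⟩ := h
      exact ⟨5, le_rfl, ⟨iso.symm.trans e⟩⟩
  · by_cases h10 : 10 ≤ d
    · exact finish (jordan _ htG htc 7 hq htcard (by omega) (by omega))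
    obtain ⟨hc, hcard⟩ := hsc (by omega)
    by_cases h8 : 8 ≤ d
    · exact finish (jordan _ hsG hc 5 hp hcard (by omega) (by omega))
    exact finish (CfsgLib.AltTwoGen.alternating_le_seven heven (show d = 7 by omega) hprim hsG hc hcard htG htc htcard)
  · obtain ⟨hc, hcard⟩ := hsc (by omega)
    by_cases h14 : 14 ≤ d
    · exact finish (jordan _ hsG hc 11 hp hcard (by omega) (by omega))
    exact finish (CfsgLib.AltTwoGen.alternating_le_thirteen heven (show d = 13 by omega) hprim hsG hc hcard)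



/-- Let m ≥ 5. Then there are primes p < q with m/2 ≤ p and q ≤ m such that any two elements x, y of the alternating group of degree m with x of order p and y of order q generate a subgroup isomorphic to an alternating group of some degree d ≥ 5. -/
theorem result (m : ℕ) (hm : 5 ≤ m) :
    ∃ p q : ℕ, p.Prime ∧ q.Prime ∧ m ≤ 2 * p ∧ p < q ∧ q ≤ m ∧
      ∀ x y : alternatingGroup (Fin m), orderOf x = p → orderOf y = q →
        ∃ d : ℕ, 5 ≤ d ∧ Nonempty (Subgroup.closure ({x, y} : Set (alternatingGroup (Fin m))) ≃* alternatingGroup (Fin d)) := by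
  suffices h : ∃ p q : ℕ, p.Prime ∧ q.Prime ∧ m ≤ 2 * p ∧ p < q ∧ q ≤ m ∧
      ((m < 2 * p ∧ p + 3 ≤ q) ∨ (p = 3 ∧ q = 5) ∨ (p = 5 ∧ q = 7) ∨ (p = 11 ∧ q = 13 ∧ m < 2 * p)) by
    obtain ⟨p, q, hp, hq, h1, h2, h3, h4⟩ := h
    refine ⟨p, q, hp, hq, h1, h2, h3, fun x y hx hy => ?_⟩
    obtain ⟨d, hd, ⟨e⟩⟩ := main (x : Equiv.Perm (Fin m)) (y : Equiv.Perm (Fin m))
      (Equiv.Perm.mem_alternatingGroup.1 x.2) (Equiv.Perm.mem_alternatingGroup.1 y.2) hp hq
      (by rw [Subgroup.orderOf_coe, hx]) (by rw [Subgroup.orderOf_coe, hy]) h2 (by simpa using h1)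
      (by simpa using h3) (by simpa using h4)
    refine ⟨d, hd, ⟨?_⟩⟩
    refine ((Subgroup.equivMapOfInjective _ (alternatingGroup (Fin m)).subtype
      (alternatingGroup (Fin m)).subtype_injective).trans (MulEquiv.subgroupCongr ?_)).trans e
    rw [MonoidHom.map_closure, Set.image_pair]
    rfl
  rcases Nat.lt_or_ge m 7 with h7 | h7
  · exact ⟨3, 5, by norm_num, by norm_num, by omega, by omega, by omega, Or.inr (Or.inl ⟨rfl, rfl⟩)⟩
  rcases Nat.lt_or_ge m 11 with h11 | h11
  · exact ⟨5, 7, by norm_num, by norm_num, by omega, by omega, by omega, Or.inr (Or.inr (Or.inl ⟨rfl, rfl⟩))⟩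
  by_cases h14 : 14 ≤ m ∧ m < 17
  · exact ⟨11, 13, by norm_num, by norm_num, by omega, by omega, by omega,
      Or.inr (Or.inr (Or.inr ⟨rfl, rfl, by omega⟩))⟩
  obtain ⟨p, q, hp, hq, h1, h2, h3⟩ := CfsgLib.AltSpec.exists_separated_primes m h11 (by omega)
  exact ⟨p, q, hp, hq, by omega, by omega, h3, Or.inl ⟨h2, h1⟩⟩

end Cfsg.Agent.S4150
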