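import Cfsg.Statements.S4151
import Cfsg.Agent.Lib.Solvable.CoprimeGeneration
import Cfsg.Agent.Lib.Solvable.CoprimeAction
import Cfsg.Agent.Lib.Solvable.Basic
import Cfsg.Agent.Lib.PGroup.CyclicMaximal
import Mathlib.GroupTheory.SpecificGroups.ZGroup
import Mathlib.GroupTheory.Transfer
import Mathlib.NumberTheory.Multiplicity
import Mathlib.RingTheory.Int.Basic

set_option autoImplicit false
open Cfsg

namespace Cfsg.Agent.S4151

open scoped commutatorElement

variable {G : Type*} [Group G] [Finite G]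

/-- A normaliser element fixing a non-identity element of a cyclic `p`-subgroup and having order
prime to `p` centralises it. -/
theorem mem_centralizer_of_fix {p : ℕ} [Fact p.Prime] (P : Subgroup G) (hP : IsPGroup p P)
    (hc : IsCyclic P) (y : G) (hy : y ∈ Subgroup.normalizer (P : Set G)) (hord : (orderOf y).Coprime p)
    (b : G) (hb : b ∈ P) (hb1 : b ≠ 1) (hfix : y * b = b * y) :
    y ∈ Subgroup.centralizer (P : Set G) := by
  have hp : p.Prime := Fact.out
  obtain ⟨g, hg⟩ := (Subgroup.isCyclic_iff_exists_zpowers_eq_top P).1 hc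
  have hgP : g ∈ P := hg ▸ Subgroup.mem_zpowers g
  obtain ⟨s, hs⟩ := IsPGroup.iff_card.1 hP
  have hgord : orderOf g = p ^ s := by rw [← hs, ← hg, Nat.card_zpowers]
  obtain ⟨k, hk⟩ := Subgroup.mem_zpowers_iff.1
    (hg.symm ▸ (Subgroup.mem_normalizer_iff.1 hy g).1 hgP : y * g * y⁻¹ ∈ Subgroup.zpowers g)
  obtain ⟨j, hj⟩ := Subgroup.mem_zpowers_iff.1 (hg.symm ▸ hb : b ∈ Subgroup.zpowers g)
  have hpow : ∀ n : ℕ, y ^ n * g * (y ^ n)⁻¹ = g ^ (k ^ n) := by
    intro n
    induction n with
    | zero => simp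
    | succ n ih =>
      calc y ^ (n + 1) * g * (y ^ (n + 1))⁻¹ = y * (y ^ n * g * (y ^ n)⁻¹) * y⁻¹ := by
            rw [pow_succ']; group
        _ = (y * g * y⁻¹) ^ (k ^ n) := by rw [ih, conj_zpow]
        _ = g ^ (k ^ (n + 1)) := by rw [← hk, ← zpow_mul, pow_succ']
  have hdvd : (p : ℤ) ∣ k - 1 := by
    have h5 : y * b * y⁻¹ = b := by rw [hfix, mul_inv_cancel_right]
    rw [← hj, ← conj_zpow, ← hk, ← zpow_mul, ← mul_inv_eq_one, ← zpow_neg, ← zpow_add,
      ← orderOf_dvd_iff_zpow_eq_one, hgord] at h5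
    have h6 : ¬ ((p ^ s : ℕ) : ℤ) ∣ j := by
      rw [← hgord, orderOf_dvd_iff_zpow_eq_one, hj]; exact hb1
    by_contra hcon
    refine h6 ?_
    have h7 : IsCoprime ((p ^ s : ℕ) : ℤ) (k - 1) := by
      push_cast
      exact ((Nat.prime_iff_prime_int.1 hp).coprime_iff_not_dvd.2 hcon).pow_left
    refine h7.dvd_of_dvd_mul_right ?_
    rwa [show j * (k - 1) = k * j + -j by ring]
  have h4 : Commute (y ^ p ^ s) g := by
    have h2 := dvd_sub_pow_of_dvd_sub hdvd s
    rw [one_pow] at h2
    obtain ⟨c, hc⟩ : ((p ^ s : ℕ) : ℤ) ∣ k ^ p ^ s - 1 := by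
      push_cast; exact (pow_dvd_pow _ (Nat.le_succ s)).trans h2
    have h3 := hpow (p ^ s)
    rw [sub_eq_iff_eq_add] at hc
    rw [hc, zpow_add, zpow_mul, zpow_natCast, ← hgord, pow_orderOf_eq_one, one_zpow, one_mul,
      zpow_one, hgord] at h3
    exact mul_inv_eq_iff_eq_mul.1 h3
  obtain ⟨m, hm⟩ := exists_pow_eq_self_of_coprime (x := y) (hord.symm.pow_left s)
  rw [Subgroup.mem_centralizer_iff]
  intro c hc
  obtain ⟨i, rfl⟩ := Subgroup.mem_zpowers_iff.1 (hg.symm ▸ hc : c ∈ Subgroup.zpowers g)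
  rw [← hm]
  exact (((h4.pow_left m).zpow_right i).symm).eq

/-- If `Q` centralises a Sylow subgroup `P` of `E` which is central in its normaliser in `E`, then
`[E, Q]` lies in a subgroup of order prime to `p`. -/
theorem not_dvd_card_commutator {p : ℕ} [Fact p.Prime] (E Q : Subgroup G) (P : Sylow p E)
    (hQE : Q ≤ Subgroup.normalizer (E : Set G))
    (hPQ : ∀ x : E, x ∈ (P : Subgroup E) → ∀ q ∈ Q, q * (x : G) = x * q)
    (hN : Subgroup.normalizer (P : Set E) ≤ Subgroup.centralizer (P : Set E)) :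
    ¬ p ∣ Nat.card ↥⁅E, Q⁆ := by
  have hp : p.Prime := Fact.out
  set L' := (MonoidHom.transferSylow P hN).ker with hL'
  set L := L'.map E.subtype with hL
  have hLnd : ¬ p ∣ Nat.card L := by
    rw [hL, Subgroup.card_map_of_injective E.subtype_injective]
    exact MonoidHom.not_dvd_card_ker_transferSylow P hN
  have hLmem : ∀ c ∈ E, c ^ Nat.card L = 1 → c ∈ L := by
    intro c hc hcm
    refine ⟨⟨c, hc⟩, ?_, rfl⟩
    rw [SetLike.mem_coe, hL', MonoidHom.mem_ker, ← orderOf_eq_one_iff]
    obtain ⟨a, ha⟩ := IsPGroup.iff_orderOf.1 P.2 (MonoidHom.transferSylow P hN ⟨c, hc⟩)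
    refine Nat.eq_one_of_dvd_coprimes ((((Nat.Prime.coprime_iff_not_dvd hp).2 hLnd)).pow_left a) (ha ▸ dvd_rfl) ?_
    exact (orderOf_map_dvd _ _).trans (orderOf_dvd_of_pow_eq_one (Subtype.ext (by simpa using hcm)))
  refine fun hd => hLnd (hd.trans (Subgroup.card_dvd_of_le (Subgroup.commutator_le.2 fun e he q hq => ?_)))
  -- write `e` as a product
  obtain ⟨⟨⟨l, hl⟩, ⟨x, hx⟩⟩, hlx⟩ := (MonoidHom.ker_transferSylow_isComplement' P hN).2 ⟨e, he⟩
  have he' : (l : G) * x = e := congrArg Subtype.val hlx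
  have hql : q * (l : G)⁻¹ * q⁻¹ ∈ L := by
    refine hLmem _ ((Subgroup.mem_normalizer_iff.1 (hQE hq) _).1 (E.inv_mem l.2)) ?_
    have hlL : (l : G)⁻¹ ∈ L := L.inv_mem ⟨l, hl, rfl⟩
    rw [conj_pow, show ((l : G)⁻¹) ^ Nat.card L = 1 from
      congrArg Subtype.val (pow_card_eq_one' (x := (⟨_, hlL⟩ : L))), mul_one, mul_inv_cancel]
  have hc : q * (x : G) = x * q := hPQ x hx q hq
  have e1 : ⁅e, q⁆ = (l : G) * (q * (l : G)⁻¹ * q⁻¹) := by
    rw [← he', commutatorElement_def]
    calc (l : G) * x * q * ((l : G) * x)⁻¹ * q⁻¹ = l * (x * q * (x : G)⁻¹) * (l : G)⁻¹ * q⁻¹ := by group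
      _ = l * q * (l : G)⁻¹ * q⁻¹ := by rw [← hc, mul_inv_cancel_right]
      _ = _ := by group
  rw [e1]
  exact L.mul_mem ⟨l, hl, rfl⟩ hql


/-- Let G be a finite group and H a non-normal subgroup meeting each of its conjugates by elements outside N_G(H) trivially, with the order of H coprime to its index in N_G(H), such that G is π-separable for π the set of primes dividing the order of H (G has a chain of normal subgroups from 1 to G each of whose factors has order divisible only by primes dividing the order of H or coprime to it). Suppose a Sylow 2-subgroup of H is abelian and Q is a complement of H in N_G(H). Then C_H(Q), the subgroup of elements of H commuting with Q, has order coprime to its index in G and has a normal complement in G. -/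
theorem result {G : Type*} [Group G] [Finite G] (H : Subgroup G)
    (hTI : Cfsg.IsTISubset (H : Set G)) (hnn : ¬ H.Normal)
    (hHall : (Nat.card H).Coprime (H.subgroupOf (Subgroup.normalizer (H : Set G))).index)
    (hsep : ∃ (n : ℕ) (M : Fin (n + 1) → Subgroup G), M 0 = ⊥ ∧ M (Fin.last n) = ⊤ ∧ Monotone M ∧ (∀ i, (M i).Normal) ∧
      ∀ i : Fin n, (∀ q : ℕ, q.Prime → q ∣ (M i.castSucc).relIndex (M i.succ) → q ∣ Nat.card H) ∨
        ((M i.castSucc).relIndex (M i.succ)).Coprime (Nat.card H))
    (h2 : ∀ P : Sylow 2 H, IsMulCommutative (P : Subgroup H))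
    (Q : Subgroup G) (hQ : Q ≤ Subgroup.normalizer (H : Set G)) (hQH : Q ⊓ H = ⊥) (hQH' : Q ⊔ H = Subgroup.normalizer (H : Set G)) :
    (Nat.card ↥(H ⊓ Subgroup.centralizer (Q : Set G))).Coprime (H ⊓ Subgroup.centralizer (Q : Set G)).index ∧
    ∃ N : Subgroup G, N.Normal ∧ N.IsComplement' (H ⊓ Subgroup.centralizer (Q : Set G)) := by
  classical
  set NH := Subgroup.normalizer (H : Set G) with hNH
  have hHle : H ≤ NH := Subgroup.le_normalizer
  -- normalisers of nontrivial subgroups of `H`
  have hTI' : ∀ R ≤ H, R ≠ ⊥ → Subgroup.normalizer (R : Set G) ≤ NH := by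
    intro R hR hR1 g hg
    obtain ⟨x, hx, hx1⟩ := (Subgroup.bot_or_exists_ne_one R).resolve_left hR1
    by_contra hgn
    exact hx1 (hTI g hgn x (hR hx) (hR ((Subgroup.mem_normalizer_iff.1 hg x).1 hx)))
  have hHne : H ≠ ⊥ := fun h => hnn (by rw [h]; infer_instance)
  -- `H` is a Hall subgroup
  have hHallG : (Nat.card H).Coprime H.index := by
    rw [Nat.coprime_iff_gcd_eq_one]
    by_contra hne
    obtain ⟨p, hp, hpd⟩ := Nat.exists_prime_and_dvd hne
    have hpH := hpd.trans (Nat.gcd_dvd_left _ _)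
    have hpI := hpd.trans (Nat.gcd_dvd_right _ _)
    haveI : Fact p.Prime := ⟨hp⟩
    obtain ⟨P0⟩ := (inferInstance : Nonempty (Sylow p H))
    set R := (P0 : Subgroup H).map H.subtype with hR
    have hRp : IsPGroup p R := P0.2.map _
    obtain ⟨Q0, hQ0⟩ := hRp.exists_le_sylow
    have hRne : R ≠ ⊥ := by
      intro e
      have h1 := P0.dvd_card_of_dvd_card hpH
      rw [← Subgroup.card_map_of_injective (K := (P0 : Subgroup H)) H.subtype_injective, ← hR, e,
        Subgroup.card_bot] at h1
      exact hp.ne_one (Nat.dvd_one.1 h1)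
    have hneq : R ≠ (Q0 : Subgroup G) := by
      intro e
      have h1 : ¬ p ∣ R.index := e ▸ Q0.not_dvd_index
      rw [hR, Subgroup.index_map_subtype] at h1
      exact h1 (hpI.mul_left _)
    haveI : Group.IsNilpotent (Q0 : Subgroup G) := Q0.2.isNilpotent
    have hlt : R.subgroupOf (Q0 : Subgroup G) < ⊤ := lt_top_iff_ne_top.2 fun e =>
      hneq (le_antisymm hQ0 (Subgroup.subgroupOf_eq_top.1 e))
    obtain ⟨x, hxN, hxR⟩ := SetLike.exists_of_lt (Group.normalizerCondition_of_isNilpotent _ hlt)
    have hxNR : (x : G) ∈ Subgroup.normalizer (R : Set G) := by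
      rw [Subgroup.mem_normalizer_iff]
      intro r
      constructor
      · intro hr
        exact (Subgroup.mem_normalizer_iff.1 hxN ⟨r, hQ0 hr⟩).1 hr
      · intro hr
        have hrQ : r ∈ (Q0 : Subgroup G) := by
          have := mul_mem (mul_mem (inv_mem x.2) (hQ0 hr)) x.2
          simpa [mul_assoc] using this
        exact (Subgroup.mem_normalizer_iff.1 hxN ⟨r, hrQ⟩).2 hr
    have hS : R ⊔ Subgroup.zpowers (x : G) ≤ NH := sup_le ((Subgroup.map_subtype_le _).trans hHle)
      (Subgroup.zpowers_le.2 (hTI' R (Subgroup.map_subtype_le _) hRne hxNR))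
    set S := R ⊔ Subgroup.zpowers (x : G) with hSdef
    have hSp : IsPGroup p S := Q0.2.to_le (sup_le hQ0 (Subgroup.zpowers_le.2 x.2))
    obtain ⟨j, hj⟩ := IsPGroup.iff_card.1 hSp
    have hjle : Nat.card S ∣ Nat.card R := by
      have h1 : Nat.card S ∣ Nat.card H * (H.subgroupOf NH).index := by
        rw [← Nat.card_congr (Subgroup.subgroupOfEquivOfLe hHle).toEquiv, Subgroup.card_mul_index]
        exact Subgroup.card_dvd_of_le hS
      have h2 : Nat.card S ∣ Nat.card H := by
        refine Nat.Coprime.dvd_of_dvd_mul_right ?_ h1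
        rw [hj]
        exact (Nat.Coprime.coprime_dvd_left hpH hHall).pow_left j
      rw [hj] at h2 ⊢
      rw [hR, Subgroup.card_map_of_injective H.subtype_injective]
      exact P0.pow_dvd_card_of_pow_dvd_card h2
    refine hxR ?_
    show (x : G) ∈ R
    rw [Subgroup.eq_of_le_of_card_ge (le_sup_left : R ≤ S) (Nat.le_of_dvd Nat.card_pos hjle)]
    exact le_sup_right (a := R) (Subgroup.mem_zpowers (x : G))
  -- the first factor of order not prime to `H`
  obtain ⟨n, M, hM0, hMl, hmono, hnorm, hfac⟩ := hsep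
  have hinter : ∀ X : Subgroup G, X.Normal → ∀ q : ℕ, q.Prime → q ∣ Nat.card H → q ∣ Nat.card X →
      q ∣ Nat.card ↥(X ⊓ H) := by
    intro X hX q hq hqH hqX
    by_contra hnd
    haveI := hX
    haveI : Fact q.Prime := ⟨hq⟩
    have h1 : (X ⊓ H).relIndex H * Nat.card ↥(X ⊓ H) = Nat.card H := by
      have := Subgroup.relIndex_mul_relIndex ⊥ (X ⊓ H) H bot_le inf_le_right
      rw [Subgroup.relIndex_bot_left, Subgroup.relIndex_bot_left] at this
      rw [mul_comm]; exact this
    obtain ⟨P0⟩ := (inferInstance : Nonempty (Sylow q H))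
    have hP0 : ∃ S : Sylow q G, (S : Subgroup G) = (P0 : Subgroup H).map H.subtype := by
      obtain ⟨S, hS⟩ := (P0.2.map H.subtype).exists_le_sylow
      refine ⟨S, (Subgroup.eq_of_le_of_card_ge hS ?_).symm⟩
      obtain ⟨e, he⟩ := IsPGroup.iff_card.1 S.2
      have hd : Nat.card (S : Subgroup G) ∣ Nat.card H * H.index := by
        rw [Subgroup.card_mul_index]; exact Subgroup.card_subgroup_dvd_card _
      rw [he] at hd ⊢
      rw [Subgroup.card_map_of_injective H.subtype_injective]
      exact Nat.le_of_dvd Nat.card_pos (P0.pow_dvd_card_of_pow_dvd_card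
        (Nat.Coprime.dvd_of_dvd_mul_right ((Nat.Coprime.coprime_dvd_left hqH hHallG).pow_left e) hd))
    obtain ⟨S, hS⟩ := hP0
    obtain ⟨T, hT⟩ := exists_prime_orderOf_dvd_card' (G := X) q hqX
    obtain ⟨S', hS'⟩ := (IsPGroup.of_card (p := q) (n := 1) (G := Subgroup.zpowers (T : G))
      (by rw [Nat.card_zpowers, Subgroup.orderOf_coe, hT, pow_one])).exists_le_sylow
    obtain ⟨g, rfl⟩ := MulAction.exists_smul_eq G S S'
    rw [Sylow.coe_subgroup_smul] at hS'
    obtain ⟨s, hs, hsT⟩ := hS' (Subgroup.mem_zpowers (T : G))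
    have hsX : s ∈ X := by
      have h2 := hX.conj_mem _ T.2 g⁻¹
      have e : s = g⁻¹ * (T : G) * g⁻¹⁻¹ := by
        rw [← hsT]; show s = g⁻¹ * (g * s * g⁻¹) * g⁻¹⁻¹; group
      rwa [e]
    have hsH : s ∈ H := by rw [hS] at hs; exact Subgroup.map_subtype_le _ hs
    apply hnd
    have : orderOf (⟨s, hsX, hsH⟩ : ↥(X ⊓ H)) = q := by
      rw [← orderOf_injective (X ⊓ H).subtype (Subgroup.subtype_injective _), ← hT, ← Subgroup.orderOf_coe, ← hsT]
      show orderOf s = _
      exact (orderOf_injective (MulAut.conj g).toMonoidHom (MulAut.conj g).injective s).symm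
    rw [← this]
    exact orderOf_dvd_natCard _
  have hex : ∃ i : Fin (n + 1), ¬ (Nat.card (M i)).Coprime (Nat.card H) :=
    ⟨Fin.last n, by
      rw [hMl, Subgroup.card_top]
      intro hc
      exact hHne (Subgroup.card_eq_one.1 (Nat.Coprime.eq_one_of_dvd hc.symm H.card_subgroup_dvd_card))⟩
  obtain ⟨i₁, hi₁, hmin⟩ : ∃ i, ¬ (Nat.card (M i)).Coprime (Nat.card H) ∧ ∀ j < i, (Nat.card (M j)).Coprime (Nat.card H) := by
    obtain ⟨i, hi, hmin⟩ := wellFounded_lt.has_min {i : Fin (n + 1) | ¬ (Nat.card (M i)).Coprime (Nat.card H)} hex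
    exact ⟨i, hi, fun j hj => by_contra fun hc => hmin j hc hj⟩
  obtain ⟨i, rfl⟩ : ∃ i : Fin n, i.succ = i₁ := by
    refine Fin.exists_succ_eq.2 fun h0 => hi₁ ?_
    rw [h0, hM0, Subgroup.card_bot]
    exact Nat.coprime_one_left _
  set M0 := M i.castSucc with hM0def
  set M1 := M i.succ with hM1def
  haveI hM0n : M0.Normal := hnorm _
  haveI hM1n : M1.Normal := hnorm _
  have hle01 : M0 ≤ M1 := hmono (by simp [Fin.le_def])
  have hcop0 : (Nat.card M0).Coprime (Nat.card H) := hmin _ (by simp [Fin.lt_def])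
  have hprod1 : M0.relIndex M1 * Nat.card M0 = Nat.card M1 := by
    have := Subgroup.relIndex_mul_relIndex ⊥ M0 M1 bot_le hle01
    rw [Subgroup.relIndex_bot_left, Subgroup.relIndex_bot_left] at this
    rw [mul_comm]; exact this
  have hpiM1 : ∀ q : ℕ, q.Prime → q ∣ M0.relIndex M1 → q ∣ Nat.card H := by
    rcases hfac i with h | h
    · exact h
    · exfalso
      apply hi₁
      show (Nat.card M1).Coprime (Nat.card H)
      rw [← hprod1]
      exact h.mul_left hcop0
  -- `M1 = M0 (M1 ∩ H)`
  set H1 := M1 ⊓ H with hH1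
  have hdis01 : M0 ⊓ H1 = ⊥ :=
    Subgroup.inf_eq_bot_of_coprime (hcop0.coprime_dvd_right (Subgroup.card_dvd_of_le inf_le_right))
  have hM1eq : M0 ⊔ H1 = M1 := by
    refine Subgroup.eq_of_le_of_card_ge (sup_le hle01 inf_le_left) ?_
    rw [CfsgLib.Solvable.card_sup_of_disjoint (by rw [Subgroup.normalizer_eq_top]; exact le_top)
      (disjoint_iff.2 hdis01), ← hprod1, mul_comm]
    refine Nat.mul_le_mul_left _ (Nat.le_of_dvd Nat.card_pos ?_)
    have hcopR : (M0.relIndex M1).Coprime H.index := by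
      rw [Nat.coprime_iff_gcd_eq_one]
      by_contra hne
      obtain ⟨q, hq, hqd⟩ := Nat.exists_prime_and_dvd hne
      exact hq.ne_one (Nat.eq_one_of_dvd_coprimes hHallG
        (hpiM1 q hq (hqd.trans (Nat.gcd_dvd_left _ _))) (hqd.trans (Nat.gcd_dvd_right _ _)))
    refine Nat.Coprime.dvd_of_dvd_mul_left (hcopR.coprime_dvd_right (?_ : H.relIndex M1 ∣ H.index)) ?_
    · have h1 := Subgroup.relIndex_mul_relIndex (H ⊓ M1) H (H ⊔ M1) inf_le_left le_sup_left
      have h2 := Subgroup.relIndex_mul_relIndex (H ⊓ M1) M1 (H ⊔ M1) inf_le_right le_sup_right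
      rw [← h1, Subgroup.relIndex_sup_right, Subgroup.inf_relIndex_left, Subgroup.inf_relIndex_right,
        mul_comm (H.relIndex M1)] at h2
      have h0 : M1.relIndex H ≠ 0 := fun h0 => by
        have := Subgroup.relIndex_dvd_card M1 H
        rw [h0, zero_dvd_iff] at this
        exact Nat.card_pos.ne' this
      rw [Nat.eq_of_mul_eq_mul_left (Nat.pos_of_ne_zero h0) h2]
      exact Dvd.intro _ (Subgroup.relIndex_mul_index (le_sup_left : H ≤ H ⊔ M1))
    · refine ⟨Nat.card M0, ?_⟩
      rw [hprod1]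
      have := Subgroup.relIndex_mul_relIndex ⊥ H1 M1 bot_le inf_le_left
      rw [Subgroup.relIndex_bot_left, Subgroup.relIndex_bot_left, hH1, Subgroup.inf_relIndex_left] at this
      rw [hH1]; exact (mul_comm _ _).trans this
  -- `M0` is nontrivial and `G = M0 NH`
  obtain ⟨q, hq, hqM1, hqH⟩ := Nat.Prime.not_coprime_iff_dvd.1 hi₁
  haveI : Fact q.Prime := ⟨hq⟩
  obtain ⟨P1⟩ := (inferInstance : Nonempty (Sylow q M1))
  obtain ⟨T0⟩ := (inferInstance : Nonempty (Sylow q H1))
  set R1 := (T0 : Subgroup H1).map H1.subtype with hR1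
  have hR1M : R1 ≤ M1 := (Subgroup.map_subtype_le _).trans inf_le_left
  have hq1 : ¬ q ∣ R1.relIndex M1 := by
    rw [← Subgroup.relIndex_mul_relIndex R1 H1 M1 (Subgroup.map_subtype_le _) inf_le_left]
    rw [Nat.Prime.dvd_mul hq, not_or]
    refine ⟨?_, fun h => ?_⟩
    · rw [Subgroup.relIndex, show R1.subgroupOf H1 = T0 from
        Subgroup.comap_map_eq_self_of_injective H1.subtype_injective _]
      exact T0.not_dvd_index
    · have h1 : H1.relIndex M1 ∣ Nat.card M0 := by
        refine ⟨1, ?_⟩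
        have h2 := Subgroup.relIndex_mul_relIndex ⊥ H1 M1 bot_le inf_le_left
        rw [Subgroup.relIndex_bot_left, Subgroup.relIndex_bot_left] at h2
        have h3 := CfsgLib.Solvable.card_sup_of_disjoint (N := M0) (H := H1)
          (by rw [Subgroup.normalizer_eq_top]; exact le_top) (disjoint_iff.2 hdis01)
        rw [hM1eq, mul_comm] at h3
        rw [mul_one]
        exact Nat.eq_of_mul_eq_mul_left Nat.card_pos (h3.symm.trans h2.symm)
      exact hq.ne_one (Nat.eq_one_of_dvd_coprimes hcop0 (h.trans h1) hqH)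
  let P : Sylow q M1 :=
    { toSubgroup := R1.subgroupOf M1
      isPGroup' := (T0.2.map _).comap_subtype
      is_maximal' := fun {R} hR hle => (Subgroup.eq_of_le_of_card_ge hle (by
        obtain ⟨a, ha⟩ := IsPGroup.iff_card.1 hR
        rw [ha]
        refine Nat.le_of_dvd Nat.card_pos (Nat.Coprime.dvd_of_dvd_mul_right
          (((Nat.Prime.coprime_iff_not_dvd hq).2 hq1).pow_left a) ?_)
        rw [Subgroup.relIndex, Subgroup.card_mul_index, ← ha]
        exact R.card_subgroup_dvd_card)).symm }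
  have hR1ne : R1 ≠ ⊥ := by
    intro e
    have h1 := P.dvd_card_of_dvd_card hqM1
    rw [show (P : Subgroup M1) = R1.subgroupOf M1 from rfl, e, Subgroup.bot_subgroupOf, Subgroup.card_bot] at h1
    exact hq.ne_one (Nat.dvd_one.1 h1)
  have hfrat : NH ⊔ M0 = ⊤ := by
    have h1 := P.normalizer_sup_eq_top
    rw [show ((P : Subgroup M1).map M1.subtype) = R1 from Subgroup.map_subgroupOf_eq_of_le hR1M] at h1
    rw [eq_top_iff, ← h1]
    refine sup_le ((hTI' R1 ((Subgroup.map_subtype_le _).trans inf_le_right) hR1ne).trans le_sup_left) ?_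
    rw [← hM1eq]
    exact sup_le le_sup_right ((inf_le_right.trans hHle).trans le_sup_left)
  have hHM : H ≤ Subgroup.normalizer (M0 : Set G) := by rw [Subgroup.normalizer_eq_top]; exact le_top
  have hdisH : M0 ⊓ H = ⊥ := Subgroup.inf_eq_bot_of_coprime hcop0
  -- centralisers of non-identity elements of `H` in `M0`
  have hfix : ∀ a ∈ H, a ≠ 1 → M0 ⊓ Subgroup.centralizer {a} ≤ M0 ⊓ Subgroup.centralizer (H : Set G) := by
    rintro a ha ha1 m ⟨hm, hma⟩
    refine ⟨hm, ?_⟩
    have hmN : m ∈ NH := by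
      by_contra hmn
      have e : m * a * m⁻¹ = a := by
        rw [Subgroup.mem_centralizer_singleton_iff.1 hma, mul_inv_cancel_right]
      exact ha1 (hTI m hmn a ha (by rw [SetLike.mem_coe, e]; exact ha))
    show m ∈ Subgroup.centralizer (H : Set G)
    rw [Subgroup.mem_centralizer_iff]
    intro h hh
    have h1 : h * m * h⁻¹ * m⁻¹ ∈ M0 ⊓ H := ⟨M0.mul_mem (hM0n.conj_mem m hm h) (M0.inv_mem hm), by
      rw [mul_assoc (h * m), mul_assoc h m]
      refine H.mul_mem hh ?_
      rw [← mul_assoc]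
      exact (Subgroup.mem_normalizer_iff.1 hmN _).1 (H.inv_mem hh)⟩
    rw [hdisH, Subgroup.mem_bot] at h1
    exact mul_inv_eq_iff_eq_mul.1 (mul_inv_eq_one.1 h1)
  have hnot : ¬ M0 ≤ Subgroup.centralizer (H : Set G) := by
    intro h
    apply hnn
    rw [← Subgroup.normalizer_eq_top_iff, eq_top_iff, ← hfrat]
    exact sup_le le_rfl (h.trans (Subgroup.centralizer_le_normalizer _))
  -- abelian subgroups of `H` are cyclic
  have hab : ∀ A ≤ H, IsMulCommutative A → IsCyclic A := by
    intro A hA hAc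
    by_contra hnc
    haveI := hAc
    refine hnot (le_trans (CfsgLib.Solvable.le_of_centralizer_le (W := M0 ⊓ Subgroup.centralizer (H : Set G))
      hnc (hA.trans hHM) (hcop0.symm.coprime_dvd_left (Subgroup.card_dvd_of_le hA)) ?_) inf_le_right)
    exact fun a ha ha1 => hfix a (hA ha) ha1
  haveI hZ : IsZGroup H := by
    refine ⟨fun p hp P0 => ?_⟩
    haveI : Fact p.Prime := ⟨hp⟩
    have hcyc : ∀ A : Subgroup (P0 : Subgroup H), IsMulCommutative A → IsCyclic A := by
      intro A hA
      set B := (A.map (P0 : Subgroup H).subtype).map H.subtype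
      let e : A ≃* B := (A.equivMapOfInjective _ (P0 : Subgroup H).subtype_injective).trans
        ((A.map (P0 : Subgroup H).subtype).equivMapOfInjective _ H.subtype_injective)
      haveI : IsMulCommutative B := ⟨⟨fun a b => e.symm.injective (by
        rw [map_mul, map_mul]; exact hA.is_comm.comm _ _)⟩⟩
      exact e.symm.isCyclic.1 (hab B (Subgroup.map_subtype_le _) inferInstance)
    by_cases hp2 : p = 2
    · subst hp2
      haveI := h2 P0
      have h3 := hcyc ⊤ ⟨⟨fun a b => Subtype.ext (this.is_comm.comm (a : (P0 : Subgroup H)) b)⟩⟩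
      exact Subgroup.topEquiv.isCyclic.1 h3
    · refine CfsgLib.PGroup.isCyclic_of_unique_order_prime hp2 P0.2 ?_
      intro x y hx hx1 hy
      haveI : Nontrivial (P0 : Subgroup H) := ⟨x, 1, hx1⟩
      obtain ⟨z, hz⟩ : ∃ z : Subgroup.center (P0 : Subgroup H), orderOf z = p := by
        haveI := P0.2.center_nontrivial
        refine exists_prime_orderOf_dvd_card' p ?_
        obtain ⟨e, he⟩ := IsPGroup.iff_card.1 (P0.2.to_subgroup (Subgroup.center (P0 : Subgroup H)))
        have h4 := Finite.one_lt_card (α := Subgroup.center (P0 : Subgroup H))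
        rw [he] at h4 ⊢
        exact dvd_pow_self p (fun h => by rw [h, pow_zero] at h4; exact lt_irrefl _ h4)
      have hzord : orderOf (z : (P0 : Subgroup H)) = p := by rw [Subgroup.orderOf_coe, hz]
      have key : ∀ w : (P0 : Subgroup H), w ^ p = 1 → w ∈ Subgroup.zpowers (z : (P0 : Subgroup H)) := by
        intro w hw
        set A := Subgroup.closure ({w, (z : (P0 : Subgroup H))} : Set (P0 : Subgroup H)) with hA
        have hcomm : IsMulCommutative A := Subgroup.isMulCommutative_closure (by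
          rintro a (rfl | rfl) b (rfl | rfl)
          exacts [rfl, Subgroup.mem_center_iff.1 z.2 a, (Subgroup.mem_center_iff.1 z.2 b).symm, rfl])
        haveI := hcyc A hcomm
        set zA : A := ⟨z, Subgroup.subset_closure (Set.mem_insert_of_mem _ rfl)⟩ with hzA
        set wA : A := ⟨w, Subgroup.subset_closure (Set.mem_insert _ _)⟩ with hwA
        cases nonempty_fintype A
        have hzA' : orderOf zA = p := by rw [hzA, Subgroup.orderOf_mk, hzord]
        have hzp : zA ^ p = 1 := orderOf_dvd_iff_pow_eq_one.1 hzA'.dvd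
        have hsub : (Finset.univ.filter fun a : A => a ∈ Subgroup.zpowers zA) ⊆
            Finset.univ.filter fun a : A => a ^ p = 1 := by
          intro a ha
          simp only [Finset.mem_filter, Finset.mem_univ, true_and] at ha ⊢
          obtain ⟨i, rfl⟩ := Subgroup.mem_zpowers_iff.1 ha
          rw [← zpow_natCast, ← zpow_mul, mul_comm, zpow_mul, zpow_natCast, hzp, one_zpow]
        have heq := Finset.eq_of_subset_of_card_le hsub (by
          refine (IsCyclic.card_pow_eq_one_le (α := A) hp.pos).trans (le_of_eq ?_)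
          have h5 := (Nat.card_zpowers zA).trans hzA'
          rw [Nat.card_eq_fintype_card, Fintype.card_subtype] at h5
          exact h5.symm)
        have hwmem : wA ∈ Subgroup.zpowers zA := by
          have : wA ∈ Finset.univ.filter fun a : A => a ^ p = 1 := by
            rw [Finset.mem_filter]; exact ⟨Finset.mem_univ _, Subtype.ext hw⟩
          rw [← heq, Finset.mem_filter] at this
          exact this.2
        obtain ⟨i, hi⟩ := Subgroup.mem_zpowers_iff.1 hwmem
        exact Subgroup.mem_zpowers_iff.2 ⟨i, congrArg Subtype.val hi⟩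
      have hxz : Subgroup.zpowers x = Subgroup.zpowers (z : (P0 : Subgroup H)) :=
        Subgroup.eq_of_le_of_card_ge (Subgroup.zpowers_le.2 (key x hx))
          (by rw [Nat.card_zpowers, Nat.card_zpowers, hzord, orderOf_eq_prime hx hx1])
      rw [hxz]; exact key y hy
  -- `Q` is a complement of order prime to `|H|`
  haveI : (H.subgroupOf NH).Normal := Subgroup.normal_in_normalizer
  have hQcard : Nat.card Q = (H.subgroupOf NH).index := by
    have h1 := CfsgLib.Solvable.card_sup_of_disjoint (N := H) (H := Q) hQ (disjoint_iff.2 (by rw [inf_comm, hQH]))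
    rw [sup_comm, hQH'] at h1
    have h2 := (H.subgroupOf NH).card_mul_index
    rw [Nat.card_congr (Subgroup.subgroupOfEquivOfLe hHle).toEquiv] at h2
    exact (Nat.eq_of_mul_eq_mul_left Nat.card_pos (h2.trans h1)).symm
  have hQcop : (Nat.card Q).Coprime (Nat.card H) := hQcard ▸ hHall.symm
  have hHsol : Group.IsSolvable Q ∨ Group.IsSolvable H := Or.inr inferInstance
  set C0 := H ⊓ Subgroup.centralizer (Q : Set G) with hC0
  set D := ⁅H, Q⁆ with hD
  have hDH : D ≤ H := by
    rw [hD, Subgroup.commutator_le]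
    intro h hh q hq
    rw [commutatorElement_def, mul_assoc h, mul_assoc h]
    exact H.mul_mem hh ((Subgroup.mem_normalizer_iff.1 (hQ hq) _).1 (H.inv_mem hh))
  have hDC : D ⊔ C0 = H := CfsgLib.Solvable.commutator_sup_centralizer hQ hQcop hHsol
  -- for each prime dividing `C0`
  have hprimes : ∀ p : ℕ, p.Prime → p ∣ Nat.card C0 → ¬ p ∣ C0.relIndex H ∧ ¬ p ∣ Nat.card D := by
    intro p hp hpC
    haveI : Fact p.Prime := ⟨hp⟩
    obtain ⟨b, hb⟩ := exists_prime_orderOf_dvd_card' p hpC
    have hb' : (b : G) ∈ H ∧ ∀ y ∈ Q, y * (b : G) = b * y := ⟨b.2.1, fun y hy => Subgroup.mem_centralizer_iff.1 b.2.2 y hy⟩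
    have hUp : IsPGroup p (Subgroup.zpowers (b : G)) :=
      IsPGroup.of_card (n := 1) (by rw [Nat.card_zpowers, Subgroup.orderOf_coe, hb, pow_one])
    obtain ⟨P, hbP, hPQ⟩ := CfsgLib.Solvable.exists_invariant_sylow_ge hQ hQcop hHsol p
      (Subgroup.zpowers_le.2 hb'.1) hUp (fun y hy => by
        rw [Subgroup.mem_normalizer_iff]
        intro u
        have hcom : ∀ w ∈ Subgroup.zpowers (b : G), y * w * y⁻¹ = w := by
          intro w hw
          obtain ⟨i, rfl⟩ := Subgroup.mem_zpowers_iff.1 hw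
          rw [(Commute.zpow_right (hb'.2 y hy : Commute y (b : G)) i).eq, mul_inv_cancel_right]
        constructor
        · intro hu; rw [hcom u hu]; exact hu
        · intro hu
          have h5 := hcom _ hu
          have : y * u * y⁻¹ = u := mul_right_cancel (mul_left_cancel (a := y) (by
            simpa [mul_assoc] using h5))
          rwa [this] at hu)
    set P' := (P : Subgroup H).map H.subtype with hP'
    have hP'cyc : IsCyclic P' :=
      (Subgroup.equivMapOfInjective _ H.subtype H.subtype_injective).isCyclic.1 (IsZGroup.isZGroup p hp P)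
    have hcent : ∀ y ∈ Q, ∀ x ∈ P', y * x = x * y := by
      intro y hy x hx
      have h6 := mem_centralizer_of_fix P' (P.2.map _) hP'cyc y (hPQ hy) ?_ b (hbP (Subgroup.mem_zpowers _)) ?_ (hb'.2 y hy)
      · exact (Subgroup.mem_centralizer_iff.1 h6 x hx).symm
      · refine Nat.Coprime.coprime_dvd_left ?_ (hQcop.coprime_dvd_right ?_)
        · rw [← Subgroup.orderOf_mk y hy]; exact orderOf_dvd_natCard _
        · exact hpC.trans (Subgroup.card_dvd_of_le inf_le_left)
      · intro e
        rw [← Subgroup.orderOf_coe, e, orderOf_one] at hb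
        exact hp.ne_one hb.symm
    have hP'C : P' ≤ C0 := le_inf (Subgroup.map_subtype_le _)
      (fun x hx => Subgroup.mem_centralizer_iff.2 fun y hy => hcent y hy x hx)
    refine ⟨fun h => P.not_dvd_index (h.trans ?_), ?_⟩
    · rw [← show P'.subgroupOf H = P from Subgroup.comap_map_eq_self_of_injective H.subtype_injective _]
      exact Subgroup.index_dvd_of_le fun x hx => hP'C hx
    rcases P.normalizer_le_centralizer_or_le_commutator with hcase | hcase
    · exact not_dvd_card_commutator H Q P hQ (fun x hx q hq => hcent q hq x ⟨x, hx, rfl⟩) hcase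
    · -- `P` is normal, and `[H, Q]` centralises it
      have hPn : (P : Subgroup H).Normal := by
        haveI := IsZGroup.isCyclic_commutator (G := H)
        refine ⟨fun x hx g => ?_⟩
        have hgx : g * x * g⁻¹ ∈ commutator H := (inferInstance : (commutator H).Normal).conj_mem x (hcase hx) g
        have h1 : Nat.card ((P : Subgroup H).map (MulAut.conj g).toMonoidHom) = Nat.card (P : Subgroup H) :=
          Subgroup.card_map_of_injective (MulAut.conj g).injective
        have h2 : (P : Subgroup H).map (MulAut.conj g).toMonoidHom ≤ commutator H := by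
          rintro _ ⟨y, hy, rfl⟩
          exact (inferInstance : (commutator H).Normal).conj_mem y (hcase hy) g
        have hall : ∀ U : Subgroup H, U ≤ commutator H → Nat.card U = Nat.card (P : Subgroup H) →
            U.subgroupOf (commutator H) = (letI := (IsCyclic.commGroup (α := commutator H)); (powMonoidHom (Nat.card (P : Subgroup H)) : commutator H →* commutator H).ker) := by
          intro U hU hUc
          letI : CommGroup (commutator H) := IsCyclic.commGroup
          cases nonempty_fintype (commutator H)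
          refine Subgroup.eq_of_le_of_card_ge (fun u hu => ?_) ?_
          · rw [MonoidHom.mem_ker, powMonoidHom_apply]
            have h3 := pow_card_eq_one' (x := (⟨u, hu⟩ : U.subgroupOf (commutator H)))
            rw [Nat.card_congr (Subgroup.subgroupOfEquivOfLe hU).toEquiv, hUc] at h3
            exact congrArg Subtype.val h3
          · rw [Nat.card_congr (Subgroup.subgroupOfEquivOfLe hU).toEquiv, hUc]
            refine le_trans ?_ (IsCyclic.card_pow_eq_one_le (α := commutator H) (n := Nat.card (P : Subgroup H)) Nat.card_pos)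
            rw [Nat.card_eq_fintype_card, Fintype.card_subtype]
            simp [MonoidHom.mem_ker, powMonoidHom_apply]
        have h4 := (hall _ h2 h1).trans (hall _ hcase rfl).symm
        have h5 : (⟨g * x * g⁻¹, hgx⟩ : commutator H) ∈ ((P : Subgroup H).map (MulAut.conj g).toMonoidHom).subgroupOf (commutator H) :=
          ⟨x, hx, rfl⟩
        rw [h4] at h5
        exact h5
      set E := Subgroup.centralizer (P' : Set G) ⊓ H with hE
      have hQE : Q ≤ Subgroup.normalizer (E : Set G) := by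
        intro y hy
        have hC : ∀ y ∈ Q, ∀ u ∈ Subgroup.centralizer (P' : Set G), y * u * y⁻¹ ∈ Subgroup.centralizer (P' : Set G) := by
          intro y hy u hu
          refine mul_mem (mul_mem ?_ hu) (inv_mem ?_) <;>
            exact Subgroup.mem_centralizer_iff.2 fun x hx => (hcent y hy x hx).symm
        rw [Subgroup.mem_normalizer_iff]
        intro u
        refine ⟨fun hu => ⟨hC y hy u hu.1, (Subgroup.mem_normalizer_iff.1 (hQ hy) u).1 hu.2⟩, fun hu => ?_⟩
        have := hC y⁻¹ (Q.inv_mem hy) _ hu.1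
        exact ⟨by simpa [mul_assoc] using this, (Subgroup.mem_normalizer_iff.1 (hQ hy) u).2 hu.2⟩
      have hDE : D ≤ E := by
        refine le_inf ?_ hDH
        rw [hD, Subgroup.commutator_le]
        intro h hh y hy
        rw [Subgroup.mem_centralizer_iff]
        intro x hx
        obtain ⟨x', hx', rfl⟩ := hx
        have hconj : ∀ h : G, ∀ hh : h ∈ H, h⁻¹ * (x' : G) * h ∈ P' := by
          intro h hh
          have h9 := hPn.conj_mem x' hx' (⟨h, hh⟩ : H)⁻¹
          rw [inv_inv] at h9
          exact ⟨_, h9, rfl⟩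
        have c1 : y * (h⁻¹ * (x' : G) * h) = h⁻¹ * x' * h * y := hcent y hy _ (hconj h hh)
        have c2 : y⁻¹ * (x' : G) = x' * y⁻¹ := hcent y⁻¹ (Q.inv_mem hy) x' ⟨x', hx', rfl⟩
        rw [commutatorElement_def]
        calc (x' : G) * (h * y * h⁻¹ * y⁻¹) = h * ((h⁻¹ * x' * h) * y) * h⁻¹ * y⁻¹ := by group
          _ = h * (y * (h⁻¹ * x' * h)) * h⁻¹ * y⁻¹ := by rw [c1]
          _ = h * y * h⁻¹ * ((x' : G) * y⁻¹) := by group
          _ = h * y * h⁻¹ * (y⁻¹ * x') := by rw [c2]
          _ = h * y * h⁻¹ * y⁻¹ * x' := by group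
      haveI : IsMulCommutative P' := ⟨⟨fun a b => hP'cyc.commGroup.mul_comm a b⟩⟩
      have hP'E : P' ≤ E := le_inf (Subgroup.le_centralizer _) (Subgroup.map_subtype_le _)
      let PE : Sylow p E :=
        { toSubgroup := P'.subgroupOf E
          isPGroup' := (P.2.map _).comap_subtype
          is_maximal' := fun {R} hR hle => (Subgroup.eq_of_le_of_card_ge hle (by
            rw [Nat.card_congr (Subgroup.subgroupOfEquivOfLe hP'E).toEquiv]
            obtain ⟨a, ha⟩ := IsPGroup.iff_card.1 hR
            rw [ha, hP', Subgroup.card_map_of_injective H.subtype_injective]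
            refine Nat.le_of_dvd Nat.card_pos (P.pow_dvd_card_of_pow_dvd_card ?_)
            rw [← ha]
            exact R.card_subgroup_dvd_card.trans (Subgroup.card_dvd_of_le inf_le_right))).symm }
      have h7 := not_dvd_card_commutator E Q PE hQE (fun x hx y hy => hcent y hy x hx) (fun u _ =>
        Subgroup.mem_centralizer_iff.2 fun x hx => Subtype.ext (Subgroup.mem_centralizer_iff.1 u.2.1 x hx))
      refine fun h => h7 (h.trans (Subgroup.card_dvd_of_le ?_))
      calc D = ⁅D, Q⁆ := (CfsgLib.Solvable.commutator_commutator_eq hQ hQcop hHsol).symm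
        _ ≤ ⁅E, Q⁆ := Subgroup.commutator_mono hDE le_rfl
  -- the normal complement
  have hQD : Q ≤ Subgroup.normalizer (D : Set G) := CfsgLib.Solvable.le_normalizer_commutator_right H Q
  have hHD : H ≤ Subgroup.normalizer (D : Set G) := CfsgLib.Solvable.le_normalizer_commutator_left H Q
  set T := D ⊔ Q with hT
  set N := M0 ⊔ T with hN
  have hHT : ∀ h ∈ H, ∀ t ∈ T, h * t * h⁻¹ ∈ T := by
    intro h hh t ht
    obtain ⟨d, hd, y, hy, rfl⟩ := (CfsgLib.Solvable.mem_sup_of_le_normalizer hQD).1 ht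
    have e : h * (d * y) * h⁻¹ = (h * d * h⁻¹) * (⁅h, y⁆ * y) := by
      rw [commutatorElement_def]; group
    rw [e]
    exact mul_mem ((le_sup_left : D ≤ T) ((Subgroup.mem_normalizer_iff.1 (hHD hh) d).1 hd))
      (mul_mem ((le_sup_left : D ≤ T) (Subgroup.commutator_mem_commutator hh hy)) ((le_sup_right : Q ≤ T) hy))
  have hHT' : H ≤ Subgroup.normalizer (T : Set G) := by
    intro h hh
    rw [Subgroup.mem_normalizer_iff]
    refine fun t => ⟨hHT h hh t, fun ht => ?_⟩
    simpa [mul_assoc] using hHT h⁻¹ (H.inv_mem hh) _ ht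
  have hHN : H ≤ Subgroup.normalizer (N : Set G) := by
    intro h hh
    have key : ∀ h ∈ H, ∀ v ∈ N, h * v * h⁻¹ ∈ N := by
      intro h hh v hv
      obtain ⟨m, hm, t, ht, rfl⟩ := Subgroup.mem_sup_of_normal_left.1 hv
      rw [show h * (m * t) * h⁻¹ = (h * m * h⁻¹) * (h * t * h⁻¹) by group]
      exact mul_mem ((le_sup_left : M0 ≤ N) (hM0n.conj_mem m hm h))
        ((le_sup_right : T ≤ N) (hHT h hh t ht))
    rw [Subgroup.mem_normalizer_iff]
    refine fun v => ⟨key h hh v, fun hv => ?_⟩
    simpa [mul_assoc] using key h⁻¹ (H.inv_mem hh) _ hv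
  haveI hNn : N.Normal := by
    rw [← Subgroup.normalizer_eq_top_iff, eq_top_iff, ← hfrat, ← hQH']
    exact sup_le (sup_le ((le_sup_right.trans le_sup_right).trans Subgroup.le_normalizer) hHN)
      (le_sup_left.trans Subgroup.le_normalizer)
  have hN_dvd : Nat.card N ∣ Nat.card M0 * (Nat.card D * Nat.card Q) :=
    (CfsgLib.Solvable.card_sup_dvd (by rw [Subgroup.normalizer_eq_top]; exact le_top)).trans
      (Nat.mul_dvd_mul_left _ (CfsgLib.Solvable.card_sup_dvd hQD))
  have hcopN : (Nat.card C0).Coprime (Nat.card N) := by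
    rw [Nat.coprime_iff_gcd_eq_one]
    by_contra hne
    obtain ⟨p, hp, hpd⟩ := Nat.exists_prime_and_dvd hne
    have hpC := hpd.trans (Nat.gcd_dvd_left _ _)
    have hpH : p ∣ Nat.card H := hpC.trans (Subgroup.card_dvd_of_le inf_le_left)
    rcases hp.dvd_mul.1 ((hpd.trans (Nat.gcd_dvd_right _ _)).trans hN_dvd) with h | h
    · exact hp.ne_one (Nat.eq_one_of_dvd_coprimes hcop0 h hpH)
    · rcases hp.dvd_mul.1 h with h | h
      · exact (hprimes p hp hpC).2 h
      · exact hp.ne_one (Nat.eq_one_of_dvd_coprimes hQcop h hpH)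
  have hsup : N ⊔ C0 = ⊤ := by
    rw [eq_top_iff, ← hfrat, ← hQH']
    refine sup_le (sup_le ((le_sup_right.trans le_sup_right).trans le_sup_left) ?_) (le_sup_left.trans le_sup_left)
    rw [← hDC]
    exact sup_le ((le_sup_left.trans le_sup_right).trans le_sup_left) le_sup_right
  have hcompl : N.IsComplement' C0 := Subgroup.isComplement'_of_disjoint_and_mul_eq_univ
    (disjoint_iff.2 (Subgroup.inf_eq_bot_of_coprime hcopN.symm))
    (by rw [← Subgroup.normal_mul, hsup, Subgroup.coe_top])
  refine ⟨?_, N, hNn, hcompl⟩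
  rw [hcompl.index_eq_card]
  exact hcopN

end Cfsg.Agent.S4151
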