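import Cfsg.Statements.S4152
import Cfsg.Agent.Lib.ClassSize.PiCoset
import Mathlib.GroupTheory.GroupAction.Quotient
import Mathlib.Algebra.Group.Conj

set_option autoImplicit false
open Cfsg

namespace Cfsg.Agent.S4152
open Finset CfsgLib.ClassSize

/-- Centraliser orders summed over a union of classes count the classes. -/
theorem card_classes {K : Type*} [Group K] [Fintype K] [DecidableEq K] (P : ConjClasses K → Prop)
    [DecidablePred P] :
    Nat.card {C : ConjClasses K // P C} * Nat.card K =
      ∑ x ∈ univ.filter (fun x : K => P (ConjClasses.mk x)), Nat.card (Subgroup.centralizer ({x} : Set K)) := by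
  classical
  cases nonempty_fintype (ConjClasses K)
  rw [← Finset.sum_fiberwise_of_maps_to (g := ConjClasses.mk) (t := univ.filter P)
    (fun x hx => by simpa using hx)]
  rw [Nat.card_eq_fintype_card (α := {C : ConjClasses K // P C}), Fintype.card_subtype, ← smul_eq_mul,
    ← Finset.sum_const]
  refine Finset.sum_congr rfl fun C hC => ?_
  obtain ⟨x0, rfl⟩ := ConjClasses.exists_rep C
  rw [Finset.mem_filter] at hC
  have hset : ((univ.filter (fun x : K => P (ConjClasses.mk x))).filter
      (fun x => ConjClasses.mk x = ConjClasses.mk x0) : Finset K) = univ.filter (fun x => IsConj x0 x) := by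
    ext x
    simp only [Finset.mem_filter, Finset.mem_univ, true_and, ConjClasses.mk_eq_mk_iff_isConj]
    exact ⟨fun h => h.2.symm, fun h => ⟨(ConjClasses.mk_eq_mk_iff_isConj.2 h) ▸ hC.2, h.symm⟩⟩
  rw [hset, Finset.sum_congr rfl (g := fun _ => Nat.card (Subgroup.centralizer ({x0} : Set K))) (fun x hx => ?_),
    Finset.sum_const, smul_eq_mul, ← (Subgroup.centralizer ({x0} : Set K)).card_mul_index, mul_comm,
    ← ncard_setOf_isConj x0, ← Set.ncard_coe_finset]
  · congr 2
    ext; simp
  · rw [Finset.mem_filter] at hx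
    have h := fun y : K => (Subgroup.centralizer ({y} : Set K)).card_mul_index
    have hi : (Subgroup.centralizer ({x} : Set K)).index = (Subgroup.centralizer ({x0} : Set K)).index := by
      rw [← ncard_setOf_isConj, ← ncard_setOf_isConj]
      congr 1
      ext y
      exact ⟨fun hy => hx.2.trans hy, fun hy => hx.2.symm.trans hy⟩
    have h1 := (h x).trans (h x0).symm
    rw [hi] at h1
    exact Nat.eq_of_mul_eq_mul_right (Nat.pos_of_ne_zero Subgroup.index_ne_zero_of_finite) h1

/-- π-elements as solutions of `x ^ a = 1`. -/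
theorem pi_iff {K : Type*} [Group K] [Finite K] {a b : ℕ} (π : Set ℕ) (hab : Nat.card K ∣ a * b)
    (ha : ∀ q : ℕ, q.Prime → q ∣ a → q ∈ π) (hb : ∀ q : ℕ, q.Prime → q ∣ b → q ∉ π) (x : K) :
    (∀ q : ℕ, q.Prime → (∃ g : K, ConjClasses.mk g = ConjClasses.mk x ∧ q ∣ orderOf g) → q ∈ π) ↔ x ^ a = 1 := by
  constructor
  · intro h
    rw [← orderOf_dvd_iff_pow_eq_one]
    refine Nat.Coprime.dvd_of_dvd_mul_right ?_ ((orderOf_dvd_natCard x).trans hab)
    rw [Nat.coprime_iff_gcd_eq_one]
    by_contra hne
    obtain ⟨q, hq, hqd⟩ := Nat.exists_prime_and_dvd hne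
    exact hb q hq (hqd.trans (Nat.gcd_dvd_right _ _)) (h q hq ⟨x, rfl, hqd.trans (Nat.gcd_dvd_left _ _)⟩)
  · rintro h q hq ⟨g, hg, hqg⟩
    obtain ⟨c, hc⟩ := isConj_iff.1 (ConjClasses.mk_eq_mk_iff_isConj.1 hg)
    refine ha q hq (hqg.trans ?_)
    rw [← orderOf_injective (MulAut.conj c).toMonoidHom (MulAut.conj c).injective g]
    show orderOf (c * g * c⁻¹) ∣ a
    rw [hc]
    exact orderOf_dvd_of_pow_eq_one h


/-- Let G be a finite group, N a normal subgroup and π a set of primes. Then the number of conjugacy classes of π-elements of G (elements whose order is divisible only by primes in π) is at most the number of conjugacy classes of π-elements of N (under conjugation by N) times the number of conjugacy classes of π-elements of G/N. -/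
theorem result {G : Type*} [Group G] [Finite G] (N : Subgroup G) [N.Normal] (π : Set ℕ) :
    Nat.card {C : ConjClasses G // ∀ q : ℕ, q.Prime → (∃ g : G, ConjClasses.mk g = C ∧ q ∣ orderOf g) → q ∈ π} ≤ Nat.card {C : ConjClasses N // ∀ q : ℕ, q.Prime → (∃ g : N, ConjClasses.mk g = C ∧ q ∣ orderOf g) → q ∈ π} * Nat.card {C : ConjClasses (G ⧸ N) // ∀ q : ℕ, q.Prime → (∃ g : (G ⧸ N), ConjClasses.mk g = C ∧ q ∣ orderOf g) → q ∈ π} := by
  classical
  cases nonempty_fintype G
  cases nonempty_fintype (G ⧸ N)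
  have hsupp := Nat.card_pos (α := G)
  set a := ∏ p ∈ (Nat.card G).primeFactors.filter (· ∈ π), p ^ (Nat.card G).factorization p with ha
  set b := ∏ p ∈ (Nat.card G).primeFactors.filter (fun p => ¬ p ∈ π), p ^ (Nat.card G).factorization p with hb
  have hab : Nat.card G = a * b := by
    rw [ha, hb, Finset.prod_filter_mul_prod_filter_not]
    exact (Nat.prod_factorization_pow_eq_self hsupp.ne').symm
  have hprime : ∀ (s : Finset ℕ), s ⊆ (Nat.card G).primeFactors → ∀ q : ℕ, q.Prime →
      q ∣ ∏ p ∈ s, p ^ (Nat.card G).factorization p → q ∈ s := by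
    intro s hs q hq hd
    obtain ⟨p, hp, hqp⟩ := (hq.prime.dvd_finsetProd_iff _).1 hd
    rwa [(Nat.prime_dvd_prime_iff_eq hq (Nat.prime_of_mem_primeFactors (hs hp))).1 (hq.dvd_of_dvd_pow hqp)]
  have ha' : ∀ q : ℕ, q.Prime → q ∣ a → q ∈ π := fun q hq hd =>
    (Finset.mem_filter.1 (hprime _ (Finset.filter_subset _ _) q hq hd)).2
  have hb' : ∀ q : ℕ, q.Prime → q ∣ b → q ∉ π := fun q hq hd =>
    (Finset.mem_filter.1 (hprime _ (Finset.filter_subset _ _) q hq hd)).2
  have hcop : a.Coprime b := by
    rw [Nat.coprime_iff_gcd_eq_one]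
    by_contra hne
    obtain ⟨q, hq, hqd⟩ := Nat.exists_prime_and_dvd hne
    exact hb' q hq (hqd.trans (Nat.gcd_dvd_right _ _)) (ha' q hq (hqd.trans (Nat.gcd_dvd_left _ _)))
  have eG := card_classes (K := G)
    (fun C => ∀ q : ℕ, q.Prime → (∃ g : G, ConjClasses.mk g = C ∧ q ∣ orderOf g) → q ∈ π)
  have eN := card_classes (K := N)
    (fun C => ∀ q : ℕ, q.Prime → (∃ g : N, ConjClasses.mk g = C ∧ q ∣ orderOf g) → q ∈ π)
  have eQ := card_classes (K := G ⧸ N)
    (fun C => ∀ q : ℕ, q.Prime → (∃ g : G ⧸ N, ConjClasses.mk g = C ∧ q ∣ orderOf g) → q ∈ π)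
  rw [Finset.filter_congr (fun x _ => pi_iff π hab.dvd ha' hb' x)] at eG
  rw [Finset.filter_congr (fun x _ => pi_iff π ((Subgroup.card_subgroup_dvd_card N).trans hab.dvd) ha' hb' x)] at eN
  rw [Finset.filter_congr (fun x _ => pi_iff π ((Subgroup.card_quotient_dvd_card N).trans hab.dvd) ha' hb' x)] at eQ
  -- the centraliser of an element is bounded by those in the quotient and in `N`
  have hcent : ∀ h : G, Nat.card (Subgroup.centralizer ({h} : Set G)) ≤
      Nat.card (Subgroup.centralizer ({(h : G ⧸ N)} : Set (G ⧸ N))) * centCard N h := by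
    intro h
    set C := Subgroup.centralizer ({h} : Set G)
    have h1 := (((QuotientGroup.mk' N).comp C.subtype).ker).card_mul_index
    rw [Subgroup.index_ker, mul_comm] at h1
    rw [← h1]
    refine Nat.mul_le_mul ?_ ?_
    · refine Subgroup.card_le_of_le ?_
      rintro _ ⟨c, rfl⟩
      rw [Subgroup.mem_centralizer_singleton_iff]
      show ((c : G) : G ⧸ N) * h = h * (c : G)
      rw [← QuotientGroup.mk_mul, ← QuotientGroup.mk_mul, Subgroup.mem_centralizer_singleton_iff.1 c.2]
    · rw [centCard, ← Fintype.card_subtype, ← Nat.card_eq_fintype_card]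
      refine Nat.card_le_card_of_injective (fun c => ⟨((c : C) : G),
        (QuotientGroup.eq_one_iff _).1 c.2, Subgroup.mem_centralizer_singleton_iff.1 (c : C).2⟩) ?_
      intro c d hcd
      exact Subtype.ext (Subtype.ext (congrArg Subtype.val hcd :))
  -- the orbits of π-elements on a coset
  have hbound : ∀ g : G, g ^ a ∈ N → cosetSum a N g ≤
      ∑ u ∈ univ.filter (fun u : N => u ^ a = 1), Nat.card (Subgroup.centralizer ({u} : Set N)) := by
    intro g hga
    rw [cosetSum_eq_stableSum hcop hab N g (by rw [Subgroup.normalizer_eq_top]; exact Subgroup.mem_top g) hga]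
    refine (Finset.sum_le_sum_of_subset (show _ ⊆ (univ.filter (fun u : N => u ^ a = 1)).map
      ⟨Subtype.val, Subtype.val_injective⟩ from ?_)).trans (le_of_eq ?_)
    · intro u hu
      rw [Finset.mem_filter] at hu
      exact Finset.mem_map.2 ⟨⟨u, hu.2.1⟩, Finset.mem_filter.2 ⟨Finset.mem_univ _, Subtype.ext hu.2.2.1⟩, rfl⟩
    · rw [Finset.sum_map]
      refine Finset.sum_congr rfl fun u _ => ?_
      rw [centCard, ← Fintype.card_subtype, ← Nat.card_eq_fintype_card]
      refine Nat.card_congr
        { toFun := fun m => ⟨⟨m.1, m.2.1⟩, Subgroup.mem_centralizer_singleton_iff.2 (Subtype.ext m.2.2)⟩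
          invFun := fun m => ⟨m.1.1, m.1.2, congrArg Subtype.val (Subgroup.mem_centralizer_singleton_iff.1 m.2)⟩
          left_inv := fun m => rfl
          right_inv := fun m => rfl }
  refine Nat.le_of_mul_le_mul_right ?_ (Nat.card_pos (α := G))
  rw [eG]
  rw [← Finset.sum_fiberwise_of_maps_to (g := fun x : G => (x : G ⧸ N))
    (t := univ.filter (fun y : G ⧸ N => y ^ a = 1)) (fun x hx => by
      rw [Finset.mem_filter] at hx ⊢
      exact ⟨Finset.mem_univ _, by rw [← QuotientGroup.mk_pow, hx.2, QuotientGroup.mk_one]⟩)]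
  refine (Finset.sum_le_sum (g := fun y : G ⧸ N => Nat.card (Subgroup.centralizer ({y} : Set (G ⧸ N))) *
    ∑ u ∈ univ.filter (fun u : N => u ^ a = 1), Nat.card (Subgroup.centralizer ({u} : Set N))) ?_).trans
    (le_of_eq ?_)
  · intro y hy
    obtain ⟨g, rfl⟩ := QuotientGroup.mk_surjective y
    rw [Finset.mem_filter, ← QuotientGroup.mk_pow, QuotientGroup.eq_one_iff] at hy
    refine le_trans ?_ (Nat.mul_le_mul_left _ (hbound g hy.2))
    rw [cosetSum, Finset.mul_sum]
    refine le_trans (Finset.sum_le_sum (fun h hh => hcent h)) (le_of_eq ?_)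
    refine Finset.sum_congr ?_ fun h hh => ?_
    · ext h
      simp only [Finset.mem_filter, Finset.mem_univ, true_and, QuotientGroup.eq]
      constructor
      · rintro ⟨h1, h2⟩
        refine ⟨?_, h1⟩
        have := N.inv_mem h2
        simpa using this
      · rintro ⟨h1, h2⟩
        refine ⟨h2, ?_⟩
        have := N.inv_mem h1
        simpa using this
    · rw [Finset.mem_filter] at hh
      rw [show (h : G ⧸ N) = (g : G ⧸ N) from (QuotientGroup.eq.2 hh.2.1).symm]
  · rw [← Finset.sum_mul, ← eN, ← eQ, N.card_eq_card_quotient_mul_card_subgroup]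
    ring

end Cfsg.Agent.S4152
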