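import Cfsg.Statements.S4153


set_option autoImplicit false
open Cfsg

namespace Cfsg.Agent.S4153

/-- Let G be a finite group, p a prime, N a normal subgroup, P a Sylow p-subgroup of G and P̄ a Sylow p-subgroup of G/N. Count the elements of p-power order, the identity included. Then (number of such elements of G/N)/#P̄ ≤ (number of such elements of G)/#P, stated as a cross-multiplied inequality, with equality when N is central. -/
theorem result {G : Type*} [Group G] [Finite G] (p : ℕ) [Fact p.Prime] (N : Subgroup G) [N.Normal]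
    (P : Sylow p G) (Pbar : Sylow p (G ⧸ N)) :
    Nat.card {g : (G ⧸ N) // ∃ k : ℕ, orderOf g = p ^ k} * Nat.card (P : Subgroup G) ≤ Nat.card {g : G // ∃ k : ℕ, orderOf g = p ^ k} * Nat.card (Pbar : Subgroup (G ⧸ N)) ∧
    (N ≤ Subgroup.center G → Nat.card {g : (G ⧸ N) // ∃ k : ℕ, orderOf g = p ^ k} * Nat.card (P : Subgroup G) = Nat.card {g : G // ∃ k : ℕ, orderOf g = p ^ k} * Nat.card (Pbar : Subgroup (G ⧸ N))) := by
  classical
  set f := QuotientGroup.mk' N with hf
  have hsurj : Function.Surjective f := QuotientGroup.mk'_surjective N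
  cases nonempty_fintype G
  cases nonempty_fintype (G ⧸ N)
  have hp : p.Prime := Fact.out
  set m := Nat.card ↥((P : Subgroup G) ⊓ N) with hm
  have hPbar : Nat.card (P : Subgroup G) = Nat.card (Pbar : Subgroup (G ⧸ N)) * m := by
    rw [Pbar.card_eq_multiplicity, ← (P.mapSurjective hsurj).card_eq_multiplicity,
      Sylow.coe_mapSurjective]
    have h1 := (f.domRestrict (P : Subgroup G)).ker.card_eq_card_quotient_mul_card_subgroup
    rw [Nat.card_congr (QuotientGroup.quotientKerEquivRange _).toEquiv, MonoidHom.domRestrict_range,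
      MonoidHom.ker_domRestrict, QuotientGroup.ker_mk',
      Nat.card_congr ((N.subgroupOf (P : Subgroup G)).equivMapOfInjective (P : Subgroup G).subtype (P : Subgroup G).subtype_injective).toEquiv,
      Subgroup.subgroupOf_map_subtype, inf_comm] at h1
    exact h1
  have hpow : ∀ {H : Type _} [Group H] (g : H), (∃ k : ℕ, orderOf g = p ^ k) ↔ ∃ k : ℕ, g ^ p ^ k = 1 := by
    intro H _ g
    refine ⟨fun ⟨k, hk⟩ => ⟨k, hk ▸ pow_orderOf_eq_one g⟩, fun ⟨k, hk⟩ => ?_⟩
    obtain ⟨j, -, hj⟩ := (Nat.dvd_prime_pow hp).1 (orderOf_dvd_of_pow_eq_one hk)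
    exact ⟨j, hj⟩
  set A : Finset G := Finset.univ.filter fun g => ∃ k : ℕ, orderOf g = p ^ k with hA
  set B : Finset (G ⧸ N) := Finset.univ.filter fun g => ∃ k : ℕ, orderOf g = p ^ k with hB
  have hcA : Nat.card {g : G // ∃ k : ℕ, orderOf g = p ^ k} = A.card := by
    rw [Nat.card_eq_fintype_card, Fintype.card_subtype]
  have hcB : Nat.card {g : (G ⧸ N) // ∃ k : ℕ, orderOf g = p ^ k} = B.card := by
    rw [Nat.card_eq_fintype_card, Fintype.card_subtype]
  rw [hcA, hcB, hPbar]
  -- every `p`-element of the quotient lifts into a Sylow subgroup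
  have hlift : ∀ b ∈ B, ∃ (Q : Sylow p G) (x : G), x ∈ (Q : Subgroup G) ∧ f x = b := by
    intro b hb
    obtain ⟨k, hk⟩ := (Finset.mem_filter.1 hb).2
    obtain ⟨R, hR⟩ := (IsPGroup.of_card (p := p) (n := k) (G := Subgroup.zpowers b)
      (by rw [Nat.card_zpowers, hk])).exists_le_sylow
    obtain ⟨Q, rfl⟩ := Sylow.mapSurjective_surjective hsurj p R
    obtain ⟨x, hx, hxb⟩ := Sylow.coe_mapSurjective hsurj Q ▸ hR (Subgroup.mem_zpowers b)
    exact ⟨Q, x, hx, hxb⟩
  have hQm : ∀ Q : Sylow p G, Nat.card ↥((Q : Subgroup G) ⊓ N) = m := by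
    intro Q
    obtain ⟨g, rfl⟩ := MulAction.exists_smul_eq G P Q
    rw [hm, Sylow.coe_subgroup_smul, ← Subgroup.card_map_of_injective
      (K := (P : Subgroup G) ⊓ N) (f := (MulAut.conj g).toMonoidHom) (MulAut.conj g).injective]
    refine congrArg (fun K : Subgroup G => Nat.card K) ?_
    ext y
    constructor
    · rintro ⟨⟨z, hz, rfl⟩, hzN⟩
      refine ⟨z, ⟨hz, ?_⟩, rfl⟩
      have := ‹N.Normal›.conj_mem _ hzN g⁻¹
      simpa [mul_assoc] using this
    · rintro ⟨z, ⟨hz, hzN⟩, rfl⟩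
      exact ⟨⟨z, hz, rfl⟩, ‹N.Normal›.conj_mem _ hzN g⟩
  have hQA : ∀ Q : Sylow p G, ∀ y ∈ (Q : Subgroup G), y ∈ A := by
    intro Q y hy
    obtain ⟨k, hk⟩ := Q.2 ⟨y, hy⟩
    exact Finset.mem_filter.2 ⟨Finset.mem_univ _, (hpow y).2 ⟨k, by simpa using congrArg Subtype.val hk⟩⟩
  have hfA : ∀ a ∈ A, f a ∈ B := by
    intro a ha
    obtain ⟨k, hk⟩ := (hpow a).1 (Finset.mem_filter.1 ha).2
    exact Finset.mem_filter.2 ⟨Finset.mem_univ _, (hpow _).2 ⟨k, by rw [← map_pow, hk, map_one]⟩⟩
  have hfib : ∀ b ∈ B, ∃ (Q : Sylow p G) (x : G), x ∈ (Q : Subgroup G) ∧ f x = b ∧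
      (Finset.univ.filter fun y => y ∈ (Q : Subgroup G) ⊓ N).image (x * ·) ⊆ A.filter (fun a => f a = b) ∧
      ((Finset.univ.filter fun y => y ∈ (Q : Subgroup G) ⊓ N).image (x * ·)).card = m := by
    intro b hb
    obtain ⟨Q, x, hx, hxb⟩ := hlift b hb
    refine ⟨Q, x, hx, hxb, ?_, ?_⟩
    · intro a ha
      simp only [Finset.mem_image, Finset.mem_filter, Finset.mem_univ, true_and] at ha
      obtain ⟨y, ⟨hyQ, hyN⟩, rfl⟩ := ha
      refine Finset.mem_filter.2 ⟨hQA Q _ (mul_mem hx hyQ), ?_⟩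
      rw [map_mul, hxb, show f y = 1 from (QuotientGroup.eq_one_iff y).2 hyN, mul_one]
    · rw [Finset.card_image_of_injective _ (mul_right_injective x), ← hQm Q,
        Nat.card_eq_fintype_card, Fintype.card_subtype]
  have hsum := Finset.card_eq_sum_card_fiberwise hfA
  refine ⟨?_, fun hc => ?_⟩
  · calc B.card * (Nat.card (Pbar : Subgroup (G ⧸ N)) * m)
        = (∑ _b ∈ B, m) * Nat.card (Pbar : Subgroup (G ⧸ N)) := by
          rw [Finset.sum_const, smul_eq_mul]; ring
      _ ≤ A.card * Nat.card (Pbar : Subgroup (G ⧸ N)) := by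
          refine Nat.mul_le_mul_right _ ?_
          rw [hsum]
          refine Finset.sum_le_sum fun b hb => ?_
          obtain ⟨Q, x, -, -, h1, h2⟩ := hfib b hb
          exact h2 ▸ Finset.card_le_card h1
  · have heq : A.card = B.card * m := by
      rw [hsum, ← smul_eq_mul, ← Finset.sum_const]
      refine Finset.sum_congr rfl fun b hb => ?_
      obtain ⟨Q, x, hx, hxb, h1, h2⟩ := hfib b hb
      refine le_antisymm ?_ (h2 ▸ Finset.card_le_card h1)
      rw [← h2]
      refine Finset.card_le_card fun a ha => ?_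
      obtain ⟨haA, hab⟩ := Finset.mem_filter.1 ha
      have hn : x⁻¹ * a ∈ N := by
        rw [← QuotientGroup.eq_one_iff]
        show f (x⁻¹ * a) = 1
        rw [map_mul, map_inv, hxb, hab, inv_mul_cancel]
      have hcomm : Commute x a := by
        have := Subgroup.mem_center_iff.1 (hc hn) x
        show x * a = a * x
        calc x * a = x * (x * (x⁻¹ * a)) := by group
          _ = x * ((x⁻¹ * a) * x) := by rw [this]
          _ = a * x := by group
      obtain ⟨i, hi⟩ := Q.2 ⟨x, hx⟩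
      have hi' : x ^ p ^ i = 1 := by simpa using congrArg Subtype.val hi
      obtain ⟨j, hj⟩ := (hpow a).1 (Finset.mem_filter.1 haA).2
      have hn1 : (x⁻¹ * a) ^ p ^ (i + j) = 1 := by
        rw [hcomm.inv_left.mul_pow, inv_pow, pow_add, pow_mul, hi', one_pow, inv_one, one_mul,
          mul_comm (p ^ i), pow_mul, hj, one_pow]
      -- central `p`-elements lie in every Sylow subgroup
      have hmem : x⁻¹ * a ∈ (Q : Subgroup G) := by
        have hz : Subgroup.zpowers (x⁻¹ * a) ≤ Subgroup.center G := Subgroup.zpowers_le.2 (hc hn)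
        have hzp : IsPGroup p (Subgroup.zpowers (x⁻¹ * a)) := by
          obtain ⟨l, hl⟩ := (hpow _).2 ⟨i + j, hn1⟩
          exact IsPGroup.of_card (n := l) (by rw [Nat.card_zpowers, hl])
        have hzn : (Subgroup.zpowers (x⁻¹ * a)).Normal := ⟨fun y hy g => by rw [Subgroup.mem_center_iff.1 (hz hy) g, mul_inv_cancel_right]; exact hy⟩
        have := IsPGroup.to_sup_of_normal_right Q.2 hzp
        exact Q.3 this le_sup_left ▸ (le_sup_right (a := (Q : Subgroup G)))
          (Subgroup.mem_zpowers (x⁻¹ * a))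
      exact Finset.mem_image.2 ⟨x⁻¹ * a,
        Finset.mem_filter.2 ⟨Finset.mem_univ _, hmem, hn⟩, mul_inv_cancel_left x a⟩
    rw [heq]; ring

end Cfsg.Agent.S4153
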