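import Cfsg.Statements.S4154


set_option autoImplicit false
open Cfsg

namespace Cfsg.Agent.S4154

/-- Let G be a finite group and α an automorphism of G such that every element of G is the product of an element fixed by α and an element of the form g⁻¹α(g). If N is a normal α-invariant subgroup, then the automorphism ᾱ induced on G/N has the same property, and every coset fixed by ᾱ contains an element fixed by α (so the fixed points of ᾱ are the images of the fixed points of α). -/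
theorem result {G : Type*} [Group G] [Finite G] (α : MulAut G)
    (hccp : ∀ x : G, ∃ c g : G, α c = c ∧ x = c * (g⁻¹ * α g))
    (N : Subgroup G) [N.Normal] (hN : ∀ n ∈ N, α n ∈ N) :
    (∀ x : G, ∃ c g : G, c⁻¹ * α c ∈ N ∧ x⁻¹ * (c * (g⁻¹ * α g)) ∈ N) ∧
    (∀ x : G, x⁻¹ * α x ∈ N → ∃ c : G, α c = c ∧ c⁻¹ * x ∈ N) := by
  classical
  refine ⟨fun x => ?_, ?_⟩
  · obtain ⟨c, g, hc, hx⟩ := hccp x
    exact ⟨c, g, by rw [hc, inv_mul_cancel]; exact one_mem _, by rw [← hx, inv_mul_cancel]; exact one_mem _⟩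
  let β : G ⧸ N →* G ⧸ N := QuotientGroup.map N N α.toMonoidHom fun n hn => hN n hn
  let F : Subgroup (G ⧸ N) := β.eqLocus (MonoidHom.id _)
  let h : G ⧸ N → G ⧸ N := fun x => x * β x⁻¹
  have hh : ∀ a b, a⁻¹ * b ∈ F ↔ h a = h b := by
    intro a b
    show β (a⁻¹ * b) = a⁻¹ * b ↔ a * β a⁻¹ = b * β b⁻¹
    simp only [map_mul, map_inv]
    constructor
    · intro e
      calc a * (β a)⁻¹ = a * ((β a)⁻¹ * β b) * (β b)⁻¹ := by group
        _ = b * (β b)⁻¹ := by rw [e]; group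
    · intro e
      calc (β a)⁻¹ * β b = a⁻¹ * (a * (β a)⁻¹) * β b := by group
        _ = a⁻¹ * b := by rw [e]; group
  have hcardI : Nat.card (G ⧸ N) = (Set.range h).ncard * Nat.card F := by
    rw [F.card_eq_card_quotient_mul_card_subgroup, ← Nat.card_coe_set_eq]
    congr 1
    refine Nat.card_congr (Equiv.ofBijective
      (Quotient.lift (fun x => (⟨h x, x, rfl⟩ : Set.range h))
        fun a b e => Subtype.ext ((hh a b).1 (QuotientGroup.leftRel_apply.1 e))) ⟨?_, ?_⟩)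
    · rintro ⟨a⟩ ⟨b⟩ e
      exact Quotient.sound (QuotientGroup.leftRel_apply.2 ((hh a b).2 (Subtype.ext_iff.1 e)))
    · rintro ⟨_, a, rfl⟩
      exact ⟨Quotient.mk'' a, rfl⟩
  set S : Set (G ⧸ N) := QuotientGroup.mk '' {c : G | α c = c}
  have hSF : S ⊆ (F : Set (G ⧸ N)) := by
    rintro _ ⟨c, hc, rfl⟩
    show ((α c : G) : G ⧸ N) = (c : G ⧸ N)
    rw [show α c = c from hc]
  have hall : (Set.univ : Set (G ⧸ N)) ⊆ (fun q : (G ⧸ N) × (G ⧸ N) => q.1 * q.2) '' (S ×ˢ Set.range h) := by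
    rintro ⟨x⟩ -
    obtain ⟨c, g, hc, hx⟩ := hccp x
    refine ⟨((c : G ⧸ N), h ((g⁻¹ : G) : G ⧸ N)), ⟨⟨c, hc, rfl⟩, ⟨_, rfl⟩⟩, ?_⟩
    show (c : G ⧸ N) * (((g⁻¹ : G) : G ⧸ N) * β ((g⁻¹ : G) : G ⧸ N)⁻¹) = ((x : G) : G ⧸ N)
    rw [hx, ← QuotientGroup.mk_inv, inv_inv]
    rfl
  have hle := (Set.ncard_le_ncard hall (Set.toFinite _)).trans (Set.ncard_image_le (Set.toFinite _))
  rw [Set.ncard_univ, Set.ncard_prod, hcardI, mul_comm] at hle
  have hpos : 0 < (Set.range h).ncard := (Set.ncard_pos (Set.toFinite _)).2 ⟨h 1, 1, rfl⟩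
  have heq : S = (F : Set (G ⧸ N)) := Set.eq_of_subset_of_ncard_le hSF
    (by rw [← Nat.card_coe_set_eq]; exact Nat.le_of_mul_le_mul_right hle hpos)
  intro x hx
  have hxF : (x : G ⧸ N) ∈ (F : Set (G ⧸ N)) := by
    show ((α x : G) : G ⧸ N) = (x : G ⧸ N)
    exact ((QuotientGroup.eq (s := N)).2 hx).symm
  rw [← heq] at hxF
  obtain ⟨c, hc, hcx⟩ := hxF
  exact ⟨c, hc, QuotientGroup.eq.1 hcx⟩

end Cfsg.Agent.S4154
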