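import Cfsg.Statements.S4155
import Cfsg.Agent.Lib.Solvable.Core
import Cfsg.Agent.Lib.Frobenius.Fpf
import Cfsg.Agent.S0016
import Mathlib.GroupTheory.SemidirectProduct

set_option autoImplicit false
open Cfsg

namespace Cfsg.Agent.S4155

/-- Let G be a finite group and N a proper non-trivial normal nilpotent subgroup whose order is not a prime power, such that for every x outside N all elements of the coset xN have the same order as x. Then N is the Fitting subgroup of G, and for every prime q every Sylow q-subgroup of G/N is cyclic or generalized quaternion. -/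
theorem result {G : Type*} [Group G] [Finite G] (N : Subgroup G) [N.Normal] (hN1 : N ≠ ⊥) (hN2 : N ≠ ⊤)
    (heq : ∀ x : G, x ∉ N → ∀ n ∈ N, orderOf (x * n) = orderOf x)
    (hnil : Group.IsNilpotent N) (hnpp : ¬ IsPrimePow (Nat.card N)) :
    N = Cfsg.fittingSubgroup G ∧
    ∀ (q : ℕ) [Fact q.Prime] (Q : Sylow q (G ⧸ N)), IsCyclic (Q : Subgroup (G ⧸ N)) ∨ ∃ n : ℕ, Nonempty ((Q : Subgroup (G ⧸ N)) ≃* QuaternionGroup (2 ^ n)) := by
  classical
  -- commuting of coprime prime power elements in a nilpotent subgroup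
  have comm : ∀ (F : Subgroup G), Group.IsNilpotent F → ∀ q r : ℕ, q.Prime → r.Prime → q ≠ r →
      ∀ x ∈ F, ∀ y ∈ F, (∃ a, x ^ q ^ a = 1) → (∃ b, y ^ r ^ b = 1) → Commute x y := by
    intro F hF q r hq hr hqr x hx y hy ⟨a, ha⟩ ⟨b, hb⟩
    haveI := hF
    haveI : Fact q.Prime := ⟨hq⟩
    haveI : Fact r.Prime := ⟨hr⟩
    obtain ⟨i, -, hi⟩ := (Nat.dvd_prime_pow hq).1
      (orderOf_dvd_of_pow_eq_one (x := (⟨x, hx⟩ : F)) (n := q ^ a) (Subtype.ext (by simpa using ha)))
    obtain ⟨j, -, hj⟩ := (Nat.dvd_prime_pow hr).1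
      (orderOf_dvd_of_pow_eq_one (x := (⟨y, hy⟩ : F)) (n := r ^ b) (Subtype.ext (by simpa using hb)))
    obtain ⟨P, hP⟩ := (IsPGroup.of_card (p := q) (n := i) (G := Subgroup.zpowers (⟨x, hx⟩ : F))
      (by rw [Nat.card_zpowers, hi])).exists_le_sylow
    obtain ⟨R, hR⟩ := (IsPGroup.of_card (p := r) (n := j) (G := Subgroup.zpowers (⟨y, hy⟩ : F))
      (by rw [Nat.card_zpowers, hj])).exists_le_sylow
    have h := Subgroup.commute_of_normal_of_disjoint (P : Subgroup F) R inferInstance inferInstance
      (IsPGroup.disjoint_of_ne q r hqr _ _ P.2 R.2) _ _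
      (hP (Subgroup.mem_zpowers _)) (hR (Subgroup.mem_zpowers _))
    exact congrArg Subtype.val h.eq
  have other : ∀ q : ℕ, q.Prime → ∃ r : ℕ, r.Prime ∧ r ≠ q ∧ r ∣ Nat.card N := by
    intro q hq
    by_contra hcon
    push Not at hcon
    have h1 := Nat.eq_prime_pow_of_unique_prime_dvd (p := q) (n := Nat.card N) Nat.card_pos.ne'
      (fun {d} hd hdvd => by_contra fun hne => hcon d hd hne hdvd)
    rcases Nat.eq_zero_or_pos (Nat.card N).primeFactorsList.length with h0 | h0
    · rw [h0, pow_zero] at h1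
      exact hN1 (Subgroup.eq_bot_of_card_eq _ h1)
    · exact hnpp ⟨q, _, Nat.prime_iff.1 hq, h0, h1.symm⟩
  -- the key consequence of the hypothesis
  have key : ∀ x ∉ N, ∀ v ∈ N, ∀ q r : ℕ, q.Prime → r.Prime → q ≠ r → (∃ a, x ^ q ^ a = 1) →
      v ^ r = 1 → Commute x v → v = 1 := by
    intro x hx v hv q r hq hr hqr ⟨a, ha⟩ hvr hc
    have h1 : orderOf v ∣ r := orderOf_dvd_of_pow_eq_one hvr
    have h2 : orderOf x ∣ q ^ a := orderOf_dvd_of_pow_eq_one ha
    have h3 := hc.orderOf_mul_eq_mul_orderOf_of_coprime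
      ((((Nat.coprime_primes hq hr).2 hqr).pow_left a).coprime_dvd_left h2 |>.coprime_dvd_right h1)
    rw [heq x hx v hv] at h3
    exact orderOf_eq_one_iff.1 (Nat.eq_of_mul_eq_mul_left (orderOf_pos x) (by rw [mul_one]; exact h3.symm))
  constructor
  · refine le_antisymm (CfsgLib.Solvable.le_fittingSubgroup ‹_› hnil) ?_
    set F := Cfsg.fittingSubgroup G with hF
    have hFnil : Group.IsNilpotent F := CfsgLib.Solvable.fittingSubgroup_isNilpotent G
    have hNF : N ≤ F := CfsgLib.Solvable.le_fittingSubgroup ‹_› hnil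
    have hsyl : ∀ (q : ℕ) [Fact q.Prime] (P : Sylow q F), (P : Subgroup F) ≤ N.subgroupOf F := by
      intro q _ P x hx
      rw [Subgroup.mem_subgroupOf]
      by_contra hxN
      obtain ⟨r, hr, hrq, hrd⟩ := other q Fact.out
      haveI : Fact r.Prime := ⟨hr⟩
      obtain ⟨v, hv⟩ := exists_prime_orderOf_dvd_card' r hrd
      obtain ⟨a, ha⟩ := P.2 ⟨x, hx⟩
      have ha' : (x : G) ^ q ^ a = 1 := by
        simpa using congrArg (fun z : (P : Subgroup F) => ((z : F) : G)) ha
      have hv' : (v : G) ^ r = 1 := by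
        have := pow_orderOf_eq_one v
        rw [hv] at this
        simpa using congrArg Subtype.val this
      have := key (x : G) hxN v v.2 q r Fact.out hr (Ne.symm hrq) ⟨a, ha'⟩ hv'
        (comm F hFnil q r Fact.out hr (Ne.symm hrq) x x.2 v (hNF v.2) ⟨a, ha'⟩ ⟨1, by rw [pow_one, hv']⟩)
      rw [OneMemClass.coe_eq_one] at this
      rw [this, orderOf_one] at hv
      exact hr.ne_one hv.symm
    have hdvd : Nat.card F ∣ Nat.card (N.subgroupOf F) := by
      rw [Nat.dvd_iff_prime_pow_dvd_dvd]
      intro q k hq hqk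
      haveI : Fact q.Prime := ⟨hq⟩
      obtain ⟨P⟩ := (inferInstance : Nonempty (Sylow q F))
      exact (P.pow_dvd_card_of_pow_dvd_card hqk).trans (Subgroup.card_dvd_of_le (hsyl q P))
    exact Subgroup.subgroupOf_eq_top.1 (Subgroup.eq_top_of_le_card _ (Nat.le_of_dvd Nat.card_pos hdvd))
  intro q _ Q
  have hq : q.Prime := Fact.out
  have hQ : IsPGroup q (Q : Subgroup (G ⧸ N)) := Q.2
  refine (Cfsg.Agent.S0016.result q hQ ?_).imp id (fun h => h.2)
  intro H K hH hK
  obtain ⟨r, hr, hrq, hrd⟩ := other q hq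
  haveI : Fact r.Prime := ⟨hr⟩
  -- the elements of order `r` of the centre of `N`
  let V : Subgroup G :=
    { carrier := {v | v ∈ N ∧ (∀ n ∈ N, Commute n v) ∧ v ^ r = 1}
      one_mem' := ⟨one_mem _, fun n _ => Commute.one_right n, one_pow _⟩
      mul_mem' := fun {a b} ha hb => ⟨N.mul_mem ha.1 hb.1, fun n hn => (ha.2.1 n hn).mul_right (hb.2.1 n hn),
        by rw [(hb.2.1 a ha.1).mul_pow, ha.2.2, hb.2.2, one_mul]⟩
      inv_mem' := fun {a} ha => ⟨N.inv_mem ha.1, fun n hn => (ha.2.1 n hn).inv_right,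
        by rw [inv_pow, ha.2.2, inv_one]⟩ }
  have hVn : V.Normal := by
    refine ⟨fun v hv a => ⟨‹N.Normal›.conj_mem v hv.1 a, fun n hn => ?_, by
      rw [conj_pow, hv.2.2, mul_one, mul_inv_cancel]⟩⟩
    have h := (hv.2.1 _ (‹N.Normal›.conj_mem n hn a⁻¹)).eq
    rw [inv_inv] at h
    show n * (a * v * a⁻¹) = a * v * a⁻¹ * n
    calc n * (a * v * a⁻¹) = a * (a⁻¹ * n * a * v) * a⁻¹ := by group
      _ = a * (v * (a⁻¹ * n * a)) * a⁻¹ := by rw [h]
      _ = _ := by group
  have hVcomm : ∀ a b : V, a * b = b * a := fun a b => Subtype.ext (b.2.2.1 a a.2.1).eq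
  have hVne : ∃ v ∈ V, v ≠ (1 : G) := by
    obtain ⟨R⟩ := (inferInstance : Nonempty (Sylow r N))
    have hRne : (R : Subgroup N) ≠ ⊥ := by
      intro h
      have := R.dvd_card_of_dvd_card hrd
      rw [h, Subgroup.card_bot] at this
      exact hr.ne_one (Nat.dvd_one.1 this)
    haveI : Nontrivial (R : Subgroup N) := (Subgroup.nontrivial_iff_ne_bot _).2 hRne
    haveI := R.2.center_nontrivial
    obtain ⟨z, hz⟩ := exists_prime_orderOf_dvd_card' (G := Subgroup.center (R : Subgroup N)) r (by
      obtain ⟨k, hk⟩ := IsPGroup.iff_card.1 (R.2.to_subgroup (Subgroup.center (R : Subgroup N)))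
      have h1 := Finite.one_lt_card (α := Subgroup.center (R : Subgroup N))
      rw [hk] at h1 ⊢
      exact dvd_pow_self r (fun h => by rw [h, pow_zero] at h1; exact lt_irrefl _ h1))
    set z' : N := ((z : (R : Subgroup N)) : N)
    have hz1 : z' ^ r = 1 := by
      have := pow_orderOf_eq_one z
      rw [hz] at this
      simpa [z'] using congrArg (fun w : Subgroup.center (R : Subgroup N) => ((w : (R : Subgroup N)) : N)) this
    refine ⟨(z' : G), ⟨z'.2, fun n hn => ?_, by simpa using congrArg Subtype.val hz1⟩, fun h => ?_⟩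
    · -- every element of `N` commutes with `z'`
      have : z' ∈ Subgroup.center N := by
        set Z := Subgroup.centralizer ({z'} : Set N)
        have htop : Z = ⊤ := by
          refine Subgroup.eq_top_of_le_card _ (Nat.le_of_dvd Nat.card_pos ?_)
          rw [Nat.dvd_iff_prime_pow_dvd_dvd]
          intro s k hs hsk
          haveI : Fact s.Prime := ⟨hs⟩
          obtain ⟨S⟩ := (inferInstance : Nonempty (Sylow s N))
          refine (S.pow_dvd_card_of_pow_dvd_card hsk).trans (Subgroup.card_dvd_of_le fun y hy => ?_)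
          rw [Subgroup.mem_centralizer_singleton_iff]
          by_cases hsr : s = r
          · subst hsr
            haveI := hnil
            have : (S : Subgroup N) = R := by
              haveI : Subsingleton (Sylow s N) := by
                obtain ⟨g⟩ : Nonempty N := ⟨1⟩
                refine ⟨fun A B => ?_⟩
                obtain ⟨g, rfl⟩ := MulAction.exists_smul_eq N A B
                exact (Sylow.smul_eq_iff_mem_normalizer.2 (by
                  show g ∈ Subgroup.normalizer ((A : Subgroup N) : Set N)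
                  rw [Subgroup.normalizer_eq_top]; trivial)).symm
              rw [Subsingleton.elim S R]
            rw [this] at hy
            exact congrArg Subtype.val (Subgroup.mem_center_iff.1 z.2 ⟨y, hy⟩)
          · obtain ⟨b, hb⟩ := S.2 ⟨y, hy⟩
            exact Subtype.ext (comm N hnil s r hs hr hsr y y.2 z' z'.2
              ⟨b, by simpa using congrArg (fun w : (S : Subgroup N) => ((w : N) : G)) hb⟩
              ⟨1, by simpa using congrArg Subtype.val hz1⟩).eq
        rw [Subgroup.mem_center_iff]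
        exact fun y => Subgroup.mem_centralizer_singleton_iff.1 (show y ∈ Z by rw [htop]; trivial)
      exact congrArg Subtype.val (Subgroup.mem_center_iff.1 this ⟨n, hn⟩)
    · have : z = 1 := Subtype.ext (Subtype.ext (Subtype.ext h))
      rw [this, orderOf_one] at hz
      exact hr.ne_one hz.symm
  let φ : G ⧸ N →* MulAut V := QuotientGroup.lift N (MulAut.conjNormal (H := V)) (fun n hn => by
    rw [MonoidHom.mem_ker]
    ext v
    rw [MulAut.conjNormal_apply, (v.2.2.1 n hn).eq, mul_inv_cancel_right]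
    rfl)
  have hfix : ∀ (g : G ⧸ N) (v : V), (∃ a, g ^ q ^ a = 1) → g ≠ 1 → φ g v = v → v = 1 := by
    intro g v ⟨a, ha⟩ hg hgv
    obtain ⟨x, rfl⟩ := QuotientGroup.mk'_surjective N g
    have hc : Commute x (v : G) := by
      have := congrArg Subtype.val hgv
      rw [QuotientGroup.mk'_apply, show φ (x : G ⧸ N) = MulAut.conjNormal x from rfl,
        MulAut.conjNormal_apply] at this
      exact mul_inv_eq_iff_eq_mul.1 this
    obtain ⟨k, m, hm, hkm⟩ := Nat.exists_eq_pow_mul_and_not_dvd (orderOf_pos x).ne' q hq.ne_one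
    have hxm : x ^ m ∉ N := by
      intro h
      apply hg
      rw [← orderOf_eq_one_iff]
      refine Nat.eq_one_of_dvd_coprimes (((Nat.Prime.coprime_iff_not_dvd hq).2 hm).pow_left a)
        (orderOf_dvd_of_pow_eq_one ha) (orderOf_dvd_of_pow_eq_one ?_)
      rw [← map_pow]
      exact (QuotientGroup.eq_one_iff _).2 h
    exact Subtype.ext (key (x ^ m) hxm v v.2.1 q r hq hr (Ne.symm hrq)
      ⟨k, by rw [← pow_mul, mul_comm, ← hkm, pow_orderOf_eq_one]⟩ v.2.2.2 (hc.pow_left m))
  let f : (Q : Subgroup (G ⧸ N)) →* MulAut V := φ.comp (Q : Subgroup (G ⧸ N)).subtype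
  -- an element of order `q` in the centre of `Q`
  by_contra hHK
  haveI : Nontrivial (Q : Subgroup (G ⧸ N)) := by
    haveI : Nontrivial H := Finite.one_lt_card_iff_nontrivial.1 (by rw [hH]; exact hq.one_lt)
    exact Subgroup.nontrivial_iff_ne_bot _ |>.2 (fun h => by
      have := Subgroup.card_subgroup_dvd_card H
      rw [hH, Subgroup.card_eq_one.2 h] at this
      exact hq.ne_one (Nat.dvd_one.1 this))
  haveI := hQ.center_nontrivial
  obtain ⟨z, hz⟩ := exists_prime_orderOf_dvd_card' (G := Subgroup.center (Q : Subgroup (G ⧸ N))) q (by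
    obtain ⟨k, hk⟩ := IsPGroup.iff_card.1 (hQ.to_subgroup (Subgroup.center (Q : Subgroup (G ⧸ N))))
    have h1 := Finite.one_lt_card (α := Subgroup.center (Q : Subgroup (G ⧸ N)))
    rw [hk] at h1 ⊢
    exact dvd_pow_self q (fun h => by rw [h, pow_zero] at h1; exact lt_irrefl _ h1))
  set Z := (Subgroup.zpowers z).map (Subgroup.center (Q : Subgroup (G ⧸ N))).subtype with hZ
  have hZc : Nat.card Z = q := by
    rw [hZ, Subgroup.card_map_of_injective (Subgroup.subtype_injective _), Nat.card_zpowers, hz]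
  have hZle : Z ≤ Subgroup.center (Q : Subgroup (G ⧸ N)) := Subgroup.map_subtype_le _
  haveI : Z.Normal := ⟨fun w hw g => by
    rw [Subgroup.mem_center_iff.1 (hZle hw) g, mul_inv_cancel_right]; exact hw⟩
  obtain ⟨L, hL, hLZ⟩ : ∃ L : Subgroup (Q : Subgroup (G ⧸ N)), Nat.card L = q ∧ L ≠ Z := by
    by_cases h : H = Z
    · exact ⟨K, hK, fun h' => hHK (h.trans h'.symm)⟩
    · exact ⟨H, hH, h⟩
  set A := L ⊔ Z with hA
  have hdis : Z ⊓ L = ⊥ := by
    have h1 : Nat.card ↥(Z ⊓ L) ∣ q := (Subgroup.card_dvd_of_le inf_le_right).trans hL.dvd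
    rcases hq.eq_one_or_self_of_dvd _ h1 with h | h
    · exact Subgroup.eq_bot_of_card_eq _ h
    · exfalso
      refine hLZ ?_
      rw [← Subgroup.eq_of_le_of_card_ge (inf_le_right : Z ⊓ L ≤ L) (by rw [h, hL]),
        Subgroup.eq_of_le_of_card_ge (inf_le_left : Z ⊓ L ≤ Z) (by rw [h, hZc])]
  have hAcard : Nat.card A = q * q := by
    have h2 := Subgroup.relIndex_mul_relIndex ⊥ Z (L ⊔ Z) bot_le le_sup_right
    rw [Subgroup.relIndex_bot_left, Subgroup.relIndex_bot_left, Subgroup.relIndex_sup_right,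
      ← Subgroup.inf_relIndex_right, hdis, Subgroup.relIndex_bot_left, hZc, hL] at h2
    exact h2.symm
  let S := SemidirectProduct (↥V) A (f.comp A.subtype)
  haveI : Finite S := Finite.of_equiv _ SemidirectProduct.equivProd.symm
  set V' : Subgroup S := (SemidirectProduct.inl : ↥V →* S).range
  set A' : Subgroup S := (SemidirectProduct.inr : A →* S).range
  haveI : IsMulCommutative V' := ⟨⟨by
    rintro ⟨_, u, rfl⟩ ⟨_, w, rfl⟩
    apply Subtype.ext
    show SemidirectProduct.inl u * SemidirectProduct.inl w = SemidirectProduct.inl w * SemidirectProduct.inl u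
    rw [← map_mul, ← map_mul, hVcomm]⟩⟩
  have hV'ne : V' ≠ ⊥ := by
    obtain ⟨v, hv, hv1⟩ := hVne
    intro h
    have h1 : (SemidirectProduct.inl (⟨v, hv⟩ : V) : S) ∈ V' := ⟨_, rfl⟩
    rw [h, Subgroup.mem_bot] at h1
    have := congrArg SemidirectProduct.left h1
    exact hv1 (by simpa using congrArg Subtype.val this)
  haveI hV'n : V'.Normal := by
    rw [show V' = (SemidirectProduct.rightHom : S →* A).ker from SemidirectProduct.range_inl_eq_ker_rightHom]
    infer_instance
  have hcyc : IsCyclic A' := by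
    refine CfsgLib.Frobenius.isCyclic_of_card_mul_fpf hV'ne (by rw [Subgroup.normalizer_eq_top]; exact le_top) ?_ hq hq ?_
    · rintro _ ⟨a, rfl⟩ ha
      rw [eq_bot_iff]
      rintro _ ⟨⟨v, rfl⟩, hv⟩
      replace hv := Subgroup.mem_centralizer_singleton_iff.1 hv
      have ha' : ((a : (Q : Subgroup (G ⧸ N))) : G ⧸ N) ≠ 1 := by
        intro h
        exact ha (by rw [show a = 1 from Subtype.ext (Subtype.ext h), map_one])
      obtain ⟨e, he⟩ := hQ (a : (Q : Subgroup (G ⧸ N)))
      have hv' : f (a : (Q : Subgroup (G ⧸ N))) v = v := by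
        have h5 := SemidirectProduct.inl_aut (φ := f.comp A.subtype) a v
        rw [map_inv, ← hv, mul_inv_cancel_right] at h5
        exact SemidirectProduct.inl_injective h5
      rw [Subgroup.mem_bot, hfix _ v ⟨e, by simpa using congrArg Subtype.val he⟩ ha' hv',
        map_one]
    · rw [show Nat.card A' = Nat.card A from
        (Nat.card_congr (MonoidHom.ofInjective SemidirectProduct.inr_injective).toEquiv).symm, hAcard]
  have hAcyc : IsCyclic A := (MonoidHom.ofInjective (f := (SemidirectProduct.inr : A →* S))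
    SemidirectProduct.inr_injective).symm.isCyclic.1 hcyc
  apply hLZ
  cases nonempty_fintype A
  have h1 : Nat.card (L.subgroupOf A) = q := (Nat.card_congr (Subgroup.subgroupOfEquivOfLe le_sup_left).toEquiv).trans hL
  have h2 : Nat.card (Z.subgroupOf A) = q := (Nat.card_congr (Subgroup.subgroupOfEquivOfLe le_sup_right).toEquiv).trans hZc
  have hinj : L.subgroupOf A = Z.subgroupOf A := by
    by_contra hne
    obtain ⟨g, hg⟩ := hAcyc.exists_generator
    have hord := (IsCyclic.card_pow_eq_one_le (α := A) hq.pos)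
    have hsub : ∀ M : Subgroup A, Nat.card M = q →
        (Finset.univ.filter fun a => a ∈ M) ⊆ Finset.univ.filter fun a : A => a ^ q = 1 := by
      intro M hM a ha
      simp only [Finset.mem_filter, Finset.mem_univ, true_and] at ha ⊢
      have := pow_card_eq_one' (x := (⟨a, ha⟩ : M))
      rw [hM] at this
      simpa using congrArg Subtype.val this
    have hcardM : ∀ M : Subgroup A, Nat.card M = q → (Finset.univ.filter fun a => a ∈ M).card = q := by
      intro M hM
      exact (Fintype.card_subtype _).symm.trans (Nat.card_eq_fintype_card.symm.trans hM)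
    have e1 := Finset.eq_of_subset_of_card_le (hsub _ h1) (by rw [hcardM _ h1]; exact hord)
    have e2 := Finset.eq_of_subset_of_card_le (hsub _ h2) (by rw [hcardM _ h2]; exact hord)
    exact hne (SetLike.ext fun a => by simpa using Finset.ext_iff.1 (e1.trans e2.symm) a)
  rwa [Subgroup.subgroupOf_inj, inf_eq_left.2 le_sup_left, inf_eq_left.2 le_sup_right] at hinj

end Cfsg.Agent.S4155
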