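import Cfsg.Statements.S4156


set_option autoImplicit false
open Cfsg

namespace Cfsg.Agent.S4156

/-- Let n ≥ 5 and F a finite field. Then the projective special linear group PSL_n(F) contains a subgroup isomorphic to the alternating group of degree n + 1. -/
theorem result (n : ℕ) (hn : 5 ≤ n) (F : Type*) [Field F] [Finite F] :
    ∃ f : alternatingGroup (Fin (n + 1)) →* Matrix.ProjectiveSpecialLinearGroup (Fin n) F, Function.Injective f := by
  classical
  let δ : Fin (n + 1) → Fin (n + 1) → F := fun x y => if x = y then 1 else 0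
  let M : Equiv.Perm (Fin (n + 1)) → Matrix (Fin n) (Fin n) F := fun σ => Matrix.of fun i j =>
    δ i.castSucc (σ j.castSucc) - δ i.castSucc (σ (Fin.last n))
  have hδsum : ∀ (c : Fin (n + 1) → F) y, ∑ x, c x * δ x y = c y := by
    intro c y; simp [δ]
  have hmul : ∀ σ τ, M (σ * τ) = M σ * M τ := by
    intro σ τ
    ext i j
    rw [Matrix.mul_apply]
    simp only [M, Matrix.of_apply, Equiv.Perm.mul_apply]
    set c : Fin (n + 1) → F := fun x => δ i.castSucc (σ x)
    set d : Fin (n + 1) → F := fun x => δ x (τ j.castSucc) - δ x (τ (Fin.last n))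
    have h1 : ∀ l : Fin n, (δ i.castSucc (σ l.castSucc) - δ i.castSucc (σ (Fin.last n))) *
        (δ l.castSucc (τ j.castSucc) - δ l.castSucc (τ (Fin.last n))) =
        (c l.castSucc - c (Fin.last n)) * d l.castSucc := fun l => rfl
    rw [Finset.sum_congr rfl fun l _ => h1 l]
    have h2 := Fin.sum_univ_castSucc (fun x => (c x - c (Fin.last n)) * d x)
    simp only [sub_self, zero_mul, add_zero] at h2
    rw [← h2]
    simp only [d, mul_sub, sub_mul, Finset.sum_sub_distrib, hδsum, ← Finset.mul_sum]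
    simp [c, δ]
  have hone : M 1 = 1 := by
    ext i j
    simp [M, δ, Matrix.one_apply, Fin.castSucc_ne_last]
  let f₀ : alternatingGroup (Fin (n + 1)) →* Matrix (Fin n) (Fin n) F :=
    { toFun := fun σ => M σ, map_one' := hone, map_mul' := fun σ τ => hmul σ τ }
  haveI hsimple : IsSimpleGroup (alternatingGroup (Fin (n + 1))) :=
    alternatingGroup.isSimpleGroup (by simp; omega)
  set σ₀ : Equiv.Perm (Fin (n + 1)) :=
    Equiv.swap (Fin.castSucc ⟨0, by omega⟩) (Fin.castSucc ⟨2, by omega⟩) *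
      Equiv.swap (Fin.castSucc ⟨0, by omega⟩) (Fin.castSucc ⟨1, by omega⟩) with hσ₀
  have hσA : σ₀ ∈ alternatingGroup (Fin (n + 1)) := by
    rw [Equiv.Perm.mem_alternatingGroup, hσ₀, map_mul, Equiv.Perm.sign_swap (by simp [Fin.ext_iff]),
      Equiv.Perm.sign_swap (by simp [Fin.ext_iff]), Int.units_mul_self]
  have hdet : ∀ σ : alternatingGroup (Fin (n + 1)), (f₀ σ).det = 1 := by
    let d : alternatingGroup (Fin (n + 1)) →* F :=
      { toFun := fun σ => (f₀ σ).det, map_one' := by simp, map_mul' := fun a b => by simp }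
    have hna : ∃ a b : alternatingGroup (Fin (n + 1)), a * b ≠ b * a := by
      set τ₀ : Equiv.Perm (Fin (n + 1)) :=
        Equiv.swap (Fin.castSucc ⟨0, by omega⟩) (Fin.castSucc ⟨1, by omega⟩) *
          Equiv.swap (Fin.castSucc ⟨3, by omega⟩) (Fin.castSucc ⟨4, by omega⟩) with hτ₀
      have hτA : τ₀ ∈ alternatingGroup (Fin (n + 1)) := by
        rw [Equiv.Perm.mem_alternatingGroup, hτ₀, map_mul, Equiv.Perm.sign_swap (by simp [Fin.ext_iff]),
          Equiv.Perm.sign_swap (by simp [Fin.ext_iff]), Int.units_mul_self]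
      refine ⟨⟨σ₀, hσA⟩, ⟨τ₀, hτA⟩, fun h => ?_⟩
      have h' := DFunLike.congr_fun (congrArg Subtype.val h) (Fin.castSucc ⟨0, by omega⟩)
      simp [hσ₀, hτ₀, Equiv.swap_apply_def, Fin.ext_iff] at h'
    have hker : d.toHomUnits.ker = ⊤ := by
      rcases (inferInstance : d.toHomUnits.ker.Normal).eq_bot_or_eq_top with h | h
      · obtain ⟨a, b, hab⟩ := hna
        refine absurd ((MonoidHom.ker_eq_bot_iff _).1 h ?_) hab
        rw [map_mul, map_mul, mul_comm]
      · exact h
    intro σ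
    exact congrArg Units.val (MonoidHom.mem_ker.1 (hker ▸ Subgroup.mem_top σ))
  let f₁ : alternatingGroup (Fin (n + 1)) →* Matrix.SpecialLinearGroup (Fin n) F :=
    { toFun := fun σ => ⟨f₀ σ, hdet σ⟩
      map_one' := Subtype.ext (map_one f₀)
      map_mul' := fun a b => Subtype.ext (map_mul f₀ a b) }
  let f := (QuotientGroup.mk' (Subgroup.center (Matrix.SpecialLinearGroup (Fin n) F))).comp f₁
  refine ⟨f, (MonoidHom.ker_eq_bot_iff _).1 ?_⟩
  rcases (inferInstance : f.ker.Normal).eq_bot_or_eq_top with h | h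
  · exact h
  exfalso
  have hmem : f₁ ⟨σ₀, hσA⟩ ∈ Subgroup.center (Matrix.SpecialLinearGroup (Fin n) F) :=
    (QuotientGroup.eq_one_iff _).1 (MonoidHom.mem_ker.1 (h ▸ Subgroup.mem_top (⟨σ₀, hσA⟩ : alternatingGroup (Fin (n + 1)))))
  obtain ⟨r, -, hr⟩ := Matrix.SpecialLinearGroup.mem_center_iff.1 hmem
  have h10 := congrFun (congrFun hr ⟨1, by omega⟩) ⟨0, by omega⟩
  have e1 : σ₀ (Fin.castSucc (⟨0, by omega⟩ : Fin n)) = Fin.castSucc ⟨1, by omega⟩ := by
    rw [hσ₀, Equiv.Perm.mul_apply, Equiv.swap_apply_left,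
      Equiv.swap_apply_of_ne_of_ne (by simp [Fin.ext_iff]) (by simp [Fin.ext_iff])]
  have e2 : σ₀ (Fin.last n) = Fin.last n := by
    rw [hσ₀, Equiv.Perm.mul_apply,
      Equiv.swap_apply_of_ne_of_ne (Fin.castSucc_ne_last _).symm (Fin.castSucc_ne_last _).symm,
      Equiv.swap_apply_of_ne_of_ne (Fin.castSucc_ne_last _).symm (Fin.castSucc_ne_last _).symm]
  change (Matrix.scalar (Fin n)) r _ _ = δ _ (σ₀ _) - δ _ (σ₀ _) at h10
  rw [e1, e2] at h10
  simp [δ, Fin.ext_iff] at h10
  split_ifs at h10 with hc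
  · omega
  · simp at h10

end Cfsg.Agent.S4156
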