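import Cfsg.Statements.S4160
import Cfsg.Agent.Lib.ClassSize.SylowCentralizer

set_option autoImplicit false
open Cfsg

namespace Cfsg.Agent.S4160

/-- Let G be a finite group and p ≠ q primes each dividing the size of some conjugacy class of G, such that no conjugacy class size is divisible by pq. Then G has a normal p-complement or a normal q-complement. -/
theorem result {G : Type*} [Group G] [Finite G] (p q : ℕ) (hp : p.Prime) (hq : q.Prime) (hpq : p ≠ q)
    (hp' : ∃ x : G, p ∣ (Subgroup.centralizer ({x} : Set G)).index) (hq' : ∃ x : G, q ∣ (Subgroup.centralizer ({x} : Set G)).index) (h : ∀ x : G, ¬ p * q ∣ (Subgroup.centralizer ({x} : Set G)).index) :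
    Cfsg.HasNormalPComplement p G ∨ Cfsg.HasNormalPComplement q G := by
  classical
  haveI : Fact p.Prime := ⟨hp⟩
  haveI : Fact q.Prime := ⟨hq⟩
  by_contra hcon
  rw [not_or] at hcon
  have h1 := CfsgLib.ClassSize.two_mul_ncard_coprimeClassSet_le p hcon.1
  have h2 := CfsgLib.ClassSize.two_mul_ncard_coprimeClassSet_le q hcon.2
  set A := CfsgLib.ClassSize.coprimeClassSet G p
  set B := CfsgLib.ClassSize.coprimeClassSet G q
  have hu : A ∪ B = Set.univ := by
    refine Set.eq_univ_of_forall fun x => ?_
    by_contra hx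
    simp only [A, B, CfsgLib.ClassSize.coprimeClassSet, Set.mem_union, Set.mem_ofPred_eq,
      not_or, not_not] at hx
    exact h x (Nat.Coprime.mul_dvd_of_dvd_of_dvd ((Nat.coprime_primes hp hq).2 hpq) hx.1 hx.2)
  have hi : 1 ≤ (A ∩ B).ncard := (Set.ncard_pos (Set.toFinite _)).2
    ⟨1, CfsgLib.ClassSize.one_mem_coprimeClassSet p hp.ne_one,
      CfsgLib.ClassSize.one_mem_coprimeClassSet q hq.ne_one⟩
  have h3 := Set.ncard_union_add_ncard_inter A B (Set.toFinite _) (Set.toFinite _)
  rw [hu, Set.ncard_univ] at h3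
  omega

end Cfsg.Agent.S4160
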