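import Cfsg.Statements.S4168
import Mathlib.GroupTheory.Transfer

set_option autoImplicit false
open Cfsg

namespace Cfsg.Agent.S4168

/-- Let L be a finite quasisimple group (perfect with L/Z(L) simple). Then every prime dividing the order of the centre Z(L) also divides the order of L/Z(L). -/
theorem result {L : Type*} [Group L] [Finite L] (hL : Cfsg.IsQuasisimple L)
    (p : ℕ) (hp : p.Prime) (hdiv : p ∣ Nat.card (Subgroup.center L)) : p ∣ (Subgroup.center L).index := by
  classical
  have : Fact p.Prime := ⟨hp⟩
  by_contra hnd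
  obtain ⟨P⟩ := (inferInstance : Nonempty (Sylow p L))
  -- the Sylow `p`-subgroup is central
  have hPZ : (P : Subgroup L) ≤ Subgroup.center L := by
    intro x hx
    obtain ⟨k, hk⟩ := P.2 ⟨x, hx⟩
    have hk' : x ^ p ^ k = 1 := by simpa using congrArg Subtype.val hk
    rw [← QuotientGroup.eq_one_iff, ← orderOf_eq_one_iff]
    refine Nat.eq_one_of_dvd_coprimes
      (((Nat.Prime.coprime_iff_not_dvd hp).2 hnd).pow_left k) ?_ (orderOf_dvd_natCard _)
    exact orderOf_dvd_of_pow_eq_one (by rw [← QuotientGroup.mk_pow, hk', QuotientGroup.mk_one])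
  have hcomm : Subgroup.normalizer (P : Set L) ≤ Subgroup.centralizer (P : Set L) := fun g _ =>
    Subgroup.mem_centralizer_iff.2 fun y hy => (Subgroup.mem_center_iff.1 (hPZ hy) g).symm
  haveI : IsMulCommutative (P : Subgroup L) :=
    ⟨⟨fun a b => Subtype.ext (Subgroup.mem_center_iff.1 (hPZ b.2) a)⟩⟩
  set f := MonoidHom.transferSylow P hcomm
  have hperf : commutator L = ⊤ := hL.1.commutator_eq_top
  have hker : commutator L ≤ f.ker := by
    rw [commutator_def, Subgroup.commutator_le]
    intro a _ b _
    rw [MonoidHom.mem_ker, map_commutatorElement, commutatorElement_eq_one_iff_mul_comm]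
    exact (IsMulCommutative.is_comm).comm _ _
  have hcompl := MonoidHom.ker_transferSylow_isComplement' P hcomm
  rw [hperf, top_le_iff] at hker
  have hcard := hcompl.card_mul
  rw [show (MonoidHom.transferSylow P hcomm).ker = ⊤ from hker, Subgroup.card_top] at hcard
  have hP1 : Nat.card (P : Subgroup L) = 1 := by
    refine Nat.eq_of_mul_eq_mul_left Nat.card_pos (hcard.trans (mul_one _).symm)
  exact (P.dvd_card_of_dvd_card (hdiv.trans (Subgroup.card_subgroup_dvd_card _))).elim
    fun c hc => hp.ne_one (Nat.eq_one_of_mul_eq_one_right (hc.symm.trans hP1))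

end Cfsg.Agent.S4168
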