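import Cfsg.Statements.S4169
import Cfsg.Agent.Lib.ClassSize.SmallClasses
import Cfsg.Agent.Lib.PGroup.Basic

set_option autoImplicit false
open Cfsg

namespace Cfsg.Agent.S4169

/-- Let P be a finite p-group whose conjugacy classes have exactly two sizes (1 and one other value). Then P has nilpotency class at most 3. -/
theorem result {P : Type*} [Group P] [Finite P] {p : ℕ} [Fact p.Prime] (hP : IsPGroup p P)
    (m : ℕ) (hm : 1 < m) (h : ∀ x : P, (Subgroup.centralizer ({x} : Set P)).index = 1 ∨ (Subgroup.centralizer ({x} : Set P)).index = m) :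
    upperCentralSeries P 3 = ⊤ := by
  classical
  -- a maximal abelian normal subgroup
  obtain ⟨A, ⟨hAn, hAc⟩, hmax⟩ := (Set.toFinite {B : Subgroup P | B.Normal ∧ IsMulCommutative B}).exists_maximalFor
    (fun B : Subgroup P => B) _ ⟨⊥, inferInstance, ⟨⟨fun a b => Subsingleton.elim _ _⟩⟩⟩
  haveI := hAn
  have hCA : Subgroup.centralizer (A : Set P) = A :=
    CfsgLib.PGroup.centralizer_eq_of_maximal_normal_abelian hP A hAc
      (fun B hBn hBc hle => le_antisymm (hmax ⟨hBn, hBc⟩ hle) hle)
  have h3 := CfsgLib.ClassSize.lowerCentralSeries_closure_small A hAc hCA m hm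
    (fun y hy => ((h y).resolve_left hy.ne').ge) ⊤
    (by
      symm
      rw [eq_top_iff]
      exact fun g _ => Subgroup.subset_closure (h g))
  rw [← Subgroup.lowerCentralSeries_eq_bot_iff_upperCentralSeries_eq_top] at h3
  show Subgroup.upperCentralSeries P 3 = ⊤
  rw [← Subgroup.lowerCentralSeries_eq_bot_iff_upperCentralSeries_eq_top]
  have h4 := congrArg (Subgroup.map (⊤ : Subgroup P).subtype) h3
  rw [Subgroup.map_bot] at h4
  simp only [Subgroup.lowerCentralSeries_succ, Subgroup.lowerCentralSeries_zero,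
    Subgroup.map_commutator, ← MonoidHom.range_eq_map, Subgroup.range_subtype] at h4 ⊢
  exact h4

end Cfsg.Agent.S4169
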