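import Cfsg.Statements.S4170
import Cfsg.Agent.Lib.SylowFlats.SetPair
-- import your own Cfsg.Agent.* helpers here

set_option autoImplicit false
open scoped Pointwise
open Cfsg

namespace Cfsg.Agent.S4170

/-- Let p be an odd prime and G a nontrivial group of permutations of a finite set Ω that is generated by its elements of p-power order. Then Ω has two disjoint nonempty subsets Δ₁ and Δ₂ such that the index in G of the subgroup of elements mapping Δ₁ onto Δ₁ and Δ₂ onto Δ₂ (and hence also the complement of their union onto itself) is divisible by p. -/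
theorem result {Ω : Type*} [Fintype Ω] (p : ℕ) [Fact p.Prime] (hp : p ≠ 2) (G : Subgroup (Equiv.Perm Ω)) (hG : G ≠ ⊥) (hgen : Subgroup.closure {g : G | ∃ k : ℕ, orderOf g = p ^ k} = ⊤) :
    ∃ Δ₁ Δ₂ : Set Ω, Δ₁.Nonempty ∧ Δ₂.Nonempty ∧ Disjoint Δ₁ Δ₂ ∧ p ∣ (MulAction.stabilizer G Δ₁ ⊓ MulAction.stabilizer G Δ₂).index := by
  obtain ⟨g, ⟨k, hk⟩, hg⟩ : ∃ g : G, (∃ k : ℕ, orderOf g = p ^ k) ∧ g ≠ 1 := by
    by_contra h
    push Not at h
    refine hG (Subgroup.eq_bot_iff_forall _ |>.2 fun a ha => ?_)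
    have h1 : (⟨a, ha⟩ : G) ∈ Subgroup.closure {g : G | ∃ k : ℕ, orderOf g = p ^ k} := by
      rw [hgen]; exact Subgroup.mem_top _
    have h2 : Subgroup.closure {g : G | ∃ k : ℕ, orderOf g = p ^ k} ≤ ⊥ := by
      rw [Subgroup.closure_le]
      intro b hb
      obtain ⟨k, hk⟩ := hb
      exact Subgroup.mem_bot.2 (h b ⟨k, hk⟩)
    exact congrArg Subtype.val (Subgroup.mem_bot.1 (h2 h1))
  obtain ⟨x, hx⟩ : ∃ x : Ω, g • x ≠ x := by
    by_contra h
    push Not at h
    exact hg (eq_of_smul_eq_smul fun x : Ω => (h x).trans (one_smul G x).symm)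
  exact CfsgLib.SylowFlats.exists_pair ⟨k, by rw [← hk]; exact pow_orderOf_eq_one g⟩ hx

end Cfsg.Agent.S4170
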