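import Cfsg.Statements.S4176
import Cfsg.Agent.Lib.OrbitSum.Spanning

set_option autoImplicit false
open Cfsg

namespace Cfsg.Agent.S4176

/-- Let k be a field of prime characteristic p, H a finite p-soluble group and ρ a k-linear representation of H on V. Let a be a vector that is fixed by some Sylow p-subgroup of H and whose H-orbit spans V. Then the space of H-fixed vectors has dimension at most 1, and every vector b whose H-orbit has size coprime to the size of the orbit of a is fixed by H. -/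
theorem result {k V H : Type*} [Field k] (p : ℕ) [Fact p.Prime] [CharP k p] [AddCommGroup V] [Module k V]
    [Group H] [Finite H] (hsol : Cfsg.IsPSolvable p H) (ρ : Representation k H V) (a : V)
    (hfix : ∃ P : Sylow p H, ∀ x : H, x ∈ (P : Subgroup H) → ρ x a = a)
    (hspan : Submodule.span k {u : V | ∃ h : H, ρ h a = u} = ⊤) :
    Module.finrank k ρ.invariants ≤ 1 ∧
    ∀ b : V, (Nat.card {u : V | ∃ h : H, ρ h a = u}).Coprime (Nat.card {u : V | ∃ h : H, ρ h b = u}) → ∀ h : H, ρ h b = b := by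
  have hp : p.Prime := Fact.out
  refine CfsgLib.OrbitSum.finrank_invariants_le_one_and_coprime ρ a fun K hK v hv => ?_
  let ρK : Representation k K V := ρ.comp K.subtype
  have hO : ∀ y : V, (∃ x : K, ρK x a = y) ↔ y ∈ CfsgLib.OrbitSum.orb ρ K a :=
    fun y => ⟨fun ⟨x, e⟩ => ⟨x, x.2, e⟩, fun ⟨x, hx, e⟩ => ⟨⟨x, hx⟩, e⟩⟩
  have hspanK : Submodule.span k {u : V | ∃ h : K, ρK h a = u} = ⊤ := by
    rw [← hspan]; congr 1; ext y
    rw [Set.mem_ofPred_eq, hO, hK]
    exact ⟨fun ⟨x, _, e⟩ => ⟨x, e⟩, fun ⟨x, e⟩ => ⟨x, trivial, e⟩⟩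
  have horbK : CfsgLib.OrbitSum.orb ρK (⊤ : Subgroup K) a = CfsgLib.OrbitSum.orb ρ ⊤ a := by
    ext y
    rw [← hK, ← hO]
    exact ⟨fun ⟨x, _, e⟩ => ⟨x, e⟩, fun ⟨x, e⟩ => ⟨x, trivial, e⟩⟩
  have hndvd : ¬ p ∣ (CfsgLib.OrbitSum.stab ρK a).index := by
    rw [← Subgroup.relIndex_top_right, ← CfsgLib.OrbitSum.ncard_orb, horbK,
      CfsgLib.OrbitSum.ncard_orb, Subgroup.relIndex_top_right]
    obtain ⟨P, hP⟩ := hfix
    exact fun h => P.not_dvd_index (h.trans (Subgroup.index_dvd_of_le fun x hx => hP x hx))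
  obtain ⟨n, S, h0, hlast, hmono, hnorm, hstep⟩ := hsol
  have h := CfsgLib.OrbitSum.invariants_mem_span ρK a hspanK n (fun i => (S i).subgroupOf K)
    (by simp only [h0, Subgroup.bot_subgroupOf]) (by simp only [hlast, Subgroup.top_subgroupOf])
    (fun i j hij => Subgroup.comap_mono (hmono hij)) (fun i => (hnorm i).subgroupOf K)
    (fun i => ?_) v (fun x => hv x x.2)
  · refine Submodule.span_mono (fun y hy => ?_) h
    rw [Set.mem_singleton_iff] at hy ⊢
    subst hy
    simp only [CfsgLib.OrbitSum.orbSum, horbK]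
  · have := hnorm i.castSucc
    have hdvd : ((S i.castSucc).subgroupOf K).relIndex ((S i.succ).subgroupOf K) ∣
        (S i.castSucc).relIndex (S i.succ) := by
      rw [Subgroup.subgroupOf, Subgroup.subgroupOf, Subgroup.relIndex_comap, Subgroup.map_comap_eq,
        Subgroup.range_subtype]
      rw [← Subgroup.inf_relIndex_right, ← Subgroup.inf_relIndex_right _ (S i.succ),
        ← Subgroup.relIndex_subgroupOf (inf_le_right : K ⊓ S i.succ ≤ S i.succ)]
      haveI : ((S i.castSucc ⊓ S i.succ).subgroupOf (S i.succ)).Normal := by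
        rw [Subgroup.inf_subgroupOf_right]; infer_instance
      simp only [Subgroup.inf_relIndex_right, Subgroup.relIndex_subgroupOf, inf_le_right]
      rw [← Subgroup.relIndex_subgroupOf (inf_le_right : K ⊓ S i.succ ≤ S i.succ)]
      exact Subgroup.relIndex_dvd_index_of_normal _ _
    rcases hstep i with ⟨m, hm⟩ | hc
    · right
      rw [hm] at hdvd
      exact Nat.Coprime.coprime_dvd_left hdvd (((Nat.Prime.coprime_iff_not_dvd hp).2 hndvd).pow_left m)
    · left
      rw [Ne, CharP.cast_eq_zero_iff k p]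
      exact fun h => (Nat.Prime.coprime_iff_not_dvd hp).1 hc.symm (h.trans hdvd)

end Cfsg.Agent.S4176
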