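import Cfsg.Statements.S4177
import Cfsg.Agent.Lib.OrbitSum.Spanning

set_option autoImplicit false
open Cfsg

namespace Cfsg.Agent.S4177

/-- Let k be a field whose characteristic does not divide the order of the finite group H (for instance a field of characteristic zero), and ρ a k-linear representation of H on V. Let a be a vector whose H-orbit spans V. Then the space of H-fixed vectors has dimension at most 1, and every vector b whose H-orbit has size coprime to the size of the orbit of a is fixed by H. -/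
theorem result {k V H : Type*} [Field k] [AddCommGroup V] [Module k V] [Group H] [Finite H]
    (hchar : ¬ ringChar k ∣ Nat.card H) (ρ : Representation k H V) (a : V)
    (hspan : Submodule.span k {u : V | ∃ h : H, ρ h a = u} = ⊤) :
    Module.finrank k ρ.invariants ≤ 1 ∧
    ∀ b : V, (Nat.card {u : V | ∃ h : H, ρ h a = u}).Coprime (Nat.card {u : V | ∃ h : H, ρ h b = u}) → ∀ h : H, ρ h b = b := by
  have hne : (Nat.card H : k) ≠ 0 := by rw [Ne, ringChar.spec]; exact hchar
  refine CfsgLib.OrbitSum.finrank_invariants_le_one_and_coprime ρ a fun K hK v hv => ?_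
  let ρK : Representation k K V := ρ.comp K.subtype
  have hO : ∀ y : V, (∃ x : K, ρK x a = y) ↔ y ∈ CfsgLib.OrbitSum.orb ρ K a :=
    fun y => ⟨fun ⟨x, e⟩ => ⟨x, x.2, e⟩, fun ⟨x, hx, e⟩ => ⟨⟨x, hx⟩, e⟩⟩
  have hspanK : Submodule.span k {u : V | ∃ h : K, ρK h a = u} = ⊤ := by
    rw [← hspan]; congr 1; ext y
    rw [Set.mem_ofPred_eq, hO, hK]
    exact ⟨fun ⟨x, _, e⟩ => ⟨x, e⟩, fun ⟨x, e⟩ => ⟨x, trivial, e⟩⟩
  have h := CfsgLib.OrbitSum.invariants_mem_span ρK a hspanK 1 ![⊥, ⊤] rfl rfl
    (by intro i j hij; fin_cases i <;> fin_cases j <;> simp_all)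
    (Fin.forall_fin_two.2 ⟨inferInstanceAs (⊥ : Subgroup K).Normal, inferInstanceAs (⊤ : Subgroup K).Normal⟩)
    (fun i => Or.inl ?_) v (fun x => hv x x.2)
  · refine Submodule.span_mono (fun y hy => ?_) h
    rw [Set.mem_singleton_iff] at hy ⊢
    subst hy
    simp only [CfsgLib.OrbitSum.orbSum]
    refine Finset.sum_congr ?_ fun _ _ => rfl
    ext y
    rw [Set.Finite.mem_toFinset, Set.Finite.mem_toFinset, ← hK, ← hO]
    exact ⟨fun ⟨x, _, e⟩ => ⟨x, e⟩, fun ⟨x, e⟩ => ⟨x, trivial, e⟩⟩
  · fin_cases i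
    simp only [Fin.zero_eta, Fin.castSucc_zero, Fin.succ_zero_eq_one, Matrix.cons_val_zero,
      Matrix.cons_val_one, Subgroup.relIndex_bot_left, Subgroup.card_top]
    intro h0
    obtain ⟨c, hc⟩ := K.card_subgroup_dvd_card
    exact hne (by rw [hc, Nat.cast_mul, h0, zero_mul])

end Cfsg.Agent.S4177
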