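import Cfsg.Statements.S4178


set_option autoImplicit false
open Cfsg

namespace Cfsg.Agent.S4178

/-- Let F be a finite field with q elements, V a non-zero finite-dimensional F-space of dimension d, H a group of invertible linear maps of V, and R the subgroup of H generated by the elements of H that fix some non-zero vector (have eigenvalue 1). Then the index of R in H is at most q^d − 1; and if H leaves invariant some proper non-zero subspace, the index is at most q^(d/2) − 1. -/
theorem result {F V : Type*} [Field F] [Fintype F] [AddCommGroup V] [Module F V] [FiniteDimensional F V] [Nontrivial V]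
    (H : Subgroup (V ≃ₗ[F] V)) :
    (Subgroup.closure {h : ↥H | ∃ v : V, v ≠ 0 ∧ (h : V ≃ₗ[F] V) v = v}).index ≤ Fintype.card F ^ Module.finrank F V - 1 ∧
    ((∃ W : Submodule F V, W ≠ ⊥ ∧ W ≠ ⊤ ∧ ∀ h ∈ H, ∀ w ∈ W, h w ∈ W) →
      ((Subgroup.closure {h : ↥H | ∃ v : V, v ≠ 0 ∧ (h : V ≃ₗ[F] V) v = v}).index : ℝ) ≤ Real.sqrt ((Fintype.card F : ℝ) ^ Module.finrank F V) - 1) := by
  classical
  set S : Set ↥H := {h : ↥H | ∃ v : V, v ≠ 0 ∧ (h : V ≃ₗ[F] V) v = v} with hS
  set R := Subgroup.closure S with hR
  have : Finite V := Module.finite_of_finite F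
  have key : ∀ {X : Type _} [Finite X] (φ : ↥H → X) (z : X), (∀ h, φ h ≠ z) →
      (∀ a b : ↥H, φ a = φ b → a⁻¹ * b ∈ S) → R.index + 1 ≤ Nat.card X := by
    intro X _ φ z hz hinj
    have hi : Function.Injective (fun q : ↥H ⧸ R => φ q.out) := by
      intro q₁ q₂ e
      rw [← QuotientGroup.out_eq' q₁, ← QuotientGroup.out_eq' q₂, QuotientGroup.eq]
      exact Subgroup.subset_closure (hinj _ _ e)
    have : Finite (↥H ⧸ R) := Finite.of_injective _ hi
    have h2 : Function.Injective (fun o : Option (↥H ⧸ R) => o.elim z (fun q => φ q.out)) := by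
      rintro (_ | a) (_ | b) e
      · rfl
      · exact absurd e.symm (hz _)
      · exact absurd e (hz _)
      · exact congrArg some (hi e)
    have h3 := Nat.card_le_card_of_injective _ h2
    rwa [Finite.card_option, ← Subgroup.index] at h3
  have : ∀ W : Submodule F V, Finite (V ⧸ W) := fun W => Module.finite_of_finite F
  have hq : Nat.card F = Fintype.card F := Nat.card_eq_fintype_card
  refine ⟨?_, ?_⟩
  · obtain ⟨v₀, hv₀⟩ := exists_ne (0 : V)
    have h := key (fun h : ↥H => (h : V ≃ₗ[F] V) v₀) 0 (fun h => by simpa using hv₀) ?_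
    · rw [Module.natCard_eq_pow_finrank (K := F), hq] at h
      omega
    · intro a b e
      refine ⟨v₀, hv₀, ?_⟩
      simp only [Subgroup.coe_mul, Subgroup.coe_inv, LinearEquiv.mul_apply]
      rw [← e]
      exact (a : V ≃ₗ[F] V).symm_apply_apply v₀
  · rintro ⟨W, hW0, hW1, hinv⟩
    obtain ⟨w₀, hw₀, hw₀'⟩ := Submodule.exists_mem_ne_zero_of_ne_bot hW0
    obtain ⟨v₀, hv₀⟩ := SetLike.exists_not_mem_of_ne_top W hW1
    have h1 := key (fun h : ↥H => (⟨(h : V ≃ₗ[F] V) w₀, hinv _ h.2 _ hw₀⟩ : ↥W)) 0
      (fun h e => hw₀' (by simpa using congrArg Subtype.val e)) ?_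
    · have h2 := key (fun h : ↥H => (Submodule.Quotient.mk ((h : V ≃ₗ[F] V) v₀) : V ⧸ W)) 0 ?_ ?_
      · have hmul : (R.index + 1) * (R.index + 1) ≤ Fintype.card F ^ Module.finrank F V := by
          refine (Nat.mul_le_mul h1 h2).trans (le_of_eq ?_)
          rw [Module.natCard_eq_pow_finrank (K := F), Module.natCard_eq_pow_finrank (K := F) (V := V ⧸ W),
            ← pow_add, add_comm, Submodule.finrank_quotient_add_finrank, hq]
        rw [le_sub_iff_add_le]
        refine Real.le_sqrt_of_sq_le ?_
        rw [pow_two]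
        exact_mod_cast hmul
      · intro h e
        rw [Submodule.Quotient.mk_eq_zero] at e
        have := hinv _ (h⁻¹).2 _ e
        simp only [Subgroup.coe_inv] at this
        rw [show ((h : V ≃ₗ[F] V)⁻¹) ((h : V ≃ₗ[F] V) v₀) = v₀ from
          (h : V ≃ₗ[F] V).symm_apply_apply v₀] at this
        exact hv₀ this
      · intro a b e
        rw [Submodule.Quotient.eq] at e
        have hc : ((a⁻¹ * b : ↥H) : V ≃ₗ[F] V) v₀ - v₀ ∈ W := by
          have := hinv _ (a⁻¹).2 _ (W.neg_mem e)
          simp only [neg_sub, Subgroup.coe_inv, map_sub] at this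
          rwa [show ((a : V ≃ₗ[F] V)⁻¹) ((a : V ≃ₗ[F] V) v₀) = v₀ from
            (a : V ≃ₗ[F] V).symm_apply_apply v₀] at this
        set c := a⁻¹ * b
        by_contra hcS
        -- `c - 1` is injective, hence bijective on `W`
        let d : V →ₗ[F] V := (c : V ≃ₗ[F] V).toLinearMap - LinearMap.id
        have hd : Function.Injective d := by
          rw [injective_iff_map_eq_zero]
          intro v hv
          by_contra hv0
          exact hcS ⟨v, hv0, sub_eq_zero.1 hv⟩
        have hdW : ∀ w ∈ W, d w ∈ W := fun w hw => W.sub_mem (hinv _ c.2 _ hw) hw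
        have hsurj : Function.Surjective (d.restrict hdW) := by
          rw [← LinearMap.injective_iff_surjective]
          exact fun x y e => Subtype.ext (hd (congrArg Subtype.val e))
        obtain ⟨w, hw⟩ := hsurj ⟨_, hc⟩
        have : d w = d v₀ := congrArg Subtype.val hw
        exact hv₀ (hd this ▸ w.2)
    · intro a b e
      refine ⟨w₀, hw₀', ?_⟩
      simp only [Subgroup.coe_mul, Subgroup.coe_inv, LinearEquiv.mul_apply]
      have e' : (a : V ≃ₗ[F] V) w₀ = (b : V ≃ₗ[F] V) w₀ := congrArg Subtype.val e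
      rw [← e']
      exact (a : V ≃ₗ[F] V).symm_apply_apply w₀

end Cfsg.Agent.S4178
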