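import Cfsg.Statements.S4182


set_option autoImplicit false
set_option linter.style.haveILetI false
open Cfsg

namespace Cfsg.Agent.S4182

universe v w

/-- The set of elements of `p`-power order. -/
def pEls (p : ℕ) (X : Type v) [Group X] : Set X := {g : X | ∃ k : ℕ, orderOf g = p ^ k}

theorem exists_eq_top (p : ℕ) [hp : Fact p.Prime] {ι : Type w} [Fintype ι]
    (hι : Fintype.card ι ≤ p) (X : Type v) [Group X] [Finite X]
    (hgen : Subgroup.closure (pEls p X) = ⊤) (K : ι → Subgroup X)
    (hcov : ∀ g ∈ pEls p X, ∃ i, g ∈ K i) : ∃ i, K i = ⊤ := by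
  classical
  induction hn : Nat.card X using Nat.strong_induction_on generalizing X with
  | h n ih =>
    subst hn
    by_contra hcon
    push Not at hcon
    -- proper subgroups generated by `p`-elements lie in a member of the family
    have key : ∀ L : Subgroup X, L ≠ ⊤ → L ≤ Subgroup.closure (pEls p X ∩ L) →
        ∃ i, L ≤ K i := by
      intro L hL hLgen
      have hlt : Nat.card L < Nat.card X :=
        lt_of_le_of_ne (Subgroup.card_le_card_group L) fun h =>
          hL (Subgroup.eq_top_of_card_eq L h)
      have hg : Subgroup.closure (pEls p L) = ⊤ := by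
        apply Subgroup.map_injective L.subtype_injective
        rw [MonoidHom.map_closure, ← MonoidHom.range_eq_map, Subgroup.range_subtype]
        refine le_antisymm ((Subgroup.closure_le _).mpr ?_) (hLgen.trans
          (Subgroup.closure_mono ?_))
        · rintro _ ⟨y, -, rfl⟩
          exact y.2
        · rintro x ⟨⟨k, hk⟩, hx⟩
          exact ⟨⟨x, hx⟩, ⟨k, by rw [Subgroup.orderOf_mk]; exact hk⟩, rfl⟩
      have hc : ∀ g ∈ pEls p L, ∃ i, g ∈ (K i).subgroupOf L := by
        rintro ⟨g, hg'⟩ ⟨k, hk⟩
        rw [Subgroup.orderOf_mk] at hk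
        obtain ⟨i, hi⟩ := hcov g ⟨k, hk⟩
        exact ⟨i, Subgroup.mem_subgroupOf.mpr hi⟩
      obtain ⟨i, hi⟩ := ih _ hlt L hg _ hc rfl
      exact ⟨i, Subgroup.subgroupOf_eq_top.mp hi⟩
    obtain ⟨P⟩ := (inferInstance : Nonempty (Sylow p X))
    have hPels : ∀ u ∈ (P : Subgroup X), u ∈ pEls p X := fun u hu => by
      obtain ⟨k, hk⟩ := IsPGroup.iff_orderOf.mp P.2 ⟨u, hu⟩
      exact ⟨k, by rw [← Subgroup.orderOf_mk u hu, hk]⟩
    by_cases hP : (P : Subgroup X) = ⊤
    · -- a `p`-group is not covered by `p` proper subgroups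
      haveI := Fintype.ofFinite X
      let T : ι → Finset X := fun i => (Finset.univ.filter (· ∈ K i)).erase 1
      have hsub : (Finset.univ : Finset X).erase 1 ⊆ Finset.univ.biUnion T := by
        intro g hg
        obtain ⟨i, hi⟩ := hcov g (hPels g (hP ▸ Subgroup.mem_top g))
        exact Finset.mem_biUnion.mpr ⟨i, Finset.mem_univ i, Finset.mem_erase.mpr
          ⟨(Finset.mem_erase.mp hg).1, by simpa using hi⟩⟩
      have hT : ∀ i ∈ (Finset.univ : Finset ι), (T i).card + 1 ≤ Nat.card X / p := by
        intro i _
        have h1 : (Finset.univ.filter (· ∈ K i)).card = Nat.card (K i) := by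
          rw [← Fintype.card_subtype, Nat.card_eq_fintype_card]
        rw [Finset.card_erase_add_one (by simp), h1,
          Nat.le_div_iff_mul_le hp.out.pos, ← (K i).card_mul_index]
        refine Nat.mul_le_mul_left _ ?_
        obtain ⟨j, hj⟩ := IsPGroup.index (IsPGroup.of_equiv P.2 (hP ▸ Subgroup.topEquiv)) (K i)
        rcases j with _ | j
        · exact absurd (Subgroup.index_eq_one.mp (by simpa using hj)) (hcon i)
        · exact hj ▸ Nat.le_self_pow (by omega) p
      have h2 := (Finset.card_le_card hsub).trans Finset.card_biUnion_le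
      rw [Finset.card_erase_of_mem (Finset.mem_univ _), Finset.card_univ,
        ← Nat.card_eq_fintype_card] at h2
      have h3 := Finset.sum_le_sum hT
      rw [Finset.sum_add_distrib, Finset.sum_const, Finset.sum_const, Finset.card_univ,
        smul_eq_mul, smul_eq_mul, mul_one] at h3
      have h4 : Fintype.card ι * (Nat.card X / p) ≤ Nat.card X :=
        (Nat.mul_le_mul_right _ hι).trans (Nat.mul_div_le _ _)
      have h5 := Nat.card_pos (α := X)
      obtain ⟨i, -⟩ := hcov 1 ⟨0, by simp⟩
      have h6 : 0 < Fintype.card ι := Fintype.card_pos_iff.mpr ⟨i⟩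
      rcases Nat.lt_or_ge (Fintype.card ι) 2 with h7 | h7
      · obtain ⟨a, ha⟩ := Fintype.card_eq_one_iff.mp (by omega : Fintype.card ι = 1)
        refine hcon a (eq_top_iff.mpr fun g _ => ?_)
        obtain ⟨i, hi⟩ := hcov g (hPels g (hP ▸ Subgroup.mem_top g))
        exact ha i ▸ hi
      · omega
    · -- the maximal `p`-generated subgroups of the members
      let M : ι → Subgroup X := fun i => Subgroup.closure (pEls p X ∩ (K i : Set X))
      have hMK : ∀ i, M i ≤ K i := fun i =>
        (Subgroup.closure_le _).mpr Set.inter_subset_right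
      have hMgen : ∀ i, M i ≤ Subgroup.closure (pEls p X ∩ (M i : Set X)) := fun i =>
        Subgroup.closure_mono fun x hx => ⟨hx.1, Subgroup.subset_closure hx⟩
      have hMne : ∀ i, M i ≠ ⊤ := fun i h => hcon i (eq_top_iff.mpr (h ▸ hMK i))
      have key2 : ∀ L : Subgroup X, L ≠ ⊤ → L ≤ Subgroup.closure (pEls p X ∩ L) →
          ∃ i, L ≤ M i := fun L h1 h2 => by
        obtain ⟨i, hi⟩ := key L h1 h2
        exact ⟨i, h2.trans (Subgroup.closure_mono fun x hx => ⟨hx.1, hi hx.2⟩)⟩
      obtain ⟨i0, hi0⟩ := key2 P hP fun u hu => Subgroup.subset_closure ⟨hPels u hu, hu⟩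
      obtain ⟨j, hj, hmax⟩ := (Finset.univ.filter (fun i => (P : Subgroup X) ≤ M i)).exists_max_image
        (fun i => Nat.card (M i)) ⟨i0, by simpa using hi0⟩
      rw [Finset.mem_filter] at hj
      have hconj : ∀ g : X, ∃ k, M k = (M j).map (MulAut.conj g).toMonoidHom := by
        have hstep : ∀ (L : Subgroup X) (g : X), L ≠ ⊤ → L ≤ Subgroup.closure (pEls p X ∩ L) →
            ∃ k, L.map (MulAut.conj g).toMonoidHom ≤ M k := by
          intro L g hL hLgen
          refine key2 _ (fun h => hL ?_) ?_
          · exact Subgroup.map_injective (MulAut.conj g).injective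
              (h.trans (Subgroup.map_top_of_surjective _ (MulAut.conj g).surjective).symm)
          · refine (Subgroup.map_mono hLgen).trans ?_
            rw [MonoidHom.map_closure]
            refine Subgroup.closure_mono ?_
            rintro _ ⟨x, ⟨⟨k, hk⟩, hxL⟩, rfl⟩
            exact ⟨⟨k, by simpa using ((MulAut.conj g).orderOf_eq x).trans hk⟩,
              Subgroup.mem_map_of_mem _ hxL⟩
        intro g
        obtain ⟨k, hk⟩ := hstep (M j) g (hMne j) (hMgen j)
        obtain ⟨l, hl⟩ := hstep (M k) g⁻¹ (hMne k) (hMgen k)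
        have hjl : M j ≤ M l := fun x hx =>
          hl ⟨g * x * g⁻¹, hk ⟨x, hx, by simp⟩, by simp [mul_assoc]⟩
        have h1 := hmax l (Finset.mem_filter.mpr ⟨Finset.mem_univ l, hj.2.trans hjl⟩)
        have h2 := Subgroup.card_le_of_le hl
        rw [Subgroup.card_map_of_injective (MulAut.conj g⁻¹).injective] at h2
        refine ⟨k, (Subgroup.eq_of_le_of_card_ge hk ?_).symm⟩
        rw [Subgroup.card_map_of_injective (MulAut.conj g).injective]
        exact h2.trans h1
      choose f hf using hconj
      set N := Subgroup.normalizer ((M j : Subgroup X) : Set X) with hN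
      have hinj : Function.Injective fun q : X ⧸ N => f q.out := by
        intro q r hqr
        have h0 : (M j).map (MulAut.conj q.out).toMonoidHom =
            (M j).map (MulAut.conj r.out).toMonoidHom := by
          rw [← hf, ← hf]; exact congr_arg M hqr
        rw [← q.out_eq, ← r.out_eq]
        refine QuotientGroup.eq.mpr ?_
        refine Subgroup.mem_normalizer_iff_map_conj_eq.mpr ?_
        change (M j).map (MulAut.conj (q.out⁻¹ * r.out)).toMonoidHom = M j
        have e1 : (MulAut.conj (q.out⁻¹ * r.out)).toMonoidHom =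
            (MulAut.conj q.out⁻¹).toMonoidHom.comp (MulAut.conj r.out).toMonoidHom := by
          ext x; simp [mul_assoc]
        have e2 : (MulAut.conj q.out⁻¹).toMonoidHom.comp (MulAut.conj q.out).toMonoidHom =
            MonoidHom.id X := by
          ext x; simp [mul_assoc]
        rw [e1, ← Subgroup.map_map, ← h0, Subgroup.map_map, e2, Subgroup.map_id]
      have hle : N.index ≤ p := by
        rw [Subgroup.index]
        exact (Nat.card_le_card_of_injective _ hinj).trans (by rw [Nat.card_eq_fintype_card]; exact hι)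
      have hPN : (P : Subgroup X) ≤ N := hj.2.trans Subgroup.le_normalizer
      have hlt : N.index < p := lt_of_le_of_ne hle fun h =>
        P.not_dvd_index ((dvd_of_eq h.symm).trans (Subgroup.index_dvd_of_le hPN))
      have hNtop : N = ⊤ := by
        rw [eq_top_iff, ← hgen, Subgroup.closure_le]
        rintro x ⟨k, hk⟩
        have h1 : N.relIndex (Subgroup.zpowers x) ∣ p ^ k := by
          rw [← hk, ← Nat.card_zpowers]; exact Subgroup.index_dvd_card _
        obtain ⟨m, -, hm⟩ := (Nat.dvd_prime_pow hp.out).mp h1
        have h2 : N.relIndex (Subgroup.zpowers x) ≤ N.index :=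
          Subgroup.relIndex_top_right N ▸
            Subgroup.relIndex_le_of_le_right le_top
              (by rw [Subgroup.relIndex_top_right]; exact Subgroup.index_ne_zero_of_finite)
        rcases m with _ | m
        · exact Subgroup.relIndex_eq_one.mp (by simpa using hm) (Subgroup.mem_zpowers x)
        · have := Nat.le_self_pow (by omega : m + 1 ≠ 0) p
          omega
      haveI : (M j).Normal := Subgroup.normalizer_eq_top_iff.mp hNtop
      refine hMne j (eq_top_iff.mpr (hgen ▸ (Subgroup.closure_le _).mpr ?_))
      rintro x ⟨k, hk⟩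
      obtain ⟨Q, hQ⟩ := (IsPGroup.of_card (p := p) (n := k) (G := ↥(Subgroup.zpowers x))
        (by rw [Nat.card_zpowers, hk])).exists_le_sylow
      obtain ⟨g, rfl⟩ := MulAction.exists_smul_eq X P Q
      obtain ⟨u, hu, hux⟩ := hQ (Subgroup.mem_zpowers x)
      rw [← hux]
      exact (inferInstance : (M j).Normal).conj_mem u (hj.2 hu) g

/-- Let p be a prime and G a finite group generated by its p-elements. If a finite family of proper subgroups of G covers the set of p-elements of G (every element of p-power order lies in one of them), then the family has at least p + 1 members. -/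
theorem result {G : Type*} [Group G] [Finite G] (p : ℕ) [Fact p.Prime] (hgen : Subgroup.closure {g : G | ∃ k : ℕ, orderOf g = p ^ k} = ⊤)
    {ι : Type*} [Fintype ι] (K : ι → Subgroup G) (hK : ∀ i, K i ≠ ⊤)
    (hcov : ∀ g : G, (∃ k : ℕ, orderOf g = p ^ k) → ∃ i, g ∈ K i) :
    p + 1 ≤ Fintype.card ι := by
  by_contra h
  obtain ⟨i, hi⟩ := exists_eq_top p (by omega : Fintype.card ι ≤ p) G hgen K hcov
  exact hK i hi

end Cfsg.Agent.S4182
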