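import Cfsg.Statements.S4184
import Cfsg.Agent.Lib.ClassSize.SylowCentralizer

set_option autoImplicit false
open Cfsg

namespace Cfsg.Agent.S4184

/-- Let G and M be finite groups with trivial centres and the same set of conjugacy class sizes, and suppose the prime graph of M is disconnected: the prime divisors of #M split into two non-empty parts such that M has no element of order pq with p in one part and q in the other. Then #G = #M. -/
theorem result {G M : Type*}
    [Group G] [Finite G] [Group M] [Finite M] (hZG : Subgroup.center G = ⊥) (hZM : Subgroup.center M = ⊥)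
    (h : Set.range (fun g : G => (Subgroup.centralizer ({g} : Set G)).index) = Set.range (fun g : M => (Subgroup.centralizer ({g} : Set M)).index))
    (hdisc : ∃ A : Set ℕ, (∃ a ∈ A, a.Prime ∧ a ∣ Nat.card M) ∧ (∃ b ∉ A, b.Prime ∧ b ∣ Nat.card M) ∧
      ∀ a ∈ A, ∀ b ∉ A, a.Prime → b.Prime → a ∣ Nat.card M → b ∣ Nat.card M → ¬ ∃ x : M, orderOf x = a * b) :
    Nat.card G = Nat.card M := by
  classical
  obtain ⟨A, ⟨a₀, ha₀A, ha₀, ha₀d⟩, ⟨b₀, hb₀A, hb₀, hb₀d⟩, hno⟩ := hdisc
  set iM : M → ℕ := fun x => (Subgroup.centralizer ({x} : Set M)).index with hiM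
  set iG : G → ℕ := fun x => (Subgroup.centralizer ({x} : Set G)).index with hiG
  have hM0 : Nat.card M ≠ 0 := Nat.card_pos.ne'
  have hG0 : Nat.card G ≠ 0 := Nat.card_pos.ne'
  have hsame : ∀ g : G, ∃ x : M, iM x = iG g := fun g => (Set.ext_iff.1 h _).1 ⟨g, rfl⟩
  have hsame' : ∀ x : M, ∃ g : G, iG g = iM x := fun x => (Set.ext_iff.1 h _).2 ⟨x, rfl⟩
  have hnoncentral : ∀ x : M, x ≠ 1 → iM x ≠ 1 := by
    intro x hx h1
    have h2 : Subgroup.centralizer ({x} : Set M) = ⊤ := Subgroup.index_eq_one.1 h1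
    have : x ∈ Subgroup.center M := Subgroup.mem_center_iff.2 fun y =>
      Subgroup.mem_centralizer_singleton_iff.1 (show y ∈ Subgroup.centralizer ({x} : Set M) by rw [h2]; trivial)
    rw [hZM, Subgroup.mem_bot] at this
    exact hx this
  have hnoncentralG : ∀ x : G, x ≠ 1 → iG x ≠ 1 := by
    intro x hx h1
    have h2 : Subgroup.centralizer ({x} : Set G) = ⊤ := Subgroup.index_eq_one.1 h1
    have : x ∈ Subgroup.center G := Subgroup.mem_center_iff.2 fun y =>
      Subgroup.mem_centralizer_singleton_iff.1 (show y ∈ Subgroup.centralizer ({x} : Set G) by rw [h2]; trivial)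
    rw [hZG, Subgroup.mem_bot] at this
    exact hx this
  -- a set of primes and its complement, no element of mixed order
  let FullOn : Set ℕ → ℕ → Prop := fun π n =>
    ∀ q ∈ π, q.Prime → q ∣ Nat.card M → (Nat.card M).factorization q ≤ n.factorization q
  have cross : ∀ π : Set ℕ, (π = A ∨ π = Aᶜ) → ∀ a ∈ π, ∀ b ∉ π, a.Prime → b.Prime → a ∣ Nat.card M →
      b ∣ Nat.card M → ¬ ∃ x : M, orderOf x = a * b := by
    intro π hπ a ha b hb hap hbp had hbd
    rcases hπ with rfl | rfl
    · exact hno a ha b hb hap hbp had hbd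
    · simp only [Set.mem_compl_iff, not_not] at ha hb
      rw [mul_comm]
      exact hno b hb a ha hbp hap hbd had
  have side : ∀ π : Set ℕ, (π = A ∨ π = Aᶜ) → ∀ x : M, ∀ b ∉ π, b.Prime → b ∣ orderOf x →
      FullOn π (iM x) := by
    intro π hπ x b hb hbp hbx q hq hqp hqd
    haveI : Fact q.Prime := ⟨hqp⟩
    set C := Subgroup.centralizer ({x} : Set M)
    have hqC : ¬ q ∣ Nat.card C := by
      intro hd
      obtain ⟨u, hu⟩ := exists_prime_orderOf_dvd_card' q hd
      set v := x ^ (orderOf x / b) with hv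
      have hvord : orderOf v = b := by
        rw [hv, orderOf_pow_of_dvd ?_ (Nat.div_dvd_of_dvd hbx), Nat.div_div_self hbx (orderOf_pos x).ne']
        exact (Nat.div_pos (Nat.le_of_dvd (orderOf_pos x) hbx) hbp.pos).ne'
      have hcomm : Commute (u : M) v :=
        Commute.pow_right (Subgroup.mem_centralizer_singleton_iff.1 u.2 : Commute (u : M) x) _
      have hne : q ≠ b := fun e => hb (e ▸ hq)
      refine cross π hπ q hq b hb hqp hbp hqd (hbx.trans (orderOf_dvd_natCard x)) ⟨u * v, ?_⟩
      rw [hcomm.orderOf_mul_eq_mul_orderOf_of_coprime (by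
        rw [Subgroup.orderOf_coe, hu, hvord]; exact (Nat.coprime_primes hqp hbp).2 hne),
        Subgroup.orderOf_coe, hu, hvord]
    have hmul : Nat.card M = Nat.card C * C.index := (C.card_mul_index).symm
    show (Nat.card M).factorization q ≤ C.index.factorization q
    rw [hmul, Nat.factorization_mul Nat.card_pos.ne' Subgroup.index_ne_zero_of_finite,
      Finsupp.add_apply, Nat.factorization_eq_zero_of_not_dvd hqC, zero_add]
  -- every class size other than one is full on exactly one side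
  have either : ∀ π : Set ℕ, (π = A ∨ π = Aᶜ) → ∀ x : M, x ≠ 1 → FullOn π (iM x) ∨ FullOn πᶜ (iM x) := by
    intro π hπ x hx
    obtain ⟨b, hbp, hbx⟩ := Nat.exists_prime_and_dvd (fun e => hx (orderOf_eq_one_iff.1 e))
    have hπc : πᶜ = A ∨ πᶜ = Aᶜ := by rcases hπ with rfl | rfl <;> simp
    by_cases hb : b ∈ π
    · exact Or.inr (side πᶜ hπc x b (by simpa using hb) hbp hbx)
    · exact Or.inl (side π hπ x b hb hbp hbx)
  have notboth : ∀ π : Set ℕ, ∀ x : M, x ≠ 1 → ¬ (FullOn π (iM x) ∧ FullOn πᶜ (iM x)) := by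
    intro π x hx ⟨h1, h2⟩
    obtain ⟨b, hbp, hbx⟩ := Nat.exists_prime_and_dvd (fun e => hx (orderOf_eq_one_iff.1 e))
    have hbd : b ∣ Nat.card M := hbx.trans (orderOf_dvd_natCard x)
    set C := Subgroup.centralizer ({x} : Set M)
    have hxC : x ∈ C := Subgroup.mem_centralizer_singleton_iff.2 rfl
    have hbC : b ∣ Nat.card C := hbx.trans (by
      rw [← Subgroup.orderOf_mk x hxC]; exact orderOf_dvd_natCard _)
    have hf : (Nat.card M).factorization b ≤ C.index.factorization b := by
      by_cases hb : b ∈ π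
      exacts [h1 b hb hbp hbd, h2 b hb hbp hbd]
    rw [← C.card_mul_index, Nat.factorization_mul Nat.card_pos.ne' Subgroup.index_ne_zero_of_finite,
      Finsupp.add_apply] at hf
    have := hbp.factorization_pos_of_dvd Nat.card_pos.ne' hbC
    omega
  have mono : ∀ π : Set ℕ, ∀ m n : ℕ, n ≠ 0 → m ∣ n → FullOn π m → FullOn π n := by
    intro π m n hn hmn hm q hq hqp hqd
    have hm0 : m ≠ 0 := fun h0 => hn (zero_dvd_iff.1 (h0 ▸ hmn))
    exact (hm q hq hqp hqd).trans ((Nat.factorization_le_iff_dvd hm0 hn).2 hmn q)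
  -- transport to `G`
  have down : ∀ π : Set ℕ, (π = A ∨ π = Aᶜ) → ∀ g u : G, u ≠ 1 → g ≠ 1 → iG u ∣ iG g →
      FullOn π (iG g) → FullOn π (iG u) := by
    intro π hπ g u hu hg hdvd hfull
    obtain ⟨x, hx⟩ := hsame g
    obtain ⟨y, hy⟩ := hsame u
    have hy1 : y ≠ 1 := by
      intro e
      apply hnoncentralG u hu
      rw [← hy, e]
      simp [hiM, Subgroup.centralizer_eq_top_iff_subset]
    have hx1 : x ≠ 1 := by
      intro e
      apply hnoncentralG g hg
      rw [← hx, e]
      simp [hiM, Subgroup.centralizer_eq_top_iff_subset]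
    rw [← hy]
    refine (either π hπ y hy1).resolve_right fun hB => notboth π x hx1 ⟨hx ▸ hfull, ?_⟩
    rw [hx]
    exact mono _ _ _ Subgroup.index_ne_zero_of_finite (by rw [hy]; exact hdvd) hB
  -- `|M|` divides `|G|`
  have hdvd : Nat.card M ∣ Nat.card G := by
    rw [← Nat.factorization_le_iff_dvd hM0 hG0]
    intro q
    by_cases hq : q.Prime ∧ q ∣ Nat.card M
    · obtain ⟨hqp, hqd⟩ := hq
      obtain ⟨π, hπ, hqπ, b, hb, hbp, hbd⟩ : ∃ π, (π = A ∨ π = Aᶜ) ∧ q ∈ π ∧ ∃ b ∉ π, b.Prime ∧ b ∣ Nat.card M := by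
        by_cases hqA : q ∈ A
        · exact ⟨A, Or.inl rfl, hqA, b₀, hb₀A, hb₀, hb₀d⟩
        · exact ⟨Aᶜ, Or.inr rfl, hqA, a₀, by simpa using ha₀A, ha₀, ha₀d⟩
      haveI : Fact b.Prime := ⟨hbp⟩
      obtain ⟨x, hx⟩ := exists_prime_orderOf_dvd_card' b hbd
      obtain ⟨g, hg⟩ := hsame' x
      refine (side π hπ x b hb hbp (dvd_of_eq hx.symm) q hqπ hqp hqd).trans ?_
      rw [← hg]
      exact (Nat.factorization_le_iff_dvd Subgroup.index_ne_zero_of_finite hG0).2 (Subgroup.index_dvd_card _) q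
    · rw [not_and] at hq
      by_cases hqp : q.Prime
      · rw [Nat.factorization_eq_zero_of_not_dvd (hq hqp)]; exact Nat.zero_le _
      · rw [Nat.factorization_eq_zero_of_not_prime _ hqp]; exact Nat.zero_le _
  obtain ⟨k, hk⟩ := hdvd
  by_contra hne
  have hk1 : k ≠ 1 := by rintro rfl; exact hne (by rw [hk, mul_one])
  have hk0 : k ≠ 0 := by rintro rfl; exact hG0 (by rw [hk, mul_zero])
  obtain ⟨p, hp, hpk⟩ := Nat.exists_prime_and_dvd hk1
  haveI : Fact p.Prime := ⟨hp⟩
  have hpG : p ∣ Nat.card G := hk ▸ hpk.mul_left _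
  obtain ⟨P⟩ := (inferInstance : Nonempty (Sylow p G))
  have hPne : (P : Subgroup G) ≠ ⊥ := by
    intro e
    have := P.dvd_card_of_dvd_card hpG
    rw [e, Subgroup.card_bot] at this
    exact hp.ne_one (Nat.dvd_one.1 this)
  by_cases hpM : p ∣ Nat.card M
  swap
  · -- every class size is prime to `p`
    have hall : ∀ g : G, g ∈ CfsgLib.ClassSize.coprimeClassSet G p := by
      intro g hd
      obtain ⟨x, hx⟩ := hsame g
      exact hpM (hd.trans (by show iG g ∣ _; rw [← hx]; exact Subgroup.index_dvd_card _))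
    rw [CfsgLib.ClassSize.coprimeClassSet_eq_iUnion] at hall
    cases nonempty_fintype G
    cases nonempty_fintype (Sylow p G)
    set C := Subgroup.centralizer ((P : Subgroup G) : Set G) with hC
    set n := Nat.card (Sylow p G) with hn
    have hsub : (Finset.univ : Finset G).erase 1 ⊆ Finset.univ.biUnion fun Q : Sylow p G =>
        (Finset.univ.filter fun x => x ∈ Subgroup.centralizer ((Q : Subgroup G) : Set G)).erase 1 := by
      intro x hx
      obtain ⟨Q, hQ⟩ := Set.mem_iUnion.1 (hall x)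
      simp only [Finset.mem_erase] at hx
      exact Finset.mem_biUnion.2 ⟨Q, Finset.mem_univ _,
        Finset.mem_erase.2 ⟨hx.1, Finset.mem_filter.2 ⟨Finset.mem_univ _, hQ⟩⟩⟩
    have hle := (Finset.card_le_card hsub).trans Finset.card_biUnion_le
    have hcQ : ∀ Q : Sylow p G, ((Finset.univ.filter fun x => x ∈ Subgroup.centralizer ((Q : Subgroup G) : Set G)).erase 1).card
        = Nat.card C - 1 := by
      intro Q
      rw [Finset.card_erase_of_mem (by simp), hC, ← CfsgLib.ClassSize.card_centralizer_sylow_eq p P Q,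
        Nat.card_eq_fintype_card, Fintype.card_subtype]
    rw [Finset.sum_congr rfl (fun Q _ => hcQ Q), Finset.sum_const, smul_eq_mul, Finset.card_univ,
      ← Nat.card_eq_fintype_card, ← hn, Finset.card_erase_of_mem (Finset.mem_univ _), Finset.card_univ,
      ← Nat.card_eq_fintype_card] at hle
    have hCN : n * Nat.card C ≤ Nat.card G := by
      rw [hn, P.card_eq_index_normalizer, ← (Subgroup.normalizer (P : Set G)).index_mul_card]
      exact Nat.mul_le_mul_left _ (Subgroup.card_le_of_le (Subgroup.centralizer_le_normalizer _))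
    rw [Nat.mul_sub, mul_one] at hle
    have hnpos : 0 < n := Nat.card_pos
    have hnle : n ≤ n * Nat.card C := Nat.le_mul_of_pos_right _ Nat.card_pos
    have hn1 : n = 1 := by omega
    have hCtop : C = ⊤ := Subgroup.eq_top_of_le_card _ (by
      rw [hn1, one_mul] at hle hCN
      have := Nat.card_pos (α := C); have := Nat.card_pos (α := G); omega)
    refine hPne (eq_bot_iff.2 (hZG ▸ fun x hx => Subgroup.mem_center_iff.2 fun y => ?_))
    exact ((Subgroup.mem_centralizer_iff.1 (hCtop ▸ Subgroup.mem_top y : y ∈ C)) x hx).symm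
  -- `p` divides the order of `M`
  obtain ⟨π, hπ, hpπ, b, hb, hbp, hbd⟩ : ∃ π, (π = A ∨ π = Aᶜ) ∧ p ∈ π ∧ ∃ b ∉ π, b.Prime ∧ b ∣ Nat.card M := by
    by_cases hpA : p ∈ A
    · exact ⟨A, Or.inl rfl, hpA, b₀, hb₀A, hb₀, hb₀d⟩
    · exact ⟨Aᶜ, Or.inr rfl, hpA, a₀, by simpa using ha₀A, ha₀, ha₀d⟩
  -- the `p`-part of the centraliser of an element full on `π`
  have hpart : ∀ g : G, FullOn π (iG g) →
      (Nat.card (Subgroup.centralizer ({g} : Set G))).factorization p = k.factorization p := by
    intro g hg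
    obtain ⟨x, hx⟩ := hsame g
    have h1 : (iG g).factorization p ≤ (Nat.card M).factorization p := by
      rw [← hx]; exact (Nat.factorization_le_iff_dvd Subgroup.index_ne_zero_of_finite hM0).2 (Subgroup.index_dvd_card _) p
    have h2 := hg p hpπ hp hpM
    have h3 := congrArg (fun m => m.factorization p) (Subgroup.centralizer ({g} : Set G)).card_mul_index
    simp only [hk, Nat.factorization_mul Nat.card_pos.ne' Subgroup.index_ne_zero_of_finite,
      Nat.factorization_mul hM0 hk0, Finsupp.add_apply] at h3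
    simp only [hiG] at h1 h2
    omega
  have hkp : 0 < k.factorization p := hp.factorization_pos_of_dvd hk0 hpk
  -- products of commuting elements of coprime order
  have pair : ∀ g u : G, g ≠ 1 → u ≠ 1 → Commute g u → (orderOf g).Coprime (orderOf u) →
      FullOn π (iG g) → FullOn π (iG u) := by
    intro g u hg hu hc hco hfull
    have hmem : ∀ i : G, i ∈ Subgroup.centralizer ({g * u} : Set G) → Commute i g ∧ Commute i u := by
      intro i hi
      have hci : Commute i (g * u) := Subgroup.mem_centralizer_singleton_iff.1 hi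
      obtain ⟨a, ha⟩ := Subgroup.mem_zpowers_iff.1
        (show g ∈ Subgroup.zpowers (g * u) by
          obtain ⟨m, hm⟩ := exists_pow_eq_self_of_coprime (x := g) hco.symm
          refine Subgroup.mem_zpowers_iff.2 ⟨((orderOf u * m : ℕ) : ℤ), ?_⟩
          rw [zpow_natCast, pow_mul, hc.mul_pow, pow_orderOf_eq_one, mul_one, hm])
      have h1 : Commute i g := ha ▸ hci.zpow_right a
      refine ⟨h1, ?_⟩
      have := h1.inv_right.mul_right hci
      rwa [inv_mul_cancel_left] at this
    have hgu : g * u ≠ 1 := by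
      intro e
      have e2 : u = g⁻¹ := eq_inv_of_mul_eq_one_right e
      rw [e2, orderOf_inv, Nat.coprime_self] at hco
      exact hg (orderOf_eq_one_iff.1 hco)
    have d1 : iG g ∣ iG (g * u) := Subgroup.index_dvd_of_le fun i hi =>
      Subgroup.mem_centralizer_singleton_iff.2 (hmem i hi).1
    have d2 : iG u ∣ iG (g * u) := Subgroup.index_dvd_of_le fun i hi =>
      Subgroup.mem_centralizer_singleton_iff.2 (hmem i hi).2
    exact down π hπ _ u hu hgu d2 (mono π _ _ Subgroup.index_ne_zero_of_finite d1 hfull)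
  -- a `p'`-element of prime power order which is full on `π`
  obtain ⟨w, hw1, hwp, hwfull⟩ : ∃ w : G, w ≠ 1 ∧ (orderOf w).Coprime p ∧ FullOn π (iG w) := by
    haveI : Fact b.Prime := ⟨hbp⟩
    obtain ⟨x, hx⟩ := exists_prime_orderOf_dvd_card' b hbd
    have hx1 : x ≠ 1 := fun e => hbp.ne_one (by rw [← hx, e, orderOf_one])
    obtain ⟨g, hg⟩ := hsame' x
    have hgfull : FullOn π (iG g) := hg ▸ side π hπ x b hb hbp (dvd_of_eq hx.symm)
    have hg1 : g ≠ 1 := by
      intro e
      apply hnoncentral x hx1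
      rw [← hg, e]
      simp [hiG, Subgroup.centralizer_eq_top_iff_subset]
    obtain ⟨r, hr, hrg⟩ := Nat.exists_prime_and_dvd (fun e => hg1 (orderOf_eq_one_iff.1 e))
    set g' := g ^ (orderOf g / r) with hg'
    have hg'ord : orderOf g' = r := by
      rw [hg', orderOf_pow_of_dvd ?_ (Nat.div_dvd_of_dvd hrg), Nat.div_div_self hrg (orderOf_pos g).ne']
      exact (Nat.div_pos (Nat.le_of_dvd (orderOf_pos g) hrg) hr.pos).ne'
    have hg'1 : g' ≠ 1 := fun e => hr.ne_one (by rw [← hg'ord, e, orderOf_one])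
    have hg'full : FullOn π (iG g') := down π hπ g g' hg'1 hg1 (Subgroup.index_dvd_of_le fun i hi =>
      Subgroup.mem_centralizer_singleton_iff.2
        (Commute.pow_right (Subgroup.mem_centralizer_singleton_iff.1 hi : Commute i g) _)) hgfull
    by_cases hrp : r = p
    · -- pass to a commuting element of order prime to `p`
      obtain ⟨y, hy⟩ := hsame g'
      have hy1 : y ≠ 1 := by
        intro e
        apply hnoncentralG g' hg'1
        rw [← hy, e]
        simp [hiM, Subgroup.centralizer_eq_top_iff_subset]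
      have hnf : ¬ FullOn πᶜ (iG g') := fun hf => notboth π y hy1 ⟨hy ▸ hg'full, hy ▸ hf⟩
      simp only [FullOn, not_forall, not_le] at hnf
      obtain ⟨q, hqπ, hqp, hqd, hlt⟩ := hnf
      haveI : Fact q.Prime := ⟨hqp⟩
      have hqC : q ∣ Nat.card (Subgroup.centralizer ({g'} : Set G)) := by
        by_contra hnd
        have h3 := congrArg (fun m => m.factorization q) (Subgroup.centralizer ({g'} : Set G)).card_mul_index
        simp only [hk, Nat.factorization_mul Nat.card_pos.ne' Subgroup.index_ne_zero_of_finite,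
          Nat.factorization_mul hM0 hk0, Finsupp.add_apply, Nat.factorization_eq_zero_of_not_dvd hnd] at h3
        simp only [hiG] at hlt
        omega
      obtain ⟨u, hu⟩ := exists_prime_orderOf_dvd_card' q hqC
      have hqne : q ≠ p := fun e => hqπ (e ▸ hpπ)
      have hu1 : (u : G) ≠ 1 := fun e => hqp.ne_one (by
        rw [← hu, ← Subgroup.orderOf_coe, e, orderOf_one])
      refine ⟨u, hu1, by rw [Subgroup.orderOf_coe, hu]; exact (Nat.coprime_primes hqp hp).2 hqne, ?_⟩
      refine pair g' u hg'1 hu1 (Subgroup.mem_centralizer_singleton_iff.1 u.2 : Commute (u : G) g').symm ?_ hg'full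
      rw [hg'ord, Subgroup.orderOf_coe, hu, hrp]
      exact (Nat.coprime_primes hp hqp).2 hqne.symm
    · exact ⟨g', hg'1, by rw [hg'ord]; exact (Nat.coprime_primes hr hp).2 hrp, hg'full⟩
  -- the Sylow subgroup of its centraliser
  set Cw := Subgroup.centralizer ({w} : Set G) with hCw
  obtain ⟨R₀⟩ := (inferInstance : Nonempty (Sylow p Cw))
  have hR₀ : Nat.card (R₀ : Subgroup Cw) = p ^ k.factorization p := by
    rw [R₀.card_eq_multiplicity, hpart w hwfull]
  haveI : Nontrivial (R₀ : Subgroup Cw) := Finite.one_lt_card_iff_nontrivial.1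
    (by rw [hR₀]; exact Nat.one_lt_pow hkp.ne' hp.one_lt)
  haveI := R₀.2.center_nontrivial
  obtain ⟨y₀, hy₀⟩ := exists_ne (1 : Subgroup.center (R₀ : Subgroup Cw))
  set y : G := (((y₀ : (R₀ : Subgroup Cw)) : Cw) : G) with hy
  have hy1 : y ≠ 1 := fun e => hy₀ (Subtype.ext (Subtype.ext (Subtype.ext e)))
  have hyord : ∃ i, orderOf y = p ^ i := by
    obtain ⟨i, hi⟩ := IsPGroup.iff_orderOf.1 R₀.2 (y₀ : (R₀ : Subgroup Cw))
    exact ⟨i, by rw [hy, Subgroup.orderOf_coe, Subgroup.orderOf_coe, hi]⟩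
  obtain ⟨i, hi⟩ := hyord
  have hyw : Commute w y := (Subgroup.mem_centralizer_singleton_iff.1 ((y₀ : (R₀ : Subgroup Cw)) : Cw).2 : Commute y w).symm
  have hyfull : FullOn π (iG y) := pair w y hw1 hy1 hyw (by rw [hi]; exact hwp.pow_right i) hwfull
  set R := (R₀ : Subgroup Cw).map Cw.subtype with hR
  have hRp : IsPGroup p R := R₀.2.map _
  have hRcard : Nat.card R = p ^ k.factorization p := by
    rw [hR, Subgroup.card_map_of_injective Cw.subtype_injective, hR₀]
  obtain ⟨Q, hQ⟩ := hRp.exists_le_sylow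
  have hQne : (Q : Subgroup G) ≠ ⊥ := by
    intro e
    have := Q.dvd_card_of_dvd_card hpG
    rw [e, Subgroup.card_bot] at this
    exact hp.ne_one (Nat.dvd_one.1 this)
  haveI : Nontrivial (Q : Subgroup G) := (Subgroup.nontrivial_iff_ne_bot _).2 hQne
  haveI := Q.2.center_nontrivial
  obtain ⟨z₀, hz₀⟩ := exists_ne (1 : Subgroup.center (Q : Subgroup G))
  set z : G := ((z₀ : (Q : Subgroup G)) : G) with hz
  have hz1 : z ≠ 1 := fun e => hz₀ (Subtype.ext (Subtype.ext e))
  have hzQ : ∀ q ∈ (Q : Subgroup G), q * z = z * q := fun q hq =>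
    congrArg Subtype.val (Subgroup.mem_center_iff.1 z₀.2 ⟨q, hq⟩)
  -- `z` lies in the Sylow subgroup of `C(y)`, hence centralises `w`
  have hyR : y ∈ R := ⟨((y₀ : (R₀ : Subgroup Cw)) : Cw), (y₀ : (R₀ : Subgroup Cw)).2, rfl⟩
  set Cy := Subgroup.centralizer ({y} : Set G) with hCy
  set R' := R ⊔ Subgroup.zpowers z with hR'
  have hR'Q : R' ≤ (Q : Subgroup G) := sup_le hQ (Subgroup.zpowers_le.2 (z₀ : (Q : Subgroup G)).2)
  have hR'Cy : R' ≤ Cy := by
    refine sup_le ?_ (Subgroup.zpowers_le.2 ?_)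
    · rintro _ ⟨r, hr, rfl⟩
      rw [hCy, Subgroup.mem_centralizer_singleton_iff]
      exact congrArg (fun v : (R₀ : Subgroup Cw) => ((v : Cw) : G)) (Subgroup.mem_center_iff.1 y₀.2 ⟨r, hr⟩)
    · rw [hCy, Subgroup.mem_centralizer_singleton_iff]
      exact (hzQ y (hQ hyR)).symm
  have hzR : z ∈ R := by
    obtain ⟨j, hj⟩ := IsPGroup.iff_card.1 (Q.2.to_le hR'Q)
    have hjk : j ≤ k.factorization p := by
      rw [← hpart y hyfull, ← hp.pow_dvd_iff_le_factorization Nat.card_pos.ne', ← hj]
      exact Subgroup.card_dvd_of_le hR'Cy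
    rw [Subgroup.eq_of_le_of_card_ge (le_sup_left : R ≤ R')
      (by rw [hj, hRcard]; exact Nat.pow_le_pow_right hp.pos hjk)]
    exact le_sup_right (a := R) (Subgroup.mem_zpowers z)
  obtain ⟨l, hl⟩ := IsPGroup.iff_orderOf.1 Q.2 (z₀ : (Q : Subgroup G))
  have hzfull : FullOn π (iG z) := pair w z hw1 hz1
    (Subgroup.mem_centralizer_singleton_iff.1 (Subgroup.map_subtype_le _ hzR) : Commute z w).symm
    (by rw [hz, Subgroup.orderOf_coe, hl]; exact hwp.pow_right l) hwfull
  have hzp : ¬ p ∣ iG z := (CfsgLib.ClassSize.exists_sylow_le_centralizer_iff p z).1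
    ⟨Q, fun q hq => Subgroup.mem_centralizer_singleton_iff.2 (hzQ q hq)⟩
  have := hzfull p hpπ hp hpM
  rw [Nat.factorization_eq_zero_of_not_dvd hzp] at this
  exact absurd (hp.factorization_pos_of_dvd hM0 hpM) (by omega)

end Cfsg.Agent.S4184
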