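import Cfsg.Statements.S4186


set_option autoImplicit false
open Cfsg

namespace Cfsg.Agent.S4186

/-- Let T and X be subgroups of a group with T a finite 2-group normalizing X but not centralizing it. Then some element of T inverts some non-identity element of X under conjugation. -/
theorem result {G : Type*} [Group G] (T X : Subgroup G) [Finite ↥T] (hT : IsPGroup 2 ↥T) (hTN : T ≤ Subgroup.normalizer (X : Set G)) (hTC : ¬ T ≤ Subgroup.centralizer (X : Set G)) : ∃ t ∈ T, ∃ x ∈ X, x ≠ 1 ∧ t * x * t⁻¹ = x⁻¹ := by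
  classical
  by_contra hcon
  push Not at hcon
  apply hTC
  intro t ht
  -- induct on the order of `t`
  obtain ⟨k, hk⟩ := hT ⟨t, ht⟩
  have hk' : t ^ 2 ^ k = 1 := by simpa using congrArg Subtype.val hk
  clear hk
  induction k generalizing t with
  | zero => simp at hk'; subst hk'; exact one_mem _
  | succ k ih =>
    have hsq : t ^ 2 ∈ Subgroup.centralizer (X : Set G) :=
      ih (T.pow_mem ht 2) (by rw [← pow_mul, ← pow_succ']; exact hk')
    rw [Subgroup.mem_centralizer_iff]
    intro x hx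
    by_contra hne
    have htx : t * x * t⁻¹ ∈ X := (Subgroup.mem_normalizer_iff.1 (hTN ht) x).1 hx
    refine hcon t ht (x⁻¹ * (t * x * t⁻¹)) (X.mul_mem (X.inv_mem hx) htx) ?_ ?_
    · intro h
      have h1 : x = t * x * t⁻¹ := inv_mul_eq_one.1 h
      exact hne (eq_mul_inv_iff_mul_eq.1 h1)
    · have h2 : x * t ^ 2 = t ^ 2 * x := Subgroup.mem_centralizer_iff.1 hsq x hx
      have h3 : t * t * x * (t * t)⁻¹ = x := by
        rw [← pow_two, ← h2, mul_inv_cancel_right]
      calc t * (x⁻¹ * (t * x * t⁻¹)) * t⁻¹ = (t * x * t⁻¹)⁻¹ * (t * t * x * (t * t)⁻¹) := by group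
        _ = (t * x * t⁻¹)⁻¹ * x := by rw [h3]
        _ = (x⁻¹ * (t * x * t⁻¹))⁻¹ := by group

end Cfsg.Agent.S4186
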