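import Cfsg.Statements.S4188
import Cfsg.Agent.Lib.TwoGroupAct.FrattiniBound

set_option autoImplicit false
open Cfsg

namespace Cfsg.Agent.S4188

/-- Let G be a finite group that is the semidirect product of a normal abelian subgroup N of odd order by a 2-subgroup P, and suppose N is the unique minimal normal subgroup of G. Then the index of the Frattini subgroup of P in P is at most #N − 1. -/
theorem result {G : Type*} [Group G] [Finite G] (N P : Subgroup G) (hN : N.Normal) (hNab : IsMulCommutative ↥N) (hNodd : Odd (Nat.card ↥N)) (hP : IsPGroup 2 ↥P) (hdisj : N ⊓ P = ⊥) (hprod : N ⊔ P = ⊤) (hmin : N ≠ ⊥ ∧ ∀ M : Subgroup G, M.Normal → M ≠ ⊥ → N ≤ M) : (frattini ↥P).index ≤ Nat.card ↥N - 1 := by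
  classical
  haveI := hN
  haveI : Fact (Nat.Prime 2) := ⟨Nat.prime_two⟩
  letI : CommGroup ↥N := { (inferInstance : Group ↥N) with mul_comm := fun a b => hNab.is_comm.comm a b }
  let c : ↥P →* MulAut ↥N := (MulAut.conjNormal).comp P.subtype
  have hPN : P ≤ Subgroup.normalizer (N : Set G) := by rw [Subgroup.normalizer_eq_top]; exact le_top
  -- the action is faithful
  have hinj : Function.Injective c := by
    rw [← MonoidHom.ker_eq_bot_iff]
    by_contra hne
    set K := c.ker.map P.subtype with hK
    have hKN : ∀ k ∈ K, ∀ n ∈ N, k * n = n * k := by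
      rintro _ ⟨k, hk, rfl⟩ n hn
      have := congrArg Subtype.val (DFunLike.congr_fun (MonoidHom.mem_ker.1 hk) (⟨n, hn⟩ : N))
      simp only [c, MonoidHom.comp_apply, MulAut.conjNormal_apply, MulAut.one_apply] at this
      exact mul_inv_eq_iff_eq_mul.1 this
    have hKnormal : K.Normal := by
      rw [← Subgroup.normalizer_eq_top_iff, eq_top_iff, ← hprod, sup_le_iff]
      constructor
      · intro n hn
        rw [Subgroup.mem_normalizer_iff]
        intro k
        constructor
        · intro hk
          rwa [← hKN k hk n hn, mul_inv_cancel_right]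
        · intro hk
          have h := hKN _ hk n⁻¹ (N.inv_mem hn)
          have : k = n * k * n⁻¹ := by
            calc k = n⁻¹ * (n * k * n⁻¹) * n := by group
              _ = (n * k * n⁻¹) * n⁻¹ * n := by rw [h]
              _ = _ := by group
          rwa [this]
      · intro x hx
        rw [Subgroup.mem_normalizer_iff]
        have key : ∀ y : P, ∀ k ∈ K, (y : G) * k * (y : G)⁻¹ ∈ K := by
          rintro y _ ⟨k, hk, rfl⟩
          exact ⟨y * k * y⁻¹, (inferInstance : c.ker.Normal).conj_mem k hk y, rfl⟩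
        intro k
        refine ⟨key ⟨x, hx⟩ k, fun hk => ?_⟩
        have := key (⟨x, hx⟩⁻¹ : P) _ hk
        simpa [mul_assoc] using this
    have hKne : K ≠ ⊥ := by
      rw [hK, Ne, Subgroup.map_eq_bot_iff_of_injective _ P.subtype_injective]
      exact hne
    have h1 : N ≤ P := (hmin.2 K hKnormal hKne).trans (Subgroup.map_subtype_le _)
    exact hmin.1 (le_bot_iff.1 (hdisj ▸ le_inf le_rfl h1))
  have hsq : CfsgLib.TwoGroupAct.sqSub ↥P ≤ frattini ↥P := by
    rw [CfsgLib.TwoGroupAct.sqSub, Subgroup.closure_le]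
    rintro _ ⟨x, rfl⟩
    exact CfsgLib.PGroup.pow_mem_frattini hP x
  refine (Nat.le_of_dvd (Nat.pos_of_ne_zero Subgroup.index_ne_zero_of_finite)
    (Subgroup.index_dvd_of_le hsq)).trans ?_
  rw [CfsgLib.TwoGroupAct.index_sqSub_congr (MonoidHom.ofInjective hinj)]
  exact CfsgLib.TwoGroupAct.index_sqSub_le hNodd ((Subgroup.one_lt_card_iff_ne_bot N).2 hmin.1) c.range
    (hP.of_surjective c.rangeRestrict c.rangeRestrict_surjective)

end Cfsg.Agent.S4188
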