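import Cfsg.Statements.S4189
import Cfsg.Agent.Lib.PGroup.Basic
import Cfsg.Agent.Lib.TwoFusion.DihedralIso

set_option autoImplicit false
open Cfsg
open scoped commutatorElement

namespace Cfsg.Agent.S4189

/-- Let P be a finite non-abelian 2-group whose commutator subgroup has index 4 and whose automorphism group is not a 2-group (some automorphism has order that is not a power of 2). Then P is isomorphic to the quaternion group of order 8. -/
theorem result {P : Type*} [Group P] [Finite P] (hP : IsPGroup 2 P) (hna : ¬ IsMulCommutative P) (h4 : (commutator P).index = 4) (haut : ¬ IsPGroup 2 (MulAut P)) : Nonempty (P ≃* QuaternionGroup 2) := by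
  classical
  haveI : Fact (Nat.Prime 2) := ⟨Nat.prime_two⟩
  haveI : Group.IsNilpotent P := hP.isNilpotent
  have hΦ : commutator P ≤ frattini P := CfsgLib.PGroup.commutator_le_frattini hP
  have hgen : ∀ K : Subgroup P, K ⊔ commutator P = ⊤ → K = ⊤ := fun K hK =>
    frattini_nongenerating (top_le_iff.1 (hK ▸ sup_le_sup_left hΦ K))
  set π := QuotientGroup.mk' (commutator P) with hπ
  have hQ4 : Nat.card (P ⧸ commutator P) = 4 := h4
  have hQcomm : ∀ a b : P ⧸ commutator P, a * b = b * a := by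
    rintro ⟨a⟩ ⟨b⟩
    exact QuotientGroup.eq.2 (Subgroup.commutator_mem_commutator (H₁ := ⊤) (H₂ := ⊤)
      (Subgroup.mem_top b⁻¹) (Subgroup.mem_top a⁻¹) |> fun h => by
        rw [commutator_def]; simpa [commutatorElement_def, mul_assoc] using h)
  have hexp : ∀ a : P ⧸ commutator P, a ^ 2 = 1 := by
    intro a
    have hd : orderOf a ∣ 2 ^ 2 := by
      rw [show (2 : ℕ) ^ 2 = 4 by norm_num, ← hQ4]; exact orderOf_dvd_natCard a
    obtain ⟨k, hk, hk'⟩ := (Nat.dvd_prime_pow Nat.prime_two).1 hd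
    rcases Nat.lt_or_ge k 2 with h | h
    · exact orderOf_dvd_iff_pow_eq_one.1 (hk' ▸ pow_dvd_pow 2 (by omega : k ≤ 1))
    · exfalso
      obtain ⟨g, rfl⟩ := QuotientGroup.mk'_surjective _ a
      have htop : Subgroup.zpowers (π g) = ⊤ := Subgroup.eq_top_of_card_eq _
        (by rw [Nat.card_zpowers, hk', hQ4, show k = 2 by omega]; rfl)
      have h1 := hgen (Subgroup.zpowers g) (by
        rw [← QuotientGroup.ker_mk' (commutator P), ← Subgroup.comap_map_eq,
          MonoidHom.map_zpowers, htop, Subgroup.comap_top])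
      exact hna ⟨⟨fun u v => by
        obtain ⟨i, rfl⟩ := Subgroup.mem_zpowers_iff.1 (h1 ▸ Subgroup.mem_top u)
        obtain ⟨j, rfl⟩ := Subgroup.mem_zpowers_iff.1 (h1 ▸ Subgroup.mem_top v)
        rw [← zpow_add, ← zpow_add, add_comm]⟩⟩
  -- four classes
  have hfour : ∀ x y : P, π x ≠ 1 → π y ≠ 1 → π x ≠ π y →
      ∀ g : P, π g = 1 ∨ π g = π x ∨ π g = π y ∨ π g = π x * π y := by
    intro x y hx hy hxy g
    cases nonempty_fintype (P ⧸ commutator P)
    have hx' : π x * π x = 1 := by rw [← pow_two]; exact hexp _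
    have hne1 : π x * π y ≠ 1 := fun h => hxy (by
      rw [← mul_left_cancel_iff (a := π x), hx', h])
    have hne2 : π x * π y ≠ π x := fun h => hy (mul_eq_left.1 h)
    have hne3 : π x * π y ≠ π y := fun h => hx (mul_eq_right.1 h)
    have : ({1, π x, π y, π x * π y} : Finset (P ⧸ commutator P)) = Finset.univ := by
      apply Finset.eq_univ_of_card
      rw [← Nat.card_eq_fintype_card, hQ4]
      simp [Ne.symm hx, Ne.symm hy, hxy, Ne.symm hne1, Ne.symm hne2, Ne.symm hne3]
    have hg := Finset.mem_univ (π g)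
    rw [← this] at hg
    simpa using hg
  have hgen2 : ∀ a b : P, π a ≠ 1 → π b ≠ 1 → π a ≠ π b → Subgroup.closure ({a, b} : Set P) = ⊤ := by
    intro a b ha hb hab
    refine hgen _ (top_le_iff.1 fun g _ => ?_)
    rw [← QuotientGroup.ker_mk' (commutator P), ← Subgroup.comap_map_eq, Subgroup.mem_comap]
    have hA := Subgroup.mem_map_of_mem π (Subgroup.subset_closure (Set.mem_insert a {b}))
    have hB := Subgroup.mem_map_of_mem π (Subgroup.subset_closure (Set.mem_insert_of_mem a (Set.mem_singleton b)))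
    rcases hfour a b ha hb hab g with h | h | h | h <;> rw [← hπ, h]
    · exact one_mem _
    · exact hA
    · exact hB
    · exact mul_mem hA hB
  have hmapc : ∀ (f : MulAut P) (g : P), g ∈ commutator P → f g ∈ commutator P := fun f g hg => by
    have := Subgroup.mem_map_of_mem f.toMonoidHom hg
    rw [commutator_def] at this ⊢
    rw [Subgroup.map_commutator, Subgroup.map_top_of_surjective _ f.surjective] at this
    exact this
  -- an automorphism of odd prime order
  obtain ⟨q, hq, hq2, φ, hφ⟩ : ∃ q : ℕ, q.Prime ∧ q ≠ 2 ∧ ∃ φ : MulAut P, orderOf φ = q := by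
    by_contra hcon
    push Not at hcon
    refine haut (IsPGroup.of_card (n := (Nat.card (MulAut P)).primeFactorsList.length) ?_)
    refine Nat.eq_prime_pow_of_unique_prime_dvd Nat.card_pos.ne' fun {d} hd hdvd => ?_
    by_contra hd2
    haveI : Fact d.Prime := ⟨hd⟩
    obtain ⟨f, hf⟩ := exists_prime_orderOf_dvd_card' d hdvd
    exact hcon d hd hd2 f hf
  haveI : Fact q.Prime := ⟨hq⟩
  have hφq : φ ^ q = 1 := hφ ▸ pow_orderOf_eq_one φ
  -- it moves some coset
  obtain ⟨x, hxy⟩ : ∃ x : P, π (φ x) ≠ π x := by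
    by_contra hcon
    push Not at hcon
    have hne : ∃ a b : P, π a ≠ 1 ∧ π b ≠ 1 ∧ π a ≠ π b := by
      cases nonempty_fintype (P ⧸ commutator P)
      obtain ⟨u, hu⟩ := Finite.one_lt_card_iff_nontrivial.1 (by rw [hQ4]; norm_num : 1 < Nat.card (P ⧸ commutator P)) |>.exists_pair_ne
      obtain ⟨w, hw⟩ : ∃ w, w ∈ (Finset.univ : Finset (P ⧸ commutator P)) \ {1} := by
        refine Finset.card_pos.1 ?_
        rw [Finset.card_sdiff, Finset.card_univ, ← Nat.card_eq_fintype_card, hQ4]; simp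
      obtain ⟨v, hv⟩ : ∃ v, v ∈ (Finset.univ : Finset (P ⧸ commutator P)) \ {1, w} := by
        refine Finset.card_pos.1 ?_
        rw [Finset.card_sdiff, Finset.card_univ, ← Nat.card_eq_fintype_card, hQ4]
        have := (Finset.card_le_two : ({1, w} : Finset (P ⧸ commutator P)).card ≤ 2)
        simp only [Finset.inter_univ]
        omega
      obtain ⟨a, rfl⟩ := QuotientGroup.mk'_surjective _ w
      obtain ⟨b, rfl⟩ := QuotientGroup.mk'_surjective _ v
      simp only [Finset.mem_sdiff, Finset.mem_univ, true_and, Finset.mem_insert, Finset.mem_singleton, not_or] at hw hv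
      exact ⟨a, b, hw, hv.1, fun h => hv.2 h.symm⟩
    obtain ⟨a, b, ha, hb, hab⟩ := hne
    let T : Type _ := {z : P × P // π z.1 = π a ∧ π z.2 = π b}
    let σ : Equiv.Perm T :=
      { toFun := fun z => ⟨(φ z.1.1, φ z.1.2), (hcon _).trans z.2.1, (hcon _).trans z.2.2⟩
        invFun := fun z => ⟨(φ.symm z.1.1, φ.symm z.1.2),
          ((hcon _).symm.trans (by rw [MulEquiv.apply_symm_apply])).trans z.2.1,
          ((hcon _).symm.trans (by rw [MulEquiv.apply_symm_apply])).trans z.2.2⟩
        left_inv := fun z => by simp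
        right_inv := fun z => by simp }
    have hσ : ∀ (k : ℕ) (z : T), ((σ ^ k) z).1 = ((φ ^ k) z.1.1, (φ ^ k) z.1.2) := by
      intro k
      induction k with
      | zero => intro z; simp
      | succ k ih => intro z; rw [pow_succ', pow_succ', Equiv.Perm.mul_apply]; simp [σ, ih z]
    have hσq : σ ^ q ^ 1 = 1 := Equiv.ext fun z => Subtype.ext (by rw [pow_one, hσ, hφq]; rfl)
    cases nonempty_fintype T
    have hT : Nat.card T = Nat.card (commutator P) * Nat.card (commutator P) := by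
      rw [← Nat.card_prod]
      refine Nat.card_congr
        { toFun := fun z => (⟨a⁻¹ * z.1.1, QuotientGroup.eq.1 z.2.1.symm⟩, ⟨b⁻¹ * z.1.2, QuotientGroup.eq.1 z.2.2.symm⟩)
          invFun := fun w => ⟨(a * w.1, b * w.2), ?_, ?_⟩
          left_inv := fun z => by apply Subtype.ext; simp
          right_inv := fun w => by simp }
      · exact (QuotientGroup.eq.2 (by simp [inv_mul_cancel_left])).symm
      · exact (QuotientGroup.eq.2 (by simp [inv_mul_cancel_left])).symm
    have hnd : ¬ q ∣ Fintype.card T := by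
      rw [← Nat.card_eq_fintype_card, hT]
      obtain ⟨k, hk⟩ := IsPGroup.iff_card.1 (hP.to_subgroup (commutator P))
      rw [hk, ← pow_add]
      exact fun h => hq2 ((Nat.prime_dvd_prime_iff_eq hq Nat.prime_two).1 (hq.dvd_of_dvd_pow h))
    obtain ⟨⟨⟨u, v⟩, hu, hv⟩, hz⟩ := Equiv.Perm.exists_fixed_point_of_prime hnd hσq
    have hz' := congrArg Subtype.val hz
    simp only [σ, Equiv.coe_fn_mk, Prod.mk.injEq] at hz'
    have hid : φ = 1 := by
      ext g
      have hle : Subgroup.closure ({u, v} : Set P) ≤ φ.toMonoidHom.eqLocus (MonoidHom.id P) := by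
        rw [Subgroup.closure_le]
        rintro _ (rfl | rfl)
        exacts [hz'.1, hz'.2]
      exact hle (hgen2 u v (hu ▸ ha) (hv ▸ hb) (hu ▸ hv ▸ hab) ▸ Subgroup.mem_top g)
    rw [hid, orderOf_one] at hφ
    exact hq.ne_one hφ.symm
  set y := φ x with hy
  have hker : ∀ (g : P), π g = 1 ↔ g ∈ commutator P := fun g => QuotientGroup.eq_one_iff g
  have hφπ : ∀ (f : MulAut P) (a b : P), π a = π b → π (f a) = π (f b) := by
    intro f a b h
    exact QuotientGroup.eq.2 (by simpa using hmapc f _ (QuotientGroup.eq.1 h))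
  have hx1 : π x ≠ 1 := fun h => hxy (h.symm ▸ (hker _).2 (hmapc φ _ ((hker _).1 h)))
  have hy1 : π y ≠ 1 := fun h => hx1 ((hker _).2 (by
    simpa [hy] using hmapc φ.symm _ ((hker _).1 h)))
  have hgenxy := hgen2 x y hx1 hy1 (Ne.symm hxy)
  have hφy : π (φ y) = π x * π y := by
    rcases hfour x y hx1 hy1 (Ne.symm hxy) (φ y) with h | h | h | h
    · exact absurd ((hker _).2 (by simpa using hmapc φ.symm _ ((hker _).1 h))) hy1
    · exfalso
      have hper : ∀ k, π ((φ ^ (2 * k + 1) : MulAut P) x) = π y := by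
        intro k
        induction k with
        | zero => simp [hy]
        | succ k ih =>
          rw [show 2 * (k + 1) + 1 = 2 + (2 * k + 1) by ring, pow_add, MulAut.mul_apply, pow_two,
            MulAut.mul_apply]
          refine (hφπ φ _ _ (hφπ φ _ _ ih)).trans ?_
          exact (hφπ φ _ _ h).trans rfl
      obtain ⟨k, hk⟩ := hq.odd_of_ne_two hq2
      exact hxy (by rw [← hper k, ← hk, hφq, MulAut.one_apply])
    · exact absurd (by simpa [hy] using hφπ φ.symm _ _ h) hxy
    · exact h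
  -- the lower central series
  set C := commutator P with hC
  set c := ⁅x, y⁆ with hc
  set γ := ⁅C, (⊤ : Subgroup P)⁆ with hγ
  have hcC : c ∈ C := Subgroup.commutator_mem_commutator (Subgroup.mem_top x) (Subgroup.mem_top y)
  have hdesc : ∀ H : Subgroup P, H ≤ ⁅H, (⊤ : Subgroup P)⁆ → H = ⊥ := by
    intro H hH
    refine eq_bot_iff.2 ?_
    rw [← Subgroup.lowerCentralSeries_eq_bot_iff_nilpotencyClass_le.2 le_rfl]
    suffices h : ∀ n, H ≤ (⊤ : Subgroup P).lowerCentralSeries n from h _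
    intro n
    induction n with
    | zero => exact le_top
    | succ n ih => exact hH.trans (Subgroup.commutator_mono ih le_rfl)
  have hcentral : ∀ {M : Subgroup P} [M.Normal], ⁅C, (⊤ : Subgroup P)⁆ ≤ M → ∀ u ∈ C, ∀ g : P,
      (u : P ⧸ M) * g = g * u := by
    intro M _ hM u hu g
    rw [← commutatorElement_eq_one_iff_mul_comm]
    exact (QuotientGroup.eq_one_iff _).2 (hM (Subgroup.commutator_mem_commutator hu (Subgroup.mem_top g)))
  have hgenQ : ∀ {M : Subgroup P} [M.Normal] (z : P ⧸ M), z * x = x * z → z * y = y * z → ∀ g : P, z * g = g * z := by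
    intro M _ z hzx hzy g
    have hle : Subgroup.closure ({x, y} : Set P) ≤ (Subgroup.centralizer ({z} : Set (P ⧸ M))).comap (QuotientGroup.mk' M) := by
      rw [Subgroup.closure_le]
      rintro _ (rfl | rfl) <;>
        simp only [SetLike.mem_coe, Subgroup.mem_comap, Subgroup.mem_centralizer_singleton_iff,
          QuotientGroup.mk'_apply]
      exacts [hzx.symm, hzy.symm]
    have := hle (hgenxy ▸ Subgroup.mem_top g)
    rw [Subgroup.mem_comap, Subgroup.mem_centralizer_singleton_iff] at this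
    exact this.symm
  let π₃ := QuotientGroup.mk' γ
  have hz := fun u (hu : u ∈ C) g => hcentral (M := γ) le_rfl u hu g
  set X := π₃ x with hX
  set Y := π₃ y with hY
  set Cc := π₃ c with hCc
  have hxx : x ^ 2 ∈ C := (hker _).1 (by rw [map_pow]; exact hexp _)
  have hcom : Y * X = Cc⁻¹ * (X * Y) := by
    simp only [hX, hY, hCc, ← map_mul, ← map_inv, hc, commutatorElement_def]
    congr 1
    group
  have hC2 : Cc * Cc = 1 := by
    have h1 : X * X * Y = Y * (X * X) := by
      have := hz _ hxx y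
      rw [pow_two, QuotientGroup.mk_mul] at this
      exact this
    have hXC : X * Cc⁻¹ = Cc⁻¹ * X := by
      have := hz _ (inv_mem hcC) x
      rw [QuotientGroup.mk_inv] at this
      exact this.symm
    have h2 : Y * (X * X) = Cc⁻¹ * Cc⁻¹ * (X * X * Y) := by
      calc Y * (X * X) = Y * X * X := (mul_assoc _ _ _).symm
        _ = Cc⁻¹ * (X * (Y * X)) := by
          rw [show Y * X * X = Cc⁻¹ * (X * Y) * X by rw [hcom]]; group
        _ = Cc⁻¹ * (X * Cc⁻¹ * (X * Y)) := by rw [hcom, ← mul_assoc X Cc⁻¹]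
        _ = Cc⁻¹ * Cc⁻¹ * (X * X * Y) := by rw [hXC]; group
    rw [← h1] at h2
    have := mul_eq_right.1 h2.symm
    calc Cc * Cc = (Cc⁻¹ * Cc⁻¹)⁻¹ := by rw [mul_inv_rev, inv_inv]
      _ = 1 := by rw [this, inv_one]
  have hCcz : ∀ g : P, Cc * π₃ g = π₃ g * Cc := hz c hcC
  have htwo : ∀ u ∈ C, π₃ u = 1 ∨ π₃ u = Cc := by
    -- modulo the subgroup generated by `γ` and `c` the group is abelian
    set L := γ ⊔ Subgroup.zpowers c with hL
    haveI : L.Normal := ⟨fun l hl g => by
      have hlC : l ∈ C := (sup_le (Subgroup.commutator_le_left C ⊤) (Subgroup.zpowers_le.2 hcC) : L ≤ C) hl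
      have : g * l * g⁻¹ * l⁻¹ ∈ γ := by
        rw [hγ, Subgroup.commutator_comm]
        exact Subgroup.commutator_mem_commutator (Subgroup.mem_top g) hlC
      simpa using mul_mem ((le_sup_left : γ ≤ L) this) hl⟩
    have hL' : C ≤ L := by
      rw [hC, commutator_def, Subgroup.commutator_le]
      have hxyL : (x : P ⧸ L) * y = y * x := by
        rw [← commutatorElement_eq_one_iff_mul_comm]
        exact (QuotientGroup.eq_one_iff _).2 ((le_sup_right : _ ≤ L) (Subgroup.mem_zpowers c))
      have hxc : ∀ g : P, (x : P ⧸ L) * g = g * x := hgenQ (M := L) _ rfl hxyL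
      have hyc : ∀ g : P, (y : P ⧸ L) * g = g * y := hgenQ (M := L) _ hxyL.symm rfl
      intro a _ b _
      rw [← QuotientGroup.eq_one_iff]
      exact commutatorElement_eq_one_iff_mul_comm.2
        (hgenQ (M := L) _ ((hxc a).symm) ((hyc a).symm) b)
    intro u hu
    obtain ⟨g, hg, v, hv, rfl⟩ := Subgroup.mem_sup_of_normal_left.1 (hL' hu)
    obtain ⟨i, rfl⟩ := Subgroup.mem_zpowers_iff.1 hv
    rw [map_mul, show π₃ g = 1 from (QuotientGroup.eq_one_iff g).2 hg, one_mul, map_zpow, ← hCc]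
    rcases Int.even_or_odd i with ⟨j, rfl⟩ | ⟨j, rfl⟩
    · left; rw [← two_mul, zpow_mul, zpow_two, hC2, one_zpow]
    · right; rw [zpow_add, zpow_mul, zpow_two, hC2, one_zpow, one_mul, zpow_one]
  have hc1 : Cc ≠ 1 := by
    intro h
    have hCγ : C ≤ γ := fun u hu => by
      rcases htwo u hu with e | e
      · exact (QuotientGroup.eq_one_iff u).1 e
      · exact (QuotientGroup.eq_one_iff u).1 (e.trans h)
    have hbot := hdesc C hCγ
    exact hna ⟨⟨fun a b => by
      rw [← commutatorElement_eq_one_iff_mul_comm, ← Subgroup.mem_bot, ← hbot]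
      exact Subgroup.commutator_mem_commutator (Subgroup.mem_top a) (Subgroup.mem_top b)⟩⟩
  have hφγ : ∀ (f : MulAut P) u, u ∈ γ → f u ∈ γ := by
    intro f u hu
    have hle : γ.map f.toMonoidHom ≤ γ := by
      rw [hγ, Subgroup.map_commutator]
      refine Subgroup.commutator_mono ?_ le_top
      rintro _ ⟨v, hv, rfl⟩
      exact hmapc f v hv
    exact hle ⟨u, hu, rfl⟩
  -- all three squares agree
  have hs : ∀ u ∈ C, π₃ (φ u) = π₃ u := by
    intro u hu
    have h0 : ∀ w ∈ C, π₃ (φ w) = 1 → π₃ w = 1 := fun w _ hw =>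
      (QuotientGroup.eq_one_iff w).2 (by simpa using hφγ φ.symm _ ((QuotientGroup.eq_one_iff (φ w)).1 hw))
    rcases htwo u hu with e | e
    · rw [e]; exact (QuotientGroup.eq_one_iff _).2 (hφγ φ u ((QuotientGroup.eq_one_iff u).1 e))
    · rcases htwo (φ u) (hmapc φ u hu) with e' | e'
      · exact absurd ((h0 u hu e').symm.trans e) (Ne.symm hc1)
      · rw [e, e']
  have hxs : X * X = Cc ∧ Y * Y = Cc := by
    have h1 : Y * Y = X * X := by
      have := hs _ hxx
      rwa [map_pow, ← hy, map_pow, map_pow, ← hY, ← hX, pow_two, pow_two] at this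
    -- `φ y` is congruent to `x * y`
    obtain ⟨w, hw, hwy⟩ : ∃ w ∈ C, φ y = x * y * w :=
      ⟨(x * y)⁻¹ * φ y, QuotientGroup.eq.1 ((map_mul π x y).trans hφy.symm), (mul_inv_cancel_left (x * y) (φ y)).symm⟩
    have hyy : y ^ 2 ∈ C := (hker _).1 (by rw [map_pow]; exact hexp _)
    have h2 : π₃ (φ y) * π₃ (φ y) = Y * Y := by
      have := hs _ hyy
      rwa [map_pow, map_pow, map_pow, ← hY, pow_two, pow_two] at this
    have hW : π₃ w * π₃ w = 1 := by
      rcases htwo w hw with e | e <;> rw [e]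
      · rw [one_mul]
      · exact hC2
    have hWc : π₃ w * (X * Y) = X * Y * π₃ w := by
      rw [hX, hY, ← map_mul]; exact hz w hw (x * y)
    have hCcX : Cc⁻¹ = Cc := inv_eq_of_mul_eq_one_right hC2
    rw [hwy, map_mul, map_mul, ← hX, ← hY] at h2
    have hXC : X * Cc = Cc * X := (hCcz x).symm
    have h3 : Cc * (X * X) = 1 := by
      have h4 : X * Y * π₃ w * (X * Y * π₃ w) = Cc * (X * X) * (Y * Y) := by
        calc X * Y * π₃ w * (X * Y * π₃ w) = X * Y * (π₃ w * (X * Y)) * π₃ w := by group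
          _ = X * Y * (X * Y) * (π₃ w * π₃ w) := by rw [hWc]; group
          _ = X * (Y * X) * Y := by rw [hW]; group
          _ = X * Cc * X * Y * Y := by rw [hcom, hCcX]; group
          _ = Cc * (X * X) * (Y * Y) := by rw [hXC]; group
      rw [h4] at h2
      exact mul_eq_right.1 h2
    have hX2 : X * X = Cc := by rw [← hCcX]; exact eq_inv_of_mul_eq_one_right h3
    exact ⟨hX2, h1.trans hX2⟩
  -- `γ` is trivial
  have hγbot : γ = ⊥ := by
    refine hdesc γ ?_
    set B := ⁅γ, (⊤ : Subgroup P)⁆ with hB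
    haveI : γ.Normal := Subgroup.commutator_normal C ⊤
    haveI : B.Normal := Subgroup.commutator_normal γ ⊤
    have hγz : ∀ u ∈ γ, ∀ g : P, (u : P ⧸ B) * g = g * u := by
      intro u hu g
      rw [← commutatorElement_eq_one_iff_mul_comm]
      exact (QuotientGroup.eq_one_iff _).2 (Subgroup.commutator_mem_commutator hu (Subgroup.mem_top g))
    have hd : (x ^ 2)⁻¹ * y ^ 2 ∈ γ := by
      rw [← QuotientGroup.eq]
      show π₃ (x ^ 2) = π₃ (y ^ 2)
      rw [map_pow, map_pow, ← hX, ← hY, pow_two, pow_two, hxs.1, hxs.2]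
    have he : (x ^ 2)⁻¹ * c ∈ γ := by
      rw [← QuotientGroup.eq]
      show π₃ (x ^ 2) = π₃ c
      rw [map_pow, ← hX, pow_two, hxs.1]
    have hx2z : ∀ g : P, ((x ^ 2 : P) : P ⧸ B) * g = g * ((x ^ 2 : P) : P ⧸ B) := by
      refine hgenQ (M := B) _ ?_ ?_
      · rw [← QuotientGroup.mk_mul, ← QuotientGroup.mk_mul, ← pow_succ, ← pow_succ']
      · have h2 : ((x ^ 2 : P) : P ⧸ B) = ((y ^ 2 : P) : P ⧸ B) * (((x ^ 2)⁻¹ * y ^ 2 : P) : P ⧸ B)⁻¹ := by
          rw [← QuotientGroup.mk_inv, ← QuotientGroup.mk_mul]; simp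
        rw [h2, mul_assoc]
        have := hγz _ (inv_mem hd) y
        rw [QuotientGroup.mk_inv] at this
        rw [this, ← mul_assoc, ← mul_assoc]
        congr 1
        rw [← QuotientGroup.mk_mul, ← QuotientGroup.mk_mul, ← pow_succ, ← pow_succ']
    have hcz : ∀ g : P, (c : P ⧸ B) * g = g * c := by
      intro g
      have h2 : (c : P ⧸ B) = ((x ^ 2 : P) : P ⧸ B) * (((x ^ 2)⁻¹ * c : P) : P ⧸ B) := by
        rw [← QuotientGroup.mk_mul]; simp
      rw [h2, mul_assoc, hγz _ he g, ← mul_assoc, hx2z g, mul_assoc]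
    refine (Subgroup.commutator_le (H₁ := C) (H₂ := (⊤ : Subgroup P))).2 ?_
    intro u hu g _
    rw [← QuotientGroup.eq_one_iff]
    refine Eq.trans (map_commutatorElement (QuotientGroup.mk' B) u g) (commutatorElement_eq_one_iff_mul_comm.2 ?_)
    show ((u : P) : P ⧸ B) * g = g * u
    rcases htwo u hu with e | e
    · exact hγz u ((QuotientGroup.eq_one_iff u).1 e) g
    · have h2 : c⁻¹ * u ∈ γ := QuotientGroup.eq.1 e.symm
      have h3 : (u : P ⧸ B) = (c : P ⧸ B) * ((c⁻¹ * u : P) : P ⧸ B) := by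
        rw [← QuotientGroup.mk_mul]; simp
      rw [h3, mul_assoc, hγz _ h2 g, ← mul_assoc, hcz g, mul_assoc]
  -- the quaternion group
  have hinj : ∀ a b : P, π₃ a = π₃ b → a = b := fun a b h => by
    have := QuotientGroup.eq.1 h
    rw [hγbot, Subgroup.mem_bot] at this
    exact inv_mul_eq_one.1 this
  have hx2c : x * x = c := hinj _ _ (by rw [map_mul, ← hX, hxs.1])
  have hy2c : y * y = c := hinj _ _ (by rw [map_mul, ← hY, hxs.2])
  have hcc : c * c = 1 := hinj _ _ (by rw [map_mul, ← hCc, hC2, map_one])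
  have hyx : y * x * y⁻¹ = x⁻¹ := by
    have h := hinj (y * x) (c⁻¹ * (x * y)) (by rw [map_mul, ← hX, ← hY, hcom, map_mul, map_inv, map_mul])
    rw [h, ← mul_assoc, mul_inv_cancel_right, ← hx2c]
    group
  have hord : orderOf x = 2 * 2 := by
    have := orderOf_eq_prime_pow (p := 2) (n := 1) (x := x) ?_ ?_
    · simpa using this
    · rw [show (2 : ℕ) ^ 1 = 2 by norm_num, pow_two, hx2c]
      exact fun h => hc1 (by rw [hCc, h, map_one])
    · rw [show (2 : ℕ) ^ (1 + 1) = 2 + 2 by norm_num, pow_add, pow_two, hx2c, hcc]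
  have hymem : y ∉ Subgroup.zpowers x := by
    intro h
    obtain ⟨i, hi⟩ := Subgroup.mem_zpowers_iff.1 h
    rcases Int.even_or_odd i with ⟨j, rfl⟩ | ⟨j, rfl⟩
    · exact hy1 (by rw [← hi, map_zpow, ← two_mul, zpow_mul, zpow_two, ← pow_two, hexp, one_zpow])
    · exact hxy (by rw [← hi, map_zpow, zpow_add, zpow_mul, zpow_two, ← pow_two, hexp, one_zpow, one_mul, zpow_one])
  have hD : ∀ g : P, ∃ i : ℤ, g = x ^ i ∨ g = y * x ^ i := by
    intro g
    have hmem : ∀ u ∈ C, ∃ i : ℤ, u = x ^ i := fun u hu => by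
      rcases htwo u hu with e | e
      · exact ⟨0, by rw [zpow_zero]; exact hinj u 1 (by rw [e, map_one])⟩
      · exact ⟨2, by rw [zpow_two, hx2c]; exact hinj u c e⟩
    rcases hfour x y hx1 hy1 (Ne.symm hxy) g with h | h | h | h
    · obtain ⟨i, hi⟩ := hmem g ((hker g).1 h)
      exact ⟨i, Or.inl hi⟩
    · obtain ⟨i, hi⟩ := hmem (x⁻¹ * g) (QuotientGroup.eq.1 h.symm)
      exact ⟨1 + i, Or.inl (by rw [zpow_add, zpow_one, ← hi, mul_inv_cancel_left])⟩
    · obtain ⟨i, hi⟩ := hmem (y⁻¹ * g) (QuotientGroup.eq.1 h.symm)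
      exact ⟨i, Or.inr (by rw [← hi, mul_inv_cancel_left])⟩
    · rw [← map_mul] at h
      obtain ⟨i, hi⟩ := hmem ((x * y)⁻¹ * g) (QuotientGroup.eq.1 h.symm)
      refine ⟨-1 + i, Or.inr ?_⟩
      have e : g = x * y * x ^ i := by rw [← hi, mul_inv_cancel_left]
      rw [e, zpow_add, zpow_neg_one, ← mul_assoc]
      congr 1
      have h5 : y * x = x⁻¹ * y := mul_inv_eq_iff_eq_mul.1 hyx
      calc x * y = x * y * x * x⁻¹ := by group
        _ = x * (y * x) * x⁻¹ := by group
        _ = y * x⁻¹ := by rw [h5]; group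
  obtain ⟨e⟩ := CfsgLib.TwoFusion.exists_quaternion_mulEquiv (m := 2) two_pos hord
    (by rw [hy2c, pow_two, hx2c]) hyx hymem ⊤ (fun g => iff_of_true trivial (hD g))
  exact ⟨Subgroup.topEquiv.symm.trans e⟩

end Cfsg.Agent.S4189
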