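import Cfsg.Statements.S4190
import Cfsg.Agent.Lib.SolvClass.Bound

set_option autoImplicit false
open Cfsg

namespace Cfsg.Agent.S4190

/-- Let G be a finite solvable group and p a prime dividing the index of the Fitting subgroup of G. Then the number of conjugacy classes of G is at least p/(3·log₂ p). -/
theorem result {G : Type*} [Group G] [Finite G] (hG : Group.IsSolvable G) (p : ℕ) [Fact p.Prime] (hp : p ∣ (Cfsg.fittingSubgroup G).index) : (p : ℝ) / (3 * Real.logb 2 p) ≤ Nat.card (ConjClasses G) := by
  have hp2 := (Fact.out : p.Prime).two_le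
  have h := CfsgLib.SolvClass.two_pow_le _ rfl hG p hp
  have hpos : 0 < Real.logb 2 p := Real.logb_pos (by norm_num) (by exact_mod_cast (by omega : 1 < p))
  rw [div_le_iff₀ (by positivity)]
  have h1 : ((2 : ℕ) ^ p : ℝ) ≤ ((p ^ (3 * Nat.card (ConjClasses G)) : ℕ) : ℝ) := by exact_mod_cast h
  have h2 := Real.logb_le_logb_of_le (b := 2) (by norm_num) (by positivity) h1
  push_cast at h2
  rw [Real.logb_pow, Real.logb_pow, Real.logb_self_eq_one (by norm_num)] at h2
  push_cast at h2
  linarith

end Cfsg.Agent.S4190
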