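import Cfsg.Statements.S4192
import Cfsg.Agent.Lib.RealClassDisc.Main

set_option autoImplicit false
open Cfsg

namespace Cfsg.Agent.S4192

/-- Let G be a finite group; call an element real when it is conjugate to its inverse, and say that the real-class-size graph of a group is disconnected when the primes dividing its real class sizes split into two non-empty disjoint parts with no real class size divisible by a prime from each part. If the real-class-size graph of G is disconnected, then some real class size of G is even, and either the Sylow 2-subgroups of G are normal, or the subgroup K generated by the 2-elements of G (the smallest normal subgroup of odd index) again has a disconnected real-class-size graph and every real class size of K is odd or a power of 2. -/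
theorem result {G : Type*} [Group G] [Finite G] (h : (∃ π₁ π₂ : Set ℕ, π₁.Nonempty ∧ π₂.Nonempty ∧ Disjoint π₁ π₂ ∧ (∀ q ∈ π₁ ∪ π₂, q.Prime ∧ ∃ n ∈ {n : ℕ | ∃ x : G, IsConj x x⁻¹ ∧ (Subgroup.centralizer ({x} : Set G)).index = n}, q ∣ n) ∧ (∀ q : ℕ, q.Prime → (∃ n ∈ {n : ℕ | ∃ x : G, IsConj x x⁻¹ ∧ (Subgroup.centralizer ({x} : Set G)).index = n}, q ∣ n) → q ∈ π₁ ∨ q ∈ π₂) ∧ ∀ a ∈ π₁, ∀ b ∈ π₂, ∀ n ∈ {n : ℕ | ∃ x : G, IsConj x x⁻¹ ∧ (Subgroup.centralizer ({x} : Set G)).index = n}, ¬ (a ∣ n ∧ b ∣ n))) : (∃ n ∈ {n : ℕ | ∃ x : G, IsConj x x⁻¹ ∧ (Subgroup.centralizer ({x} : Set G)).index = n}, 2 ∣ n) ∧ ((∀ P : Sylow 2 G, (P : Subgroup G).Normal) ∨ ((∃ π₁ π₂ : Set ℕ, π₁.Nonempty ∧ π₂.Nonempty ∧ Disjoint π₁ π₂ ∧ (∀ q ∈ π₁ ∪ π₂, q.Prime ∧ ∃ n ∈ {n : ℕ | ∃ x : ↥(Subgroup.closure {g : G | ∃ k : ℕ, orderOf g = 2 ^ k}), IsConj x x⁻¹ ∧ (Subgroup.centralizer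 ({x} : Set ↥(Subgroup.closure {g : G | ∃ k : ℕ, orderOf g = 2 ^ k}))).index = n}, q ∣ n) ∧ (∀ q : ℕ, q.Prime → (∃ n ∈ {n : ℕ | ∃ x : ↥(Subgroup.closure {g : G | ∃ k : ℕ, orderOf g = 2 ^ k}), IsConj x x⁻¹ ∧ (Subgroup.centralizer ({x} : Set ↥(Subgroup.closure {g : G | ∃ k : ℕ, orderOf g = 2 ^ k}))).index = n}, q ∣ n) → q ∈ π₁ ∨ q ∈ π₂) ∧ ∀ a ∈ π₁, ∀ b ∈ π₂, ∀ n ∈ {n : ℕ | ∃ x : ↥(Subgroup.closure {g : G | ∃ k : ℕ, orderOf g = 2 ^ k}), IsConj x x⁻¹ ∧ (Subgroup.centralizer ({x} : Set ↥(Subgroup.closure {g : G | ∃ k : ℕ, orderOf g = 2 ^ k}))).index = n}, ¬ (a ∣ n ∧ b ∣ n)) ∧ ∀ n ∈ {n : ℕ | ∃ x : ↥(Subgroup.closure {g : G | ∃ k : ℕ, orderOf g = 2 ^ k}), IsConj x x⁻¹ ∧ (Subgroup.centralizer ({x} : Set ↥(Subgroup.closure {g : G | ∃ k : ℕ, orderOf g = 2 ^ k}))).index = n}, Odd n ∨ ∃ j : ℕ, n = 2 ^ j)) := by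
  obtain ⟨π₁, π₂, ⟨a, ha⟩, ⟨b, hb⟩, -, hmem, hcov, hpure⟩ := h
  have hD : CfsgLib.RealClassDisc.Disc G π₁ π₂ := by
    refine ⟨fun x hx q hq hd => hcov q hq ⟨_, ⟨x, hx, rfl⟩, hd⟩,
      fun x hx a ha b hb => hpure a ha b hb _ ⟨x, hx, rfl⟩, ?_, ?_⟩
    · obtain ⟨hp, n, ⟨x, hx, rfl⟩, hd⟩ := hmem a (Or.inl ha)
      exact ⟨x, a, hx, ha, hp, hd⟩
    · obtain ⟨hp, n, ⟨x, hx, rfl⟩, hd⟩ := hmem b (Or.inr hb)
      exact ⟨x, b, hx, hb, hp, hd⟩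
  obtain ⟨x, hx, he⟩ := hD.exists_even
  refine ⟨⟨_, ⟨x, hx, rfl⟩, even_iff_two_dvd.1 he⟩, ?_⟩
  have key : (∃ A B : Set ℕ, 2 ∈ A ∧ CfsgLib.RealClassDisc.Disc G A B) := by
    rcases hD.cover x hx 2 Nat.prime_two (even_iff_two_dvd.1 he) with h2 | h2
    · exact ⟨π₁, π₂, h2, hD⟩
    · exact ⟨π₂, π₁, h2, hD.symm⟩
  obtain ⟨A, B, h2, hAB⟩ := key
  rcases CfsgLib.RealClassDisc.structure_twoGen hAB h2 with hn | ⟨⟨σ₁, σ₂, h1, h2', hdj, hm, hc, hp⟩, hs⟩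
  · exact Or.inl hn
  refine Or.inr ⟨⟨σ₁, σ₂, h1, h2', hdj, fun q hq => ?_, fun q hq hqn => ?_, ?_⟩, ?_⟩
  · obtain ⟨hqp, z, hz, hd⟩ := hm q hq
    exact ⟨hqp, _, ⟨z, hz, rfl⟩, hd⟩
  · obtain ⟨n, ⟨z, hz, rfl⟩, hd⟩ := hqn
    exact hc q z hq hz hd
  · rintro a ha b hb n ⟨z, hz, rfl⟩
    exact hp a ha b hb z hz
  · rintro n ⟨z, hz, rfl⟩
    exact hs z hz

end Cfsg.Agent.S4192
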