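import Cfsg.Statements.S4194
import Cfsg.Agent.Lib.TwoCentral.Basic

set_option autoImplicit false
open Cfsg

namespace Cfsg.Agent.S4194

/-- A finite group G has commutative Sylow 2-subgroups if and only if every 2-element of G (element of order a power of 2) is 2-central, that is, its centralizer contains a Sylow 2-subgroup of G. -/
theorem result {G : Type*} [Group G] [Finite G] (P : Sylow 2 G) :
    IsMulCommutative (P : Subgroup G) ↔ ∀ x : G, (∃ k : ℕ, orderOf x = 2 ^ k) → (∃ Q : Sylow 2 G, (Q : Subgroup G) ≤ Subgroup.centralizer ({x} : Set G)) := by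
  haveI : Fact (Nat.Prime 2) := ⟨Nat.prime_two⟩
  refine ⟨fun hP x hx => ?_, fun h => CfsgLib.TwoCentral.isMulCommutative_sylow P h⟩
  obtain ⟨k, hk⟩ := hx
  obtain ⟨Q, hQ⟩ := (IsPGroup.of_card (p := 2) (n := k)
    (by rw [Nat.card_zpowers, hk] : Nat.card ↥(Subgroup.zpowers x) = 2 ^ k)).exists_le_sylow
  refine ⟨Q, fun q hq => Subgroup.mem_centralizer_singleton_iff.mpr ?_⟩
  obtain ⟨e⟩ : Nonempty (↥(Q : Subgroup G) ≃* ↥(P : Subgroup G)) := ⟨Sylow.equiv Q P⟩
  refine congrArg Subtype.val (show (⟨q, hq⟩ : ↥(Q : Subgroup G)) * ⟨x, hQ (Subgroup.mem_zpowers x)⟩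
    = ⟨x, hQ (Subgroup.mem_zpowers x)⟩ * ⟨q, hq⟩ from e.injective ?_)
  rw [map_mul, map_mul]
  exact hP.is_comm.comm _ _

end Cfsg.Agent.S4194
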