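import Cfsg.Statements.S4195


set_option autoImplicit false
open Cfsg

namespace Cfsg.Agent.S4195

/-- Let x be a non-identity element of a finite group G whose centralizer contains a Sylow 2-subgroup of G. If x is conjugate to its inverse, then x has order 2. -/
theorem result {G : Type*} [Group G] [Finite G] (x : G) (hx : x ≠ 1) (P : Sylow 2 G) (hP : (P : Subgroup G) ≤ Subgroup.centralizer ({x} : Set G)) (hreal : IsConj x x⁻¹) : orderOf x = 2 := by
  by_contra h2
  obtain ⟨g, hg⟩ := isConj_iff.1 hreal
  set C := Subgroup.centralizer ({x} : Set G) with hC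
  have hodd : ¬ 2 ∣ C.index := fun h => P.not_dvd_index (h.trans (Subgroup.index_dvd_of_le hP))
  have hgC : g ∉ C := by
    intro hgc
    rw [hC, Subgroup.mem_centralizer_singleton_iff] at hgc
    rw [hgc, mul_inv_cancel_right] at hg
    exact h2 (orderOf_eq_prime (by rw [pow_two]; nth_rw 2 [hg]; exact mul_inv_cancel x) hx)
  -- the elements sending `x` to `x` or `x⁻¹`
  let E : Subgroup G :=
    { carrier := {y | y * x * y⁻¹ = x ∨ y * x * y⁻¹ = x⁻¹}
      one_mem' := Or.inl (by simp)
      mul_mem' := by
        intro a b ha hb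
        have e : a * b * x * (a * b)⁻¹ = a * (b * x * b⁻¹) * a⁻¹ := by group
        have e2 : a * x⁻¹ * a⁻¹ = (a * x * a⁻¹)⁻¹ := by group
        simp only [Set.mem_ofPred_eq, e] at *
        rcases hb with hb | hb <;> rcases ha with ha | ha <;> simp [hb, e2, ha]
      inv_mem' := by
        intro a ha
        simp only [Set.mem_ofPred_eq, inv_inv] at *
        rcases ha with ha | ha
        · left; nth_rw 1 [← ha]; group
        · right
          calc a⁻¹ * x * a = a⁻¹ * (x⁻¹)⁻¹ * a := by rw [inv_inv]
            _ = a⁻¹ * (a * x * a⁻¹)⁻¹ * a := by rw [ha]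
            _ = x⁻¹ := by group }
  have hCE : C ≤ E := fun y hy =>
    Or.inl (by rw [hC, Subgroup.mem_centralizer_singleton_iff] at hy; rw [hy, mul_inv_cancel_right])
  have hidx : C.relIndex E = 2 := by
    refine Subgroup.relIndex_eq_two_iff_exists_notMem_and.2 ⟨g, Or.inr hg, hgC, fun b hb => ?_⟩
    rcases hb with hb | hb
    · exact Or.inr (by rw [hC, Subgroup.mem_centralizer_singleton_iff]; exact mul_inv_eq_iff_eq_mul.1 hb)
    · left
      rw [hC, Subgroup.mem_centralizer_singleton_iff, ← mul_inv_eq_iff_eq_mul]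
      calc b * g * x * (b * g)⁻¹ = b * (g * x * g⁻¹) * b⁻¹ := by group
        _ = (b * x * b⁻¹)⁻¹ := by rw [hg]; group
        _ = x := by rw [hb, inv_inv]
  exact hodd ⟨E.index, by rw [← Subgroup.relIndex_mul_index hCE, hidx]⟩

end Cfsg.Agent.S4195
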