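import Cfsg.Statements.S4196

set_option autoImplicit false
open Cfsg

namespace Cfsg.Agent.S4196

/-- A finite group G has elementary abelian Sylow 2-subgroups (commutative with every element squaring to the identity) if and only if every 2-element of G has a Sylow 2-subgroup in its centralizer and is conjugate to its inverse. -/
theorem result {G : Type*} [Group G] [Finite G] (P : Sylow 2 G) :
    (IsMulCommutative (P : Subgroup G) ∧ ∀ x ∈ (P : Subgroup G), x ^ 2 = 1) ↔
      ∀ x : G, (∃ k : ℕ, orderOf x = 2 ^ k) → (∃ Q : Sylow 2 G, (Q : Subgroup G) ≤ Subgroup.centralizer ({x} : Set G)) ∧ IsConj x x⁻¹ := by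
  constructor
  · rintro ⟨hc, hsq⟩ x ⟨k, hk⟩
    have hp : IsPGroup 2 (Subgroup.zpowers x) := IsPGroup.of_card (n := k) (by rw [Nat.card_zpowers, hk])
    obtain ⟨Q, hQ⟩ := hp.exists_le_sylow
    have hxQ : x ∈ (Q : Subgroup G) := hQ (Subgroup.mem_zpowers x)
    obtain ⟨g, rfl⟩ := MulAction.exists_smul_eq G P Q
    have hQP : ∀ z ∈ ((g • P : Sylow 2 G) : Subgroup G), g⁻¹ * z * g ∈ (P : Subgroup G) := by
      rintro _ ⟨w, hw, rfl⟩
      show g⁻¹ * (g * w * g⁻¹) * g ∈ _
      simp only [mul_assoc, inv_mul_cancel, mul_one, inv_mul_cancel_left]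
      exact hw
    refine ⟨⟨g • P, fun z hz => Subgroup.mem_centralizer_singleton_iff.2 ?_⟩, ?_⟩
    · have := congrArg (fun w => g * w * g⁻¹)
        (congrArg Subtype.val (hc.is_comm.comm ⟨_, hQP z hz⟩ ⟨_, hQP x hxQ⟩))
      simpa [mul_assoc] using this
    · have h1 := hsq _ (hQP x hxQ)
      have h2 : x * x = 1 := by
        have := congrArg (fun w => g * w * g⁻¹) h1
        simpa [sq, mul_assoc] using this
      rw [inv_eq_of_mul_eq_one_left h2]
  · intro h
    have hsq : ∀ x ∈ (P : Subgroup G), x ^ 2 = 1 := by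
      intro x hx
      obtain ⟨k, hk⟩ := (IsPGroup.iff_orderOf.1 P.isPGroup') ⟨x, hx⟩
      obtain ⟨⟨Q, hQ⟩, hinv⟩ := h x ⟨k, by rw [← hk]; exact (Subgroup.orderOf_mk x hx).symm⟩
      obtain ⟨c, hc⟩ := isConj_iff.1 hinv
      set C := Subgroup.centralizer ({x} : Set G) with hC
      have hodd : ¬ 2 ∣ C.index := fun hd => Q.not_dvd_index (hd.trans (Subgroup.index_dvd_of_le hQ))
      have hc1 : c⁻¹ * x * c = x⁻¹ := by
        have := congrArg (fun z => c⁻¹ * z⁻¹ * c) hc
        simpa [mul_assoc] using this.symm
      have hconj : ∀ z ∈ C, c⁻¹ * z * c ∈ C := by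
        intro z hz
        rw [hC, Subgroup.mem_centralizer_singleton_iff] at hz ⊢
        apply inv_injective
        have e : x⁻¹ * (c⁻¹ * z * c) = c⁻¹ * z * c * x⁻¹ := by
          rw [← hc1]
          calc c⁻¹ * x * c * (c⁻¹ * z * c) = c⁻¹ * (x * z) * c := by group
            _ = c⁻¹ * (z * x) * c := by rw [hz]
            _ = c⁻¹ * z * c * (c⁻¹ * x * c) := by group
        have e' := congrArg (fun w => x * w * x) e
        simp only [mul_assoc, inv_mul_cancel, mul_one, mul_inv_cancel_left] at e'
        simp only [mul_assoc]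
        exact congrArg (·⁻¹) (by first | exact e' | exact e'.symm)
      have hcc : c * c ∈ C := by
        rw [hC, Subgroup.mem_centralizer_singleton_iff]
        have : c * c * x * (c * c)⁻¹ = x := by
          calc c * c * x * (c * c)⁻¹ = c * (c * x * c⁻¹) * c⁻¹ := by group
            _ = (c * x * c⁻¹)⁻¹ := by
              nth_rewrite 1 [hc]
              group
            _ = x := by rw [hc, inv_inv]
        exact mul_inv_eq_iff_eq_mul.1 this
      let f : G ⧸ C → G ⧸ C := Quotient.map' (fun a => a * c) fun a b hab => by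
        rw [QuotientGroup.leftRel_apply] at hab ⊢
        have := hconj _ hab
        simpa [mul_assoc] using this
      have hf : Function.Involutive f := by
        intro q
        induction q using QuotientGroup.induction_on with
        | H a =>
          refine QuotientGroup.eq.2 ?_
          have := inv_mem hcc
          simpa [mul_assoc] using this
      haveI := Fintype.ofFinite (G ⧸ C)
      obtain ⟨q, hq⟩ := Equiv.Perm.exists_fixed_point_of_prime (p := 2) (n := 1)
        (σ := hf.toPerm f) (by rwa [← Nat.card_eq_fintype_card]) (Equiv.ext fun q => by simp [sq, hf q])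
      induction q using QuotientGroup.induction_on with
      | H a =>
        have hca : c ∈ C := by
          have := QuotientGroup.eq.1 (show ((a * c : G) : G ⧸ C) = (a : G ⧸ C) from hq)
          simpa [mul_assoc] using this
        rw [hC, Subgroup.mem_centralizer_singleton_iff] at hca
        rw [hca, mul_inv_cancel_right] at hc
        rw [sq]
        nth_rewrite 1 [hc]
        exact inv_mul_cancel x
    refine ⟨⟨⟨fun a b => Subtype.ext ?_⟩⟩, hsq⟩
    have ha := hsq _ a.2
    have hb := hsq _ b.2
    have hab := hsq _ (mul_mem a.2 b.2)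
    rw [sq] at ha hb hab
    rw [Subgroup.coe_mul, Subgroup.coe_mul]
    calc (a : G) * b = ((a : G) * b)⁻¹ := (inv_eq_of_mul_eq_one_left hab).symm
      _ = (b : G)⁻¹ * (a : G)⁻¹ := mul_inv_rev _ _
      _ = b * a := by rw [inv_eq_of_mul_eq_one_left ha, inv_eq_of_mul_eq_one_left hb]

end Cfsg.Agent.S4196
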