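import Cfsg.Statements.S4203
import Cfsg.Agent.Lib.Char.Burnside
import Cfsg.Agent.Lib.Solvable.Core

set_option autoImplicit false
open Cfsg

namespace Cfsg.Agent.S4203

/-- A finite group in which every maximal subgroup has index a prime or the square of a prime is solvable. -/
theorem result {G : Type*} [Group G] [Finite G] (h : ∀ M : Subgroup G, IsCoatom M → ∃ p : ℕ, p.Prime ∧ (M.index = p ∨ M.index = p ^ 2)) : Group.IsSolvable G := by
  suffices key : ∀ (n : ℕ) (G : Type _) [Group G] [Finite G], Nat.card G = n →
      (∀ M : Subgroup G, IsCoatom M → ∃ p : ℕ, p.Prime ∧ (M.index = p ∨ M.index = p ^ 2)) →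
      Group.IsSolvable G from key _ G rfl h
  intro n
  induction n using Nat.strong_induction_on with
  | _ n ih =>
    intro G _ _ hn h
    rcases subsingleton_or_nontrivial G with hs | hs
    · infer_instance
    obtain ⟨N, hNn, hN, -, hmin⟩ := CfsgLib.Solvable.exists_minimal_normal_le (⊤ : Subgroup G) top_ne_bot
    have hquot : Group.IsSolvable (G ⧸ N) := by
      have hlt : Nat.card (G ⧸ N) < n := by
        rw [← hn, N.card_eq_card_quotient_mul_card_subgroup]
        exact lt_mul_of_one_lt_right Nat.card_pos ((Subgroup.one_lt_card_iff_ne_bot N).2 hN)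
      refine ih _ hlt _ rfl fun M hM => ?_
      obtain ⟨p, hp, hp'⟩ := h (M.comap (QuotientGroup.mk' N)) (Subgroup.isCoatom_comap_of_surjective (QuotientGroup.mk'_surjective N) hM)
      rw [Subgroup.index_comap_of_surjective M (QuotientGroup.mk'_surjective N)] at hp'
      exact ⟨p, hp, hp'⟩
    suffices hNs : Group.IsSolvable N from
      Group.isSolvable_of_ker_le_range N.subtype (QuotientGroup.mk' N) (by simp)
    have hN1 : Nat.card N ≠ 1 := fun h1 => hN (Subgroup.card_eq_one.1 h1)
    -- the largest prime of `N`
    obtain ⟨p, hpmem, hpmax⟩ := (Nat.card N).primeFactors.exists_max_image id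
      (Nat.nonempty_primeFactors.2 (by have := Nat.card_pos (α := N); omega))
    have hp : p.Prime := Nat.prime_of_mem_primeFactors hpmem
    have hpN : p ∣ Nat.card N := Nat.dvd_of_mem_primeFactors hpmem
    haveI : Fact p.Prime := ⟨hp⟩
    obtain ⟨P⟩ : Nonempty (Sylow p N) := inferInstance
    set Q : Subgroup G := (P : Subgroup N).map N.subtype with hQ
    by_cases hn' : Subgroup.normalizer (Q : Set G) = ⊤
    · have hQn : Q.Normal := Subgroup.normalizer_eq_top_iff.1 hn'
      have hQb : Q ≠ ⊥ := by
        rw [hQ, Ne, Subgroup.map_eq_bot_iff_of_injective _ N.subtype_injective]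
        exact P.ne_bot_of_dvd_card hpN
      have hQN : Q = N := (hmin Q hQn (Subgroup.map_subtype_le _)).resolve_left hQb
      have hPtop : (P : Subgroup N) = ⊤ := by
        apply Subgroup.map_injective N.subtype_injective
        rw [← hQ, hQN, ← MonoidHom.range_eq_map, Subgroup.range_subtype]
      have hNp : IsPGroup p N := fun x => by
        obtain ⟨k, hk⟩ := P.isPGroup' ⟨x, hPtop ▸ Subgroup.mem_top x⟩
        exact ⟨k, congrArg Subtype.val hk⟩
      have := hNp.isNilpotent
      infer_instance
    obtain ⟨M, hM, hNM⟩ := (eq_top_or_exists_le_coatom (Subgroup.normalizer (Q : Set G))).resolve_left hn'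
    have hsup : M ⊔ N = ⊤ := by
      rw [eq_top_iff, ← Sylow.normalizer_sup_eq_top P]
      exact sup_le_sup_right hNM N
    have hind : M.index = (M.subgroupOf N).index := by
      have e := Subgroup.relIndex_sup_right (H := M) (K := N)
      rw [hsup, Subgroup.relIndex_top_right] at e
      have h1 := M.card_mul_index
      have h2 := N.card_mul_index
      have h3 := (N.subgroupOf M).card_mul_index
      have h4 := (M.subgroupOf N).card_mul_index
      have h5 : Nat.card (N.subgroupOf M) = Nat.card (M.subgroupOf N) := by
        rw [← Subgroup.inf_subgroupOf_right N M, ← Subgroup.inf_subgroupOf_right M N,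
          Nat.card_congr (Subgroup.subgroupOfEquivOfLe (inf_le_right : N ⊓ M ≤ M)).toEquiv,
          Nat.card_congr (Subgroup.subgroupOfEquivOfLe (inf_le_right : M ⊓ N ≤ N)).toEquiv, inf_comm]
      unfold Subgroup.relIndex at e
      rw [← e] at h3
      have hk : Nat.card (M.subgroupOf N) ≠ 0 := Nat.card_pos.ne'
      have : Nat.card (M.subgroupOf N) * N.index * M.index =
          Nat.card (M.subgroupOf N) * (M.subgroupOf N).index * N.index := by
        rw [← h5]
        nth_rewrite 2 [h5]
        rw [h3, h4, h1, h2]
      have hi : N.index ≠ 0 := Subgroup.index_ne_zero_of_finite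
      apply mul_left_cancel₀ (mul_ne_zero hk hi)
      rw [this]; ring
    set M₀ := M.subgroupOf N with hM₀
    have hPM : Subgroup.normalizer ((P : Subgroup N) : Set N) ≤ M₀ := by
      intro x hx
      refine hNM (Subgroup.mem_normalizer_iff_map_conj_eq.2 ?_)
      rw [hQ, Subgroup.map_map]
      have := Subgroup.mem_normalizer_iff_map_conj_eq.1 hx
      conv_rhs => rw [← this, Subgroup.map_map]
      rfl
    have hmod : M₀.index ≡ 1 [MOD p] := by
      have hPle : (P : Subgroup N) ≤ M₀ := Subgroup.le_normalizer.trans hPM
      have e1 := card_sylow_modEq_one p N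
      rw [P.card_eq_index_normalizer] at e1
      have e1' : (Subgroup.normalizer ((P : Subgroup N) : Set N)).index ≡ 1 [MOD p] := e1
      rw [← Subgroup.relIndex_mul_index hPM] at e1'
      have e2 := card_sylow_modEq_one p M₀
      rw [(P.subtype hPle).card_eq_index_normalizer] at e2
      have e2' : (Subgroup.normalizer (((P : Subgroup N).subgroupOf M₀ : Subgroup M₀) : Set M₀)).index ≡ 1 [MOD p] := e2
      rw [← Subgroup.subgroupOf_normalizer_eq hPle] at e2'
      have := (Nat.ModEq.mul_right M₀.index e2').symm.trans e1'
      rwa [one_mul] at this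
    obtain ⟨q, hq, hq'⟩ := h M hM
    rw [hind] at hq'
    have hqN : q ∣ Nat.card N := by
      refine dvd_trans ?_ (Subgroup.index_dvd_card M₀)
      rcases hq' with h1 | h1 <;> rw [h1]
      exact dvd_pow_self q two_ne_zero
    have hqp : q ≤ p := hpmax q (Nat.mem_primeFactors.2 ⟨hq, hqN, Nat.card_pos.ne'⟩)
    have hq2 := hq.two_le
    have hmod' : (p : ℤ) ∣ (M₀.index : ℤ) - 1 := Nat.modEq_iff_dvd.1 hmod.symm
    have hp3 : p = 3 := by
      rcases hq' with h1 | h1 <;> rw [h1] at hmod'
      · have h1' : p ∣ q - 1 := by
          rw [← Int.natCast_dvd_natCast]; push_cast [Nat.cast_sub (show 1 ≤ q by omega)]; exact hmod'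
        have := Nat.le_of_dvd (by omega) h1'
        omega
      · have h1' : p ∣ (q - 1) * (q + 1) := by
          rw [← Int.natCast_dvd_natCast]; push_cast [Nat.cast_sub (show 1 ≤ q by omega)]
          have e : ((q : ℤ) - 1) * (q + 1) = ((q ^ 2 : ℕ) : ℤ) - 1 := by push_cast; ring
          rw [e]; exact hmod'
        rcases hp.dvd_mul.1 h1' with h2 | h2
        · have := Nat.le_of_dvd (by omega) h2; omega
        · have hle := Nat.le_of_dvd (by omega) h2
          rcases Nat.lt_or_ge q p with hlt | hge
          · have hpq : p = q + 1 := by omega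
            rcases hq.eq_two_or_odd' with h3 | h3
            · omega
            · rcases hp.eq_two_or_odd' with h4 | h4
              · omega
              · obtain ⟨k, hk⟩ := h3; obtain ⟨l, hl⟩ := h4; omega
          · have hpq : p = q := by omega
            subst hpq
            have : p ∣ 1 := (Nat.dvd_add_right (dvd_refl p)).1 h2
            have := Nat.le_of_dvd one_pos this
            omega
    refine CfsgLib.Char.isSolvable_of_two_primes 2 3 Nat.prime_two Nat.prime_three _ N rfl fun r hr hrd => ?_
    have hr3 : r ≤ p := hpmax r (Nat.mem_primeFactors.2 ⟨hr, hrd, Nat.card_pos.ne'⟩)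
    have hr2 := hr.two_le
    omega

end Cfsg.Agent.S4203
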