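import Cfsg.Statements.S4204
import Cfsg.Agent.Lib.FGStruct.Commutators

set_option autoImplicit false
open Cfsg

namespace Cfsg.Agent.S4204

/-- If `H` and `K` are normal subgroups of a finite group with `H` nilpotent of class at most `c` and `K` nilpotent of class at most `d` (the terms with index `c`, respectively `d`, of their lower central series are trivial, indices starting at `0`), then `HK` is nilpotent of class at most `c + d`. -/
theorem result {G : Type*} [Group G] [Finite G] (H K : Subgroup G) [H.Normal] [K.Normal] (c d : ℕ) (hH : H.lowerCentralSeries c = ⊥) (hK : K.lowerCentralSeries d = ⊥) : (H ⊔ K).lowerCentralSeries (c + d) = ⊥ := by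
  let A : ℕ → Subgroup G := fun a => Nat.rec ⊤ (fun k _ => H.lowerCentralSeries k) a
  let B : ℕ → Subgroup G := fun a => Nat.rec ⊤ (fun k _ => K.lowerCentralSeries k) a
  have hAn : ∀ a, (A a).Normal := fun a => by cases a <;> dsimp [A] <;> infer_instance
  have hBn : ∀ a, (B a).Normal := fun a => by cases a <;> dsimp [B] <;> infer_instance
  have hAs : ∀ a, ⁅A a, H⁆ ≤ A (a + 1) := fun a => by
    cases a with
    | zero => exact Subgroup.commutator_le_right ⊤ H
    | succ k => exact le_rfl
  have hBs : ∀ a, ⁅B a, K⁆ ≤ B (a + 1) := fun a => by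
    cases a with
    | zero => exact Subgroup.commutator_le_right ⊤ K
    | succ k => exact le_rfl
  let T : ℕ → Subgroup G := fun n => ⨆ q : {q : ℕ × ℕ // q.1 + q.2 = n}, A q.1.1 ⊓ B q.1.2
  have hTn : ∀ n, (T n).Normal := fun n => by
    refine Subgroup.sSup_normal _ ?_
    rintro _ ⟨q, rfl⟩
    have := hAn q.1.1
    have := hBn q.1.2
    exact inferInstance
  have le_T : ∀ a b n, a + b = n → A a ⊓ B b ≤ T n := fun a b n h =>
    le_iSup (fun q : {q : ℕ × ℕ // q.1 + q.2 = n} => A q.1.1 ⊓ B q.1.2) ⟨(a, b), h⟩
  have key : ∀ n, (H ⊔ K).lowerCentralSeries n ≤ T (n + 1) := by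
    intro n
    induction n with
    | zero =>
      refine sup_le ?_ ?_
      · exact le_trans (le_inf le_rfl le_top) (le_T 1 0 _ rfl)
      · exact le_trans (le_inf le_top le_rfl) (le_T 0 1 _ rfl)
    | succ n ih =>
      rw [Subgroup.lowerCentralSeries_succ]
      refine (Subgroup.commutator_mono ih le_rfl).trans ?_
      have := hTn (n + 1 + 1)
      refine CfsgLib.FGStruct.commutator_iSup_left_le fun ⟨⟨a, b⟩, hab⟩ => ?_
      have := hAn a
      have := hBn b
      simp only at hab ⊢
      refine CfsgLib.FGStruct.commutator_sup_right_le ?_ ?_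
      · refine le_trans (le_inf ?_ ?_) (le_T (a + 1) b _ (by omega))
        · exact (Subgroup.commutator_mono inf_le_left le_rfl).trans (hAs a)
        · have hn : ⁅B b, H⁆ ≤ B b := @Subgroup.commutator_le_left G _ (B b) H (hBn b)
          exact (Subgroup.commutator_mono inf_le_right le_rfl).trans hn
      · refine le_trans (le_inf ?_ ?_) (le_T a (b + 1) _ (by omega))
        · have hn : ⁅A a, K⁆ ≤ A a := @Subgroup.commutator_le_left G _ (A a) K (hAn a)
          exact (Subgroup.commutator_mono inf_le_left le_rfl).trans hn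
        · exact (Subgroup.commutator_mono inf_le_right le_rfl).trans (hBs b)
  refine le_bot_iff.1 ((key _).trans (iSup_le fun ⟨⟨a, b⟩, hab⟩ => ?_))
  simp only at hab ⊢
  by_cases ha : c + 1 ≤ a
  · obtain ⟨k, rfl⟩ : ∃ k, a = k + 1 := ⟨a - 1, by omega⟩
    exact inf_le_left.trans ((Subgroup.lowerCentralSeries_antitone H (show c ≤ k by omega)).trans hH.le)
  · obtain ⟨k, rfl⟩ : ∃ k, b = k + 1 := ⟨b - 1, by omega⟩
    exact inf_le_right.trans ((Subgroup.lowerCentralSeries_antitone K (show d ≤ k by omega)).trans hK.le)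

end Cfsg.Agent.S4204
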