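import Cfsg.Statements.S4213
import Cfsg.Agent.Lib.Solvable.Core
import Cfsg.Agent.Lib.Counting.Frobenius

set_option autoImplicit false
open Cfsg

namespace Cfsg.Agent.S4213

/-- If `G` is a finite solvable group and `n` divides the order of `G` and exactly `n` elements `x` of `G` satisfy `x^n = 1`, then these elements form a normal subgroup. -/
theorem result {G : Type*} [Group G] [Finite G] [Group.IsSolvable G] (n : ℕ) (hn : n ∣ Nat.card G) (hcount : Nat.card {x : G // x ^ n = 1} = n) : ∃ H : Subgroup G, H.Normal ∧ (H : Set G) = {x : G | x ^ n = 1} := by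
  suffices key : ∀ (d : ℕ) (G : Type _) [Group G] [Finite G], Nat.card G = d → Group.IsSolvable G → ∀ n : ℕ,
      n ∣ Nat.card G → Nat.card {x : G // x ^ n = 1} = n →
      ∃ H : Subgroup G, H.Normal ∧ (H : Set G) = {x : G | x ^ n = 1} from key _ G rfl inferInstance n hn hcount
  intro d
  induction d using Nat.strong_induction_on with
  | _ d ih =>
    intro G _ _ hd _ n hn hcount
    have hnpos : 0 < n := Nat.pos_of_ne_zero (fun h => by
      subst h; exact absurd (zero_dvd_iff.1 hn) Nat.card_pos.ne')
    -- a subgroup of solutions of full order is all of them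
    have finish : ∀ K : Subgroup G, Nat.card K = n → ∃ H : Subgroup G, H.Normal ∧ (H : Set G) = {x : G | x ^ n = 1} := by
      intro K hK
      obtain ⟨h1, h2⟩ := CfsgLib.Counting.eq_solutions_of_card K n hK hcount.le
      exact ⟨K, inferInstance, Set.ext h1⟩
    rcases subsingleton_or_nontrivial G with hs | hs
    · exact finish ⊤ (by
        rw [Subgroup.card_top, Nat.card_unique]
        exact (Nat.eq_one_of_dvd_one (by rwa [Nat.card_unique] at hn)).symm)
    obtain ⟨N, hNn, hN, -, hmin⟩ := CfsgLib.Solvable.exists_minimal_normal_le (⊤ : Subgroup G) top_ne_bot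
    obtain ⟨hNc, p, hp, hNp⟩ := CfsgLib.Solvable.minimal_normal_elementary_abelian N hN hmin
    haveI : Fact p.Prime := ⟨hp⟩
    obtain ⟨k, hk⟩ := IsPGroup.iff_card.1 (show IsPGroup p N from fun x =>
      ⟨1, Subtype.ext (by simpa using hNp x x.2)⟩)
    have hk0 : k ≠ 0 := fun h => hN (Subgroup.card_eq_one.1 (by rw [hk, h, pow_zero]))
    have hGN : Nat.card G = Nat.card (G ⧸ N) * p ^ k := by
      rw [N.card_eq_card_quotient_mul_card_subgroup, hk]
    have hQpos : 0 < Nat.card (G ⧸ N) := Nat.card_pos
    have hlt : Nat.card (G ⧸ N) < d := by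
      rw [← hd, hGN]
      exact lt_mul_of_one_lt_right hQpos (Nat.one_lt_pow hk0 hp.one_lt)
    let π := QuotientGroup.mk' N
    by_cases hpn : p ∣ n
    · obtain ⟨i, m, hm, hnm⟩ := Nat.exists_eq_pow_mul_and_not_dvd hnpos.ne' p hp.ne_one
      subst hnm
      have hi : i ≠ 0 := fun h => hm (by simpa [h] using hpn)
      -- the preimage of the roots of unity in the quotient
      have pre : ∀ j : ℕ, j + 1 ≤ i → ∀ x : G, (π x) ^ (p ^ j * m) = 1 → x ^ (p ^ i * m) = 1 := by
        intro j hj x hx
        have hxN : x ^ (p ^ j * m) ∈ N := by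
          rw [← QuotientGroup.eq_one_iff]; simpa [π] using hx
        have := hNp _ hxN
        obtain ⟨e, he⟩ := pow_dvd_pow p hj
        rw [← pow_mul, mul_right_comm, ← pow_succ] at this
        rw [he, mul_assoc, mul_comm e, ← mul_assoc, pow_mul, this, one_pow]
      have hcardpre : ∀ P : G ⧸ N → Prop, Nat.card {x : G // P (π x)} = Nat.card {q : G ⧸ N // P q} * p ^ k := by
        intro P
        calc Nat.card {x : G // P (π x)}
            = Nat.card (QuotientGroup.mk ⁻¹' {q : G ⧸ N | P q} : Set G) := rfl
          _ = Nat.card {q : G ⧸ N // P q} * p ^ k := by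
            rw [Nat.card_congr (QuotientGroup.preimageMkEquivSubgroupProdSet N _), Nat.card_prod, hk, mul_comm]
            rfl
      rcases Nat.lt_or_ge i k with hik | hki
      · exfalso
        have hcop : Nat.Coprime m (p ^ k) := Nat.Coprime.pow_right _ (hp.coprime_iff_not_dvd.2 hm).symm
        have hmQ : m ∣ Nat.card (G ⧸ N) := by
          have : m ∣ Nat.card (G ⧸ N) * p ^ k := hGN ▸ (dvd_mul_left m _).trans hn
          exact hcop.dvd_of_dvd_mul_right this
        have hfrob := CfsgLib.Counting.frobenius_dvd (G := G ⧸ N) m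
        rw [Nat.gcd_eq_left hmQ] at hfrob
        have hpos : 0 < Nat.card {q : G ⧸ N // q ^ m = 1} := Nat.card_pos_iff.2 ⟨⟨⟨1, one_pow _⟩⟩, inferInstance⟩
        have hle : Nat.card {x : G // (π x) ^ m = 1} ≤ p ^ i * m := by
          rw [← hcount]
          refine Nat.card_le_card_of_injective (fun x => ⟨x.1, pre 0 (by omega) x.1 (by simpa using x.2)⟩) ?_
          intro a b h; exact Subtype.ext (congrArg (fun z => z.1) h)
        rw [hcardpre (fun q => q ^ m = 1)] at hle
        have h1 := Nat.mul_le_mul_right (p ^ k) (Nat.le_of_dvd hpos hfrob)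
        have hmpos : 0 < m := Nat.pos_of_ne_zero fun h => hm (h ▸ dvd_zero p)
        have h2 : p ^ i * m < m * p ^ k := by
          rw [mul_comm m]; exact Nat.mul_lt_mul_of_pos_right (Nat.pow_lt_pow_right hp.one_lt hik) hmpos
        omega
      · set n' := p ^ (i - k) * m with hn'
        have hnn : p ^ i * m = n' * p ^ k := by
          rw [hn', mul_right_comm, ← pow_add, Nat.sub_add_cancel hki]
        have hn'Q : n' ∣ Nat.card (G ⧸ N) := by
          have : n' * p ^ k ∣ Nat.card (G ⧸ N) * p ^ k := hGN ▸ hnn ▸ hn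
          exact Nat.dvd_of_mul_dvd_mul_right (pow_pos hp.pos k) this
        have hfrob := CfsgLib.Counting.frobenius_dvd (G := G ⧸ N) n'
        rw [Nat.gcd_eq_left hn'Q] at hfrob
        have hpos : 0 < Nat.card {q : G ⧸ N // q ^ n' = 1} := Nat.card_pos_iff.2 ⟨⟨⟨1, one_pow _⟩⟩, inferInstance⟩
        have hle : Nat.card {x : G // (π x) ^ n' = 1} ≤ p ^ i * m := by
          rw [← hcount]
          refine Nat.card_le_card_of_injective
            (fun x => ⟨x.1, pre (i - k) (by omega) x.1 x.2⟩) ?_
          intro a b h; exact Subtype.ext (congrArg (fun z => z.1) h)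
        rw [hcardpre (fun q => q ^ n' = 1), hnn] at hle
        have heq : Nat.card {q : G ⧸ N // q ^ n' = 1} = n' :=
          le_antisymm (Nat.le_of_mul_le_mul_right hle (pow_pos hp.pos k)) (Nat.le_of_dvd hpos hfrob)
        obtain ⟨H, hHn, hH⟩ := ih _ hlt (G ⧸ N) rfl inferInstance n' hn'Q heq
        refine finish (H.comap π) ?_
        have e : Nat.card H = n' := by
          rw [← heq]
          exact Nat.card_congr (Equiv.subtypeEquivRight fun q => Set.ext_iff.1 hH q)
        calc Nat.card (H.comap π) = Nat.card {q : G ⧸ N // q ∈ H} * p ^ k := hcardpre (fun q => q ∈ H)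
          _ = p ^ i * m := by
            rw [hnn]; exact congrArg (· * p ^ k) e
    · have hcop : Nat.Coprime (p ^ k) n := Nat.Coprime.pow_left _ (hp.coprime_iff_not_dvd.2 hpn)
      have hnQ : n ∣ Nat.card (G ⧸ N) := hcop.symm.dvd_of_dvd_mul_right (hGN ▸ hn)
      have hfrob := CfsgLib.Counting.frobenius_dvd (G := G ⧸ N) n
      rw [Nat.gcd_eq_left hnQ] at hfrob
      have hpos : 0 < Nat.card {q : G ⧸ N // q ^ n = 1} := Nat.card_pos_iff.2 ⟨⟨⟨1, one_pow _⟩⟩, inferInstance⟩
      -- each root in the quotient lifts to a root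
      obtain ⟨e, he1, he2⟩ := Nat.chineseRemainder hcop 0 1
      obtain ⟨c, hc⟩ := Nat.modEq_zero_iff_dvd.1 he1
      have lift : ∀ q : G ⧸ N, q ^ n = 1 → ∃ x : G, x ^ n = 1 ∧ π x = q := by
        intro q hq
        obtain ⟨x, rfl⟩ := QuotientGroup.mk'_surjective N q
        have hxN : x ^ n ∈ N := by rw [← QuotientGroup.eq_one_iff]; simpa using hq
        have h1 : (x ^ n) ^ p ^ k = 1 := by
          have := pow_card_eq_one' (G := N) (x := ⟨x ^ n, hxN⟩)
          rw [hk] at this
          exact congrArg Subtype.val this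
        refine ⟨x ^ e, ?_, ?_⟩
        · rw [hc, ← pow_mul, mul_comm, ← mul_assoc, pow_mul, pow_mul, h1, one_pow]
        · rw [map_pow]
          conv_rhs => rw [← pow_one (QuotientGroup.mk' N x)]
          exact pow_eq_pow_iff_modEq.2 (he2.of_dvd (orderOf_dvd_of_pow_eq_one hq))
      choose f hf1 hf2 using lift
      have hle : Nat.card {q : G ⧸ N // q ^ n = 1} ≤ n := by
        conv_rhs => rw [← hcount]
        refine Nat.card_le_card_of_injective (fun q => ⟨f q.1 q.2, hf1 q.1 q.2⟩) fun a b h => Subtype.ext ?_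
        rw [← hf2 a.1 a.2, ← hf2 b.1 b.2]
        exact congrArg π (congrArg (fun z => z.1) h)
      obtain ⟨H, hHn, hH⟩ := ih _ hlt (G ⧸ N) rfl inferInstance n hnQ (le_antisymm hle (Nat.le_of_dvd hpos hfrob))
      have hHcard : Nat.card H = n := by
        rw [← le_antisymm hle (Nat.le_of_dvd hpos hfrob)]
        exact Nat.card_congr (Equiv.subtypeEquivRight fun q => Set.ext_iff.1 hH q)
      set L := H.comap π with hL
      have hNL : N ≤ L := fun x hx => by
        rw [hL, Subgroup.mem_comap, show π x = 1 from (QuotientGroup.eq_one_iff x).2 hx]; exact one_mem H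
      have hLi : (N.subgroupOf L).index = n := by
        have hcardL : Nat.card L = p ^ k * n := by
          calc Nat.card L = Nat.card (QuotientGroup.mk ⁻¹' (H : Set (G ⧸ N)) : Set G) := rfl
            _ = p ^ k * n := by
              rw [Nat.card_congr (QuotientGroup.preimageMkEquivSubgroupProdSet N _), Nat.card_prod, hk]
              exact congrArg (p ^ k * ·) hHcard
        have h1 := (N.subgroupOf L).card_mul_index
        rw [Nat.card_congr (Subgroup.subgroupOfEquivOfLe hNL).toEquiv, hk, hcardL] at h1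
        exact Nat.eq_of_mul_eq_mul_left (pow_pos hp.pos k) h1
      obtain ⟨K, hK⟩ := Subgroup.exists_right_complement'_of_coprime (N := N.subgroupOf L) (by
        rw [hLi, Nat.card_congr (Subgroup.subgroupOfEquivOfLe hNL).toEquiv, hk]
        exact hcop)
      refine finish (K.map L.subtype) ?_
      rw [Subgroup.card_map_of_injective L.subtype_injective, ← hK.symm.index_eq_card, hLi]

end Cfsg.Agent.S4213
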