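import Cfsg.Statements.S4219

set_option autoImplicit false
open Cfsg

namespace Cfsg.Agent.S4219

/-- Let a finite group `G` act `t`-fold transitively on a finite set, let `H` be the stabilizer of `t` distinct points and `P` a Sylow `p`-subgroup of `H`. Then the normalizer of `P` in `G` is `t`-fold transitive on the fixed points of `P`: any `t` distinct fixed points of `P` can be carried to any other `t` distinct fixed points of `P` by an element normalizing `P`. -/
theorem result {G : Type*} [Group G] [Finite G] {α : Type*} [Fintype α] [MulAction G α] {t : ℕ} (hG : MulAction.IsMultiplyPretransitive G α t) (x : Fin t ↪ α) {p : ℕ} [Fact p.Prime] (P : Sylow p (MulAction.stabilizer G x)) (a b : Fin t ↪ α) (ha : ∀ i, a i ∈ MulAction.fixedPoints ((P : Subgroup (MulAction.stabilizer G x)).map (MulAction.stabilizer G x).subtype) α) (hb : ∀ i, b i ∈ MulAction.fixedPoints ((P : Subgroup (MulAction.stabilizer G x)).map (MulAction.stabilizer G x).subtype) α) : ∃ g ∈ Subgroup.normalizer ((((P : Subgroup (MulAction.stabilizer G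 x)).map (MulAction.stabilizer G x).subtype) : Subgroup G) : Set G), g • a = b := by
  generalize hH : MulAction.stabilizer G x = H at P ha hb ⊢
  generalize hQ : (P : Subgroup H).map H.subtype = Q at ha hb ⊢
  obtain ⟨ga, hga⟩ := hG.exists_smul_eq x a
  obtain ⟨gb, hgb⟩ := hG.exists_smul_eq x b
  have key : ∀ (g : G) (c : Fin t ↪ α), g • x = c → (∀ i, c i ∈ MulAction.fixedPoints Q α) →
      ∃ n ∈ Subgroup.normalizer (Q : Set G), n • x = c := by
    intro g c hgc hc
    have hle : Q.map (MulAut.conj g⁻¹).toMonoidHom ≤ H := by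
      rintro _ ⟨q, hq, rfl⟩
      have hqc : q • c = c := by
        ext i
        exact hc i ⟨q, hq⟩
      show g⁻¹ * q * (g⁻¹)⁻¹ ∈ H
      rw [← hH, MulAction.mem_stabilizer_iff, inv_inv, mul_smul, mul_smul, hgc, hqc, ← hgc, inv_smul_smul]
    let Q' : Subgroup H := (Q.map (MulAut.conj g⁻¹).toMonoidHom).subgroupOf H
    have hcard : Nat.card Q' = Nat.card (P : Subgroup H) := by
      rw [Nat.card_congr (Subgroup.subgroupOfEquivOfLe hle).toEquiv,
        Subgroup.card_map_of_injective (MulEquiv.injective _), ← hQ,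
        Subgroup.card_map_of_injective H.subtype_injective]
    let P' : Sylow p H := Sylow.ofCard Q' (by rw [hcard, Sylow.card_eq_multiplicity P])
    obtain ⟨h, hh⟩ := MulAction.exists_smul_eq H P' P
    have hh' : Q'.map (MulAut.conj h).toMonoidHom = (P : Subgroup H) := by
      rw [← hh]; rfl
    refine ⟨g * (h : G)⁻¹, ?_, by rw [mul_smul, show (h : G)⁻¹ • x = x from MulAction.mem_stabilizer_iff.1 (by rw [hH]; exact inv_mem h.2), hgc]⟩
    apply inv_mem_iff.1
    rw [Subgroup.mem_normalizer_iff_map_conj_eq, mul_inv_rev, inv_inv, map_mul]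
    show Q.map (((MulAut.conj (h : G)).toMonoidHom).comp (MulAut.conj g⁻¹).toMonoidHom) = Q
    rw [← Subgroup.map_map, ← Subgroup.map_subgroupOf_eq_of_le hle, Subgroup.map_map,
      show (MulAut.conj (h : G)).toMonoidHom.comp H.subtype = H.subtype.comp (MulAut.conj h).toMonoidHom from
        MonoidHom.ext fun _ => rfl, ← Subgroup.map_map, hh', hQ]
  obtain ⟨na, hna, hna'⟩ := key ga a hga ha
  obtain ⟨nb, hnb, hnb'⟩ := key gb b hgb hb
  exact ⟨nb * na⁻¹, mul_mem hnb (inv_mem hna), by rw [mul_smul, ← hna', inv_smul_smul, hnb']⟩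

end Cfsg.Agent.S4219
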