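import Cfsg.Statements.S4230

set_option autoImplicit false
open Cfsg

namespace Cfsg.Agent.S4230

/-- Let p be an odd prime, q a natural number not divisible by p, and e the multiplicative order of q modulo p. For a natural number f, p divides the value at q of the f-th cyclotomic polynomial if and only if f = e·p^j for some j ≥ 0. -/
theorem result (p q f : ℕ) (hp : p.Prime) (hp2 : p ≠ 2) (hpq : ¬ p ∣ q) :
    ((p : ℤ) ∣ (Polynomial.cyclotomic f ℤ).eval (q : ℤ)) ↔ ∃ j : ℕ, f = orderOf (q : ZMod p) * p ^ j := by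
  haveI : Fact p.Prime := ⟨hp⟩
  set x : ZMod p := (q : ZMod p) with hx
  have hx0 : x ≠ 0 := by rw [hx, Ne, ZMod.natCast_eq_zero_iff]; exact hpq
  have hcast : ((p : ℤ) ∣ (Polynomial.cyclotomic f ℤ).eval (q : ℤ)) ↔ (Polynomial.cyclotomic f (ZMod p)).IsRoot x := by
    rw [← ZMod.intCast_zmod_eq_zero_iff_dvd, Polynomial.IsRoot.def, ← Polynomial.map_cyclotomic_int f (ZMod p),
      hx, ← map_natCast (Int.castRingHom (ZMod p)) q, Polynomial.eval_map, Polynomial.eval₂_hom]
    simp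
  rw [hcast]
  set e := orderOf x with he
  have hedvd : e ∣ p - 1 := by
    rw [he]; exact orderOf_dvd_of_pow_eq_one (ZMod.pow_card_sub_one_eq_one hx0)
  have hpe : ¬ p ∣ e := fun hd => by
    have h2 := hp.two_le
    have := Nat.le_of_dvd (by omega) (hd.trans hedvd)
    omega
  have hepos : 0 < e := Nat.pos_of_ne_zero fun h0 => by
    rw [h0] at hpe; exact hpe (dvd_zero p)
  rcases Nat.eq_zero_or_pos f with rfl | hf
  · constructor
    · intro h; simp [Polynomial.cyclotomic_zero] at h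
    · rintro ⟨j, hj⟩
      exact absurd hj.symm (Nat.mul_ne_zero hepos.ne' (pow_ne_zero j hp.ne_zero))
  obtain ⟨k, m, hm, rfl⟩ := Nat.exists_eq_pow_mul_and_not_dvd hf.ne' p hp.ne_one
  haveI : NeZero (m : ZMod p) := ⟨by rwa [Ne, ZMod.natCast_eq_zero_iff]⟩
  rw [Polynomial.isRoot_cyclotomic_prime_pow_mul_iff_of_charP (R := ZMod p)]
  constructor
  · intro h
    exact ⟨k, by rw [he, ← h.eq_orderOf, mul_comm]⟩
  · rintro ⟨j, hj⟩
    have hme : m = e := by
      have hc1 : Nat.Coprime m (p ^ j) := Nat.Coprime.pow_right _ (hp.coprime_iff_not_dvd.2 hm).symm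
      have hc2 : Nat.Coprime e (p ^ k) := Nat.Coprime.pow_right _ (hp.coprime_iff_not_dvd.2 hpe).symm
      exact Nat.dvd_antisymm (hc1.dvd_of_dvd_mul_right ⟨p ^ k, by rw [← hj, mul_comm]⟩)
        (hc2.dvd_of_dvd_mul_left ⟨p ^ j, hj⟩)
    rw [hme, he]
    exact IsPrimitiveRoot.orderOf x

end Cfsg.Agent.S4230
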