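import Cfsg.Statements.S4231
import Cfsg.Agent.Lib.FGStruct.AltOddAut

set_option autoImplicit false
open Cfsg

namespace Cfsg.Agent.S4231

/-- Let n ≥ 5 and let G be a group of automorphisms of the alternating group of degree n containing all inner automorphisms. If p ≠ q are primes and G has no element of order pq, then every Sylow p-subgroup of G is abelian or every Sylow q-subgroup of G is abelian. -/
theorem result (n : ℕ) (hn : 5 ≤ n) (G : Subgroup (MulAut (alternatingGroup (Fin n))))
    (hG : (MulAut.conj : alternatingGroup (Fin n) →* MulAut (alternatingGroup (Fin n))).range ≤ G)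
    (p q : ℕ) [Fact p.Prime] [Fact q.Prime] (hpq : p ≠ q) (h : ∀ g : G, orderOf g ≠ p * q) :
    (∀ P : Sylow p G, IsMulCommutative (P : Subgroup G)) ∨ (∀ Q : Sylow q G, IsMulCommutative (Q : Subgroup G)) := by
  have hinj : Function.Injective (MulAut.conjNormal : Equiv.Perm (Fin n) →* MulAut (alternatingGroup (Fin n))) :=
    CfsgLib.AltAut.conjNormal_injective (by rw [Fintype.card_fin]; omega)
  -- Sylow subgroups for an odd prime `r` with `n < r ^ 2`
  have abelian : ∀ r : ℕ, r.Prime → r ≠ 2 → n < r ^ 2 → ∀ P : Sylow r G, IsMulCommutative (P : Subgroup G) := by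
    intro r hr hr2 hnr P
    haveI : Fact r.Prime := ⟨hr⟩
    let ι : (P : Subgroup G) →* MulAut (alternatingGroup (Fin n)) := G.subtype.comp (P : Subgroup G).subtype
    let H : Subgroup (Equiv.Perm (Fin n)) := ι.range.comap MulAut.conjNormal
    have hH : IsPGroup r H := by
      refine IsPGroup.comap_of_injective ?_ _ hinj
      exact P.isPGroup'.of_surjective ι.rangeRestrict ι.rangeRestrict_surjective
    refine ⟨⟨fun a b => Subtype.ext (Subtype.ext ?_)⟩⟩
    have hlift : ∀ c : (P : Subgroup G), ∃ σ : Equiv.Perm (Fin n), σ ∈ H ∧ MulAut.conjNormal σ = ι c := by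
      intro c
      obtain ⟨k, hk⟩ := IsPGroup.iff_orderOf.1 P.isPGroup' c
      have hodd : Odd (orderOf (ι c)) := by
        rw [orderOf_injective ι (Subtype.val_injective.comp Subtype.val_injective) c, hk]
        exact (hr.odd_of_ne_two hr2).pow
      obtain ⟨σ, hσ⟩ := CfsgLib.FGStruct.exists_conjNormal_eq_of_odd (by omega) (ι c) hodd
      exact ⟨σ, ⟨c, hσ.symm⟩, hσ⟩
    obtain ⟨x, hx, hx'⟩ := hlift a
    obtain ⟨y, hy, hy'⟩ := hlift b
    show ι a * ι b = ι b * ι a
    rw [← hx', ← hy', ← map_mul, ← map_mul,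
      CfsgLib.FGStruct.commute_of_isPGroup_of_card_lt_sq H hH (by rwa [Fintype.card_fin]) x y hx hy]
  -- an even permutation of order `p * q` gives a contradiction
  have noelt : ∀ σ : Equiv.Perm (Fin n), σ ∈ alternatingGroup (Fin n) → orderOf σ ≠ p * q := by
    intro σ hσ ho
    have hmem : (MulAut.conjNormal σ : MulAut (alternatingGroup (Fin n))) ∈ G := by
      refine hG ⟨⟨σ, hσ⟩, ?_⟩
      exact MulEquiv.ext fun z => Subtype.ext (by simp)
    apply h ⟨_, hmem⟩
    rw [← Subgroup.orderOf_coe]
    exact (orderOf_injective _ hinj σ).trans ho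
  have main : ∀ a b : ℕ, a.Prime → b.Prime → a < b → a * b = p * q →
      ∀ P : Sylow b G, IsMulCommutative (P : Subgroup G) := by
    intro a b ha hb hab hpq'
    have hb2 : b ≠ 2 := by have := ha.two_le; omega
    refine abelian b hb hb2 ?_
    have h3 : 3 ≤ b := by have := hb.two_le; omega
    by_contra hbig
    push Not at hbig
    have hsq : 3 * b ≤ b ^ 2 := by rw [sq]; exact Nat.mul_le_mul_right b h3
    rcases ha.eq_two_or_odd' with rfl | hao
    · obtain ⟨σ, hσ⟩ := (Equiv.Perm.exists_with_cycleType_iff (α := Fin n) (m := {2, 2, b})).2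
        ⟨by rw [Fintype.card_fin]; simp; omega, by simp; omega⟩
      refine noelt σ ?_ ?_
      · rw [Equiv.Perm.mem_alternatingGroup, Equiv.Perm.sign_of_cycleType, hσ]
        obtain ⟨k, hk⟩ := hb.odd_of_ne_two hb2
        simp only [Multiset.insert_eq_cons, Multiset.sum_cons, Multiset.sum_singleton, Multiset.card_cons,
          Multiset.card_singleton]
        exact Even.neg_one_pow ⟨k + 4, by omega⟩
      · rw [← Equiv.Perm.lcm_cycleType, hσ, ← hpq']
        simp only [Multiset.insert_eq_cons, Multiset.lcm_cons, Multiset.lcm_singleton, normalize_eq]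
        show Nat.lcm 2 (Nat.lcm 2 b) = 2 * b
        rw [← Nat.lcm_assoc, Nat.lcm_self]
        exact Nat.Coprime.lcm_eq_mul ((Nat.coprime_primes Nat.prime_two hb).2 (Ne.symm hb2))
    · obtain ⟨σ, hσ⟩ := (Equiv.Perm.exists_with_cycleType_iff (α := Fin n) (m := {a, b})).2
        ⟨by rw [Fintype.card_fin]; simp; omega, by simp; exact ⟨ha.two_le, hb.two_le⟩⟩
      refine noelt σ ?_ ?_
      · rw [Equiv.Perm.mem_alternatingGroup, Equiv.Perm.sign_of_cycleType, hσ]
        obtain ⟨k, hk⟩ := hb.odd_of_ne_two hb2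
        obtain ⟨l, hl⟩ := hao
        simp only [Multiset.insert_eq_cons, Multiset.sum_cons, Multiset.sum_singleton, Multiset.card_cons,
          Multiset.card_singleton]
        exact Even.neg_one_pow ⟨k + l + 2, by omega⟩
      · rw [← Equiv.Perm.lcm_cycleType, hσ, ← hpq']
        simp only [Multiset.insert_eq_cons, Multiset.lcm_cons, Multiset.lcm_singleton, normalize_eq]
        show Nat.lcm a b = a * b
        exact Nat.Coprime.lcm_eq_mul ((Nat.coprime_primes ha hb).2 (by omega))
  rcases Nat.lt_or_gt_of_ne hpq with hlt | hgt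
  · exact Or.inr (main p q Fact.out Fact.out hlt rfl)
  · exact Or.inl (main q p Fact.out Fact.out hgt (mul_comm q p))

end Cfsg.Agent.S4231
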