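import Cfsg.Statements.S4244

set_option autoImplicit false
open Cfsg

namespace Cfsg.Agent.S4244

/-- Let H be a subnormal subgroup of a finite group G. Then for every subgroup K of G the index of H ∩ K in H divides the index of K in G. -/
theorem result {G : Type*} [Group G] [Finite G] (H : Subgroup G) (hH : H.IsSubnormal) (K : Subgroup G) :
    (H ⊓ K).relIndex H ∣ K.index := by
  induction hH with
  | top => simp [Subgroup.relIndex_top_right]
  | step H L hHL _ hN ih =>
    refine dvd_trans ?_ ih
    have hn : (H.subgroupOf L).Normal := hN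
    have e : (H ⊓ K).relIndex H = (L ⊓ K).relIndex H := by
      have : (L ⊓ K) ⊓ H = H ⊓ K := by rw [inf_comm L K, inf_assoc, inf_eq_right.2 hHL, inf_comm]
      rw [← Subgroup.inf_relIndex_right (L ⊓ K) H, this]
    rw [e]
    set A := L ⊓ K with hA
    have h1 : A.relIndex H = A.relIndex (A ⊔ H) := by
      have hAL : A ≤ L := inf_le_left
      have e1 : H.relIndex (A ⊔ H) = H.relIndex A := by
        rw [← Subgroup.relIndex_subgroupOf (sup_le hAL hHL), Subgroup.subgroupOf_sup hAL hHL,
          Subgroup.relIndex_sup_right, Subgroup.relIndex_subgroupOf hAL]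
      have a1 := Subgroup.relIndex_mul_relIndex ⊥ A (A ⊔ H) bot_le le_sup_left
      have a2 := Subgroup.relIndex_mul_relIndex ⊥ H (A ⊔ H) bot_le le_sup_right
      have a3 := Subgroup.relIndex_mul_relIndex ⊥ (A ⊓ H) A bot_le inf_le_left
      have a4 := Subgroup.relIndex_mul_relIndex ⊥ (A ⊓ H) H bot_le inf_le_right
      rw [Subgroup.inf_relIndex_left] at a3
      rw [Subgroup.inf_relIndex_right] at a4
      simp only [Subgroup.relIndex_bot_left] at a1 a2 a3 a4
      rw [e1, ← a1, ← a4] at a2
      have : 0 < Nat.card A := Nat.card_pos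
      apply Nat.eq_of_mul_eq_mul_left this
      rw [← a2, ← a3]
      ring
    rw [h1]
    exact Dvd.intro _ (Subgroup.relIndex_mul_relIndex _ _ _ le_sup_left (sup_le inf_le_left hHL))

end Cfsg.Agent.S4244
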