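import Cfsg.Statements.S4249
import Cfsg.Agent.Lib.Hughes.Kegel

set_option autoImplicit false
open Cfsg

namespace Cfsg.Agent.S4249

/-- Let G be a finite group and p a prime such that G is not a p-group, and suppose the Hughes subgroup H_p(G), generated by all elements g with g^p ≠ 1, is a proper subgroup. Then H_p(G) is nilpotent and has index p in G. -/
theorem result {G : Type*} [Group G] [Finite G] (p : ℕ) (hp : p.Prime) (hG : ¬ IsPGroup p G)
    (hH : Subgroup.closure {g : G | g ^ p ≠ 1} ≠ ⊤) :
    Group.IsNilpotent (Subgroup.closure {g : G | g ^ p ≠ 1}) ∧ (Subgroup.closure {g : G | g ^ p ≠ 1}).index = p := by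
  haveI := Fact.mk hp
  set H := Subgroup.closure {g : G | g ^ p ≠ 1} with hHdef
  have hout : ∀ x ∉ H, x ^ p = 1 := fun x hx =>
    by_contra fun h => hx (Subgroup.subset_closure h)
  haveI hn : H.Normal := ⟨fun x hx g => by
    have hle : H ≤ H.comap (MulAut.conj g).toMonoidHom :=
      (Subgroup.closure_le _).mpr fun y hy => Subgroup.subset_closure (show (g * y * g⁻¹) ^ p ≠ 1 by
        rw [conj_pow]; simpa using hy)
    exact hle hx⟩
  have hidx := CfsgLib.Hughes.index_eq_prime hG hH hout
  exact ⟨CfsgLib.Hughes.isNilpotent_of_splitting p _ H rfl hn hidx hout, hidx⟩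

end Cfsg.Agent.S4249
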