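import Cfsg.Statements.S4250
import Cfsg.Agent.Lib.FGStruct.TameFocal

set_option autoImplicit false
open Cfsg
open scoped commutatorElement

namespace Cfsg.Agent.S4250

/-- Let P be a Sylow p-subgroup of a finite group G. Call an intersection H = P ∩ Q with a Sylow p-subgroup Q tame when N_P(H) and N_Q(H) are Sylow p-subgroups of N_G(H). Then P ∩ G′ is generated by [P, N_G(P)] together with the commutator subgroups [P ∩ Q, ⟨x⟩] for all tame intersections P ∩ Q and all p-elements x of N_G(P ∩ Q). -/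
theorem result {G : Type*} [Group G] [Finite G] (p : ℕ) [Fact p.Prime] (P : Sylow p G) :
    (P : Subgroup G) ⊓ commutator G =
      ⁅(P : Subgroup G), Subgroup.normalizer ((P : Subgroup G) : Set G)⁆ ⊔
        ⨆ (Q : Sylow p G) (_ : (¬ p ∣ ((P : Subgroup G) ⊓ Subgroup.normalizer (((P : Subgroup G) ⊓ (Q : Subgroup G) : Subgroup G) : Set G)).relIndex (Subgroup.normalizer (((P : Subgroup G) ⊓ (Q : Subgroup G) : Subgroup G) : Set G)) ∧ ¬ p ∣ ((Q : Subgroup G) ⊓ Subgroup.normalizer (((P : Subgroup G) ⊓ (Q : Subgroup G) : Subgroup G) : Set G)).relIndex (Subgroup.normalizer (((P : Subgroup G) ⊓ (Q : Subgroup G) : Subgroup G) : Set G))))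
          (x : G) (_ : x ∈ Subgroup.normalizer (((P : Subgroup G) ⊓ (Q : Subgroup G) : Subgroup G) : Set G) ∧ ∃ k : ℕ, orderOf x = p ^ k),
          ⁅(P : Subgroup G) ⊓ (Q : Subgroup G), Subgroup.zpowers x⁆ := by
  refine le_antisymm ?_ ?_
  · refine CfsgLib.FGStruct.inf_commutator_le_of_tame P _ (fun x hx a ha => ?_) (fun Q ht x hx hk a ha => ?_)
    · refine (le_sup_left : ⁅(P : Subgroup G), Subgroup.normalizer ((P : Subgroup G) : Set G)⁆ ≤ _) ?_
      rw [show a⁻¹ * (x⁻¹ * a * x) = ⁅a⁻¹, x⁻¹⁆ by rw [commutatorElement_def]; group]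
      exact Subgroup.commutator_mem_commutator (inv_mem ha) (inv_mem hx)
    · refine (le_sup_right : _ ≤ ⁅(P : Subgroup G), Subgroup.normalizer ((P : Subgroup G) : Set G)⁆ ⊔ _) ?_
      refine SetLike.le_def.1 (le_iSup₂_of_le Q ⟨ht.1, ht.2⟩ ?_) (?_ : _ ∈ ⁅(P : Subgroup G) ⊓ (Q : Subgroup G), Subgroup.zpowers x⁆)
      · refine le_iSup₂_of_le x ⟨hx, hk⟩ ?_
        exact le_rfl
      rw [show a⁻¹ * (x⁻¹ * a * x) = ⁅a⁻¹, x⁻¹⁆ by rw [commutatorElement_def]; group]
      exact Subgroup.commutator_mem_commutator (inv_mem ha) (inv_mem (Subgroup.mem_zpowers x))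
  · refine sup_le (le_inf ?_ (Subgroup.commutator_mono le_top le_top)) (iSup₂_le fun Q _ => iSup₂_le fun x hx => ?_)
    · exact Subgroup.le_normalizer_iff_commutator_le_left.1 le_rfl
    · refine le_inf ?_ (Subgroup.commutator_mono le_top le_top)
      refine le_trans ?_ (inf_le_left : (P : Subgroup G) ⊓ (Q : Subgroup G) ≤ _)
      exact Subgroup.le_normalizer_iff_commutator_le_left.1 (Subgroup.zpowers_le.2 hx.1)

end Cfsg.Agent.S4250
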