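import Cfsg.Statements.S4251
import Cfsg.Agent.Lib.FGStruct.TameFocal

set_option autoImplicit false
open Cfsg

namespace Cfsg.Agent.S4251

/-- Let P be a Sylow p-subgroup of a finite group G. Call an intersection H = P ∩ Q with a Sylow p-subgroup Q tame when N_P(H) and N_Q(H) are Sylow p-subgroups of N_G(H). If N_G(H)/C_G(H) is a p-group for every nontrivial tame intersection H = P ∩ Q, then G has a normal p-complement. -/
theorem result {G : Type*} [Group G] [Finite G] (p : ℕ) [Fact p.Prime] (P : Sylow p G)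
    (h : ∀ Q : Sylow p G, (P : Subgroup G) ⊓ (Q : Subgroup G) ≠ ⊥ → (¬ p ∣ ((P : Subgroup G) ⊓ Subgroup.normalizer (((P : Subgroup G) ⊓ (Q : Subgroup G) : Subgroup G) : Set G)).relIndex (Subgroup.normalizer (((P : Subgroup G) ⊓ (Q : Subgroup G) : Subgroup G) : Set G)) ∧ ¬ p ∣ ((Q : Subgroup G) ⊓ Subgroup.normalizer (((P : Subgroup G) ⊓ (Q : Subgroup G) : Subgroup G) : Set G)).relIndex (Subgroup.normalizer (((P : Subgroup G) ⊓ (Q : Subgroup G) : Subgroup G) : Set G))) →
      IsPGroup p (Subgroup.normalizer (((P : Subgroup G) ⊓ (Q : Subgroup G) : Subgroup G) : Set G) ⧸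
        (Subgroup.centralizer (((P : Subgroup G) ⊓ (Q : Subgroup G) : Subgroup G) : Set G)).subgroupOf
          (Subgroup.normalizer (((P : Subgroup G) ⊓ (Q : Subgroup G) : Subgroup G) : Set G)))) :
    Cfsg.HasNormalPComplement p G := by
  have step : ∀ Q : Sylow p G, CfsgLib.AlperinGroup.Tame P Q →
      ∀ x ∈ Subgroup.normalizer ((((P : Subgroup G) ⊓ (Q : Subgroup G)) : Subgroup G) : Set G),
      ∃ u ∈ (P : Subgroup G), ∀ a ∈ (P : Subgroup G) ⊓ (Q : Subgroup G), x⁻¹ * a * x = u⁻¹ * a * u := by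
    intro Q ht x hx
    by_cases hbot : (P : Subgroup G) ⊓ (Q : Subgroup G) = ⊥
    · refine ⟨1, one_mem _, fun a ha => ?_⟩
      rw [hbot, Subgroup.mem_bot] at ha
      simp [ha]
    have hpg := h Q hbot ⟨ht.1, ht.2⟩
    set D := (P : Subgroup G) ⊓ (Q : Subgroup G) with hD
    set N := Subgroup.normalizer (D : Set G) with hN
    set C := (Subgroup.centralizer (D : Set G)).subgroupOf N with hC
    set T := ((P : Subgroup G) ⊓ N).subgroupOf N with hT
    have htop : C ⊔ T = ⊤ := by
      obtain ⟨k, hk⟩ : ∃ k, C.index = p ^ k := IsPGroup.iff_card.1 hpg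
      have h1 := Subgroup.index_dvd_of_le (le_sup_left : C ≤ C ⊔ T)
      have h2 := Subgroup.index_dvd_of_le (le_sup_right : T ≤ C ⊔ T)
      rw [hk] at h1
      obtain ⟨j, -, hj'⟩ := (Nat.dvd_prime_pow Fact.out).1 h1
      rcases Nat.eq_zero_or_pos j with rfl | hjpos
      · exact Subgroup.index_eq_one.1 hj'
      · rw [hj'] at h2
        exact absurd (dvd_trans (dvd_pow_self p hjpos.ne') h2) ht.1
    obtain ⟨c, hc, t, ht', hct⟩ : ∃ c ∈ C, ∃ t ∈ T, c * t = (⟨x, hx⟩ : N) := by
      have : (⟨x, hx⟩ : N) ∈ ((C ⊔ T : Subgroup N) : Set N) := htop ▸ Subgroup.mem_top _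
      rw [Subgroup.normal_mul C T] at this
      exact this
    refine ⟨t, (Subgroup.mem_subgroupOf.1 ht').1, fun a ha => ?_⟩
    have hxe : x = (c : G) * t := (congrArg Subtype.val hct).symm
    have hca : a * (c : G) = (c : G) * a := Subgroup.mem_centralizer_iff.1 (Subgroup.mem_subgroupOf.1 hc) a ha
    rw [hxe]
    calc ((c : G) * t)⁻¹ * a * ((c : G) * t) = (t : G)⁻¹ * ((c : G)⁻¹ * (a * c)) * t := by group
      _ = _ := by rw [hca, inv_mul_cancel_left]
  have hyp : CfsgLib.PNilpotent.PrimeToPCentralizes p G := by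
    refine CfsgLib.PNilpotent.primeToPCentralizes_of_sylow P fun Q hQ g hg hgo => ?_
    obtain ⟨u, hu, hu'⟩ := CfsgLib.FGStruct.exists_mem_sylow_of_chain P step
      (CfsgLib.AlperinGroup.alperin P (Q : Set G) g hQ (by
        rintro _ ⟨a, ha, rfl⟩
        have := (Subgroup.mem_normalizer_iff.1 (inv_mem hg) a).1 ha
        exact hQ (by simpa using this)))
    have hguQ : ∀ a ∈ Q, u⁻¹ * a * u ∈ Q := fun a ha => by
      rw [← hu' a ha]
      have := (Subgroup.mem_normalizer_iff.1 (inv_mem hg) a).1 ha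
      simpa using this
    have hiter : ∀ (n : ℕ) (a : G), a ∈ Q → (g ^ n)⁻¹ * a * g ^ n = (u ^ n)⁻¹ * a * u ^ n := by
      intro n
      induction n with
      | zero => simp
      | succ n ih =>
        intro a ha
        have hga : g⁻¹ * a * g ∈ Q := by rw [hu' a ha]; exact hguQ a ha
        have := ih _ hga
        rw [pow_succ', pow_succ']
        calc (g * g ^ n)⁻¹ * a * (g * g ^ n) = (g ^ n)⁻¹ * (g⁻¹ * a * g) * g ^ n := by group
          _ = (u ^ n)⁻¹ * (g⁻¹ * a * g) * u ^ n := this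
          _ = (u ^ n)⁻¹ * (u⁻¹ * a * u) * u ^ n := by rw [hu' a ha]
          _ = _ := by group
    obtain ⟨k, hk⟩ := (IsPGroup.iff_orderOf.1 P.isPGroup') ⟨u, hu⟩
    rw [Subgroup.orderOf_mk] at hk
    have hcop : Nat.Coprime (orderOf g) (p ^ k) := hgo.pow_right k
    -- a multiple of `p ^ k` which is `1` modulo the order of `g`
    obtain ⟨m, hm1, hm2⟩ := Nat.chineseRemainder hcop 1 0
    refine Subgroup.mem_centralizer_iff.2 fun a ha => ?_
    have hga := hiter m a ha
    rw [pow_eq_pow_iff_modEq.2 hm1, pow_one] at hga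
    rw [← hk] at hm2
    rw [pow_eq_pow_iff_modEq.2 hm2, pow_zero] at hga
    simp only [inv_one, one_mul, mul_one] at hga
    have := congrArg (fun z => g * z) hga
    simpa [mul_assoc] using this
  obtain ⟨N, hN, hNc⟩ := CfsgLib.PNilpotent.exists_normal_complement hyp P
  exact ⟨P, N, hN, hNc⟩

end Cfsg.Agent.S4251
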