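import Cfsg.Statements.S4252

set_option autoImplicit false
open Cfsg
open scoped Pointwise

namespace Cfsg.Agent.S4252

/-- Let a finite group G act on a finite set Ω with more than one point, transitively but not regularly, so that no non-identity element of G fixes two distinct points. Then the stabilizer H of any point is a Frobenius complement in G (nontrivial, proper, meeting its other conjugates trivially), and the Frobenius kernel of G with respect to H (the identity together with the elements lying in no conjugate of H) is exactly the set consisting of the identity and the elements fixing no point. -/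
theorem result {G Ω : Type*} [Group G] [Finite G] [Fintype Ω] [MulAction G Ω] (hΩ : 1 < Fintype.card Ω)
    (htrans : ∀ α β : Ω, ∃ g : G, g • α = β) (hnreg : ∃ g : G, g ≠ 1 ∧ ∃ α : Ω, g • α = α)
    (hfix : ∀ g : G, g ≠ 1 → ∀ α β : Ω, g • α = α → g • β = β → α = β) (α : Ω) :
    Cfsg.IsFrobeniusComplement (MulAction.stabilizer G α) ∧
      Cfsg.frobeniusKernel (MulAction.stabilizer G α) = {g : G | g = 1 ∨ ∀ ω : Ω, g • ω ≠ ω} := by
  obtain ⟨g₀, hg₀, β, hβ⟩ := hnreg
  have hst : ∀ (g : G) (ω : Ω), MulAut.conj g • MulAction.stabilizer G ω = MulAction.stabilizer G (g • ω) :=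
    fun g ω => (MulAction.stabilizer_smul_eq_stabilizer_map_conj g ω).symm
  obtain ⟨k, hk⟩ := htrans β α
  refine ⟨⟨?_, ?_, ?_⟩, ?_⟩
  · intro h
    have : k * g₀ * k⁻¹ ∈ MulAction.stabilizer G α := by
      rw [MulAction.mem_stabilizer_iff, ← hk, mul_smul, mul_smul, inv_smul_smul, hβ]
    rw [h, Subgroup.mem_bot] at this
    exact hg₀ (by simpa using conj_eq_one_iff.1 this)
  · intro h
    obtain ⟨γ, hγ⟩ := Fintype.exists_ne_of_one_lt_card hΩ α
    obtain ⟨g, hg⟩ := htrans α γ
    have : g ∈ MulAction.stabilizer G α := h ▸ Subgroup.mem_top g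
    exact hγ (hg.symm.trans this)
  · intro g hg
    rw [hst, eq_bot_iff]
    rintro x ⟨hx1, hx2⟩
    by_contra hx
    exact hg (hfix x (fun h => hx (Subgroup.mem_bot.2 h)) α (g • α) hx1 hx2).symm
  · ext x
    simp only [Cfsg.frobeniusKernel, Set.mem_setOf_eq]
    refine or_congr_right ⟨fun h ω hω => ?_, fun h g => ?_⟩
    · obtain ⟨g, rfl⟩ := htrans α ω
      exact h g (by rw [hst]; exact hω)
    · rw [hst]; exact h (g • α)

end Cfsg.Agent.S4252
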