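import Mathlib

import Cfsg.Statements.S4253

set_option autoImplicit false
open Cfsg
open scoped Pointwise

namespace Cfsg.Agent.S4253

/-- Let H be a Frobenius complement in a finite group G (a nontrivial proper subgroup meeting each conjugate gHg⁻¹ with g outside H trivially). Then in the action of G on the left cosets of H by left multiplication, no non-identity element of G fixes two distinct cosets. -/
theorem result {G : Type*} [Group G] [Finite G] (H : Subgroup G) (hH : Cfsg.IsFrobeniusComplement H)
    (g : G) (hg : g ≠ 1) (a b : G ⧸ H) (ha : g • a = a) (hb : g • b = b) : a = b := by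
  obtain ⟨a', rfl⟩ := QuotientGroup.mk_surjective a
  obtain ⟨b', rfl⟩ := QuotientGroup.mk_surjective b
  rw [QuotientGroup.eq]
  by_contra hab
  have h1 : a'⁻¹ * g * a' ∈ H := by
    have := QuotientGroup.eq.1 ha.symm
    simpa [mul_assoc] using this
  have h2 : b'⁻¹ * g * b' ∈ H := by
    have := QuotientGroup.eq.1 hb.symm
    simpa [mul_assoc] using this
  have hbot := hH.2.2 (a'⁻¹ * b') hab
  have : a'⁻¹ * g * a' ∈ H ⊓ (MulAut.conj (a'⁻¹ * b') • H) := by
    refine Subgroup.mem_inf.2 ⟨h1, ?_⟩
    rw [Subgroup.mem_pointwise_smul_iff_inv_smul_mem]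
    simpa [mul_assoc] using h2
  rw [hbot, Subgroup.mem_bot] at this
  apply hg
  have e : g = a' * (a'⁻¹ * g * a') * a'⁻¹ := by group
  rw [e, this]; group

end Cfsg.Agent.S4253
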