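import Cfsg.Statements.S4255
import Cfsg.Agent.Lib.ClassSize.GraphSplit

set_option autoImplicit false
open Cfsg

namespace Cfsg.Agent.S4255

open CfsgLib.ClassSize.Three CfsgLib.ClassSize.GraphSplit
open scoped commutatorElement Pointwise

theorem frobenius_of_split {G : Type*} [Group G] [Finite G] (M H : Subgroup G) [M.Normal]
    (hZH : Subgroup.center G ≤ H) (hcommM : ∀ a ∈ M, ∀ b ∈ M, Commute a b)
    (hMH : ∀ a ∈ H, a ∈ M → a ∈ Subgroup.center G) (hcomm : ∀ a b : G, ⁅a, b⁆ ∈ M)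
    (hconj : ∀ g : G, g ∉ M → ∃ c : G, c * g * c⁻¹ ∈ H) (htop : M ⊔ H = ⊤)
    (ht : ∃ t : G, t ∉ M) (hx : ∃ x ∈ M, x ∉ Subgroup.center G) (hZM : Subgroup.center G ≤ M)
    (hfpf : ∀ h ∈ H, h ∉ Subgroup.center G → ∀ x ∈ M,
      (∃ c ∈ Subgroup.center G, h * x * h⁻¹ = c * x) → x ∈ Subgroup.center G) :
    ∃ K : Subgroup (G ⧸ Subgroup.center G), Cfsg.IsFrobeniusComplement K ∧ IsMulCommutative K ∧
      ∀ x ∈ Cfsg.frobeniusKernel K, ∀ y ∈ Cfsg.frobeniusKernel K, x * y = y * x := by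
  set π := QuotientGroup.mk' (Subgroup.center G)
  have hmem : ∀ g : G, π g ∈ H.map π ↔ g ∈ H := fun g => by
    constructor
    · rintro ⟨u, hu, hug⟩
      have h1 := H.mul_mem hu (hZH (QuotientGroup.eq.1 hug))
      rwa [mul_inv_cancel_left] at h1
    · exact Subgroup.mem_map_of_mem π
  have hconjmem : ∀ (c : G) (q : G ⧸ Subgroup.center G),
      q ∈ MulAut.conj (π c) • H.map π ↔ (π c)⁻¹ * q * π c ∈ H.map π := fun c q => by
    rw [Subgroup.mem_pointwise_smul_iff_inv_smul_mem]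
    simp
  refine ⟨H.map π, ⟨?_, ?_, ?_⟩, ?_, ?_⟩
  · obtain ⟨t, ht⟩ := ht
    obtain ⟨a, ha, h, hh, rfl⟩ := Subgroup.mem_sup_of_normal_left.1 (htop.ge (Subgroup.mem_top t))
    intro e
    have h1 : π h ∈ H.map π := Subgroup.mem_map_of_mem π hh
    rw [e, Subgroup.mem_bot] at h1
    exact ht (M.mul_mem ha (hZM ((QuotientGroup.eq_one_iff h).1 h1)))
  · obtain ⟨x, hxM, hxc⟩ := hx
    intro e
    exact hxc (hMH x ((hmem x).1 (by rw [e]; exact Subgroup.mem_top _)) hxM)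
  · intro q hq
    obtain ⟨g, rfl⟩ := QuotientGroup.mk'_surjective _ q
    rw [eq_bot_iff]
    rintro _ ⟨⟨u, hu, rfl⟩, h2⟩
    refine Subgroup.mem_bot.2 ((QuotientGroup.eq_one_iff u).2 ?_)
    replace h2 := (hconjmem g _).1 h2
    rw [← map_inv, ← map_mul, ← map_mul, hmem] at h2
    obtain ⟨a, ha, h, hh, rfl⟩ := Subgroup.mem_sup_of_normal_left.1 (htop.ge (Subgroup.mem_top g))
    have hac : a ∉ Subgroup.center G := fun hac =>
      hq ((hmem _).2 (H.mul_mem (hZH hac) hh))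
    have hu' : a⁻¹ * u * a ∈ H := by
      have := H.mul_mem (H.mul_mem hh h2) (H.inv_mem hh)
      convert this using 1
      group
    by_contra huc
    set c := u * a * u⁻¹ * a⁻¹
    have hcH : c ∈ H → c ∈ Subgroup.center G := fun h => hMH c h (by
      simp only [c]
      exact M.mul_mem (Subgroup.Normal.conj_mem inferInstance a ha u) (M.inv_mem ha))
    have hc : c ∈ Subgroup.center G := by
      have h3 : a * (u⁻¹ * (a⁻¹ * u * a))⁻¹ * a⁻¹ ∈ Subgroup.center G := by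
        refine (inferInstance : (Subgroup.center G).Normal).conj_mem _ (inv_mem (hMH _
          (H.mul_mem (H.inv_mem hu) hu') ?_)) a
        rw [show u⁻¹ * (a⁻¹ * u * a) = u⁻¹ * a⁻¹ * u * a by group]
        refine M.mul_mem ?_ ha
        simpa using Subgroup.Normal.conj_mem inferInstance a⁻¹ (M.inv_mem ha) u⁻¹
      have e : u * a * u⁻¹ * a⁻¹ = u * (a * (u⁻¹ * (a⁻¹ * u * a)) * a⁻¹)⁻¹⁻¹ * u⁻¹ := by group
      show u * a * u⁻¹ * a⁻¹ ∈ _
      rw [e]
      refine (inferInstance : (Subgroup.center G).Normal).conj_mem _ (inv_mem ?_) u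
      convert h3 using 1
      group
    exact hac (hfpf u hu huc a ha ⟨c, hc, by simp only [c]; group⟩)
  · refine ⟨⟨?_⟩⟩
    rintro ⟨_, a, ha, rfl⟩ ⟨_, b, hb, rfl⟩
    refine Subtype.ext ?_
    show π a * π b = π b * π a
    rw [← commutatorElement_eq_one_iff_mul_comm, ← map_commutatorElement]
    exact (QuotientGroup.eq_one_iff _).2 (hMH _ (H.mul_mem (H.mul_mem (H.mul_mem ha hb)
      (H.inv_mem ha)) (H.inv_mem hb)) (hcomm a b))
  · have hker : ∀ q ∈ Cfsg.frobeniusKernel (H.map π), ∃ g ∈ M, π g = q := by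
      intro q hq
      obtain ⟨g, rfl⟩ := QuotientGroup.mk'_surjective _ q
      by_cases hg : g ∈ M
      · exact ⟨g, hg, rfl⟩
      · obtain ⟨c, hc⟩ := hconj g hg
        rcases hq with h1 | h1
        · exact absurd (hZM ((QuotientGroup.eq_one_iff g).1 h1)) hg
        · refine absurd ((hconjmem c⁻¹ _).2 ?_) (h1 (π c⁻¹))
          rw [← map_inv, ← map_mul, ← map_mul, hmem, inv_inv]
          exact hc
    intro x hx y hy
    obtain ⟨a, ha, rfl⟩ := hker x hx
    obtain ⟨b, hb, rfl⟩ := hker y hy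
    rw [← map_mul, ← map_mul, (hcommM a ha b hb).eq]


/-- Let G be a finite group. Call a prime a vertex if it divides some conjugacy class size of G, and two distinct vertices adjacent if their product divides some class size. Suppose this graph is disconnected: the vertices split into two nonempty parts with no vertex of one part adjacent to a vertex of the other. Then G/Z(G) is a Frobenius group with abelian Frobenius complement and with a Frobenius kernel all of whose elements commute. -/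
theorem result {G : Type*} [Group G] [Finite G] (S : Set ℕ) (hS : ∃ p ∈ S, (p.Prime ∧ ∃ g : G, p ∣ (Subgroup.centralizer ({g} : Set G)).index)) (hS' : ∃ q ∉ S, (q.Prime ∧ ∃ g : G, q ∣ (Subgroup.centralizer ({g} : Set G)).index))
    (hdisc : ∀ p q : ℕ, (p.Prime ∧ ∃ g : G, p ∣ (Subgroup.centralizer ({g} : Set G)).index) → (q.Prime ∧ ∃ g : G, q ∣ (Subgroup.centralizer ({g} : Set G)).index) → p ∈ S → q ∉ S → ¬ (∃ g : G, p * q ∣ (Subgroup.centralizer ({g} : Set G)).index)) :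
    ∃ H : Subgroup (G ⧸ Subgroup.center G), Cfsg.IsFrobeniusComplement H ∧ IsMulCommutative H ∧
      ∀ x ∈ Cfsg.frobeniusKernel H, ∀ y ∈ Cfsg.frobeniusKernel H, x * y = y * x := by
  obtain ⟨p, hpS, hp, a, hpa⟩ := hS
  obtain ⟨q, hqS, hq, b, hqb⟩ := hS'
  have key : ∀ g : G, ∀ r s : ℕ, r.Prime → s.Prime → r ∈ S → s ∉ S →
      r ∣ (Cz g).index → ¬ s ∣ (Cz g).index := fun g r s hr hs hrS hsS hrd hsd =>
    hdisc r s ⟨hr, g, hrd⟩ ⟨hs, g, hsd⟩ hrS hsS ⟨g, Nat.Coprime.mul_dvd_of_dvd_of_dvd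
      ((Nat.coprime_primes hr hs).2 fun e => hsS (e ▸ hrS)) hrd hsd⟩
  have hnc : ∀ (g : G) (r : ℕ), r.Prime → r ∣ (Cz g).index → g ∉ Subgroup.center G :=
    fun g r hr hd hc => hr.ne_one (Nat.dvd_one.1 ((index_Cz_eq_one_iff g).2 hc ▸ hd))
  have hpA : ∀ g : G, p ∣ (Cz g).index → PureSize S g := fun g hd r hr hrd => by
    by_contra hrS
    exact key g p r hp hr hpS hrS hd hrd
  have hqA : ∀ g : G, q ∣ (Cz g).index → PureSize Sᶜ g := fun g hd r hr hrd hrS =>
    key g r q hr hq hrS hqS hrd hd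
  rcases exists_max (A := S) (B := Sᶜ) (fun r h h' => h' h) (hnc a p hp hpa) (hpA a hpa)
      (hnc b q hq hqb) (hqA b hqb) with ⟨y, hy, hyB, hmax⟩ | ⟨y, hy, hyA, hmax⟩
  · haveI : Fact p.Prime := ⟨hp⟩
    obtain ⟨M, hMn, hZM, hcM, -, -, ht, hx, H, hZH, hMH, hcomm, hconj, htop, hfpf⟩ :=
      split (A := S) (B := Sᶜ) (fun r h h' => h' h)
        (fun g r s hr hs hrA hsB => key g r s hr hs hrA hsB) hpS ⟨a, hpa⟩ hpA hy hyB hmax
    haveI := hMn
    exact frobenius_of_split M H hZH hcM hMH hcomm hconj htop ht hx hZM hfpf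
  · haveI : Fact q.Prime := ⟨hq⟩
    obtain ⟨M, hMn, hZM, hcM, -, -, ht, hx, H, hZH, hMH, hcomm, hconj, htop, hfpf⟩ :=
      split (A := Sᶜ) (B := S) (fun r h h' => h h')
        (fun g r s hr hs hrA hsB hrd hsd => key g s r hs hr hsB hrA hsd hrd) hqS ⟨b, hqb⟩ hqA
        hy hyA hmax
    haveI := hMn
    exact frobenius_of_split M H hZH hcM hMH hcomm hconj htop ht hx hZM hfpf

end Cfsg.Agent.S4255
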