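import Cfsg.Statements.S4257
import Cfsg.Agent.Lib.ClassSize.GraphSplit

set_option autoImplicit false
open Cfsg

namespace Cfsg.Agent.S4257

open CfsgLib.ClassSize.Three CfsgLib.ClassSize.GraphSplit

/-- Let G be a finite group. Call a prime a vertex if it divides some conjugacy class size of G, and two distinct vertices adjacent if their product divides some class size. If this graph is connected, then its diameter is at most 3: any two distinct vertices p and q are adjacent, or joined through one or two intermediate vertices. -/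
theorem result {G : Type*} [Group G] [Finite G]
    (hconn : ∀ S : Set ℕ, (∃ p ∈ S, (p.Prime ∧ ∃ g : G, p ∣ (Subgroup.centralizer ({g} : Set G)).index)) → (∃ q ∉ S, (q.Prime ∧ ∃ g : G, q ∣ (Subgroup.centralizer ({g} : Set G)).index)) →
      ∃ p q : ℕ, (p.Prime ∧ ∃ g : G, p ∣ (Subgroup.centralizer ({g} : Set G)).index) ∧ (q.Prime ∧ ∃ g : G, q ∣ (Subgroup.centralizer ({g} : Set G)).index) ∧ p ∈ S ∧ q ∉ S ∧ (∃ g : G, p * q ∣ (Subgroup.centralizer ({g} : Set G)).index))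
    (p q : ℕ) (hp : (p.Prime ∧ ∃ g : G, p ∣ (Subgroup.centralizer ({g} : Set G)).index)) (hq : (q.Prime ∧ ∃ g : G, q ∣ (Subgroup.centralizer ({g} : Set G)).index)) (hpq : p ≠ q) :
    (∃ g : G, p * q ∣ (Subgroup.centralizer ({g} : Set G)).index) ∨ (∃ r : ℕ, (r.Prime ∧ ∃ g : G, r ∣ (Subgroup.centralizer ({g} : Set G)).index) ∧ r ≠ p ∧ r ≠ q ∧ (∃ g : G, p * r ∣ (Subgroup.centralizer ({g} : Set G)).index) ∧ (∃ g : G, r * q ∣ (Subgroup.centralizer ({g} : Set G)).index)) ∨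
      (∃ r s : ℕ, (r.Prime ∧ ∃ g : G, r ∣ (Subgroup.centralizer ({g} : Set G)).index) ∧ (s.Prime ∧ ∃ g : G, s ∣ (Subgroup.centralizer ({g} : Set G)).index) ∧ r ≠ p ∧ s ≠ q ∧ r ≠ s ∧ r ≠ q ∧ s ≠ p ∧
        (∃ g : G, p * r ∣ (Subgroup.centralizer ({g} : Set G)).index) ∧ (∃ g : G, r * s ∣ (Subgroup.centralizer ({g} : Set G)).index) ∧ (∃ g : G, s * q ∣ (Subgroup.centralizer ({g} : Set G)).index)) := by
  by_contra hno
  simp only [not_or] at hno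
  obtain ⟨hadj, hd2, hd3⟩ := hno
  set A : Set ℕ := {r | r = p ∨ ∃ g : G, p * r ∣ (Cz g).index} with hA
  set B : Set ℕ := {r | r = q ∨ ∃ g : G, r * q ∣ (Cz g).index} with hB
  have hv : ∀ {r : ℕ} (g : G), r.Prime → r ∣ (Cz g).index → (r.Prime ∧ ∃ g : G, r ∣ (Cz g).index) :=
    fun g hr hd => ⟨hr, g, hd⟩
  have hco : ∀ {r s : ℕ}, r.Prime → s.Prime → r ≠ s → ∀ g : G, r ∣ (Cz g).index →
      s ∣ (Cz g).index → r * s ∣ (Cz g).index := fun hr hs hne g h1 h2 =>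
    Nat.Coprime.mul_dvd_of_dvd_of_dvd ((Nat.coprime_primes hr hs).2 hne) h1 h2
  have hqA : q ∉ A := by
    rintro (h | ⟨g, hg⟩)
    · exact hpq h.symm
    · exact hadj ⟨g, hg⟩
  have hpB : p ∉ B := by
    rintro (h | ⟨g, hg⟩)
    · exact hpq h
    · exact hadj ⟨g, hg⟩
  have hdis : ∀ r, r.Prime → r ∈ A → r ∉ B := by
    intro r hr hrA hrB
    by_cases hrp : r = p
    · exact hpB (hrp ▸ hrB)
    by_cases hrq : r = q
    · exact hqA (hrq ▸ hrA)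
    obtain ⟨g, hg⟩ := hrA.resolve_left hrp
    exact hd2 ⟨r, hv g hr (dvd_trans (dvd_mul_left r p) hg), hrp, hrq, ⟨g, hg⟩,
      hrB.resolve_left hrq⟩
  set A' : Set ℕ := {r | r.Prime ∧ r ∈ A}
  set B' : Set ℕ := {r | r.Prime ∧ r ∈ B}
  have hdis' : ∀ r, r ∈ A' → r ∉ B' := fun r h h' => hdis r h.1 h.2 h'.2
  have hpA : p ∈ A' := ⟨hp.1, Or.inl rfl⟩
  have hqB : q ∈ B' := ⟨hq.1, Or.inl rfl⟩
  have hAB : ∀ g : G, ∀ r s : ℕ, r.Prime → s.Prime → r ∈ A' → s ∈ B' → r ∣ (Cz g).index →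
      ¬ s ∣ (Cz g).index := by
    intro g r s hr hs hrA hsB hrd hsd
    have hrs : r ≠ s := fun e => hdis' r hrA (e.symm ▸ hsB)
    have hrq : r ≠ q := fun e => hqA (e ▸ hrA.2)
    have hsp : s ≠ p := fun e => hpB (e ▸ hsB.2)
    by_cases hrp : r = p
    · subst hrp
      exact hdis s hs (Or.inr ⟨g, hco hr hs hrs g hrd hsd⟩) hsB.2
    by_cases hsq : s = q
    · subst hsq
      exact hdis r hr hrA.2 (Or.inr ⟨g, hco hr hs hrs g hrd hsd⟩)
    exact hd3 ⟨r, s, hv g hr hrd, hv g hs hsd, hrp, hsq, hrs, hrq, hsp,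
      hrA.2.resolve_left hrp, ⟨g, hco hr hs hrs g hrd hsd⟩, hsB.2.resolve_left hsq⟩
  have hpp : ∀ g : G, p ∣ (Cz g).index → PureSize A' g := fun g hd r hr hrd => by
    refine ⟨hr, ?_⟩
    by_cases hrp : r = p
    · exact Or.inl hrp
    · exact Or.inr ⟨g, hco hp.1 hr (Ne.symm hrp) g hd hrd⟩
  have hqq : ∀ g : G, q ∣ (Cz g).index → PureSize B' g := fun g hd r hr hrd => by
    refine ⟨hr, ?_⟩
    by_cases hrq : r = q
    · exact Or.inl hrq
    · exact Or.inr ⟨g, hco hr hq.1 hrq g hrd hd⟩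
  obtain ⟨hpP, a, hpa⟩ := hp
  obtain ⟨hqP, b, hqb⟩ := hq
  have hnc : ∀ (g : G) (r : ℕ), r.Prime → r ∣ (Cz g).index → g ∉ Subgroup.center G :=
    fun g r hr hd hc => hr.ne_one (Nat.dvd_one.1 ((index_Cz_eq_one_iff g).2 hc ▸ hd))
  have finish_ : ∀ (S : Set ℕ) (M : Subgroup G), (∀ a ∈ M, PureSize S a) →
      (∀ g : G, g ∉ M → ∀ r : ℕ, r.Prime → r ∈ S → ¬ r ∣ (Cz g).index) →
      ∀ (u v : ℕ), u.Prime → (∃ g : G, u ∣ (Cz g).index) → u ∈ S → v.Prime →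
        (∃ g : G, v ∣ (Cz g).index) → v ∉ S → False := by
    intro S M hM hout u v hu hug huS hv' hvg hvS
    obtain ⟨r, s, hr, hs, hrS, hsS, g, hg⟩ := hconn S ⟨u, huS, hu, hug⟩ ⟨v, hvS, hv', hvg⟩
    by_cases hgM : g ∈ M
    · exact hsS (hM g hgM s hs.1 (dvd_trans (dvd_mul_left s r) hg))
    · exact hout g hgM r hr.1 hrS (dvd_trans (dvd_mul_right r s) hg)
  rcases exists_max hdis' (hnc a p hpP hpa) (hpp a hpa) (hnc b q hqP hqb) (hqq b hqb) with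
    ⟨y, hy, hyB, hmax⟩ | ⟨y, hy, hyA, hmax⟩
  · haveI : Fact p.Prime := ⟨hpP⟩
    obtain ⟨M, -, -, -, hM, hout, -⟩ := split hdis' hAB hpA ⟨a, hpa⟩ hpp hy hyB hmax
    exact finish_ A' M hM (fun g hg => (hout g hg).2) p q hpP ⟨a, hpa⟩ hpA hqP ⟨b, hqb⟩
      (fun h => hqA h.2)
  · haveI : Fact q.Prime := ⟨hqP⟩
    obtain ⟨M, -, -, -, hM, hout, -⟩ := split (fun r h h' => hdis' r h' h)
      (fun g r s hr hs hrA hsB hrd hsd => hAB g s r hs hr hsB hrA hsd hrd) hqB ⟨b, hqb⟩ hqq hy hyA hmax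
    exact finish_ B' M hM (fun g hg => (hout g hg).2) q p hqP ⟨b, hqb⟩ hqB hpP ⟨a, hpa⟩
      (fun h => hpB h.2)

end Cfsg.Agent.S4257
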