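import Mathlib
import Cfsg.Agent.S0048

import Cfsg.Statements.S4261

set_option autoImplicit false
open Cfsg

namespace Cfsg.Agent.S4261

/-- Let M be a maximal subgroup of a finite solvable group G such that x^[G : M] lies in M for every x in G. Then M is normal in G. -/
theorem result {G : Type*} [Group G] [Finite G] (hG : Group.IsSolvable G) (M : Subgroup G) (hM : IsCoatom M)
    (hexp : ∀ x : G, x ^ M.index ∈ M) : M.Normal := by
  haveI := hG
  obtain ⟨q, k, hq, -, hqk⟩ := (CfsgLib.Solvable.isPrimePow_index_of_isCoatom hM)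
  have hq' : q.Prime := Nat.prime_iff.2 hq
  have : Fact q.Prime := ⟨hq'⟩
  set N := Subgroup.closure {y : G | (orderOf y).Coprime q} with hN
  have hNn : N.Normal := by
    refine ⟨fun n hn g => ?_⟩
    have h1 : N.map (MulAut.conj g).toMonoidHom ≤ N := by
      rw [hN, MonoidHom.map_closure, Subgroup.closure_le]
      rintro y ⟨z, hz, rfl⟩
      refine Subgroup.subset_closure ?_
      show (orderOf ((MulAut.conj g).toMonoidHom z)).Coprime q
      rw [MulEquiv.coe_toMonoidHom, MulEquiv.orderOf_eq]
      exact hz
    exact h1 ⟨n, hn, rfl⟩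
  have hNM : N ≤ M := by
    rw [hN, Subgroup.closure_le]
    intro y hy
    have hc : (M.index).Coprime (orderOf y) := by
      rw [← hqk]; exact Nat.Coprime.pow_left _ (Nat.Coprime.symm hy)
    obtain ⟨j, hj⟩ := exists_pow_eq_self_of_coprime hc
    rw [← hj]
    exact M.pow_mem (hexp y) j
  have hQ : IsPGroup q (G ⧸ N) := by
    intro z
    obtain ⟨y, rfl⟩ := QuotientGroup.mk_surjective z
    refine ⟨(orderOf y).factorization q, ?_⟩
    rw [← QuotientGroup.mk_pow, QuotientGroup.eq_one_iff]
    refine Subgroup.subset_closure ?_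
    show (orderOf (y ^ q ^ (orderOf y).factorization q)).Coprime q
    have hdvd : orderOf (y ^ q ^ (orderOf y).factorization q) ∣ ordCompl[q] (orderOf y) := by
      rw [orderOf_dvd_iff_pow_eq_one, ← pow_mul, Nat.ordProj_mul_ordCompl_eq_self, pow_orderOf_eq_one]
    exact Nat.Coprime.coprime_dvd_left hdvd
      (Nat.Coprime.symm (Nat.coprime_ordCompl hq' (orderOf_pos y).ne'))
  have : Group.IsNilpotent (G ⧸ N) := hQ.isNilpotent
  have hM' : IsCoatom (M.map (QuotientGroup.mk' N)) := by
    refine ⟨?_, fun K hK => ?_⟩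
    · intro h
      apply hM.1
      have h2 := congrArg (Subgroup.comap (QuotientGroup.mk' N)) h
      rwa [Subgroup.comap_map_eq_self (by rw [QuotientGroup.ker_mk']; exact hNM), Subgroup.comap_top] at h2
    · have h1 : M < K.comap (QuotientGroup.mk' N) := by
        have h3 := (Subgroup.comap_lt_comap_of_surjective (QuotientGroup.mk'_surjective N)).2 hK
        rwa [Subgroup.comap_map_eq_self (by rw [QuotientGroup.ker_mk']; exact hNM)] at h3
      have h4 := hM.2 _ h1
      rw [← Subgroup.map_comap_eq_self_of_surjective (QuotientGroup.mk'_surjective N) K, h4,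
        Subgroup.map_top_of_surjective _ (QuotientGroup.mk'_surjective N)]
  have hn := ((Group.isNilpotent_of_finite_tfae (G := G ⧸ N)).out 0 2 rfl rfl).1 (inferInstance : Group.IsNilpotent (G ⧸ N)) _ hM'
  have := hn.comap (QuotientGroup.mk' N)
  rwa [Subgroup.comap_map_eq_self (by rw [QuotientGroup.ker_mk']; exact hNM)] at this

end Cfsg.Agent.S4261
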