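import Cfsg.Statements.S4262
import Cfsg.Agent.Lib.MaxCentralizer.Quotient
-- import your own Cfsg.Agent.* helpers here

set_option autoImplicit false
open Cfsg

namespace Cfsg.Agent.S4262

/-- Let G be a finite group in which the centralizer of every non-central element is a maximal subgroup of G. Then G is solvable. -/
theorem result {G : Type*} [Group G] [Finite G]
    (h : ∀ g : G, g ∉ Subgroup.center G → IsCoatom (Subgroup.centralizer ({g} : Set G))) :
    Group.IsSolvable G := by
  classical
  have hc0 : Subgroup.centralizer ((⊤ : Subgroup G) : Set G) = Subgroup.center G := by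
    rw [Subgroup.coe_top, Subgroup.centralizer_univ]
  have hN : CfsgLib.MaxCentralizer.Hyp (⊤ : Subgroup G) := fun x _ hx => h x (hc0 ▸ hx)
  haveI : Group.IsSolvable (Subgroup.center (⊤ : Subgroup G)) :=
    Group.isSolvable_of_comm fun a b => Subtype.ext (Subgroup.mem_center_iff.mp b.2 a)
  suffices hQ : Group.IsSolvable ((⊤ : Subgroup G) ⧸ Subgroup.center (⊤ : Subgroup G)) by
    have : Group.IsSolvable (⊤ : Subgroup G) := Group.isSolvable_of_ker_le_range (Subgroup.center (⊤ : Subgroup G)).subtype
      (QuotientGroup.mk' (Subgroup.center (⊤ : Subgroup G))) (by rw [QuotientGroup.ker_mk', Subgroup.range_subtype])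
    exact Group.isSolvable_of_surjective (f := (Subgroup.topEquiv : (⊤ : Subgroup G) ≃* G).toMonoidHom) Subgroup.topEquiv.surjective
  obtain ⟨p, hp, h'⟩ | ⟨K, X, p, q, hcf⟩ := CfsgLib.MaxCentralizer.dichotomy hN
  · obtain ⟨hcom, -⟩ := CfsgLib.MaxCentralizer.elementary_quotient h'
    exact Group.isSolvable_of_comm fun a b =>
      congrArg Subtype.val (hcom.is_comm.comm ⟨a, Subgroup.mem_top _⟩ ⟨b, Subgroup.mem_top _⟩)
  · obtain ⟨hKn, hKel, -, -, -, hidx, -⟩ := CfsgLib.MaxCentralizer.frobenius_of_config hcf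
    haveI : Fact q.Prime := ⟨hcf.hq⟩
    set Kb := CfsgLib.MaxCentralizer.bar (⊤ : Subgroup G) K
    haveI : IsCyclic (_ ⧸ Kb) := isCyclic_of_prime_card (p := q) (by rw [← Subgroup.index_eq_card, hidx])
    haveI h2 : Group.IsSolvable (_ ⧸ Kb) := Group.isSolvable_of_comm IsMulCommutative.is_comm.comm
    haveI h1 : Group.IsSolvable Kb := Group.isSolvable_of_comm hKel.1.is_comm.comm
    exact Group.isSolvable_of_ker_le_range Kb.subtype (QuotientGroup.mk' Kb) (by rw [QuotientGroup.ker_mk', Subgroup.range_subtype])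


end Cfsg.Agent.S4262
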