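import Mathlib

import Cfsg.Statements.S4263

set_option autoImplicit false
open Cfsg

namespace Cfsg.Agent.S4263

variable {G : Type*} [Group G] [Finite G]

theorem pow_index_mem_of_nilpotent (hN : Group.IsNilpotent G) (x : G) :
    ∀ K : Subgroup G, x ^ K.index ∈ K := by
  intro K
  induction K using WellFoundedGT.induction with
  | _ K ih =>
    by_cases hK : K = ⊤
    · subst hK; simp
    · have hlt : K < Subgroup.normalizer (K : Set G) :=
        Group.normalizerCondition_of_isNilpotent (h := hN) K (lt_top_iff_ne_top.2 hK)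
      have h1 := ih _ hlt
      have hn : (K.subgroupOf (Subgroup.normalizer (K : Set G))).Normal := Subgroup.normal_in_normalizer
      have h2 : ((⟨x ^ (Subgroup.normalizer (K : Set G)).index, h1⟩ : Subgroup.normalizer (K : Set G)))
          ^ (K.subgroupOf (Subgroup.normalizer (K : Set G))).index ∈
          K.subgroupOf (Subgroup.normalizer (K : Set G)) :=
        Subgroup.pow_index_mem _ _
      rw [Subgroup.mem_subgroupOf] at h2
      simp only [SubmonoidClass.coe_pow, ← pow_mul] at h2
      rw [← Subgroup.relIndex_mul_index hlt.le, mul_comm]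
      exact h2

theorem pCore_le_sylow (p : ℕ) (P : Sylow p G) : Cfsg.pCore p G ≤ P := by
  refine sSup_le fun N hN => ?_
  have : N.Normal := hN.1
  exact hN.2.le_sylow_of_normal P

theorem pCore_normal (p : ℕ) : (Cfsg.pCore p G).Normal :=
  Subgroup.sSup_normal _ fun _ h => h.1

theorem fitting_nilpotent : Group.IsNilpotent (Cfsg.fittingSubgroup G) := by
  classical
  have : Fintype (Nat.card G).primeFactors := inferInstance
  let F : (Nat.card G).primeFactors → Subgroup G := fun p => Cfsg.pCore (p : ℕ) G
  have hp : ∀ p : (Nat.card G).primeFactors, Fact (Nat.Prime (p : ℕ)) :=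
    fun p => ⟨Nat.prime_of_mem_primeFactors p.2⟩
  have hpg : ∀ p : (Nat.card G).primeFactors, IsPGroup (p : ℕ) (F p) := fun p => by
    have := hp p
    exact (default : Sylow (p : ℕ) G).isPGroup'.to_le (pCore_le_sylow _ _)
  have hcomm : Pairwise fun i j : (Nat.card G).primeFactors =>
      ∀ x y : G, x ∈ F i → y ∈ F j → Commute x y := by
    intro i j hij x y hx hy
    have := hp i; have := hp j
    exact Subgroup.commute_of_normal_of_disjoint _ _ (pCore_normal _) (pCore_normal _)
      (IsPGroup.disjoint_of_ne (i : ℕ) (j : ℕ) (fun h => hij (Subtype.ext h)) _ _ (hpg i) (hpg j))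
      x y hx hy
  have : ∀ i, Group.IsNilpotent (F i) := fun i => by
    have := hp i
    exact (hpg i).isNilpotent
  have hle : Cfsg.fittingSubgroup G ≤ ⨆ i, F i := by
    refine sSup_le fun N hN => ?_
    have hNn : N.Normal := hN.1
    have : Group.IsNilpotent N := hN.2
    have key : ((⨆ i, F i).subgroupOf N) = ⊤ := by
      rw [← Subgroup.index_eq_one]
      by_contra hne
      obtain ⟨p, hpp, hpd⟩ := Nat.exists_prime_and_dvd hne
      have : Fact p.Prime := ⟨hpp⟩
      obtain ⟨P⟩ := (inferInstance : Nonempty (Sylow p N))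
      have hPn : (P : Subgroup N).Normal := inferInstance
      have : (P : Subgroup N).Characteristic := Sylow.characteristic_of_normal P hPn
      have hmem : p ∈ (Nat.card G).primeFactors :=
        Nat.mem_primeFactors.2 ⟨hpp,
          hpd.trans ((Subgroup.index_dvd_card _).trans (Subgroup.card_subgroup_dvd_card N)),
          Nat.card_pos.ne'⟩
      have h1 : (P : Subgroup N) ≤ (⨆ i, F i).subgroupOf N := by
        intro x hx
        rw [Subgroup.mem_subgroupOf]
        refine le_iSup F ⟨p, hmem⟩ ?_
        exact le_sSup (show (P : Subgroup N).map N.subtype ∈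
          {M : Subgroup G | M.Normal ∧ IsPGroup p M} from
            ⟨inferInstance, P.isPGroup'.map _⟩) (Subgroup.mem_map_of_mem N.subtype hx)
      exact P.not_dvd_index (hpd.trans (Subgroup.index_dvd_of_le h1))
    exact Subgroup.subgroupOf_eq_top.1 key
  have hJ : Group.IsNilpotent (Subgroup.noncommPiCoprod hcomm).range :=
    Group.nilpotent_of_surjective _ (MonoidHom.rangeRestrict_surjective _)
  rw [← Subgroup.noncommPiCoprod_range (hcomm := hcomm)] at hle
  exact (Group.isNilpotent_congr (Subgroup.subgroupOfEquivOfLe hle)).1 inferInstance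

/-- Let G be a finite group. An element x lies in the Fitting subgroup F(G) if and only if, for every subgroup H of G, the power x^[G : H] lies in H. -/
theorem result {G : Type*} [Group G] [Finite G] (x : G) :
    x ∈ Cfsg.fittingSubgroup G ↔ ∀ H : Subgroup G, x ^ H.index ∈ H := by
  constructor
  · intro hx H
    set F := Cfsg.fittingSubgroup G with hF
    have hFn : F.Normal := Subgroup.sSup_normal _ fun _ h => h.1
    have h1 := pow_index_mem_of_nilpotent fitting_nilpotent (⟨x, hx⟩ : F) (H.subgroupOf F)
    rw [Subgroup.mem_subgroupOf] at h1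
    simp only [SubmonoidClass.coe_pow] at h1
    obtain ⟨c, hc⟩ : (H.subgroupOf F).index ∣ H.index := by
      change H.relIndex F ∣ H.index
      have key : H.relIndex F = H.relIndex (H ⊔ F) := by
        have e1 := Subgroup.relIndex_mul_relIndex (H ⊓ F) F (H ⊔ F) inf_le_right le_sup_right
        have e2 := Subgroup.relIndex_mul_relIndex (H ⊓ F) H (H ⊔ F) inf_le_left le_sup_left
        rw [Subgroup.inf_relIndex_right, Subgroup.relIndex_sup_right] at e1
        rw [Subgroup.inf_relIndex_left] at e2
        rw [← e2, mul_comm (F.relIndex H)] at e1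
        exact Nat.eq_of_mul_eq_mul_right (Nat.pos_of_ne_zero (F.subgroupOf H).index_ne_zero_of_finite) e1
      rw [key, ← Subgroup.relIndex_mul_index (le_sup_left : H ≤ H ⊔ F)]
      exact dvd_mul_right _ _
    rw [hc, pow_mul]
    exact H.pow_mem h1 c
  · intro h
    classical
    have hpart : ∀ r : ℕ, r.Prime → x ^ (ordCompl[r] (orderOf x)) ∈ Cfsg.fittingSubgroup G := by
      intro r hr
      have : Fact r.Prime := ⟨hr⟩
      have hall : ∀ P : Sylow r G, x ^ (ordCompl[r] (orderOf x)) ∈ (P : Subgroup G) := by
        intro P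
        set m := ordCompl[r] (orderOf x)
        have hy : orderOf (x ^ m) ∣ ordProj[r] (orderOf x) := by
          rw [orderOf_dvd_iff_pow_eq_one, ← pow_mul, mul_comm, Nat.ordProj_mul_ordCompl_eq_self,
            pow_orderOf_eq_one]
        have hcop : (orderOf (x ^ m)).Coprime (P : Subgroup G).index :=
          Nat.Coprime.coprime_dvd_left hy
            (Nat.Coprime.pow_left _ ((Nat.Prime.coprime_iff_not_dvd hr).2 P.not_dvd_index))
        have : (x ^ m) ^ (P : Subgroup G).index ∈ (P : Subgroup G) := by
          rw [← pow_mul, mul_comm, pow_mul]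
          exact Subgroup.pow_mem _ (h _) _
        obtain ⟨k, hk⟩ := exists_pow_eq_self_of_coprime (hcop.symm)
        rw [← hk]
        exact Subgroup.pow_mem _ this _
      set N := (⨅ P : Sylow r G, (P : Subgroup G)) with hN
      have hNn : N.Normal := by
        refine ⟨fun n hn g => ?_⟩
        rw [hN, Subgroup.mem_iInf] at hn ⊢
        intro P
        have := hn (g⁻¹ • P)
        rw [Sylow.coe_subgroup_smul, Subgroup.mem_pointwise_smul_iff_inv_smul_mem] at this
        simpa [mul_assoc] using this
      have hNp : IsPGroup r N := (default : Sylow r G).isPGroup'.to_le (iInf_le _ _)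
      have hNnil : Group.IsNilpotent N := hNp.isNilpotent
      exact le_sSup (show N ∈ {M : Subgroup G | M.Normal ∧ Group.IsNilpotent M} from ⟨hNn, hNnil⟩)
        (by rw [hN, Subgroup.mem_iInf]; exact hall)
    have hd : ∀ r : ℕ, r.Prime → orderOf ((QuotientGroup.mk x :
        G ⧸ (Cfsg.fittingSubgroup G).normalCore)) ∣ ordCompl[r] (orderOf x) := by
      intro r hr
      have hFn : (Cfsg.fittingSubgroup G).Normal := Subgroup.sSup_normal _ fun _ h => h.1
      rw [orderOf_dvd_iff_pow_eq_one, ← QuotientGroup.mk_pow, QuotientGroup.eq_one_iff,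
        Subgroup.normalCore_eq_self]
      exact hpart r hr
    have hone : orderOf ((QuotientGroup.mk x : G ⧸ (Cfsg.fittingSubgroup G).normalCore)) = 1 := by
      by_contra hne
      obtain ⟨r, hr, hrd⟩ := Nat.exists_prime_and_dvd hne
      exact Nat.not_dvd_ordCompl hr (orderOf_pos x).ne' (hrd.trans (hd r hr))
    rw [orderOf_eq_one_iff, QuotientGroup.eq_one_iff] at hone
    exact Subgroup.normalCore_le _ hone

end Cfsg.Agent.S4263
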