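import Cfsg.Statements.S4265
import Cfsg.Agent.Lib.SolvLinClass.Main


set_option autoImplicit false
open Cfsg

namespace Cfsg.Agent.S4265


/-- Let G be a finite solvable subgroup of GL_r(ℂ), r ≥ 1, with Fitting subgroup F(G) normal in G. Then for every subgroup H of G the quotient H/(H ∩ F(G)) has at most 3^{r−1} conjugacy classes. -/
theorem result (r : ℕ) (hr : 1 ≤ r) (G : Subgroup (GL (Fin r) ℂ)) [Finite ↥G] (hsolv : Group.IsSolvable ↥G) [hF : (Cfsg.fittingSubgroup ↥G).Normal] (H : Subgroup ↥G) : Nat.card (ConjClasses (↥H ⧸ (Cfsg.fittingSubgroup ↥G).subgroupOf H)) ≤ 3 ^ (r - 1) := by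
  let ρ : ↥G →* Module.End ℂ (Fin r → ℂ) :=
    (Matrix.toLinAlgEquiv' (R := ℂ) (n := Fin r)).toMonoidHom.comp
      ((Units.coeHom (Matrix (Fin r) (Fin r) ℂ)).comp G.subtype)
  have hρ : Function.Injective ρ := fun x y h =>
    Subtype.ext (Units.ext ((Matrix.toLinAlgEquiv' (R := ℂ) (n := Fin r)).injective h))
  have hcb := CfsgLib.SolvLinClass.cb_quotient_fitting r (↥G) hsolv (Fin r → ℂ)
    (le_of_eq (Module.finrank_fin_fun ℂ)) ρ hρ
  let φ : ↥H →* ↥G ⧸ Cfsg.fittingSubgroup ↥G := (QuotientGroup.mk' _).comp H.subtype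
  have hk : φ.ker = (Cfsg.fittingSubgroup ↥G).subgroupOf H := by
    ext x
    exact QuotientGroup.eq_one_iff _
  exact (CfsgLib.SolvBlock.classNum_equiv ((QuotientGroup.quotientMulEquivOfEq hk.symm).trans
    (QuotientGroup.quotientKerEquivRange φ))).trans_le (hcb φ.range)

end Cfsg.Agent.S4265
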