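import Mathlib

import Cfsg.Statements.S4269

set_option autoImplicit false
open Cfsg
open scoped Pointwise commutatorElement

namespace Cfsg.Agent.S4269

/-- Let G be a finite group, V an abelian normal subgroup and H a subgroup with HV = G. Then H is pronormal in G (H and gHg⁻¹ are conjugate inside the subgroup they generate, for every g) if and only if every H-invariant subgroup U of V satisfies U = N_U(H)·[H, U], that is, U is the join of U ∩ N_G(H) and the commutator subgroup [H, U]. -/
theorem result {G : Type*} [Group G] [Finite G]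
    (V : Subgroup G) [V.Normal] (hV : IsMulCommutative ↥V) (H : Subgroup G) (hHV : H ⊔ V = ⊤) :
    Cfsg.IsPronormal H ↔
      ∀ U : Subgroup G, U ≤ V → (∀ h ∈ H, U.map (MulAut.conj h).toMonoidHom = U) →
        U = (U ⊓ Subgroup.normalizer (H : Set G)) ⊔ ⁅H, U⁆ := by
  constructor
  · intro hp U hUV hU
    have hconj : ∀ h ∈ H, ∀ u ∈ U, h * u * h⁻¹ ∈ U := by
      intro h hh u hu
      have := Subgroup.mem_map_of_mem (MulAut.conj h).toMonoidHom hu
      rw [hU h hh] at this
      simpa using this
    have hHC : H ≤ Subgroup.normalizer ((⁅H, U⁆ : Subgroup G) : Set G) :=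
      Subgroup.normalizer_commutator_ge_left H U
    have hCU : ⁅H, U⁆ ≤ U := by
      rw [Subgroup.commutator_le]
      intro h hh u hu
      rw [commutatorElement_def]
      exact U.mul_mem (hconj h hh u hu) (U.inv_mem hu)
    apply le_antisymm
    · intro u hu
      obtain ⟨x, hx, hxe⟩ := hp u
      have hle : H ⊔ H.map (MulAut.conj u).toMonoidHom ≤ H ⊔ ⁅H, U⁆ := by
        refine sup_le le_sup_left ?_
        rintro y ⟨h, hh, rfl⟩
        have e : u * h * u⁻¹ = ⁅h, u⁆⁻¹ * h := by
          rw [commutatorElement_def]; group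
        simp only [MulEquiv.coe_toMonoidHom, MulAut.conj_apply]
        rw [e]
        exact Subgroup.mul_mem _ (Subgroup.mem_sup_right (Subgroup.inv_mem _
          (Subgroup.commutator_mem_commutator hh hu))) (Subgroup.mem_sup_left hh)
      have hx' := hle hx
      rw [← SetLike.mem_coe, sup_comm,
        Subgroup.coe_mul_of_right_le_normalizer_left _ _ hHC] at hx'
      obtain ⟨c, hc, h, hh, rfl⟩ := hx'
      have hcU := hCU hc
      have hn : c⁻¹ * u ∈ Subgroup.normalizer (H : Set G) := by
        rw [Subgroup.mem_normalizer_iff]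
        intro z
        constructor
        · intro hz
          have : u * z * u⁻¹ ∈ H.map (MulAut.conj u).toMonoidHom :=
            ⟨z, hz, by simp⟩
          rw [hxe] at this
          obtain ⟨w, hw, hwe⟩ := this
          simp only [MulEquiv.coe_toMonoidHom, MulAut.conj_apply] at hwe
          have : c⁻¹ * u * z * (c⁻¹ * u)⁻¹ = h * w * h⁻¹ := by
            calc _ = c⁻¹ * (u * z * u⁻¹) * c := by group
              _ = c⁻¹ * (c * h * w * (c * h)⁻¹) * c := by rw [← hwe]
              _ = _ := by group
          rw [this]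
          exact H.mul_mem (H.mul_mem hh hw) (H.inv_mem hh)
        · intro hz
          have : c * h * (h⁻¹ * (c⁻¹ * u * z * (c⁻¹ * u)⁻¹) * h) * (c * h)⁻¹ ∈
              H.map (MulAut.conj (c * h)).toMonoidHom :=
            ⟨h⁻¹ * (c⁻¹ * u * z * (c⁻¹ * u)⁻¹) * h,
              H.mul_mem (H.mul_mem (H.inv_mem hh) hz) hh, by simp [mul_assoc]⟩
          rw [← hxe] at this
          obtain ⟨w, hw, hwe⟩ := this
          simp only [MulEquiv.coe_toMonoidHom, MulAut.conj_apply] at hwe
          have e : w = z := by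
            have e2 : u * w * u⁻¹ = u * z * u⁻¹ := by rw [hwe]; group
            simpa using e2
          exact e ▸ hw
      have e : u = c * (c⁻¹ * u) := by group
      rw [e]
      exact Subgroup.mul_mem _ (Subgroup.mem_sup_right hc)
        (Subgroup.mem_sup_left ⟨U.mul_mem (U.inv_mem hcU) hu, hn⟩)
    · exact sup_le inf_le_left hCU
  · intro hU g
    have hg : g ∈ V ⊔ H := by rw [sup_comm, hHV]; trivial
    rw [← SetLike.mem_coe, Subgroup.normal_mul] at hg
    obtain ⟨v, hv, h0, hh0, rfl⟩ := hg
    set W := (H ⊔ H.map (MulAut.conj v).toMonoidHom) ⊓ V with hW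
    set U := Subgroup.closure {y : G | ∃ h ∈ H, y = h * v * h⁻¹} with hUdef
    have hvU : v ∈ U := Subgroup.subset_closure ⟨1, H.one_mem, by simp⟩
    have hUV : U ≤ V := by
      rw [hUdef, Subgroup.closure_le]
      rintro y ⟨h, -, rfl⟩
      exact Subgroup.Normal.conj_mem inferInstance v hv h
    have hUle : ∀ h ∈ H, U.map (MulAut.conj h).toMonoidHom ≤ U := by
      intro h hh
      rw [hUdef, MonoidHom.map_closure, Subgroup.closure_le]
      rintro y ⟨z, ⟨k, hk, rfl⟩, rfl⟩
      exact Subgroup.subset_closure ⟨h * k, H.mul_mem hh hk, by simp [mul_assoc]⟩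
    have hUinv : ∀ h ∈ H, U.map (MulAut.conj h).toMonoidHom = U := by
      intro h hh
      refine le_antisymm (hUle h hh) fun y hy => ?_
      refine ⟨h⁻¹ * y * h, ?_, by simp [mul_assoc]⟩
      exact hUle h⁻¹ (H.inv_mem hh) ⟨y, hy, by simp⟩
    have hHW : H ≤ Subgroup.normalizer (W : Set G) := by
      intro h hh
      rw [Subgroup.mem_normalizer_iff]
      intro w
      have hhm : h ∈ H ⊔ H.map (MulAut.conj v).toMonoidHom := Subgroup.mem_sup_left hh
      rw [hW, Subgroup.mem_inf, Subgroup.mem_inf, Subgroup.mul_mem_cancel_right _ (Subgroup.inv_mem _ hhm),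
        Subgroup.mul_mem_cancel_left _ hhm, ← Subgroup.Normal.mem_comm_iff (inferInstance : V.Normal),
        ← mul_assoc, inv_mul_cancel, one_mul]
    have hbase : ∀ h ∈ H, ⁅h, v⁆ ∈ W := by
      intro h hh
      rw [hW, commutatorElement_def]
      constructor
      · have : h * (v * h⁻¹ * v⁻¹) ∈ H ⊔ H.map (MulAut.conj v).toMonoidHom :=
          Subgroup.mul_mem _ (Subgroup.mem_sup_left hh)
            (Subgroup.mem_sup_right ⟨h⁻¹, H.inv_mem hh, by simp⟩)
        simpa [mul_assoc] using this
      · exact V.mul_mem (Subgroup.Normal.conj_mem inferInstance v hv h) (V.inv_mem hv)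
    have hcomm : ∀ a ∈ V, ∀ b ∈ V, a * b = b * a := fun a ha b hb =>
      congrArg Subtype.val (hV.is_comm.comm ⟨a, ha⟩ ⟨b, hb⟩)
    have hCW : ⁅H, U⁆ ≤ W := by
      rw [Subgroup.commutator_le]
      intro h hh u hu
      rw [hUdef] at hu
      induction hu using Subgroup.closure_induction with
      | mem y hy =>
        obtain ⟨k, hk, rfl⟩ := hy
        have e : ⁅h, k * v * k⁻¹⁆ = ⁅h * k, v⁆ * ⁅k, v⁆⁻¹ := by
          simp only [commutatorElement_def]; group
        rw [e]
        exact W.mul_mem (hbase _ (H.mul_mem hh hk)) (W.inv_mem (hbase k hk))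
      | one => simp
      | mul a b ha hb iha ihb =>
        rw [← hUdef] at ha hb
        have e : ⁅h, a * b⁆ = ⁅h, a⁆ * (a * ⁅h, b⁆ * a⁻¹) := by
          simp only [commutatorElement_def]; group
        rw [e, hcomm a (hUV ha) _ ((inf_le_right : W ≤ V) ihb)]
        simpa using W.mul_mem iha ihb
      | inv a ha iha =>
        rw [← hUdef] at ha
        have hav : h * a * h⁻¹ ∈ V := Subgroup.Normal.conj_mem inferInstance a (hUV ha) h
        have e : ⁅h, a⁻¹⁆ = a * (h * a⁻¹ * h⁻¹) * (a * a⁻¹) := by
          simp only [commutatorElement_def]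
          rw [mul_inv_cancel, mul_one, inv_inv]
          have := hcomm (h * a⁻¹ * h⁻¹)
            (Subgroup.Normal.conj_mem inferInstance _ (V.inv_mem (hUV ha)) h) a (hUV ha)
          rw [this]
        have e2 : ⁅h, a⁻¹⁆ = ⁅h, a⁆⁻¹ := by
          rw [e, commutatorElement_def]; group
        rw [e2]
        exact W.inv_mem iha
    have hv' : v ∈ (U ⊓ Subgroup.normalizer (H : Set G)) ⊔ W := by
      have := hU U hUV hUinv
      rw [this] at hvU
      exact sup_le_sup_left hCW _ hvU
    have hNW : U ⊓ Subgroup.normalizer (H : Set G) ≤ Subgroup.normalizer (W : Set G) := by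
      intro n hn
      rw [Subgroup.mem_normalizer_iff]
      intro w
      constructor
      · intro hw
        rw [hcomm n (hUV hn.1) w hw.2, mul_assoc, mul_inv_cancel, mul_one]
        exact hw
      · intro hw
        have hwV : n⁻¹ * (n * w * n⁻¹) * n ∈ V :=
          V.mul_mem (V.mul_mem (V.inv_mem (hUV hn.1)) hw.2) (hUV hn.1)
        have e : n⁻¹ * (n * w * n⁻¹) * n = w := by group
        rw [e] at hwV
        rw [hcomm n (hUV hn.1) w hwV, mul_assoc, mul_inv_cancel, mul_one] at hw
        exact hw
    rw [← SetLike.mem_coe, Subgroup.coe_mul_of_left_le_normalizer_right _ _ hNW] at hv'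
    obtain ⟨n, ⟨hnU, hnN⟩, w, hw, rfl⟩ := hv'
    have hnn := Subgroup.mem_normalizer_iff.1 hnN
    have key : H.map (MulAut.conj (n * w * h0)).toMonoidHom = H.map (MulAut.conj w).toMonoidHom := by
      ext y
      constructor
      · rintro ⟨z, hz, rfl⟩
        refine ⟨n * (h0 * z * h0⁻¹) * n⁻¹, (hnn _).1 (H.mul_mem (H.mul_mem hh0 hz) (H.inv_mem hh0)), ?_⟩
        have c := hcomm n (hUV hnU) w hw.2
        simp only [MulEquiv.coe_toMonoidHom, MulAut.conj_apply]
        rw [c]; group
      · rintro ⟨z, hz, rfl⟩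
        refine ⟨h0⁻¹ * (n⁻¹ * z * n) * h0, ?_, ?_⟩
        · refine H.mul_mem (H.mul_mem (H.inv_mem hh0) ((hnn _).2 ?_)) hh0
          simpa [mul_assoc] using hz
        · have c := hcomm n (hUV hnU) w hw.2
          simp only [MulEquiv.coe_toMonoidHom, MulAut.conj_apply]
          rw [c]; group
    refine ⟨w, ?_, key⟩
    have hle : H ⊔ H.map (MulAut.conj (n * w)).toMonoidHom ≤
        H ⊔ H.map (MulAut.conj (n * w * h0)).toMonoidHom := by
      refine sup_le le_sup_left (le_trans ?_ le_sup_right)
      rintro y ⟨z, hz, rfl⟩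
      exact ⟨h0⁻¹ * z * h0, H.mul_mem (H.mul_mem (H.inv_mem hh0) hz) hh0, by simp [mul_assoc]⟩
    exact hle hw.1

end Cfsg.Agent.S4269
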