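import Cfsg.Statements.S4271
import Cfsg.Agent.Lib.PronormalSylow.Extension

set_option autoImplicit false
open Cfsg

namespace Cfsg.Agent.S4271

/-- Let p be a prime and G a finite group with a normal subgroup A such that every subgroup of A containing a Sylow p-subgroup of A is pronormal in A, and the Sylow p-subgroups of G/A are self-normalizing. Let T be a Sylow p-subgroup of A. Then every subgroup of G containing a Sylow p-subgroup of G is pronormal in G if and only if every subgroup of N_G(T)/T containing a Sylow p-subgroup of N_G(T)/T is pronormal in N_G(T)/T. (Pronormal: H and gHg⁻¹ are conjugate inside the subgroup they generate, for every g.) -/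
theorem result {G : Type*} [Group G] [Finite G] {p : ℕ} [Fact p.Prime]
    (A : Subgroup G) [A.Normal] (hA : (∀ K : Subgroup ↥A, (∃ P : Sylow p ↥A, (P : Subgroup ↥A) ≤ K) → Cfsg.IsPronormal K))
    (hQ : ∀ P : Sylow p (G ⧸ A), Subgroup.normalizer ((P : Subgroup (G ⧸ A)) : Set (G ⧸ A)) = P)
    (T : Subgroup G) (hT : ∃ P : Sylow p ↥A, (P : Subgroup ↥A).map A.subtype = T) [(T.subgroupOf (Subgroup.normalizer (T : Set G))).Normal] :
    (∀ K : Subgroup G, (∃ P : Sylow p G, (P : Subgroup G) ≤ K) → Cfsg.IsPronormal K) ↔ (∀ K : Subgroup (↥(Subgroup.normalizer (T : Set G)) ⧸ T.subgroupOf (Subgroup.normalizer (T : Set G))), (∃ P : Sylow p (↥(Subgroup.normalizer (T : Set G)) ⧸ T.subgroupOf (Subgroup.normalizer (T : Set G))), (P : Subgroup (↥(Subgroup.normalizer (T : Set G)) ⧸ T.subgroupOf (Subgroup.normalizer (T : Set G)))) ≤ K) → Cfsg.IsPronormal K) := by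
  obtain ⟨S, hS⟩ := hT
  have hQ0 : CfsgLib.PronormalSylow.SylowOvergroupsPronormal p (G ⧸ A) := by
    rintro K ⟨P, hPK⟩
    exact CfsgLib.SymTwo.pronormal_of_sylow_normalizer_le P K hPK fun g hg =>
      CfsgLib.PronormalSylow.conj_eq_of_mem (hPK (by rw [hQ P] at hg; exact hg))
  refine (CfsgLib.PronormalSylow.sylowOvergroupsPronormal_iff A hA hQ0 S T hS).trans
    (and_iff_left ?_)
  rintro K ⟨P, hPK⟩
  refine le_antisymm (Subgroup.le_normalizer_map _) fun g hg => ?_
  refine Subgroup.map_mono Subgroup.le_normalizer ?_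
  set Q := P.mapSurjective (QuotientGroup.mk'_surjective A) with hQdef
  have h1 : (Q : Subgroup (G ⧸ A)) ≤ K.map (QuotientGroup.mk' A) := Subgroup.map_mono hPK
  have h2 : ((g • Q : Sylow p (G ⧸ A)) : Subgroup (G ⧸ A)) ≤ K.map (QuotientGroup.mk' A) := by
    rintro x ⟨y, hy, rfl⟩
    exact (Subgroup.mem_normalizer_iff.mp hg y).mp (h1 hy)
  obtain ⟨k, hk⟩ := MulAction.exists_smul_eq (K.map (QuotientGroup.mk' A))
    ((g • Q).subtype h2) (Q.subtype h1)
  rw [Sylow.smul_subtype] at hk
  have hmem : (k : G ⧸ A) * g ∈ Subgroup.normalizer ((Q : Subgroup (G ⧸ A)) : Set (G ⧸ A)) :=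
    Sylow.smul_eq_iff_mem_normalizer.mp (by rw [mul_smul]; exact Sylow.subtype_injective hk)
  rw [hQ Q] at hmem
  exact (mul_mem_cancel_left k.2).mp (h1 hmem)

end Cfsg.Agent.S4271
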