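import Cfsg.Statements.S4273
import Cfsg.Agent.Lib.Order175560.Local
import Cfsg.Agent.S1644

set_option autoImplicit false
open Cfsg

namespace Cfsg.Agent.S4273

/-- A simple group of order 175560 is the first Janko group. -/
theorem isoJ1 {G : Type*} [Group G] [Finite G] [IsSimpleGroup G] (hG : Nat.card G = 175560) :
    Cfsg.Spor.IsoJ1 G := by
  obtain ⟨S, t, ht, hS, h8, ⟨e⟩⟩ := CfsgLib.Order175560.centralizer_involution (G := G) hG
  exact Cfsg.Agent.S1644.result S hS h8 t ht e

/-- Uniqueness of the simple group of order 175560: any two finite simple groups of order 175560 are isomorphic. -/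
theorem result {G : Type*} {H : Type*} [Group G] [Finite G] [IsSimpleGroup G] [Group H] [Finite H] [IsSimpleGroup H] (hG : Nat.card G = 175560) (hH : Nat.card H = 175560) : Nonempty (G ≃* H) := by
  obtain ⟨e⟩ := isoJ1 hG
  obtain ⟨f⟩ := isoJ1 hH
  exact ⟨e.trans f.symm⟩

end Cfsg.Agent.S4273
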