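import Cfsg.Statements.S4274
import Cfsg.Agent.Lib.SmallOrder.SingularCount
import Cfsg.Agent.Lib.Components.Subnormal

set_option autoImplicit false
set_option linter.style.haveILetI false
open Cfsg

namespace Cfsg.Agent.S4274

universe v

theorem excl20 : CfsgLib.SmallOrder.singExcluded (19 * 20) [19, 5] = true := by decide +kernel
theorem excl40 : CfsgLib.SmallOrder.orderExcluded (19 * 40) = true := by decide +kernel
theorem excl60 : CfsgLib.SmallOrder.singExcluded (19 * 60) [19, 5, 3] = true := by decide +kernel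
theorem excl77 : CfsgLib.SmallOrder.singExcluded (19 * 77) [19, 11, 7] = true := by decide +kernel
theorem excl120 : CfsgLib.SmallOrder.orderExcluded (19 * 120) = true := by decide +kernel
theorem excl140 : CfsgLib.SmallOrder.singExcluded (19 * 140) [19, 7, 5] = true := by decide +kernel
theorem excl154 : CfsgLib.SmallOrder.singExcluded (19 * 154) [19, 11, 7] = true := by decide +kernel
theorem excl210 : CfsgLib.SmallOrder.singExcluded (19 * 210) [19, 7, 5, 3] = true := by decide +kernel
theorem excl220 : CfsgLib.SmallOrder.singExcluded (19 * 220) [19, 11, 5] = true := by decide +kernel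
theorem excl231 : CfsgLib.SmallOrder.singExcluded (19 * 231) [19, 11, 7, 3] = true := by decide +kernel
theorem excl280 : CfsgLib.SmallOrder.singExcluded (19 * 280) [19, 7, 5] = true := by decide +kernel
theorem excl308 : CfsgLib.SmallOrder.singExcluded (19 * 308) [19, 11, 7] = true := by decide +kernel
theorem excl385 : CfsgLib.SmallOrder.singExcluded (19 * 385) [19, 11, 7, 5] = true := by decide +kernel
theorem excl420 : CfsgLib.SmallOrder.singExcluded (19 * 420) [19, 7, 5, 3] = true := by decide +kernel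
theorem excl440 : CfsgLib.SmallOrder.singExcluded (19 * 440) [19, 11, 5] = true := by decide +kernel
theorem excl462 : CfsgLib.SmallOrder.singExcluded (19 * 462) [19, 11, 7, 3] = true := by decide +kernel
theorem excl616 : CfsgLib.SmallOrder.singExcluded (19 * 616) [19, 11, 7] = true := by decide +kernel
theorem excl660 : CfsgLib.SmallOrder.singExcluded (19 * 660) [19, 11, 5, 3] = true := by decide +kernel
theorem excl770 : CfsgLib.SmallOrder.singExcluded (19 * 770) [19, 11, 7, 5] = true := by decide +kernel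
theorem excl840 : CfsgLib.SmallOrder.orderExcluded (19 * 840) = true := by decide +kernel
theorem excl924 : CfsgLib.SmallOrder.singExcluded (19 * 924) [19, 11, 7, 3] = true := by decide +kernel
theorem excl1155 : CfsgLib.SmallOrder.singExcluded (19 * 1155) [19, 11, 7, 5, 3] = true := by decide +kernel
theorem excl1320 : CfsgLib.SmallOrder.singExcluded (19 * 1320) [19, 11, 5, 3] = true := by decide +kernel
theorem excl1540 : CfsgLib.SmallOrder.singExcluded (19 * 1540) [19, 11, 7, 5] = true := by decide +kernel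
theorem excl1848 : CfsgLib.SmallOrder.singExcluded (19 * 1848) [19, 11, 7, 3] = true := by decide +kernel
theorem excl2310 : CfsgLib.SmallOrder.singExcluded (19 * 2310) [19, 11, 7, 5, 3] = true := by decide +kernel
theorem excl3080 : CfsgLib.SmallOrder.singExcluded (19 * 3080) [19, 11, 7, 5] = true := by decide +kernel
theorem excl4620 : CfsgLib.SmallOrder.singExcluded (19 * 4620) [19, 11, 7, 5, 3] = true := by decide +kernel

theorem cands {n : ℕ} (h : n ∣ 9240) (h1 : n % 19 = 1) (h2 : 1 < n) :
    n = 20 ∨ n = 77 ∨ n = 210 ∨ n = 1540 := by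
  have h3 : n ∈ Nat.divisors 9240 := Nat.mem_divisors.2 ⟨h, by norm_num⟩
  have key : ∀ m ∈ Nat.divisors 9240, m % 19 = 1 → 1 < m → m = 20 ∨ m = 77 ∨ m = 210 ∨ m = 1540 := by
    decide +kernel
  exact key n h3 h1 h2

theorem ds_spec : ∀ d ∈ Nat.divisors 9240, d ≠ 9240 →
    (20 ∣ d ∨ 77 ∣ d ∨ 210 ∣ d ∨ 1540 ∣ d) → d ∈ ([20, 40, 60, 77, 120, 140, 154, 210, 220, 231, 280, 308, 385, 420, 440, 462, 616, 660, 770, 840, 924, 1155, 1320, 1540, 1848, 2310, 3080, 4620] : List ℕ) := by
  decide +kernel

/-- No simple group of order `19 * d` for a proper divisor `d` of `9240` has several Sylow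
`19`-subgroups. -/
theorem excluded {X : Type v} [Group X] [Finite X] [IsSimpleGroup X] (hG : ¬ IsMulCommutative X)
    {d : ℕ} (hd : d ∈ ([20, 40, 60, 77, 120, 140, 154, 210, 220, 231, 280, 308, 385, 420, 440, 462, 616, 660, 770, 840, 924, 1155, 1320, 1540, 1848, 2310, 3080, 4620] : List ℕ)) : Nat.card X ≠ 19 * d := by
  simp only [List.mem_cons, List.not_mem_nil, or_false] at hd
  rcases hd with rfl | rfl | rfl | rfl | rfl | rfl | rfl | rfl | rfl | rfl | rfl | rfl | rfl | rfl | rfl | rfl | rfl | rfl | rfl | rfl | rfl | rfl | rfl | rfl | rfl | rfl | rfl | rfl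
  · exact CfsgLib.SmallOrder.card_ne_of_singExcluded hG excl20
  · exact CfsgLib.SmallOrder.card_ne_of_orderExcluded hG excl40
  · exact CfsgLib.SmallOrder.card_ne_of_singExcluded hG excl60
  · exact CfsgLib.SmallOrder.card_ne_of_singExcluded hG excl77
  · exact CfsgLib.SmallOrder.card_ne_of_orderExcluded hG excl120
  · exact CfsgLib.SmallOrder.card_ne_of_singExcluded hG excl140
  · exact CfsgLib.SmallOrder.card_ne_of_singExcluded hG excl154
  · exact CfsgLib.SmallOrder.card_ne_of_singExcluded hG excl210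
  · exact CfsgLib.SmallOrder.card_ne_of_singExcluded hG excl220
  · exact CfsgLib.SmallOrder.card_ne_of_singExcluded hG excl231
  · exact CfsgLib.SmallOrder.card_ne_of_singExcluded hG excl280
  · exact CfsgLib.SmallOrder.card_ne_of_singExcluded hG excl308
  · exact CfsgLib.SmallOrder.card_ne_of_singExcluded hG excl385
  · exact CfsgLib.SmallOrder.card_ne_of_singExcluded hG excl420
  · exact CfsgLib.SmallOrder.card_ne_of_singExcluded hG excl440
  · exact CfsgLib.SmallOrder.card_ne_of_singExcluded hG excl462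
  · exact CfsgLib.SmallOrder.card_ne_of_singExcluded hG excl616
  · exact CfsgLib.SmallOrder.card_ne_of_singExcluded hG excl660
  · exact CfsgLib.SmallOrder.card_ne_of_singExcluded hG excl770
  · exact CfsgLib.SmallOrder.card_ne_of_orderExcluded hG excl840
  · exact CfsgLib.SmallOrder.card_ne_of_singExcluded hG excl924
  · exact CfsgLib.SmallOrder.card_ne_of_singExcluded hG excl1155
  · exact CfsgLib.SmallOrder.card_ne_of_singExcluded hG excl1320
  · exact CfsgLib.SmallOrder.card_ne_of_singExcluded hG excl1540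
  · exact CfsgLib.SmallOrder.card_ne_of_singExcluded hG excl1848
  · exact CfsgLib.SmallOrder.card_ne_of_singExcluded hG excl2310
  · exact CfsgLib.SmallOrder.card_ne_of_singExcluded hG excl3080
  · exact CfsgLib.SmallOrder.card_ne_of_singExcluded hG excl4620

/-- A normal subgroup containing a Sylow subgroup carries all of them. -/
theorem card_sylow_one_of_normal {X : Type v} [Group X] [Finite X] {p : ℕ} [Fact p.Prime]
    (N : Subgroup X) [N.Normal] (hidx : ¬ p ∣ N.index) (h : Nat.card (Sylow p N) = 1) :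
    Nat.card (Sylow p X) = 1 := by
  obtain ⟨P⟩ := (inferInstance : Nonempty (Sylow p N))
  obtain ⟨P0, hP0⟩ : ∃ P0 : Sylow p X, (P0 : Subgroup X) ≤ N := by
    have hS : ¬ p ∣ ((P : Subgroup N).map N.subtype).index := by
      rw [Subgroup.index_map_subtype]
      exact (Fact.out : p.Prime).not_dvd_mul P.not_dvd_index hidx
    exact ⟨(P.2.map _).toSylow hS, Subgroup.map_subtype_le _⟩
  have hall : ∀ Q : Sylow p X, (Q : Subgroup X) ≤ N := by
    intro Q
    obtain ⟨g, rfl⟩ := MulAction.exists_smul_eq X P0 Q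
    rintro _ ⟨x, hx, rfl⟩
    exact (inferInstance : N.Normal).conj_mem x (hP0 hx) g
  refine le_antisymm ?_ Nat.card_pos
  rw [← h]
  exact Nat.card_le_card_of_injective (fun Q => Q.subtype (hall Q))
    fun Q R e => Sylow.subtype_injective e

theorem index_mul {X : Type v} [Group X] [Finite X] (N : Subgroup X) :
    Nat.card N * N.index = Nat.card X := N.card_mul_index

/-- The induction step. -/
theorem step {X : Type v} [Group X] [Finite X] {d : ℕ} (hd : d ∣ 9240) (hX : Nat.card X = 19 * d)
    (hs : ¬ IsSimpleGroup X)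
    (ih : ∀ d' < d, d' ∣ 9240 → ∀ (Y : Type v) [Group Y] [Finite Y], Nat.card Y = 19 * d' →
      Nat.card (Sylow 19 Y) = 1) : Nat.card (Sylow 19 X) = 1 := by
  classical
  haveI : Fact (Nat.Prime 19) := ⟨by norm_num⟩
  haveI : Nontrivial X := Finite.one_lt_card_iff_nontrivial.1 (by
    have hd0 : d ≠ 0 := fun h => by rw [h] at hd; norm_num at hd
    omega)
  have h19 : ¬ 19 ∣ d := fun h => absurd (h.trans hd) (by norm_num)
  obtain ⟨N, hN, hN1, hN2⟩ : ∃ N : Subgroup X, N.Normal ∧ N ≠ ⊥ ∧ N ≠ ⊤ := by
    by_contra hcon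
    push Not at hcon
    exact hs ⟨fun N hN => or_iff_not_imp_left.mpr fun h => hcon N hN h⟩
  have hmul := index_mul N
  rw [hX] at hmul
  by_cases h : 19 ∣ Nat.card N
  · obtain ⟨d', hd'⟩ := h
    rw [hd', mul_assoc] at hmul
    have hmul' : d' * N.index = d := Nat.eq_of_mul_eq_mul_left (by norm_num) hmul
    have hi : 1 < N.index := Nat.one_lt_iff_ne_zero_and_ne_one.2
      ⟨Subgroup.index_ne_zero_of_finite, fun h => hN2 (Subgroup.index_eq_one.1 h)⟩
    have hd'0 : 0 < d' := by
      rcases Nat.eq_zero_or_pos d' with h0 | h0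
      · rw [h0] at hd'; exact absurd hd' (by simpa using Nat.card_pos.ne')
      · exact h0
    refine card_sylow_one_of_normal N (fun h' => h19 (h'.trans (Dvd.intro_left _ hmul'))) ?_
    refine ih d' ?_ ((Dvd.intro _ hmul').trans hd) N hd'
    calc d' = d' * 1 := (mul_one _).symm
      _ < d' * N.index := Nat.mul_lt_mul_of_pos_left hi hd'0
      _ = d := hmul'
  -- the quotient
  have hco : Nat.Coprime 19 (Nat.card N) := (Nat.Prime.coprime_iff_not_dvd (by norm_num)).2 h
  obtain ⟨d', hd'⟩ : 19 ∣ N.index := hco.dvd_of_dvd_mul_left (Dvd.intro _ hmul.symm)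
  rw [hd', mul_left_comm] at hmul
  have hmul' : Nat.card N * d' = d := Nat.eq_of_mul_eq_mul_left (by norm_num) hmul
  have hcN : 1 < Nat.card N := N.one_lt_card_iff_ne_bot.2 hN1
  have hd'0 : 0 < d' := by
    rcases Nat.eq_zero_or_pos d' with h0 | h0
    · exact absurd (h0 ▸ hd') (by simpa using Subgroup.index_ne_zero_of_finite)
    · exact h0
  have hd'lt : d' < d := by
    calc d' = 1 * d' := (one_mul _).symm
      _ < Nat.card N * d' := Nat.mul_lt_mul_of_pos_right hcN hd'0
      _ = d := hmul'
  have hq := ih d' hd'lt ((Dvd.intro_left _ hmul').trans hd) (X ⧸ N) (by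
    rw [← hd']; rfl)
  haveI : Subsingleton (Sylow 19 (X ⧸ N)) := (Nat.card_eq_one_iff_unique.1 hq).1
  set π := QuotientGroup.mk' N with hπ
  obtain ⟨P⟩ := (inferInstance : Nonempty (Sylow 19 X))
  set M := ((P : Subgroup X).map π).comap π with hM
  have hMn : M.Normal := by
    have : ((P : Subgroup X).map π).Normal := by
      have e := P.coe_mapSurjective (QuotientGroup.mk'_surjective N)
      rw [← e]
      exact Sylow.normal_of_subsingleton _
    exact this.comap π
  have hPM : (P : Subgroup X) ≤ M := Subgroup.le_comap_map π _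
  have hP : Nat.card (P : Subgroup X) = 19 := by
    simpa using CfsgLib.SmallOrder.card_sylow_eq (e := 1) (m := d) (by rw [pow_one]; exact hX) h19 P
  by_cases hMtop : M = ⊤
  · -- `X = P N`
    obtain ⟨-, hn1, -⟩ : Nat.card (Sylow 19 X) ∣ d ∧ Nat.card (Sylow 19 X) % 19 = 1 ∧ True := by
      refine ⟨?_, ?_, trivial⟩
      · have e := (P : Subgroup X).card_mul_index
        rw [hP, hX] at e
        exact Nat.eq_of_mul_eq_mul_left (by norm_num) e ▸ P.card_dvd_index
      · exact card_sylow_modEq_one 19 X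
    have hnd : Nat.card (Sylow 19 X) ∣ d := by
      have e := (P : Subgroup X).card_mul_index
      rw [hP, hX] at e
      exact Nat.eq_of_mul_eq_mul_left (by norm_num) e ▸ P.card_dvd_index
    have hMle : M ≤ (P : Subgroup X) ⊔ N := by
      rw [hM, Subgroup.comap_map_eq, hπ, QuotientGroup.ker_mk']
    have hNd : Nat.card N = d := by
      have h1 := CfsgLib.Components.card_sup_dvd (A := (P : Subgroup X)) (B := N)
        (by rw [Subgroup.normalizer_eq_top (H := N)]; exact le_top)
      rw [show (P : Subgroup X) ⊔ N = ⊤ from top_le_iff.1 (hMtop ▸ hMle), Subgroup.card_top, hX, hP] at h1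
      exact Nat.dvd_antisymm (Dvd.intro _ hmul') (Nat.dvd_of_mul_dvd_mul_left (by norm_num) h1)
    by_contra hn
    obtain ⟨q, hq', hqn⟩ := Nat.exists_prime_and_dvd hn
    haveI := Fact.mk hq'
    have hq19 : q ≠ 19 := fun e => h19 (e ▸ hqn.trans hnd)
    -- a Sylow `q`-subgroup normalised by a subgroup of order `19`
    obtain ⟨Q0⟩ := (inferInstance : Nonempty (Sylow q N))
    set Q : Subgroup X := (Q0 : Subgroup N).map N.subtype with hQdef
    have hfr : Subgroup.normalizer (Q : Set X) ⊔ N = ⊤ := Sylow.normalizer_sup_eq_top Q0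
    have h19N : 19 ∣ Nat.card (Subgroup.normalizer (Q : Set X)) := by
      have h1 := CfsgLib.Components.card_sup_dvd (A := Subgroup.normalizer (Q : Set X)) (B := N)
        (by rw [Subgroup.normalizer_eq_top (H := N)]; exact le_top)
      rw [hfr, Subgroup.card_top, hX, hNd] at h1
      exact Nat.dvd_of_mul_dvd_mul_right (Nat.pos_of_ne_zero fun h => by
        rw [h] at hd; norm_num at hd) h1
    obtain ⟨⟨y, hy⟩, hyo⟩ := exists_prime_orderOf_dvd_card' 19 h19N
    rw [Subgroup.orderOf_mk] at hyo
    set R := Subgroup.zpowers y with hR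
    have hRc : Nat.card R = 19 := by rw [Nat.card_zpowers, hyo]
    have hRQ : R ≤ Subgroup.normalizer (Q : Set X) := Subgroup.zpowers_le.2 hy
    obtain ⟨j, hj⟩ := IsPGroup.iff_card.1 Q0.2
    have hQc : Nat.card Q = q ^ j := by
      rw [hQdef, Subgroup.card_map_of_injective N.subtype_injective, hj]
    have hqd : q ^ j ∣ d := hj ▸ hNd ▸ Subgroup.card_subgroup_dvd_card _
    have hndQ : ¬ q ∣ d / q ^ j := by
      have e := (Q0 : Subgroup N).card_mul_index
      rw [hj, hNd] at e
      rw [← e, Nat.mul_div_cancel_left _ (pow_pos hq'.pos j)]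
      exact Q0.not_dvd_index
    have hj1 : j ≠ 0 := fun h0 => by
      rw [h0, pow_zero, Nat.div_one] at hndQ
      exact hndQ (hqn.trans hnd)
    -- `q ^ j` is not `d`
    have hlt : q ^ j < d := by
      refine lt_of_le_of_ne (Nat.le_of_dvd (Nat.pos_of_ne_zero fun h => by
        rw [h] at hd; norm_num at hd) hqd) fun e => ?_
      obtain ⟨i, -, hi⟩ := (Nat.dvd_prime_pow hq').1 (e ▸ hnd)
      have h0 : 1 < Nat.card (Sylow 19 X) := lt_of_le_of_ne Nat.card_pos (Ne.symm hn)
      rcases cands (hnd.trans hd) hn1 h0 with hc | hc | hc | hc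
      · rw [hc] at hi
        have b1 : q = 2 := ((Nat.prime_dvd_prime_iff_eq Nat.prime_two hq').1
          (Nat.prime_two.dvd_of_dvd_pow (hi ▸ (by norm_num : 2 ∣ 20)))).symm
        have b2 : q = 5 := ((Nat.prime_dvd_prime_iff_eq (by norm_num) hq').1
          ((show Nat.Prime 5 by norm_num).dvd_of_dvd_pow (hi ▸ (by norm_num : 5 ∣ 20)))).symm
        omega
      · rw [hc] at hi
        have b1 : q = 7 := ((Nat.prime_dvd_prime_iff_eq (by norm_num) hq').1
          ((show Nat.Prime 7 by norm_num).dvd_of_dvd_pow (hi ▸ (by norm_num : 7 ∣ 77)))).symm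
        have b2 : q = 11 := ((Nat.prime_dvd_prime_iff_eq (by norm_num) hq').1
          ((show Nat.Prime 11 by norm_num).dvd_of_dvd_pow (hi ▸ (by norm_num : 11 ∣ 77)))).symm
        omega
      · rw [hc] at hi
        have b1 : q = 2 := ((Nat.prime_dvd_prime_iff_eq Nat.prime_two hq').1
          (Nat.prime_two.dvd_of_dvd_pow (hi ▸ (by norm_num : 2 ∣ 210)))).symm
        have b2 : q = 5 := ((Nat.prime_dvd_prime_iff_eq (by norm_num) hq').1
          ((show Nat.Prime 5 by norm_num).dvd_of_dvd_pow (hi ▸ (by norm_num : 5 ∣ 210)))).symm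
        omega
      · rw [hc] at hi
        have b1 : q = 2 := ((Nat.prime_dvd_prime_iff_eq Nat.prime_two hq').1
          (Nat.prime_two.dvd_of_dvd_pow (hi ▸ (by norm_num : 2 ∣ 1540)))).symm
        have b2 : q = 5 := ((Nat.prime_dvd_prime_iff_eq (by norm_num) hq').1
          ((show Nat.Prime 5 by norm_num).dvd_of_dvd_pow (hi ▸ (by norm_num : 5 ∣ 1540)))).symm
        omega
    set H := R ⊔ Q with hH
    have hHc : Nat.card H = 19 * q ^ j := by
      refine Nat.dvd_antisymm ?_ ?_
      · rw [← hRc, ← hQc]; exact CfsgLib.Components.card_sup_dvd hRQ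
      · refine Nat.Coprime.mul_dvd_of_dvd_of_dvd
          (((Nat.coprime_primes (by norm_num) hq').2 hq19.symm).pow_right j) ?_ ?_
        · rw [← hRc]; exact Subgroup.card_dvd_of_le le_sup_left
        · rw [← hQc]; exact Subgroup.card_dvd_of_le le_sup_right
    haveI : Subsingleton (Sylow 19 H) :=
      (Nat.card_eq_one_iff_unique.1 (ih (q ^ j) hlt (hqd.trans hd) H hHc)).1
    obtain ⟨PR, hPR⟩ := (IsPGroup.of_card (p := 19) (n := 1) (G := R)
      (by rw [hRc, pow_one])).exists_le_sylow
    have hPRe : R = (PR : Subgroup X) := Subgroup.eq_of_le_of_card_ge hPR (by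
      rw [hRc, PR.card_eq_multiplicity, ← P.card_eq_multiplicity, hP])
    have hPRH : (PR : Subgroup X) ≤ H := hPRe ▸ le_sup_left
    have hQn : Q ≤ Subgroup.normalizer ((PR : Subgroup X) : Set X) := by
      intro x hx
      have hn' : ((PR.subtype hPRH : Sylow 19 H) : Subgroup H).Normal := Sylow.normal_of_subsingleton _
      rw [Sylow.coe_subtype] at hn'
      haveI := hn'
      exact Subgroup.le_normalizer_of_normal_subgroupOf hPRH (Subgroup.mem_sup_right hx)
    have hdiv : q ^ j ∣ Nat.card (Subgroup.normalizer ((PR : Subgroup X) : Set X)) :=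
      hQc ▸ Subgroup.card_dvd_of_le hQn
    have h5 := CfsgLib.SmallOrder.card_normalizer_mul PR
    rw [hX] at h5
    obtain ⟨k, hk⟩ := hdiv
    obtain ⟨l, hl⟩ := hqn
    have h6 : q ^ j * q ∣ 19 * d := ⟨k * l, by rw [← h5, hk, hl]; ring⟩
    have h7 : q ^ j * q ∣ d :=
      Nat.Coprime.dvd_of_dvd_mul_left (Nat.Coprime.mul_left
        (((Nat.coprime_primes hq' (by norm_num)).2 hq19).pow_left j)
        ((Nat.coprime_primes hq' (by norm_num)).2 hq19)) h6
    exact hndQ (Nat.dvd_div_of_mul_dvd h7)
  -- a proper normal subgroup containing the Sylow subgroup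
  have hMi : ¬ 19 ∣ M.index := fun h' => P.not_dvd_index (h'.trans (Subgroup.index_dvd_of_le hPM))
  refine card_sylow_one_of_normal M hMi ?_
  have hmulM := index_mul M
  obtain ⟨c, hc⟩ : 19 ∣ Nat.card M := hP ▸ Subgroup.card_dvd_of_le hPM
  rw [hX, hc, mul_assoc] at hmulM
  have hmulM' : c * M.index = d := Nat.eq_of_mul_eq_mul_left (by norm_num) hmulM
  have hi : 1 < M.index := Nat.one_lt_iff_ne_zero_and_ne_one.2
    ⟨Subgroup.index_ne_zero_of_finite, fun h => hMtop (Subgroup.index_eq_one.1 h)⟩
  have hc0 : 0 < c := by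
    rcases Nat.eq_zero_or_pos c with h0 | h0
    · rw [h0] at hc; exact absurd hc (by simpa using Nat.card_pos.ne')
    · exact h0
  refine ih c ?_ ((Dvd.intro _ hmulM').trans hd) M hc
  calc c = c * 1 := (mul_one _).symm
    _ < c * M.index := Nat.mul_lt_mul_of_pos_left hi hc0
    _ = d := hmulM'

/-- Groups of order `19 * d`, `d` a proper divisor of `9240`. -/
theorem card_sylow_eq_one : ∀ d : ℕ, d ∣ 9240 → d ≠ 9240 → ∀ (X : Type v) [Group X] [Finite X],
    Nat.card X = 19 * d → Nat.card (Sylow 19 X) = 1 := by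
  intro d
  induction d using Nat.strong_induction_on with
  | _ d ih =>
    intro hd hne X _ _ hX
    haveI : Fact (Nat.Prime 19) := ⟨by norm_num⟩
    by_contra hn
    by_cases hs : IsSimpleGroup X
    · obtain ⟨P⟩ := (inferInstance : Nonempty (Sylow 19 X))
      have h19 : ¬ 19 ∣ d := fun h => absurd (h.trans hd) (by norm_num)
      have hnd : Nat.card (Sylow 19 X) ∣ d := by
        have e := (P : Subgroup X).card_mul_index
        rw [CfsgLib.SmallOrder.card_sylow_eq (e := 1) (m := d) (by rw [pow_one]; exact hX) h19 P,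
          hX, pow_one] at e
        exact Nat.eq_of_mul_eq_mul_left (by norm_num) e ▸ P.card_dvd_index
      have h1 : 1 < Nat.card (Sylow 19 X) := lt_of_le_of_ne Nat.card_pos (Ne.symm hn)
      have hmod : Nat.card (Sylow 19 X) % 19 = 1 := card_sylow_modEq_one 19 X
      have hd1 : 1 < d := lt_of_lt_of_le h1 (Nat.le_of_dvd (Nat.pos_of_ne_zero fun h => by
        rw [h] at hd; norm_num at hd) hnd)
      have hnc : ¬ IsMulCommutative X := CfsgLib.SmallOrder.not_comm_of_not_prime (by
        rw [hX]; exact Nat.not_prime_mul (by norm_num) (by omega))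
      refine excluded hnc (ds_spec d (Nat.mem_divisors.2 ⟨hd, by norm_num⟩) hne ?_) hX
      rcases cands (hnd.trans hd) hmod h1 with e | e | e | e <;> rw [e] at hnd
      exacts [Or.inl hnd, Or.inr (Or.inl hnd), Or.inr (Or.inr (Or.inl hnd)),
        Or.inr (Or.inr (Or.inr hnd))]
    · exact hn (step hd hX hs fun d' hlt hd' Y _ _ hY => ih d' hlt hd' (by
        have := Nat.le_of_dvd (by norm_num) hd
        omega) Y hY)

/-- A finite group of order 175560 = 2³·3·5·7·11·19 is either simple or has a normal Sylow 19-subgroup. -/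
theorem result {G : Type*} [Group G] [Finite G] (hG : Nat.card G = 175560) : IsSimpleGroup G ∨ ∀ P : Sylow 19 G, (P : Subgroup G).Normal := by
  refine or_iff_not_imp_left.mpr fun hs => ?_
  have h := step (d := 9240) dvd_rfl (by rw [hG]) hs fun d' hlt hd' Y _ _ hY =>
    card_sylow_eq_one d' hd' (by omega) Y hY
  haveI : Fact (Nat.Prime 19) := ⟨by norm_num⟩
  haveI : Subsingleton (Sylow 19 G) := (Nat.card_eq_one_iff_unique.1 h).1
  exact fun P => Sylow.normal_of_subsingleton P

end Cfsg.Agent.S4274
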