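import Mathlib

import Cfsg.Statements.S4275

set_option autoImplicit false
open Cfsg

namespace Cfsg.Agent.S4275

/-- Let G be a transitive group of permutations of a finite set Ω, let o ∈ Ω, and let α be an automorphism of G. Then α is induced by conjugation by a permutation of Ω normalizing G if and only if the image under α of the stabilizer of o fixes some point of Ω. -/
theorem result {Ω : Type*} [Fintype Ω] (G : Subgroup (Equiv.Perm Ω)) (htr : MulAction.IsPretransitive G Ω) (o : Ω) (α : G ≃* G) : (∃ σ : Equiv.Perm Ω, σ ∈ Subgroup.normalizer (G : Set (Equiv.Perm Ω)) ∧ ∀ g : G, ((α g : G) : Equiv.Perm Ω) = σ * (g : Equiv.Perm Ω) * σ⁻¹) ↔ ∃ ω : Ω, ∀ g ∈ (MulAction.stabilizer G o).map α.toMonoidHom, g • ω = ω := by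
  classical
  have hst : ∀ g : G, g ∈ MulAction.stabilizer G o ↔ (g : Equiv.Perm Ω) o = o := fun g => Iff.rfl
  constructor
  · rintro ⟨σ, -, hσ⟩
    refine ⟨σ o, ?_⟩
    rintro _ ⟨g, hg, rfl⟩
    show ((α g : G) : Equiv.Perm Ω) (σ o) = σ o
    rw [hσ]
    simp [(hst g).1 hg]
  · rintro ⟨ω, hω⟩
    have hrep : ∀ y : Ω, ∃ g : G, (g : Equiv.Perm Ω) o = y := fun y => htr.exists_smul_eq o y
    choose r hr using hrep
    let f : Ω → Ω := fun y => ((α (r y) : G) : Equiv.Perm Ω) ω
    have hwell : ∀ g : G, ((α g : G) : Equiv.Perm Ω) ω = f ((g : Equiv.Perm Ω) o) := by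
      intro g
      set y := (g : Equiv.Perm Ω) o
      have hmem : (r y)⁻¹ * g ∈ MulAction.stabilizer G o := by
        rw [hst]
        show (((r y : G) : Equiv.Perm Ω))⁻¹ ((g : Equiv.Perm Ω) o) = o
        rw [Equiv.Perm.inv_eq_iff_eq, hr]
      have h := hω (α ((r y)⁻¹ * g)) ⟨_, hmem, rfl⟩
      have e : α g = α (r y) * α ((r y)⁻¹ * g) := by rw [← map_mul, mul_inv_cancel_left]
      rw [e]
      show ((α (r y) : G) : Equiv.Perm Ω) (((α ((r y)⁻¹ * g) : G) : Equiv.Perm Ω) ω) = f y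
      rw [show ((α ((r y)⁻¹ * g) : G) : Equiv.Perm Ω) ω = ω from h]
    have heq : ∀ (g : G) (y : Ω), f ((g : Equiv.Perm Ω) y) = ((α g : G) : Equiv.Perm Ω) (f y) := by
      intro g y
      conv_lhs => rw [← hr y]
      rw [show (g : Equiv.Perm Ω) (((r y : G) : Equiv.Perm Ω) o) = ((g * r y : G) : Equiv.Perm Ω) o from rfl,
        ← hwell, map_mul]
      rfl
    have hsurj : Function.Surjective f := by
      intro z
      obtain ⟨g, hg⟩ := htr.exists_smul_eq (f o) z
      refine ⟨((α.symm g : G) : Equiv.Perm Ω) o, ?_⟩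
      rw [heq, MulEquiv.apply_symm_apply]
      exact hg
    let σ : Equiv.Perm Ω := Equiv.ofBijective f (Finite.injective_iff_bijective.1
      (Finite.injective_iff_surjective.2 hsurj))
    have hσ : ∀ g : G, ((α g : G) : Equiv.Perm Ω) = σ * (g : Equiv.Perm Ω) * σ⁻¹ := by
      intro g
      rw [eq_mul_inv_iff_mul_eq]
      ext y
      exact (heq g y).symm
    refine ⟨σ, ?_, hσ⟩
    rw [Subgroup.mem_normalizer_iff]
    intro p
    constructor
    · intro hp
      have e := hσ ⟨p, hp⟩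
      show σ * p * σ⁻¹ ∈ G
      rw [← e]; exact (α ⟨p, hp⟩).2
    · intro hp
      have h1 := hσ (α.symm ⟨σ * p * σ⁻¹, hp⟩)
      rw [MulEquiv.apply_symm_apply] at h1
      have h2 : p = ((α.symm ⟨σ * p * σ⁻¹, hp⟩ : G) : Equiv.Perm Ω) := by
        exact mul_left_cancel (mul_right_cancel h1)
      rw [h2]; exact SetLike.coe_mem _

end Cfsg.Agent.S4275
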