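import Cfsg.Statements.S4276


set_option autoImplicit false
open Cfsg

namespace Cfsg.Agent.S4276

open Matrix

section

variable {Ω : Type*} [Fintype Ω] [DecidableEq Ω] {G : Subgroup (Equiv.Perm Ω)}

/-- All-one matrix. -/
def J (Ω : Type*) : Matrix Ω Ω ℤ := fun _ _ => 1

/-- Matrices intertwining the natural action with its twist by an automorphism. -/
def Twist (β : MulAut G) (A : Matrix Ω Ω ℤ) : Prop :=
  ∀ (g : G) (p q : Ω), A (((β g : G) : Equiv.Perm Ω) p) ((g : Equiv.Perm Ω) q) = A p q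

theorem twist_mul {β γ : MulAut G} {A B : Matrix Ω Ω ℤ} (hA : Twist β A) (hB : Twist γ B) :
    Twist (β * γ) (A * B) := by
  intro g p q
  rw [Matrix.mul_apply, Matrix.mul_apply, ← Equiv.sum_comp ((γ g : G) : Equiv.Perm Ω)]
  refine Finset.sum_congr rfl fun r _ => ?_
  rw [MulAut.mul_apply, hA, hB]

theorem twist_one : Twist (1 : MulAut G) (1 : Matrix Ω Ω ℤ) := by
  intro g p q
  rw [MulAut.one_apply, Matrix.one_apply, Matrix.one_apply]
  simp

theorem twist_pow {β : MulAut G} {A : Matrix Ω Ω ℤ} (hA : Twist β A) (j : ℕ) : Twist (β ^ j) (A ^ j) := by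
  induction j with
  | zero => rw [pow_zero, pow_zero]; exact twist_one
  | succ j ih => rw [pow_succ, pow_succ]; exact twist_mul ih hA

theorem twist_transpose_mul {β : MulAut G} {A : Matrix Ω Ω ℤ} (hA : Twist β A) :
    Twist (1 : MulAut G) (Aᵀ * A) := by
  intro g p q
  rw [Matrix.mul_apply, Matrix.mul_apply, ← Equiv.sum_comp ((β g : G) : Equiv.Perm Ω)]
  refine Finset.sum_congr rfl fun r _ => ?_
  rw [MulAut.one_apply, Matrix.transpose_apply, Matrix.transpose_apply, hA, hA]

theorem twist_one_form (h2 : MulAction.IsMultiplyPretransitive G Ω 2) {o o' : Ω} (ho : o ≠ o')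
    {A : Matrix Ω Ω ℤ} (hA : Twist (1 : MulAut G) A) :
    A = (A o o - A o o') • (1 : Matrix Ω Ω ℤ) + A o o' • J Ω := by
  haveI : MulAction.IsPretransitive G Ω := MulAction.isPretransitive_of_is_two_pretransitive
  ext p q
  rw [Matrix.add_apply, Matrix.smul_apply, Matrix.smul_apply, Matrix.one_apply]
  by_cases hpq : p = q
  · subst hpq
    obtain ⟨g, hg⟩ := MulAction.exists_smul_eq G o p
    have := hA g o o
    rw [MulAut.one_apply, show (g : Equiv.Perm Ω) o = p from hg] at this
    simp [J, this]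
  · obtain ⟨g, hg, hg'⟩ := MulAction.is_two_pretransitive_iff.1 h2 ho hpq
    have := hA g o o'
    rw [MulAut.one_apply, show (g : Equiv.Perm Ω) o = p from hg, show (g : Equiv.Perm Ω) o' = q from hg'] at this
    simp [J, hpq, this]

theorem J_mul_J : J Ω * J Ω = (Fintype.card Ω : ℤ) • J Ω := by
  ext p q
  simp [Matrix.mul_apply, J]

theorem J_transpose : (J Ω)ᵀ = J Ω := rfl

end

/-- The incidence number is extreme. -/
theorem orbit_size {Ω : Type*} [Fintype Ω] (G : Subgroup (Equiv.Perm Ω))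
    (h2 : MulAction.IsMultiplyPretransitive G Ω 2) (o : Ω) (α : MulAut G) (hα : Odd (orderOf α)) (ω : Ω)
    (k : ℕ) (hkdef : Nat.card (MulAction.orbit ((MulAction.stabilizer G o).map α.toMonoidHom) ω) = k)
    (hk : k.Coprime (Fintype.card Ω)) : k = 1 ∨ k = Fintype.card Ω - 1 := by
  classical
  haveI : MulAction.IsPretransitive G Ω := MulAction.isPretransitive_of_is_two_pretransitive
  set n := Fintype.card Ω with hn
  have hk0 : 0 < k := by
    rw [← hkdef]
    haveI : Nonempty (MulAction.orbit ((MulAction.stabilizer G o).map α.toMonoidHom) ω) := ⟨⟨ω, MulAction.mem_orbit_self ω⟩⟩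
    exact Nat.card_pos
  have hkn : k ≤ n := by
    rw [← hkdef, hn, ← Nat.card_eq_fintype_card]
    exact Nat.card_le_card_of_injective Subtype.val Subtype.val_injective
  by_contra hcon
  push Not at hcon
  have hk2 : 2 ≤ k := by omega
  have hkn2 : k + 2 ≤ n := by
    by_contra h
    have : k = n := by omega
    rw [this, Nat.coprime_self] at hk
    omega
  obtain ⟨o', ho'⟩ := Fintype.exists_ne_of_one_lt_card (show 1 < Fintype.card Ω by omega) o
  let M : Matrix Ω Ω ℤ := fun p q =>
    if ∃ g : G, ((α g : G) : Equiv.Perm Ω) ω = p ∧ (g : Equiv.Perm Ω) o = q then 1 else 0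
  have hM : Twist α M := by
    intro g p q
    refine if_congr ⟨?_, ?_⟩ rfl rfl
    · rintro ⟨h, h1, h2⟩
      refine ⟨g⁻¹ * h, ?_, ?_⟩
      · rw [map_mul, map_inv, Subgroup.coe_mul, Subgroup.coe_inv, Equiv.Perm.mul_apply, h1, Equiv.Perm.inv_eq_iff_eq]
      · rw [Subgroup.coe_mul, Subgroup.coe_inv, Equiv.Perm.mul_apply, h2, Equiv.Perm.inv_eq_iff_eq]
    · rintro ⟨h, h1, h2⟩
      refine ⟨g * h, ?_, ?_⟩
      · rw [map_mul, Subgroup.coe_mul, Equiv.Perm.mul_apply, h1]
      · rw [Subgroup.coe_mul, Equiv.Perm.mul_apply, h2]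
  have hcol0 : ∑ p, M p o = (k : ℤ) := by
    rw [Finset.sum_boole, ← hkdef]
    norm_cast
    rw [Nat.card_eq_card_toFinset]
    congr 1
    ext p
    simp only [Finset.mem_filter, Finset.mem_univ, true_and, Set.mem_toFinset, MulAction.mem_orbit_iff]
    constructor
    · rintro ⟨g, h1, h2⟩
      exact ⟨⟨α g, Subgroup.mem_map_of_mem _ (MulAction.mem_stabilizer_iff.2 h2)⟩, h1⟩
    · rintro ⟨⟨_, g, hg, rfl⟩, h1⟩
      exact ⟨g, h1, MulAction.mem_stabilizer_iff.1 hg⟩
  have hcol : ∀ q, ∑ p, M p q = (k : ℤ) := by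
    intro q
    obtain ⟨g, hg⟩ := MulAction.exists_smul_eq G o q
    rw [← Equiv.sum_comp ((α g : G) : Equiv.Perm Ω), ← show (g : Equiv.Perm Ω) o = q from hg, ← hcol0]
    exact Finset.sum_congr rfl fun p _ => hM g p o
  have hrow' : ∀ p p', ∑ q, M p q = ∑ q, M p' q := by
    intro p p'
    obtain ⟨g, hg⟩ := MulAction.exists_smul_eq G p p'
    obtain ⟨g, rfl⟩ := α.surjective g
    rw [← show ((α g : G) : Equiv.Perm Ω) p = p' from hg,
      ← Equiv.sum_comp (g : Equiv.Perm Ω) (M (((α g : G) : Equiv.Perm Ω) p))]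
    exact (Finset.sum_congr rfl fun q _ => hM g p q).symm
  have hrow : ∀ p, ∑ q, M p q = (k : ℤ) := by
    intro p
    have h1 : ∑ p', ∑ q, M p' q = (n : ℤ) * ∑ q, M p q := by
      rw [Finset.sum_congr rfl fun p' _ => hrow' p' p, Finset.sum_const, Finset.card_univ, ← hn, nsmul_eq_mul]
    rw [Finset.sum_comm, Finset.sum_congr rfl fun q _ => hcol q, Finset.sum_const, Finset.card_univ, ← hn,
      nsmul_eq_mul] at h1
    exact (mul_left_cancel₀ (by exact_mod_cast (show n ≠ 0 by omega)) h1).symm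
  have hMJ : M * J Ω = (k : ℤ) • J Ω := by
    ext p q
    simpa [Matrix.mul_apply, J] using hrow p
  have hJM : J Ω * M = (k : ℤ) • J Ω := by
    ext p q
    simpa [Matrix.mul_apply, J] using hcol q
  have hJMt : J Ω * Mᵀ = (k : ℤ) • J Ω := by
    have := congrArg Matrix.transpose hMJ
    rwa [Matrix.transpose_mul, Matrix.transpose_smul, J_transpose] at this
  have hMtJ : Mᵀ * J Ω = (k : ℤ) • J Ω := by
    have := congrArg Matrix.transpose hJM
    rwa [Matrix.transpose_mul, Matrix.transpose_smul, J_transpose] at this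
  obtain ⟨m, l, hMM⟩ : ∃ m l : ℤ, Mᵀ * M = m • (1 : Matrix Ω Ω ℤ) + l • J Ω :=
    ⟨_, _, twist_one_form h2 ho'.symm (twist_transpose_mul hM)⟩
  have hml : m + l = (k : ℤ) := by
    have h1 := congrFun (congrFun hMM o) o
    rw [Matrix.mul_apply] at h1
    simp only [Matrix.transpose_apply, Matrix.add_apply, Matrix.smul_apply, Matrix.one_apply_eq, J,
      smul_eq_mul, mul_one] at h1
    rw [← h1, ← hcol0]
    exact Finset.sum_congr rfl fun p _ => by by_cases h : ∃ g : G, ((α g : G) : Equiv.Perm Ω) ω = p ∧ (g : Equiv.Perm Ω) o = o <;> simp [M, h]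
  have hkk : m + (n : ℤ) * l = (k : ℤ) * k := by
    have h0 : Mᵀ * M * J Ω = (m • (1 : Matrix Ω Ω ℤ) + l • J Ω) * J Ω := by rw [hMM]
    rw [Matrix.mul_assoc, hMJ, Matrix.mul_smul, hMtJ, Matrix.add_mul, Matrix.smul_mul, Matrix.smul_mul, one_mul,
      J_mul_J] at h0
    have h1 := congrFun (congrFun h0 o) o
    simp only [Matrix.smul_apply, Matrix.add_apply, J, smul_eq_mul, mul_one] at h1
    rw [← hn] at h1
    linarith
  have hl0 : 0 ≤ l := by
    have h1 := congrFun (congrFun hMM o) o'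
    rw [Matrix.mul_apply] at h1
    simp only [Matrix.transpose_apply, Matrix.add_apply, Matrix.smul_apply, Matrix.one_apply_ne ho'.symm, J,
      smul_eq_mul, mul_one, mul_zero, zero_add] at h1
    rw [← h1]
    exact Finset.sum_nonneg fun p _ => mul_nonneg (by simp only [M]; split <;> norm_num) (by simp only [M]; split <;> norm_num)
  have hpows : ∀ j : ℕ, ∃ c : ℤ, (M ^ j)ᵀ * M ^ j = (m ^ j) • (1 : Matrix Ω Ω ℤ) + c • J Ω := by
    intro j
    induction j with
    | zero => exact ⟨0, by simp⟩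
    | succ j ih =>
      obtain ⟨c, hc⟩ := ih
      refine ⟨m ^ j * l + c * ((k : ℤ) * k), ?_⟩
      rw [pow_succ M j, Matrix.transpose_mul, Matrix.mul_assoc, ← Matrix.mul_assoc (M ^ j)ᵀ, hc,
        Matrix.add_mul, Matrix.mul_add, Matrix.smul_mul, Matrix.mul_smul, one_mul, hMM, Matrix.smul_mul,
        Matrix.mul_smul, hJM, Matrix.mul_smul, hMtJ]
      simp only [smul_add, smul_smul, add_smul, pow_succ]
      abel
  set N := orderOf α with hN
  have hTN : Twist (1 : MulAut G) (M ^ N) := by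
    have := twist_pow hM N
    rwa [hN, pow_orderOf_eq_one] at this
  obtain ⟨a, b, hab⟩ : ∃ a b : ℤ, M ^ N = a • (1 : Matrix Ω Ω ℤ) + b • J Ω :=
    ⟨_, _, twist_one_form h2 ho'.symm hTN⟩
  have hkN : (k : ℤ) ^ N = a + b * n := by
    have h1 : ∀ j : ℕ, M ^ j * J Ω = ((k : ℤ) ^ j) • J Ω := by
      intro j
      induction j with
      | zero => simp
      | succ j ih => rw [pow_succ, Matrix.mul_assoc, hMJ, Matrix.mul_smul, ih, smul_smul, pow_succ']
    have h0 : M ^ N * J Ω = (a • (1 : Matrix Ω Ω ℤ) + b • J Ω) * J Ω := by rw [hab]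
    rw [h1, Matrix.add_mul, Matrix.smul_mul, Matrix.smul_mul, one_mul, J_mul_J] at h0
    have h2 := congrFun (congrFun h0 o) o
    simp only [Matrix.smul_apply, Matrix.add_apply, J, smul_eq_mul, mul_one] at h2
    rw [← hn] at h2
    exact h2
  obtain ⟨c, hc⟩ := hpows N
  have ha : a ^ 2 = m ^ N := by
    rw [hab, Matrix.transpose_add, Matrix.transpose_smul, Matrix.transpose_smul, Matrix.transpose_one, J_transpose] at hc
    simp only [Matrix.add_mul, Matrix.mul_add, Matrix.smul_mul, Matrix.mul_smul, one_mul, mul_one, J_mul_J,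
      smul_smul] at hc
    have e1 := congrFun (congrFun hc o) o
    have e2 := congrFun (congrFun hc o) o'
    simp only [Matrix.add_apply, Matrix.smul_apply, Matrix.one_apply_eq, Matrix.one_apply_ne ho'.symm, J,
      smul_eq_mul, mul_one, mul_zero, zero_add] at e1 e2
    rw [sq]; linarith
  obtain ⟨j, hj⟩ := hα
  have hn1 : (0 : ℤ) < (n : ℤ) - 1 := by omega
  have hk2' : (2 : ℤ) ≤ k := by exact_mod_cast hk2
  have hkn' : (k : ℤ) + 2 ≤ n := by exact_mod_cast hkn2
  have hl' : l * ((n : ℤ) - 1) = (k : ℤ) * ((k : ℤ) - 1) := by linear_combination hkk - hml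
  have hm0 : 0 < m := by
    by_contra hcon'
    push Not at hcon'
    have h3 : (k : ℤ) * ((n : ℤ) - 1) ≤ l * ((n : ℤ) - 1) := by
      apply mul_le_mul_of_nonneg_right (by linarith) hn1.le
    nlinarith
  -- `m` is a square
  obtain ⟨s, hs⟩ : ∃ s : ℕ, m = (s : ℤ) ^ 2 := by
    obtain ⟨m', rfl⟩ := Int.eq_ofNat_of_zero_le hm0.le
    have hcast : m' ^ (2 * j + 1) = a.natAbs ^ 2 := by
      have := congrArg Int.natAbs ha
      rw [Int.natAbs_pow, Int.natAbs_pow, Int.natAbs_natCast] at this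
      rw [← hj]; exact this.symm
    have hm' : m' ≠ 0 := by intro h; simp [h] at hm0
    have hdvd : m' ^ j ∣ a.natAbs := by
      refine (Nat.pow_dvd_pow_iff (two_ne_zero)).1 ?_
      exact ⟨m', by rw [← hcast, ← pow_mul, ← pow_succ, mul_comm j 2]⟩
    obtain ⟨s, hs⟩ := hdvd
    refine ⟨s, ?_⟩
    have : m' ^ (2 * j) * m' = m' ^ (2 * j) * s ^ 2 := by
      rw [← pow_succ, hcast, hs, mul_pow, ← pow_mul, mul_comm j 2]
    exact_mod_cast Nat.eq_of_mul_eq_mul_left (pow_pos (Nat.pos_of_ne_zero hm') _) this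
  subst hs
  have hs1 : 0 < s := by
    rcases Nat.eq_zero_or_pos s with h | h
    · simp [h] at hm0
    · exact h
  have hs1' : (1 : ℤ) ≤ s := by exact_mod_cast hs1
  have hsk : (s : ℤ) < k := by nlinarith
  have ha' : a = (s : ℤ) ^ N ∨ a = -(s : ℤ) ^ N := sq_eq_sq_iff_eq_or_eq_neg.1 (by rw [ha]; ring)
  have hcop : IsCoprime ((s : ℤ)) (n : ℤ) := by
    have h1 : IsCoprime ((k : ℤ) * k) (n : ℤ) := by
      have := Nat.Coprime.cast (R := ℤ) hk
      exact this.mul_left this
    have h2 : IsCoprime ((s : ℤ) ^ 2) (n : ℤ) := by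
      rw [← hkk] at h1
      exact IsCoprime.of_add_mul_right_left (by rwa [mul_comm] at h1)
    exact (IsCoprime.pow_left_iff two_pos).1 h2
  have hmain : ∀ e : ℤ, e ^ 2 = 1 → a = e * (s : ℤ) ^ N → (n : ℤ) ∣ (k : ℤ) - e * s := by
    intro e _ hae
    have h1 : (n : ℤ) ∣ ((k : ℤ) ^ 2) ^ j - ((s : ℤ) ^ 2) ^ j := by
      refine dvd_trans ?_ (sub_dvd_pow_sub_pow _ _ j)
      exact ⟨l, by rw [sq, ← hkk]; ring⟩
    have h2 : (n : ℤ) ∣ ((s : ℤ) ^ 2) ^ j * ((k : ℤ) - e * s) := by
      have h3 : ((s : ℤ) ^ 2) ^ j * ((k : ℤ) - e * s) =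
          ((k : ℤ) ^ N - a) - (k : ℤ) * (((k : ℤ) ^ 2) ^ j - ((s : ℤ) ^ 2) ^ j) := by
        rw [hae, hj]; ring
      rw [h3]
      exact dvd_sub ⟨b, by rw [hkN]; ring⟩ (dvd_mul_of_dvd_right h1 _)
    exact (hcop.symm.pow_right.pow_right).dvd_of_dvd_mul_left h2
  rcases ha' with h | h
  · have h1 := Int.le_of_dvd (by linarith) (hmain 1 (by ring) (by rw [h]; ring))
    linarith
  · obtain ⟨t, ht⟩ := hmain (-1) (by ring) (by rw [h]; ring)
    have ht1 : t = 1 := by
      have h0 : 0 < t := by nlinarith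
      by_contra hne
      have : 2 ≤ t := by omega
      nlinarith
    subst ht1
    have h3 : (s : ℤ) * ((n : ℤ) - 1) = k := by
      have h4 : (s : ℤ) * ((s : ℤ) * ((n : ℤ) - 1)) = (s : ℤ) * k := by
        linear_combination (n : ℤ) * hml - hkk - (k : ℤ) * ht
      exact mul_left_cancel₀ (by linarith) h4
    nlinarith

/-- Let G be a doubly transitive group of permutations of a finite set Ω of size n, let o ∈ Ω, and let α be an automorphism of G of odd order. Suppose that the image under α of the stabilizer of o has an orbit on Ω whose length k is coprime to n. Then α is induced by conjugation by a permutation of Ω normalizing G, and k = 1 or k = n − 1. -/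
theorem result {Ω : Type*} [Fintype Ω] (G : Subgroup (Equiv.Perm Ω)) (h2 : MulAction.IsMultiplyPretransitive G Ω 2) (o : Ω) (α : MulAut G) (hα : Odd (orderOf α)) (ω : Ω) (hk : (Nat.card (MulAction.orbit ((MulAction.stabilizer G o).map α.toMonoidHom) ω)).Coprime (Fintype.card Ω)) : (∃ σ : Equiv.Perm Ω, σ ∈ Subgroup.normalizer (G : Set (Equiv.Perm Ω)) ∧ ∀ g : G, ((α g : G) : Equiv.Perm Ω) = σ * (g : Equiv.Perm Ω) * σ⁻¹) ∧ (Nat.card (MulAction.orbit ((MulAction.stabilizer G o).map α.toMonoidHom) ω) = 1 ∨ Nat.card (MulAction.orbit ((MulAction.stabilizer G o).map α.toMonoidHom) ω) = Fintype.card Ω - 1) := by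
  classical
  haveI : MulAction.IsPretransitive G Ω := MulAction.isPretransitive_of_is_two_pretransitive
  have hsize := orbit_size G h2 o α hα ω _ rfl hk
  refine ⟨?_, hsize⟩
  set K := (MulAction.stabilizer G o).map α.toMonoidHom with hK
  -- a point fixed by `K`
  obtain ⟨p₀, hp₀⟩ : ∃ p₀ : Ω, ∀ g ∈ K, (g : Equiv.Perm Ω) p₀ = p₀ := by
    rcases hsize with h | h
    · refine ⟨ω, fun g hg => ?_⟩
      obtain ⟨_, hsub⟩ := Nat.card_eq_one_iff_exists.1 h
      exact congrArg Subtype.val ((hsub ⟨(g : Equiv.Perm Ω) ω, ⟨⟨g, hg⟩, rfl⟩⟩).trans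
        (hsub ⟨ω, MulAction.mem_orbit_self ω⟩).symm)
    · have hne : (Set.univ \ MulAction.orbit K ω).Nonempty := by
        rw [Set.nonempty_iff_ne_empty, Ne, Set.sdiff_eq_empty]
        intro hall
        have h1 : Fintype.card Ω ≤ Nat.card (MulAction.orbit K ω) := by
          rw [← Nat.card_eq_fintype_card]
          exact Nat.card_le_card_of_injective (fun p => ⟨p, hall (Set.mem_univ p)⟩) fun a b h => congrArg Subtype.val h
        have := Fintype.card_pos_iff.2 ⟨ω⟩
        omega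
      obtain ⟨p₀, -, hp₀⟩ := hne
      refine ⟨p₀, fun g hg => ?_⟩
      by_contra hne'
      have hg' : (g : Equiv.Perm Ω) p₀ ∉ MulAction.orbit K ω := by
        intro hmem
        apply hp₀
        have := MulAction.mem_orbit_of_mem_orbit (⟨g, hg⟩⁻¹ : K) hmem
        rwa [show (g : Equiv.Perm Ω) p₀ = (⟨g, hg⟩ : K) • p₀ from rfl, inv_smul_smul] at this
      let f : Option (Option (MulAction.orbit K ω)) → Ω := fun x =>
        match x with
        | none => p₀
        | some none => (g : Equiv.Perm Ω) p₀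
        | some (some q) => q.1
      have hf : Function.Injective f := by
        rintro (_ | _ | ⟨a, ha⟩) (_ | _ | ⟨b, hb⟩) h
        all_goals first
          | rfl
          | exact absurd h.symm hne'
          | exact absurd h hne'
          | exact absurd (show p₀ ∈ MulAction.orbit K ω from (show p₀ = _ from h) ▸ hb) hp₀
          | exact absurd (show p₀ ∈ MulAction.orbit K ω from (show _ = p₀ from h) ▸ ha) hp₀
          | exact absurd (show (g : Equiv.Perm Ω) p₀ ∈ MulAction.orbit K ω from (show (g : Equiv.Perm Ω) p₀ = _ from h) ▸ hb) hg'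
          | exact absurd (show (g : Equiv.Perm Ω) p₀ ∈ MulAction.orbit K ω from (show _ = (g : Equiv.Perm Ω) p₀ from h) ▸ ha) hg'
          | exact congrArg (fun x => some (some x)) (Subtype.ext h)
      have := Nat.card_le_card_of_injective f hf
      rw [Finite.card_option, Finite.card_option, h, Nat.card_eq_fintype_card] at this
      omega
  have hstab : K = MulAction.stabilizer G p₀ := by
    refine Subgroup.eq_of_le_of_card_ge (fun g hg => MulAction.mem_stabilizer_iff.2 (hp₀ g hg)) (le_of_eq ?_)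
    have h1 := MulAction.index_stabilizer_of_transitive G o
    have h2 := MulAction.index_stabilizer_of_transitive G p₀
    have h3 := (MulAction.stabilizer G o).card_mul_index
    have h4 := (MulAction.stabilizer G p₀).card_mul_index
    rw [Subgroup.card_map_of_injective α.injective]
    rw [h1] at h3; rw [h2] at h4
    haveI : Nonempty Ω := ⟨o⟩
    exact Nat.eq_of_mul_eq_mul_right Nat.card_pos (h4.trans h3.symm)
  choose r hr using fun q : Ω => MulAction.exists_smul_eq G o q
  let f : Ω → Ω := fun q => ((α (r q) : G) : Equiv.Perm Ω) p₀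
  have hinj : Function.Injective f := by
    intro q q' h
    have h1 : α ((r q)⁻¹ * r q') ∈ K := by
      rw [hstab, MulAction.mem_stabilizer_iff, map_mul, map_inv, mul_smul, inv_smul_eq_iff]
      exact h.symm
    obtain ⟨η, hη, he⟩ := h1
    rw [MulEquiv.coe_toMonoidHom] at he
    rw [α.injective he, SetLike.mem_coe, MulAction.mem_stabilizer_iff, mul_smul, inv_smul_eq_iff, hr, hr] at hη
    exact hη.symm
  let σ : Equiv.Perm Ω := Equiv.ofBijective f ⟨hinj, Finite.injective_iff_surjective.1 hinj⟩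
  have hconj : ∀ g : G, ((α g : G) : Equiv.Perm Ω) = σ * (g : Equiv.Perm Ω) * σ⁻¹ := by
    intro g
    rw [eq_mul_inv_iff_mul_eq]
    refine Equiv.ext fun q => ?_
    show ((α g : G) : Equiv.Perm Ω) (f q) = f ((g : Equiv.Perm Ω) q)
    have h1 : (r (g • q))⁻¹ * (g * r q) ∈ MulAction.stabilizer G o := by
      rw [MulAction.mem_stabilizer_iff, mul_smul, mul_smul, hr, inv_smul_eq_iff, hr]
    have h2 := hp₀ _ (Subgroup.mem_map_of_mem α.toMonoidHom h1)
    rw [MulEquiv.coe_toMonoidHom, map_mul, map_inv, map_mul, Subgroup.coe_mul, Subgroup.coe_inv,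
      Equiv.Perm.mul_apply, Equiv.Perm.inv_eq_iff_eq, Subgroup.coe_mul, Equiv.Perm.mul_apply] at h2
    exact h2
  refine ⟨σ, ?_, hconj⟩
  rw [Subgroup.mem_normalizer_iff]
  intro g
  constructor
  · intro hg
    have := (α ⟨g, hg⟩).2
    rwa [hconj] at this
  · intro hg
    obtain ⟨g', hg'⟩ := α.surjective ⟨_, hg⟩
    have h1 := hconj g'
    rw [hg'] at h1
    have h1' : σ * g * σ⁻¹ = σ * (g' : Equiv.Perm Ω) * σ⁻¹ := h1
    have : g = (g' : Equiv.Perm Ω) := mul_left_cancel (mul_right_cancel h1')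
    rw [this]; exact g'.2

end Cfsg.Agent.S4276
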