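import Cfsg.Statements.S4277
import Mathlib

set_option autoImplicit false
open Cfsg

namespace Cfsg.Agent.S4277

open Polynomial
open scoped Pointwise commutatorElement

/-- The sum of the monomials over a proper nonempty subset of `range p` is prime to `X ^ p - 1`. -/
theorem coprime_sum_monomial {p : ℕ} [Fact p.Prime] (D : Finset ℕ) (hD : D ⊆ Finset.range p) (hne : D.Nonempty)
    (hprop : D ≠ Finset.range p) : IsCoprime (∑ d ∈ D, (X : ℚ[X]) ^ d) (X ^ p - 1) := by
  classical
  have hp := (Fact.out : p.Prime)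
  set f : ℚ[X] := ∑ d ∈ D, (X : ℚ[X]) ^ d with hf
  have hcoef : ∀ n : ℕ, f.coeff n = if n ∈ D then 1 else 0 := by
    intro n
    rw [hf, finset_sum_coeff]
    simp [coeff_X_pow]
  rw [← cyclotomic_prime_mul_X_sub_one ℚ p]
  refine IsCoprime.mul_right ?_ ?_
  · refine ((cyclotomic.irreducible_rat hp.pos).coprime_iff_not_dvd.2 ?_).symm
    rintro ⟨g, hg⟩
    obtain ⟨d₀, hd₀⟩ := hne
    have hf0 : f ≠ 0 := fun h => by
      have := hcoef d₀
      rw [h, coeff_zero, if_pos hd₀] at this
      exact one_ne_zero this.symm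
    have hg0 : g ≠ 0 := fun h => hf0 (by rw [hg, h, mul_zero])
    have hdeg : f.natDegree ≤ p - 1 := by
      rw [hf]
      refine natDegree_sum_le_of_forall_le _ _ fun d hd => ?_
      rw [natDegree_X_pow]
      have := Finset.mem_range.1 (hD hd)
      omega
    have hgdeg : g.natDegree = 0 := by
      rw [hg, natDegree_mul (cyclotomic_ne_zero p ℚ) hg0, natDegree_cyclotomic, Nat.totient_prime hp] at hdeg
      omega
    rw [eq_C_of_natDegree_eq_zero hgdeg] at hg
    have hcyc : ∀ n < p, (cyclotomic p ℚ).coeff n = 1 := by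
      intro n hn
      rw [cyclotomic_prime, finset_sum_coeff]
      simp [coeff_X_pow, hn]
    have h1 : ∀ n < p, (if n ∈ D then (1 : ℚ) else 0) = g.coeff 0 := by
      intro n hn
      rw [← hcoef n, hg, coeff_mul_C, hcyc n hn, one_mul]
    obtain ⟨n, hn, hnD⟩ : ∃ n, n < p ∧ n ∉ D := by
      by_contra hcon
      push Not at hcon
      exact hprop (le_antisymm hD fun n hn => hcon n (Finset.mem_range.1 hn))
    have ha := h1 d₀ (Finset.mem_range.1 (hD hd₀))
    have hb := h1 n hn
    rw [if_pos hd₀] at ha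
    rw [if_neg hnD] at hb
    exact zero_ne_one (hb.trans ha.symm)
  · refine ((prime_X_sub_C (1 : ℚ)).coprime_iff_not_dvd.2 ?_).symm
    rw [dvd_iff_isRoot, IsRoot.def, hf, eval_finset_sum]
    simp [hne.ne_empty]

/-- Translation of functions on a `G`-set. -/
def lin {G : Type*} [Group G] (Ω : Type*) [MulAction G Ω] : G →* Module.End ℚ (Ω → ℚ) where
  toFun g := LinearMap.funLeft ℚ ℚ (fun y : Ω => g⁻¹ • y)
  map_one' := by ext v y; simp [LinearMap.funLeft_apply]
  map_mul' a b := by ext v y; simp [LinearMap.funLeft_apply, mul_smul]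

theorem lin_apply {G : Type*} [Group G] {Ω : Type*} [MulAction G Ω] (g : G) (v : Ω → ℚ) (y : Ω) :
    lin Ω g v y = v (g⁻¹ • y) := rfl

theorem lin_injective {G : Type*} [Group G] {Ω : Type*} [MulAction G Ω] [FaithfulSMul G Ω] :
    Function.Injective (lin (G := G) Ω) := by
  classical
  intro a b h
  refine inv_injective (eq_of_smul_eq_smul fun y : Ω => ?_)
  by_contra hne
  have h2 := congrFun (LinearMap.congr_fun h (Pi.single (b⁻¹ • y) 1)) y
  rw [lin_apply, lin_apply, Pi.single_eq_same, Pi.single_eq_of_ne hne] at h2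
  exact zero_ne_one h2

/-- An automorphism fixing a regular element `t` of prime order is intertwined by an invertible
polynomial in `t`. -/
theorem exists_intertwiner {G Ω : Type*} [Group G] [Finite G] [MulAction G Ω] [Fintype Ω]
    [MulAction.IsPretransitive G Ω] {p : ℕ} [Fact p.Prime] (hΩ : Fintype.card Ω = p) (b₀ : Ω)
    (hpH : ¬ p ∣ Nat.card (MulAction.stabilizer G b₀)) {t : G} (hreg : ∀ (y : Ω) (d : ℕ), t ^ d • y = y → p ∣ d)
    (htp : t ^ p = 1) {σ : MulAut G} (hσ : σ t = t) :
    ∃ f u : ℚ[X], aeval (lin Ω t) u * aeval (lin Ω t) f = 1 ∧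
      ∀ g : G, aeval (lin Ω t) f * lin Ω g = lin Ω (σ g) * aeval (lin Ω t) f := by
  classical
  let O : Ω → Ω → Prop := fun x y => ∃ g : G, g • b₀ = x ∧ σ g • b₀ = y
  have hO : ∀ (h : G) (x y : Ω), O x y → O (h • x) (σ h • y) := by
    rintro h x y ⟨g, rfl, rfl⟩
    exact ⟨h * g, mul_smul _ _ _, by rw [map_mul, mul_smul]⟩
  have hOiff : ∀ (h : G) (x y : Ω), O x y ↔ O (h • x) (σ h • y) := fun h x y =>
    ⟨hO h x y, fun hh => by simpa [← mul_smul, ← map_mul] using hO h⁻¹ _ _ hh⟩
  -- the translates of a point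
  have hbij : ∀ y : Ω, Function.Bijective fun d : Fin p => (t ^ (d : ℕ))⁻¹ • y := by
    intro y
    rw [Fintype.bijective_iff_injective_and_card]
    refine ⟨?_, by rw [Fintype.card_fin, hΩ]⟩
    intro a b hab
    have key : ∀ a b : Fin p, (a : ℕ) ≤ b → (t ^ (a : ℕ))⁻¹ • y = (t ^ (b : ℕ))⁻¹ • y → a = b := by
      intro a b hle hab
      have h1 : t ^ ((b : ℕ) - a) • y = y := by
        calc t ^ ((b : ℕ) - a) • y = t ^ (b : ℕ) • ((t ^ (a : ℕ))⁻¹ • y) := by
              rw [pow_sub t hle, mul_smul]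
          _ = y := by rw [hab, smul_inv_smul]
      have h2 := hreg y _ h1
      have h3 : (b : ℕ) - a = 0 := Nat.eq_zero_of_dvd_of_lt h2 (by omega)
      exact Fin.ext (by omega)
    rcases le_total (a : ℕ) b with h | h
    · exact key a b h hab
    · exact (key b a h hab.symm).symm
  let D : Finset ℕ := (Finset.range p).filter fun d => O ((t ^ d)⁻¹ • b₀) b₀
  have hD : ∀ (y : Ω) (d : ℕ), d < p → (d ∈ D ↔ O ((t ^ d)⁻¹ • y) y) := by
    intro y d hd
    obtain ⟨k, hk⟩ := (hbij b₀).2 y
    simp only [D, Finset.mem_filter, Finset.mem_range, hd, true_and]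
    rw [hOiff ((t ^ (k : ℕ))⁻¹) ((t ^ d)⁻¹ • b₀) b₀, map_inv, map_pow, hσ, ← hk, ← mul_smul, ← mul_smul,
      ← mul_inv_rev, ← mul_inv_rev, ← pow_add, ← pow_add, add_comm]
  have hne : D.Nonempty := ⟨0, Finset.mem_filter.2 ⟨Finset.mem_range.2 (Fact.out : p.Prime).pos,
    1, by simp, by simp⟩⟩
  have hprop : D ≠ Finset.range p := by
    intro hfull
    apply hpH
    let S : Subgroup G := MulAction.stabilizer G b₀
    let S' : Subgroup G := S.comap σ.toMonoidHom
    have htr : MulAction.orbit S' b₀ = Set.univ := by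
      rw [Set.eq_univ_iff_forall]
      intro x
      obtain ⟨k, hk⟩ := (hbij b₀).2 x
      obtain ⟨g, hg1, hg2⟩ := (Finset.mem_filter.1 (hfull.symm ▸ Finset.mem_range.2 k.2 : (k : ℕ) ∈ D)).2
      exact ⟨⟨g, hg2⟩, hg1.trans hk⟩
    have h1 := MulAction.index_stabilizer S' b₀
    rw [htr, Set.ncard_univ, Nat.card_eq_fintype_card, hΩ] at h1
    have h2 : p ∣ Nat.card S' := h1 ▸ Subgroup.index_dvd_card _
    have h3 : Nat.card S' = Nat.card S :=
      Nat.card_congr (σ.toEquiv.subtypeEquiv fun g => Iff.rfl)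
    exact h3 ▸ h2
  have hfil : D ⊆ Finset.range p := Finset.filter_subset _ _
  obtain ⟨u, w, huw⟩ := coprime_sum_monomial D hfil hne hprop
  refine ⟨∑ d ∈ D, X ^ d, u, ?_, ?_⟩
  · have := congrArg (aeval (lin Ω t)) huw
    rw [map_add, map_mul, map_mul, map_sub, map_pow, aeval_X, map_one, ← map_pow, htp, map_one, sub_self,
      mul_zero, add_zero] at this
    exact this
  have hval : ∀ (v : Ω → ℚ) (y : Ω), aeval (lin Ω t) (∑ d ∈ D, (X : ℚ[X]) ^ d) v y =
      ∑ x ∈ Finset.univ.filter (fun x => O x y), v x := by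
    intro v y
    rw [map_sum, LinearMap.sum_apply, Finset.sum_apply]
    refine Finset.sum_bij (fun d _ => (t ^ d)⁻¹ • y) ?_ ?_ ?_ ?_
    · intro d hd
      exact Finset.mem_filter.2 ⟨Finset.mem_univ _, (hD y d (Finset.mem_range.1 (hfil hd))).1 hd⟩
    · intro a ha b hb hab
      have := (hbij y).1 (a₁ := ⟨a, Finset.mem_range.1 (hfil ha)⟩) (a₂ := ⟨b, Finset.mem_range.1 (hfil hb)⟩) hab
      exact congrArg Fin.val this
    · intro x hx
      obtain ⟨k, hk⟩ := (hbij y).2 x
      refine ⟨k, (hD y k k.2).2 ?_, hk⟩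
      simp only at hk
      rw [hk]
      exact (Finset.mem_filter.1 hx).2
    · intro d _
      rw [map_pow, aeval_X, ← map_pow, lin_apply]
  intro g
  apply LinearMap.ext; intro v; funext y
  rw [Module.End.mul_apply, Module.End.mul_apply, hval, lin_apply, hval]
  simp only [lin_apply]
  refine Finset.sum_bij (fun x _ => g⁻¹ • x) ?_ ?_ ?_ ?_
  · intro x hx
    simp only [Finset.mem_filter, Finset.mem_univ, true_and] at hx ⊢
    have := hO g⁻¹ _ _ hx
    rwa [map_inv] at this
  · intro a _ b _ hab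
    exact smul_left_cancel _ hab
  · intro x hx
    simp only [Finset.mem_filter, Finset.mem_univ, true_and] at hx ⊢
    refine ⟨g • x, ?_, by rw [inv_smul_smul]⟩
    have := hO g _ _ hx
    rwa [smul_inv_smul] at this
  · intro x _
    rfl

/-- The automorphisms fixing a regular element of prime order commute. -/
theorem commute_of_fix {G Ω : Type*} [Group G] [Finite G] [MulAction G Ω] [Fintype Ω] [FaithfulSMul G Ω]
    [MulAction.IsPretransitive G Ω] {p : ℕ} [Fact p.Prime] (hΩ : Fintype.card Ω = p) (b₀ : Ω)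
    (hpH : ¬ p ∣ Nat.card (MulAction.stabilizer G b₀)) {t : G} (hreg : ∀ (y : Ω) (d : ℕ), t ^ d • y = y → p ∣ d)
    (htp : t ^ p = 1) {σ τ : MulAut G} (hσ : σ t = t) (hτ : τ t = t) : σ * τ = τ * σ := by
  obtain ⟨f, u, hu, hf⟩ := exists_intertwiner hΩ b₀ hpH hreg htp hσ
  obtain ⟨f', u', hu', hf'⟩ := exists_intertwiner hΩ b₀ hpH hreg htp hτ
  apply MulEquiv.ext
  intro g
  apply lin_injective (Ω := Ω)
  show lin Ω (σ (τ g)) = lin Ω (τ (σ g))
  have hc : aeval (lin Ω t) f * aeval (lin Ω t) f' = aeval (lin Ω t) f' * aeval (lin Ω t) f := by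
    rw [← map_mul, ← map_mul, mul_comm]
  have hR : aeval (lin Ω t) f * aeval (lin Ω t) f' * aeval (lin Ω t) (u * u') = 1 := by
    rw [← map_mul, ← map_mul, show f * f' * (u * u') = (u * f) * (u' * f') by ring, map_mul, map_mul, map_mul,
      hu, hu', one_mul]
  have h1 : lin Ω (σ (τ g)) * (aeval (lin Ω t) f * aeval (lin Ω t) f') =
      lin Ω (τ (σ g)) * (aeval (lin Ω t) f * aeval (lin Ω t) f') := by
    calc lin Ω (σ (τ g)) * (aeval (lin Ω t) f * aeval (lin Ω t) f')
        = aeval (lin Ω t) f * aeval (lin Ω t) f' * lin Ω g := by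
          rw [mul_assoc (aeval (lin Ω t) f), hf', ← mul_assoc, ← mul_assoc, hf]
      _ = aeval (lin Ω t) f' * aeval (lin Ω t) f * lin Ω g := by rw [hc]
      _ = lin Ω (τ (σ g)) * (aeval (lin Ω t) f * aeval (lin Ω t) f') := by
          rw [hc, mul_assoc (aeval (lin Ω t) f'), hf, ← mul_assoc, ← mul_assoc, hf']
  have h2 := congrArg (· * aeval (lin Ω t) (u * u')) h1
  simp only [mul_assoc] at h2 hR
  rw [hR, mul_one, mul_one] at h2
  exact h2

/-- A case of the Schreier conjecture: if a finite simple group G has a subgroup of prime index, then the outer automorphism group of G is solvable. -/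
theorem result {G : Type*} [Group G] [Finite G] [IsSimpleGroup G] (H : Subgroup G) (hH : H.index.Prime) : Group.IsSolvable (Cfsg.Out G) := by
  classical
  set p := H.index with hpdef
  haveI : Fact p.Prime := ⟨hH⟩
  let Ω := G ⧸ H
  haveI : Fintype Ω := Fintype.ofFinite Ω
  have hΩ : Fintype.card Ω = p := by rw [← Nat.card_eq_fintype_card]; rfl
  haveI : FaithfulSMul G Ω := by
    have hcore : H.normalCore = ⊥ := by
      refine (Subgroup.normalCore_normal H).eq_bot_or_eq_top.resolve_right fun h => ?_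
      have : H = ⊤ := top_le_iff.1 (h ▸ Subgroup.normalCore_le H)
      exact hH.ne_one (by rw [hpdef, this, Subgroup.index_top])
    constructor
    intro a b hab
    rw [← inv_mul_eq_one, ← Subgroup.mem_bot, ← hcore, Subgroup.normalCore_eq_ker, MonoidHom.mem_ker]
    apply Equiv.Perm.ext
    intro y
    show (a⁻¹ * b) • y = y
    rw [mul_smul, ← hab, inv_smul_smul]
  let b₀ : Ω := ((1 : G) : Ω)
  have hstab : MulAction.stabilizer G b₀ = H := MulAction.stabilizer_quotient H
  have hcard : Nat.card G = p * Nat.card H := by rw [hpdef, mul_comm, Subgroup.card_mul_index]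
  have hpH : ¬ p ∣ Nat.card (MulAction.stabilizer G b₀) := by
    rw [hstab]
    intro h
    have h1 : Nat.card G ∣ Nat.factorial p := by
      have := Subgroup.card_dvd_of_injective (MulAction.toPermHom G Ω) (MulAction.toPerm_injective)
      rwa [Nat.card_perm, Nat.card_eq_fintype_card (α := Ω), hΩ] at this
    rw [hcard, ← Nat.mul_factorial_pred hH.ne_zero] at h1
    have h2 := h.trans (Nat.dvd_of_mul_dvd_mul_left hH.pos h1)
    have := (hH.dvd_factorial).1 h2
    have := hH.pos
    omega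
  obtain ⟨t, ht⟩ := exists_prime_orderOf_dvd_card' (G := G) p ⟨Nat.card H, hcard⟩
  have htp : t ^ p = 1 := ht ▸ pow_orderOf_eq_one t
  have hreg : ∀ (y : Ω) (d : ℕ), t ^ d • y = y → p ∣ d := by
    intro y d hd
    by_contra hnd
    obtain ⟨g, rfl⟩ := MulAction.exists_smul_eq G b₀ y
    have hmem : g⁻¹ * t ^ d * g ∈ MulAction.stabilizer G b₀ := by
      rw [MulAction.mem_stabilizer_iff, mul_smul, mul_smul, hd, inv_smul_smul]
    have hord : orderOf (g⁻¹ * t ^ d * g) = p := by
      have := (MulAut.conj g⁻¹).orderOf_eq (t ^ d)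
      rw [MulAut.conj_apply, inv_inv] at this
      rw [this, Nat.Coprime.orderOf_pow (by rw [ht]; exact (hH.coprime_iff_not_dvd).2 hnd), ht]
    refine hpH (hord ▸ ?_)
    exact (Subgroup.orderOf_mk _ hmem) ▸ orderOf_dvd_natCard _
  let C : Subgroup (MulAut G) := MulAction.stabilizer (MulAut G) t
  let P : Subgroup G := Subgroup.zpowers t
  let N : Subgroup (MulAut G) := MulAction.stabilizer (MulAut G) P
  have hC : ∀ a ∈ C, ∀ b ∈ C, a * b = b * a := fun a ha b hb =>
    commute_of_fix hΩ b₀ hpH hreg htp (MulAction.mem_stabilizer_iff.1 ha) (MulAction.mem_stabilizer_iff.1 hb)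
  have hNC : ⁅N, N⁆ ≤ C := by
    rw [Subgroup.commutator_le]
    intro a ha b hb
    have hpow : ∀ c ∈ N, ∃ k : ℤ, c • t = t ^ k := by
      intro c hc
      have hmem : c • t ∈ P := by
        rw [← MulAction.mem_stabilizer_iff.1 hc]
        exact Subgroup.smul_mem_pointwise_smul _ _ _ (Subgroup.mem_zpowers t)
      obtain ⟨k, hk⟩ := Subgroup.mem_zpowers_iff.1 hmem
      exact ⟨k, hk.symm⟩
    obtain ⟨i, hi⟩ := hpow a ha
    obtain ⟨j, hj⟩ := hpow b hb
    have hab : (a * b) • t = (b * a) • t := by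
      rw [mul_smul, mul_smul, hj, hi, smul_zpow', smul_zpow', hi, hj, ← zpow_mul, ← zpow_mul, mul_comm]
    rw [MulAction.mem_stabilizer_iff, commutatorElement_def, show a * b * a⁻¹ * b⁻¹ = (a * b) * (b * a)⁻¹ by
      rw [mul_inv_rev]; simp only [mul_assoc]]
    -- the images of `N` in the automorphisms of `P` commute
    have hP' : ∀ k : ℤ, (a * b) • t ^ k = (b * a) • t ^ k := fun k => by rw [smul_zpow', smul_zpow', hab]
    obtain ⟨k, hk⟩ := hpow _ (N.inv_mem (N.mul_mem hb ha))
    rw [mul_smul, hk, hP' k, ← hk, smul_inv_smul]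
  haveI : Group.IsSolvable N := by
    refine ⟨⟨2, ?_⟩⟩
    rw [eq_bot_iff]
    have h1 : derivedSeries N 1 ≤ C.comap N.subtype := by
      rw [derivedSeries_succ, derivedSeries_zero, Subgroup.commutator_le]
      intro a _ b _
      exact hNC (Subgroup.commutator_mem_commutator a.2 b.2)
    rw [derivedSeries_succ]
    refine (Subgroup.commutator_mono h1 h1).trans ?_
    rw [Subgroup.commutator_le]
    intro a ha b hb
    rw [Subgroup.mem_bot, commutatorElement_eq_one_iff_mul_comm]
    exact Subtype.ext (hC _ ha _ hb)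
  have hsurj : Function.Surjective ((QuotientGroup.mk' (Cfsg.Inn G)).comp N.subtype) := by
    intro x
    obtain ⟨φ, rfl⟩ := QuotientGroup.mk'_surjective _ x
    have hPc : Nat.card P = p ^ (Nat.card G).factorization p := by
      rw [show Nat.card P = p by rw [Nat.card_zpowers, ht]]
      have : (Nat.card G).factorization p = 1 := by
        rw [hcard, Nat.factorization_mul hH.ne_zero Nat.card_pos.ne', Finsupp.add_apply, hH.factorization_self,
          Nat.factorization_eq_zero_of_not_dvd (hstab ▸ hpH)]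
      rw [this, pow_one]
    have hPc' : Nat.card (φ • P : Subgroup G) = p ^ (Nat.card G).factorization p := by
      rw [← hPc]
      exact Nat.card_congr (Subgroup.equivSMul φ P).toEquiv.symm
    obtain ⟨g, hg⟩ := MulAction.exists_smul_eq G (Sylow.ofCard P hPc) (Sylow.ofCard (φ • P : Subgroup G) hPc')
    have hg' : MulAut.conj g • P = φ • P := congrArg Sylow.toSubgroup hg
    refine ⟨⟨(MulAut.conj g)⁻¹ * φ, ?_⟩, ?_⟩
    · rw [MulAction.mem_stabilizer_iff, mul_smul, ← hg', inv_smul_smul]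
    · show QuotientGroup.mk' (Cfsg.Inn G) ((MulAut.conj g)⁻¹ * φ) = QuotientGroup.mk' (Cfsg.Inn G) φ
      rw [map_mul, map_inv, show QuotientGroup.mk' (Cfsg.Inn G) (MulAut.conj g) = 1 from
        (QuotientGroup.eq_one_iff _).2 ⟨g, rfl⟩, inv_one, one_mul]
  exact Group.isSolvable_of_surjective hsurj

end Cfsg.Agent.S4277
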