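import Cfsg.Statements.S4278
import Cfsg.Agent.Lib.G2Invol.Classes

set_option autoImplicit false
open Cfsg

namespace Cfsg.Agent.S4278

/-- In the Chevalley group of type G₂ over a finite field of odd order, any two involutions are conjugate. -/
theorem result {F : Type*} [Field F] [Fintype F] (hF : Odd (Fintype.card F)) (s t : ↥(Cfsg.Lie.chevG2.group F)) (hs : orderOf s = 2) (ht : orderOf t = 2) : IsConj s t := by
  obtain ⟨a, ha, ea⟩ := CfsgLib.G2Invol.involution_conj hF hs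
  obtain ⟨b, hb, eb⟩ := CfsgLib.G2Invol.involution_conj hF ht
  refine isConj_iff.2 ⟨(⟨b, hb⟩ : ↥(Cfsg.Lie.chevG2.group F))⁻¹ * ⟨a, ha⟩, Subtype.ext ?_⟩
  simp only [Subgroup.coe_mul, Subgroup.coe_inv]
  rw [show b⁻¹ * a * (s : GL Cfsg.Lie.chevG2.Idx F) * (b⁻¹ * a)⁻¹ =
    b⁻¹ * (a * (s : GL Cfsg.Lie.chevG2.Idx F) * a⁻¹) * b by group, ea, ← eb]
  group
end Cfsg.Agent.S4278
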