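import Cfsg.Statements.S4279
import Cfsg.Agent.Lib.G2Invol.Classes

set_option autoImplicit false
open Cfsg

namespace Cfsg.Agent.S4279

/-- In the Chevalley group G of type G₂ over a finite field F of odd order q, the centralizer of an involution t has order q²(q² − 1)² and contains two elementwise commuting subgroups, each isomorphic to SL(2, F), which meet exactly in the subgroup generated by t and whose join has index 2 in the centralizer. -/
theorem result {F : Type*} [Field F] [Fintype F] (hF : Odd (Fintype.card F)) (t : ↥(Cfsg.Lie.chevG2.group F)) (ht : orderOf t = 2) : Nat.card (Subgroup.centralizer ({t} : Set ↥(Cfsg.Lie.chevG2.group F))) = Fintype.card F ^ 2 * (Fintype.card F ^ 2 - 1) ^ 2 ∧ ∃ L₁ L₂ : Subgroup ↥(Cfsg.Lie.chevG2.group F), Nonempty (L₁ ≃* Matrix.SpecialLinearGroup (Fin 2) F) ∧ Nonempty (L₂ ≃* Matrix.SpecialLinearGroup (Fin 2) F) ∧ (∀ x ∈ L₁, ∀ y ∈ L₂, x * y = y * x) ∧ L₁ ⊓ L₂ = Subgroup.zpowers t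 ∧ L₁ ⊔ L₂ ≤ Subgroup.centralizer ({t} : Set ↥(Cfsg.Lie.chevG2.group F)) ∧ (L₁ ⊔ L₂).relIndex (Subgroup.centralizer ({t} : Set ↥(Cfsg.Lie.chevG2.group F))) = 2 := by
  classical
  have hodd : Fintype.card F % 2 = 1 := Nat.odd_iff.1 hF
  have h2 : (2 : F) ≠ 0 := fun h => by
    haveI : CharP F 2 := CharTwo.of_one_ne_zero_of_two_eq_zero one_ne_zero h
    obtain ⟨n, -, hn⟩ := FiniteField.card F 2
    rw [hn, Nat.pow_mod, Nat.mod_self, Nat.zero_pow n.pos, Nat.zero_mod] at hodd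
    exact zero_ne_one hodd
  obtain ⟨g, hg, hgt⟩ := CfsgLib.G2Invol.involution_conj hF ht
  let G := Cfsg.Lie.chevG2.group F
  let T0 : ↥G := ⟨CfsgLib.G2Invol.t0 F, CfsgLib.G2Invol.t0_mem_group⟩
  let c : ↥G ≃* ↥G := MulAut.conj (⟨g, hg⟩ : ↥G)⁻¹
  have hinj : Function.Injective c.toMonoidHom := c.injective
  have hct : c T0 = t := by
    refine Subtype.ext ?_
    show g⁻¹ * CfsgLib.G2Invol.t0 F * g⁻¹⁻¹ = _
    rw [← hgt]; group
  have hcent0 : Subgroup.centralizer ({T0} : Set ↥G) = (CfsgLib.G2Invol.CC F).subgroupOf G := by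
    ext x
    rw [Subgroup.mem_centralizer_singleton_iff, Subgroup.mem_subgroupOf, CfsgLib.G2Invol.mem_CC_iff h2,
      Subtype.ext_iff]
    exact ⟨fun h => ⟨x.2, h.symm⟩, fun h => h.2.symm⟩
  have hcent : Subgroup.centralizer ({t} : Set ↥G) =
      ((CfsgLib.G2Invol.CC F).subgroupOf G).map c.toMonoidHom := by
    ext x
    rw [← hcent0, Subgroup.mem_map_equiv, Subgroup.mem_centralizer_singleton_iff,
      Subgroup.mem_centralizer_singleton_iff]
    conv_rhs => rw [← c.injective.eq_iff, map_mul, map_mul, c.apply_symm_apply, hct]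
  let R7 : Subgroup ↥G := (CfsgLib.G2Invol.phi7 (F := F)).range.subgroupOf G
  let R11 : Subgroup ↥G := (CfsgLib.G2Invol.phi11 (F := F)).range.subgroupOf G
  have hle7 : (CfsgLib.G2Invol.phi7 (F := F)).range ≤ G := by
    rintro _ ⟨A, rfl⟩; exact (CfsgLib.G2Invol.phi_mem_group A).1
  have hle11 : (CfsgLib.G2Invol.phi11 (F := F)).range ≤ G := by
    rintro _ ⟨A, rfl⟩; exact (CfsgLib.G2Invol.phi_mem_group A).2
  have hM : R7 ⊔ R11 = (CfsgLib.G2Invol.MM F).subgroupOf G := by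
    rw [← Subgroup.subgroupOf_sup hle7 hle11]
    congr 1
    refine le_antisymm (sup_le ?_ ?_) ?_
    · rintro _ ⟨A, rfl⟩; exact CfsgLib.G2Invol.phi7_mem A
    · rintro _ ⟨A, rfl⟩; exact CfsgLib.G2Invol.phi11_mem A
    · rintro _ ⟨⟨A, B⟩, rfl⟩
      rw [CfsgLib.G2Invol.psi_apply]
      exact mul_mem (Subgroup.mem_sup_left ⟨A, rfl⟩) (Subgroup.mem_sup_right ⟨B, rfl⟩)
  have hinf : R7 ⊓ R11 = Subgroup.zpowers T0 := by
    refine le_antisymm (fun x hx => ?_) (Subgroup.zpowers_le.2 ⟨?_, ?_⟩)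
    · rcases CfsgLib.G2Invol.phi_inf hx.1 hx.2 with h | h
      · rw [show x = 1 from Subtype.ext h]; exact one_mem _
      · rw [show x = T0 from Subtype.ext h]; exact Subgroup.mem_zpowers _
    · refine ⟨CfsgLib.G2Invol.dd (-1), ?_⟩
      rw [CfsgLib.G2Invol.phi7_dd, show ((-3 : ℤ)) = -((3 : ℕ) : ℤ) from rfl, zpow_neg, zpow_natCast,
        CfsgLib.G2Invol.neg_one_pow_three]
      show _ = CfsgLib.G2Invol.tor 1 (-1)
      congr 1 <;> simp
    · exact ⟨CfsgLib.G2Invol.dd (-1), CfsgLib.G2Invol.phi11_dd _⟩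
  have hMC : CfsgLib.G2Invol.MM F ≤ CfsgLib.G2Invol.CC F := le_sup_left
  have hrel : ((CfsgLib.G2Invol.MM F).subgroupOf G).relIndex ((CfsgLib.G2Invol.CC F).subgroupOf G) = 2 := by
    rw [Subgroup.relIndex_subgroupOf CfsgLib.G2Invol.CC_le_group, CfsgLib.G2Invol.relIndex_MM h2]
  refine ⟨?_, R7.map c.toMonoidHom, R11.map c.toMonoidHom,
    ⟨((Subgroup.equivMapOfInjective R7 _ hinj).symm.trans (Subgroup.subgroupOfEquivOfLe hle7)).trans
      (MonoidHom.ofInjective CfsgLib.G2Invol.phi7_inj).symm⟩,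
    ⟨((Subgroup.equivMapOfInjective R11 _ hinj).symm.trans (Subgroup.subgroupOfEquivOfLe hle11)).trans
      (MonoidHom.ofInjective CfsgLib.G2Invol.phi11_inj).symm⟩, ?_, ?_, ?_, ?_⟩
  · rw [hcent, Subgroup.card_map_of_injective hinj,
      Nat.card_congr (Subgroup.subgroupOfEquivOfLe CfsgLib.G2Invol.CC_le_group).toEquiv,
      CfsgLib.G2Invol.card_CC h2]
  · rintro _ ⟨x, hx, rfl⟩ _ ⟨y, hy, rfl⟩
    rw [← map_mul, ← map_mul]
    congr 1
    obtain ⟨A, hA⟩ := hx
    obtain ⟨B, hB⟩ := hy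
    refine Subtype.ext ?_
    simp only [Subgroup.coe_mul]
    simp only [Subgroup.coe_subtype] at hA hB
    rw [← hA, ← hB]
    exact (CfsgLib.G2Invol.commute_phi A B).eq
  · rw [← Subgroup.map_inf _ _ _ hinj, hinf, MonoidHom.map_zpowers]
    exact congrArg Subgroup.zpowers hct
  · rw [← Subgroup.map_sup, hM, hcent]
    exact Subgroup.map_mono (fun x hx => hMC hx)
  · rw [← Subgroup.map_sup, hM, hcent, Subgroup.relIndex_map_map_of_injective _ _ hinj, hrel]
end Cfsg.Agent.S4279
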