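import Cfsg.Statements.S4280
import Cfsg.Agent.Lib.ChevInvol.DataF4
import Cfsg.Agent.Lib.ChevInvol.Coprime

set_option autoImplicit false
open Cfsg

namespace Cfsg.Agent.S4280

/-- In the Chevalley group of type F₄ over a finite field of odd order q there are exactly two conjugacy classes of involutions; the centralizer of an involution in one class has order q¹⁶(q² − 1)(q⁴ − 1)(q⁶ − 1)(q⁸ − 1), and in the other class q¹⁰(q² − 1)²(q⁴ − 1)(q⁶ − 1). -/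
theorem result {F : Type*} [Field F] [Fintype F] (hF : Odd (Fintype.card F)) : ∃ s t : ↥(Cfsg.Lie.chevF4.group F), orderOf s = 2 ∧ orderOf t = 2 ∧ ¬ IsConj s t ∧ (∀ u : ↥(Cfsg.Lie.chevF4.group F), orderOf u = 2 → IsConj u s ∨ IsConj u t) ∧ Nat.card (Subgroup.centralizer ({s} : Set ↥(Cfsg.Lie.chevF4.group F))) = Fintype.card F ^ 16 * (Fintype.card F ^ 2 - 1) * (Fintype.card F ^ 4 - 1) * (Fintype.card F ^ 6 - 1) * (Fintype.card F ^ 8 - 1) ∧ Nat.card (Subgroup.centralizer ({t} : Set ↥(Cfsg.Lie.chevF4.group F))) = Fintype.card F ^ 10 * (Fintype.card F ^ 2 - 1) ^ 2 * (Fintype.card F ^ 4 - 1) * (Fintype.card F ^ 6 - 1) := by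
  have h2 := CfsgLib.ChevInvol.two_ne_zero_of_odd hF
  obtain ⟨q, hq⟩ : ∃ q, Fintype.card F = q := ⟨_, rfl⟩
  have hq2 : 2 ≤ q := hq ▸ Fintype.one_lt_card
  obtain ⟨s, t, h1, h3, h4, h5, h6, h7⟩ := CfsgLib.ChevInvol.two_classes CfsgLib.Chev.F4.checked
    CfsgLib.ChevInvol.hcommF4 (F := F) hF CfsgLib.ChevInvol.orthPropF4 CfsgLib.ChevInvol.cinvF4_spec
    CfsgLib.Chev.cartF4 CfsgLib.Chev.cartF4_eq CfsgLib.ChevInvol.treeF4_1 CfsgLib.ChevInvol.treeF4_2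
    CfsgLib.ChevInvol.treeF4_1_ok CfsgLib.ChevInvol.treeF4_2_ok
    CfsgLib.ChevInvol.bitsF4_1 CfsgLib.ChevInvol.bitsF4_2 rfl rfl (by decide +kernel) (by decide +kernel)
    CfsgLib.ChevInvol.reachF4
    (CfsgLib.ChevInvol.ne_of_coprime (a := 10) (d := 6) hq2 (by norm_num) (by
      repeat' apply Nat.Coprime.mul_right
      all_goals exact CfsgLib.ChevInvol.coprime_pow_sub_one (by omega) (by norm_num)))
    (CfsgLib.ChevInvol.centF4_1 h2 hq) (CfsgLib.ChevInvol.centF4_2 h2 hq)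
  refine ⟨s, t, h1, h3, h4, h5, ?_, ?_⟩
  · rw [h6, hq]; ring
  · rw [h7, hq]; ring
end Cfsg.Agent.S4280
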