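import Cfsg.Statements.S4281
import Cfsg.Agent.Lib.ChevInvol.DataE8
import Cfsg.Agent.Lib.ChevInvol.Coprime

set_option autoImplicit false
open scoped BigOperators
open Cfsg

namespace Cfsg.Agent.S4281

/-- In the Chevalley group of type E₈ over a finite field of odd order q there are exactly two conjugacy classes of involutions; the centralizer of an involution in one class has order q⁵⁶(q⁸ − 1)·∏_{i=1}^{7}(q^{2i} − 1), and in the other class q⁶⁴(q² − 1)²(q⁶ − 1)(q⁸ − 1)(q¹⁰ − 1)(q¹² − 1)(q¹⁴ − 1)(q¹⁸ − 1). -/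
theorem result {F : Type*} [Field F] [Fintype F] (hF : Odd (Fintype.card F)) : ∃ s t : ↥(Cfsg.Lie.chevE8.group F), orderOf s = 2 ∧ orderOf t = 2 ∧ ¬ IsConj s t ∧ (∀ u : ↥(Cfsg.Lie.chevE8.group F), orderOf u = 2 → IsConj u s ∨ IsConj u t) ∧ Nat.card (Subgroup.centralizer ({s} : Set ↥(Cfsg.Lie.chevE8.group F))) = Fintype.card F ^ 56 * (Fintype.card F ^ 8 - 1) * ∏ i ∈ Finset.Icc 1 7, (Fintype.card F ^ (2 * i) - 1) ∧ Nat.card (Subgroup.centralizer ({t} : Set ↥(Cfsg.Lie.chevE8.group F))) = Fintype.card F ^ 64 * (Fintype.card F ^ 2 - 1) ^ 2 * (Fintype.card F ^ 6 - 1) * (Fintype.card F ^ 8 - 1) * (Fintype.card F ^ 10 - 1) * (Fintype.card F ^ 12 - 1) * (Fintype.card F ^ 14 - 1) * (Fintype.card F ^ 18 - 1) := by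
  have h2 := CfsgLib.ChevInvol.two_ne_zero_of_odd hF
  obtain ⟨q, hq⟩ : ∃ q, Fintype.card F = q := ⟨_, rfl⟩
  have hq2 : 2 ≤ q := hq ▸ Fintype.one_lt_card
  obtain ⟨s, t, h1, h3, h4, h5, h6, h7⟩ := CfsgLib.ChevInvol.two_classes CfsgLib.Chev.E8.checked
    CfsgLib.ChevInvol.hcommE8 (F := F) hF CfsgLib.ChevInvol.orthPropE8 CfsgLib.ChevInvol.cinvE8_spec
    CfsgLib.Chev.cartE8 CfsgLib.Chev.cartE8_eq CfsgLib.ChevInvol.treeE8_1 CfsgLib.ChevInvol.treeE8_2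
    CfsgLib.ChevInvol.treeE8_1_ok CfsgLib.ChevInvol.treeE8_2_ok
    CfsgLib.ChevInvol.bitsE8_1 CfsgLib.ChevInvol.bitsE8_2 rfl rfl (by decide +kernel) (by decide +kernel)
    CfsgLib.ChevInvol.reachE8
    (Ne.symm (CfsgLib.ChevInvol.ne_of_coprime (a := 56) (d := 8) hq2 (by norm_num) (by
      repeat' apply Nat.Coprime.mul_right
      all_goals exact CfsgLib.ChevInvol.coprime_pow_sub_one (by omega) (by norm_num))))
    (CfsgLib.ChevInvol.centE8_1 h2 hq) (CfsgLib.ChevInvol.centE8_2 h2 hq)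
  refine ⟨s, t, h1, h3, h4, h5, ?_, ?_⟩
  · rw [h6, hq]
    simp only [show Finset.Icc 1 7 = ({1, 2, 3, 4, 5, 6, 7} : Finset ℕ) by decide, Finset.prod_insert, Finset.mem_insert,
      Finset.mem_singleton, Finset.prod_singleton, Nat.reduceEqDiff, Nat.reduceMul, or_self, not_false_eq_true]
    ring
  · rw [h7, hq]; ring
end Cfsg.Agent.S4281
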