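import Cfsg.Statements.S4282
import Cfsg.Agent.Lib.HallHigman.TheoremB

set_option autoImplicit false
open Cfsg

namespace Cfsg.Agent.S4282

open CfsgLib.HallHigman

theorem schur {G : Type*} [Group G] {K : Type*} [Field K] [IsAlgClosed K] {V : Type*} [AddCommGroup V]
    [Module K V] [FiniteDimensional K V] [Nontrivial V] (ρ : Representation K G V) (Q : Subgroup G)
    (hirr : ∀ W : Submodule K V, (∀ g ∈ Q, Submodule.map (ρ g) W ≤ W) → W = ⊥ ∨ W = ⊤)
    (f : Module.End K V) (hf : ∀ g ∈ Q, Commute (ρ g) f) : IsScal f := by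
  obtain ⟨c, hc⟩ := Module.End.exists_eigenvalue f
  refine ⟨c, LinearMap.ext fun v => ?_⟩
  have h := hirr (Module.End.eigenspace f c) (fun g hg => by
    rintro _ ⟨w, hw, rfl⟩
    rw [SetLike.mem_coe, Module.End.mem_eigenspace_iff] at hw
    rw [Module.End.mem_eigenspace_iff, ← Module.End.mul_apply, ← (hf g hg).eq, Module.End.mul_apply, hw, map_smul])
  have htop := h.resolve_left hc
  have hv : v ∈ Module.End.eigenspace f c := htop ▸ Submodule.mem_top
  simpa using Module.End.mem_eigenspace_iff.1 hv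

/-- A critical case behind the Hall–Higman theorem. Let p ≠ q be primes and G a finite group generated by a normal q-subgroup Q and a cyclic p-subgroup generated by x, such that the centralizer of every non-identity element of that cyclic subgroup is its product with the centre of G. Let K be an algebraically closed field of characteristic p and ρ a faithful representation of G on a nonzero finite-dimensional K-space whose restriction to Q is irreducible. If s is the least exponent with (ρ(x) − 1)^s = 0, then |⟨x⟩| − 1 ≤ s ≤ |⟨x⟩|; and if s = |⟨x⟩| − 1 then |⟨x⟩| − 1 is a power of q and Q is non-abelian. -/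
theorem result {G : Type*} [Group G] [Finite G] (p q : ℕ) [Fact p.Prime] [Fact q.Prime] (hpq : p ≠ q) (Q : Subgroup G) [Q.Normal] (hQ : IsPGroup q Q) (x : G) (hx : IsPGroup p (Subgroup.zpowers x)) (hgen : Q ⊔ Subgroup.zpowers x = ⊤) (hC : ∀ y ∈ Subgroup.zpowers x, y ≠ 1 → Subgroup.centralizer ({y} : Set G) = Subgroup.zpowers x ⊔ Subgroup.center G) {K : Type*} [Field K] [IsAlgClosed K] [CharP K p] {V : Type*} [AddCommGroup V] [Module K V] [FiniteDimensional K V] [Nontrivial V] (ρ : Representation K G V) (hfaith : Function.Injective ρ) (hirr : ∀ W : Submodule K V, (∀ g ∈ Q, Submodule.map (ρ g) W ≤ W) → W = ⊥ ∨ W = ⊤) (s : ℕ) (hs : (ρ x - 1) ^ s = 0) (hmin : ∀ k < s, (ρ x - 1) ^ k ≠ 0) : Nat.card (Subgroup.zpowers x) - 1 ≤ s ∧ s ≤ Nat.card (Subgroup.zpowers x) ∧ (s = Nat.card (Subgroup.zpowers x) - 1 → (∃ b : ℕ, Nat.card (Subgroup.zpowers x) - 1 = q ^ b) ∧ ¬ IsMulCommutative Q) := by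
  classical
  obtain ⟨n, hn⟩ := IsPGroup.iff_card.1 hx
  rw [hn]
  have hord : orderOf x = p ^ n := by rw [← Nat.card_zpowers, hn]
  have hxP : x ^ p ^ n = 1 := by rw [← hord]; exact pow_orderOf_eq_one x
  have hnil : (ρ x - 1) ^ p ^ n = 0 := by
    rw [sub_one_pow_char (K := K), ← map_pow, hxP, map_one, sub_self]
  have hsle : s ≤ p ^ n := by
    by_contra h
    exact hmin _ (not_le.1 h) hnil
  have hs0 : s ≠ 0 := by
    intro h
    rw [h, pow_zero] at hs
    exact one_ne_zero hs
  rcases Nat.eq_zero_or_pos n with hn0 | hn1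
  · refine ⟨?_, hsle, fun h => ?_⟩ <;> simp [hn0] at * <;> omega
  set y := x ^ p ^ (n - 1) with hy
  have hyne : y ≠ 1 := by
    intro h
    have h1 := Nat.le_of_dvd (pow_pos (Fact.out : p.Prime).pos _) (orderOf_dvd_of_pow_eq_one h)
    rw [hord] at h1
    have := Nat.pow_lt_pow_right (Fact.out : p.Prime).one_lt (show n - 1 < n by omega)
    omega
  have hymem : y ∈ Subgroup.zpowers x := Subgroup.pow_mem _ (Subgroup.mem_zpowers x) _
  have hdec : ∀ g ∈ Q, Commute g y → ∃ (j : ℤ) (z : G), z ∈ Subgroup.center G ∧ g = x ^ j * z := by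
    intro g _ hgy
    have h1 : g ∈ Subgroup.centralizer ({y} : Set G) := by
      rw [Subgroup.mem_centralizer_iff]
      intro h hh
      rw [Set.mem_singleton_iff.1 hh]
      exact hgy.eq.symm
    rw [hC y hymem hyne, Subgroup.mem_sup_of_normal_right] at h1
    obtain ⟨_, ⟨j, rfl⟩, z, hz, e⟩ := h1
    exact ⟨j, z, hz, e.symm⟩
  have hcentre : ∀ z ∈ Subgroup.center G, IsScal (ρ z) := fun z hz => schur ρ Q hirr _ fun g _ => by
    show ρ g * ρ z = ρ z * ρ g
    rw [← map_mul, ← map_mul, Subgroup.mem_center_iff.1 hz g]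
  have hcop : p.Coprime q := (Nat.coprime_primes Fact.out Fact.out).2 hpq
  have hnc : ∃ g ∈ Q, ¬ Commute (ρ g) (ρ y) := by
    by_contra hall
    push Not at hall
    have hcx : ∀ g ∈ Q, Commute (ρ g) (ρ x) := by
      intro g hg
      have hgy : Commute g y := hfaith (by rw [map_mul, map_mul]; exact (hall g hg).eq)
      obtain ⟨j, z, hz, rfl⟩ := hdec g hg hgy
      have : Commute (x ^ j * z) x :=
        Commute.mul_left ((Commute.refl x).zpow_left j) (Subgroup.mem_center_iff.1 hz x).symm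
      show ρ _ * ρ x = ρ x * ρ _
      rw [← map_mul, ← map_mul, this.eq]
    obtain ⟨c, hc⟩ := schur ρ Q hirr _ hcx
    have h1 := hnil
    rw [hc] at h1
    have h2 : ((c - 1) ^ p ^ n) • (1 : Module.End K V) = 0 := by
      rw [← h1, show c • (1 : Module.End K V) - 1 = (c - 1) • (1 : Module.End K V) by rw [sub_smul, one_smul],
        smul_pow, one_pow]
    obtain ⟨v, hv⟩ := exists_ne (0 : V)
    have h3 : (c - 1) ^ p ^ n = 0 := (smul_eq_zero.1 h2).resolve_right one_ne_zero
    have h4 : c = 1 := sub_eq_zero.1 (eq_zero_of_pow_eq_zero h3)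
    have h5 : x = 1 := hfaith (by rw [hc, h4, one_smul, map_one])
    exact hyne (by rw [hy, h5, one_pow])
  have hStrong : Strong ρ Q y := by
    intro g hg hgy
    have hgy' : Commute g y := hfaith (by rw [map_mul, map_mul]; exact hgy.eq)
    obtain ⟨j, z, hz, e⟩ := hdec g hg hgy'
    have hgp : g ^ p ^ n = z ^ p ^ n := by
      have hcz : Commute (x ^ j) z := Subgroup.mem_center_iff.1 hz _
      rw [e, hcz.mul_pow, ← zpow_natCast (x ^ j), ← zpow_mul, mul_comm j, zpow_mul, zpow_natCast, hxP,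
        one_zpow, one_mul]
    obtain ⟨b, hb⟩ := hQ ⟨g, hg⟩
    have hb' : g ^ q ^ b = 1 := congrArg Subtype.val hb
    obtain ⟨k, hk⟩ : ∃ k : ℕ, g = (g ^ p ^ n) ^ k := by
      obtain ⟨k, hk⟩ := exists_pow_eq_self_of_coprime (n := p ^ n) (x := g)
        ((Nat.Coprime.pow n b hcop).coprime_dvd_right (orderOf_dvd_of_pow_eq_one hb'))
      exact ⟨k, hk.symm⟩
    obtain ⟨c, hc⟩ := hcentre (z ^ p ^ n) (Subgroup.pow_mem _ hz _)
    refine ⟨c ^ k, ?_⟩
    rw [hk, hgp, map_pow ρ (z ^ p ^ n) k, hc, smul_pow, one_pow]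
  have hxQ : ∀ g ∈ Q, x * g * x⁻¹ ∈ Q := fun g hg => (inferInstance : Q.Normal).conj_mem g hg x
  rcases theoremB p q hpq ρ Q x n s hQ hxQ hxP hn1 hnc hs with h | ⟨n₀, m, _, _, _, h4, h5, h6, h7⟩
  · have : 0 < p ^ n := pow_pos (Fact.out : p.Prime).pos n
    exact ⟨by omega, hsle, fun h' => by omega⟩
  · have hn₀ : n₀ = n := h5 hStrong
    subst hn₀
    rw [Nat.sub_self, pow_zero, one_mul] at h7
    refine ⟨h7, hsle, fun _ => ⟨⟨m, h4⟩, fun hcomm => h6 fun g hg k hk => ?_⟩⟩
    have := congrArg Subtype.val (hcomm.is_comm.comm ⟨g, hg⟩ ⟨k, hk⟩)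
    show ρ g * ρ k = ρ k * ρ g
    rw [← map_mul, ← map_mul]
    exact congrArg ρ this

end Cfsg.Agent.S4282
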