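import Cfsg.Statements.S4283
import Cfsg.Agent.Lib.Frobenius.Basic
import Cfsg.Agent.Lib.PSingular.Basic

set_option autoImplicit false
open Cfsg

namespace Cfsg.Agent.S4283

/-- Let G be a finite group with centre Z and let K, H be abelian subgroups of G containing Z such that G/Z is a Frobenius group with complement H/Z and kernel K/Z. Then the conjugacy class sizes of G are exactly 1, [G : K] and [G : H], and these two indices are coprime. (This is the converse half of the characterization of finite groups whose conjugacy class sizes are exactly 1, m and n with m and n coprime.) -/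
theorem result {G : Type*} [Group G] [Finite G] (K H : Subgroup G) (hZK : Subgroup.center G ≤ K) (hZH : Subgroup.center G ≤ H) (hK : IsMulCommutative K) (hH : IsMulCommutative H) (hFrob : Cfsg.IsFrobeniusComplement (H.map (QuotientGroup.mk' (Subgroup.center G)))) (hker : Cfsg.frobeniusKernel (H.map (QuotientGroup.mk' (Subgroup.center G))) = (K.map (QuotientGroup.mk' (Subgroup.center G)) : Set (G ⧸ Subgroup.center G))) : Set.range (fun x : G => (Subgroup.centralizer ({x} : Set G)).index) = ({1, K.index, H.index} : Set ℕ) ∧ K.index.Coprime H.index := by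
  classical
  set Z := Subgroup.center G with hZ
  set π := QuotientGroup.mk' Z with hπ
  have hsurj : Function.Surjective π := QuotientGroup.mk'_surjective Z
  have hker' : π.ker = Z := QuotientGroup.ker_mk' Z
  obtain ⟨hn, hc⟩ := CfsgLib.Frobenius.normal_isComplement'_of_coe_eq hFrob hker.symm
  have hKi : (K.map π).index = K.index :=
    Subgroup.index_map_eq _ hsurj (hker'.le.trans hZK)
  have hHi : (H.map π).index = H.index :=
    Subgroup.index_map_eq _ hsurj (hker'.le.trans hZH)
  have hmem : ∀ (L : Subgroup G), Z ≤ L → ∀ g : G, π g ∈ L.map π → g ∈ L := by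
    intro L hL g hg
    have : g ∈ (L.map π).comap π := hg
    rwa [Subgroup.comap_map_eq_self (hker'.le.trans hL)] at this
  have hcomm : ∀ x g : G, g ∈ Subgroup.centralizer ({x} : Set G) →
      π g ∈ Subgroup.centralizer ({π x} : Set (G ⧸ Z)) := by
    intro x g hg
    rw [Subgroup.mem_centralizer_singleton_iff] at hg ⊢
    rw [← map_mul, hg, map_mul]
  -- centralisers of elements of `K` outside the centre
  have hCK : ∀ x ∈ K, x ∉ Z → Subgroup.centralizer ({x} : Set G) = K := by
    intro x hx hxZ
    refine le_antisymm (fun g hg => ?_) fun g hg =>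
      Subgroup.mem_centralizer_singleton_iff.mpr (congrArg Subtype.val (hK.is_comm.comm ⟨g, hg⟩ ⟨x, hx⟩))
    refine hmem K hZK g ?_
    rw [← SetLike.mem_coe, ← hker]
    refine or_iff_not_imp_left.mpr fun hg1 a ha => hxZ ?_
    have hx1 : π x = 1 := by
      refine CfsgLib.Frobenius.eq_one_of_mem_kernel_of_mem (g := a)
        (by rw [hker]; exact Subgroup.mem_map_of_mem π hx) ?_
      refine CfsgLib.Frobenius.centralizer_le (CfsgLib.Frobenius.conj hFrob a) ha
        hg1 ?_
      have := hcomm x g hg
      rw [Subgroup.mem_centralizer_singleton_iff] at this ⊢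
      exact this.symm
    exact (QuotientGroup.eq_one_iff x).mp hx1
  have hCH : ∀ x ∈ H, x ∉ Z → Subgroup.centralizer ({x} : Set G) = H := by
    intro x hx hxZ
    refine le_antisymm (fun g hg => ?_) fun g hg =>
      Subgroup.mem_centralizer_singleton_iff.mpr (congrArg Subtype.val (hH.is_comm.comm ⟨g, hg⟩ ⟨x, hx⟩))
    exact hmem H hZH g (CfsgLib.Frobenius.centralizer_le hFrob (Subgroup.mem_map_of_mem π hx)
      (fun h => hxZ ((QuotientGroup.eq_one_iff x).mp h)) (hcomm x g hg))
  refine ⟨Set.Subset.antisymm ?_ ?_, ?_⟩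
  · rintro _ ⟨x, rfl⟩
    show (Subgroup.centralizer ({x} : Set G)).index ∈ ({1, K.index, H.index} : Set ℕ)
    by_cases hxZ : x ∈ Z
    · left
      rw [Subgroup.index_eq_one, Subgroup.centralizer_eq_top_iff_subset]
      exact Set.singleton_subset_iff.mpr hxZ
    by_cases hxK : π x ∈ Cfsg.frobeniusKernel (H.map π)
    · right; left
      rw [hker] at hxK
      rw [hCK x (hmem K hZK x hxK) hxZ]
    · right; right
      simp only [Cfsg.frobeniusKernel, Set.mem_ofPred_eq, not_or, not_forall, not_not] at hxK
      obtain ⟨-, a, ha⟩ := hxK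
      obtain ⟨a, rfl⟩ := hsurj a
      rw [CfsgLib.Frobenius.mem_conjSMul_iff, ← map_inv, ← map_mul, ← map_mul] at ha
      have h1 := hmem H hZH _ ha
      have h2 : a⁻¹ * x * a ∉ Z := fun h => hxZ (by
        simpa [mul_assoc] using (inferInstance : Z.Normal).conj_mem _ h a)
      rw [show x = a * (a⁻¹ * x * a) * a⁻¹ by group, CfsgLib.PSingular.index_centralizer_conj,
        hCH _ h1 h2, Set.mem_singleton_iff]
  · rintro n (rfl | rfl | rfl)
    · refine ⟨1, ?_⟩
      show (Subgroup.centralizer ({(1 : G)} : Set G)).index = 1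
      rw [Subgroup.index_eq_one, Subgroup.centralizer_eq_top_iff_subset]
      exact Set.singleton_subset_iff.mpr Z.one_mem
    · have hne : K.map π ≠ ⊥ := by
        intro h
        have h1 := hc.index_eq_card
        rw [h, Subgroup.card_bot] at h1
        have := CfsgLib.Frobenius.index_ge_two hFrob
        omega
      obtain ⟨⟨w, hw⟩, hw1⟩ := Subgroup.ne_bot_iff_exists_ne_one.mp hne
      obtain ⟨x, hx, rfl⟩ := hw
      refine ⟨x, congrArg Subgroup.index (hCK x hx fun h => hw1 (Subtype.ext ?_))⟩
      exact (QuotientGroup.eq_one_iff x).mpr h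
    · obtain ⟨w, hw, hw1⟩ := CfsgLib.Frobenius.exists_ne_one hFrob
      obtain ⟨x, hx, rfl⟩ := hw
      exact ⟨x, congrArg Subgroup.index
        (hCH x hx fun h => hw1 ((QuotientGroup.eq_one_iff x).mpr h))⟩
  · rw [← hKi, ← hHi, hc.symm.index_eq_card]
    exact CfsgLib.Frobenius.coprime_card_index hFrob

end Cfsg.Agent.S4283
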