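import Cfsg.Statements.S4291
import Cfsg.Agent.Lib.Frobenius.ComplementSolvable
import Cfsg.Agent.Lib.Frobenius.Theorem
import Cfsg.Agent.Lib.Frobenius.Fpf
import Cfsg.Agent.Lib.Frobenius.FpfRep
import Cfsg.Agent.Lib.Zassenhaus.Transfer
import Cfsg.Agent.Lib.Zassenhaus.Nonsolvable
import Cfsg.Agent.Lib.Alt.Aut
import Cfsg.Agent.Lib.Char.Burnside
import Mathlib.GroupTheory.SpecificGroups.KleinFour

set_option autoImplicit false
open Cfsg

namespace Cfsg.Agent.S4291

open CfsgLib.Zassenhaus

/-- Two commuting distinct involutions. -/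
def HasKlein {T : Type*} [Group T] (M : Subgroup T) : Prop :=
  ∃ x y : T, x ∈ M ∧ y ∈ M ∧ x ^ 2 = 1 ∧ y ^ 2 = 1 ∧ x ≠ 1 ∧ y ≠ 1 ∧ x ≠ y ∧ x * y = y * x

/-- Every nontrivial normal subgroup has two commuting involutions. -/
def Big (T : Type*) [Group T] : Prop := ∀ M : Subgroup T, M.Normal → M ≠ ⊥ → HasKlein M

theorem isSmall_of_isZGroup {G : Type*} [Group G] [Finite G] {K : Subgroup G} (h : IsZGroup K) :
    IsSmall K := by
  intro P hP h2
  haveI : Fact (Nat.Prime 2) := ⟨Nat.prime_two⟩
  obtain ⟨S, hS⟩ := (show IsPGroup 2 (P.subgroupOf K) from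
    h2.of_equiv (Subgroup.subgroupOfEquivOfLe hP).symm).exists_le_sylow
  haveI : IsCyclic (S : Subgroup K) := h.isZGroup 2 Nat.prime_two S
  haveI : IsCyclic (P.subgroupOf K) :=
    isCyclic_of_injective (Subgroup.inclusion hS) (Subgroup.inclusion_injective hS)
  exact isCyclic_of_surjective _ (Subgroup.subgroupOfEquivOfLe hP).surjective

theorem not_hasKlein {T : Type*} [Group T] [Finite T] {M : Subgroup T} (hM : IsZGroup M) :
    ¬ HasKlein M := by
  classical
  rintro ⟨x, y, hxM, hyM, hx, hy, hx1, hy1, hxy, hc⟩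
  haveI : Fact (Nat.Prime 2) := ⟨Nat.prime_two⟩
  haveI : IsMulCommutative (Subgroup.closure ({x, y} : Set T)) :=
    Subgroup.isMulCommutative_closure (by
      rintro a (rfl | rfl) b (rfl | rfl) <;> simp [hc])
  have hpow : ∀ g ∈ Subgroup.closure ({x, y} : Set T), g ^ 2 = 1 := by
    intro g hg
    induction hg using Subgroup.closure_induction with
    | mem g hg => rcases hg with rfl | rfl <;> assumption
    | one => exact one_pow 2
    | mul a b ha hb h1 h2 => rw [(show Commute a b from setLike_mul_comm ha hb).mul_pow, h1, h2, one_mul]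
    | inv a _ h1 => rw [inv_pow, h1, inv_one]
  have h2 : IsPGroup 2 (Subgroup.closure ({x, y} : Set T)) := fun g => ⟨1, Subtype.ext (hpow g g.2)⟩
  set X := Subgroup.closure ({x, y} : Set T)
  haveI : IsCyclic X := isSmall_of_isZGroup hM X ((Subgroup.closure_le M).2 (by
    rintro a (rfl | rfl) <;> assumption)) h2
  obtain ⟨g, hg⟩ := IsCyclic.exists_generator (α := X)
  have hg2 : g ^ 2 = 1 := Subtype.ext (hpow g g.2)
  have key : ∀ a : X, a = 1 ∨ a = g := fun a => by
    obtain ⟨i, rfl⟩ := Subgroup.mem_zpowers_iff.1 (hg a)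
    rcases Int.even_or_odd i with ⟨j, rfl⟩ | ⟨j, rfl⟩
    · refine Or.inl ?_
      rw [← two_mul, zpow_mul, zpow_two, ← pow_two, hg2, one_zpow]
    · refine Or.inr ?_
      rw [zpow_add, zpow_mul, zpow_two, ← pow_two, hg2, one_zpow, one_mul, zpow_one]
  have hxX : x ∈ X := Subgroup.subset_closure (Or.inl rfl)
  have hyX : y ∈ X := Subgroup.subset_closure (Or.inr rfl)
  rcases key ⟨x, hxX⟩ with h | h
  · exact hx1 (congrArg Subtype.val h)
  rcases key ⟨y, hyX⟩ with h' | h'
  · exact hy1 (congrArg Subtype.val h')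
  exact hxy (congrArg Subtype.val (h.trans h'.symm))

theorem le_ker {G T : Type*} [Group G] [Finite G] [Group T] [Finite T] (hT : Big T) (f : G →* T)
    (hf : Function.Surjective f) {L : Subgroup G} [L.Normal] (hL : IsZGroup L) : L ≤ f.ker := by
  rw [← Subgroup.map_eq_bot_iff]
  by_contra hne
  haveI := hL
  exact not_hasKlein (IsZGroup.of_surjective (f.subgroupMap_surjective L))
    (hT _ (Subgroup.Normal.map inferInstance f hf) hne)

theorem mem_of_four : ∀ x : alternatingGroup (Fin 4), x ≠ 1 → ∃ g h : alternatingGroup (Fin 4),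
    let a := if x ^ 2 = 1 then x else x * g * x⁻¹ * g⁻¹
    a ^ 2 = 1 ∧ a ≠ 1 ∧ h * a * h⁻¹ ≠ a ∧ a * (h * a * h⁻¹) = h * a * h⁻¹ * a := by
  decide +kernel

theorem big_alt_four : Big (alternatingGroup (Fin 4)) := by
  intro M hM hne
  haveI := (Subgroup.nontrivial_iff_ne_bot M).2 hne
  obtain ⟨⟨x, hxM⟩, hx⟩ := exists_ne (1 : M)
  obtain ⟨g, h, ha⟩ := mem_of_four x (fun e => hx (Subtype.ext e))
  set a := if x ^ 2 = 1 then x else x * g * x⁻¹ * g⁻¹
  obtain ⟨h1, h2, h3, h4⟩ := ha
  have haM : a ∈ M := by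
    simp only [a]
    split_ifs
    · exact hxM
    · rw [mul_assoc, mul_assoc]
      exact M.mul_mem hxM (by simpa [mul_assoc] using hM.conj_mem _ (M.inv_mem hxM) g)
  refine ⟨a, h * a * h⁻¹, haM, hM.conj_mem a haM h, h1, ?_, h2, ?_, Ne.symm h3, h4⟩
  · rw [conj_pow, h1, mul_one, mul_inv_cancel]
  · intro e
    exact h2 (by simpa [mul_inv_eq_one] using e)

theorem big_alt_five : Big (alternatingGroup (Fin 5)) := by
  intro M hM hne
  rcases IsSimpleGroup.eq_bot_or_eq_top_of_normal M hM with h | h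
  · exact absurd h hne
  subst h
  let x : alternatingGroup (Fin 5) := ⟨Equiv.swap 0 1 * Equiv.swap 2 3, Equiv.Perm.mem_alternatingGroup.2 (by decide +kernel)⟩
  let y : alternatingGroup (Fin 5) := ⟨Equiv.swap 0 2 * Equiv.swap 1 3, Equiv.Perm.mem_alternatingGroup.2 (by decide +kernel)⟩
  exact ⟨x, y, Subgroup.mem_top _, Subgroup.mem_top _, by decide +kernel, by decide +kernel,
    by decide +kernel, by decide +kernel, by decide +kernel, by decide +kernel⟩

theorem big_perm {n : ℕ} (h4 : 4 ≤ n) (h : Big (alternatingGroup (Fin n))) :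
    Big (Equiv.Perm (Fin n)) := by
  intro M hM hne
  haveI := hM
  by_cases hbot : M.subgroupOf (alternatingGroup (Fin n)) = ⊥
  · exfalso
    apply hne
    rw [Subgroup.eq_bot_iff_forall]
    intro x hx
    refine CfsgLib.AltAut.conjNormal_injective (α := Fin n) (by simpa using h4) ?_
    rw [map_one]
    refine MulEquiv.ext fun a => Subtype.ext ?_
    show x * a * x⁻¹ = a
    have h1 : x * (a : Equiv.Perm (Fin n)) * x⁻¹ * (a : Equiv.Perm (Fin n))⁻¹ ∈ M := by
      rw [mul_assoc, mul_assoc]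
      exact M.mul_mem hx (by simpa [mul_assoc] using hM.conj_mem _ (M.inv_mem hx) a)
    have h2 : x * (a : Equiv.Perm (Fin n)) * x⁻¹ * (a : Equiv.Perm (Fin n))⁻¹ ∈ alternatingGroup (Fin n) :=
      Subgroup.mul_mem _ ((inferInstance : (alternatingGroup (Fin n)).Normal).conj_mem _ a.2 x) (Subgroup.inv_mem _ a.2)
    have h3 : (⟨_, h2⟩ : alternatingGroup (Fin n)) ∈ M.subgroupOf (alternatingGroup (Fin n)) := h1
    rw [hbot, Subgroup.mem_bot] at h3
    exact mul_inv_eq_one.1 (congrArg Subtype.val h3)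
  · obtain ⟨x, y, hx, hy, h1, h2, h3, h4', h5, h6⟩ := h _ inferInstance hbot
    exact ⟨x, y, hx, hy, congrArg Subtype.val h1, congrArg Subtype.val h2,
      fun e => h3 (Subtype.ext e), fun e => h4' (Subtype.ext e), fun e => h5 (Subtype.ext e),
      congrArg Subtype.val h6⟩

theorem hasKlein_top_dihedral : HasKlein (⊤ : Subgroup (DihedralGroup 2)) :=
  ⟨DihedralGroup.r 1, DihedralGroup.sr 0, Subgroup.mem_top _, Subgroup.mem_top _, by decide,
    by decide, by decide, by decide, by decide, by decide⟩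

theorem hasKlein_top {T : Type*} [Group T] [Nontrivial T] (h : Big T) : HasKlein (⊤ : Subgroup T) :=
  h ⊤ inferInstance top_ne_bot

/-- A quotient with two commuting involutions is impossible for a group with cyclic Sylow 2-subgroups. -/
theorem no_quotient {G T : Type*} [Group G] [Finite G] [Group T] [Finite T]
    (hT : HasKlein (⊤ : Subgroup T)) (f : G →* T) (hf : Function.Surjective f) : ¬ IsZGroup G := by
  intro hG
  haveI := hG
  haveI : IsZGroup T := IsZGroup.of_surjective hf
  exact not_hasKlein (IsZGroup.of_surjective (f := (Subgroup.topEquiv : (⊤ : Subgroup T) ≃* T).symm.toMonoidHom)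
    Subgroup.topEquiv.symm.surjective) hT

theorem isSolvable_five {G T : Type*} [Group G] [Group T] [Group.IsSolvable G] (f : G →* T)
    (hf : Function.Surjective f) (hT : ¬ Group.IsSolvable T) : False :=
  hT (Group.isSolvable_of_surjective hf)

theorem not_isSolvable_alt_five : ¬ Group.IsSolvable (alternatingGroup (Fin 5)) := fun h => by
  haveI := h
  haveI : IsMulCommutative (alternatingGroup (Fin 5)) := ⟨⟨IsSimpleGroup.comm_iff_isSolvable.2 h⟩⟩
  let x : alternatingGroup (Fin 5) := ⟨Equiv.swap 0 1 * Equiv.swap 2 3, Equiv.Perm.mem_alternatingGroup.2 (by decide +kernel)⟩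
  let y : alternatingGroup (Fin 5) := ⟨Equiv.swap 0 2 * Equiv.swap 0 1, Equiv.Perm.mem_alternatingGroup.2 (by decide +kernel)⟩
  exact absurd (mul_comm' x y) (by decide +kernel)

theorem not_isSolvable_perm_five : ¬ Group.IsSolvable (Equiv.Perm (Fin 5)) :=
  fun h => not_isSolvable_alt_five (by haveI := h; infer_instance)

/-- The statement of the theorem for a group with a fixed-point-free representation. -/
def Target (G : Type*) [Group G] (N : Subgroup G) : Prop :=
  N = ⊤ ∨
    (∃ f : G →* DihedralGroup 2, Function.Surjective f ∧ f.ker = N) ∨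
    (∃ f : G →* alternatingGroup (Fin 4), Function.Surjective f ∧ f.ker = N) ∨
    (∃ f : G →* Equiv.Perm (Fin 4), Function.Surjective f ∧ f.ker = N) ∨
    (∃ f : G →* alternatingGroup (Fin 5), Function.Surjective f ∧ f.ker = N) ∨
    (∃ f : G →* Equiv.Perm (Fin 5), Function.Surjective f ∧ f.ker = N)

variable {G : Type*} [Group G] [Finite G]

/-- Uniqueness against a kernel of a map onto one of the groups with the property `Big`. -/
theorem eq_of_big {T T' : Type*} [Group T] [Finite T] [Group T'] [Finite T'] (hT : Big T)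
    (hT' : Big T') (f : G →* T) (hf : Function.Surjective f) (f' : G →* T')
    (hf' : Function.Surjective f') (h1 : IsZGroup f.ker) (h2 : IsZGroup f'.ker) : f'.ker = f.ker :=
  le_antisymm (le_ker hT f hf h2) (le_ker hT' f' hf' h1)

theorem nonsolvable_case (hG : HasFpf G) (hns : ¬ Group.IsSolvable G) :
    ∃! N : Subgroup G, N.Normal ∧ IsZGroup N ∧ Target G N := by
  haveI : Fact (Nat.Prime 2) := ⟨Nat.prime_two⟩
  obtain ⟨E, M, D⟩ := hG.exists_nsData hns
  haveI := D.normalE
  set C := Subgroup.centralizer (E : Set G) with hC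
  have hodd : ¬ 2 ∣ Nat.card M := fun h =>
    Nat.not_coprime_of_dvd_of_dvd one_lt_two h (show 2 ∣ 30 by norm_num) D.coprime
  have hsmall : IsSmall C := by
    intro P hP hP2
    obtain ⟨k, hk⟩ := IsPGroup.iff_card.1 hP2
    have hd : Nat.card P ∣ 2 * Nat.card M := D.card_centralizer ▸ Subgroup.card_dvd_of_le hP
    rw [hk] at hd
    rcases k with _ | _ | k
    · rw [pow_zero] at hk
      haveI : Subsingleton P := (Nat.card_eq_one_iff_unique.1 hk).1
      infer_instance
    · exact isCyclic_of_prime_card (p := 2) (by simpa using hk)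
    · exfalso
      exact hodd ((Nat.mul_dvd_mul_iff_left two_pos).1
        (dvd_trans ⟨2 ^ k, by ring⟩ hd : 2 * 2 ∣ 2 * Nat.card M))
  have hZC : IsZGroup C := hG.isZGroup hsmall
  obtain ⟨f, hker, hrange⟩ := D.action
  have hCns : ∀ (T : Type) [Group T] [Group.IsSolvable T] (g : G →* T), ¬ IsZGroup g.ker := by
    intro T _ _ g hg
    haveI := hg
    haveI : Group.IsSolvable g.ker := inferInstance
    exact hns ((Group.isSolvable_iff_subgroup_quotient g.ker).2
      ⟨inferInstance, solvable_of_solvable_injective (f := QuotientGroup.kerLift g) (QuotientGroup.kerLift_injective g)⟩)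
  haveI : Group.IsSolvable (alternatingGroup (Fin 4)) := by
    refine CfsgLib.Char.isSolvable_of_card_eq_prime_pow_mul (p := 2) (q := 3) (a := 2) (b := 1)
      Nat.prime_two Nat.prime_three ?_
    rw [Nat.card_eq_fintype_card]; decide +kernel
  haveI : Group.IsSolvable (Equiv.Perm (Fin 4)) := by
    refine CfsgLib.Char.isSolvable_of_card_eq_prime_pow_mul (p := 2) (q := 3) (a := 3) (b := 1)
      Nat.prime_two Nat.prime_three ?_
    rw [Nat.card_perm, Nat.card_eq_fintype_card, Fintype.card_fin]; rfl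
  haveI : Group.IsSolvable (DihedralGroup 2) := by
    refine CfsgLib.Char.isSolvable_of_card_eq_prime_pow_mul (p := 2) (q := 3) (a := 2) (b := 0)
      Nat.prime_two Nat.prime_three ?_
    rw [Nat.card_eq_fintype_card, DihedralGroup.card]; rfl
  have huniq : ∀ {T : Type} [Group T] [Finite T], Big T → ∀ (g : G →* T), Function.Surjective g →
      g.ker = C → ∀ N : Subgroup G, N.Normal ∧ IsZGroup N ∧ Target G N → N = C := by
    intro T _ _ hT g hgs hgk N ⟨_, hZN, hN⟩
    have h1 : IsZGroup g.ker := hgk ▸ hZC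
    rcases hN with rfl | ⟨f', hf', rfl⟩ | ⟨f', hf', rfl⟩ | ⟨f', hf', rfl⟩ | ⟨f', hf', rfl⟩ | ⟨f', hf', rfl⟩
    · haveI := hZN
      haveI : Group.IsSolvable (⊤ : Subgroup G) := inferInstance
      exact absurd (Group.isSolvable_of_surjective (f := (Subgroup.topEquiv : (⊤ : Subgroup G) ≃* G).toMonoidHom)
        Subgroup.topEquiv.surjective) hns
    · exact absurd hZN (hCns _ f')
    · exact absurd hZN (hCns _ f')
    · exact absurd hZN (hCns _ f')
    · exact (eq_of_big hT big_alt_five g hgs f' hf' h1 hZN).trans hgk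
    · exact (eq_of_big hT (big_perm (by norm_num) big_alt_five) g hgs f' hf' h1 hZN).trans hgk
  have hCn : C.Normal := inferInstance
  by_cases htop : f.range = ⊤
  · have hs := MonoidHom.range_eq_top.1 htop
    exact ⟨C, ⟨hCn, hZC, Or.inr (Or.inr (Or.inr (Or.inr (Or.inr ⟨f, hs, hker⟩))))⟩,
      huniq (big_perm (by norm_num) big_alt_five) f hs hker⟩
  · have hidx : f.range = alternatingGroup (Fin 5) := by
      refine Equiv.Perm.eq_alternatingGroup_of_index_eq_two ?_
      have h1 : f.range.index ∣ 2 :=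
        (alternatingGroup.index_eq_two (α := Fin 5)) ▸ Subgroup.index_dvd_of_le hrange
      rcases (Nat.dvd_prime Nat.prime_two).1 h1 with h | h
      · exact absurd (Subgroup.index_eq_one.1 h) htop
      · exact h
    let g : G →* alternatingGroup (Fin 5) := f.codRestrict _ fun x => hidx ▸ ⟨x, rfl⟩
    have hgk : g.ker = C := (MonoidHom.ker_codRestrict f _ _).trans hker
    have hs : Function.Surjective g := fun ⟨y, hy⟩ => by
      obtain ⟨x, hx⟩ := hidx.ge hy
      exact ⟨x, Subtype.ext hx⟩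
    exact ⟨C, ⟨hCn, hZC, Or.inr (Or.inr (Or.inr (Or.inr (Or.inl ⟨g, hs, hgk⟩))))⟩,
      huniq big_alt_five g hs hgk⟩

/-- The case of a normal 2-complement and a quaternion Sylow 2-subgroup. -/
theorem two_complement_case (hG : HasFpf G) [Group.IsSolvable G] (hnsmall : ¬ IsSmall (⊤ : Subgroup G))
    {L : Subgroup G} [L.Normal] (hL : IsSmall L) {k : ℕ} (hk : L.index = 2 ^ k) :
    ∃! N : Subgroup G, N.Normal ∧ IsZGroup N ∧ Target G N := by
  haveI : Fact (Nat.Prime 2) := ⟨Nat.prime_two⟩
  have hcl := hG.oddClosed_of_small hL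
  set O := oddPart hcl with hO
  haveI : O.Normal := ⟨fun x hx g => conj_mem_oddPart hcl
    (by rw [Subgroup.normalizer_eq_top]; exact Subgroup.mem_top g) hx⟩
  obtain ⟨i, hi⟩ := exists_card_eq_oddPart hcl
  rw [← hO] at hi
  have hoddO : Odd (Nat.card O) := odd_card_oddPart hcl
  have hGO : O.index = 2 ^ (i + k) := by
    have h1 := O.card_mul_index
    rw [← L.card_mul_index, hi, hk, mul_assoc, ← pow_add] at h1
    exact Nat.eq_of_mul_eq_mul_left Nat.card_pos h1
  obtain ⟨P⟩ : Nonempty (Sylow 2 G) := inferInstance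
  obtain ⟨t, a, hq⟩ : ∃ t a, IsQuat (P : Subgroup G) t a := by
    rcases hG.cyclic_or_quat P.2 with hc | ⟨-, h⟩
    · refine absurd (fun X _ hX => ?_) hnsmall
      obtain ⟨S, hXS⟩ := hX.exists_le_sylow
      haveI : IsCyclic (S : Subgroup G) := (Sylow.equiv P S).isCyclic.1 hc
      exact isCyclic_of_injective (Subgroup.inclusion hXS) (Subgroup.inclusion_injective hXS)
    · exact h
  have hdisj : ∀ x : G, x ∈ O → ∀ j : ℕ, orderOf x ∣ 2 ^ j → x = 1 := fun x hx j hj =>
    orderOf_eq_one_iff.1 (Nat.eq_one_of_dvd_coprimes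
      ((Nat.coprime_two_right.2 (hx.2)).pow_right j) dvd_rfl hj)
  let π : G →* G ⧸ O := QuotientGroup.mk' O
  let ρ : (P : Subgroup G) →* G ⧸ O := π.comp (P : Subgroup G).subtype
  have hρinj : Function.Injective ρ := by
    rw [injective_iff_map_eq_one]
    intro x hx
    obtain ⟨j, hj⟩ := IsPGroup.iff_orderOf.1 P.2 x
    exact Subtype.ext (hdisj x ((QuotientGroup.eq_one_iff _).1 hx) j
      (by rw [Subgroup.orderOf_coe, hj]))
  have hρbij : Function.Bijective ρ := by
    refine (Nat.bijective_iff_injective_and_card ρ).2 ⟨hρinj, ?_⟩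
    rw [← Subgroup.index_eq_card, hGO, P.card_eq_multiplicity, ← O.card_mul_index, hGO,
      Nat.factorization_mul Nat.card_pos.ne' (by positivity), Finsupp.add_apply,
      Nat.Prime.factorization_pow Nat.prime_two, Finsupp.single_eq_same,
      Nat.factorization_eq_zero_of_not_dvd hoddO.not_two_dvd_nat, zero_add]
  let ψ : (P : Subgroup G) ≃* G ⧸ O := MulEquiv.ofBijective ρ hρbij
  let r : G →* (P : Subgroup G) := ψ.symm.toMonoidHom.comp π
  have hrP : ∀ x : (P : Subgroup G), r x = x := fun x => ψ.symm_apply_apply x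
  have hrker : r.ker = O := by
    ext x
    show ψ.symm (π x) = 1 ↔ _
    rw [map_eq_one_iff _ ψ.symm.injective]
    exact QuotientGroup.eq_one_iff x
  -- the Frattini quotient of the quaternion group
  set t' : (P : Subgroup G) := ⟨t, hq.mem⟩
  set M : Subgroup (P : Subgroup G) := Subgroup.zpowers (t' ^ 2)
  haveI hMn : M.Normal := ⟨fun x hx g => by
    obtain ⟨j, rfl⟩ := Subgroup.mem_zpowers_iff.1 hx
    by_cases hg : (g : G) ∈ Subgroup.zpowers t
    · obtain ⟨l, hl⟩ := Subgroup.mem_zpowers_iff.1 hg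
      have hgt : g = t' ^ l := Subtype.ext (by simpa [t'] using hl.symm)
      rw [hgt, ((Commute.refl t').pow_right 2 |>.zpow_left l |>.zpow_right j).eq, mul_inv_cancel_right]
      exact hx
    · have h := (hq.outer g g.2 hg).2
      have h' : g * t' * g⁻¹ = t'⁻¹ := Subtype.ext h
      rw [← conj_zpow, ← conj_pow, h', inv_pow, inv_zpow]
      exact Subgroup.inv_mem _ hx⟩
  have hMcard : Nat.card M = a := by
    rw [Nat.card_zpowers, orderOf_pow_of_dvd two_ne_zero, Subgroup.orderOf_mk, hq.orderOf_t,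
      Nat.mul_div_cancel_left a two_pos]
    rw [Subgroup.orderOf_mk, hq.orderOf_t]
    exact dvd_mul_right 2 a
  have hMidx : M.index = 4 := by
    have h := M.card_mul_index
    rw [hMcard, hq.card, mul_comm 4] at h
    exact Nat.eq_of_mul_eq_mul_left (by have := hq.two_le; omega) h
  have hsq : ∀ x : (P : Subgroup G), x ^ 2 ∈ M := by
    intro x
    by_cases hx : (x : G) ∈ Subgroup.zpowers t
    · obtain ⟨l, hl⟩ := Subgroup.mem_zpowers_iff.1 hx
      refine Subgroup.mem_zpowers_iff.2 ⟨l, Subtype.ext ?_⟩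
      simp only [t', SubgroupClass.coe_zpow, SubgroupClass.coe_pow]
      rw [← hl, ← zpow_natCast, ← zpow_mul, ← zpow_natCast, ← zpow_mul, mul_comm]
    · obtain ⟨c, hc⟩ : Even a := by
        obtain ⟨k, hk⟩ := hq.exists_pow
        rcases k with _ | k
        · have := hq.two_le
          simp [hk] at this
        · exact ⟨2 ^ k, by rw [hk, pow_succ]; ring⟩
      refine Subgroup.mem_zpowers_iff.2 ⟨(c : ℤ), Subtype.ext ?_⟩
      simp only [t', SubgroupClass.coe_zpow, SubgroupClass.coe_pow]
      rw [zpow_natCast, ← pow_mul, show 2 * c = a by omega, pow_two, (hq.outer x x.2 hx).1]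
  haveI : IsKleinFour ((P : Subgroup G) ⧸ M) := by
    have h4 : Nat.card ((P : Subgroup G) ⧸ M) = 4 := by rw [← Subgroup.index_eq_card, hMidx]
    refine ⟨h4, ?_⟩
    have hd : Monoid.exponent ((P : Subgroup G) ⧸ M) ∣ 2 := Monoid.exponent_dvd_of_forall_pow_eq_one
      fun x => QuotientGroup.induction_on x fun y => by
        rw [← QuotientGroup.mk_pow]; exact (QuotientGroup.eq_one_iff _).2 (hsq y)
    rcases (Nat.dvd_prime Nat.prime_two).1 hd with h | h
    · exfalso
      haveI := Monoid.exp_eq_one_iff.1 h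
      rw [Nat.card_of_subsingleton (1 : (P : Subgroup G) ⧸ M)] at h4
      omega
    · exact h
  obtain ⟨ι⟩ := IsKleinFour.nonempty_mulEquiv (G₁ := (P : Subgroup G) ⧸ M) (G₂ := DihedralGroup 2)
  let f : G →* DihedralGroup 2 := ι.toMonoidHom.comp ((QuotientGroup.mk' M).comp r)
  have hfs : Function.Surjective f := fun y => by
    obtain ⟨x, hx⟩ := QuotientGroup.mk'_surjective M (ι.symm y)
    exact ⟨(x : G), by
      show ι (QuotientGroup.mk' M (r x)) = y
      rw [hrP, hx, MulEquiv.apply_symm_apply]⟩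
  have hfker : ∀ x, x ∈ f.ker ↔ r x ∈ M := fun x => by
    show ι (QuotientGroup.mk' M (r x)) = 1 ↔ _
    rw [map_eq_one_iff _ ι.injective]
    exact QuotientGroup.eq_one_iff _
  have hZ : IsZGroup f.ker := hG.isZGroup fun X hX h2 => by
    let rX : X →* M := (r.comp X.subtype).codRestrict M fun x => (hfker x).1 (hX x.2)
    haveI : IsCyclic M := inferInstance
    refine isCyclic_of_injective rX ((injective_iff_map_eq_one rX).2 fun x hx => ?_)
    obtain ⟨j, hj⟩ := IsPGroup.iff_orderOf.1 h2 x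
    refine Subtype.ext (hdisj x (hrker ▸ (congrArg Subtype.val hx)) j ?_)
    rw [Subgroup.orderOf_coe, hj]
  refine ⟨f.ker, ⟨inferInstance, hZ, Or.inr (Or.inl ⟨f, hfs, rfl⟩)⟩, ?_⟩
  rintro N ⟨hNn, hZN, hN⟩
  have hoddT : ∀ {T : Type} [Group T] [Finite T], Big T → ∀ f' : G →* T, Function.Surjective f' →
      O ≤ f'.ker := fun hT f' hf' =>
    le_ker hT f' hf' (hG.isZGroup fun X hX h2 => hL X (hX.trans (oddPart_le hcl)) h2)
  have hno : ∀ {T : Type} [Group T] [Finite T], Big T → ∀ f' : G →* T, Function.Surjective f' →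
      ¬ 3 ∣ Nat.card T := by
    intro T _ _ hT f' hf' h3
    have h := Subgroup.index_dvd_of_le (hoddT hT f' hf')
    rw [Subgroup.index_ker, MonoidHom.range_eq_top.2 hf', Subgroup.card_top, hGO] at h
    have := (Nat.prime_dvd_prime_iff_eq Nat.prime_three Nat.prime_two).1
      (Nat.prime_three.dvd_of_dvd_pow (h3.trans h))
    omega
  rcases hN with rfl | ⟨f', hf', rfl⟩ | ⟨f', hf', rfl⟩ | ⟨f', hf', rfl⟩ | ⟨f', hf', rfl⟩ | ⟨f', hf', rfl⟩
  · exact absurd (isSmall_of_isZGroup hZN) hnsmall
  · have hle : f.ker ≤ f'.ker := by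
      intro x hx
      obtain ⟨j, hj⟩ := Subgroup.mem_zpowers_iff.1 ((hfker x).1 hx)
      have hexp : ∀ y : DihedralGroup 2, y ^ 2 = 1 := by decide
      have hOle : O ≤ f'.ker := fun o ho => by
        obtain ⟨c, hc⟩ := ho.2
        rw [MonoidHom.mem_ker]
        have h1 : f' o ^ (2 * c + 1) = 1 := by rw [← map_pow, ← hc, pow_orderOf_eq_one, map_one]
        rwa [pow_succ, pow_mul, hexp, one_pow, one_mul] at h1
      have h1 : (r x : G)⁻¹ * x ∈ O := by
        rw [← hrker, MonoidHom.mem_ker, map_mul, map_inv, hrP, inv_mul_cancel]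
      have h2 : f' (r x : G) = 1 := by
        rw [← hj, SubgroupClass.coe_zpow, SubgroupClass.coe_pow, map_zpow, map_pow, hexp, one_zpow]
      have h3 := hOle h1
      rw [MonoidHom.mem_ker, map_mul, map_inv, h2, inv_one, one_mul] at h3
      exact MonoidHom.mem_ker.2 h3
    refine (Subgroup.eq_of_le_of_card_ge hle ?_).symm
    have h1 := f.ker.card_mul_index
    have h2 := f'.ker.card_mul_index
    rw [Subgroup.index_ker, MonoidHom.range_eq_top.2 hfs] at h1
    rw [Subgroup.index_ker, MonoidHom.range_eq_top.2 hf', ← h1] at h2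
    exact (Nat.eq_of_mul_eq_mul_right Nat.card_pos h2).le
  · exact absurd (by rw [Nat.card_eq_fintype_card]; decide +kernel) (hno big_alt_four f' hf')
  · exact absurd (by rw [Nat.card_perm, Nat.card_eq_fintype_card, Fintype.card_fin]; decide)
      (hno (big_perm le_rfl big_alt_four) f' hf')
  · exact (isSolvable_five f' hf' not_isSolvable_alt_five).elim
  · exact (isSolvable_five f' hf' not_isSolvable_perm_five).elim

theorem solvable_case (hG : HasFpf G) [Group.IsSolvable G] (hnsmall : ¬ IsSmall (⊤ : Subgroup G))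
    (f : G →* Equiv.Perm (Fin 4)) (hf : IsSmall f.ker) :
    ∃! N : Subgroup G, N.Normal ∧ IsZGroup N ∧ Target G N := by
  haveI : Fact (Nat.Prime 2) := ⟨Nat.prime_two⟩
  haveI : Fact (Nat.Prime 3) := ⟨Nat.prime_three⟩
  by_cases hcomp : ∃ (L : Subgroup G) (k : ℕ), L.Normal ∧ IsSmall L ∧ L.index = 2 ^ k
  · obtain ⟨L, k, hLn, hL, hk⟩ := hcomp
    haveI := hLn
    exact two_complement_case hG hnsmall hL hk
  push Not at hcomp
  have hR : Nat.card f.range ∣ 24 := by
    have h := f.range.card_subgroup_dvd_card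
    rwa [show Nat.card (Equiv.Perm (Fin 4)) = 24 by rw [Nat.card_perm, Nat.card_fin]; rfl] at h
  have hidx : f.ker.index = Nat.card f.range := Subgroup.index_ker f
  have hmem : Nat.card f.range ∈ ({1, 2, 3, 4, 6, 8, 12, 24} : Finset ℕ) := by
    have h := Nat.mem_divisors.2 ⟨hR, (by norm_num : 24 ≠ 0)⟩
    rwa [show Nat.divisors 24 = {1, 2, 3, 4, 6, 8, 12, 24} by decide +kernel] at h
  simp only [Finset.mem_insert, Finset.mem_singleton] at hmem
  have hbig : ∀ {T : Type} [Group T] [Finite T] (g : G →* T), Big T → Function.Surjective g →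
      g.ker = f.ker → ∀ N : Subgroup G, N.Normal ∧ IsZGroup N ∧ Target G N → N = f.ker := by
    intro T _ _ g hT hg hgk N ⟨hNn, hZN, hN⟩
    have h1 : IsZGroup g.ker := hgk ▸ hG.isZGroup hf
    rcases hN with rfl | ⟨f', hf', rfl⟩ | ⟨f', hf', rfl⟩ | ⟨f', hf', rfl⟩ | ⟨f', hf', rfl⟩ | ⟨f', hf', rfl⟩
    · exact absurd (isSmall_of_isZGroup hZN) hnsmall
    · refine absurd ?_ (hcomp f'.ker 2 inferInstance (isSmall_of_isZGroup hZN))
      rw [Subgroup.index_ker, MonoidHom.range_eq_top.2 hf', Subgroup.card_top, Nat.card_eq_fintype_card,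
        DihedralGroup.card]
      rfl
    · exact (eq_of_big hT big_alt_four g hg f' hf' h1 hZN).trans hgk
    · exact (eq_of_big hT (big_perm le_rfl big_alt_four) g hg f' hf' h1 hZN).trans hgk
    · exact (isSolvable_five f' hf' not_isSolvable_alt_five).elim
    · exact (isSolvable_five f' hf' not_isSolvable_perm_five).elim
  rcases hmem with h | h | h | h | h | h | h | h
  · exact absurd (hidx.trans h) (hcomp f.ker 0 inferInstance hf)
  · exact absurd (hidx.trans h) (hcomp f.ker 1 inferInstance hf)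
  · refine absurd (fun X _ hX => ?_) hnsmall
    refine hf X (fun x hx => ?_) hX
    obtain ⟨j, hj⟩ := IsPGroup.iff_orderOf.1 hX ⟨x, hx⟩
    rw [Subgroup.orderOf_mk] at hj
    have h1 : orderOf (f x) ∣ 2 ^ j := hj ▸ orderOf_map_dvd f x
    have h2 : orderOf (f x) ∣ 3 := h ▸ Subgroup.orderOf_dvd_natCard _ ⟨x, rfl⟩
    exact orderOf_eq_one_iff.1 (Nat.eq_one_of_dvd_coprimes
      (Nat.Coprime.pow_left j (by decide)) h1 h2)
  · exact absurd (hidx.trans h) (hcomp f.ker 2 inferInstance hf)
  · exfalso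
    obtain ⟨r, hr⟩ := exists_prime_orderOf_dvd_card' (G := f.range) 3 (h ▸ (by norm_num))
    set S := Subgroup.zpowers r
    have hSidx : S.index = 2 := by
      have h1 := S.card_mul_index
      rw [Nat.card_zpowers, hr, h] at h1
      omega
    haveI : S.Normal := Subgroup.normal_of_index_eq_two hSidx
    refine hcomp (S.comap f.rangeRestrict) 1 inferInstance (fun X hX h2X => hf X (fun x hx => ?_) h2X) ?_
    · obtain ⟨j, hj⟩ := IsPGroup.iff_orderOf.1 h2X ⟨x, hx⟩
      rw [Subgroup.orderOf_mk] at hj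
      have h1 : orderOf (f.rangeRestrict x) ∣ 2 ^ j := hj ▸ orderOf_map_dvd f.rangeRestrict x
      have h2 : orderOf (f.rangeRestrict x) ∣ 3 := by
        have := Subgroup.orderOf_dvd_natCard S (hX hx)
        rwa [Nat.card_zpowers, hr] at this
      exact congrArg Subtype.val (orderOf_eq_one_iff.1 (Nat.eq_one_of_dvd_coprimes
        (Nat.Coprime.pow_left j (by decide)) h1 h2))
    · rw [Subgroup.index_comap_of_surjective _ f.rangeRestrict_surjective, hSidx, pow_one]
  · exact absurd (hidx.trans h) (hcomp f.ker 3 inferInstance hf)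
  · have halt : f.range = alternatingGroup (Fin 4) := by
      refine Equiv.Perm.eq_alternatingGroup_of_index_eq_two ?_
      have h1 := f.range.card_mul_index
      rw [h, Nat.card_perm, Nat.card_eq_fintype_card, Fintype.card_fin,
        show Nat.factorial 4 = 24 from rfl] at h1
      omega
    let g : G →* alternatingGroup (Fin 4) := f.codRestrict _ fun x => halt ▸ ⟨x, rfl⟩
    have hgk : g.ker = f.ker := MonoidHom.ker_codRestrict f _ _
    have hs : Function.Surjective g := fun ⟨y, hy⟩ => by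
      obtain ⟨x, hx⟩ := halt.ge hy
      exact ⟨x, Subtype.ext hx⟩
    exact ⟨f.ker, ⟨inferInstance, hG.isZGroup hf, Or.inr (Or.inr (Or.inl ⟨g, hs, hgk⟩))⟩,
      hbig g big_alt_four hs hgk⟩
  · have hs : Function.Surjective f := MonoidHom.range_eq_top.1 (Subgroup.eq_top_of_card_eq _ (by
      rw [h, Nat.card_perm, Nat.card_eq_fintype_card, Fintype.card_fin]; rfl))
    exact ⟨f.ker, ⟨inferInstance, hG.isZGroup hf, Or.inr (Or.inr (Or.inr (Or.inl ⟨f, hs, rfl⟩)))⟩,
      hbig f (big_perm le_rfl big_alt_four) hs rfl⟩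

/-- Let G be a finite group that occurs as a Frobenius complement. Then G has exactly one normal subgroup N such that every Sylow subgroup of N is cyclic and the quotient of G by N is trivial or isomorphic to one of the following five groups: the Klein four-group, the alternating group of degree 4, the symmetric group of degree 4, the alternating group of degree 5, the symmetric group of degree 5. (The quotient is described by a surjective homomorphism with kernel N; the Klein four-group is written as the dihedral group of order 4.) -/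
theorem result {G : Type*} [Group G] [Finite G]
    (hFC : (∃ (L : Type) (_ : Group L) (_ : Finite L) (H : Subgroup L), Cfsg.IsFrobeniusComplement H ∧ Nonempty (G ≃* H))) :
    ∃! N : Subgroup G, N.Normal ∧ (∀ (p : ℕ) [Fact p.Prime] (P : Sylow p N), IsCyclic P) ∧
      (N = ⊤ ∨
        (∃ f : G →* DihedralGroup 2, Function.Surjective f ∧ f.ker = N) ∨
        (∃ f : G →* alternatingGroup (Fin 4), Function.Surjective f ∧ f.ker = N) ∨
        (∃ f : G →* Equiv.Perm (Fin 4), Function.Surjective f ∧ f.ker = N) ∨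
        (∃ f : G →* alternatingGroup (Fin 5), Function.Surjective f ∧ f.ker = N) ∨
        (∃ f : G →* Equiv.Perm (Fin 5), Function.Surjective f ∧ f.ker = N)) := by
  haveI : Fact (Nat.Prime 2) := ⟨Nat.prime_two⟩
  obtain ⟨L, _, _, H, hH, ⟨e⟩⟩ := hFC
  have hG : CfsgLib.Zassenhaus.HasFpf G :=
    (CfsgLib.Zassenhaus.HasFpf.of_isFrobeniusComplement hH).of_injective e.toMonoidHom e.injective
  suffices h : ∃! N : Subgroup G, N.Normal ∧ IsZGroup N ∧ Target G N by
    obtain ⟨N, ⟨h1, h2, h3⟩, h4⟩ := h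
    exact ⟨N, ⟨h1, fun p hp P => h2.isZGroup p hp.out P, h3⟩, fun M ⟨m1, m2, m3⟩ =>
      h4 M ⟨m1, ⟨fun p hp P => haveI := Fact.mk hp; m2 p P⟩, m3⟩⟩
  by_cases hsmall : CfsgLib.Zassenhaus.IsSmall (⊤ : Subgroup G)
  · have hZ : IsZGroup (⊤ : Subgroup G) := hG.isZGroup hsmall
    have hZG : IsZGroup G := by
      haveI := hZ
      exact IsZGroup.of_surjective (f := (Subgroup.topEquiv : (⊤ : Subgroup G) ≃* G).toMonoidHom)
        Subgroup.topEquiv.surjective
    haveI : Nontrivial (alternatingGroup (Fin 4)) := ⟨⟨⟨Equiv.swap 0 1 * Equiv.swap 2 3, Equiv.Perm.mem_alternatingGroup.2 (by decide +kernel)⟩, 1, by decide +kernel⟩⟩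
    refine ⟨⊤, ⟨inferInstance, hZ, Or.inl rfl⟩, ?_⟩
    rintro N ⟨-, -, rfl | ⟨f, hf, -⟩ | ⟨f, hf, -⟩ | ⟨f, hf, -⟩ | ⟨f, hf, -⟩ | ⟨f, hf, -⟩⟩
    · rfl
    · exact absurd hZG (no_quotient hasKlein_top_dihedral f hf)
    · exact absurd hZG (no_quotient (hasKlein_top big_alt_four) f hf)
    · exact absurd hZG (no_quotient (hasKlein_top (big_perm le_rfl big_alt_four)) f hf)
    · exact absurd hZG (no_quotient (hasKlein_top big_alt_five) f hf)
    · exact absurd hZG (no_quotient (hasKlein_top (big_perm (by norm_num) big_alt_five)) f hf)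
  by_cases hsol : Group.IsSolvable G
  swap
  · exact nonsolvable_case hG hsol
  haveI := hsol
  obtain ⟨K, -, hKn, hc⟩ := CfsgLib.Frobenius.exists_kernel_subgroup hH
  have hfpf : ∀ h ∈ H, h ≠ 1 → K ⊓ Subgroup.centralizer {h} = ⊥ := fun h hh h1 =>
    CfsgLib.Frobenius.fpf_of_isFrobeniusComplement hc hH hh h1
  have hKcard : Nat.card K ≠ 1 := by
    rw [← hc.index_eq_card]
    have := CfsgLib.Frobenius.index_ge_two hH
    omega
  obtain ⟨q, hq, hqK⟩ := Nat.exists_prime_and_dvd hKcard
  have : Fact q.Prime := ⟨hq⟩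
  obtain ⟨V, hVK, hVne, hVc, hVp, hHV⟩ :=
    CfsgLib.Frobenius.exists_invariant_abelian hc hH.1 hfpf hqK
  obtain ⟨d, hd, ρ, hρ⟩ := CfsgLib.Frobenius.exists_fpf_modp q V hVne hVc hVp H hHV
    (fun h hh h1 => le_bot_iff.mp ((inf_le_inf_right _ hVK).trans (hfpf h hh h1).le))
    e.toMonoidHom e.injective
  haveI : Nonempty (Fin d) := ⟨⟨0, hd⟩⟩
  letI : DistribMulAction G (Fin d → ZMod q) :=
    { smul := fun g v => (ρ g : Matrix (Fin d) (Fin d) (ZMod q)).mulVec v
      one_smul := fun v => by show Matrix.mulVec _ v = v; rw [map_one, Units.val_one, Matrix.one_mulVec]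
      mul_smul := fun g h v => by
        show Matrix.mulVec _ v = Matrix.mulVec _ (Matrix.mulVec _ v)
        rw [map_mul, Units.val_mul, Matrix.mulVec_mulVec]
      smul_zero := fun g => Matrix.mulVec_zero _
      smul_add := fun g v w => Matrix.mulVec_add _ v w }
  obtain ⟨f, hf⟩ := CfsgLib.Frobenius.exists_perm_small hG (V := Fin d → ZMod q)
    (fun v hv g hg => by
      by_contra hg1
      exact hv (hρ g hg1 v hg))
  exact solvable_case hG hsmall f hf

end Cfsg.Agent.S4291
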