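import Mathlib
import Cfsg.Agent.Lib.Frobenius.Complement
import Cfsg.Agent.Lib.Frobenius.Theorem
import Cfsg.Agent.Lib.FrobModule.Fpf
import Cfsg.Agent.S3357

import Cfsg.Statements.S4292

set_option autoImplicit false
open Cfsg

namespace Cfsg.Agent.S4292

universe w

/-- A fixed-point-free action on an abelian group with a nonzero element gives a Frobenius complement. -/
theorem fc_of_action {G : Type*} [Group G] [Finite G] [Nontrivial G] {V : Type w} [AddCommGroup V]
    [DistribMulAction G V] (v : V) (hv : v ≠ 0) (hfpf : ∀ g : G, g ≠ 1 → ∀ x : V, g • x = x → x = 0) :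
    ∃ (L : Type) (_ : Group L) (_ : Finite L) (H : Subgroup L),
      Cfsg.IsFrobeniusComplement H ∧ Nonempty (G ≃* H) := by
  set S : Set V := Set.range fun g : G => g • v with hS
  set A := AddSubgroup.closure S with hA
  have hmem : ∀ g : G, ∀ a ∈ A, g • a ∈ A := by
    intro g a ha
    induction ha using AddSubgroup.closure_induction with
    | mem x hx =>
      obtain ⟨k, rfl⟩ := hx
      exact AddSubgroup.subset_closure ⟨g * k, mul_smul g k v⟩
    | zero => rw [smul_zero]; exact A.zero_mem
    | add x y _ _ ihx ihy => rw [smul_add]; exact A.add_mem ihx ihy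
    | neg x _ ih => rw [smul_neg]; exact A.neg_mem ih
  let inst : DistribMulAction G A :=
    { smul := fun g a => ⟨g • (a : V), hmem g a a.2⟩
      one_smul := fun a => Subtype.ext (one_smul G (a : V))
      mul_smul := fun g h a => Subtype.ext (mul_smul g h (a : V))
      smul_zero := fun g => Subtype.ext (smul_zero g)
      smul_add := fun g a b => Subtype.ext (smul_add g (a : V) b) }
  have : AddGroup.FG A := (AddGroup.fg_iff_addSubgroup_fg A).2
    ((AddSubgroup.fg_iff A).2 ⟨S, rfl, Set.finite_range _⟩)
  have hvA : v ∈ A := AddSubgroup.subset_closure ⟨1, one_smul G v⟩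
  have : Nontrivial A := ⟨⟨⟨v, hvA⟩, 0, fun h => hv (congrArg Subtype.val h)⟩⟩
  exact CfsgLib.FrobModule.exists_complement_of_fpf_fg (A := A) fun g hg a ha =>
    Subtype.ext (hfpf g hg a (congrArg Subtype.val ha))

theorem fc_of_rep {G : Type*} [Group G] [Finite G] [Nontrivial G] {K : Type w} [Field K] {n : ℕ} (hn : 0 < n)
    (ρ : G →* GL (Fin n) K)
    (hfpf : ∀ g : G, g ≠ 1 → ∀ v : Fin n → K, (ρ g : Matrix (Fin n) (Fin n) K).mulVec v = v → v = 0) :
    ∃ (L : Type) (_ : Group L) (_ : Finite L) (H : Subgroup L),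
      Cfsg.IsFrobeniusComplement H ∧ Nonempty (G ≃* H) := by
  let inst : DistribMulAction G (Fin n → K) :=
    { smul := fun g v => (ρ g : Matrix (Fin n) (Fin n) K).mulVec v
      one_smul := fun v => show (ρ 1 : Matrix (Fin n) (Fin n) K).mulVec v = v by simp
      mul_smul := fun g h v => show (ρ (g * h) : Matrix (Fin n) (Fin n) K).mulVec v = _ by
        rw [map_mul, Units.val_mul, ← Matrix.mulVec_mulVec]; rfl
      smul_zero := fun g => Matrix.mulVec_zero _
      smul_add := fun g v w => Matrix.mulVec_add _ v w }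
  exact fc_of_action (fun _ => (1 : K)) (fun h => one_ne_zero (congrFun h ⟨0, hn⟩)) hfpf

/-- Let A and B be nontrivial finite groups. Then the direct product A × B occurs as a Frobenius complement if and only if A and B both occur as Frobenius complements and the orders of A and B are coprime. -/
theorem result {A B : Type*} [Group A] [Finite A] [Nontrivial A] [Group B] [Finite B] [Nontrivial B] :
    (∃ (L : Type) (_ : Group L) (_ : Finite L) (H : Subgroup L), Cfsg.IsFrobeniusComplement H ∧ Nonempty ((A × B) ≃* H)) ↔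
    ((∃ (L : Type) (_ : Group L) (_ : Finite L) (H : Subgroup L), Cfsg.IsFrobeniusComplement H ∧ Nonempty (A ≃* H)) ∧
     (∃ (L : Type) (_ : Group L) (_ : Finite L) (H : Subgroup L), Cfsg.IsFrobeniusComplement H ∧ Nonempty (B ≃* H)) ∧
     (Nat.card A).Coprime (Nat.card B)) := by
  classical
  constructor
  · intro h
    obtain ⟨n, ρ, hn, -, -, hfpf⟩ := Cfsg.Agent.S3357.result h
    refine ⟨fc_of_rep hn (ρ.comp (MonoidHom.inl A B)) fun g hg => hfpf _ (by simpa [Prod.ext_iff] using hg),
      fc_of_rep hn (ρ.comp (MonoidHom.inr A B)) fun g hg => hfpf _ (by simpa [Prod.ext_iff] using hg), ?_⟩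
    obtain ⟨L, i1, i2, H, hH, ⟨e⟩⟩ := h
    refine Nat.coprime_of_dvd fun p hp hpA hpB => ?_
    haveI : Fact p.Prime := ⟨hp⟩
    obtain ⟨a, ha⟩ := exists_prime_orderOf_dvd_card' (G := A) p hpA
    obtain ⟨b, hb⟩ := exists_prime_orderOf_dvd_card' (G := B) p hpB
    obtain ⟨K, -, hKn, hc⟩ := CfsgLib.Frobenius.exists_kernel_subgroup hH
    have hK : K ≠ ⊥ := by
      intro h
      exact hH.2.1 (Subgroup.isComplement'_bot_left.1 (h ▸ hc))
    have hfpf : ∀ h ∈ H, h ≠ 1 → K ⊓ Subgroup.centralizer {h} = ⊥ := fun h hh h1 =>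
      CfsgLib.Frobenius.fpf_of_isFrobeniusComplement hc hH hh h1
    let ι : (Subgroup.zpowers a) × (Subgroup.zpowers b) →* L :=
      H.subtype.comp (e.toMonoidHom.comp ((Subgroup.zpowers a).subtype.prodMap (Subgroup.zpowers b).subtype))
    have hι : Function.Injective ι := by
      intro x y hxy
      have := e.injective (Subtype.ext hxy)
      exact Prod.ext (Subtype.ext (congrArg Prod.fst this)) (Subtype.ext (congrArg Prod.snd this))
    have hcomm : IsMulCommutative ι.range := ⟨⟨fun x y => Subtype.ext (by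
      obtain ⟨x, x', rfl⟩ := x
      obtain ⟨y, y', rfl⟩ := y
      show ι x' * ι y' = ι y' * ι x'
      rw [← map_mul, ← map_mul]
      congr 1
      exact Prod.ext (mul_comm' _ _) (mul_comm' _ _))⟩⟩
    have hle : ι.range ≤ H := by
      rintro _ ⟨x, rfl⟩
      exact SetLike.coe_mem (e _)
    haveI := hcomm
    have hcyc : IsCyclic ι.range := CfsgLib.Frobenius.isCyclic_of_commutative_le hc hK hfpf hle
    haveI : IsCyclic ((Subgroup.zpowers a) × (Subgroup.zpowers b)) :=
      (MonoidHom.ofInjective hι).isCyclic.2 hcyc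
    have hcop := (Group.isCyclic_prod_iff.1 this).2.2
    rw [Nat.card_zpowers, Nat.card_zpowers, ha, hb, Nat.coprime_self] at hcop
    exact hp.one_lt.ne' hcop
  · rintro ⟨hA, hB, hcop⟩
    obtain ⟨n, ρ, hn, -, -, hρ⟩ := Cfsg.Agent.S3357.result hA
    obtain ⟨m, σ, hm, -, -, hσ⟩ := Cfsg.Agent.S3357.result hB
    let K := AlgebraicClosure ℚ
    let inst : DistribMulAction (A × B) (Matrix (Fin n) (Fin m) K) :=
      { smul := fun g X => (ρ g.1 : Matrix (Fin n) (Fin n) K) * X *
          (σ g.2 : Matrix (Fin m) (Fin m) K).transpose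
        one_smul := fun X => show (ρ 1 : Matrix (Fin n) (Fin n) K) * X *
            (σ 1 : Matrix (Fin m) (Fin m) K).transpose = X by simp
        mul_smul := fun g h X => show (ρ (g.1 * h.1) : Matrix (Fin n) (Fin n) K) * X *
            (σ (g.2 * h.2) : Matrix (Fin m) (Fin m) K).transpose =
            (ρ g.1 : Matrix (Fin n) (Fin n) K) * ((ρ h.1 : Matrix (Fin n) (Fin n) K) * X *
              (σ h.2 : Matrix (Fin m) (Fin m) K).transpose) * (σ g.2 : Matrix (Fin m) (Fin m) K).transpose by
          rw [map_mul, map_mul, Units.val_mul, Units.val_mul, Matrix.transpose_mul]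
          simp only [Matrix.mul_assoc]
        smul_zero := fun g => show _ * (0 : Matrix (Fin n) (Fin m) K) * _ = 0 by simp
        smul_add := fun g X Y => show _ * (X + Y) * _ = _ * X * _ + _ * Y * _ by
          rw [Matrix.mul_add, Matrix.add_mul] }
    let E : Matrix (Fin n) (Fin m) K := Matrix.of fun _ _ => 1
    refine fc_of_action E (fun h => one_ne_zero (congrFun (congrFun h ⟨0, hn⟩) ⟨0, hm⟩)) ?_
    intro g hg X hX
    have hpow : ∀ k : ℕ, (g ^ k) • X = X := by
      intro k
      induction k with
      | zero => rw [pow_zero, one_smul]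
      | succ k ih => rw [pow_succ, mul_smul, hX, ih]
    by_cases ha : g.1 = 1
    · have hb : g.2 ≠ 1 := fun hb => hg (Prod.ext ha hb)
      have hX' : (ρ g.1 : Matrix (Fin n) (Fin n) K) * X * (σ g.2 : Matrix (Fin m) (Fin m) K).transpose = X := hX
      rw [ha, map_one, Units.val_one, Matrix.one_mul] at hX'
      apply Matrix.ext
      intro i j
      have := hσ g.2 hb (fun k => X i k) (funext fun l => by
        have h1 := congrFun (congrFun hX' i) l
        simpa [Matrix.mulVec, dotProduct, Matrix.mul_apply, mul_comm] using h1)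
      exact congrFun this j
    · have ha' : g.1 ^ Nat.card B ≠ 1 := by
        intro h
        apply ha
        have h1 := orderOf_dvd_of_pow_eq_one h
        exact orderOf_eq_one_iff.1 (Nat.eq_one_of_dvd_coprimes hcop (orderOf_dvd_natCard _) h1)
      have hX' : (ρ (g.1 ^ Nat.card B) : Matrix (Fin n) (Fin n) K) * X *
          (σ (g.2 ^ Nat.card B) : Matrix (Fin m) (Fin m) K).transpose = X := hpow (Nat.card B)
      rw [pow_card_eq_one' (x := g.2), map_one, Units.val_one, Matrix.transpose_one, Matrix.mul_one] at hX'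
      apply Matrix.ext
      intro i j
      have := hρ _ ha' (fun k => X k j) (funext fun l => by
        have h1 := congrFun (congrFun hX' l) j
        simpa [Matrix.mulVec, dotProduct, Matrix.mul_apply] using h1)
      exact congrFun this i

end Cfsg.Agent.S4292
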