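import Mathlib
import Cfsg.Agent.Lib.FrobModule.Fpf
import Cfsg.Agent.Lib.FrobModule.Square

import Cfsg.Statements.S4295

set_option autoImplicit false
open Cfsg

namespace Cfsg.Agent.S4295

section
variable {R : Type*} [Ring R]

/-- The powers of a square root of `-1`. -/
def rot (x : R) (i : ZMod 4) : R := x ^ i.val

theorem rot_two (x : R) (hx : x * x = -1) : rot x 2 = -1 := by
  rw [rot, show (2 : ZMod 4).val = 2 from rfl, sq, hx]

theorem pow_four (x : R) (hx : x * x = -1) : x ^ 4 = 1 := by
  rw [show (4 : ℕ) = 2 * 2 from rfl, pow_mul, sq, sq, hx, neg_mul_neg, one_mul]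

theorem rot_add (x : R) (hx : x * x = -1) :
    ∀ i j : ZMod 4, rot x (i + j) = rot x i * rot x j := by
  intro i j
  rw [rot, rot, rot, ← pow_add, ZMod.val_add, ← pow_eq_pow_mod _ (pow_four x hx)]

theorem rot_swap (x y : R) (hx : x * x = -1) (hxy : x * y = -(y * x)) :
    ∀ i : ZMod 4, rot x i * y = y * rot x (-i) := by
  intro i
  have h3 : x ^ 3 = -x := by rw [pow_succ, sq, hx, neg_one_mul]
  have hs : SemiconjBy y (x ^ 3) x := by
    show y * x ^ 3 = x * y
    rw [h3, mul_neg, hxy]
  have h := (hs.pow_right i.val).eq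
  have hval : ∀ i : ZMod 4, (-i).val = (3 * i.val) % 4 := by decide
  rw [rot, rot, ← h, hval, ← pow_mul, ← pow_eq_pow_mod _ (pow_four x hx)]

end

theorem exists_pair {p : ℕ} [Fact p.Prime] : ∃ a b : ZMod p, a ^ 2 + b ^ 2 = -1 :=
  ZMod.sq_add_sq p (-1)

theorem exists_complement_of_odd (k : ℕ) (hk : Odd k) (h1 : 1 < k) :
    ∃ (L : Type) (_ : Group L) (_ : Finite L) (H : Subgroup L), Cfsg.IsFrobeniusComplement H ∧
      Nonempty (H ≃* QuaternionGroup 2) ∧ Nat.card (Cfsg.frobeniusKernel H) = k * k := by
  classical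
  let ι := Fin k.primeFactorsList.length
  let q : ι → ℕ := fun i => k.primeFactorsList[i]
  have hq : ∀ i, (q i).Prime := fun i => Nat.prime_of_mem_primeFactorsList (List.getElem_mem _)
  have hfact : ∀ i, Fact (q i).Prime := fun i => ⟨hq i⟩
  choose a b hab using fun i => exists_pair (p := q i)
  let R := ∀ i, ZMod (q i)
  let X : Matrix (Fin 2) (Fin 2) R := !![0, -1; 1, 0]
  let Y : Matrix (Fin 2) (Fin 2) R := !![a, b; b, -a]
  have hab' : a * a + b * b = -1 := funext fun i => by simpa [sq] using hab i
  have hx : X * X = -1 := by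
    refine Matrix.ext fun i j => ?_
    fin_cases i <;> fin_cases j <;> simp [X, Matrix.mul_apply]
  have hy : Y * Y = -1 := by
    refine Matrix.ext fun i j => ?_
    fin_cases i <;> fin_cases j <;> simp [Y, Matrix.mul_apply]
    all_goals first
      | exact hab'
      | linear_combination hab'
      | ring1
  have hxy : X * Y = -(Y * X) := by
    refine Matrix.ext fun i j => ?_
    fin_cases i <;> fin_cases j <;> simp [X, Y, Matrix.mul_apply]
    all_goals first | ring | exact neg_one_mul _ | (funext l; simp)
  let f : QuaternionGroup 2 → Matrix (Fin 2) (Fin 2) R := fun g =>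
    match g with
    | .a i => rot X i
    | .xa i => Y * rot X i
  have hmul : ∀ g h, f (g * h) = f g * f h := by
    rintro (i | i) (j | j)
    · exact rot_add X hx i j
    · show Y * rot X (j - i) = rot X i * (Y * rot X j)
      rw [← mul_assoc, rot_swap X Y hx hxy, mul_assoc, ← rot_add X hx]
      congr 2; exact sub_eq_neg_add j i
    · show Y * rot X (i + j) = Y * rot X i * rot X j
      rw [mul_assoc]; exact congrArg _ (rot_add X hx i j)
    · show rot X (((2 : ℕ) : ZMod (2 * 2)) + j - i) = Y * rot X i * (Y * rot X j)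
      rw [mul_assoc, ← mul_assoc (rot X i), rot_swap X Y hx hxy, mul_assoc Y, ← rot_add X hx, ← mul_assoc, hy,
        ← rot_two X hx, ← rot_add X hx]
      congr 1
      show (2 : ZMod 4) + j - i = 2 + (-i + j)
      abel
  have hodd : ∀ i, q i ≠ 2 := fun i h => by
    have hd : q i ∣ k := Nat.dvd_of_mem_primeFactorsList (List.getElem_mem _)
    rw [h] at hd
    exact absurd hk (Nat.not_odd_iff_even.2 (even_iff_two_dvd.2 hd))
  have hcardR : Nat.card R = k := by
    rw [Nat.card_pi, Finset.prod_congr rfl (fun i _ => Nat.card_zmod (q i))]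
    have := Fin.prod_univ_getElem k.primeFactorsList
    rw [Nat.prod_primeFactorsList (by omega)] at this
    exact this
  let φ : QuaternionGroup 2 →* MulAut (Multiplicative (Fin 2 → R)) :=
    MonoidHom.mk' (fun g =>
      { toFun := fun v => Multiplicative.ofAdd ((f g).mulVec v.toAdd)
        invFun := fun v => Multiplicative.ofAdd ((f g⁻¹).mulVec v.toAdd)
        left_inv := fun v => by
          show Multiplicative.ofAdd ((f g⁻¹).mulVec ((f g).mulVec v.toAdd)) = v
          rw [Matrix.mulVec_mulVec, ← hmul, inv_mul_cancel]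
          show Multiplicative.ofAdd ((1 : Matrix (Fin 2) (Fin 2) R).mulVec v.toAdd) = v
          rw [Matrix.one_mulVec]; rfl
        right_inv := fun v => by
          show Multiplicative.ofAdd ((f g).mulVec ((f g⁻¹).mulVec v.toAdd)) = v
          rw [Matrix.mulVec_mulVec, ← hmul, mul_inv_cancel]
          show Multiplicative.ofAdd ((1 : Matrix (Fin 2) (Fin 2) R).mulVec v.toAdd) = v
          rw [Matrix.one_mulVec]; rfl
        map_mul' := fun v w => congrArg Multiplicative.ofAdd (Matrix.mulVec_add _ v.toAdd w.toAdd) })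
      (fun g h => MulEquiv.ext fun v => congrArg Multiplicative.ofAdd
        (show (f (g * h)).mulVec v.toAdd = (f g).mulVec ((f h).mulVec v.toAdd) by
          rw [hmul, Matrix.mulVec_mulVec]))
  have : Finite R := Pi.finite
  have hqz : ∀ i, (0 : ℕ) < q i := fun i => (hq i).pos
  have hfpf : ∀ g : QuaternionGroup 2, g ≠ 1 → ∀ m, φ g m = m → m = 1 := by
    intro g hg m hm
    have key : ∀ v : Fin 2 → R, (f g).mulVec v = v → v = 0 := by
      intro v hv
      have hneg : -v = v := by
        have hcase : ∀ g : QuaternionGroup 2, g ≠ 1 → g = QuaternionGroup.a 2 ∨ g * g = QuaternionGroup.a 2 := by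
          decide
        have ht : f (QuaternionGroup.a 2) = -1 := rot_two X hx
        rcases hcase g hg with h | h
        · rw [h, ht, Matrix.neg_mulVec, Matrix.one_mulVec] at hv; exact hv
        · have h2 : (f (g * g)).mulVec v = v := by rw [hmul, ← Matrix.mulVec_mulVec, hv, hv]
          rw [h, ht, Matrix.neg_mulVec, Matrix.one_mulVec] at h2; exact h2
      funext j i
      have h3 : -(v j i) = v j i := congrFun (congrFun hneg j) i
      have h4 : ((2 : ℕ) : ZMod (q i)) * v j i = 0 := by push_cast; linear_combination -h3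
      rcases mul_eq_zero.1 h4 with h5 | h5
      · rw [ZMod.natCast_eq_zero_iff] at h5
        exact absurd ((Nat.prime_dvd_prime_iff_eq (hq i) Nat.prime_two).1 h5) (hodd i)
      · exact h5
    exact Multiplicative.toAdd.injective (key m.toAdd (congrArg Multiplicative.toAdd hm))
  have hcardM : Nat.card (Multiplicative (Fin 2 → R)) = k * k := by
    show Nat.card (Fin 2 → R) = k * k
    rw [Nat.card_fun, Nat.card_fin, hcardR, sq]
  have : Nontrivial (Multiplicative (Fin 2 → R)) := by
    have : 1 < Nat.card (Multiplicative (Fin 2 → R)) := by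
      rw [hcardM]; exact Nat.one_lt_mul_iff.2 ⟨by omega, by omega, Or.inl h1⟩
    exact Finite.one_lt_card_iff_nontrivial.1 this
  obtain ⟨L, i1, i2, C, hC, hE, hcard⟩ := CfsgLib.FrobModule.exists_complement_of_fpf φ hfpf
  exact ⟨L, i1, i2, C, hC, hE.map MulEquiv.symm, by rw [hcard, hcardM]⟩

/-- For a natural number m the following are equivalent: (a) some finite group has a Frobenius complement isomorphic to the quaternion group of order 8 whose Frobenius kernel (the identity together with the elements lying in no conjugate of the complement) has exactly m elements; (b) m is an odd perfect square greater than 1. -/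
theorem result (m : ℕ) :
    (∃ (L : Type) (_ : Group L) (_ : Finite L) (H : Subgroup L), Cfsg.IsFrobeniusComplement H ∧
        Nonempty (H ≃* QuaternionGroup 2) ∧ Nat.card (Cfsg.frobeniusKernel H) = m) ↔
    (Odd m ∧ IsSquare m ∧ 1 < m) := by
  constructor
  · rintro ⟨L, i1, i2, H, hH, ⟨e⟩, rfl⟩
    have hm : ∀ g h : QuaternionGroup 2, ((e.symm (g * h) : H) : L) = (e.symm g : L) * (e.symm h : L) :=
      fun g h => by rw [map_mul]; rfl
    have hne : ∀ g : QuaternionGroup 2, g ≠ 1 → ((e.symm g : H) : L) ≠ 1 := fun g hg h =>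
      hg (e.symm.injective (by rw [map_one]; exact Subtype.ext h))
    have h1 : ((e.symm 1 : H) : L) = 1 := by simp
    obtain ⟨ho, hs⟩ := CfsgLib.FrobModule.card_kernel_square hH
      (i := (e.symm (QuaternionGroup.xa 0) : L)) (j := (e.symm (QuaternionGroup.a 1) : L))
      (SetLike.coe_mem _) (SetLike.coe_mem _) (by rw [← hm]; exact hne _ (by decide))
      (by rw [← hm, ← hm, ← h1]; exact congrArg (fun g => ((e.symm g : H) : L)) (by decide))
      (by rw [← hm, ← hm]; exact congrArg (fun g => ((e.symm g : H) : L)) (by decide))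
      (by rw [← hm, ← hm, ← hm, ← hm]; exact congrArg (fun g => ((e.symm g : H) : L)) (by decide))
    exact ⟨ho, hs, by
      rw [CfsgLib.Frobenius.card_kernel hH]; exact CfsgLib.Frobenius.index_ge_two hH⟩
  · rintro ⟨ho, ⟨k, rfl⟩, h1⟩
    exact exists_complement_of_odd k (Nat.odd_mul.1 ho).1 (by
      rcases Nat.lt_or_ge 1 k with h | h
      · exact h
      · interval_cases k <;> simp_all)

end Cfsg.Agent.S4295
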