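import Mathlib
import Cfsg.Agent.Lib.Frobenius.ComplementSylow
import Cfsg.Agent.Lib.Frobenius.Theorem
import Cfsg.Agent.Lib.FrobModule.Square

import Cfsg.Statements.S4296

set_option autoImplicit false
open Cfsg

namespace Cfsg.Agent.S4296

/-- Let H be a Frobenius complement in a finite group, and suppose some Sylow subgroup of H is not cyclic. Then the number of elements of the Frobenius kernel (the identity together with the elements lying in no conjugate of H) is an odd perfect square. -/
theorem result {L : Type*} [Group L] [Finite L] (H : Subgroup L) (hF : Cfsg.IsFrobeniusComplement H)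
    (hZ : ∃ (p : ℕ) (_ : Fact p.Prime) (P : Sylow p H), ¬ IsCyclic P) :
    Odd (Nat.card (Cfsg.frobeniusKernel H)) ∧ IsSquare (Nat.card (Cfsg.frobeniusKernel H)) := by
  obtain ⟨p, hp, P, hP⟩ := hZ
  obtain ⟨N, -, hN, hc⟩ := CfsgLib.Frobenius.exists_kernel_subgroup hF
  haveI := hN
  have hK : N ≠ ⊥ := by
    intro h
    exact hF.2.1 (Subgroup.isComplement'_bot_left.1 (h ▸ hc))
  have hfpf : ∀ h ∈ H, h ≠ 1 → N ⊓ Subgroup.centralizer {h} = ⊥ := fun h hh h1 =>
    CfsgLib.Frobenius.fpf_of_isFrobeniusComplement hc hF hh h1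
  obtain ⟨rfl, n, ⟨e⟩⟩ := (CfsgLib.Frobenius.sylow_cyclic_or_quaternion hc hK hfpf (P : Subgroup H)
    P.isPGroup').resolve_left hP
  rcases n with _ | n
  · exfalso
    apply hP
    have : IsCyclic (QuaternionGroup (2 ^ 0)) := QuaternionGroup.quaternionGroup_one_isCyclic
    exact e.isCyclic.2 this
  · set N' := 2 ^ (n + 1) with hN'
    let h : ZMod (2 * N') := ((2 ^ n : ℕ) : ZMod (2 * N'))
    have hh : h + h = (N' : ZMod (2 * N')) := by
      rw [← Nat.cast_add, hN']
      congr 1
      ring
    have hz : (N' : ZMod (2 * N')) + N' = 0 := by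
      rw [← Nat.cast_add, ← two_mul, ZMod.natCast_self]
    let f : QuaternionGroup N' → L := fun g => (((e.symm g : (P : Subgroup H)) : H) : L)
    have hm : ∀ g k : QuaternionGroup N', f (g * k) = f g * f k := fun g k => by
      simp only [f, map_mul]; rfl
    have hinj : Function.Injective f :=
      Subtype.val_injective.comp (Subtype.val_injective.comp e.symm.injective)
    have h1 : f 1 = 1 := by simp [f]
    refine CfsgLib.FrobModule.card_kernel_square hF (i := f (QuaternionGroup.xa 0))
      (j := f (QuaternionGroup.a h)) (SetLike.coe_mem _) (SetLike.coe_mem _) ?_ ?_ ?_ ?_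
    · intro hc'
      rw [← hm, ← h1] at hc'
      have := hinj hc'
      rw [QuaternionGroup.xa_mul_xa, QuaternionGroup.one_def] at this
      injection this with this
      rw [add_zero, sub_zero, ZMod.natCast_eq_zero_iff] at this
      have := Nat.le_of_dvd (by positivity) this
      have : 0 < N' := by positivity
      omega
    · rw [← hm, ← hm, ← h1, QuaternionGroup.xa_mul_xa, QuaternionGroup.a_mul_a, QuaternionGroup.one_def,
        add_zero, sub_zero, hz]
    · rw [← hm, ← hm, QuaternionGroup.xa_mul_xa, QuaternionGroup.a_mul_a, hh, add_zero, sub_zero]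
    · rw [← hm, ← hm, ← hm, ← hm, QuaternionGroup.xa_mul_a, QuaternionGroup.xa_mul_xa,
        QuaternionGroup.a_mul_xa, QuaternionGroup.a_mul_xa]
      congr 2
      linear_combination hh + hz

end Cfsg.Agent.S4296
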