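import Mathlib
import Cfsg.Agent.Lib.FrobModule.Fpf

import Cfsg.Statements.S4297

set_option autoImplicit false
open Cfsg

namespace Cfsg.Agent.S4297

open Quaternion in
/-- The complex number of absolute value one attached to an exponent. -/
noncomputable def rot (n : ℕ) [NeZero n] (i : ZMod (2 * n)) : ℍ[ℝ] :=
  ⟨((ZMod.toCircle i : Circle) : ℂ).re, ((ZMod.toCircle i : Circle) : ℂ).im, 0, 0⟩

open Quaternion in
/-- The quaternion `j`. -/
noncomputable def qj : ℍ[ℝ] := ⟨0, 0, 1, 0⟩

@[simp] theorem rot_re (n : ℕ) [NeZero n] (i : ZMod (2 * n)) :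
    (rot n i).re = ((ZMod.toCircle i : Circle) : ℂ).re := rfl
@[simp] theorem rot_imI (n : ℕ) [NeZero n] (i : ZMod (2 * n)) :
    (rot n i).imI = ((ZMod.toCircle i : Circle) : ℂ).im := rfl
@[simp] theorem rot_imJ (n : ℕ) [NeZero n] (i : ZMod (2 * n)) : (rot n i).imJ = 0 := rfl
@[simp] theorem rot_imK (n : ℕ) [NeZero n] (i : ZMod (2 * n)) : (rot n i).imK = 0 := rfl
@[simp] theorem qj_re : qj.re = 0 := rfl
@[simp] theorem qj_imI : qj.imI = 0 := rfl
@[simp] theorem qj_imJ : qj.imJ = 1 := rfl
@[simp] theorem qj_imK : qj.imK = 0 := rfl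

theorem rot_zero (n : ℕ) [NeZero n] : rot n 0 = 1 := by
  ext <;> simp [AddChar.map_zero_eq_one, Quaternion.re_one, Quaternion.imI_one, Quaternion.imJ_one, Quaternion.imK_one]

theorem rot_add (n : ℕ) [NeZero n] (i j : ZMod (2 * n)) : rot n (i + j) = rot n i * rot n j := by
  ext <;> simp [AddChar.map_add_eq_mul, Complex.mul_re, Complex.mul_im]

theorem rot_mul_qj (n : ℕ) [NeZero n] (i : ZMod (2 * n)) : rot n i * qj = qj * rot n (-i) := by
  ext <;> simp [AddChar.map_neg_eq_inv, Circle.coe_inv_eq_conj]

theorem rot_half (n : ℕ) [NeZero n] : rot n (n : ZMod (2 * n)) = -1 := by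
  have h2 : ((ZMod.toCircle (n : ZMod (2 * n)) : Circle) : ℂ) * (ZMod.toCircle (n : ZMod (2 * n)) : Circle) = 1 := by
    rw [← Circle.coe_mul, ← AddChar.map_add_eq_mul, ← Nat.cast_add, ← two_mul, ZMod.natCast_self,
      AddChar.map_zero_eq_one, Circle.coe_one]
  have h1 : ((ZMod.toCircle (n : ZMod (2 * n)) : Circle) : ℂ) ≠ 1 := by
    intro h
    have h' : ZMod.toCircle (n : ZMod (2 * n)) = ZMod.toCircle (0 : ZMod (2 * n)) := by
      rw [AddChar.map_zero_eq_one]; exact Circle.ext h
    have h0 := ZMod.injective_toCircle h'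
    rw [ZMod.natCast_eq_zero_iff] at h0
    have := Nat.le_of_dvd (Nat.pos_of_ne_zero (NeZero.ne n)) h0
    have := NeZero.ne n
    omega
  have h := (mul_self_eq_one_iff.1 h2).resolve_left h1
  ext <;> simp [h, Quaternion.re_one, Quaternion.imI_one, Quaternion.imJ_one, Quaternion.imK_one]

theorem qj_mul_qj : qj * qj = -1 := by
  ext <;> simp [Quaternion.re_one, Quaternion.imI_one, Quaternion.imJ_one, Quaternion.imK_one]

/-- For every n ≥ 2 the dicyclic group of order 4n (generated by an element a of order 2n and an element x with x² = aⁿ and x a x⁻¹ = a⁻¹) occurs as a Frobenius complement of some finite Frobenius group. -/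
theorem result (n : ℕ) (hn : 2 ≤ n) :
    ∃ (L : Type) (_ : Group L) (_ : Finite L) (H : Subgroup L), Cfsg.IsFrobeniusComplement H ∧ Nonempty (H ≃* QuaternionGroup n) := by
  have : NeZero n := ⟨by omega⟩
  let f : QuaternionGroup n → Quaternion ℝ := fun x =>
    match x with
    | .a i => rot n i
    | .xa i => qj * rot n i
  have hmul : ∀ x y, f (x * y) = f x * f y := by
    rintro (i | i) (j | j)
    · exact rot_add n i j
    · show qj * rot n (j - i) = rot n i * (qj * rot n j)
      rw [← mul_assoc, rot_mul_qj, mul_assoc, ← rot_add]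
      congr 2; ring
    · show qj * rot n (i + j) = qj * rot n i * rot n j
      rw [mul_assoc, rot_add]
    · show rot n ((n : ZMod (2 * n)) + j - i) = qj * rot n i * (qj * rot n j)
      rw [mul_assoc, ← mul_assoc (rot n i), rot_mul_qj, mul_assoc qj, ← rot_add, ← mul_assoc,
        qj_mul_qj, ← rot_half n, ← rot_add]
      congr 1; ring
  let F : QuaternionGroup n →* Quaternion ℝ :=
    { toFun := f, map_one' := rot_zero n, map_mul' := hmul }
  have hinj : Function.Injective F.toHomUnits := by
    rw [injective_iff_map_eq_one]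
    intro x hx
    have hx' : f x = 1 := congrArg Units.val hx
    rcases x with i | i
    · have hre := congrArg QuaternionAlgebra.re hx'
      have him := congrArg QuaternionAlgebra.imI hx'
      simp [f, Quaternion.re_one, Quaternion.imI_one] at hre him
      have hc : ((ZMod.toCircle i : Circle) : ℂ) = 1 := Complex.ext (by simpa using hre) (by simpa using him)
      have h' : ZMod.toCircle i = ZMod.toCircle (0 : ZMod (2 * n)) := by
        rw [AddChar.map_zero_eq_one]; exact Circle.ext hc
      rw [ZMod.injective_toCircle h']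
      rfl
    · have hre := congrArg QuaternionAlgebra.re hx'
      simp [f, Quaternion.re_one, Quaternion.imI_one] at hre
  have hne : F.toHomUnits.range ≠ ⊥ := by
    rw [Ne, MonoidHom.range_eq_bot_iff]
    intro h
    have := hinj (a₁ := QuaternionGroup.xa 0) (a₂ := 1) (by rw [h]; rfl)
    cases this
  have : Finite F.toHomUnits.range := Finite.of_equiv _ (MonoidHom.ofInjective hinj).toEquiv
  obtain ⟨L, i1, i2, K, hK, ⟨e⟩⟩ := CfsgLib.FrobModule.units_subgroup_complement _ hne
  exact ⟨L, i1, i2, K, hK, ⟨((MonoidHom.ofInjective hinj).trans e).symm⟩⟩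

end Cfsg.Agent.S4297
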