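import Mathlib
import Cfsg.Agent.Lib.FrobModule.Fpf

import Cfsg.Statements.S4298

set_option autoImplicit false
open Cfsg

namespace Cfsg.Agent.S4298

/-- An embedding of `SL(2,3)` in `GL(2,5)`, tabulated on the 81 matrices. -/
def tab : Fin 81 → Matrix (Fin 2) (Fin 2) (ZMod 5) :=
  ![!![1, 0; 0, 1], !![1, 0; 0, 1], !![1, 0; 0, 1], !![1, 0; 0, 1], !![1, 0; 0, 1], !![1, 0; 0, 1], !![1, 0; 0, 1], !![1, 0; 0, 1], !![1, 0; 0, 1], !![1, 0; 0, 1], !![1, 0; 0, 1], !![1, 0; 0, 1], !![1, 0; 0, 1], !![1, 0; 0, 1], !![1, 0; 0, 1], !![0, 4; 1, 0], !![2, 4; 3, 4], !![3, 2; 1, 1], !![1, 0; 0, 1], !![1, 0; 0, 1], !![1, 0; 0, 1], !![0, 1; 4, 0], !![2, 3; 4, 4], !![3, 1; 2, 1], !![1, 0; 0, 1], !![1, 0; 0, 1], !![1, 0; 0, 1], !![1, 0; 0, 1], !![1, 0; 0, 1], !![1, 0; 0, 1], !![1, 0; 0, 1], !![1, 2; 1, 3], !![1, 0; 0, 1], !![1, 0; 0, 1], !![3, 3; 4, 1], !![1, 0; 0, 1], !![1, 0; 0, 1],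 !![1, 1; 2, 3], !![1, 0; 0, 1], !![1, 0; 0, 1], !![1, 0; 0, 1], !![0, 2; 2, 0], !![4, 2; 1, 2], !![1, 0; 0, 1], !![1, 0; 0, 1], !![1, 0; 0, 1], !![3, 4; 3, 1], !![1, 0; 0, 1], !![4, 1; 2, 2], !![1, 0; 0, 1], !![1, 0; 0, 1], !![1, 0; 0, 1], !![1, 0; 0, 1], !![3, 0; 0, 2], !![1, 0; 0, 1], !![1, 0; 0, 1], !![4, 0; 0, 4], !![1, 0; 0, 1], !![1, 0; 0, 1], !![2, 2; 1, 4], !![1, 0; 0, 1], !![1, 0; 0, 1], !![4, 3; 4, 2], !![1, 0; 0, 1], !![1, 0; 0, 1], !![2, 1; 2, 4], !![1, 0; 0, 1], !![2, 0; 0, 3], !![1, 0; 0, 1], !![1, 4; 3, 3], !![1, 0; 0, 1], !![1, 0; 0, 1], !![1, 0; 0, 1], !![1, 0; 0, 1], !![4, 4; 3, 2], !![1, 3; 4, 3], !![1, 0; 0, 1], !![1, 0; 0, 1], !![1, 0; 0, 1], !![0, 3; 3, 0], !![1, 0; 0, 1]]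

/-- The tabulated map. -/
def emb (A : Matrix.SpecialLinearGroup (Fin 2) (ZMod 3)) : Matrix (Fin 2) (Fin 2) (ZMod 5) :=
  tab ⟨27 * (A.1 0 0).val + 9 * (A.1 0 1).val + 3 * (A.1 1 0).val + (A.1 1 1).val, by
    have h1 := (A.1 0 0).val_lt; have h2 := (A.1 0 1).val_lt
    have h3 := (A.1 1 0).val_lt; have h4 := (A.1 1 1).val_lt; omega⟩

theorem emb_mul : ∀ A B : Matrix.SpecialLinearGroup (Fin 2) (ZMod 3), emb (A * B) = emb A * emb B := by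
  decide +kernel

theorem emb_one : emb 1 = 1 := by decide +kernel

theorem emb_fpf : ∀ A : Matrix.SpecialLinearGroup (Fin 2) (ZMod 3), A ≠ 1 →
    ∀ v : Fin 2 → ZMod 5, (emb A).mulVec v = v → v = 0 := by
  decide +kernel

/-- The group SL(2,3) of order 24 (the binary tetrahedral group) occurs as a Frobenius complement of some finite Frobenius group. -/
theorem result :
    ∃ (L : Type) (_ : Group L) (_ : Finite L) (H : Subgroup L), Cfsg.IsFrobeniusComplement H ∧ Nonempty (H ≃* Matrix.SpecialLinearGroup (Fin 2) (ZMod 3)) := by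
  let iA : DistribMulAction (Matrix.SpecialLinearGroup (Fin 2) (ZMod 3)) (Fin 2 → ZMod 5) :=
    { smul := fun A v => (emb A).mulVec v
      one_smul := fun v => show (emb 1).mulVec v = v by rw [emb_one, Matrix.one_mulVec]
      mul_smul := fun A B v => show (emb (A * B)).mulVec v = (emb A).mulVec ((emb B).mulVec v) by
        rw [emb_mul, Matrix.mulVec_mulVec]
      smul_zero := fun A => Matrix.mulVec_zero _
      smul_add := fun A v w => Matrix.mulVec_add _ v w }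
  have : Nontrivial (Matrix.SpecialLinearGroup (Fin 2) (ZMod 3)) :=
    ⟨⟨1, ⟨!![1, 1; 0, 1], by simp [Matrix.det_fin_two]⟩, fun h => by
      have := congrArg (fun A : Matrix.SpecialLinearGroup (Fin 2) (ZMod 3) => A.1 0 1) h
      simp at this⟩⟩
  have : AddGroup.FG (Fin 2 → ZMod 5) := AddGroup.fg_of_finite
  have : Fact (Nat.Prime 5) := ⟨by norm_num⟩
  obtain ⟨L, i1, i2, K, hK, hE⟩ :=
    CfsgLib.FrobModule.exists_complement_of_fpf_fg (H := Matrix.SpecialLinearGroup (Fin 2) (ZMod 3))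
      (A := Fin 2 → ZMod 5) emb_fpf
  exact ⟨L, i1, i2, K, hK, hE.map (fun e => e.symm)⟩

end Cfsg.Agent.S4298
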