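import Mathlib
import Cfsg.Agent.Lib.FrobModule.Fpf

import Cfsg.Statements.S4299

set_option autoImplicit false
open Cfsg

namespace Cfsg.Agent.S4299

/-- Every nontrivial finite cyclic group occurs as a Frobenius complement of some finite Frobenius group. -/
theorem result {C : Type*} [Group C] [Finite C] [IsCyclic C] [Nontrivial C] :
    ∃ (L : Type) (_ : Group L) (_ : Finite L) (H : Subgroup L), Cfsg.IsFrobeniusComplement H ∧ Nonempty (C ≃* H) := by
  classical
  have : NeZero (Nat.card C) := ⟨Nat.card_pos.ne'⟩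
  set H : Subgroup ℂˣ := rootsOfUnity (Nat.card C) ℂ
  have hc : Nat.card H = Nat.card C := by
    exact Complex.card_rootsOfUnity _
  have e : C ≃* H := mulEquivOfCyclicCardEq hc.symm
  have hH : H ≠ ⊥ := by
    intro h
    have := Finite.one_lt_card (α := C)
    rw [← hc, h, Subgroup.card_bot] at this
    exact lt_irrefl _ this
  obtain ⟨L, i1, i2, K, hK, ⟨f⟩⟩ := CfsgLib.FrobModule.units_subgroup_complement H hH
  exact ⟨L, i1, i2, K, hK, ⟨e.trans f⟩⟩

end Cfsg.Agent.S4299
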