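import Mathlib

import Cfsg.Statements.S4300

set_option autoImplicit false
open Cfsg

namespace Cfsg.Agent.S4300

/-- Let G act faithfully and primitively on a set X, and suppose the stabilizer of some point is a simple group. Then either G is simple, or G has a normal subgroup, neither trivial nor the whole group, that acts regularly on X (transitively with trivial point stabilizers). -/
theorem result {G : Type*} [Group G] {X : Type*} [MulAction G X] [FaithfulSMul G X]
    (hprim : MulAction.IsPreprimitive G X) (x : X) (hsimple : IsSimpleGroup (MulAction.stabilizer G x)) :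
    IsSimpleGroup G ∨ ∃ N : Subgroup G, N.Normal ∧ N ≠ ⊥ ∧ N ≠ ⊤ ∧
      MulAction.IsPretransitive N X ∧ ∀ y : X, MulAction.stabilizer N y = ⊥ := by
  classical
  by_cases hs : IsSimpleGroup G
  · exact Or.inl hs
  right
  set S := MulAction.stabilizer G x with hS
  have : Nontrivial S := hsimple.toNontrivial
  have : Nontrivial G := (Subtype.coe_injective (p := fun g => g ∈ S)).nontrivial
  obtain ⟨N, hNn, hN1, hN2⟩ : ∃ N : Subgroup G, N.Normal ∧ N ≠ ⊥ ∧ N ≠ ⊤ := by
    by_contra hc
    push Not at hc
    exact hs ⟨fun H hH => (eq_or_ne H ⊥).imp id (hc H hH)⟩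
  have : MulAction.IsPreprimitive G X := hprim
  have hX : MulAction.fixedPoints N X ≠ Set.univ := by
    intro h
    apply hN1
    rw [eq_bot_iff]
    intro n hn
    rw [Subgroup.mem_bot]
    apply eq_of_smul_eq_smul (α := X)
    intro y
    have : y ∈ MulAction.fixedPoints N X := h ▸ trivial
    rw [one_smul]
    exact this ⟨n, hn⟩
  have htr : MulAction.IsPretransitive N X := MulAction.IsQuasiPreprimitive.isPretransitive_of_normal hX
  have hnorm : (N.subgroupOf S).Normal := inferInstance
  rcases hnorm.eq_bot_or_eq_top with h | h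
  · refine ⟨N, hNn, hN1, hN2, htr, fun y => ?_⟩
    obtain ⟨m, rfl⟩ := htr.exists_smul_eq x y
    rw [eq_bot_iff]
    intro n hn
    rw [Subgroup.mem_bot]
    have hfix : ((m : G)⁻¹ * (n : G) * m) • x = x := by
      have : (n : G) • (m : G) • x = (m : G) • x := hn
      rw [mul_smul, mul_smul, this, inv_smul_smul]
    have hmem : (⟨(m : G)⁻¹ * (n : G) * m, hfix⟩ : S) ∈ N.subgroupOf S :=
      N.mul_mem (N.mul_mem (N.inv_mem m.2) n.2) m.2
    rw [h, Subgroup.mem_bot, Subtype.ext_iff] at hmem
    have e : (n : G) = (m : G) * ((m : G)⁻¹ * (n : G) * m) * (m : G)⁻¹ := by group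
    apply Subtype.ext
    have hmem' : (m : G)⁻¹ * (n : G) * m = 1 := by simpa using hmem
    rw [e, hmem']
    simp
  · exfalso
    apply hN2
    rw [Subgroup.subgroupOf_eq_top] at h
    rw [eq_top_iff]
    intro g _
    obtain ⟨m, hm⟩ := htr.exists_smul_eq x (g • x)
    have hfix : ((m : G)⁻¹ * g) ∈ S := by
      show ((m : G)⁻¹ * g) • x = x
      rw [mul_smul, ← hm]
      exact inv_smul_smul (m : G) x
    have := N.mul_mem m.2 (h hfix)
    simpa using this

end Cfsg.Agent.S4300
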