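import Cfsg.Statements.S4301


set_option autoImplicit false
open Cfsg

namespace Cfsg.Agent.S4301

theorem exists_embedding {X : Type*} {k : ℕ} (hk : 2 ≤ k) (e : Fin k ↪ X) (x y : X) (hxy : x ≠ y) :
    ∃ a : Fin k ↪ X, a ⟨0, by omega⟩ = x ∧ a ⟨1, by omega⟩ = y := by
  classical
  set s := Equiv.swap (e ⟨0, by omega⟩) x
  set t := Equiv.swap (s (e ⟨1, by omega⟩)) y
  refine ⟨e.trans (s.trans t).toEmbedding, ?_, ?_⟩
  · show t (s (e ⟨0, _⟩)) = x
    rw [show s (e ⟨0, by omega⟩) = x from Equiv.swap_apply_left _ _]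
    refine Equiv.swap_apply_of_ne_of_ne (fun h => ?_) hxy
    have h' : s (e ⟨1, by omega⟩) = s (e ⟨0, by omega⟩) :=
      h.symm.trans (Equiv.swap_apply_left _ _).symm
    simp at h'
  · exact Equiv.swap_apply_left _ _

/-- One-point extension of a multiply transitive group. Let X be a set and G a group of permutations of Option X (the set X with one extra point ∗ = none) all of whose elements fix ∗, such that G is k-transitive on the points of X for some k ≥ 2, X having at least k points. Suppose a permutation h of Option X and an element g of G satisfy: h interchanges ∗ with a point x of X and fixes a point y of X; g interchanges x and y; (g h)³ and h² lie in G; and for every f in G fixing x, the product h f h lies in G and fixes x. Then an element of the group generated by G and h fixes ∗ exactly when it lies in G, and that group acts (k+1)-transitively on Option X. -/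
theorem result {X : Type*} (G : Subgroup (Equiv.Perm (Option X))) (hfix : ∀ f ∈ G, f none = none)
    (k : ℕ) (hk : 2 ≤ k) (hkX : Nonempty (Fin k ↪ X))
    (htrans : ∀ a b : Fin k ↪ X, ∃ f ∈ G, ∀ i, f (some (a i)) = some (b i))
    (h g : Equiv.Perm (Option X)) (hg : g ∈ G) (x y : X)
    (h1 : h none = some x) (h2 : h (some x) = none) (h3 : h (some y) = some y)
    (h4 : g (some x) = some y) (h5 : g (some y) = some x)
    (h6 : (g * h) ^ 3 ∈ G) (h7 : h ^ 2 ∈ G)
    (h8 : ∀ f ∈ G, f (some x) = some x → h * f * h ∈ G ∧ (h * f * h) (some x) = some x) :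
    (∀ f ∈ Subgroup.closure ((G : Set (Equiv.Perm (Option X))) ∪ {h}), f none = none ↔ f ∈ G) ∧
      MulAction.IsMultiplyPretransitive (Subgroup.closure ((G : Set (Equiv.Perm (Option X))) ∪ {h})) (Option X) (k + 1) := by
  classical
  obtain ⟨e₀⟩ := hkX
  set c := (h ^ 2)⁻¹ with hc
  have hcG : c ∈ G := G.inv_mem h7
  have hinv : h⁻¹ = c * h := by rw [hc]; group
  have hinv' : h⁻¹ = h * c := by rw [hc]; group
  have hxy : x ≠ y := by
    intro e
    rw [← e, h2] at h3
    exact Option.some_ne_none x h3.symm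
  have h2t : ∀ z, z ≠ x → ∃ a ∈ G, a (some x) = some x ∧ a (some y) = some z := by
    intro z hz
    obtain ⟨u, hu0, hu1⟩ := exists_embedding hk e₀ x y hxy
    obtain ⟨v, hv0, hv1⟩ := exists_embedding hk e₀ x z hz.symm
    obtain ⟨a, ha, hau⟩ := htrans u v
    exact ⟨a, ha, by have := hau ⟨0, by omega⟩; rwa [hu0, hv0] at this,
      by have := hau ⟨1, by omega⟩; rwa [hu1, hv1] at this⟩
  -- the product `h f h`
  have key : ∀ f ∈ G, h * f * h ∈ G ∨ ∃ f₁ ∈ G, ∃ f₂ ∈ G, h * f * h = f₁ * h * f₂ := by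
    intro f hf
    by_cases hfx : f (some x) = some x
    · exact Or.inl (h8 f hf hfx).1
    right
    obtain ⟨z, hz⟩ : ∃ z, f (some x) = some z := by
      cases hfz : f (some x) with
      | none => exact absurd (f.injective (hfz.trans (hfix f hf).symm)) (Option.some_ne_none x)
      | some z => exact ⟨z, rfl⟩
    obtain ⟨a, ha, hax, hay⟩ := h2t z (fun e => hfx (e ▸ hz))
    set b := g⁻¹ * a⁻¹ * f with hb
    have hbx : b (some x) = some x := by
      rw [hb, Equiv.Perm.mul_apply, Equiv.Perm.mul_apply, hz, ← hay]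
      rw [show a⁻¹ (a (some y)) = some y from a.symm_apply_apply _, ← h4]
      exact g.symm_apply_apply _
    have hbG : b ∈ G := G.mul_mem (G.mul_mem (G.inv_mem hg) (G.inv_mem ha)) hf
    refine ⟨(h * a * h) * c * g⁻¹ * (g * h) ^ 3 * c,
      G.mul_mem (G.mul_mem (G.mul_mem (G.mul_mem (h8 a ha hax).1 hcG) (G.inv_mem hg)) h6) hcG,
      g⁻¹ * c * (h * b * h),
      G.mul_mem (G.mul_mem (G.inv_mem hg) hcG) (h8 b hbG hbx).1, ?_⟩
    have e1 : h * g * h = g⁻¹ * (g * h) ^ 3 * c * h * g⁻¹ := by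
      rw [show g⁻¹ * (g * h) ^ 3 * c * h * g⁻¹ = g⁻¹ * (g * h) ^ 3 * (c * h) * g⁻¹ by group,
        ← hinv]
      simp [pow_succ, mul_assoc]
    calc h * f * h = (h * a * h) * h⁻¹ * g * h⁻¹ * (h * b * h) := by rw [hb]; group
      _ = (h * a * h) * (c * h) * g * (h * c) * (h * b * h) := by rw [← hinv, ← hinv']
      _ = (h * a * h) * c * (h * g * h) * c * (h * b * h) := by group
      _ = _ := by rw [e1]; group
  let K : Subgroup (Equiv.Perm (Option X)) :=
    { carrier := {f | f ∈ G ∨ ∃ f₁ ∈ G, ∃ f₂ ∈ G, f = f₁ * h * f₂}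
      one_mem' := Or.inl G.one_mem
      mul_mem' := by
        rintro u v (hu | ⟨u₁, hu₁, u₂, hu₂, rfl⟩) (hv | ⟨v₁, hv₁, v₂, hv₂, rfl⟩)
        · exact Or.inl (G.mul_mem hu hv)
        · exact Or.inr ⟨u * v₁, G.mul_mem hu hv₁, v₂, hv₂, by group⟩
        · exact Or.inr ⟨u₁, hu₁, u₂ * v, G.mul_mem hu₂ hv, by group⟩
        · have e : u₁ * h * u₂ * (v₁ * h * v₂) = u₁ * (h * (u₂ * v₁) * h) * v₂ := by group
          rcases key _ (G.mul_mem hu₂ hv₁) with hk' | ⟨w₁, hw₁, w₂, hw₂, hw⟩
          · exact Or.inl (by rw [e]; exact G.mul_mem (G.mul_mem hu₁ hk') hv₂)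
          · exact Or.inr ⟨u₁ * w₁, G.mul_mem hu₁ hw₁, w₂ * v₂, G.mul_mem hw₂ hv₂,
              by rw [e, hw]; group⟩
      inv_mem' := by
        rintro u (hu | ⟨u₁, hu₁, u₂, hu₂, rfl⟩)
        · exact Or.inl (G.inv_mem hu)
        · refine Or.inr ⟨u₂⁻¹ * c, G.mul_mem (G.inv_mem hu₂) hcG, u₁⁻¹, G.inv_mem hu₁, ?_⟩
          rw [mul_assoc u₂⁻¹, ← hinv]
          group }
  set L := Subgroup.closure ((G : Set (Equiv.Perm (Option X))) ∪ {h}) with hL
  have hLK : L ≤ K := by
    rw [hL, Subgroup.closure_le]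
    rintro f (hf | rfl)
    · exact Or.inl hf
    · exact Or.inr ⟨1, G.one_mem, 1, G.one_mem, by group⟩
  have hGL : G ≤ L := fun f hf => Subgroup.subset_closure (Or.inl hf)
  have hhL : h ∈ L := Subgroup.subset_closure (Or.inr rfl)
  refine ⟨fun f hf => ⟨fun hf0 => ?_, hfix f⟩, ?_⟩
  · rcases hLK hf with hG' | ⟨f₁, hf₁, f₂, hf₂, rfl⟩
    · exact hG'
    · rw [Equiv.Perm.mul_apply, Equiv.Perm.mul_apply, hfix f₂ hf₂, h1] at hf0
      exact absurd (f₁.injective (hf0.trans (hfix f₁ hf₁).symm)) (Option.some_ne_none x)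
  · -- move the first point to the extra point
    have hone : ∀ z : X, ∃ f ∈ G, f (some z) = some x := by
      intro z
      have i0 : Fin k := ⟨0, by omega⟩
      obtain ⟨f, hf, hfe⟩ := htrans (e₀.trans (Equiv.swap (e₀ i0) z).toEmbedding)
        (e₀.trans (Equiv.swap (e₀ i0) x).toEmbedding)
      exact ⟨f, hf, by simpa using hfe i0⟩
    have hnorm : ∀ a : Fin (k + 1) ↪ Option X, ∃ σ : L, ∃ u : Fin k ↪ X,
        σ • a 0 = none ∧ ∀ i : Fin k, σ • a i.succ = some (u i) := by
      intro a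
      obtain ⟨σ, hσ⟩ : ∃ σ : L, σ • a 0 = none := by
        cases ha : a 0 with
        | none => exact ⟨1, one_smul _ _⟩
        | some z =>
          obtain ⟨f, hf, hfz⟩ := hone z
          refine ⟨⟨h * f, L.mul_mem hhL (hGL hf)⟩, ?_⟩
          show (h * f) (some z) = none
          rw [Equiv.Perm.mul_apply, hfz, h2]
      have hne : ∀ i : Fin k, σ • a i.succ ≠ none := fun i e =>
        Fin.succ_ne_zero i (a.injective (smul_left_cancel σ (e.trans hσ.symm)))
      choose u hu using fun i => Option.ne_none_iff_exists'.mp (hne i)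
      refine ⟨σ, ⟨u, fun i j e => ?_⟩, hσ, hu⟩
      exact Fin.succ_injective _ (a.injective (smul_left_cancel σ
        ((hu i).trans ((congrArg some e).trans (hu j).symm))))
    rw [MulAction.isMultiplyPretransitive_iff]
    intro a b
    obtain ⟨σ, u, ha0, hau⟩ := hnorm a
    obtain ⟨τ, v, hb0, hbv⟩ := hnorm b
    obtain ⟨f, hf, hfe⟩ := htrans u v
    refine ⟨τ⁻¹ * ⟨f, hGL hf⟩ * σ, ?_⟩
    ext i : 1
    show (τ⁻¹ * ⟨f, hGL hf⟩ * σ) • a i = b i
    rw [mul_smul, mul_smul, inv_smul_eq_iff]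
    refine Fin.cases ?_ (fun j => ?_) i
    · rw [ha0, hb0]; exact hfix f hf
    · rw [hau, hbv]; exact hfe j

end Cfsg.Agent.S4301
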