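import Cfsg.Statements.S4302
import Cfsg.Agent.Lib.FailFact.Product
-- import your own Cfsg.Agent.* helpers here

set_option autoImplicit false
open Cfsg

namespace Cfsg.Agent.S4302

open CfsgLib.FailFact
open scoped commutatorElement

/-- A Sylow subgroup meets a normal subgroup in a Sylow subgroup. -/
theorem exists_sylow_map_eq_inf {G : Type*} [Group G] [Finite G] (T : Sylow 2 G) (N : Subgroup G) [N.Normal] :
    ∃ P : Sylow 2 N, (P : Subgroup N).map N.subtype = (T : Subgroup G) ⊓ N := by
  haveI := Fact.mk Nat.prime_two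
  obtain ⟨P, hP⟩ := (T.2.comap_of_injective N.subtype Subtype.coe_injective).exists_le_sylow
  have hle : (T : Subgroup G) ⊓ N ≤ (P : Subgroup N).map N.subtype := fun x hx =>
    ⟨⟨x, hx.2⟩, hP hx.1, rfl⟩
  obtain ⟨Q, hQ⟩ := (P.2.map N.subtype).exists_le_sylow
  obtain ⟨g, hg⟩ := MulAction.exists_smul_eq G Q T
  refine ⟨P, (Subgroup.eq_of_le_of_card_ge hle ?_).symm⟩
  refine Nat.card_le_card_of_injective (fun x : (P : Subgroup N).map N.subtype =>
    (⟨g * (x : G) * g⁻¹, ?_, ?_⟩ : ((T : Subgroup G) ⊓ N : Subgroup G))) ?_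
  · rw [← hg]
    exact ⟨x, hQ x.2, by simp⟩
  · exact ‹N.Normal›.conj_mem x (Subgroup.map_subtype_le _ x.2) g
  · intro x y h
    have := congrArg Subtype.val h
    exact Subtype.ext (mul_left_cancel (mul_right_cancel this))

/-- The order of an image. -/
theorem card_map_mul_card_inf {G G' : Type*} [Group G] [Group G'] (f : G →* G') (H : Subgroup G) :
    Nat.card (H.map f) * Nat.card (H ⊓ f.ker : Subgroup G) = Nat.card H := by
  have hr : (f.comp H.subtype).range = H.map f := by rw [MonoidHom.range_comp, Subgroup.range_subtype]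
  have hk : Nat.card (f.comp H.subtype).ker = Nat.card (H ⊓ f.ker : Subgroup G) :=
    Nat.card_congr
      { toFun := fun x => ⟨((x : H) : G), (x : H).2, x.2⟩
        invFun := fun x => ⟨⟨(x : G), x.2.1⟩, x.2.2⟩
        left_inv := fun x => rfl
        right_inv := fun x => rfl }
  rw [← hr, ← Subgroup.index_ker, ← hk, mul_comm, Subgroup.card_mul_index]

/-- Let `X` be a finite solvable group whose Fitting subgroup is a 2-group (equivalently `F(X) = O₂(X)`), `T` a Sylow 2-subgroup of `X`, `J(T)` the subgroup generated by the abelian subgroups of `T` of largest order, `C` the largest normal subgroup of `X` centralizing the centre `Z(T)`, and `Y` the normal closure of `J(T)` in `X`. Then `X = C · Y · N_X(J(T))`, and either `Y ≤ C`, or `CY/C` is isomorphic to a direct product of at least one copy of the symmetric group of degree 3. -/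
theorem result {X : Type*} [Group X] [Finite X]
    [Group.IsSolvable X] (hF : Cfsg.fittingSubgroup X = Cfsg.pCore 2 X) (T : Sylow 2 X) :
    ((Subgroup.centralizer (((T : Subgroup X) ⊓ Subgroup.centralizer ((T : Subgroup X) : Set X) : Subgroup X) : Set X)).normalCore
        ⊔ Subgroup.normalClosure (Cfsg.thompsonSubgroupAOf (T : Subgroup X) : Set X)
        ⊔ Subgroup.normalizer (Cfsg.thompsonSubgroupAOf (T : Subgroup X) : Set X) = ⊤) ∧
    (Subgroup.normalClosure (Cfsg.thompsonSubgroupAOf (T : Subgroup X) : Set X)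
        ≤ (Subgroup.centralizer (((T : Subgroup X) ⊓ Subgroup.centralizer ((T : Subgroup X) : Set X) : Subgroup X) : Set X)).normalCore
      ∨ ∃ n : ℕ, 1 ≤ n ∧
        Nonempty (↥(Subgroup.normalClosure (Cfsg.thompsonSubgroupAOf (T : Subgroup X) : Set X)) ⧸
            ((Subgroup.centralizer (((T : Subgroup X) ⊓ Subgroup.centralizer ((T : Subgroup X) : Set X) : Subgroup X) : Set X)).normalCore).subgroupOf
              (Subgroup.normalClosure (Cfsg.thompsonSubgroupAOf (T : Subgroup X) : Set X))
          ≃* (Fin n → Equiv.Perm (Fin 3)))) := by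
  classical
  haveI := Fact.mk Nat.prime_two
  haveI hFn := CfsgLib.Solvable.fittingSubgroup_normal X
  set Z0 : Subgroup X := (T : Subgroup X) ⊓ Subgroup.centralizer ((T : Subgroup X) : Set X) with hZ0
  set C := (Subgroup.centralizer (Z0 : Set X)).normalCore with hC
  set J := Cfsg.thompsonSubgroupAOf (T : Subgroup X) with hJ
  set Y := Subgroup.normalClosure (J : Set X) with hY
  haveI hCn : C.Normal := Subgroup.normalCore_normal _
  have hFT : Cfsg.fittingSubgroup X ≤ (T : Subgroup X) := hF ▸ CfsgLib.Solvable.pCore_le_sylow T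
  -- maximal abelian subgroups
  set MA := Cfsg.maxAbelianSubgroups (T : Subgroup X) with hMA
  have hAJ : ∀ A ∈ MA, A.map (T : Subgroup X).subtype ≤ J := fun A hA =>
    Subgroup.map_mono (le_sSup hA)
  have hmax : ∀ (B : Subgroup X), B ≤ (T : Subgroup X) → (∀ a ∈ B, ∀ b ∈ B, a * b = b * a) →
      ∀ A ∈ MA, Nat.card B ≤ Nat.card A := by
    intro B hBT hBc A hA
    rw [← Nat.card_congr (Subgroup.subgroupOfEquivOfLe hBT).toEquiv]
    exact hA.2 _ ⟨⟨fun a b => Subtype.ext (Subtype.ext (hBc _ a.2 _ b.2))⟩⟩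
  constructor
  · -- the Frattini argument
    haveI hYn : Y.Normal := Subgroup.normalClosure_normal
    obtain ⟨P, hP⟩ := exists_sylow_map_eq_inf T Y
    have hJS : J ≤ (T : Subgroup X) ⊓ Y :=
      le_inf (Subgroup.map_subtype_le _) (fun x hx => Subgroup.subset_normalClosure hx)
    have hN : Subgroup.normalizer (((P : Subgroup Y).map Y.subtype : Subgroup X) : Set X) ≤
        Subgroup.normalizer (J : Set X) := by
      intro g hg
      have hsub : J.map (MulAut.conj g).toMonoidHom ≤ J := by
        rw [Subgroup.map_le_iff_le_comap, hJ, Cfsg.thompsonSubgroupAOf, Subgroup.map_le_iff_le_comap,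
          Cfsg.thompsonSubgroupA]
        refine sSup_le fun A hA => ?_
        have hcT : (A.map (T : Subgroup X).subtype).map (MulAut.conj g).toMonoidHom ≤ (T : Subgroup X) := by
          rintro _ ⟨a, ha, rfl⟩
          have h1 := (Subgroup.mem_normalizer_iff.1 hg a).1 (hP.symm ▸ hJS (hAJ A hA ha))
          rw [hP] at h1
          exact h1.1
        set B := ((A.map (T : Subgroup X).subtype).map (MulAut.conj g).toMonoidHom).subgroupOf (T : Subgroup X)
          with hB
        have hBc : Nat.card B = Nat.card A := by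
          rw [hB, Nat.card_congr (Subgroup.subgroupOfEquivOfLe hcT).toEquiv,
            Subgroup.card_map_of_injective (MulEquiv.injective _),
            Subgroup.card_map_of_injective Subtype.coe_injective]
        have hBmem : B ∈ MA := by
          refine ⟨⟨⟨fun x y => Subtype.ext (Subtype.ext ?_)⟩⟩, fun B' hB' => hBc ▸ hA.2 B' hB'⟩
          obtain ⟨_, ⟨a, ha, rfl⟩, hax⟩ := x.2
          obtain ⟨_, ⟨b, hb, rfl⟩, hby⟩ := y.2
          show ((x : (T : Subgroup X)) : X) * ((y : (T : Subgroup X)) : X) =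
            ((y : (T : Subgroup X)) : X) * ((x : (T : Subgroup X)) : X)
          rw [show ((x : (T : Subgroup X)) : X) = _ from hax.symm, show ((y : (T : Subgroup X)) : X) = _ from hby.symm,
            ]
          simpa only [map_mul] using congrArg (fun t => (MulAut.conj g).toMonoidHom ((T : Subgroup X).subtype t))
            (show a * b = b * a from congrArg Subtype.val (hA.1.is_comm.comm ⟨a, ha⟩ ⟨b, hb⟩))
        intro a ha
        exact hAJ B hBmem ⟨⟨_, hcT ⟨_, ⟨a, ha, rfl⟩, rfl⟩⟩, ⟨_, ⟨a, ha, rfl⟩, rfl⟩, rfl⟩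
      have heq : J.map (MulAut.conj g).toMonoidHom = J := Subgroup.eq_of_le_of_card_ge hsub
        (Subgroup.card_map_of_injective (MulEquiv.injective _)).ge
      rw [Subgroup.mem_normalizer_iff]
      intro h
      constructor
      · exact fun hh => heq ▸ ⟨h, hh, rfl⟩
      · intro hh
        obtain ⟨h', hh', he⟩ := heq.symm.le hh
        have : h' = h := (MulAut.conj g).injective he
        exact this ▸ hh'
    have h1 := Sylow.normalizer_sup_eq_top P
    rw [eq_top_iff, ← h1]
    exact sup_le (hN.trans le_sup_right) (le_sup_right.trans le_sup_left)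
  -- the module
  set F := Cfsg.fittingSubgroup X with hFdef
  have hZ0F : Z0 ≤ F := fun z hz => CfsgLib.Solvable.centralizer_fittingSubgroup_le
    (Subgroup.mem_centralizer_iff.2 fun f hf => Subgroup.mem_centralizer_iff.1 hz.2 f (hFT hf))
  set V0 := Subgroup.normalClosure (Z0 : Set X) with hV0
  haveI hV0n : V0.Normal := Subgroup.normalClosure_normal
  have hV0Z : V0 ≤ F ⊓ Subgroup.centralizer (F : Set X) := Subgroup.normalClosure_le_normal fun z hz =>
    ⟨hZ0F hz, Subgroup.mem_centralizer_iff.2 fun f hf => Subgroup.mem_centralizer_iff.1 hz.2 f (hFT hf)⟩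
  have hV0c : ∀ a ∈ V0, ∀ b ∈ V0, a * b = b * a := fun a ha b hb =>
    (Subgroup.mem_centralizer_iff.1 (hV0Z ha).2 b (hV0Z hb).1).symm
  let V : Subgroup X :=
    { carrier := {v | v ∈ V0 ∧ v ^ 2 = 1}
      one_mem' := ⟨V0.one_mem, one_pow 2⟩
      mul_mem' := fun {a b} ha hb => ⟨V0.mul_mem ha.1 hb.1, by
        rw [(show Commute a b from hV0c a ha.1 b hb.1).mul_pow, ha.2, hb.2, one_mul]⟩
      inv_mem' := fun {a} ha => ⟨V0.inv_mem ha.1, by rw [inv_pow, ha.2, inv_one]⟩ }
  haveI hVn : V.Normal := ⟨fun v hv g => ⟨hV0n.conj_mem v hv.1 g, by rw [conj_pow, hv.2, mul_one, mul_inv_cancel]⟩⟩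
  have hVT : V ≤ (T : Subgroup X) := fun v hv => hFT (hV0Z hv.1).1
  have hCV0 : C = Subgroup.centralizer (V0 : Set X) := by
    apply le_antisymm
    · rw [Subgroup.le_centralizer_iff]
      refine Subgroup.normalClosure_le_normal fun z hz => ?_
      exact Subgroup.mem_centralizer_iff.2 fun c hc =>
        (Subgroup.mem_centralizer_iff.1 (Subgroup.normalCore_le _ hc) z hz).symm
    · exact Subgroup.normal_le_normalCore.2 (Subgroup.centralizer_le fun z hz => Subgroup.subset_normalClosure hz)
  have hsplit : ∀ (g : X), ∃ k : ℕ, Odd (orderOf (g ^ 2 ^ k)) := by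
    intro g
    obtain ⟨k, m, hm, hk⟩ := Nat.exists_eq_two_pow_mul_odd (orderOf_pos g).ne'
    refine ⟨k, ?_⟩
    rw [orderOf_pow_of_dvd (pow_ne_zero _ (by norm_num)) ⟨m, hk⟩, hk, Nat.mul_div_cancel_left _ (by positivity)]
    exact hm
  have hT2 : IsPGroup 2 (T : Subgroup X) := T.2
  -- two-groups modulo `C`
  have hR : ∀ R : Subgroup X, R.Normal → C ≤ R → (∀ g ∈ R, ∃ k : ℕ, g ^ 2 ^ k ∈ C) → R ≤ C := by
    intro R hRn hCR hR2
    refine Subgroup.normal_le_normalCore.2 ?_
    obtain ⟨P, hP⟩ := exists_sylow_map_eq_inf T R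
    set W := Subgroup.centralizer (Z0 : Set X)
    have hPW : (P : Subgroup R).map R.subtype ≤ W := by
      rw [hP]
      exact fun x hx => Subgroup.mem_centralizer_iff.2 fun z hz =>
        (Subgroup.mem_centralizer_iff.1 hz.2 x hx.1).symm
    have htop : W.subgroupOf R = ⊤ := by
      rw [← Subgroup.index_eq_one]
      have h2 : ¬ 2 ∣ (W.subgroupOf R).index := fun h => P.not_dvd_index
        (h.trans (Subgroup.index_dvd_of_le fun x hx => hPW ⟨x, hx, rfl⟩))
      set CR := C.subgroupOf R with hCRdef
      have h3 : ∃ j, CR.index = 2 ^ j := by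
        have hq : IsPGroup 2 (R ⧸ CR) := by
          intro x
          obtain ⟨g, rfl⟩ := QuotientGroup.mk_surjective x
          obtain ⟨k, hk⟩ := hR2 g g.2
          refine ⟨k, ?_⟩
          rw [← QuotientGroup.mk_pow, QuotientGroup.eq_one_iff]
          exact hk
        exact IsPGroup.iff_card.1 hq
      obtain ⟨j, hj⟩ := h3
      have h4 : (W.subgroupOf R).index ∣ 2 ^ j := hj ▸ Subgroup.index_dvd_of_le
        (fun x hx => (Subgroup.normalCore_le W hx : (x : X) ∈ W))
      obtain ⟨i, -, hi⟩ := (Nat.dvd_prime_pow Nat.prime_two).1 h4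
      rcases Nat.eq_zero_or_pos i with rfl | hi0
      · exact hi
      · exact absurd (hi ▸ dvd_pow_self 2 hi0.ne') h2
    exact Subgroup.subgroupOf_eq_top.1 htop
  have hCV : Subgroup.centralizer (V : Set X) = C := by
    apply le_antisymm
    · refine hR _ inferInstance ?_ fun g hg => ?_
      · rw [hCV0]; exact Subgroup.centralizer_le fun v hv => hv.1
      · obtain ⟨k, hk⟩ := hsplit g
        refine ⟨k, ?_⟩
        set h := g ^ 2 ^ k with hh
        have hhV : h ∈ Subgroup.centralizer (V : Set X) := Subgroup.pow_mem _ hg _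
        rw [hCV0, Subgroup.mem_centralizer_iff]
        have key : ∀ j : ℕ, ∀ v ∈ V0, v ^ 2 ^ j = 1 → v * h = h * v := by
          intro j
          induction j with
          | zero => intro v _ hv1; rw [pow_zero, pow_one] at hv1; rw [hv1, one_mul, mul_one]
          | succ j ih =>
            intro v hv hv1
            have h1 := ih (v ^ 2) (V0.pow_mem hv 2) (by rw [← pow_mul, ← pow_succ', hv1])
            set u := v⁻¹ * (h * v * h⁻¹) with hu
            have hu0 : u ∈ V0 := V0.mul_mem (V0.inv_mem hv) (hV0n.conj_mem v hv h)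
            have hu2 : u ^ 2 = 1 := by
              rw [hu, (show Commute v⁻¹ (h * v * h⁻¹) from hV0c _ (V0.inv_mem hv) _ (hV0n.conj_mem v hv h)).mul_pow,
                conj_pow, ← h1]
              group
            have hhu : u * h = h * u := Subgroup.mem_centralizer_iff.1 hhV u ⟨hu0, hu2⟩
            have hi : ∀ i : ℕ, h ^ i * v * (h ^ i)⁻¹ = v * u ^ i := by
              intro i
              induction i with
              | zero => simp
              | succ i ihi =>
                calc h ^ (i + 1) * v * (h ^ (i + 1))⁻¹ = h * (h ^ i * v * (h ^ i)⁻¹) * h⁻¹ := by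
                      rw [pow_succ']; group
                  _ = (h * v * h⁻¹) * (h * u ^ i * h⁻¹) := by rw [ihi]; group
                  _ = v * u * u ^ i := by
                      rw [((show Commute h u from hhu.symm).pow_right i).eq, mul_inv_cancel_right, hu,
                        mul_inv_cancel_left]
                  _ = v * u ^ (i + 1) := by rw [pow_succ', mul_assoc]
            have h2 := hi (orderOf h)
            obtain ⟨m, hm⟩ := hk
            rw [pow_orderOf_eq_one, one_mul, inv_one, mul_one, hm, pow_succ, pow_mul, hu2, one_pow, one_mul,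
              left_eq_mul] at h2
            rw [hu, inv_mul_eq_one, eq_mul_inv_iff_mul_eq] at h2
            exact h2
        intro v hv
        obtain ⟨j, hj⟩ := hT2 ⟨v, hFT (hV0Z hv).1⟩
        exact key j v hv (congrArg Subtype.val hj)
    · rw [hCV0]; exact Subgroup.centralizer_le fun v hv => hv.1
  -- the representation
  letI : CommGroup V := { (inferInstance : Group V) with
    mul_comm := fun a b => Subtype.ext (hV0c a a.2.1 b b.2.1) }
  haveI : Module (ZMod 2) (Additive V) := AddCommGroup.zmodModule fun x => by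
    apply Additive.toMul.injective
    rw [toMul_nsmul, toMul_zero]
    exact Subtype.ext x.toMul.2.2
  haveI : Finite (Additive V) := inferInstanceAs (Finite V)
  let f0 : X → Module.End (ZMod 2) (Additive V) := fun g =>
    (MonoidHom.toAdditive (MulAut.conjNormal (H := V) g).toMonoidHom).toZModLinearMap 2
  have hf1 : f0 1 = 1 := by
    apply LinearMap.ext; intro v
    apply Additive.toMul.injective
    show MulAut.conjNormal (H := V) (1 : X) v.toMul = v.toMul
    rw [map_one]; rfl
  have hfm : ∀ g h : X, f0 (g * h) = f0 g * f0 h := fun g h => by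
    apply LinearMap.ext; intro v
    apply Additive.toMul.injective
    show MulAut.conjNormal (H := V) (g * h) v.toMul = MulAut.conjNormal g (MulAut.conjNormal h v.toMul)
    rw [map_mul]; rfl
  let ρ0 : X →* Module.End (ZMod 2) (Additive V) := { toFun := f0, map_one' := hf1, map_mul' := hfm }
  have hρ0 : ∀ (g : X) (v : Additive V), ρ0 g v = v ↔ g * ((v.toMul : V) : X) = (v.toMul : V) * g := by
    intro g v
    rw [← Additive.toMul.injective.eq_iff, Subtype.ext_iff,
      show (((ρ0 g v).toMul : V) : X) = g * (v.toMul : V) * g⁻¹ from MulAut.conjNormal_apply g v.toMul,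
      mul_inv_eq_iff_eq_mul]
  have hone : ∀ g, ρ0 g = 1 ↔ g ∈ C := by
    intro g
    rw [← hCV, Subgroup.mem_centralizer_iff]
    constructor
    · intro h v hv
      exact ((hρ0 g (Additive.ofMul ⟨v, hv⟩)).1 (by rw [h]; rfl)).symm
    · intro h
      exact LinearMap.ext fun v => (hρ0 g v).2 (h _ v.toMul.2).symm
  set π := QuotientGroup.mk' C with hπ
  have hπs : Function.Surjective π := QuotientGroup.mk'_surjective C
  have hker : π.ker = C := QuotientGroup.ker_mk' C
  let ρ : Representation (ZMod 2) (X ⧸ C) (Additive V) := QuotientGroup.lift C ρ0 fun g hg => (hone g).2 hg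
  have hρ : Function.Injective ρ := by
    intro a b h
    obtain ⟨a, rfl⟩ := hπs a
    obtain ⟨b, rfl⟩ := hπs b
    have h' : ρ0 a = ρ0 b := h
    show QuotientGroup.mk' C a = QuotientGroup.mk' C b
    rw [QuotientGroup.mk'_apply, QuotientGroup.mk'_apply, QuotientGroup.eq, ← hone, map_mul, ← h', ← map_mul,
      inv_mul_cancel, map_one]
  haveI : Group.IsSolvable (X ⧸ C) := Group.isSolvable_of_surjective hπs
  have hO2 : Cfsg.pCore 2 (X ⧸ C) = ⊥ := by
    haveI := CfsgLib.Solvable.pCore_normal 2 (X ⧸ C)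
    set R := (Cfsg.pCore 2 (X ⧸ C)).comap π with hRdef
    have hle : R ≤ C := hR R (Subgroup.Normal.comap inferInstance π)
      (fun c hc => by
        rw [hRdef, Subgroup.mem_comap, show π c = 1 from (QuotientGroup.eq_one_iff c).2 hc]
        exact one_mem _)
      fun g hg => by
        obtain ⟨k, hk⟩ := (CfsgLib.Solvable.pCore_isPGroup 2 (X ⧸ C)) ⟨π g, hg⟩
        exact ⟨k, (QuotientGroup.eq_one_iff _).1 (congrArg Subtype.val hk)⟩
    rw [← Subgroup.map_comap_eq_self_of_surjective hπs (Cfsg.pCore 2 (X ⧸ C)), eq_bot_iff, ← hRdef]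
    rintro _ ⟨x, hx, rfl⟩
    exact Subgroup.mem_bot.2 ((QuotientGroup.eq_one_iff x).2 (hle hx))
  -- the offenders
  have hoff : ∀ A ∈ MA, (A.map (T : Subgroup X).subtype).map π ≤
      Subgroup.closure {d | d ∈ (A.map (T : Subgroup X).subtype).map π ∧ IsTv ρ d} := by
    intro A hA
    set A' := A.map (T : Subgroup X).subtype with hA'
    have hA'T : A' ≤ (T : Subgroup X) := Subgroup.map_subtype_le _
    have hA'c : ∀ a ∈ A', ∀ b ∈ A', a * b = b * a := by
      rintro _ ⟨a, ha, rfl⟩ _ ⟨b, hb, rfl⟩
      rw [← map_mul, ← map_mul]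
      exact congrArg _ (congrArg Subtype.val (hA.1.is_comm.comm ⟨a, ha⟩ ⟨b, hb⟩))
    have hA'card : Nat.card A' = Nat.card A := Subgroup.card_map_of_injective Subtype.coe_injective
    refine offender_le_closure ρ hρ hO2 ((hT2.to_le hA'T).map π) ?_ ?_
    · rintro _ ⟨a, ha, rfl⟩ _ ⟨b, hb, rfl⟩
      rw [← map_mul, ← map_mul, hA'c a ha b hb]
    intro B hB
    have hfix : ∀ B0 : Subgroup X, Nat.card (fixSub ρ (B0.map π)) =
        Nat.card (V ⊓ Subgroup.centralizer (B0 : Set X) : Subgroup X) := by
      intro B0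
      refine Nat.card_congr
        { toFun := fun z => ⟨((z : Additive V).toMul : V), ((z : Additive V).toMul).2,
            Subgroup.mem_centralizer_iff.2 fun b hb => (hρ0 b _).1 (z.2 (π b) ⟨b, hb, rfl⟩)⟩
          invFun := fun x => ⟨Additive.ofMul ⟨(x : X), x.2.1⟩, ?_⟩
          left_inv := fun z => rfl
          right_inv := fun x => rfl }
      rintro _ ⟨b, hb, rfl⟩
      exact (hρ0 b _).2 (Subgroup.mem_centralizer_iff.1 x.2.2 b hb)
    set B0 := A' ⊓ B.comap π with hB0
    have hB0map : B0.map π = B := by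
      refine le_antisymm ((Subgroup.map_mono inf_le_right).trans (Subgroup.map_comap_le _ _)) fun x hx => ?_
      obtain ⟨a, ha, rfl⟩ := hB hx
      exact ⟨a, ⟨ha, hx⟩, rfl⟩
    have hCB : A' ⊓ π.ker ≤ B0 := fun x hx => ⟨hx.1, by
      show π x ∈ B
      rw [MonoidHom.mem_ker.1 hx.2]; exact one_mem _⟩
    have hkerB : B0 ⊓ π.ker = A' ⊓ π.ker :=
      le_antisymm (inf_le_inf_right _ inf_le_left) (le_inf hCB inf_le_right)
    set U := V ⊓ Subgroup.centralizer (B0 : Set X) with hU
    have hnorm : B0 ≤ Subgroup.normalizer (U : Set X) :=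
      (Subgroup.le_centralizer_iff.1 inf_le_right : B0 ≤ Subgroup.centralizer (U : Set X)).trans
        (Subgroup.centralizer_le_normalizer _)
    have h1 := CfsgLib.PLoc.card_sup_mul_card_inf hnorm
    have hUU : U ≤ Subgroup.centralizer (U : Set X) := fun u hu =>
      Subgroup.mem_centralizer_iff.2 fun u' hu' => hV0c u' hu'.1.1 u hu.1.1
    have hBB : B0 ≤ Subgroup.centralizer (B0 : Set X) := fun b hb =>
      Subgroup.mem_centralizer_iff.2 fun b' hb' => hA'c b' hb'.1 b hb.1
    have hS : B0 ⊔ U ≤ Subgroup.centralizer ((B0 ⊔ U : Subgroup X) : Set X) := by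
      refine sup_le ?_ ?_ <;> rw [Subgroup.le_centralizer_iff] <;> refine sup_le ?_ ?_
      · exact hBB
      · exact inf_le_right
      · exact Subgroup.le_centralizer_iff.1 inf_le_right
      · exact hUU
    have h2 := hmax (B0 ⊔ U) (sup_le (inf_le_left.trans hA'T) (inf_le_left.trans hVT))
      (fun a ha b hb => Subgroup.mem_centralizer_iff.1 (hS hb) a ha) A hA
    rw [← hA'card] at h2
    have h3 : Nat.card ↥(B0 ⊓ U) ≤ Nat.card ↥(V ⊓ Subgroup.centralizer (A' : Set X)) :=
      Subgroup.card_le_of_le fun x hx => ⟨hx.2.1, Subgroup.mem_centralizer_iff.2 fun a ha => hA'c a ha x hx.1.1⟩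
    have h4 : Nat.card B0 * Nat.card U ≤ Nat.card A' * Nat.card ↥(V ⊓ Subgroup.centralizer (A' : Set X)) := by
      rw [← h1]; exact Nat.mul_le_mul h2 h3
    rw [← card_map_mul_card_inf π B0, ← card_map_mul_card_inf π A', hkerB] at h4
    refine Nat.le_of_mul_le_mul_right (c := Nat.card ↥(A' ⊓ π.ker)) ?_ Nat.card_pos
    unfold meas
    rw [← hB0map, hfix B0, hfix A']
    calc _ = Nat.card ↥(B0.map π) * Nat.card ↥(A' ⊓ π.ker) * Nat.card U := by ring
      _ ≤ _ := h4
      _ = _ := by ring
  -- the transvections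
  haveI hYn : Y.Normal := Subgroup.normalClosure_normal
  set D : Set (X ⧸ C) := {d | ∃ g : X ⧸ C, ∃ d0 ∈ J.map π, IsTv ρ d0 ∧ d = g * d0 * g⁻¹} with hD
  have hDconj : ∀ g : X ⧸ C, ∀ d ∈ D, g * d * g⁻¹ ∈ D := by
    rintro g _ ⟨h, d0, hd0, htv, rfl⟩
    exact ⟨g * h, d0, hd0, htv, by group⟩
  have hDtv : ∀ d ∈ D, IsTv ρ d := by
    rintro _ ⟨h, d0, -, htv, rfl⟩
    exact htv.conj h
  haveI hLn : (Subgroup.closure D).Normal := by
    refine ⟨fun x hx g => ?_⟩
    have hle : Subgroup.closure D ≤ (Subgroup.closure D).comap (MulAut.conj g).toMonoidHom := by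
      rw [Subgroup.closure_le]
      exact fun d hd => Subgroup.subset_closure (hDconj g d hd)
    exact hle hx
  have hYD : Y.map π = Subgroup.closure D := by
    apply le_antisymm
    · rw [Subgroup.map_le_iff_le_comap]
      refine Subgroup.normalClosure_le_normal ?_
      show J ≤ (Subgroup.closure D).comap π
      rw [hJ, Cfsg.thompsonSubgroupAOf, Subgroup.map_le_iff_le_comap, Cfsg.thompsonSubgroupA]
      refine sSup_le fun A hA => ?_
      rw [← Subgroup.map_le_iff_le_comap, ← Subgroup.map_le_iff_le_comap]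
      refine (hoff A hA).trans (Subgroup.closure_mono fun d hd => ⟨1, d, Subgroup.map_mono (hAJ A hA) hd.1, hd.2, by
        rw [one_mul, inv_one, mul_one]⟩)
    · rw [Subgroup.closure_le]
      rintro _ ⟨h, _, ⟨j, hj, rfl⟩, -, rfl⟩
      exact (hYn.map π hπs).conj_mem _ ⟨j, Subgroup.subset_normalClosure hj, rfl⟩ h
  by_cases hne : D.Nonempty
  · obtain ⟨n, hn, ⟨e⟩⟩ := closure_equiv_pi_perm hρ hO2 D hDtv hDconj hne
    refine Or.inr ⟨n, hn, ⟨?_⟩⟩
    have hrange : (π.comp Y.subtype).range = Subgroup.closure D := by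
      rw [MonoidHom.range_comp, Subgroup.range_subtype, hYD]
    have hk : C.subgroupOf Y = (π.comp Y.subtype).ker := by
      rw [← MonoidHom.comap_ker, hker]; rfl
    exact (QuotientGroup.quotientMulEquivOfEq hk).trans
      ((QuotientGroup.quotientKerEquivRange _).trans ((MulEquiv.subgroupCongr hrange).trans e))
  · left
    rw [Set.not_nonempty_iff_eq_empty] at hne
    rw [hne, Subgroup.closure_empty, Subgroup.map_eq_bot_iff, hker] at hYD
    exact hYD

end Cfsg.Agent.S4302
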