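import Mathlib
import Cfsg.Agent.S4341
import Cfsg.Agent.Lib.Solvable.CoprimeAction

import Cfsg.Statements.S4303

set_option autoImplicit false
universe u
open Cfsg

namespace Cfsg.Agent.S4303

open scoped Pointwise

/-- Factors allowed in the decomposition. -/
def Good (p : ℕ) (n : ℕ) : Prop :=
  ∃ l : List ℕ, l.prod = n ∧ ∀ m ∈ l, (IsPrimePow m ∧ m % p = 1) ∨
    ∃ (S : Type u) (_ : Group S) (_ : Finite S), IsSimpleGroup S ∧ m = Nat.card (Sylow p S)

theorem good_one (p : ℕ) : Good.{u} p 1 := ⟨[], rfl, by simp⟩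

theorem good_mul {p a b : ℕ} (ha : Good.{u} p a) (hb : Good.{u} p b) : Good.{u} p (a * b) := by
  obtain ⟨l, hl, hl'⟩ := ha
  obtain ⟨m, hm, hm'⟩ := hb
  exact ⟨l ++ m, by rw [List.prod_append, hl, hm], fun x hx => (List.mem_append.1 hx).elim (hl' x) (hm' x)⟩

theorem good_of_factorization {p : ℕ} (hp : p.Prime) (n : ℕ) (hn : n ≠ 0)
    (h : ∀ q : ℕ, q.Prime → q ^ n.factorization q % p = 1) : Good.{u} p n := by
  induction n using Nat.recOnPrimePow with
  | zero => exact absurd rfl hn
  | one => exact good_one p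
  | prime_pow_mul a q k hq hqa hk ih =>
    have ha : a ≠ 0 := fun h => hn (by simp [h])
    have hf : (q ^ k * a).factorization = Finsupp.single q k + a.factorization := by
      rw [Nat.factorization_mul (pow_ne_zero _ hq.ne_zero) ha, hq.factorization_pow]
    refine good_mul ⟨[q ^ k], by simp, fun m hm => Or.inl ?_⟩ (ih ha fun r hr => ?_)
    · simp only [List.mem_singleton] at hm
      subst hm
      refine ⟨(hq.prime.isPrimePow).pow hk.ne', ?_⟩
      have := h q hq
      rwa [hf, Finsupp.add_apply, Finsupp.single_eq_same, Nat.factorization_eq_zero_of_not_dvd hqa,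
        add_zero] at this
    · by_cases hrq : r = q
      · rw [hrq, Nat.factorization_eq_zero_of_not_dvd hqa, pow_zero, Nat.one_mod_eq_one]
        exact hp.ne_one
      · have := h r hr
        rwa [hf, Finsupp.add_apply, Finsupp.single_eq_of_ne hrq, zero_add] at this

/-- Sylow numbers are invariant under isomorphism. -/
theorem card_sylow_congr {G H : Type*} [Group G] [Finite G] [Group H] [Finite H] {p : ℕ} [Fact p.Prime]
    (e : G ≃* H) : Nat.card (Sylow p G) = Nat.card (Sylow p H) := by
  obtain ⟨P⟩ := (inferInstance : Nonempty (Sylow p G))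
  rw [P.card_eq_index_normalizer,
    (P.mapSurjective (f := e.toMonoidHom) e.surjective).card_eq_index_normalizer]
  show _ = (Subgroup.normalizer (((P : Subgroup G).map e.toMonoidHom : Subgroup H) : Set H)).index
  rw [← Subgroup.map_normalizer_eq_of_bijective _ (f := e.toMonoidHom) e.bijective,
    Subgroup.index_map_of_bijective (f := e.toMonoidHom) e.bijective]
  rfl

/-- The Sylow number when there is a normal complement. -/
theorem good_of_complement {G : Type u} [Group G] [Finite G] {p : ℕ} [hp : Fact p.Prime] (P : Sylow p G)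
    (K : Subgroup G) [hK : K.Normal] (hPK : (P : Subgroup G) ⊓ K = ⊥) (htop : (P : Subgroup G) ⊔ K = ⊤)
    (hcop : (Nat.card (P : Subgroup G)).Coprime (Nat.card K)) : Good.{u} p (Nat.card (Sylow p G)) := by
  set NP := Subgroup.normalizer ((P : Subgroup G) : Set G) with hNP
  have hindex : ∀ Q : Subgroup G, (P : Subgroup G) ≤ Subgroup.normalizer (Q : Set G) →
      Nat.card (Sylow p ↥((P : Subgroup G) ⊔ Q)) = NP.relIndex Q := by
    intro Q hQ
    rw [Cfsg.Agent.S4341.card_sylow_relIndex _ (P.subtype (le_sup_left : (P : Subgroup G) ≤ (P : Subgroup G) ⊔ Q)),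
      Sylow.coe_subtype, Subgroup.map_subgroupOf_eq_of_le le_sup_left]
    apply Cfsg.Agent.S4341.relIndex_eq_of_forall_exists le_sup_right
    intro b hb
    rw [← SetLike.mem_coe, Subgroup.coe_mul_of_left_le_normalizer_right _ _ hQ] at hb
    obtain ⟨a, ha, c, hc, rfl⟩ := hb
    refine ⟨a * c * a⁻¹, (Subgroup.mem_normalizer_iff.1 (hQ ha) c).1 hc, ?_⟩
    have e : (a * c * a⁻¹)⁻¹ * (a * c) = a := by group
    show (a * c * a⁻¹)⁻¹ * (a * c) ∈ _
    rw [e]
    exact Subgroup.le_normalizer ha
  have hKn : (P : Subgroup G) ≤ Subgroup.normalizer (K : Set G) := by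
    rw [Subgroup.normalizer_eq_top]; exact le_top
  have hn : Nat.card (Sylow p G) = NP.relIndex K := by
    rw [← hindex K hKn, htop]
    exact card_sylow_congr Subgroup.topEquiv.symm
  rw [hn]
  refine good_of_factorization hp.out _ (NP.subgroupOf K).index_ne_zero_of_finite fun q hq => ?_
  haveI : Fact q.Prime := ⟨hq⟩
  set C := NP ⊓ K with hC
  have hcomm : ∀ a ∈ (P : Subgroup G), ∀ c ∈ C, a * c = c * a := by
    intro a ha c hc
    have h1 : a * c * a⁻¹ * c⁻¹ ∈ (P : Subgroup G) ⊓ K := by
      refine ⟨?_, K.mul_mem (hK.conj_mem c hc.2 a) (K.inv_mem hc.2)⟩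
      have e : a * c * a⁻¹ * c⁻¹ = a * (c * a⁻¹ * c⁻¹) := by group
      show a * c * a⁻¹ * c⁻¹ ∈ (P : Subgroup G)
      rw [e]
      exact mul_mem ha ((Subgroup.mem_normalizer_iff.1 hc.1 a⁻¹).1 (inv_mem ha))
    rw [hPK, Subgroup.mem_bot, mul_inv_eq_one, mul_inv_eq_iff_eq_mul] at h1
    exact h1
  obtain ⟨R⟩ := (inferInstance : Nonempty (Sylow q C))
  have hPsolv : Group.IsSolvable (P : Subgroup G) := by
    have := P.isPGroup'.isNilpotent
    infer_instance
  set U := (R : Subgroup C).map C.subtype with hU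
  have hUC : U ≤ C := Subgroup.map_subtype_le _
  have hUA : (P : Subgroup G) ≤ Subgroup.normalizer (U : Set G) := by
    intro a ha
    rw [Subgroup.mem_normalizer_iff]
    intro u
    constructor
    · intro hu
      rw [hcomm a ha u (hUC hu), mul_assoc, mul_inv_cancel, mul_one]
      exact hu
    · intro hu
      have := hcomm a⁻¹ (inv_mem ha) _ (hUC hu)
      have e : u = a⁻¹ * (a * u * a⁻¹) * a := by group
      rw [e, this, mul_assoc, inv_mul_cancel, mul_one]
      exact hu
  obtain ⟨Q, hUQ, hQn⟩ := CfsgLib.Solvable.exists_invariant_sylow_ge hKn hcop (Or.inl hPsolv) q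
    (hUC.trans inf_le_right) (R.isPGroup'.map _) hUA
  set Q' := (Q : Subgroup K).map K.subtype with hQ'
  have hQK : Q' ≤ K := Subgroup.map_subtype_le _
  have hUeq : NP ⊓ Q' = U := by
    apply le_antisymm _ (le_inf (hUC.trans inf_le_left) hUQ)
    have hle : NP ⊓ Q' ≤ C := inf_le_inf_left _ hQK
    have h1 : (R : Subgroup C) ≤ (NP ⊓ Q').subgroupOf C := fun r hr =>
      Subgroup.mem_inf.2 ⟨(r.2 : (r : G) ∈ C).1, hUQ (Subgroup.mem_map_of_mem _ hr)⟩
    have hp' : IsPGroup q ↥((NP ⊓ Q').subgroupOf C) :=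
      ((Q.isPGroup'.map K.subtype).to_le inf_le_right).of_equiv (Subgroup.subgroupOfEquivOfLe hle).symm
    have h2 := R.is_maximal' hp' h1
    intro x hx
    have : (⟨x, hle hx⟩ : C) ∈ (R : Subgroup C) := by rw [← h2]; exact hx
    exact ⟨_, this, rfl⟩
  have hcardU : Nat.card U = q ^ (Nat.card C).factorization q := by
    rw [hU, Subgroup.card_subtype]; exact R.card_eq_multiplicity
  have hcardQ : Nat.card Q' = q ^ (Nat.card K).factorization q := by
    rw [hQ', Subgroup.card_subtype]; exact Q.card_eq_multiplicity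
  have hmulK : Nat.card C * NP.relIndex K = Nat.card K := by
    rw [hC, ← Subgroup.relIndex_bot_left, ← Subgroup.inf_relIndex_right NP K,
      Subgroup.relIndex_mul_relIndex _ _ _ bot_le inf_le_right, Subgroup.relIndex_bot_left]
  have hmulQ : Nat.card U * NP.relIndex Q' = Nat.card Q' := by
    rw [← hUeq, ← Subgroup.relIndex_bot_left, ← Subgroup.inf_relIndex_right NP Q',
      Subgroup.relIndex_mul_relIndex _ _ _ bot_le inf_le_right, Subgroup.relIndex_bot_left]
  have hfac : (Nat.card K).factorization q = (Nat.card C).factorization q + (NP.relIndex K).factorization q := by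
    rw [← hmulK, Nat.factorization_mul Nat.card_pos.ne' (show NP.relIndex K ≠ 0 from (NP.subgroupOf K).index_ne_zero_of_finite),
      Finsupp.add_apply]
  rw [hcardU, hcardQ, hfac, pow_add] at hmulQ
  have hX := Nat.eq_of_mul_eq_mul_left (pow_pos hq.pos _) hmulQ
  rw [← hX, ← hindex Q' hQn]
  rw [show Nat.card (Sylow p ↥((P : Subgroup G) ⊔ Q')) % p = 1 % p from card_sylow_modEq_one p _]
  exact Nat.one_mod_eq_one.2 hp.out.ne_one

theorem good_sylow (n : ℕ) : ∀ (G : Type u) [Group G] [Finite G] (p : ℕ) [Fact p.Prime],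
    Nat.card G = n → Good.{u} p (Nat.card (Sylow p G)) := by
  induction n using Nat.strong_induction_on with
  | _ n ih =>
    intro G _ _ p hp hn
    rcases subsingleton_or_nontrivial G with h | h
    · have : Subsingleton (Sylow p G) := ⟨fun A B => Sylow.ext (Subsingleton.elim _ _)⟩
      rw [Nat.card_unique]
      exact good_one p
    by_cases hs : IsSimpleGroup G
    · refine ⟨[Nat.card (Sylow p G)], by simp, fun m hm => Or.inr ?_⟩
      simp only [List.mem_singleton] at hm
      exact ⟨G, inferInstance, inferInstance, hs, hm⟩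
    obtain ⟨K, hKn, hK1, hK2⟩ : ∃ K : Subgroup G, K.Normal ∧ K ≠ ⊥ ∧ K ≠ ⊤ := by
      by_contra hc
      push Not at hc
      exact hs ⟨fun H hH => (eq_or_ne H ⊥).imp id (hc H hH)⟩
    obtain ⟨P⟩ := (inferInstance : Nonempty (Sylow p G))
    set N := ((P : Subgroup G) ⊔ K) ⊓
      Subgroup.normalizer (((P : Subgroup G) ⊓ K : Subgroup G) : Set G) with hN
    set D := (P : Subgroup G) ⊓ K with hD
    have hnD : (D.subgroupOf N).Normal := Subgroup.normal_subgroupOf_of_le_normalizer inf_le_right
    have hK1' : 1 < Nat.card K := (Subgroup.one_lt_card_iff_ne_bot K).2 hK1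
    have hlt1 : Nat.card (G ⧸ K) < n := by
      have := Subgroup.card_eq_card_quotient_mul_card_subgroup K
      have h1 : 0 < Nat.card (G ⧸ K) := Nat.card_pos
      rw [hn] at this
      nlinarith
    have hlt2 : Nat.card K < n := by
      rw [← hn]
      refine lt_of_le_of_ne (Nat.card_le_card_of_injective _ Subtype.coe_injective) fun h => hK2 ?_
      exact Subgroup.eq_top_of_card_eq _ h
    rw [S4341.result p K P N hN]
    refine good_mul (good_mul (ih _ hlt1 _ p rfl) (ih _ hlt2 _ p rfl)) ?_
    by_cases hcase : Nat.card (N ⧸ D.subgroupOf N) < n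
    · exact ih _ hcase _ p rfl
    have h1 := Subgroup.card_eq_card_quotient_mul_card_subgroup (D.subgroupOf N)
    have h2 : Nat.card N ≤ n := hn ▸ Nat.card_le_card_of_injective _ Subtype.coe_injective
    have h3 : 0 < Nat.card (D.subgroupOf N) := Nat.card_pos
    have h4 : 0 < Nat.card (N ⧸ D.subgroupOf N) := Nat.card_pos
    have hNtop : N = ⊤ := Subgroup.eq_top_of_le_card _ (by rw [hn]; nlinarith)
    have hd1 : Nat.card (D.subgroupOf N) = 1 := by nlinarith
    have hDbot : D = ⊥ := by
      rw [Subgroup.card_eq_one, Subgroup.subgroupOf_eq_bot, hNtop] at hd1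
      simpa using hd1
    have e : ↥N ⧸ D.subgroupOf N ≃* G :=
      ((QuotientGroup.quotientMulEquivOfEq (Subgroup.card_eq_one.1 hd1)).trans QuotientGroup.quotientBot).trans
        ((MulEquiv.subgroupCongr hNtop).trans Subgroup.topEquiv)
    have hcardP := card_sylow_congr (p := p) e
    rw [hcardP]
    have htop : (P : Subgroup G) ⊔ K = ⊤ := top_le_iff.1 (hNtop ▸ (inf_le_left : N ≤ _))
    refine good_of_complement P K hDbot htop ?_
    rw [P.card_eq_multiplicity]
    refine Nat.Coprime.pow_left _ ((Nat.Prime.coprime_iff_not_dvd hp.out).2 fun hd => ?_)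
    obtain ⟨x, hx⟩ := exists_prime_orderOf_dvd_card' (G := K) p hd
    have hxp : IsPGroup p (Subgroup.zpowers (x : G)) := IsPGroup.of_card (n := 1) (by
      rw [Nat.card_zpowers, Subgroup.orderOf_coe, hx, pow_one])
    obtain ⟨P₂, hP₂⟩ := hxp.exists_le_sylow
    obtain ⟨g, hg⟩ := MulAction.exists_smul_eq G P₂ P
    have hmem : g * (x : G) * g⁻¹ ∈ D := by
      refine ⟨?_, hKn.conj_mem _ x.2 g⟩
      show g * (x : G) * g⁻¹ ∈ (P : Subgroup G)
      rw [← hg, Sylow.coe_subgroup_smul, Subgroup.mem_pointwise_smul_iff_inv_smul_mem]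
      simpa [mul_assoc] using hP₂ (Subgroup.mem_zpowers (x : G))
    rw [hDbot, Subgroup.mem_bot, conj_eq_one_iff] at hmem
    rw [← Subgroup.orderOf_coe, hmem, orderOf_one] at hx
    exact hp.out.one_lt.ne hx

/-- For a finite group `G` and a prime `p`, the number of Sylow `p`-subgroups of `G` is a product of natural numbers each of which is either a prime power congruent to 1 modulo `p` or the number of Sylow `p`-subgroups of some finite simple group. -/
theorem result {G : Type u} [Group G] [Finite G]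
    (p : ℕ) [Fact p.Prime] :
    ∃ l : List ℕ, l.prod = Nat.card (Sylow p G) ∧
      ∀ m ∈ l, (IsPrimePow m ∧ m % p = 1) ∨
        ∃ (S : Type u) (_ : Group S) (_ : Finite S), IsSimpleGroup S ∧ m = Nat.card (Sylow p S) := by
  exact good_sylow _ G p rfl

end Cfsg.Agent.S4303
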