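import Mathlib
import Cfsg.Agent.S4303
import Cfsg.Agent.S0713

import Cfsg.Statements.S4304

set_option autoImplicit false
open Cfsg

namespace Cfsg.Agent.S4304

open scoped Pointwise
open Equiv

/-- An element of prime order fixes at least `2` points of a nine element group unless trivial on it. -/
theorem fix_nine {X : Type*} [Finite X] {A : Type*} [Group A] [Finite A] [MulAction A X] {ℓ : ℕ}
    [Fact ℓ.Prime] (hA : IsPGroup ℓ A) (hX : Nat.card X = 9) (hℓ : ℓ = 5 ∨ ℓ = 7)
    (h : Nat.card (MulAction.fixedPoints A X) ∣ 9) : MulAction.fixedPoints A X = Set.univ := by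
  have hm := hA.card_modEq_card_fixedPoints X
  rw [hX] at hm
  set f := Nat.card (MulAction.fixedPoints A X) with hf
  have hf9 : f ≤ 9 := Nat.le_of_dvd (by norm_num) h
  have : f = 9 := by
    rcases hℓ with rfl | rfl <;> interval_cases f <;> first | rfl | (exact absurd hm (by decide)) | (exact absurd h (by decide))
  apply Set.eq_univ_of_forall
  intro x
  by_contra hx
  have h2 : (MulAction.fixedPoints A X).ncard < (Set.univ : Set X).ncard :=
    Set.ncard_lt_ncard (Set.ssubset_univ_iff.2 fun he => hx (he ▸ trivial))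
  rw [Set.ncard_univ, hX, ← Nat.card_coe_set_eq, ← hf, this] at h2
  exact lt_irrefl _ h2

variable {G : Type*} [Group G] [Finite G] [IsSimpleGroup G]

theorem not_cyclic_sylow_minFac (hp : ¬ (Nat.card G).Prime) {p : ℕ} [Fact p.Prime] (hmin : (Nat.card G).minFac = p)
    (P : Sylow p G) : ¬ IsCyclic P := by
  intro hc
  have hcomp := IsCyclic.isComplement' hmin (P := P) hc
  set K := (MonoidHom.transferSylow P (hc.normalizer_le_centralizer hmin)).ker
  rcases (MonoidHom.normal_ker _ : K.Normal).eq_bot_or_eq_top with h | h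
  · rw [show K = ⊥ from h] at hcomp
    have hP : (P : Subgroup G) = ⊤ := Subgroup.isComplement'_bot_left.1 hcomp
    apply hp
    have hG : IsCyclic G := isCyclic_of_surjective (P : Subgroup G).subtype fun x => ⟨⟨x, by rw [hP]; trivial⟩, rfl⟩
    let _ : CommGroup G := IsCyclic.commGroup
    exact IsSimpleGroup.prime_card
  · rw [show K = ⊤ from h] at hcomp
    have hP : (P : Subgroup G) = ⊥ := Subgroup.isComplement'_top_left.1 hcomp
    have hd : p ∣ Nat.card G := hmin ▸ Nat.minFac_dvd _
    have := P.ne_bot_of_dvd_card hd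
    exact this hP

theorem not_simple_small (hp : ¬ (Nat.card G).Prime) :
    Nat.card G ≠ 105 ∧ Nat.card G ≠ 210 ∧ Nat.card G ≠ 315 ∧ Nat.card G ≠ 630 := by
  have cyc : ∀ (p : ℕ) [Fact p.Prime], (Nat.card G).factorization p = 1 → ∀ P : Sylow p G, IsCyclic P := by
    intro p _ h P
    exact isCyclic_of_prime_card (p := p) (by rw [P.card_eq_multiplicity, h, pow_one])
  have hfac : ∀ (n p : ℕ), p.Prime → p ∣ n → ¬ p ^ 2 ∣ n → n.factorization p = 1 := by
    intro n p hpp h1 h2
    have hn : n ≠ 0 := fun h => h2 (h ▸ dvd_zero _)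
    have a := (hpp.pow_dvd_iff_le_factorization hn (k := 1)).1 (by simpa using h1)
    have b := mt (hpp.pow_dvd_iff_le_factorization hn (k := 2)).2 h2
    omega
  refine ⟨?_, ?_, ?_, ?_⟩ <;> intro h
  · haveI : Fact (Nat.Prime 3) := ⟨Nat.prime_three⟩
    obtain ⟨P⟩ := (inferInstance : Nonempty (Sylow 3 G))
    exact not_cyclic_sylow_minFac hp (by rw [h]; norm_num) P
      (cyc 3 (by rw [h]; exact hfac _ _ Nat.prime_three (by norm_num) (by norm_num)) P)
  · haveI : Fact (Nat.Prime 2) := ⟨Nat.prime_two⟩
    obtain ⟨P⟩ := (inferInstance : Nonempty (Sylow 2 G))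
    exact not_cyclic_sylow_minFac hp (by rw [h]; norm_num) P
      (cyc 2 (by rw [h]; exact hfac _ _ Nat.prime_two (by norm_num) (by norm_num)) P)
  · haveI : Fact (Nat.Prime 3) := ⟨Nat.prime_three⟩
    obtain ⟨P⟩ := (inferInstance : Nonempty (Sylow 3 G))
    have h9 : Nat.card (P : Subgroup G) = 9 := by
      have hd : 3 ^ 2 ∣ Nat.card (P : Subgroup G) := P.pow_dvd_card_of_pow_dvd_card (by rw [h]; norm_num)
      have h27 : Nat.card (P : Subgroup G) ∣ 315 := h ▸ Subgroup.card_subgroup_dvd_card _
      obtain ⟨k, hk⟩ := IsPGroup.iff_card.1 P.isPGroup'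
      rw [hk] at hd h27 ⊢
      have h2k := (Nat.pow_dvd_pow_iff_le_right (by norm_num : 1 < 3)).1 hd
      rcases Nat.lt_or_ge k 3 with hk3 | hk3
      · interval_cases k
        norm_num
      · have : 3 ^ 3 ∣ 315 := dvd_trans (pow_dvd_pow 3 hk3) h27
        norm_num at this
    have hPc : IsMulCommutative (P : Subgroup G) := by
      have := IsPGroup.commutative_of_card_eq_prime_sq (p := 3) (G := (P : Subgroup G)) (by rw [h9]; norm_num)
      exact ⟨⟨this⟩⟩
    set NP := Subgroup.normalizer ((P : Subgroup G) : Set G)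
    have hle : NP ≤ Subgroup.centralizer ((P : Subgroup G) : Set G) := by
      by_contra hnot
      have hne : (Subgroup.centralizer ((P : Subgroup G) : Set G)).relIndex NP ≠ 1 :=
        fun h1 => hnot (Subgroup.relIndex_eq_one.1 h1)
      obtain ⟨ℓ, hℓ, hℓd⟩ := Nat.exists_prime_and_dvd hne
      have hℓ3 : ℓ ≠ 3 := by
        rintro rfl
        refine P.not_dvd_index (hℓd.trans ?_)
        exact (Subgroup.relIndex_dvd_of_le_left _ (Subgroup.le_centralizer (P : Subgroup G))).trans
          (Subgroup.relIndex_dvd_index_of_le Subgroup.le_normalizer)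
      have hℓ315 : ℓ ∣ 315 := h ▸ hℓd.trans ((Subgroup.relIndex_dvd_card _ _).trans
        (Subgroup.card_subgroup_dvd_card _))
      have h57 : ℓ = 5 ∨ ℓ = 7 := by
        have hle' := Nat.le_of_dvd (by norm_num) hℓ315
        have : ℓ ∈ Nat.primeFactors 315 := Nat.mem_primeFactors.2 ⟨hℓ, hℓ315, by norm_num⟩
        have e315 : Nat.primeFactors 315 = {3, 5, 7} := by decide +kernel
        rw [e315] at this
        simp at this
        omega
      haveI : Fact ℓ.Prime := ⟨hℓ⟩
      obtain ⟨S⟩ := (inferInstance : Nonempty (Sylow ℓ NP))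
      let A := (S : Subgroup NP).map NP.subtype
      have hAN : A ≤ NP := Subgroup.map_subtype_le _
      let _ : MulAction A (P : Subgroup G) :=
        { smul := fun a x => ⟨(a : G) * x * (a : G)⁻¹, (Subgroup.mem_normalizer_iff.1 (hAN a.2) x).1 x.2⟩
          one_smul := fun x => Subtype.ext (show (1 : G) * x * 1⁻¹ = x by simp)
          mul_smul := fun a b x => Subtype.ext (show ((a : G) * b) * x * ((a : G) * b)⁻¹ =
            a * (b * x * (b : G)⁻¹) * (a : G)⁻¹ by simp [mul_assoc]) }
      have hfixset : MulAction.fixedPoints A (P : Subgroup G) =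
          (((Subgroup.centralizer (A : Set G)).subgroupOf (P : Subgroup G)) : Set (P : Subgroup G)) := by
        ext x
        rw [SetLike.mem_coe, Subgroup.mem_subgroupOf, Subgroup.mem_centralizer_iff]
        constructor
        · intro hx a ha
          have h1 : a * (x : G) * a⁻¹ = x := congrArg Subtype.val (hx ⟨a, ha⟩)
          exact mul_inv_eq_iff_eq_mul.1 h1
        · intro hx a
          exact Subtype.ext (show (a : G) * x * (a : G)⁻¹ = x from mul_inv_eq_iff_eq_mul.2 (hx a a.2))
      have huniv := fix_nine (A := A) (X := (P : Subgroup G)) (S.isPGroup'.map _) h9 h57 (by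
        rw [hfixset, ← h9]; exact Subgroup.card_subgroup_dvd_card _)
      have hSC : (S : Subgroup NP) ≤ (Subgroup.centralizer ((P : Subgroup G) : Set G)).subgroupOf NP := by
        intro s hs
        rw [Subgroup.mem_subgroupOf, Subgroup.mem_centralizer_iff]
        intro x hx
        have : (⟨x, hx⟩ : (P : Subgroup G)) ∈ MulAction.fixedPoints A (P : Subgroup G) := huniv ▸ trivial
        rw [hfixset, SetLike.mem_coe, Subgroup.mem_subgroupOf, Subgroup.mem_centralizer_iff] at this
        exact (this _ (Subgroup.mem_map_of_mem _ hs)).symm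
      exact S.not_dvd_index (hℓd.trans (Subgroup.index_dvd_of_le hSC))
    have hcomp := MonoidHom.ker_transferSylow_isComplement' P hle
    rcases (MonoidHom.normal_ker (MonoidHom.transferSylow P hle)).eq_bot_or_eq_top with h1 | h1
    · rw [h1] at hcomp
      have := hcomp.card_mul
      rw [Subgroup.card_bot, h9, h] at this
      norm_num at this
    · rw [h1] at hcomp
      have := hcomp.card_mul
      rw [Subgroup.card_top, h9, h] at this
      norm_num at this
  · haveI : Fact (Nat.Prime 2) := ⟨Nat.prime_two⟩
    obtain ⟨P⟩ := (inferInstance : Nonempty (Sylow 2 G))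
    exact not_cyclic_sylow_minFac hp (by rw [h]; norm_num) P
      (cyc 2 (by rw [h]; exact hfac _ _ Nat.prime_two (by norm_num) (by norm_num)) P)

theorem not_fifteen : Nat.card (Sylow 7 G) ≠ 15 := by
  classical
  intro h15
  haveI : Fact (Nat.Prime 7) := ⟨by norm_num⟩
  haveI : Fintype (Sylow 7 G) := Fintype.ofFinite _
  have hcardΩ : Fintype.card (Sylow 7 G) = 15 := by rw [← Nat.card_eq_fintype_card, h15]
  have hnonab : ¬ (Nat.card G).Prime := by
    intro hp
    haveI : Fact (Nat.card G).Prime := ⟨hp⟩
    have : IsCyclic G := isCyclic_of_prime_card (p := Nat.card G) rfl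
    let _ : CommGroup G := IsCyclic.commGroup
    obtain ⟨P⟩ := (inferInstance : Nonempty (Sylow 7 G))
    have : (P : Subgroup G).Normal := inferInstance
    have e : Nat.card (Sylow 7 G) = (Subgroup.normalizer ((P : Subgroup G) : Set G)).index :=
      P.card_eq_index_normalizer
    rw [e, Subgroup.normalizer_eq_top, Subgroup.index_top] at h15
    norm_num at h15
  set φ := MulAction.toPermHom G (Sylow 7 G) with hφ
  have hinj : Function.Injective φ := by
    rw [← MonoidHom.ker_eq_bot_iff]
    refine (MonoidHom.normal_ker φ).eq_bot_or_eq_top.resolve_right fun h => ?_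
    have hall : ∀ (g : G) (Q : Sylow 7 G), g • Q = Q := by
      intro g Q
      have : φ g = 1 := by rw [← MonoidHom.mem_ker, h]; trivial
      exact Equiv.congr_fun this Q
    have hsub : Subsingleton (Sylow 7 G) := ⟨fun A B => by
      obtain ⟨g, hg⟩ := MulAction.exists_smul_eq G A B
      rw [← hg, hall]⟩
    rw [Nat.card_unique] at h15
    norm_num at h15
  have hsign : ∀ g : G, Equiv.Perm.sign (φ g) = 1 := by
    intro g
    have hk := (MonoidHom.normal_ker ((Equiv.Perm.sign).comp φ)).eq_bot_or_eq_top
    rcases hk with hk | hk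
    · exfalso
      have h2 : Nat.card G ≤ 2 := by
        have := Nat.card_le_card_of_injective _ ((MonoidHom.ker_eq_bot_iff _).1 hk)
        simpa [Nat.card_eq_fintype_card] using this
      have h1 : 1 < Nat.card G := Finite.one_lt_card
      have : Nat.card G = 2 := by omega
      exact hnonab (this ▸ Nat.prime_two)
    · have : g ∈ ((Equiv.Perm.sign).comp φ).ker := by rw [hk]; trivial
      exact this
  obtain ⟨P⟩ := (inferInstance : Nonempty (Sylow 7 G))
  set NP := Subgroup.normalizer ((P : Subgroup G) : Set G) with hNP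
  have hstab : MulAction.stabilizer G P = NP := Sylow.stabilizer_eq_normalizer P
  have hidx : NP.index = 15 := P.card_eq_index_normalizer.symm.trans h15
  have hPfix : ∀ x ∈ (P : Subgroup G), x • P = P := fun x hx => by
    have : x ∈ MulAction.stabilizer G P := hstab ▸ Subgroup.le_normalizer hx
    exact this
  have hd : Nat.card G ∣ 15 * (14 : ℕ).factorial := by
    have := Subgroup.card_dvd_of_injective φ hinj
    rw [Nat.card_perm, h15, Nat.factorial_succ] at this
    exact this
  obtain ⟨k, hk⟩ := IsPGroup.iff_card.1 P.isPGroup'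
  have h7k : 7 ^ k ∣ 15 * (14 : ℕ).factorial := hk ▸ (Subgroup.card_subgroup_dvd_card _).trans hd
  have hk2 : k ≤ 2 := by
    by_contra hc
    push Not at hc
    have : 7 ^ 3 ∣ 15 * (14 : ℕ).factorial := (pow_dvd_pow 7 hc).trans h7k
    exact absurd this (by decide +kernel)
  have hk0 : k ≠ 0 := by
    rintro rfl
    have hbot : (P : Subgroup G) = ⊥ := Subgroup.card_eq_one.1 (by rw [hk, pow_zero])
    have htop : NP = ⊤ := by
      rw [hNP, hbot]
      exact Subgroup.normalizer_eq_top_iff.2 inferInstance
    rw [htop, Subgroup.index_top] at hidx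
    norm_num at hidx
  have horbit : ∀ Q : Sylow 7 G, Q ≠ P → ¬ ((P : Subgroup G) ≤ MulAction.stabilizer G Q) := by
    intro Q hQ hle
    rw [Sylow.stabilizer_eq_normalizer] at hle
    apply hQ
    have := P.isPGroup'.inf_normalizer_sylow Q
    rw [inf_eq_left.2 hle] at this
    exact (Sylow.ext (P.is_maximal' Q.isPGroup' (inf_eq_left.1 this.symm))).symm.symm
  interval_cases k
  · exact hk0 rfl
  · -- |P| = 7
    have hP7 : Nat.card (P : Subgroup G) = 7 := by rw [hk]; norm_num
    obtain ⟨r, hr⟩ := IsCyclic.exists_ofOrder_eq_natCard (α := (P : Subgroup G))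
      (h := isCyclic_of_prime_card (p := 7) hP7)
    rw [hP7] at hr
    have hr' : orderOf (φ (r : G)) = 7 := by
      rw [orderOf_injective φ hinj, Subgroup.orderOf_coe, hr]
    have hgen : ∀ g : G, Commute g (r : G) → ∀ x ∈ (P : Subgroup G), Commute g x := by
      intro g hg x hx
      have hz : Subgroup.zpowers r = ⊤ := Subgroup.eq_top_of_card_eq _ (by rw [Nat.card_zpowers, hr, hP7])
      have hm : (⟨x, hx⟩ : (P : Subgroup G)) ∈ Subgroup.zpowers r := hz ▸ trivial
      obtain ⟨j, hj⟩ := hm
      have : x = (r : G) ^ j := by rw [← SubgroupClass.coe_zpow]; exact (congrArg Subtype.val hj).symm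
      rw [this]
      exact hg.zpow_right j
    set σ := φ (r : G) with hσ
    have hfixσ : ∀ Q, σ Q = Q ↔ Q = P := by
      intro Q
      constructor
      · intro hQ
        by_contra hne
        apply horbit Q hne
        intro x hx
        have hz : Subgroup.zpowers r = ⊤ := Subgroup.eq_top_of_card_eq _ (by rw [Nat.card_zpowers, hr, hP7])
        have hm : (⟨x, hx⟩ : (P : Subgroup G)) ∈ Subgroup.zpowers r := hz ▸ trivial
        obtain ⟨j, hj⟩ := hm
        have : x = (r : G) ^ j := by rw [← SubgroupClass.coe_zpow]; exact (congrArg Subtype.val hj).symm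
        rw [this]
        exact Subgroup.zpow_mem _ (show (r : G) ∈ MulAction.stabilizer G Q from hQ) j
      · rintro rfl
        exact hPfix r r.2
    have hsupp : σ.support = Finset.univ.erase P := by
      ext Q
      simp [Equiv.Perm.mem_support, hfixσ Q]
    have hcyc : σ.cycleType = Multiset.replicate 2 7 := by
      have hall : ∀ n ∈ σ.cycleType, n = 7 := by
        intro n hn
        have h2 : n ∣ 7 := hr' ▸ Equiv.Perm.dvd_of_mem_cycleType hn
        rcases (Nat.dvd_prime (by norm_num)).1 h2 with h | h
        · have := Equiv.Perm.two_le_of_mem_cycleType hn; omega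
        · exact h
      have he := Multiset.eq_replicate_of_mem hall
      have hsum := Equiv.Perm.sum_cycleType σ
      rw [hsupp, Finset.card_erase_of_mem (Finset.mem_univ _), Finset.card_univ, hcardΩ, he,
        Multiset.sum_replicate, smul_eq_mul] at hsum
      rw [he, show Multiset.card σ.cycleType = 2 by omega]
    set C := Subgroup.centralizer ((P : Subgroup G) : Set G) with hC
    have hCeq : ∀ c ∈ C, c ^ 7 = 1 := by
      intro c hc
      have hcσ : φ c ∈ Subgroup.centralizer {σ} := by
        rw [Subgroup.mem_centralizer_singleton_iff, hσ, ← map_mul, ← map_mul,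
          (Subgroup.mem_centralizer_iff.1 hc r r.2)]
      have hord : orderOf c ∣ 98 := by
        rw [← orderOf_injective φ hinj c]
        have h2 := orderOf_dvd_natCard (⟨φ c, hcσ⟩ : Subgroup.centralizer {σ})
        rw [Equiv.Perm.nat_card_centralizer, hcardΩ, hcyc, ← Subgroup.orderOf_coe] at h2
        have e : (15 - (Multiset.replicate 2 7).sum).factorial * (Multiset.replicate 2 7).prod *
            (∏ n ∈ (Multiset.replicate 2 7).toFinset, ((Multiset.replicate 2 7).count n).factorial) = 98 := by
          decide +kernel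
        rw [e] at h2
        exact h2
      -- the `2`-part is trivial
      have h49 : (c ^ 49) ^ 2 = 1 := by
        rw [← pow_mul]; exact orderOf_dvd_iff_pow_eq_one.1 hord
      set d := φ (c ^ 49) with hd'
      have hd1 : d = 1 := by
        by_contra hd1
        have hdord : orderOf d = 2 := orderOf_eq_prime (by rw [hd', ← map_pow, h49, map_one]) hd1
        obtain ⟨n, hn⟩ := Equiv.Perm.cycleType_prime_order (σ := d) (by rw [hdord]; exact Nat.prime_two)
        rw [hdord] at hn
        have hdP : d P = P := by
          have : c ^ 49 ∈ MulAction.stabilizer G P :=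
            hstab ▸ Subgroup.pow_mem _ (Subgroup.centralizer_le_normalizer _ hc) _
          exact this
        have hcomm : σ * d = d * σ := by
          have hc49 : (r : G) * c ^ 49 = c ^ 49 * r := Subgroup.mem_centralizer_iff.1 (C.pow_mem hc 49) r r.2
          rw [hσ, hd', ← map_mul, ← map_mul, hc49]
        have hinv : ∀ x, x ∈ d.support ↔ σ x ∈ d.support := by
          intro x
          simp only [Equiv.Perm.mem_support]
          have hx : d (σ x) = σ (d x) := (Equiv.congr_fun hcomm x).symm
          rw [hx]
          exact (σ.injective.ne_iff).symm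
        let τ : Equiv.Perm {x // x ∈ d.support} := σ.subtypePerm fun x => (hinv x).symm
        have hτ : τ.support = Finset.univ := by
          ext ⟨x, hx⟩
          simp only [Equiv.Perm.mem_support, Finset.mem_univ, iff_true, ne_eq]
          intro h
          have hxP : x = P := (hfixσ x).1 (congrArg Subtype.val h)
          rw [Equiv.Perm.mem_support] at hx
          exact hx (hxP ▸ hdP)
        have hτ7 : τ ^ 7 = 1 := by
          ext x
          rw [Equiv.Perm.subtypePerm_pow]
          simp only [Equiv.Perm.subtypePerm_apply, Equiv.Perm.coe_one, id_eq]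
          have e : σ ^ 7 = 1 := by
            have := pow_orderOf_eq_one σ
            rwa [hr'] at this
          simp [e]
        have h7dvd : 7 ∣ d.support.card := by
          have hs := Equiv.Perm.sum_cycleType τ
          rw [hτ, Finset.card_univ, Fintype.card_coe] at hs
          rw [← hs]
          refine Multiset.dvd_sum fun m hm => ?_
          have h2 : m ∣ 7 := (Equiv.Perm.dvd_of_mem_cycleType hm).trans (orderOf_dvd_of_pow_eq_one hτ7)
          rcases (Nat.dvd_prime (by norm_num)).1 h2 with h | h
          · have := Equiv.Perm.two_le_of_mem_cycleType hm; omega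
          · exact h.symm ▸ dvd_rfl
        have hle14 : d.support.card ≤ 14 := by
          have : d.support ⊆ Finset.univ.erase P := fun x hx => by
            rw [Finset.mem_erase]
            refine ⟨fun h => ?_, Finset.mem_univ _⟩
            rw [Equiv.Perm.mem_support] at hx
            exact hx (h ▸ hdP)
          simpa [hcardΩ] using Finset.card_le_card this
        have hsum := Equiv.Perm.sum_cycleType d
        rw [hn, Multiset.sum_replicate, smul_eq_mul] at hsum
        have hsgn := hsign (c ^ 49)
        rw [← hd', Equiv.Perm.sign_of_cycleType, hn, Multiset.sum_replicate, Multiset.card_replicate,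
          smul_eq_mul] at hsgn
        obtain ⟨j, hj⟩ := h7dvd
        have : n = 6 := by omega
        subst this
        simp at hsgn
        exact absurd hsgn (by decide)
      have h49' : c ^ 49 = 1 := hinj (by rw [← hd', hd1, map_one])
      have hz : IsPGroup 7 (Subgroup.zpowers c) := by
        intro ⟨x, hx⟩
        refine ⟨2, Subtype.ext ?_⟩
        obtain ⟨j, rfl⟩ := hx
        show (c ^ j) ^ (7 ^ 2) = 1
        rw [← zpow_natCast, ← zpow_mul, mul_comm, zpow_mul, zpow_natCast]
        norm_num [h49']
      have hcN : Subgroup.zpowers c ≤ Subgroup.normalizer ((P : Subgroup G) : Set G) :=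
        Subgroup.zpowers_le.2 (Subgroup.centralizer_le_normalizer _ hc)
      have hinf : Subgroup.zpowers c = Subgroup.zpowers c ⊓ (P : Subgroup G) :=
        (inf_eq_left.2 hcN).symm.trans (hz.inf_normalizer_sylow P)
      have hmem : c ∈ (P : Subgroup G) := (inf_eq_left.1 hinf.symm :) (Subgroup.mem_zpowers c)
      have := pow_card_eq_one' (G := (P : Subgroup G)) (x := ⟨c, hmem⟩)
      rw [hP7] at this
      exact congrArg Subtype.val this
    have hCle : C ≤ (P : Subgroup G) := by
      intro c hc
      have hz : IsPGroup 7 (Subgroup.zpowers c) := IsPGroup.of_card (n := if orderOf c = 1 then 0 else 1) (by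
        rw [Nat.card_zpowers]
        split_ifs with h
        · rw [h, pow_zero]
        · rw [pow_one]
          exact ((Nat.dvd_prime (by norm_num)).1 (orderOf_dvd_of_pow_eq_one (hCeq c hc))).resolve_left h)
      have hinf : Subgroup.zpowers c = Subgroup.zpowers c ⊓ (P : Subgroup G) :=
        (inf_eq_left.2 (Subgroup.zpowers_le.2 (Subgroup.centralizer_le_normalizer _ hc))).symm.trans
          (hz.inf_normalizer_sylow P)
      exact (inf_eq_left.1 hinf.symm) (Subgroup.mem_zpowers c)
    -- the automizer has order dividing six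
    have hN6 : C.relIndex NP ∣ 6 := by
      let f : NP →* MulAut (P : Subgroup G) := Subgroup.normalizerMonoidHom _
      have hk : f.ker = C.subgroupOf NP := Subgroup.normalizerMonoidHom_ker _
      have h2 : C.relIndex NP = Nat.card f.range := by
        rw [← Subgroup.index_ker, hk]; rfl
      rw [h2]
      refine (Subgroup.card_subgroup_dvd_card _).trans ?_
      haveI : IsCyclic (P : Subgroup G) := isCyclic_of_prime_card (p := 7) hP7
      rw [IsCyclic.card_mulAut, hP7]
      decide
    have hN : Nat.card NP ∣ 42 := by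
      have := Subgroup.relIndex_mul_relIndex ⊥ C NP bot_le (Subgroup.centralizer_le_normalizer _)
      rw [Subgroup.relIndex_bot_left, Subgroup.relIndex_bot_left] at this
      rw [← this, show (42 : ℕ) = 7 * 6 from rfl]
      exact mul_dvd_mul (hP7 ▸ Subgroup.card_dvd_of_le hCle) hN6
    have hN7 : 7 ∣ Nat.card NP := hP7 ▸ Subgroup.card_dvd_of_le Subgroup.le_normalizer
    have hG : Nat.card G = 15 * Nat.card NP := by rw [← NP.index_mul_card, hidx]
    obtain ⟨e1, e2, e3, e4⟩ := not_simple_small (G := G) hnonab
    have hle42 := Nat.le_of_dvd (by norm_num) hN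
    obtain ⟨j, hj⟩ := hN7
    have : j ∣ 6 := by
      rw [hj, show (42 : ℕ) = 7 * 6 from rfl] at hN
      exact Nat.dvd_of_mul_dvd_mul_left (by norm_num) hN
    have hj6 := Nat.le_of_dvd (by norm_num) this
    interval_cases j <;> omega
  · -- |P| = 49
    have hP49 : Nat.card (P : Subgroup G) = 49 := by rw [hk]; norm_num
    have hPc := IsPGroup.commutative_of_card_eq_prime_sq (p := 7) (G := (P : Subgroup G)) (by rw [hP49]; norm_num)
    obtain ⟨Q, hQ⟩ : ∃ Q : Sylow 7 G, Q ≠ P := by
      haveI : Nontrivial (Sylow 7 G) := Fintype.one_lt_card_iff_nontrivial.1 (by rw [hcardΩ]; norm_num)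
      exact exists_ne P
    set R := MulAction.stabilizer (P : Subgroup G) Q with hR
    have horb7 : Nat.card (MulAction.orbit (P : Subgroup G) Q) = 7 := by
      rw [Nat.card_coe_set_eq, ← MulAction.index_stabilizer]
      obtain ⟨j, hj⟩ := IsPGroup.index (P.isPGroup') R
      have hle : (MulAction.stabilizer (P : Subgroup G) Q).index ≤ 15 := by
        rw [MulAction.index_stabilizer, ← Nat.card_coe_set_eq, ← hcardΩ, Fintype.card_eq_nat_card]
        exact Nat.card_le_card_of_injective _ Subtype.coe_injective
      rw [hR] at hj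
      rw [hj] at hle ⊢
      rcases Nat.lt_or_ge j 2 with hj2 | hj2
      · interval_cases j
        · exfalso
          apply horbit Q hQ
          intro x hx
          have htop : MulAction.stabilizer (P : Subgroup G) Q = ⊤ := Subgroup.index_eq_one.1 (by rw [hj]; rfl)
          have : (⟨x, hx⟩ : (P : Subgroup G)) ∈ MulAction.stabilizer (P : Subgroup G) Q := htop ▸ trivial
          exact this
        · rfl
      · have : 7 ^ 2 ≤ 7 ^ j := Nat.pow_le_pow_right (by norm_num) hj2
        norm_num at this hle
        omega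
    have hRne : R ≠ ⊥ := by
      intro h
      have := MulAction.index_stabilizer (P : Subgroup G) Q
      rw [← Nat.card_coe_set_eq, horb7, ← hR, h, Subgroup.index_bot, hP49] at this
      norm_num at this
    obtain ⟨r, hrR, hr1⟩ := R.bot_or_exists_ne_one.resolve_left hRne
    set σ := φ (r : G) with hσ
    set S : Finset (Sylow 7 G) := insert P (MulAction.orbit (P : Subgroup G) Q).toFinset with hS
    have hSfix : ∀ x ∈ S, σ x = x := by
      intro x hx
      rw [hS, Finset.mem_insert, Set.mem_toFinset] at hx
      rcases hx with rfl | ⟨y, rfl⟩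
      · exact hPfix r r.2
      · show (r : G) • (y : G) • Q = (y : G) • Q
        have hc : (r : G) * y = (y : G) * r := congrArg Subtype.val (hPc r y)
        rw [← mul_smul, hc, mul_smul]
        exact congrArg _ hrR
    have hScard : S.card = 8 := by
      rw [hS, Finset.card_insert_of_notMem, Set.toFinset_card, ← Nat.card_eq_fintype_card, horb7]
      rw [Set.mem_toFinset]
      rintro ⟨y, hy⟩
      have hy' : (y : G) • Q = P := hy
      apply hQ
      rw [← inv_smul_smul (y : G) Q, hy']
      exact hPfix _ (inv_mem y.2)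
    have hsupp : σ.support ⊆ Sᶜ := fun x hx => by
      rw [Finset.mem_compl]
      intro hxS
      exact (Equiv.Perm.mem_support.1 hx) (hSfix x hxS)
    have hsupp7 : σ.support.card ≤ 7 := by
      refine (Finset.card_le_card hsupp).trans ?_
      rw [Finset.card_compl, hScard, hcardΩ]
    have hσ49 : σ ^ 49 = 1 := by
      rw [hσ, ← map_pow, ← hP49, ← SubgroupClass.coe_pow, pow_card_eq_one', OneMemClass.coe_one, map_one]
    have hσne : σ ≠ 1 := fun h => hr1 (Subtype.ext (hinj (by rw [← hσ, h, OneMemClass.coe_one, map_one])))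
    have hcyc : ∀ n ∈ σ.cycleType, n = 7 := by
      intro n hn
      have h2 : n ∣ 7 ^ 2 := (Equiv.Perm.dvd_of_mem_cycleType hn).trans
        (orderOf_dvd_of_pow_eq_one (by norm_num [hσ49]))
      obtain ⟨j, hj2, rfl⟩ := (Nat.dvd_prime_pow (by norm_num : Nat.Prime 7)).1 h2
      have hle := Multiset.le_sum_of_mem hn
      rw [Equiv.Perm.sum_cycleType] at hle
      have := Equiv.Perm.two_le_of_mem_cycleType hn
      interval_cases j <;> norm_num at * <;> omega
    have he := Multiset.eq_replicate_of_mem hcyc
    have hsum := Equiv.Perm.sum_cycleType σ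
    rw [he, Multiset.sum_replicate, smul_eq_mul] at hsum
    have hcard0 : Multiset.card σ.cycleType ≠ 0 := by
      rw [Ne, Multiset.card_eq_zero, Equiv.Perm.cycleType_eq_zero]
      exact hσne
    have hs7 : σ.support.card = 7 := by omega
    have hiscyc : σ.IsCycle := Equiv.Perm.card_cycleType_eq_one.1 (by omega)
    -- primitivity
    have hcoatom : IsCoatom (MulAction.stabilizer G P) := by
      rw [hstab]
      refine ⟨fun h => ?_, fun M hM => ?_⟩
      · rw [h, Subgroup.index_top] at hidx; norm_num at hidx
      · by_contra hMt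
        have hmul := Subgroup.relIndex_mul_index hM.le
        rw [hidx] at hmul
        have hr2 : NP.relIndex M ≠ 1 := fun h => hM.not_ge (Subgroup.relIndex_eq_one.1 h)
        have hMi : M.index ≤ 5 := by
          have : 2 ≤ NP.relIndex M := by
            have : NP.relIndex M ≠ 0 := fun h0 => by rw [h0, zero_mul] at hmul; norm_num at hmul
            omega
          rcases Nat.lt_or_ge M.index 6 with h | h
          · omega
          · exfalso
            have hd15 : M.index ∣ 15 := Dvd.intro_left _ hmul
            have := Nat.le_of_dvd (by norm_num) hd15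
            interval_cases hi : M.index <;> first | omega | (norm_num at hd15)
        have hcore : M.normalCore = ⊥ := (Subgroup.normalCore_normal M).eq_bot_or_eq_top.resolve_right
          fun h => hMt (top_le_iff.1 (h ▸ Subgroup.normalCore_le M))
        have hinjM : Function.Injective (MulAction.toPermHom G (G ⧸ M)) := by
          rw [← MonoidHom.ker_eq_bot_iff, ← Subgroup.normalCore_eq_ker, hcore]
        have h7 : 7 ∣ Nat.card G := (dvd_pow_self 7 (by norm_num : (2:ℕ) ≠ 0)).trans
          (by rw [show (7:ℕ) ^ 2 = 49 from rfl, ← hP49]; exact Subgroup.card_subgroup_dvd_card _)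
        have := h7.trans (Subgroup.card_dvd_of_injective _ hinjM)
        rw [Nat.card_perm, ← Subgroup.index_eq_card] at this
        exact absurd ((Nat.Prime.dvd_factorial (by norm_num)).1 this) (by omega)
    haveI : Nontrivial (Sylow 7 G) := ⟨⟨Q, P, hQ⟩⟩
    have hprimG : MulAction.IsPreprimitive G (Sylow 7 G) :=
      (MulAction.isCoatom_stabilizer_iff_preprimitive G P).1 hcoatom
    have hprim : MulAction.IsPreprimitive φ.range (Sylow 7 G) := by
      let f : Sylow 7 G →ₑ[⇑φ.rangeRestrict] Sylow 7 G := ⟨id, fun g x => rfl⟩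
      exact MulAction.IsPreprimitive.of_surjective (f := f) Function.surjective_id
    have halt := Cfsg.Agent.S0713.result φ.range hprim (p := 7) (by norm_num)
      (by rw [hcardΩ]; norm_num) (by rw [hcardΩ]; norm_num) hiscyc hs7 ⟨r, rfl⟩
    -- a three-cycle fixing P yields a contradiction
    obtain ⟨x, hx⟩ : σ.support.Nonempty := Finset.card_pos.1 (by omega)
    obtain ⟨y, hy, z, hz, hyz⟩ : ∃ y ∈ S.erase P, ∃ z ∈ S.erase P, y ≠ z := by
      apply Finset.one_lt_card.1
      rw [Finset.card_erase_of_mem (Finset.mem_insert_self _ _), hScard]; norm_num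
    rw [Finset.mem_erase] at hy hz
    have hxS : x ∉ S := Finset.mem_compl.1 (hsupp hx)
    have hxy : x ≠ y := fun h => hxS (h ▸ hy.2)
    have hxz : x ≠ z := fun h => hxS (h ▸ hz.2)
    have hxP : x ≠ P := fun h => hxS (h ▸ Finset.mem_insert_self _ _)
    set τ : Equiv.Perm (Sylow 7 G) := Equiv.swap x y * Equiv.swap x z with hτ
    obtain ⟨c, hc⟩ := halt (show τ ∈ alternatingGroup (Sylow 7 G) by
      rw [Equiv.Perm.mem_alternatingGroup, map_mul, Equiv.Perm.sign_swap hxy, Equiv.Perm.sign_swap hxz]
      rfl)
    have hcN : c ∈ NP := by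
      rw [← hstab, MulAction.mem_stabilizer_iff]
      have hv : φ c P = P := by
        rw [hc, hτ, Equiv.Perm.mul_apply, Equiv.swap_apply_of_ne_of_ne hxP.symm hz.1.symm,
          Equiv.swap_apply_of_ne_of_ne hxP.symm hy.1.symm]
      exact hv
    have hmem : c * r * c⁻¹ * (r : G)⁻¹ ∈ (P : Subgroup G) :=
      Subgroup.mul_mem _ ((Subgroup.mem_normalizer_iff.1 hcN r).1 r.2) (inv_mem r.2)
    set d := φ (c * r * c⁻¹ * (r : G)⁻¹) with hd'
    have hdeq : d = τ * σ * τ⁻¹ * σ⁻¹ := by rw [hd', map_mul, map_mul, map_mul, map_inv, map_inv, hc]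
    have hd49 : d ^ 49 = 1 := by
      rw [hd', ← map_pow, ← hP49]
      have := pow_card_eq_one' (G := (P : Subgroup G)) (x := ⟨_, hmem⟩)
      rw [show (c * r * c⁻¹ * (r : G)⁻¹) ^ Nat.card (P : Subgroup G) = 1 from congrArg Subtype.val this, map_one]
    have hτs : τ.support.card ≤ 3 := by
      have : τ.support ⊆ {x, y, z} := by
        intro w hw
        by_contra hw'
        simp only [Finset.mem_insert, Finset.mem_singleton, not_or] at hw'
        apply Equiv.Perm.mem_support.1 hw
        rw [hτ, Equiv.Perm.mul_apply, Equiv.swap_apply_of_ne_of_ne hw'.1 hw'.2.2,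
          Equiv.swap_apply_of_ne_of_ne hw'.1 hw'.2.1]
      exact (Finset.card_le_card this).trans Finset.card_le_three
    have hd6 : d.support.card ≤ 6 := by
      have e : d = τ * (σ * τ⁻¹ * σ⁻¹) := by rw [hdeq]; simp [mul_assoc]
      rw [e]
      refine (Finset.card_le_card (Equiv.Perm.support_mul_le _ _)).trans ?_
      refine (Finset.card_union_le _ _).trans ?_
      rw [Equiv.Perm.card_support_conj, Equiv.Perm.support_inv]
      omega
    have hd1 : d = 1 := by
      rw [← Equiv.Perm.cycleType_eq_zero]
      by_contra hne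
      obtain ⟨n, hn⟩ := Multiset.exists_mem_of_ne_zero hne
      have h2 : n ∣ 7 ^ 2 := (Equiv.Perm.dvd_of_mem_cycleType hn).trans
        (orderOf_dvd_of_pow_eq_one (by norm_num [hd49]))
      obtain ⟨j, hj2, rfl⟩ := (Nat.dvd_prime_pow (by norm_num : Nat.Prime 7)).1 h2
      have hle := Multiset.le_sum_of_mem hn
      rw [Equiv.Perm.sum_cycleType] at hle
      have := Equiv.Perm.two_le_of_mem_cycleType hn
      interval_cases j <;> norm_num at * <;> omega
    have hcomm : τ * σ = σ * τ := by
      rw [hdeq, mul_inv_eq_one, mul_inv_eq_iff_eq_mul] at hd1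
      exact hd1
    have h2 : τ (σ x) = σ (τ x) := Equiv.congr_fun hcomm x
    have hτx : τ x = z := by
      rw [hτ, Equiv.Perm.mul_apply, Equiv.swap_apply_left,
        Equiv.swap_apply_of_ne_of_ne hxz.symm hyz.symm]
    rw [hτx, hSfix z hz.2] at h2
    have : σ x = x := τ.injective (h2.trans hτx.symm)
    exact Equiv.Perm.mem_support.1 hx this

/-- No finite group has exactly 15 Sylow 7-subgroups. -/
theorem result {G : Type*} [Group G] [Finite G] : Nat.card (Sylow 7 G) ≠ 15 := by
  classical
  haveI : Fact (Nat.Prime 7) := ⟨by norm_num⟩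
  intro h
  obtain ⟨l, hl, hl'⟩ := Cfsg.Agent.S4303.result (G := G) 7
  rw [h] at hl
  obtain ⟨m, hm, hm1⟩ : ∃ m ∈ l, m ≠ 1 := by
    by_contra hc
    push Not at hc
    rw [List.prod_eq_one hc] at hl
    norm_num at hl
  have hd : m ∣ 15 := hl ▸ List.dvd_prod hm
  have hle := Nat.le_of_dvd (by norm_num) hd
  rcases hl' m hm with ⟨hpp, h7⟩ | ⟨S, iS, fS, hS, hmS⟩
  · obtain rfl : m = 15 := by
      interval_cases m <;> first | omega | (norm_num at hd)
    obtain ⟨q, j, hq, hj, hqj⟩ := hpp
    have hq' : q.Prime := Nat.prime_iff.2 hq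
    have hq3 : 3 ∣ q := Nat.Prime.dvd_of_dvd_pow Nat.prime_three (hqj ▸ (by norm_num : (3 : ℕ) ∣ 15))
    have hq5 : 5 ∣ q := Nat.Prime.dvd_of_dvd_pow (by norm_num) (hqj ▸ (by norm_num : (5 : ℕ) ∣ 15))
    have e3 := (Nat.prime_dvd_prime_iff_eq Nat.prime_three hq').1 hq3
    have e5 := (Nat.prime_dvd_prime_iff_eq (by norm_num) hq').1 hq5
    omega
  · have h7 : m % 7 = 1 % 7 := hmS ▸ card_sylow_modEq_one 7 S
    obtain rfl : m = 15 := by
      interval_cases m <;> first | omega | (norm_num at hd)
    haveI := hS
    exact not_fifteen (G := S) hmS.symm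

end Cfsg.Agent.S4304
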