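import Mathlib

import Cfsg.Statements.S4309

set_option autoImplicit false
open Cfsg

namespace Cfsg.Agent.S4309

/-- Let `π` be a set of primes, `G` a finite group with a Hall `π`-subgroup `H` (every prime divisor of the order of `H` lies in `π` and no prime of `π` divides its index), and `A` a normal subgroup of `G`. Then `H ∩ A` is a Hall `π`-subgroup of `A` and the image of `H` in `G/A` is a Hall `π`-subgroup of `G/A`. -/
theorem result {G : Type*} [Group G] [Finite G] (π : Set ℕ)
    (H A : Subgroup G) [A.Normal] (hH : Cfsg.IsPiHall π H) :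
    Cfsg.IsPiHall π ((H ⊓ A).subgroupOf A) ∧ Cfsg.IsPiHall π (H.map (QuotientGroup.mk' A)) := by
  obtain ⟨h1, h2⟩ := hH
  refine ⟨⟨fun p hp hd => h1 p hp ?_, fun p hp hpi hd => ?_⟩, ⟨fun p hp hd => h1 p hp ?_, fun p hp hpi hd => h2 p hp hpi ?_⟩⟩
  · rw [Nat.card_congr (Subgroup.subgroupOfEquivOfLe (inf_le_right : H ⊓ A ≤ A)).toEquiv] at hd
    exact hd.trans (Subgroup.card_dvd_of_le inf_le_left)
  · refine h2 p hp hpi (hd.trans ?_)
    change (H ⊓ A).relIndex A ∣ H.index
    rw [Subgroup.inf_relIndex_right]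
    have e1 := Subgroup.relIndex_mul_relIndex (H ⊓ A) A (H ⊔ A) inf_le_right le_sup_right
    have e2 := Subgroup.relIndex_mul_relIndex (H ⊓ A) H (H ⊔ A) inf_le_left le_sup_left
    rw [Subgroup.inf_relIndex_right, Subgroup.relIndex_sup_right] at e1
    rw [Subgroup.inf_relIndex_left] at e2
    rw [← e2, mul_comm (A.relIndex H)] at e1
    have key := Nat.eq_of_mul_eq_mul_right (Nat.pos_of_ne_zero (A.subgroupOf H).index_ne_zero_of_finite) e1
    rw [key, ← Subgroup.relIndex_mul_index (le_sup_left : H ≤ H ⊔ A)]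
    exact dvd_mul_right _ _
  · exact hd.trans (Subgroup.card_map_dvd _ _)
  · exact hd.trans (Subgroup.index_map_dvd _ (QuotientGroup.mk'_surjective A))

end Cfsg.Agent.S4309
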