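import Cfsg.Statements.S4320

set_option autoImplicit false
open Pointwise
open Cfsg

namespace Cfsg.Agent.S4320

open Module
open scoped commutatorElement

/-- Annihilation by the determinant. -/
theorem det_smul_eq_zero {R M ι : Type*} [CommRing R] [AddCommGroup M] [Module R M] [Fintype ι]
    [DecidableEq ι] (μ : Matrix ι ι R) (v : ι → M) (h : ∀ i, ∑ j, μ i j • v j = 0) (k : ι) :
    μ.det • v k = 0 := by
  have h1 : ∑ i, μ.adjugate k i • ∑ j, μ i j • v j = 0 := by simp [h]
  have h2 : ∀ j, (μ.adjugate * μ) k j = ∑ i, μ.adjugate k i * μ i j := fun j => Matrix.mul_apply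
  simp only [Finset.smul_sum, smul_smul] at h1
  rw [Finset.sum_comm] at h1
  simp only [← Finset.sum_smul, ← h2, Matrix.adjugate_mul] at h1
  simpa [Matrix.one_apply, ite_smul] using h1

/-- Translation operators on functions on a commutative group. -/
def transHom (Q A : Type*) [CommGroup Q] [AddCommGroup A] : Q →* AddMonoid.End (Q → A) where
  toFun u := { toFun := fun f q => f (q * u)
               map_zero' := rfl
               map_add' := fun _ _ => rfl }
  map_one' := by ext f q; exact congrArg f (mul_one q)
  map_mul' u v := by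
    ext f q
    change f (q * (u * v)) = f (q * u * v)
    rw [mul_assoc]

/-- A square matrix of relations of determinant equal to the group order. -/
theorem exists_relation_matrix {G Q : Type*} [Fintype G] [DecidableEq G] [CommGroup Q] [Fintype Q]
    (π : G → Q) (hπ : Function.Surjective π) :
    ∃ M : Matrix G G ℤ, M.det.natAbs = Fintype.card Q ∧
      ∀ i, ∑ a, M i a • Additive.ofMul (π a) = 0 := by
  let φ : (G → ℤ) →ₗ[ℤ] Additive Q :=
    Fintype.linearCombination ℤ (fun a => Additive.ofMul (π a))
  have hφ : ∀ e, φ e = ∑ a, e a • Additive.ofMul (π a) := fun e =>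
    Fintype.linearCombination_apply ..
  have hφs : Function.Surjective φ := by
    intro x
    obtain ⟨a, ha⟩ := hπ x.toMul
    refine ⟨Pi.single a 1, ?_⟩
    rw [hφ, Finset.sum_eq_single a]
    · simp [ha]
    · intro b _ hb; simp [hb]
    · simp
  have hcard : Nat.card (Additive Q) = Fintype.card Q := Nat.card_eq_fintype_card (α := Q)
  have hquot : Nat.card ((G → ℤ) ⧸ LinearMap.ker φ) = Fintype.card Q :=
    (Nat.card_congr (φ.quotKerEquivOfSurjective hφs).toEquiv).trans hcard
  have hfin : finrank ℤ (LinearMap.ker φ) = Fintype.card G := by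
    refine le_antisymm ((Submodule.finrank_le _).trans_eq (Module.finrank_fintype_fun_eq_card ℤ)) ?_
    have hmem : ∀ e : G → ℤ, ((Fintype.card Q : ℤ) • (LinearMap.id : (G → ℤ) →ₗ[ℤ] (G → ℤ))) e ∈
        LinearMap.ker φ := fun e => by
      rw [LinearMap.mem_ker, LinearMap.smul_apply, map_smul, natCast_zsmul, ← hcard]
      exact card_nsmul_eq_zero'
    have hf : Function.Injective (LinearMap.codRestrict (LinearMap.ker φ) _ hmem) := by
      intro x y hxy
      exact smul_right_injective (G → ℤ) (r := (Fintype.card Q : ℤ))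
        (Int.natCast_ne_zero.2 Fintype.card_ne_zero) (congrArg Subtype.val hxy)
    exact (Module.finrank_fintype_fun_eq_card ℤ (η := G)).symm.trans_le
      (LinearMap.finrank_le_finrank_of_injective hf)
  let bN : Basis G ℤ (LinearMap.ker φ) :=
    (Module.finBasisOfFinrankEq ℤ _ hfin).reindex (Fintype.equivFin G).symm
  refine ⟨fun i j => (bN i : G → ℤ) j, ?_, fun i => ?_⟩
  · rw [← hquot, ← Submodule.natAbs_det_basis_change (Pi.basisFun ℤ G) _ bN, Basis.det_apply,
      ← Matrix.det_transpose]
    rfl
  · rw [← hφ]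
    exact (bN i).2

/-- Elements of the group ring fixed by translation. -/
theorem coeff_of_translation_invariant {Q : Type*} [CommGroup Q] [Fintype Q] [DecidableEq Q]
    (D : MonoidAlgebra ℤ Q) (h : ∀ x : Q, MonoidAlgebra.single x 1 * D = D) :
    ∃ c : ℤ, D = ∑ x, MonoidAlgebra.single x c := by
  refine ⟨D.coeff 1, ?_⟩
  ext y
  have := congrArg (fun f : MonoidAlgebra ℤ Q => f.coeff y) (h y)
  simp only [MonoidAlgebra.coeff_single_mul_apply, one_mul, inv_mul_cancel] at this
  simp [Finsupp.single_apply, this]

set_option maxHeartbeats 1000000 in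
/-- A cocycle into the regular module sums to zero. -/
theorem cocycle_sum_eq_zero {G Q A : Type*} [Group G] [Fintype G] [CommGroup Q] [Fintype Q]
    [AddCommGroup A] (π : G →* Q) (hπ : Function.Surjective π) (hker : π.ker = commutator G)
    (d : G → Q → A) (hd : ∀ g h q, d (g * h) q = d g q + d h (q * π g)) (g : G) :
    ∑ q, d g q = 0 := by
  classical
  let R := MonoidAlgebra ℤ Q
  let : Module R (Q → A) :=
    Module.compHom _ (MonoidAlgebra.lift ℤ (AddMonoid.End (Q → A)) Q (transHom Q A)).toRingHom
  let u : Q → R := fun x => MonoidAlgebra.single x 1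
  have hu : ∀ x y, u (x * y) = u x * u y := fun x y => by simp only [u]; rw [MonoidAlgebra.single_mul_single, mul_one]
  have hu1 : u 1 = 1 := rfl
  have hsmul : ∀ (x : Q) (f : Q → A) (q : Q), (u x • f) q = f (q * x) := by
    intro x f q
    change ((MonoidAlgebra.lift ℤ (AddMonoid.End (Q → A)) Q (transHom Q A)) (u x)) f q = _
    rw [MonoidAlgebra.lift_single, one_smul]
    rfl
  let v : G → (Q → A) × R := fun a => (d a, u (π a) - 1)
  have hv : ∀ a b, v (a * b) = v a + u (π a) • v b := by
    intro a b
    refine Prod.ext (funext fun q => ?_) ?_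
    · simp [v, hd, hsmul]
    · simp [v, hu, mul_sub]
  let aug : R →ₐ[ℤ] ℤ := MonoidAlgebra.lift ℤ ℤ Q 1
  have haug : ∀ x, aug (u x) = 1 := fun x => by
    simp only [aug, u]; rw [MonoidAlgebra.lift_single, one_smul]; rfl
  -- linear combinations of the `v a`, with prescribed augmentations
  let Rep : (Q → A) × R → (G → ℤ) → Prop := fun m e =>
    ∃ μ : G → R, ∑ a, μ a • v a = m ∧ ∀ a, aug (μ a) = e a
  have rep0 : Rep 0 0 := ⟨0, by simp, by simp⟩
  have repadd : ∀ m n e f, Rep m e → Rep n f → Rep (m + n) (e + f) := by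
    rintro m n e f ⟨μ, hμ1, hμ⟩ ⟨ν, hν1, hν⟩
    subst hμ1; subst hν1
    exact ⟨μ + ν, by simp [add_smul, Finset.sum_add_distrib], fun a => by simp [hμ, hν]⟩
  have repsmul : ∀ (r : R) m e, Rep m e → Rep (r • m) (aug r • e) := by
    rintro r m e ⟨μ, hμ1, hμ⟩
    subst hμ1
    exact ⟨r • μ, by simp [Finset.smul_sum, smul_smul], fun a => by simp [hμ]⟩
  have repv : ∀ a, Rep (v a) (Pi.single a 1) := fun a =>
    ⟨Pi.single a 1, by rw [Finset.sum_eq_single a]; · simp
                       · intro b _ hb; simp [hb]
                       · simp, fun b => by by_cases hb : b = a <;> simp [hb]⟩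
  -- elements of the derived subgroup lie in the augmented part
  have hcomm : ∀ z ∈ commutator G, Rep (v z) 0 := by
    intro z hz
    rw [commutator_eq_closure] at hz
    induction hz using Subgroup.closure_induction with
    | mem c hc =>
      obtain ⟨a, b, rfl⟩ := hc
      have h1 : v (a * b) = v (⁅a, b⁆ * (b * a)) := by rw [commutatorElement_def]; group
      rw [hv, hv, hv] at h1
      have h2 : π ⁅a, b⁆ = 1 := MonoidHom.mem_ker.1
        (hker ▸ Subgroup.commutator_mem_commutator (Subgroup.mem_top a) (Subgroup.mem_top b))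
      rw [h2, hu1, one_smul] at h1
      have h3 : v ⁅a, b⁆ = (1 - u (π b)) • v a + (u (π a) - 1) • v b := by
        have : v ⁅a, b⁆ = v a + u (π a) • v b - (v b + u (π b) • v a) := eq_sub_of_add_eq h1.symm
        rw [this, sub_smul, sub_smul, one_smul, one_smul]; abel
      rw [h3]
      have := repadd _ _ _ _ (repsmul (1 - u (π b)) _ _ (repv a)) (repsmul (u (π a) - 1) _ _ (repv b))
      simpa [haug] using this
    | one =>
      have : v 1 = 0 := by simpa [hu1] using (hv 1 1)
      rw [this]; exact rep0
    | mul a b _ _ ha hb =>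
      rw [hv]
      have := repadd _ _ _ _ ha (repsmul (u (π a)) _ _ hb)
      simpa [haug] using this
    | inv a _ ha =>
      have h1 : v a⁻¹ = (- u (π a⁻¹)) • v a := by
        have : v (a⁻¹ * a) = 0 := by
          rw [inv_mul_cancel]; simpa [hu1] using (hv 1 1)
        rw [hv] at this
        rw [neg_smul]; exact eq_neg_of_add_eq_zero_left this
      rw [h1]
      simpa [haug] using repsmul (- u (π a⁻¹)) _ _ ha
  have hzpow : ∀ (a : G) (k : ℤ), Rep (v (a ^ k)) (Pi.single a k) := by
    intro a k
    induction k with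
    | zero =>
      have : v 1 = 0 := by simpa [hu1] using (hv 1 1)
      simpa [this] using rep0
    | succ n ih =>
      rw [zpow_add_one, hv]
      have := repadd _ _ _ _ ih (repsmul (u (π (a ^ (n : ℤ)))) _ _ (repv a))
      simpa [haug, ← Pi.single_add] using this
    | pred n ih =>
      have h1 : v (a ^ (-(n : ℤ) - 1)) = v (a ^ (-(n : ℤ))) + (- u (π (a ^ (-(n : ℤ) - 1)))) • v a := by
        have := hv (a ^ (-(n : ℤ) - 1)) a
        rw [← zpow_add_one, sub_add_cancel] at this
        rw [this, neg_smul, add_neg_cancel_right]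
      rw [h1]
      have := repadd _ _ _ _ ih (repsmul (- u (π (a ^ (-(n : ℤ) - 1)))) _ _ (repv a))
      convert this using 1
      rw [map_neg, haug, neg_one_smul, ← Pi.single_neg, ← Pi.single_add, sub_eq_add_neg]
  obtain ⟨M, hMdet, hMrel⟩ := exists_relation_matrix π hπ
  have hrel : ∀ i : G, Rep 0 (M i) := by
    intro i
    have key : ∀ s : Finset G, ∀ e : G → ℤ, ∃ z : G, π z = (∑ a ∈ s, e a • Additive.ofMul (π a)).toMul ∧
        Rep (v z) (∑ a ∈ s, Pi.single a (e a)) := by
      intro s e
      induction s using Finset.induction_on with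
      | empty =>
        refine ⟨1, by simp, ?_⟩
        have : v 1 = 0 := by simpa [hu1] using (hv 1 1)
        simpa [this] using rep0
      | insert a s ha ih =>
        obtain ⟨z, hz, hrep⟩ := ih
        refine ⟨a ^ e a * z, ?_, ?_⟩
        · simp [Finset.sum_insert ha, hz, map_zpow]
        · rw [hv, Finset.sum_insert ha]
          have := repadd _ _ _ _ (hzpow a (e a)) (repsmul (u (π (a ^ e a))) _ _ hrep)
          simpa [haug] using this
    obtain ⟨z, hz, μ, hμ, hμa⟩ := key Finset.univ (M i)
    have hk := hMrel i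
    have hzk : z ∈ commutator G := by
      rw [← hker, MonoidHom.mem_ker, hz]
      exact congrArg Additive.toMul hk
    obtain ⟨ν, hν, hνa⟩ := hcomm z hzk
    refine ⟨μ - ν, by simp [sub_smul, Finset.sum_sub_distrib, hμ, hν], fun a => ?_⟩
    simp [hμa, hνa]
  choose μ hμ hμa using hrel
  let D : R := Matrix.det (fun i j => μ i j : Matrix G G R)
  have hD : ∀ a, D • v a = 0 := fun a => det_smul_eq_zero _ v hμ a
  have hDaug : (aug D).natAbs = Fintype.card Q := by
    rw [← hMdet]
    congr 1
    exact (AlgHom.map_det aug (Matrix.of fun i j => μ i j)).trans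
      (congrArg Matrix.det (Matrix.ext fun i j => hμa i j))
  have hDtrans : ∀ x : Q, u x * D = D := by
    intro x
    obtain ⟨a, rfl⟩ := hπ x
    have : D • (u (π a) - 1) = 0 := congrArg Prod.snd (hD a)
    rw [smul_eq_mul, mul_sub, mul_one, sub_eq_zero] at this
    rw [mul_comm, this]
  obtain ⟨c, hDeq⟩ := coeff_of_translation_invariant D hDtrans
  have hc : c.natAbs = 1 := by
    have h1 : aug D = (Fintype.card Q : ℤ) * c := by
      rw [hDeq, map_sum,
        Finset.sum_congr rfl (fun x _ => show aug (MonoidAlgebra.single x c) = c by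
          simp only [aug]; rw [MonoidAlgebra.lift_single]; simp)]
      simp
    rw [h1, Int.natAbs_mul, Int.natAbs_natCast] at hDaug
    exact Nat.eq_of_mul_eq_mul_left Fintype.card_pos (by rw [hDaug, mul_one])
  have hfirst : (D • d g) 1 = 0 := by
    have : D • d g = 0 := congrArg Prod.fst (hD g)
    rw [this]; rfl
  have hsum : (D • d g) 1 = c • ∑ q, d g q := by
    have h1 : D = ∑ x, c • u x := by
      rw [hDeq]; exact Finset.sum_congr rfl fun x _ => (by
        have := map_zsmul (MonoidAlgebra.singleAddHom (R := ℤ) x) c 1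
        rw [smul_eq_mul, mul_one] at this
        exact this)
    have h2 : (∑ x, c • u x) • d g = ∑ x, c • (u x • d g) := by
      rw [Finset.sum_smul]
      exact Finset.sum_congr rfl fun x _ => smul_assoc c (u x) (d g)
    rw [h1, h2, Finset.sum_apply, Finset.smul_sum]
    exact Finset.sum_congr rfl fun x _ => by rw [Pi.smul_apply, hsmul, one_mul]
  rcases Int.natAbs_eq_iff.1 hc with h | h <;> rw [hsum, h] at hfirst <;> simpa using hfirst

/-- The principal ideal theorem. -/
theorem result {G : Type*} [Group G] [Finite G] :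
    MonoidHom.transfer (Abelianization.of : ↥(commutator G) →* Abelianization ↥(commutator G)) =
      (1 : G →* Abelianization ↥(commutator G)) := by
  classical
  ext g
  let π : G →* Abelianization G := Abelianization.of
  have hπ : Function.Surjective π := QuotientGroup.mk'_surjective _
  have hker : π.ker = commutator G := QuotientGroup.ker_mk' _
  let := (commutator G).fintypeQuotientOfFiniteIndex
  let T : (commutator G).LeftTransversal := default
  let α := T.2.leftQuotientEquiv
  let β := (g • T).2.leftQuotientEquiv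
  let e : G ⧸ commutator G ≃ Abelianization G := Equiv.refl _
  have hα : ∀ q, π (α q : G) = e q := fun q => α.symm_apply_apply q
  let t : Abelianization G → G := fun q => (α (e.symm q⁻¹) : G)⁻¹
  have ht : ∀ q, π (t q) = q := fun q => by simp only [t, map_inv, hα, Equiv.apply_symm_apply, inv_inv]
  have hmem : ∀ a q, t q * a * (t (q * π a))⁻¹ ∈ commutator G := fun a q => by
    rw [← hker, MonoidHom.mem_ker, map_mul, map_mul, ht, map_inv, ht, mul_inv_cancel]
  let d : G → Abelianization G → Additive (Abelianization (commutator G)) := fun a q =>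
    Additive.ofMul (Abelianization.of ⟨_, hmem a q⟩)
  have hd : ∀ a b q, d (a * b) q = d a q + d b (q * π a) := by
    intro a b q
    simp only [d, ← ofMul_mul, ← map_mul]
    congr 2
    apply Subtype.ext
    simp only [Subgroup.coe_mul, map_mul, mul_assoc]
    group
  let : Fintype (Abelianization G) := Fintype.ofEquiv _ e
  have : Fintype G := Fintype.ofFinite G
  have h0 := cocycle_sum_eq_zero π hπ hker d hd g
  have h1 : ∏ q, Abelianization.of (⟨_, hmem g q⟩ : commutator G) = 1 :=
    Additive.ofMul.injective (by rw [ofMul_prod]; exact h0)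
  rw [MonoidHom.one_apply, MonoidHom.transfer_def _ T, Subgroup.leftTransversals.diff, ← h1]
  refine Fintype.prod_equiv (e.trans (Equiv.inv _)) _ _ fun q => congrArg Abelianization.of (Subtype.ext ?_)
  change (α q : G)⁻¹ * β q = _
  have hβ : (β q : G) = g * α (g⁻¹ • q) := by
    rw [Subgroup.smul_apply_eq_smul_apply_inv_smul]; rfl
  have h2 : e.symm ((e.trans (Equiv.inv _)) q * π g)⁻¹ = g⁻¹ • q := by
    refine QuotientGroup.induction_on q fun a => ?_
    change ((π a)⁻¹ * π g)⁻¹ = π (g⁻¹ * a)
    simp [mul_comm]
  simp only [t, h2, inv_inv]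
  rw [hβ, ← mul_assoc]
  simp

end Cfsg.Agent.S4320
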