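import Cfsg.Statements.S4321
import Cfsg.Agent.Lib.PSingular.Bridge

set_option autoImplicit false
open Cfsg

namespace Cfsg.Agent.S4321

/-- Let `G` be a finite group and `p` a prime not dividing the order of the centre of `G`. Consider the primes dividing the size of some conjugacy class of a `p`-singular element (an element of order divisible by `p`), two of them adjacent when their product divides such a class size. Then any two distinct such primes are joined by a path with at most 3 edges (the graph is connected of diameter at most 3). -/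
theorem result {G : Type*} [Group G] [Finite G] (p : ℕ) [Fact p.Prime]
    (hZ : ¬ p ∣ Nat.card ↥(Subgroup.center G)) (r s : ℕ) (hr : (r.Prime ∧ ∃ x : G, p ∣ orderOf x ∧ r ∣ (Subgroup.centralizer ({x} : Set G)).index)) (hs : (s.Prime ∧ ∃ x : G, p ∣ orderOf x ∧ s ∣ (Subgroup.centralizer ({x} : Set G)).index)) (hrs : r ≠ s) :
    (∃ x : G, p ∣ orderOf x ∧ r * s ∣ (Subgroup.centralizer ({x} : Set G)).index) ∨ (∃ t : ℕ, (t.Prime ∧ ∃ x : G, p ∣ orderOf x ∧ t ∣ (Subgroup.centralizer ({x} : Set G)).index) ∧ t ≠ r ∧ t ≠ s ∧ (∃ x : G, p ∣ orderOf x ∧ r * t ∣ (Subgroup.centralizer ({x} : Set G)).index) ∧ (∃ x : G, p ∣ orderOf x ∧ t * s ∣ (Subgroup.centralizer ({x} : Set G)).index)) ∨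
      (∃ t u : ℕ, (t.Prime ∧ ∃ x : G, p ∣ orderOf x ∧ t ∣ (Subgroup.centralizer ({x} : Set G)).index) ∧ (u.Prime ∧ ∃ x : G, p ∣ orderOf x ∧ u ∣ (Subgroup.centralizer ({x} : Set G)).index) ∧ t ≠ r ∧ u ≠ s ∧ t ≠ u ∧ (∃ x : G, p ∣ orderOf x ∧ r * t ∣ (Subgroup.centralizer ({x} : Set G)).index) ∧ (∃ x : G, p ∣ orderOf x ∧ t * u ∣ (Subgroup.centralizer ({x} : Set G)).index) ∧ (∃ x : G, p ∣ orderOf x ∧ u * s ∣ (Subgroup.centralizer ({x} : Set G)).index)) := by
  classical
  have hub : ∀ x : G, p ∣ orderOf x → ∃ e : G, orderOf e = p ∧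
      (Subgroup.centralizer ({e} : Set G)).index ≠ 1 ∧
      (Subgroup.centralizer ({e} : Set G)).index ∣ (Subgroup.centralizer ({x} : Set G)).index := by
    intro x hx
    refine ⟨x ^ (orderOf x / p), orderOf_pow_orderOf_div (orderOf_pos x).ne' hx, ?_,
      Subgroup.index_dvd_of_le (CfsgLib.PSingular.centralizer_le_pow x _)⟩
    intro h
    rw [Subgroup.index_eq_one, Subgroup.centralizer_eq_top_iff_subset] at h
    refine hZ ?_
    rw [← orderOf_pow_orderOf_div (orderOf_pos x).ne' hx,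
      show x ^ (orderOf x / p) = ((⟨_, h rfl⟩ : Subgroup.center G) : G) from rfl,
      Subgroup.orderOf_coe]
    exact orderOf_dvd_natCard _
  obtain ⟨hrp, x1, hx1, hr1⟩ := hr
  obtain ⟨hsp, x2, hx2, hs2⟩ := hs
  obtain ⟨e1, he1, hn1, hd1⟩ := hub x1 hx1
  obtain ⟨e2, he2, hn2, hd2⟩ := hub x2 hx2
  -- two distinct primes dividing one class size are adjacent
  have hedge : ∀ (t u n : ℕ), t.Prime → u.Prime → t ≠ u → t ∣ n → u ∣ n → t * u ∣ n :=
    fun t u n ht hu htu h1 h2 => ((Nat.coprime_primes ht hu).mpr htu).mul_dvd_of_dvd_of_dvd h1 h2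
  by_cases hco : (Subgroup.centralizer ({e1} : Set G)).index.Coprime
      (Subgroup.centralizer ({e2} : Set G)).index
  · obtain ⟨x, hx, hxa, hxb⟩ : ∃ x : G, p ∣ orderOf x ∧
        ¬ (Subgroup.centralizer ({x} : Set G)).index.Coprime
          (Subgroup.centralizer ({e1} : Set G)).index ∧
        ¬ (Subgroup.centralizer ({x} : Set G)).index.Coprime
          (Subgroup.centralizer ({e2} : Set G)).index := by
      by_contra hcon
      push Not at hcon
      by_cases hp1 : p ∣ (Subgroup.centralizer ({e1} : Set G)).index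
      · refine CfsgLib.PSingular.false_of_no_bridge e2 e1 he2 he1 hn2 hn1 hco.symm
          (fun h => (Fact.out : p.Prime).ne_one (Nat.eq_one_of_dvd_coprimes hco hp1 h))
          fun x hx => ?_
        exact or_iff_not_imp_right.mpr (hcon x hx)
      · refine CfsgLib.PSingular.false_of_no_bridge e1 e2 he1 he2 hn1 hn2 hco hp1 fun x hx => ?_
        exact or_iff_not_imp_left.mpr (hcon x hx)
    obtain ⟨w, hw, hwx, hwa⟩ := Nat.Prime.not_coprime_iff_dvd.mp hxa
    obtain ⟨v, hv, hvx, hvb⟩ := Nat.Prime.not_coprime_iff_dvd.mp hxb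
    have hwv : w ≠ v := fun h => hw.ne_one (Nat.eq_one_of_dvd_coprimes hco hwa (h ▸ hvb))
    have hwv' := hedge w v _ hw hv hwv hwx hvx
    by_cases hwr : w = r
    · subst hwr
      by_cases hvs : v = s
      · subst hvs
        exact Or.inl ⟨x, hx, hwv'⟩
      · exact Or.inr (Or.inl ⟨v, ⟨hv, x, hx, hvx⟩, hwv.symm, hvs, ⟨x, hx, hwv'⟩,
          ⟨x2, hx2, hedge v s _ hv hsp hvs (hvb.trans hd2) hs2⟩⟩)
    · have hrw := hedge r w _ hrp hw (Ne.symm hwr) hr1 (hwa.trans hd1)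
      by_cases hvs : v = s
      · subst hvs
        exact Or.inr (Or.inl ⟨w, ⟨hw, x, hx, hwx⟩, hwr, hwv, ⟨x1, hx1, hrw⟩, ⟨x, hx, hwv'⟩⟩)
      · exact Or.inr (Or.inr ⟨w, v, ⟨hw, x, hx, hwx⟩, ⟨hv, x, hx, hvx⟩, hwr, hvs, hwv,
          ⟨x1, hx1, hrw⟩, ⟨x, hx, hwv'⟩,
          ⟨x2, hx2, hedge v s _ hv hsp hvs (hvb.trans hd2) hs2⟩⟩)
  · obtain ⟨t, ht, hta, htb⟩ := Nat.Prime.not_coprime_iff_dvd.mp hco
    by_cases htr : t = r
    · subst htr
      exact Or.inl ⟨x2, hx2, hedge t s _ ht hsp hrs (htb.trans hd2) hs2⟩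
    by_cases hts : t = s
    · subst hts
      exact Or.inl ⟨x1, hx1, hedge r t _ hrp ht hrs hr1 (hta.trans hd1)⟩
    exact Or.inr (Or.inl ⟨t, ⟨ht, x1, hx1, hta.trans hd1⟩, htr, hts,
      ⟨x1, hx1, hedge r t _ hrp ht (Ne.symm htr) hr1 (hta.trans hd1)⟩,
      ⟨x2, hx2, hedge t s _ ht hsp hts (htb.trans hd2) hs2⟩⟩)

end Cfsg.Agent.S4321
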