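import Cfsg.Statements.S4323
import Cfsg.Agent.Lib.RankTwoFpf.Main

set_option autoImplicit false
open Cfsg

namespace Cfsg.Agent.S4323

/-- Let `q` be a prime and `A` a non-cyclic group of order `q²` acting by automorphisms on a finite group `G` of order prime to `q`, such that the fixed-point subgroup `C_G(a)` is abelian for every non-identity `a ∈ A`. Then `G` is solvable. -/
theorem result {A G : Type*} [Group A] [Finite A]
    [Group G] [Finite G] [MulDistribMulAction A G] (q : ℕ) (hq : q.Prime) (hA : Nat.card A = q ^ 2) (hnc : ¬ IsCyclic A)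
    (hcop : ¬ q ∣ Nat.card G) (h : ∀ a : A, a ≠ 1 → IsMulCommutative ↥(FixedPoints.subgroup (Subgroup.zpowers a) G)) :
    Group.IsSolvable G := by
  haveI := Fact.mk hq
  have hcomm : ∀ a b : A, a * b = b * a := IsPGroup.commutative_of_card_eq_prime_sq (p := q) hA
  have hpow : ∀ a : A, a ^ q = 1 := by
    intro a
    obtain ⟨i, hi, ha⟩ := (Nat.dvd_prime_pow hq).1 (hA ▸ orderOf_dvd_natCard a)
    rcases Nat.lt_or_ge i 2 with h2 | h2
    · exact orderOf_dvd_iff_pow_eq_one.1 (ha ▸ pow_dvd_pow q (Nat.lt_succ_iff.1 h2) |>.trans (pow_one q).dvd)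
    · exact absurd (isCyclic_of_orderOf_eq_card a (by rw [ha, hA, show i = 2 by omega])) hnc
  refine CfsgLib.RankTwoFpf.isSolvable_aux hq hA hnc hcomm hpow _ G rfl hcop fun a ha x y hx hy => ?_
  have hmem : ∀ z : G, a • z = z → z ∈ FixedPoints.subgroup (Subgroup.zpowers a) G := fun z hz b =>
    (CfsgLib.RankTwoFpf.Hyp.smul_eq_of_mem_zpowers (G := G) (a := a) (b := (b : A)) (x := z) b.2 hz :)
  exact congrArg Subtype.val
    ((h a ha).is_comm.comm ⟨x, hmem x hx⟩ ⟨y, hmem y hy⟩)

end Cfsg.Agent.S4323
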