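import Cfsg.Statements.S4325
import Cfsg.Agent.Lib.PermGen.SwapClosure

set_option autoImplicit false
open Pointwise
open Cfsg

namespace Cfsg.Agent.S4325

/-- Few transpositions generate a π-group while the π-radical of the symmetric group is trivial. -/
theorem result (r m : ℕ) (hr : r.Prime)
    (hm : m + 1 < r) (π : Set ℕ) (hπ : ∀ q : ℕ, q.Prime → q < r → q ∈ π) (hrπ : r ∉ π)
    (t : Fin m → Equiv.Perm (Fin r)) (ht : ∀ i, (t i).IsSwap) :
    Cfsg.IsPiSubgroup π (Subgroup.closure (Set.range t)) ∧ Cfsg.piCore π (Equiv.Perm (Fin r)) = ⊥ := by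
  have : Fact r.Prime := ⟨hr⟩
  constructor
  · intro q hq hdvd
    have hfac : q ∣ r.factorial := by
      have := hdvd.trans (Subgroup.card_subgroup_dvd_card _)
      rwa [Nat.card_perm, Nat.card_fin] at this
    rcases lt_or_eq_of_le ((hq.dvd_factorial).1 hfac) with hlt | rfl
    · exact hπ q hq hlt
    exfalso
    obtain ⟨g, hg⟩ := exists_prime_orderOf_dvd_card' q hdvd
    obtain ⟨col, hcol, hcard⟩ := CfsgLib.PermGen.exists_swap_colouring (List.ofFn t)
      (by simp [List.mem_ofFn', ht])
    have hinv := CfsgLib.PermGen.colouring_invariant_closure col (Set.range t)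
      (by rintro s ⟨i, rfl⟩; exact hcol _ (by simp [List.mem_ofFn'])) g.2
    have horder : orderOf (g : Equiv.Perm (Fin q)) = q := by rw [Subgroup.orderOf_coe, hg]
    have hcyc : (g : Equiv.Perm (Fin q)).IsCycle :=
      Equiv.Perm.isCycle_of_prime_order' (by rw [horder]; exact hr) (by simp [horder]; have := hr.two_le; omega)
    have hsupp : (g : Equiv.Perm (Fin q)).support = Finset.univ :=
      Finset.eq_univ_of_card _ (by rw [← hcyc.orderOf, horder, Fintype.card_fin])
    have hone : (Finset.univ.image col).card ≤ 1 := by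
      refine Finset.card_le_one.2 fun u hu v hv => ?_
      obtain ⟨x, -, rfl⟩ := Finset.mem_image.1 hu
      obtain ⟨y, -, rfl⟩ := Finset.mem_image.1 hv
      have hmem : ∀ z, (g : Equiv.Perm (Fin q)) z ≠ z := fun z =>
        Equiv.Perm.mem_support.1 (hsupp ▸ Finset.mem_univ z)
      obtain ⟨i, hi⟩ := hcyc.exists_zpow_eq (hmem x) (hmem y)
      rw [← hi]
      exact (CfsgLib.PermGen.colouring_invariant_closure col (Set.range t)
        (by rintro s ⟨j, rfl⟩; exact hcol _ (by simp [List.mem_ofFn']))
        (Subgroup.zpow_mem _ g.2 i) x).symm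
    rw [List.length_ofFn, Fintype.card_fin] at hcard
    omega
  · rw [Cfsg.piCore, sSup_eq_bot]
    rintro N ⟨hN, hNπ⟩
    by_contra hne
    obtain ⟨g, hgN, hg1⟩ := (N.bot_or_exists_ne_one).resolve_left hne
    obtain ⟨a, ha⟩ : ∃ a, g a ≠ a := by
      by_contra hc
      push Not at hc
      exact hg1 (Equiv.ext hc)
    have horb : MulAction.orbit N a = Set.univ := by
      refine Set.eq_univ_of_forall fun c => ?_
      by_cases hca : c = a
      · rw [hca]; exact MulAction.mem_orbit_self a
      refine ⟨⟨Equiv.swap (g a) c * g * (Equiv.swap (g a) c)⁻¹, hN.conj_mem g hgN _⟩, ?_⟩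
      simp [Subgroup.smul_def, Equiv.swap_apply_of_ne_of_ne ha.symm (Ne.symm hca)]
    apply hrπ
    apply hNπ r hr
    have h := MulAction.index_stabilizer N a
    rw [horb, Set.ncard_univ, Nat.card_fin] at h
    have h2 := Subgroup.index_dvd_card (MulAction.stabilizer N a)
    rwa [h] at h2

end Cfsg.Agent.S4325
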