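import Cfsg.Statements.S4326

set_option autoImplicit false
open Pointwise
open Cfsg

namespace Cfsg.Agent.S4326

/-- Conjugate of a fixed-point subgroup normalized but not centralized. -/
theorem result {G : Type*} [Group G] [Finite G]
    (p : ℕ) [Fact p.Prime] (x : MulAut G) (hx : ∃ k : ℕ, orderOf x = p ^ k) (M : Subgroup G)
    (hM : ∀ g : G, g ∈ M ↔ x g = g) (hp : p ∣ M.index)
    (hself : Subgroup.normalizer (M : Set G) = M ∨ Subgroup.center M = ⊥) :
    ∃ g : G, (∀ y ∈ MulAut.conj g • M, x y ∈ MulAut.conj g • M) ∧ ∃ y ∈ MulAut.conj g • M, x y ≠ y := by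
  obtain ⟨k, hk⟩ := hx
  have hinv : ∀ z : Subgroup.zpowers x, ∀ g : G, g ∈ M → (z : MulAut G) g = g := by
    intro z g hg
    have : Subgroup.zpowers x ≤ MulAction.stabilizer (MulAut G) g :=
      Subgroup.zpowers_le.2 ((hM g).1 hg)
    exact this z.2
  let : MulAction (Subgroup.zpowers x) (G ⧸ M) :=
    { smul := fun z => Quotient.map' (fun g => (z : MulAut G) g) (by
        intro a b hab
        rw [QuotientGroup.leftRel_apply] at hab ⊢
        rw [← map_inv, ← map_mul, hinv z _ hab]
        exact hab)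
      one_smul := fun q => Quotient.inductionOn' q fun g => rfl
      mul_smul := fun a b q => Quotient.inductionOn' q fun g => rfl }
  have hP : IsPGroup p (Subgroup.zpowers x) :=
    IsPGroup.of_card (by rw [Nat.card_zpowers, hk])
  have h1 : ((1 : G) : G ⧸ M) ∈ MulAction.fixedPoints (Subgroup.zpowers x) (G ⧸ M) := by
    intro z
    exact congrArg QuotientGroup.mk (map_one (z : MulAut G))
  obtain ⟨q, hq, hne⟩ := hP.exists_fixed_point_of_prime_dvd_card_of_fixed_point (G ⧸ M)
    (by rw [← Subgroup.index_eq_card]; exact hp) h1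
  induction q using QuotientGroup.induction_on with
  | _ g =>
  have hgM : g ∉ M := by
    intro hg
    exact hne (QuotientGroup.eq.2 (by simpa using hg))
  have hm : g⁻¹ * x g ∈ M := by
    have h2 : ((x g : G) : G ⧸ M) = (g : G ⧸ M) := hq ⟨x, Subgroup.mem_zpowers x⟩
    exact QuotientGroup.eq.1 h2.symm
  set m := g⁻¹ * x g with hmdef
  have hxg : x g = g * m := by rw [hmdef]; group
  have hxy : ∀ y ∈ M, x (g * y * g⁻¹) = g * (m * y * m⁻¹) * g⁻¹ := by
    intro y hy
    rw [map_mul, map_mul, map_inv, hxg, (hM y).1 hy]; group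
  have mem : ∀ y : G, y ∈ MulAut.conj g • M ↔ ∃ z ∈ M, g * z * g⁻¹ = y := by
    intro y
    simp [Subgroup.mem_pointwise_smul_iff_inv_smul_mem, MulAut.smul_def]
    constructor
    · intro h; exact ⟨g⁻¹ * y * g, h, by group⟩
    · rintro ⟨z, hz, rfl⟩
      have : g⁻¹ * (g * z * g⁻¹) * g = z := by group
      rw [this]; exact hz
  refine ⟨g, ?_, ?_⟩
  · intro y hy
    obtain ⟨z, hz, rfl⟩ := (mem y).1 hy
    exact (mem _).2 ⟨m * z * m⁻¹, M.mul_mem (M.mul_mem hm hz) (M.inv_mem hm), (hxy z hz).symm⟩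
  · by_contra hcon
    push Not at hcon
    have hfix : ∀ z ∈ M, g * z * g⁻¹ ∈ M ∧ x (g * z * g⁻¹) = g * z * g⁻¹ := fun z hz =>
      ⟨(hM _).2 (hcon _ ((mem _).2 ⟨z, hz, rfl⟩)), hcon _ ((mem _).2 ⟨z, hz, rfl⟩)⟩
    rcases hself with hN | hZ
    · apply hgM
      rw [← hN]
      rw [Subgroup.mem_normalizer_iff_map_conj_eq]
      refine Subgroup.eq_of_le_of_card_ge ?_
        (le_of_eq (Subgroup.card_map_of_injective (MulEquiv.injective _)).symm)
      rintro y ⟨z, hz, rfl⟩
      exact (hfix z hz).1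
    · have hmc : (⟨m, hm⟩ : M) ∈ Subgroup.center M := by
        rw [Subgroup.mem_center_iff]
        intro z
        apply Subtype.ext
        have h3 := (hxy z z.2).symm.trans (hfix z z.2).2
        have h4 : m * (z : G) * m⁻¹ = z := mul_left_cancel (mul_right_cancel h3)
        change (z : G) * m = m * z
        calc (z : G) * m = m * z * m⁻¹ * m := by rw [h4]
          _ = m * z := by group
      rw [hZ, Subgroup.mem_bot] at hmc
      have : m = 1 := congrArg Subtype.val hmc
      exact hgM ((hM g).2 (by rw [hxg, this, mul_one]))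

end Cfsg.Agent.S4326
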