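import Cfsg.Statements.S4330
import Cfsg.Agent.Lib.PFixCover.Main
import Cfsg.Agent.Lib.Solvable.Core
import Cfsg.Agent.Lib.Components.Subnormal

set_option autoImplicit false
open Cfsg
open scoped Pointwise

namespace Cfsg.Agent.S4330

universe u

/-- The hypothesis passes to a quotient. -/
theorem hyp_quotient {G : Type*} [Group G] (N : Subgroup G) [N.Normal] (A : Subgroup G)
    (h : ∀ c : G, ∃ g : G, IsConj c g ∧ (A.subgroupOf (A ⊔ MulAut.conj g • A)).IsSubnormal)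
    (c : G ⧸ N) : ∃ g : G ⧸ N, IsConj c g ∧
      ((A.map (QuotientGroup.mk' N)).subgroupOf
        (A.map (QuotientGroup.mk' N) ⊔ MulAut.conj g • A.map (QuotientGroup.mk' N))).IsSubnormal := by
  obtain ⟨c, rfl⟩ := QuotientGroup.mk'_surjective N c
  obtain ⟨g, hcg, hsn⟩ := h c
  refine ⟨QuotientGroup.mk' N g, (QuotientGroup.mk' N).map_isConj hcg, ?_⟩
  set π := QuotientGroup.mk' N with hπ
  set J := A ⊔ MulAut.conj g • A with hJ
  have hJmap : J.map π = A.map π ⊔ MulAut.conj (π g) • A.map π := by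
    rw [hJ, Subgroup.map_sup]
    congr 1
    ext x
    constructor
    · rintro ⟨_, ⟨a, ha, rfl⟩, rfl⟩
      exact ⟨π a, ⟨a, ha, rfl⟩, (by simp : π g * π a * (π g)⁻¹ = π (g * a * g⁻¹))⟩
    · rintro ⟨_, ⟨a, ha, rfl⟩, rfl⟩
      exact ⟨g * a * g⁻¹, ⟨a, ha, rfl⟩, (by simp : π (g * a * g⁻¹) = π g * π a * (π g)⁻¹)⟩
  rw [← hJmap]
  have h1 := hsn.map (f := π.subgroupMap J) (π.subgroupMap_surjective J)
  have heq : (A.subgroupOf J).map (π.subgroupMap J) = (A.map π).subgroupOf (J.map π) := by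
    ext x
    constructor
    · rintro ⟨a, ha, rfl⟩
      exact ⟨a, ha, rfl⟩
    · rintro ⟨a, ha, hax⟩
      exact ⟨⟨a, Subgroup.mem_sup_left ha⟩, ha, Subtype.ext hax⟩
  rwa [heq] at h1

theorem reduce : ∀ (m : ℕ) (G : Type u) [Group G] [Finite G], Nat.card G = m → Group.IsSolvable G →
    ∀ (p : ℕ) [Fact p.Prime], p ≠ 2 → ∀ A : Subgroup G, IsPGroup p A →
      (∀ c : G, ∃ g : G, IsConj c g ∧ (A.subgroupOf (A ⊔ MulAut.conj g • A)).IsSubnormal) →
      A ≤ Cfsg.pCore p G := by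
  intro m
  induction m using Nat.strong_induction_on with
  | _ m ih =>
  intro G _ _ hm hG p _ hp A hA h
  by_cases hA1 : A = ⊥
  · rw [hA1]; exact bot_le
  have hne : (⊤ : Subgroup G) ≠ ⊥ := fun e => hA1 (le_bot_iff.1 (e ▸ le_top))
  obtain ⟨N, hNn, hNne, -, hNmin⟩ := CfsgLib.Solvable.exists_minimal_normal_le (⊤ : Subgroup G) hne
  obtain ⟨hNc, q, hq, hNq⟩ := CfsgLib.Solvable.minimal_normal_elementary_abelian N hNne hNmin
  set π := QuotientGroup.mk' N with hπ
  have hlt : Nat.card (G ⧸ N) < m := by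
    rw [← hm, Subgroup.card_eq_card_quotient_mul_card_subgroup N]
    exact lt_mul_of_one_lt_right Nat.card_pos ((Subgroup.one_lt_card_iff_ne_bot N).2 hNne)
  have hAq := ih _ hlt (G ⧸ N) rfl inferInstance p hp (A.map π) (hA.map π) (hyp_quotient N A h)
  set M := (Cfsg.pCore p (G ⧸ N)).comap π with hM
  have hPn : (Cfsg.pCore p (G ⧸ N)).Normal := CfsgLib.Solvable.pCore_normal p (G ⧸ N)
  have hMn : M.Normal := hPn.comap π
  have hAM : A ≤ M := Subgroup.map_le_iff_le_comap.1 hAq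
  by_cases hqp : q = p
  · -- `M` is a `p`-group
    subst hqp
    refine hAM.trans (CfsgLib.Components.le_pCore_of_normal hMn ?_)
    refine IsPGroup.comap_of_ker_isPGroup (CfsgLib.Components.isPGroup_pCore q) π ?_
    rw [hπ, QuotientGroup.ker_mk']
    exact fun x => ⟨1, Subtype.ext (by rw [pow_one]; exact hNq x x.2)⟩
  have hpp : p.Prime := Fact.out
  have hNp : ¬ p ∣ Nat.card N := by
    intro hd
    obtain ⟨x, hx⟩ := exists_prime_orderOf_dvd_card' p hd
    have h2 : orderOf x ∣ q := orderOf_dvd_of_pow_eq_one (Subtype.ext (hNq x x.2))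
    rw [hx] at h2
    exact hqp ((Nat.prime_dvd_prime_iff_eq hpp hq).1 h2).symm
  let _ : CommGroup N := { (inferInstance : Group N) with mul_comm := hNc.is_comm.comm }
  let φ : G →* MulAut N := MulAut.conjNormal
  have hφ : ∀ g x, ((φ g x : N) : G) = g * (x : G) * g⁻¹ := fun g x => MulAut.conjNormal_apply g x
  have hπM : ∀ x ∈ M, ∃ k : ℕ, x ^ p ^ k ∈ N := by
    intro x hx
    obtain ⟨k, hk⟩ := CfsgLib.Components.isPGroup_pCore p ⟨π x, hx⟩
    refine ⟨k, (QuotientGroup.eq_one_iff _).1 ?_⟩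
    have := congrArg Subtype.val hk
    simpa [hπ] using this
  -- the image of `M` acts as a `p`-group
  have hMimg : IsPGroup p (M.map φ) := by
    rintro ⟨_, x, hx, rfl⟩
    obtain ⟨k, hk⟩ := hπM x hx
    refine ⟨k, Subtype.ext ?_⟩
    rw [Subgroup.coe_pow, Subgroup.coe_one]
    change φ x ^ p ^ k = 1
    rw [← map_pow]
    refine MulEquiv.ext fun y => Subtype.ext ?_
    rw [hφ]
    have := congrArg Subtype.val (hNc.is_comm.comm ⟨x ^ p ^ k, hk⟩ y)
    change x ^ p ^ k * (y : G) = y * x ^ p ^ k at this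
    change x ^ p ^ k * (y : G) * (x ^ p ^ k)⁻¹ = y
    rw [this, mul_inv_cancel_right]
  by_cases hcent : ∀ a ∈ A, φ a = 1
  · -- `A` centralises `N`
    let C := M ⊓ φ.ker
    have hCn : C.Normal := Subgroup.normal_inf_normal M φ.ker
    have hNC : N ≤ C := by
      intro x hx
      refine ⟨by change π x ∈ Cfsg.pCore p (G ⧸ N); rw [hπ, QuotientGroup.mk'_apply, (QuotientGroup.eq_one_iff x).2 hx]; exact one_mem _,
        MonoidHom.mem_ker.2 (MulEquiv.ext fun y => Subtype.ext ?_)⟩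
      rw [hφ]
      have := congrArg Subtype.val (hNc.is_comm.comm ⟨x, hx⟩ y)
      change x * (y : G) = y * x at this
      change x * (y : G) * x⁻¹ = y
      rw [this, mul_inv_cancel_right]
    have hnil : Group.IsNilpotent C := by
      let f : C →* G ⧸ N := π.comp C.subtype
      have hker : f.ker ≤ Subgroup.center C := by
        intro x hx
        have hxN : (x : G) ∈ N := (QuotientGroup.eq_one_iff _).1 (MonoidHom.mem_ker.1 hx)
        refine Subgroup.mem_center_iff.2 fun y => Subtype.ext ?_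
        have h1 := congrArg (fun e : MulAut N => ((e ⟨x, hxN⟩ : N) : G)) (MonoidHom.mem_ker.1 y.2.2)
        have h2 : (y : G) * x * (y : G)⁻¹ = x := h1
        exact mul_inv_eq_iff_eq_mul.1 h2
      have hr : IsPGroup p f.range := by
        rintro ⟨_, x, rfl⟩
        obtain ⟨k, hk⟩ := hπM x x.2.1
        refine ⟨k, Subtype.ext ?_⟩
        rw [Subgroup.coe_pow, Subgroup.coe_one]
        change π (x : G) ^ p ^ k = 1
        rw [← map_pow]
        exact (QuotientGroup.eq_one_iff _).2 hk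
      have := hr.isNilpotent
      exact Subgroup.isNilpotent_of_ker_le_center f.rangeRestrict (by rw [MonoidHom.ker_rangeRestrict]; exact hker)
    have hAC : A ≤ C := fun a ha => ⟨hAM ha, MonoidHom.mem_ker.2 (hcent a ha)⟩
    obtain ⟨P, hP⟩ := (hA.of_equiv (Subgroup.subgroupOfEquivOfLe hAC).symm).exists_le_sylow
    have hPn' : (P : Subgroup C).Normal := inferInstance
    have hchar : (P : Subgroup C).Characteristic := Sylow.characteristic_of_normal P hPn'
    refine le_trans ?_ (CfsgLib.Components.le_pCore_of_normal (N := (P : Subgroup C).map C.subtype)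
      inferInstance (P.isPGroup'.map _))
    exact fun a ha => ⟨⟨a, hAC ha⟩, hP ha, rfl⟩
  exfalso
  push Not at hcent
  obtain ⟨a0, ha0, hφa0⟩ := hcent
  obtain ⟨a, ha, hap, ha1⟩ : ∃ a ∈ A, φ a ^ p = 1 ∧ φ a ≠ 1 := by
    obtain ⟨k, hk⟩ : ∃ k, φ a0 ^ p ^ k = 1 := by
      obtain ⟨k, hk⟩ := hA ⟨a0, ha0⟩
      exact ⟨k, by rw [← map_pow, show a0 ^ p ^ k = 1 from congrArg Subtype.val hk, map_one]⟩
    classical
    have hex : ∃ k, φ a0 ^ p ^ k = 1 := ⟨k, hk⟩
    have hk0 : Nat.find hex ≠ 0 := fun e => hφa0 (by simpa [e] using Nat.find_spec hex)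
    obtain ⟨j, hj⟩ : ∃ j, Nat.find hex = j + 1 := ⟨Nat.find hex - 1, by omega⟩
    refine ⟨a0 ^ p ^ j, pow_mem ha0 _, ?_, ?_⟩
    · rw [map_pow, ← pow_mul, ← pow_succ, ← hj]; exact Nat.find_spec hex
    · rw [map_pow]; exact Nat.find_min hex (by omega)
  have hpg : IsPGroup p (Subgroup.closure {c | ∃ l ∈ φ.range, c = l * φ a * l⁻¹}) := by
    refine hMimg.to_le ((Subgroup.closure_le _).2 ?_)
    rintro _ ⟨_, ⟨g, rfl⟩, rfl⟩
    exact ⟨g * a * g⁻¹, hMn.conj_mem a (hAM ha) g, by simp⟩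
  obtain ⟨v, hv⟩ := CfsgLib.PFixCover.exists_vector hp hNp φ.range ⟨a, rfl⟩ hap ha1 hpg
  obtain ⟨g, hcg, hsn⟩ := h (v : G)
  obtain ⟨y, hy⟩ := isConj_iff.1 hcg
  have hgN : g ∈ N := hy ▸ hNn.conj_mem _ v.2 y
  set J := A ⊔ MulAut.conj g • A with hJ
  have haJ : a ∈ J := Subgroup.mem_sup_left ha
  have hcJ : g * a * g⁻¹ ∈ J := Subgroup.mem_sup_right (Subgroup.smul_mem_pointwise_smul a (MulAut.conj g) A ha)
  have hcore : A.subgroupOf J ≤ Cfsg.pCore p J := CfsgLib.Components.le_pCore_of_isSubnormal hsn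
    (hA.of_equiv (Subgroup.subgroupOfEquivOfLe le_sup_left).symm)
  obtain ⟨t, ht⟩ : ∃ t, t = a * g * a⁻¹ * g⁻¹ := ⟨_, rfl⟩
  have htN : t ∈ N := by rw [ht]; exact mul_mem (hNn.conj_mem g hgN a) (inv_mem hgN)
  have htJ : t ∈ J := by
    rw [show t = a * (g * a * g⁻¹)⁻¹ by rw [ht]; group]
    exact mul_mem haJ (inv_mem hcJ)
  have hat : a * t * a⁻¹ = t := by
    have hPn' : (Cfsg.pCore p J).Normal := CfsgLib.Solvable.pCore_normal p J
    have haP : (⟨a, haJ⟩ : J) ∈ Cfsg.pCore p J := hcore ha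
    set d : J := ⟨a, haJ⟩ * ⟨t, htJ⟩ * ⟨a, haJ⟩⁻¹ * ⟨t, htJ⟩⁻¹ with hd
    have hdP : d ∈ Cfsg.pCore p J := by
      rw [hd, show (⟨a, haJ⟩ : J) * ⟨t, htJ⟩ * ⟨a, haJ⟩⁻¹ * ⟨t, htJ⟩⁻¹ =
        ⟨a, haJ⟩ * (⟨t, htJ⟩ * (⟨a, haJ⟩ : J)⁻¹ * (⟨t, htJ⟩ : J)⁻¹) by group]
      exact mul_mem haP (hPn'.conj_mem _ (inv_mem haP) _)
    have hdN : (d : G) ∈ N := mul_mem (hNn.conj_mem t htN a) (inv_mem htN)
    obtain ⟨k, hk⟩ := CfsgLib.Components.isPGroup_pCore p ⟨d, hdP⟩
    have hk' : (⟨(d : G), hdN⟩ : N) ^ p ^ k = 1 := by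
      refine Subtype.ext ?_
      have := congrArg (fun e : Cfsg.pCore p J => ((e : J) : G)) hk
      simpa using this
    have hd1 : (⟨(d : G), hdN⟩ : N) = 1 := CfsgLib.PFixCover.eq_one_of_pow hNp hk'
    have : a * t * a⁻¹ * t⁻¹ = 1 := congrArg Subtype.val hd1
    rwa [mul_inv_eq_one] at this
  let gN : N := ⟨g, hgN⟩
  let tN : N := ⟨t, htN⟩
  have hφt : φ a tN = tN := Subtype.ext (by rw [hφ]; exact hat)
  have hφg : φ a gN = tN * gN := Subtype.ext (by
    rw [hφ]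
    change a * g * a⁻¹ = t * g
    rw [ht]; group)
  have hiter : ∀ i : ℕ, (φ a ^ i) gN = tN ^ i * gN := by
    intro i
    induction i with
    | zero => simp
    | succ i ih => rw [pow_succ', MulAut.mul_apply, ih, map_mul, map_pow, hφt, hφg, pow_succ, mul_assoc]
  have ht1 : tN = 1 := by
    refine CfsgLib.PFixCover.eq_one_of_pow hNp (k := 1) ?_
    have := hiter p
    rw [hap, MulAut.one_apply, eq_comm, mul_eq_right] at this
    rwa [pow_one]
  rw [ht1, one_mul] at hφg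
  refine hv (φ y⁻¹) ⟨y⁻¹, rfl⟩ ?_
  have hφy : φ y v = gN := Subtype.ext (by rw [hφ]; exact hy)
  rw [map_inv, inv_inv, MulAut.mul_apply, MulAut.mul_apply, hφy, hφg, ← hφy]
  exact (φ y).symm_apply_apply v

/-- Let G be a finite solvable group, p an odd prime and A a p-subgroup of G such that every conjugacy class of G contains an element g for which A is subnormal in the subgroup generated by A and its conjugate by g. Then A is contained in O_p(G). (The hypothesis that p is odd is needed.) -/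
theorem result {G : Type*} [Group G] [Finite G]
    (hG : Group.IsSolvable G) (p : ℕ) [Fact p.Prime] (hp : p ≠ 2) (A : Subgroup G) (hA : IsPGroup p A)
    (h : ∀ c : G, ∃ g : G, IsConj c g ∧ (A.subgroupOf (A ⊔ MulAut.conj g • A)).IsSubnormal) :
    A ≤ Cfsg.pCore p G :=
  reduce _ G rfl hG p hp A hA h

end Cfsg.Agent.S4330
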