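import Cfsg.Statements.S4331

set_option autoImplicit false
set_option maxRecDepth 2000
open Pointwise
open Cfsg

namespace Cfsg.Agent.S4331

open Matrix

abbrev K := ZMod 3
abbrev V := Fin 2 → K
abbrev L := GL (Fin 2) K

/-- The action of GL(2,3) on its natural module, as automorphisms. -/
def actHom : L →* MulAut (Multiplicative V) where
  toFun g :=
    { toFun := fun v => Multiplicative.ofAdd ((g : Matrix (Fin 2) (Fin 2) K) *ᵥ v.toAdd)
      invFun := fun v => Multiplicative.ofAdd (((g⁻¹ : L) : Matrix (Fin 2) (Fin 2) K) *ᵥ v.toAdd)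
      left_inv := fun v => by
        change Multiplicative.ofAdd (((g⁻¹ : L) : Matrix (Fin 2) (Fin 2) K) *ᵥ
          ((g : Matrix (Fin 2) (Fin 2) K) *ᵥ v.toAdd)) = v
        rw [mulVec_mulVec, ← Units.val_mul, inv_mul_cancel, Units.val_one, one_mulVec,
          ofAdd_toAdd]
      right_inv := fun v => by
        change Multiplicative.ofAdd ((g : Matrix (Fin 2) (Fin 2) K) *ᵥ
          (((g⁻¹ : L) : Matrix (Fin 2) (Fin 2) K) *ᵥ v.toAdd)) = v
        rw [mulVec_mulVec, ← Units.val_mul, mul_inv_cancel, Units.val_one, one_mulVec,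
          ofAdd_toAdd]
      map_mul' := fun v w => by rw [toAdd_mul, mulVec_add, ofAdd_add] }
  map_one' := MulEquiv.ext fun v =>
    (congrArg Multiplicative.ofAdd (one_mulVec v.toAdd)).trans (ofAdd_toAdd v)
  map_mul' g h := MulEquiv.ext fun v =>
    (congrArg Multiplicative.ofAdd (mulVec_mulVec v.toAdd _ _).symm)

/-- A reflection of the plane. -/
def refl₀ : L :=
  ⟨!![1, 0; 0, -1], !![1, 0; 0, -1], by decide, by decide⟩

theorem fix_e_cases (h : L) (h16 : h ^ 16 = 1)
    (he : (h : Matrix (Fin 2) (Fin 2) K) *ᵥ ![1, 0] = ![1, 0]) :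
    ((h : Matrix (Fin 2) (Fin 2) K) 1 1 = 1 ∨ (h : Matrix (Fin 2) (Fin 2) K) 1 1 = -1) ∧
      (h : Matrix (Fin 2) (Fin 2) K) 0 0 = 1 ∧ (h : Matrix (Fin 2) (Fin 2) K) 1 0 = 0 ∧
      ((h : Matrix (Fin 2) (Fin 2) K) 1 1 = 1 → (h : Matrix (Fin 2) (Fin 2) K) 0 1 = 0) := by
  have key : ∀ b d : K, (!![1, b; 0, d] : Matrix (Fin 2) (Fin 2) K) ^ 16 = 1 →
      (d = 1 ∨ d = -1) ∧ (d = 1 → b = 0) := by decide +kernel
  have h0 := congrFun he 0
  have h1 := congrFun he 1
  simp [mulVec, dotProduct, Fin.sum_univ_two] at h0 h1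
  have hM : (h : Matrix (Fin 2) (Fin 2) K) =
      !![1, (h : Matrix (Fin 2) (Fin 2) K) 0 1; 0, (h : Matrix (Fin 2) (Fin 2) K) 1 1] := by
    ext i j
    fin_cases i <;> fin_cases j <;> simp [h0, h1]
  have h2 : ((h : Matrix (Fin 2) (Fin 2) K)) ^ 16 = 1 := by
    rw [← Units.val_pow_eq_pow_val, h16]; rfl
  rw [hM] at h2
  exact ⟨(key _ _ h2).1, h0, h1, (key _ _ h2).2⟩

theorem refl₀_fix : (refl₀ : Matrix (Fin 2) (Fin 2) K) *ᵥ ![1, 0] = ![1, 0] := by decide +kernel

theorem refl₀_split : ∀ v : V,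
    (refl₀ : Matrix (Fin 2) (Fin 2) K) *ᵥ (-(v + (refl₀ : Matrix (Fin 2) (Fin 2) K) *ᵥ v)) =
      -(v + (refl₀ : Matrix (Fin 2) (Fin 2) K) *ᵥ v) ∧
    v + v - (refl₀ : Matrix (Fin 2) (Fin 2) K) *ᵥ v =
      -(v + (refl₀ : Matrix (Fin 2) (Fin 2) K) *ᵥ v) := by decide +kernel

theorem card_nonzero : Fintype.card {v : V // v ≠ 0} = 8 := by decide +kernel

theorem refl₀_moves :
    (refl₀ : Matrix (Fin 2) (Fin 2) K) *ᵥ ![0, 1] + -(![0, 1] : V) = ![0, 1] := by decide +kernel

theorem u₀_facts : (Multiplicative.ofAdd (![0, 1] : V)) ^ 3 = 1 ∧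
    Multiplicative.ofAdd (![0, 1] : V) ≠ 1 := by decide +kernel

theorem commute_inr {N H : Type*} [Group N] [Group H] {φ : H →* MulAut N} {h k : H} {w : N}
    (hw : φ h w = w) (hk : h * k = k * h) :
    Commute (SemidirectProduct.inr h : SemidirectProduct N H φ) ⟨w, k⟩ := by
  refine SemidirectProduct.ext ?_ hk
  change 1 * φ h w = w * φ k 1
  rw [one_mul, hw, map_one, mul_one]

theorem commutator_inr_inl {N H : Type*} [Group N] [Group H] {φ : H →* MulAut N} (h : H) (w : N) :
    (SemidirectProduct.inr h : SemidirectProduct N H φ) * SemidirectProduct.inl w *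
      (SemidirectProduct.inr h)⁻¹ * (SemidirectProduct.inl w)⁻¹ = SemidirectProduct.inl (φ h w * w⁻¹) := by
  rw [map_mul, map_inv, SemidirectProduct.inl_aut, map_inv]

theorem subnormal_of_commute {G : Type*} [Group G] {a b : G} (h : Commute a b) :
    ((Subgroup.zpowers a).subgroupOf (Subgroup.zpowers a ⊔ Subgroup.zpowers b)).IsSubnormal := by
  apply Subgroup.Normal.isSubnormal
  apply Subgroup.normal_subgroupOf_of_le_normalizer
  refine sup_le Subgroup.le_normalizer (Subgroup.zpowers_le.2 ?_)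
  rw [Subgroup.mem_normalizer_iff_map_conj_eq, MonoidHom.map_zpowers]
  change Subgroup.zpowers (b * a * b⁻¹) = _
  rw [h.symm.eq, mul_inv_cancel_right]

theorem isSubnormal_of_isPGroup {G : Type*} [Group G] [Finite G] {p : ℕ} [Fact p.Prime]
    (hG : IsPGroup p G) (A : Subgroup G) : A.IsSubnormal := by
  have : Group.IsNilpotent G := hG.isNilpotent
  induction A using WellFoundedGT.induction with
  | _ A ih =>
    by_cases hA : A = ⊤
    · exact hA ▸ .top
    · exact Subgroup.IsSubnormal.step A _ Subgroup.le_normalizer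
        (ih _ (Group.normalizerCondition_of_isNilpotent A (lt_top_iff_ne_top.2 hA)))
        Subgroup.normal_in_normalizer

/-- The odd-prime criteria fail at the prime 2. -/
theorem result :
    ∃ (G : Type) (_ : Group G) (_ : Finite G) (A : Subgroup G), Group.IsSolvable G ∧ Nat.card A = 2 ∧
      (∀ c : G, ∃ g : G, IsConj c g ∧ (A.subgroupOf (A ⊔ Subgroup.zpowers g)).IsSubnormal) ∧
      ¬ A ≤ Cfsg.pCore 2 G := by
  classical
  have : Fact (Nat.Prime 2) := ⟨Nat.prime_two⟩
  have : Fact (Nat.Prime 3) := ⟨Nat.prime_three⟩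
  let a₀ : L := refl₀
  have ha2 : a₀ ^ 2 = 1 := Units.ext (by decide)
  have haord : orderOf a₀ = 2 := orderOf_eq_prime ha2 (fun h => absurd (congrArg Units.val h) (by decide))
  obtain ⟨S, hS⟩ := (IsPGroup.of_card (p := 2) (n := 1) (G := Subgroup.zpowers a₀)
    (by rw [Nat.card_zpowers, haord, pow_one])).exists_le_sylow
  let H : Subgroup L := S
  have haH : a₀ ∈ H := hS (Subgroup.mem_zpowers _)
  have hHcard : Nat.card H = 16 := by
    rw [Sylow.card_eq_multiplicity, Matrix.card_GL_field]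
    simp [Fin.prod_univ_two]
    rw [show (48 : ℕ) = 2 ^ 4 * 3 by norm_num, Nat.factorization_mul (by norm_num) (by norm_num),
      Finsupp.add_apply, Nat.prime_two.factorization_pow, Finsupp.single_eq_same,
      Nat.prime_three.factorization, Finsupp.single_eq_of_ne (by norm_num)]
    norm_num
  have h16 : ∀ h ∈ H, h ^ 16 = 1 := fun h hh => by
    have := pow_card_eq_one' (x := (⟨h, hh⟩ : H))
    rw [hHcard] at this
    exact congrArg Subtype.val this
  let e : V := ![1, 0]
  have hstab : ∀ h ∈ H, (h : Matrix (Fin 2) (Fin 2) K) *ᵥ e = e → h = 1 ∨ h = a₀ := by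
    intro h hh he
    obtain ⟨hd, h00, h10, hb⟩ := fix_e_cases h (h16 h hh) he
    rcases hd with hd | hd
    · left
      refine Units.ext ?_
      ext i j
      fin_cases i <;> fin_cases j <;> simp [h00, h10, hd, hb hd]
    · -- `h * a₀` has lower right entry 1
      right
      have he2 : ((h * a₀ : L) : Matrix (Fin 2) (Fin 2) K) *ᵥ e = e := by
        rw [Units.val_mul, ← mulVec_mulVec]
        rw [show ((a₀ : L) : Matrix (Fin 2) (Fin 2) K) *ᵥ e = e from refl₀_fix]
        exact he
      obtain ⟨-, h00', h10', hb'⟩ := fix_e_cases (h * a₀) (h16 _ (H.mul_mem hh haH)) he2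
      have h11' : ((h * a₀ : L) : Matrix (Fin 2) (Fin 2) K) 1 1 = 1 := by
        simp [Matrix.mul_apply, Fin.sum_univ_two, a₀, refl₀, hd]
      have h01' := hb' h11'
      simp [Matrix.mul_apply, Fin.sum_univ_two, a₀, refl₀] at h01'
      refine Units.ext ?_
      ext i j
      fin_cases i <;> fin_cases j <;> simp [a₀, refl₀, h00, h10, hd, h01']
  have htrans : ∀ v : V, v ≠ 0 → ∃ h : H, ((h : L) : Matrix (Fin 2) (Fin 2) K) *ᵥ v = e := by
    let f : H → {v : V // v ≠ 0} := fun h => ⟨((h : L) : Matrix (Fin 2) (Fin 2) K) *ᵥ e, fun hh => by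
      have := congrArg (fun w => (((h : L)⁻¹ : L) : Matrix (Fin 2) (Fin 2) K) *ᵥ w) hh
      simp only [mulVec_zero] at this
      rw [mulVec_mulVec, ← Units.val_mul, inv_mul_cancel, Units.val_one, one_mulVec] at this
      exact absurd (congrFun this 0) (one_ne_zero (α := K))⟩
    have hfib : ∀ v, (Finset.univ.filter fun h => f h = v).card ≤ 2 := by
      intro v
      by_cases hne : (Finset.univ.filter fun h => f h = v).Nonempty
      · obtain ⟨h₁, hh₁⟩ := hne
        refine (Finset.card_le_card (t := {h₁, h₁ * ⟨a₀, haH⟩}) fun h hh => ?_).trans Finset.card_le_two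
        simp only [Finset.mem_filter, Finset.mem_univ, true_and] at hh hh₁
        have heq : ((h : L) : Matrix (Fin 2) (Fin 2) K) *ᵥ e = ((h₁ : L) : Matrix (Fin 2) (Fin 2) K) *ᵥ e :=
          congrArg Subtype.val (hh.trans hh₁.symm)
        have hfix : ((((h₁ : L))⁻¹ * h : L) : Matrix (Fin 2) (Fin 2) K) *ᵥ e = e := by
          rw [Units.val_mul, ← mulVec_mulVec, heq, mulVec_mulVec, ← Units.val_mul, inv_mul_cancel,
            Units.val_one, one_mulVec]
        rcases hstab _ (H.mul_mem (H.inv_mem h₁.2) h.2) hfix with h3 | h3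
        · exact Finset.mem_insert.2 (Or.inl (Subtype.ext (inv_mul_eq_one.1 h3).symm))
        · exact Finset.mem_insert.2 (Or.inr (Finset.mem_singleton.2 (Subtype.ext
            (show (h : L) = h₁ * a₀ by rw [← h3, mul_inv_cancel_left]))))
      · rw [Finset.not_nonempty_iff_eq_empty.1 hne, Finset.card_empty]; omega
    have hsurj : Function.Surjective f := by
      intro v
      by_contra hv
      have h1 : Finset.univ.image f ⊆ Finset.univ.erase v := fun w hw =>
        Finset.mem_erase.2 ⟨fun hwv => hv (by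
          obtain ⟨h, -, hh⟩ := Finset.mem_image.1 hw
          exact ⟨h, hh.trans hwv⟩), Finset.mem_univ _⟩
      have h2 := Finset.card_le_card h1
      rw [Finset.card_erase_of_mem (Finset.mem_univ _), Finset.card_univ] at h2
      have h3 : (Finset.univ : Finset H).card ≤ 2 * (Finset.univ.image f).card :=
        Finset.card_le_mul_card_image _ 2 (fun b _ => hfib b)
      rw [Finset.card_univ, ← Nat.card_eq_fintype_card, hHcard] at h3
      have h4 : Fintype.card {v : V // v ≠ 0} = 8 := by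
        simpa only [Nat.card_eq_fintype_card] using (Nat.card_eq_fintype_card (α := {v : V // v ≠ 0})).trans card_nonzero
      omega
    intro v hv
    obtain ⟨h, hh⟩ := hsurj ⟨v, hv⟩
    refine ⟨h⁻¹, ?_⟩
    have h1 : ((h : L) : Matrix (Fin 2) (Fin 2) K) *ᵥ e = v := congrArg Subtype.val hh
    rw [← h1, mulVec_mulVec, Subgroup.coe_inv, ← Units.val_mul, inv_mul_cancel, Units.val_one,
      one_mulVec]
  let φ : H →* MulAut (Multiplicative V) := actHom.comp H.subtype
  let G := SemidirectProduct (Multiplicative V) H φ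
  have : Finite G := Finite.of_equiv _ (SemidirectProduct.equivProd (φ := φ)).symm
  let a : G := SemidirectProduct.inr ⟨a₀, haH⟩
  have haG : orderOf a = 2 := by
    rw [orderOf_injective _ SemidirectProduct.inr_injective, ← Subgroup.orderOf_coe, haord]
  have hconjH : ∀ (k : H) (w : Multiplicative V) (h : H),
      (SemidirectProduct.inr k : G) * ⟨w, h⟩ * (SemidirectProduct.inr k)⁻¹ = ⟨φ k w, k * h * k⁻¹⟩ := by
    intro k w h
    ext <;> simp [mul_assoc]
  have hconjV : ∀ (u w : V) (h : H),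
      (SemidirectProduct.inl (Multiplicative.ofAdd u) : G) * ⟨Multiplicative.ofAdd w, h⟩ *
        (SemidirectProduct.inl (Multiplicative.ofAdd u))⁻¹ =
      ⟨Multiplicative.ofAdd (u + w - ((h : L) : Matrix (Fin 2) (Fin 2) K) *ᵥ u), h⟩ := by
    intro u w h
    ext : 1
    · simp only [SemidirectProduct.mul_left, SemidirectProduct.mul_right, SemidirectProduct.left_inl,
        SemidirectProduct.right_inl, SemidirectProduct.inv_left, inv_one, map_one, one_mul,
        MulAut.one_apply]
      apply Multiplicative.toAdd.injective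
      change u + w + ((h : L) : Matrix (Fin 2) (Fin 2) K) *ᵥ (-u) = _
      rw [mulVec_neg, ← sub_eq_add_neg]
      rfl
    · simp
  have hmem2 : ∀ h : H, ((Subgroup.zpowers a).subgroupOf
      (Subgroup.zpowers a ⊔ Subgroup.zpowers (SemidirectProduct.inr h : G))).IsSubnormal := by
    intro h
    refine isSubnormal_of_isPGroup (p := 2) (IsPGroup.to_le ?_ (sup_le
      (Subgroup.zpowers_le.2 (MonoidHom.mem_range.2 ⟨_, rfl⟩))
      (Subgroup.zpowers_le.2 (MonoidHom.mem_range.2 ⟨h, rfl⟩)))) _
    exact S.isPGroup'.of_surjective (SemidirectProduct.inr : H →* G).rangeRestrict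
      (MonoidHom.rangeRestrict_surjective _)
  refine ⟨G, inferInstance, inferInstance, Subgroup.zpowers a, ?_, by rw [Nat.card_zpowers, haG], ?_, ?_⟩
  · have h1 : Group.IsSolvable H := by
      have : Group.IsNilpotent H := S.isPGroup'.isNilpotent
      infer_instance
    exact Group.isSolvable_of_ker_le_range SemidirectProduct.inl SemidirectProduct.rightHom
      (SemidirectProduct.range_inl_eq_ker_rightHom).ge
  · rintro ⟨w, h⟩
    obtain ⟨v, rfl⟩ := Multiplicative.ofAdd.surjective w
    by_cases hfix : ∃ u : V, u ≠ 0 ∧ ((h : L) : Matrix (Fin 2) (Fin 2) K) *ᵥ u = u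
    · obtain ⟨u, hu, hfix⟩ := hfix
      obtain ⟨k, hk⟩ := htrans u hu
      have h2 : (((k * h * k⁻¹ : H) : L) : Matrix (Fin 2) (Fin 2) K) *ᵥ e = e := by
        rw [← hk]
        simp only [Subgroup.coe_mul, Subgroup.coe_inv]
        rw [mulVec_mulVec, ← Units.val_mul, inv_mul_cancel_right, Units.val_mul, ← mulVec_mulVec, hfix]
      obtain ⟨v₁, hv₁⟩ := Multiplicative.ofAdd.surjective (φ k (Multiplicative.ofAdd v))
      have hc1 : IsConj (⟨Multiplicative.ofAdd v, h⟩ : G) ⟨Multiplicative.ofAdd v₁, k * h * k⁻¹⟩ :=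
        isConj_iff.2 ⟨SemidirectProduct.inr k, by rw [hconjH, hv₁]⟩
      rcases hstab _ (k * h * k⁻¹).2 h2 with h3 | h3
      · -- translations
        have h3' : k * h * k⁻¹ = 1 := Subtype.ext h3
        by_cases hv0 : v₁ = 0
        · exact ⟨_, hc1, subnormal_of_commute (commute_inr (φ := φ) (by rw [hv0]; exact map_one _) (by rw [h3', one_mul, mul_one]))⟩
        obtain ⟨k2, hk2⟩ := htrans v₁ hv0
        refine ⟨⟨Multiplicative.ofAdd e, 1⟩, hc1.trans (isConj_iff.2 ⟨SemidirectProduct.inr k2, ?_⟩),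
          subnormal_of_commute ?_⟩
        · rw [hconjH, h3', mul_one, mul_inv_cancel]
          ext : 1
          · exact congrArg Multiplicative.ofAdd hk2
          · rfl
        · have hae : φ ⟨a₀, haH⟩ (Multiplicative.ofAdd e) = Multiplicative.ofAdd e :=
            congrArg Multiplicative.ofAdd (show ((a₀ : L) : Matrix (Fin 2) (Fin 2) K) *ᵥ e = e from refl₀_fix)
          exact commute_inr hae (by rw [one_mul, mul_one])
      · have h3' : k * h * k⁻¹ = ⟨a₀, haH⟩ := Subtype.ext h3
        let A₀ := ((a₀ : L) : Matrix (Fin 2) (Fin 2) K)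
        let w : V := -(v₁ + A₀ *ᵥ v₁)
        have hw := refl₀_split
        refine ⟨⟨Multiplicative.ofAdd w, k * h * k⁻¹⟩,
          hc1.trans (isConj_iff.2 ⟨SemidirectProduct.inl (Multiplicative.ofAdd v₁), ?_⟩),
          subnormal_of_commute ?_⟩
        · rw [hconjV, h3']
          exact congrArg (fun t => (⟨Multiplicative.ofAdd t, ⟨a₀, haH⟩⟩ : G)) (hw v₁).2
        · have hae : φ ⟨a₀, haH⟩ (Multiplicative.ofAdd w) = Multiplicative.ofAdd w :=
            congrArg Multiplicative.ofAdd (hw v₁).1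
          rw [h3']
          exact commute_inr hae rfl
    · push Not at hfix
      let M := ((h : L) : Matrix (Fin 2) (Fin 2) K)
      have hinj : Function.Injective (fun u : V => M *ᵥ u - u) := by
        intro u u' huu
        by_contra hne
        refine hfix (u - u') (sub_ne_zero.2 hne) ?_
        have h5 : M *ᵥ u - u = M *ᵥ u' - u' := huu
        rw [mulVec_sub]
        exact sub_eq_sub_iff_sub_eq_sub.1 h5
      obtain ⟨u, hu⟩ := Finite.surjective_of_injective hinj v
      refine ⟨SemidirectProduct.inr h, isConj_iff.2 ⟨SemidirectProduct.inl (Multiplicative.ofAdd u), ?_⟩,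
        hmem2 h⟩
      rw [hconjV]
      have h5 : u + v - M *ᵥ u = 0 := by
        rw [← (show M *ᵥ u - u = v from hu)]; abel
      ext : 1
      · change Multiplicative.ofAdd (u + v - M *ᵥ u) = _
        rw [h5]; rfl
      · rfl
  · intro hle
    let u : G := SemidirectProduct.inl (Multiplicative.ofAdd ![0, 1])
    let z : G := a * u * a⁻¹ * u⁻¹
    have hz : z ∈ Cfsg.pCore 2 G := by
      have haC := hle (Subgroup.mem_zpowers a)
      have hn : (Cfsg.pCore 2 G).Normal := Subgroup.sSup_normal _ fun N hN => hN.1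
      have := (Cfsg.pCore 2 G).mul_mem haC (hn.conj_mem _ ((Cfsg.pCore 2 G).inv_mem haC) u)
      simpa [z, mul_assoc] using this
    have hzV : z = SemidirectProduct.inl (Multiplicative.ofAdd (![0, 1] : V)) := by
      refine (commutator_inr_inl (φ := φ) ⟨a₀, haH⟩ (Multiplicative.ofAdd ![0, 1])).trans ?_
      exact congrArg (fun t : V => SemidirectProduct.inl (φ := φ) (Multiplicative.ofAdd t)) refl₀_moves
    have hcore : ∀ P : Sylow 2 G, Cfsg.pCore 2 G ≤ P := fun P =>
      sSup_le fun N hN => (have := hN.1; hN.2.le_sylow_of_normal P)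
    obtain ⟨P⟩ : Nonempty (Sylow 2 G) := Sylow.nonempty
    obtain ⟨i, hi⟩ := P.isPGroup' ⟨z, hcore P hz⟩
    have hi' : z ^ 2 ^ i = 1 := congrArg Subtype.val hi
    have h3 : z ^ 3 = 1 := by
      rw [hzV, ← map_pow]
      rw [u₀_facts.1, map_one]
    have h7 : z = 1 := by
      have h8 : orderOf z ∣ Nat.gcd (2 ^ i) 3 :=
        Nat.dvd_gcd (orderOf_dvd_of_pow_eq_one hi') (orderOf_dvd_of_pow_eq_one h3)
      rw [Nat.Coprime.gcd_eq_one (Nat.Coprime.pow_left i (by norm_num)), Nat.dvd_one,
        orderOf_eq_one_iff] at h8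
      exact h8
    rw [hzV, ← map_one (SemidirectProduct.inl : Multiplicative V →* G)] at h7
    exact u₀_facts.2 (SemidirectProduct.inl_injective h7)

end Cfsg.Agent.S4331
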