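import Cfsg.Statements.S4332

set_option autoImplicit false
open Pointwise
open Cfsg

namespace Cfsg.Agent.S4332

open Equiv

theorem subnormal_of_commute {G : Type*} [Group G] {a b : G} (h : Commute a b) {B : Subgroup G}
    (hB : B = Subgroup.zpowers b) :
    ((Subgroup.zpowers a).subgroupOf (Subgroup.zpowers a ⊔ B)).IsSubnormal := by
  apply Subgroup.Normal.isSubnormal
  apply Subgroup.normal_subgroupOf_of_le_normalizer
  refine sup_le Subgroup.le_normalizer ?_
  subst hB
  refine Subgroup.zpowers_le.2 ?_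
  rw [Subgroup.mem_normalizer_iff]
  intro y
  constructor
  · intro hy
    obtain ⟨i, rfl⟩ := Subgroup.mem_zpowers_iff.1 hy
    rw [(h.symm.zpow_right i).eq, mul_inv_cancel_right]
    exact zpow_mem (Subgroup.mem_zpowers a) i
  · intro hy
    obtain ⟨i, hi⟩ := Subgroup.mem_zpowers_iff.1 hy
    have h2 : b * y = b * a ^ i := by
      rw [(h.symm.zpow_right i).eq, hi, inv_mul_cancel_right]
    exact mul_left_cancel h2 ▸ zpow_mem (Subgroup.mem_zpowers a) i

variable {α : Type*} [DecidableEq α]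

theorem rotate {x y z : α} (hxy : x ≠ y) (hyz : y ≠ z) (hxz : x ≠ z) :
    swap y z * swap z x = swap x y * swap y z := by
  ext w
  simp only [Perm.mul_apply, swap_apply_def]
  grind

theorem flip_commute {x y z : α} (hxy : x ≠ y) (hyz : y ≠ z) (hxz : x ≠ z) :
    Commute (swap x y * swap y z) (swap y x * swap x z) := by
  apply Equiv.ext
  intro w
  simp only [Perm.mul_apply, swap_apply_def]
  grind

theorem conj_three (c : Perm α) (x y z : α) :
    c * (swap x y * swap y z) * c⁻¹ = swap (c x) (c y) * swap (c y) (c z) := by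
  rw [swap_apply_apply c x y, swap_apply_apply c y z]
  group

theorem disjoint_three {x y z u v w : α} (h : ∀ t ∈ [x, y, z], t ∉ [u, v, w]) :
    Commute (swap x y * swap y z) (swap u v * swap v w) := by
  apply Perm.Disjoint.commute
  intro t
  by_cases ht : t ∈ [x, y, z]
  · right
    have h1 := h t ht
    simp at h1
    simp [swap_apply_of_ne_of_ne, h1]
  · left
    simp at ht
    simp [swap_apply_of_ne_of_ne, ht]

theorem exists_triple (c : Perm (Fin 8)) : ∃ x y z : Fin 8, x ≠ y ∧ y ≠ z ∧ x ≠ z ∧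
    Commute (swap x y * swap y z) (c * (swap x y * swap y z) * c⁻¹) := by
  simp only [conj_three]
  let F := Finset.univ.filter fun t => c t = t
  by_cases hF : 2 < F.card
  · obtain ⟨x, hx, y, hy, z, hz, hxy, hxz, hyz⟩ := Finset.two_lt_card.1 hF
    simp [F] at hx hy hz
    exact ⟨x, y, z, hxy, hyz, hxz, by rw [hx, hy, hz]⟩
  have hM : 6 ≤ c.support.card := by
    have h2 := Finset.card_filter_add_card_filter_not (s := (Finset.univ : Finset (Fin 8)))
      (fun t => c t = t)
    have h3 : c.support = Finset.univ.filter (fun t => ¬ c t = t) := by ext t; simp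
    rw [Finset.card_univ, Fintype.card_fin] at h2
    rw [h3]
    simp only [F] at hF
    omega
  by_cases h3 : ∃ x, c x ≠ x ∧ c (c (c x)) = x
  · obtain ⟨x, hx, hx3⟩ := h3
    have h1 : x ≠ c x := Ne.symm hx
    have h2 : c x ≠ c (c x) := fun h => h1 (c.injective h)
    have h4 : x ≠ c (c x) := fun h => hx (by conv_lhs => rw [h, hx3])
    refine ⟨x, c x, c (c x), h1, h2, h4, ?_⟩
    rw [hx3, rotate h1 h2 h4]
  push Not at h3
  by_cases hf : ∃ x f, c x ≠ x ∧ c (c x) = x ∧ c f = f
  · obtain ⟨x, f, hx, hx2, hcf⟩ := hf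
    have h1 : x ≠ c x := Ne.symm hx
    have h2 : c x ≠ f := fun h => hx (c.injective (by rw [h, hcf]))
    have h4 : x ≠ f := fun h => hx (by rw [h]; exact hcf)
    refine ⟨x, c x, f, h1, h2, h4, ?_⟩
    rw [hx2, hcf]
    exact flip_commute h1 h2 h4
  -- three independent moved points
  suffices ∃ x y z, c x ≠ x ∧ c y ≠ y ∧ c z ≠ z ∧ x ≠ y ∧ y ≠ z ∧ x ≠ z ∧
      c x ≠ y ∧ c y ≠ x ∧ c x ≠ z ∧ c z ≠ x ∧ c y ≠ z ∧ c z ≠ y by
    obtain ⟨x, y, z, h1, h2, h3, h4, h5, h6, h7, h8, h9, h10, h11, h12⟩ := this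
    exact ⟨x, y, z, h4, h5, h6, disjoint_three (by simp; grind)⟩
  have hsucc : ∀ t, c t ≠ t → c (c t) ≠ c t := fun t ht h => ht (c.injective h)
  by_cases h2 : ∃ x, c x ≠ x ∧ c (c x) ≠ x
  · obtain ⟨x, hx, hx2⟩ := h2
    have hy : c (c (c x)) ≠ c (c x) := hsucc _ (hsucc _ hx)
    obtain ⟨z, hz, hznot⟩ := Finset.exists_mem_notMem_of_card_lt_card
      (s := [c.symm x, x, c x, c (c x), c (c (c x))].toFinset) (t := c.support)
      (lt_of_le_of_lt (List.toFinset_card_le _) (by simp only [List.length_cons, List.length_nil]; omega))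
    rw [Perm.mem_support] at hz
    simp at hznot
    refine ⟨x, c (c x), z, hx, hy, hz, Ne.symm hx2, ?_, ?_, fun h => hsucc x hx h.symm, h3 x hx,
      ?_, ?_, ?_, ?_⟩
    · exact fun h => hznot.2.2.2.1 h.symm
    · exact fun h => hznot.2.1 h.symm
    · exact fun h => hznot.2.2.1 h.symm
    · exact fun h => hznot.1 ((Equiv.eq_symm_apply c).2 h)
    · exact fun h => hznot.2.2.2.2 h.symm
    · exact fun h => hznot.2.2.1 (c.injective h)
  push Not at h2
  obtain ⟨x, hx⟩ : ∃ x, x ∈ c.support := Finset.card_pos.1 (by omega) 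
  obtain ⟨y, hy, hynot⟩ := Finset.exists_mem_notMem_of_card_lt_card
    (s := [x, c x].toFinset) (t := c.support)
    (lt_of_le_of_lt (List.toFinset_card_le _) (by simp only [List.length_cons, List.length_nil]; omega))
  obtain ⟨z, hz, hznot⟩ := Finset.exists_mem_notMem_of_card_lt_card
    (s := [x, c x, y, c y].toFinset) (t := c.support)
    (lt_of_le_of_lt (List.toFinset_card_le _) (by simp only [List.length_cons, List.length_nil]; omega))
  rw [Perm.mem_support] at hx hy hz
  simp at hynot hznot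
  have hx2 := h2 x hx; have hy2 := h2 y hy; have hz2 := h2 z hz
  exact ⟨x, y, z, hx, hy, hz, by grind, by grind, by grind, by grind, by grind, by grind, by grind,
    by grind, by grind⟩

/-- Three-cycles in the symmetric group of degree 8. -/
theorem result
    (σ : Equiv.Perm (Fin 8)) (hσ : σ.IsThreeCycle) :
    (∀ c : Equiv.Perm (Fin 8), ∃ g : Equiv.Perm (Fin 8), IsConj c g ∧
      ((Subgroup.zpowers σ).subgroupOf (Subgroup.zpowers σ ⊔ MulAut.conj g • Subgroup.zpowers σ)).IsSubnormal) ∧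
    Cfsg.pCore 3 (Equiv.Perm (Fin 8)) = ⊥ := by
  constructor
  · intro c
    obtain ⟨x, y, z, hxy, hyz, hxz, hc⟩ := exists_triple c
    have h1 : (swap x y * swap y z).IsThreeCycle := by
      rw [swap_comm x y]
      exact Perm.isThreeCycle_swap_mul_swap_same (Ne.symm hxy) hyz hxz
    obtain ⟨τ, hτ⟩ := isConj_iff.1 ((Perm.isConj_iff_cycleType_eq (σ := σ)).2 (hσ.trans h1.symm))
    refine ⟨τ⁻¹ * c * τ, isConj_iff.2 ⟨τ⁻¹, by group⟩, ?_⟩
    refine subnormal_of_commute (b := (τ⁻¹ * c * τ) * σ * (τ⁻¹ * c * τ)⁻¹) ?_ ?_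
    · rw [← hτ] at hc
      have h2 := hc.map (MulAut.conj τ⁻¹).toMonoidHom
      simp only [MulEquiv.coe_toMonoidHom, MulAut.conj_apply, inv_inv] at h2
      convert h2 using 1 <;> group
    · change (Subgroup.zpowers σ).map (MulAut.conj _).toMonoidHom = _
      rw [MonoidHom.map_zpowers]
      rfl
  · rw [Cfsg.pCore, sSup_eq_bot]
    rintro N ⟨hN, hNp⟩
    by_contra hne
    obtain ⟨g, hgN, hg1⟩ := (N.bot_or_exists_ne_one).resolve_left hne
    obtain ⟨a, ha⟩ : ∃ a, g a ≠ a := by
      by_contra hc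
      push Not at hc
      exact hg1 (Equiv.ext hc)
    have horb : MulAction.orbit N a = Set.univ := by
      refine Set.eq_univ_of_forall fun c => ?_
      by_cases hca : c = a
      · rw [hca]; exact MulAction.mem_orbit_self a
      refine ⟨⟨Equiv.swap (g a) c * g * (Equiv.swap (g a) c)⁻¹, hN.conj_mem g hgN _⟩, ?_⟩
      simp [Subgroup.smul_def, Equiv.swap_apply_of_ne_of_ne ha.symm (Ne.symm hca)]
    have h := MulAction.index_stabilizer N a
    rw [horb, Set.ncard_univ, Nat.card_fin] at h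
    have : Fact (Nat.Prime 3) := ⟨Nat.prime_three⟩
    obtain ⟨k, hk⟩ := hNp.index (MulAction.stabilizer N a)
    rw [h] at hk
    have : 2 ∣ 3 ^ k := hk ▸ (by decide)
    exact absurd (Nat.prime_two.dvd_of_dvd_pow this) (by decide)

end Cfsg.Agent.S4332
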