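import Cfsg.Statements.S4333
import Cfsg.Agent.Lib.Subnormal.ClassicalZipper

set_option autoImplicit false
open Pointwise
open Cfsg

namespace Cfsg.Agent.S4333

open CfsgLib.Subnormal.Zipper

theorem aux (n : ℕ) : ∀ {G : Type*} [Group G] [Finite G], Nat.card G = n → ∀ A : Subgroup G,
    (∀ a ∈ A, ∀ g : G, (A.subgroupOf (A ⊔ MulAut.conj (g⁻¹ * a * g) • A)).IsSubnormal) →
    A.IsSubnormal := by
  induction n using Nat.strong_induction_on with
  | _ n ih =>
  intro G _ _ hn A h
  by_contra hnsn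
  have hsub : ∀ H : Subgroup G, H ≠ ⊤ → A ≤ H → (A.subgroupOf H).IsSubnormal := by
    intro H hH hAH
    have hlt : Nat.card H < n := by
      refine lt_of_le_of_ne (hn ▸ Nat.le_of_dvd Nat.card_pos H.card_subgroup_dvd_card) fun he => hH ?_
      exact Subgroup.eq_top_of_card_eq _ (he.trans hn.symm)
    refine ih _ hlt rfl (A.subgroupOf H) fun a ha g => ?_
    have h1 := h (a : G) ha (g : G)
    have hmap : (A.subgroupOf H ⊔ MulAut.conj (g⁻¹ * a * g) • A.subgroupOf H).map H.subtype =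
        A ⊔ MulAut.conj ((g : G)⁻¹ * a * g) • A := by
      rw [Subgroup.map_sup, Subgroup.map_subgroupOf_eq_of_le hAH]
      congr 1
      ext y
      constructor
      · rintro ⟨_, ⟨z, hz, rfl⟩, rfl⟩
        exact ⟨z, hz, rfl⟩
      · rintro ⟨z, hz, rfl⟩
        exact ⟨_, ⟨⟨z, hAH hz⟩, hz, rfl⟩, rfl⟩
    rw [← hmap] at h1
    exact h1.comap (Subgroup.equivMapOfInjective (A.subgroupOf H ⊔ MulAut.conj (g⁻¹ * a * g) • A.subgroupOf H) H.subtype H.subtype_injective).toMonoidHom
  have hAne : A ≠ ⊤ := fun h' => hnsn (h' ▸ Subgroup.IsSubnormal.top)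
  obtain hbad | ⟨M, hM, hAM⟩ := eq_top_or_exists_le_coatom A
  · exact hAne hbad
  have huniq : ∀ H : Subgroup G, IsCoatom H → A ≤ H → H = M := fun H hH hAH =>
    unique_coatom A hsub hnsn H M hH hM hAH hAM
  by_cases hMn : M.Normal
  · exact hnsn (Subgroup.IsSubnormal.trans hAM (hsub M hM.1 hAM) hMn.isSubnormal)
  have hNM : Subgroup.normalizer (M : Set G) = M := by
    refine ((hM.le_iff.1 Subgroup.le_normalizer).resolve_left fun h' => hMn ?_)
    exact Subgroup.normalizer_eq_top_iff.1 h'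
  have hb : ∀ a ∈ A, ∀ g : G, g⁻¹ * a * g ∈ M := by
    intro a ha g
    set b := g⁻¹ * a * g
    have hJ : A ⊔ MulAut.conj b • A ≤ M := by
      obtain hbad | ⟨M', hM', hle⟩ := eq_top_or_exists_le_coatom (A ⊔ MulAut.conj b • A)
      · have h1 := h a ha g
        rw [show A ⊔ MulAut.conj (g⁻¹ * a * g) • A = ⊤ from hbad] at h1
        exact absurd (Subgroup.IsSubnormal.trans le_top h1 .top) hnsn
      · exact huniq M' hM' (le_sup_left.trans hle) ▸ hle
    have h2 : A ≤ MulAut.conj b⁻¹ • M := by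
      rw [map_inv, ← Subgroup.pointwise_smul_le_pointwise_smul_iff (a := MulAut.conj b), smul_inv_smul]
      exact le_sup_right.trans hJ
    have hco : IsCoatom (MulAut.conj b⁻¹ • M) :=
      (OrderIso.isCoatom_iff (MulEquiv.mapSubgroup (MulAut.conj b⁻¹)) M).2 hM
    have := mem_normalizer_of_conj_smul_eq (huniq _ hco h2)
    rw [hNM] at this
    exact (inv_mem_iff).1 this
  have hK : Subgroup.normalClosure (A : Set G) ≤ M := by
    refine (Subgroup.closure_le _).2 ?_
    intro y hy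
    obtain ⟨a, ha, hay⟩ := Group.mem_conjugatesOfSet_iff.1 hy
    obtain ⟨g, rfl⟩ := isConj_iff.1 hay
    simpa using hb a ha g⁻¹
  have hKne : Subgroup.normalClosure (A : Set G) ≠ ⊤ := fun h' => hM.1 (top_le_iff.1 (h' ▸ hK))
  exact hnsn (Subgroup.IsSubnormal.trans Subgroup.subset_normalClosure
    (hsub _ hKne Subgroup.subset_normalClosure) Subgroup.normalClosure_normal.isSubnormal)

/-- Sharpened Wielandt subnormality criterion. -/
theorem result {G : Type*} [Group G] [Finite G]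
    (A : Subgroup G)
    (h : ∀ a ∈ A, ∀ g : G, (A.subgroupOf (A ⊔ MulAut.conj (g⁻¹ * a * g) • A)).IsSubnormal) :
    A.IsSubnormal :=
  aux _ rfl A h

end Cfsg.Agent.S4333
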