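import Cfsg.Statements.S4334
import Cfsg.Agent.Lib.PNilpotent.Basic
import Cfsg.Agent.S4341

set_option autoImplicit false
open Pointwise
open Cfsg

namespace Cfsg.Agent.S4334

variable {G : Type*} [Group G]

/-- In a finite nilpotent group the elements of coprime prime-power order commute. -/
theorem commute_of_primePow {S : Type*} [Group S] [Finite S] [Group.IsNilpotent S] {r q : ℕ}
    (hr : r.Prime) (hq : q.Prime) (hrq : r ≠ q) {a b : S} (ha : ∃ k, orderOf a = r ^ k)
    (hb : ∃ k, orderOf b = q ^ k) : Commute a b := by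
  have : Fact r.Prime := ⟨hr⟩
  have : Fact q.Prime := ⟨hq⟩
  obtain ⟨k, hk⟩ := ha
  obtain ⟨l, hl⟩ := hb
  obtain ⟨R, hR⟩ := IsPGroup.exists_le_sylow
    (IsPGroup.of_card (p := r) (n := k) (G := Subgroup.zpowers a) (by rw [Nat.card_zpowers, hk]))
  obtain ⟨Q, hQ⟩ := IsPGroup.exists_le_sylow
    (IsPGroup.of_card (p := q) (n := l) (G := Subgroup.zpowers b) (by rw [Nat.card_zpowers, hl]))
  have hRn : (R : Subgroup S).Normal :=
    Sylow.normal_of_normalizerCondition Group.normalizerCondition_of_isNilpotent R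
  have hQn : (Q : Subgroup S).Normal :=
    Sylow.normal_of_normalizerCondition Group.normalizerCondition_of_isNilpotent Q
  exact Subgroup.commute_of_normal_of_disjoint _ _ hRn hQn
    (IsPGroup.disjoint_of_ne r q hrq _ _ R.isPGroup' Q.isPGroup') a b
    (hR (Subgroup.mem_zpowers a)) (hQ (Subgroup.mem_zpowers b))

/-- Splitting a nilpotent group at a prime. -/
theorem exists_split {S : Type*} [Group S] [Finite S] [Group.IsNilpotent S] (q : ℕ) [Fact q.Prime] :
    ∃ A B : Subgroup S, IsPGroup q A ∧ ¬ q ∣ A.index ∧ A ⊔ B = ⊤ ∧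
      (∀ a ∈ A, ∀ b ∈ B, a * b = b * a) ∧ (Nat.card B).Coprime q ∧
      Nat.card B ∣ Nat.card S ∧ ∀ r : ℕ, r.Prime → r ≠ q → ¬ r ∣ B.index := by
  have hq : q.Prime := Fact.out
  obtain ⟨A⟩ : Nonempty (Sylow q S) := Sylow.nonempty
  have hAn : (A : Subgroup S).Normal :=
    Sylow.normal_of_normalizerCondition Group.normalizerCondition_of_isNilpotent A
  have hcop : (Nat.card (A : Subgroup S)).Coprime (A : Subgroup S).index := A.card_coprime_index
  obtain ⟨B, hB⟩ := Subgroup.exists_right_complement'_of_coprime hcop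
  have hBcard : Nat.card B = (A : Subgroup S).index := hB.symm.index_eq_card.symm
  have hBq : (Nat.card B).Coprime q := by
    rw [hBcard, Nat.coprime_comm, hq.coprime_iff_not_dvd]
    exact A.not_dvd_index
  refine ⟨A, B, A.isPGroup', A.not_dvd_index, hB.sup_eq_top, ?_, hBq,
    Subgroup.card_subgroup_dvd_card B, fun r hr hrq hdvd => ?_⟩
  · -- the centraliser of each element of A contains B
    intro a ha b hb
    obtain ⟨i, hi⟩ := IsPGroup.iff_orderOf.1 A.isPGroup' ⟨a, ha⟩
    rw [Subgroup.orderOf_mk] at hi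
    have key : ∀ n : ℕ, ∀ b : S, orderOf b = n → n.Coprime q → Commute a b := by
      intro n
      induction n using Nat.recOnPrimeCoprime with
      | zero => intro b hb _; exact absurd hb (orderOf_pos b).ne'
      | prime_pow r k hr =>
        intro b hb hcop
        rcases Nat.eq_zero_or_pos k with rfl | hk
        · rw [pow_zero, orderOf_eq_one_iff] at hb
          subst hb
          exact Commute.one_right a
        · have hrq : r ≠ q := by
            rintro rfl
            exact hr.ne_one ((Nat.coprime_pow_left_iff hk r r).1 hcop |> fun h => (Nat.coprime_self r).1 h)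
          exact (commute_of_primePow hr hq hrq ⟨k, hb⟩ ⟨i, hi⟩).symm
      | coprime m l hm hl hml ihm ihl =>
        intro b hb hcop
        rw [Nat.coprime_mul_iff_left] at hcop
        have h1 : orderOf (b ^ m) = l := by
          rw [orderOf_pow_of_dvd (by omega) (hb ▸ dvd_mul_right m l), hb,
            Nat.mul_div_cancel_left _ (by omega)]
        have h2 : orderOf (b ^ l) = m := by
          rw [orderOf_pow_of_dvd (by omega) (hb ▸ dvd_mul_left l m), hb,
            Nat.mul_div_cancel _ (by omega)]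
        have e1 := (ihl _ h1 hcop.2).zpow_right (Nat.gcdA m l)
        have e2 := (ihm _ h2 hcop.1).zpow_right (Nat.gcdB m l)
        have hbez : (b ^ m) ^ (Nat.gcdA m l) * (b ^ l) ^ (Nat.gcdB m l) = b := by
          rw [← zpow_natCast b m, ← zpow_natCast b l, ← zpow_mul, ← zpow_mul, ← zpow_add,
            ← Nat.gcd_eq_gcd_ab, hml]
          simp
        rw [← hbez]
        exact e1.mul_right e2
    exact (key _ b rfl (Nat.Coprime.coprime_dvd_left (Subgroup.orderOf_dvd_natCard B hb) hBq)).eq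
  · have hA := hB.index_eq_card
    obtain ⟨k, hk⟩ := IsPGroup.iff_card.1 A.isPGroup'
    rw [hA, hk] at hdvd
    exact hrq ((Nat.prime_dvd_prime_iff_eq hr hq).1 (hr.dvd_of_dvd_pow hdvd))

variable [Finite G]

/-- The same, for a subgroup of an ambient group. -/
theorem exists_split' (S : Subgroup G) (hS : Group.IsNilpotent S) (q : ℕ) [Fact q.Prime] :
    ∃ A B : Subgroup G, A ≤ S ∧ B ≤ S ∧ IsPGroup q A ∧ ¬ q ∣ A.relIndex S ∧ A ⊔ B = S ∧
      (∀ a ∈ A, ∀ b ∈ B, a * b = b * a) ∧ (Nat.card B).Coprime q ∧ Nat.card B ∣ Nat.card S ∧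
      ∀ r : ℕ, r.Prime → r ≠ q → ¬ r ∣ B.relIndex S := by
  obtain ⟨A, B, h1, h2, h3, h4, h5, h6, h7⟩ := exists_split (S := S) q
  have e : ∀ X : Subgroup S, (X.map S.subtype).relIndex S = X.index := fun X => by
    change ((X.map S.subtype).comap S.subtype).index = _
    rw [Subgroup.comap_map_eq_self_of_injective S.subtype_injective]
  refine ⟨A.map S.subtype, B.map S.subtype, Subgroup.map_subtype_le _, Subgroup.map_subtype_le _,
    h1.map _, by rwa [e], ?_, ?_, by rwa [Subgroup.card_map_of_injective S.subtype_injective],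
    by rwa [Subgroup.card_map_of_injective S.subtype_injective], fun r hr hrq => by rw [e]; exact h7 r hr hrq⟩
  · rw [← Subgroup.map_sup, h3, ← MonoidHom.range_eq_map, Subgroup.range_subtype]
  · rintro _ ⟨a, ha, rfl⟩ _ ⟨b, hb, rfl⟩
    exact congrArg Subtype.val (h4 a ha b hb)

theorem isPiSubgroup_of_le {π : Set ℕ} {X Y : Subgroup G} (h : X ≤ Y) (hY : IsPiSubgroup π Y) :
    IsPiSubgroup π X := fun p hp hdvd => hY p hp (hdvd.trans (Subgroup.card_dvd_of_le h))

omit [Finite G] in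
theorem isPiSubgroup_smul {π : Set ℕ} {X : Subgroup G} (hX : IsPiSubgroup π X) (g : G) :
    IsPiSubgroup π (MulAut.conj g • X) := fun p hp hdvd =>
  hX p hp (by rwa [← Nat.card_congr (Subgroup.equivSMul (MulAut.conj g) X).toEquiv] at hdvd)

omit [Finite G] in
theorem relIndex_smul (g : G) (X Y : Subgroup G) :
    (MulAut.conj g • X).relIndex (MulAut.conj g • Y) = X.relIndex Y :=
  Subgroup.relIndex_map_map_of_injective X Y (MulAut.conj g).injective

omit [Finite G] in
theorem le_centralizer_of_commute {X : Subgroup G} {A : Subgroup G}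
    (h : ∀ a ∈ A, ∀ x ∈ X, a * x = x * a) : X ≤ Subgroup.centralizer (A : Set G) :=
  fun x hx => Subgroup.mem_centralizer_iff.2 fun a ha => h a ha x hx

omit [Finite G] in
theorem relIndex_sup_dvd_card {X Y : Subgroup G} (h : Y ≤ Subgroup.normalizer (X : Set G)) :
    X.relIndex (X ⊔ Y) = X.relIndex Y := by
  apply S4341.relIndex_eq_of_forall_exists le_sup_right
  intro b hb
  rw [sup_comm, ← SetLike.mem_coe, Subgroup.coe_mul_of_left_le_normalizer_right Y X h] at hb
  obtain ⟨y, hy, x, hx, rfl⟩ := hb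
  exact ⟨y, hy, by rwa [inv_mul_cancel_left]⟩

omit [Finite G] in
theorem index_conj_smul (g : G) (X : Subgroup G) : (MulAut.conj g • X).index = X.index :=
  Subgroup.index_map_equiv X (MulAut.conj g)

/-- Wielandt: a nilpotent Hall subgroup dominates the nilpotent σ-subgroups. -/
theorem wielandt : ∀ (n : ℕ) (σ : Set ℕ) (C W S : Subgroup G), Nat.card S = n → S ≤ C → W ≤ C →
    Group.IsNilpotent W → IsPiSubgroup σ W → (∀ r : ℕ, r.Prime → r ∈ σ → ¬ r ∣ W.relIndex C) →
    Group.IsNilpotent S → IsPiSubgroup σ S → ∃ c ∈ C, S ≤ MulAut.conj c • W := by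
  intro n
  induction n using Nat.strong_induction_on with
  | _ n ih =>
  intro σ C W S hn hSC hWC hW hWσ hWi hS hSσ
  by_cases h1 : Nat.card S = 1
  · exact ⟨1, C.one_mem, by rw [Subgroup.eq_bot_of_card_eq S h1]; exact bot_le⟩
  obtain ⟨q, hq, hqS⟩ := Nat.exists_prime_and_dvd h1
  have : Fact q.Prime := ⟨hq⟩
  have hqσ : q ∈ σ := hSσ q hq hqS
  obtain ⟨Sq, S', hSqS, hS'S, hSq, hSqi, hSsup, hScomm, hS'q, -, -⟩ := exists_split' S hS q
  obtain ⟨Wq, W', hWqW, hW'W, hWq, hWqi, -, hWcomm, hW'q, -, hW'i⟩ := exists_split' W hW q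
  have hcardW' : ∀ r : ℕ, r.Prime → r ∣ Nat.card W' → r ∈ σ ∧ r ≠ q := fun r hr hdvd =>
    ⟨isPiSubgroup_of_le hW'W hWσ r hr hdvd, fun e =>
      hr.ne_one (Nat.eq_one_of_dvd_coprimes hW'q hdvd (e ▸ dvd_rfl))⟩
  -- conjugate the q-part
  obtain ⟨c, hc, hSqW⟩ : ∃ c ∈ C, Sq ≤ MulAut.conj c • Wq := by
    have hpg : IsPGroup q (Wq.subgroupOf C) := hWq.comap_of_injective C.subtype C.subtype_injective
    have hind : ¬ q ∣ (Wq.subgroupOf C).index := by
      change ¬ q ∣ Wq.relIndex C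
      rw [← Subgroup.relIndex_mul_relIndex _ _ _ hWqW hWC]
      exact hq.not_dvd_mul hWqi (hWi q hq hqσ)
    obtain ⟨T, hT⟩ := (hSq.comap_of_injective C.subtype C.subtype_injective).exists_le_sylow
    obtain ⟨c, hc⟩ := MulAction.exists_smul_eq C (hpg.toSylow hind) T
    refine ⟨c, c.2, fun s hs => ?_⟩
    have h2 : (⟨s, hSC (hSqS hs)⟩ : C) ∈ MulAut.conj c • (Wq.subgroupOf C) := by
      have := hT (show (⟨s, hSC (hSqS hs)⟩ : C) ∈ Sq.comap C.subtype from hs)
      rw [← hc] at this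
      exact this
    obtain ⟨w, hw, hws⟩ := h2
    exact ⟨w, hw, congrArg Subtype.val hws⟩
  set X := MulAut.conj c • W' with hX
  set D := C ⊓ Subgroup.centralizer (Sq : Set G) with hD
  have hcW : MulAut.conj c • W ≤ C := by
    rintro _ ⟨w, hw, rfl⟩
    exact C.mul_mem (C.mul_mem hc (hWC hw)) (C.inv_mem hc)
  have hXC : X ≤ C := le_trans (Subgroup.pointwise_smul_le_pointwise_smul_iff.2 hW'W) hcW
  have hXD : X ≤ D := le_inf hXC (le_centralizer_of_commute (by
    intro a ha x hx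
    obtain ⟨w, hw, rfl⟩ := hx
    obtain ⟨v, hv, rfl⟩ := hSqW ha
    change c * v * c⁻¹ * (c * w * c⁻¹) = c * w * c⁻¹ * (c * v * c⁻¹)
    calc c * v * c⁻¹ * (c * w * c⁻¹) = c * (v * w) * c⁻¹ := by group
      _ = c * (w * v) * c⁻¹ := by rw [hWcomm v hv w hw]
      _ = c * w * c⁻¹ * (c * v * c⁻¹) := by group))
  have hS'D : S' ≤ D := le_inf (hS'S.trans hSC) (le_centralizer_of_commute hScomm)
  have hlt : Nat.card S' < n := by
    rw [← hn]
    refine lt_of_le_of_ne (Nat.le_of_dvd Nat.card_pos (Subgroup.card_dvd_of_le hS'S)) fun e => ?_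
    rw [e] at hS'q
    exact hq.ne_one (Nat.eq_one_of_dvd_coprimes hS'q hqS dvd_rfl)
  have hnilX : Group.IsNilpotent X := by
    have : Group.IsNilpotent W' := Group.nilpotent_of_mulEquiv (Subgroup.subgroupOfEquivOfLe hW'W)
    exact Group.nilpotent_of_mulEquiv (Subgroup.equivSMul (MulAut.conj c) W')
  have hnilS' : Group.IsNilpotent S' := Group.nilpotent_of_mulEquiv (Subgroup.subgroupOfEquivOfLe hS'S)
  obtain ⟨d, hd, hle⟩ := ih _ hlt (σ \ {q}) D X S' rfl hS'D hXD hnilX
    (fun r hr hdvd => hcardW' r hr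
      (by rwa [← Nat.card_congr (Subgroup.equivSMul (MulAut.conj c) W').toEquiv] at hdvd))
    (fun r hr hrσ hdvd => by
      obtain ⟨hrσ, hrq⟩ := hrσ
      have h2 : X.relIndex D ∣ X.relIndex C :=
        Dvd.intro _ (Subgroup.relIndex_mul_relIndex _ _ _ hXD inf_le_left)
      have hcC : MulAut.conj c • C = C :=
        Subgroup.mem_normalizer_iff_map_conj_eq.1 (Subgroup.le_normalizer hc)
      rw [hX, ← hcC, relIndex_smul, ← Subgroup.relIndex_mul_relIndex _ _ _ hW'W hWC] at h2
      exact hr.not_dvd_mul (hW'i r hr (by simpa using hrq)) (hWi r hr hrσ)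
        ((hX ▸ hdvd).trans h2))
    hnilS'
    (fun r hr hdvd => ⟨isPiSubgroup_of_le hS'S hSσ r hr hdvd, fun e =>
      hr.ne_one (Nat.eq_one_of_dvd_coprimes hS'q hdvd (by rw [Set.mem_singleton_iff] at e; exact e ▸ dvd_rfl))⟩)
  refine ⟨d * c, C.mul_mem hd.1 hc, ?_⟩
  rw [← hSsup, map_mul, ← smul_smul]
  refine sup_le ?_ ?_
  · intro s hs
    have h3 : d * s = s * d := (Subgroup.mem_centralizer_iff.1 hd.2 s hs).symm
    refine ⟨s, ?_, ?_⟩
    · exact Subgroup.pointwise_smul_le_pointwise_smul_iff.2 hWqW (hSqW hs)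
    · change d * s * d⁻¹ = s
      rw [h3, mul_inv_cancel_right]
  · refine hle.trans (Subgroup.pointwise_smul_le_pointwise_smul_iff.2 ?_)
    exact Subgroup.pointwise_smul_le_pointwise_smul_iff.2 hW'W

/-- The Hall–Wielandt theorem for a nilpotent direct factor. -/
theorem result {G : Type*} [Group G] [Finite G]
    (σ τ π : Set ℕ) (hπ : π = σ ∪ τ) (hd : Disjoint σ τ) (H Hs Ht : Subgroup G) (hH : Cfsg.IsPiHall π H)
    (hs : Cfsg.IsPiSubgroup σ Hs) (ht : Cfsg.IsPiSubgroup τ Ht) (hsn : Group.IsNilpotent Hs)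
    (hjoin : Hs ⊔ Ht = H) (hcomm : ∀ a ∈ Hs, ∀ b ∈ Ht, a * b = b * a) (hD : Cfsg.IsDPiGroup τ G) :
    Cfsg.IsDPiGroup π G := by
  have hcomm' : ∀ (g : G) (a b : G), a ∈ MulAut.conj g • Hs → b ∈ MulAut.conj g • Ht → a * b = b * a := by
    rintro g _ _ ⟨a, ha, rfl⟩ ⟨b, hb, rfl⟩
    exact (Commute.map (hcomm a ha b hb) (MulAut.conj g)).eq
  have hsH : Hs ≤ H := hjoin ▸ le_sup_left
  have htH : Ht ≤ H := hjoin ▸ le_sup_right
  have hgen : ∀ X : Subgroup G, X ≤ H → ∀ r : ℕ, r.Prime → r ∈ π → ¬ r ∣ X.relIndex H → ¬ r ∣ X.index := by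
    intro X hX r hr hrπ h
    rw [← Subgroup.relIndex_mul_index hX]
    exact hr.not_dvd_mul h (hH.2 r hr hrπ)
  -- indices of the two factors
  have hnorm : Hs ≤ Subgroup.normalizer (Ht : Set G) := fun a ha =>
    Subgroup.centralizer_le_normalizer (Ht : Set G) (Subgroup.mem_centralizer_iff.2 fun b hb => (hcomm a ha b hb).symm)
  have hnorm' : Ht ≤ Subgroup.normalizer (Hs : Set G) := fun b hb =>
    Subgroup.centralizer_le_normalizer (Hs : Set G) (Subgroup.mem_centralizer_iff.2 fun a ha => hcomm a ha b hb)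
  have hri : Hs.relIndex H ∣ Nat.card Ht := by
    rw [← hjoin, relIndex_sup_dvd_card hnorm']
    exact Subgroup.index_dvd_card _
  have hri' : Ht.relIndex H ∣ Nat.card Hs := by
    rw [← hjoin, sup_comm, relIndex_sup_dvd_card hnorm]
    exact Subgroup.index_dvd_card _
  have hsHall : ∀ r : ℕ, r.Prime → r ∈ σ → ¬ r ∣ Hs.index := fun r hr hrσ =>
    hgen Hs hsH r hr (hπ ▸ Or.inl hrσ) fun h =>
      Set.disjoint_left.1 hd hrσ (ht r hr (h.trans hri))
  have htHall : ∀ r : ℕ, r.Prime → r ∈ τ → ¬ r ∣ Ht.index := fun r hr hrτ =>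
    hgen Ht htH r hr (hπ ▸ Or.inr hrτ) fun h =>
      Set.disjoint_left.1 hd (hs r hr (h.trans hri')) hrτ
  have hexists : ∀ (ρ : Set ℕ) (X : Subgroup G), IsPiSubgroup ρ X →
      ∃ Y, X ≤ Y ∧ Maximal (IsPiSubgroup ρ) Y := fun ρ X hX =>
    Finite.exists_le_maximal hX
  have hmaxHall : ∀ (ρ : Set ℕ) (X Y : Subgroup G), IsPiSubgroup ρ Y →
      (∀ r : ℕ, r.Prime → r ∈ ρ → ¬ r ∣ X.index) → X ≤ Y → X = Y := by
    intro ρ X Y hY hX hle
    refine le_antisymm hle (Subgroup.relIndex_eq_one.1 ?_)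
    by_contra hne
    obtain ⟨r, hr, hdvd⟩ := Nat.exists_prime_and_dvd hne
    exact hX r hr (hY r hr (hdvd.trans (Subgroup.index_dvd_card _)))
      (hdvd.trans (Dvd.intro _ (Subgroup.relIndex_mul_index hle)))
  -- q'-elements of π-subgroups centralise q-subgroups they normalise
  have hkey : ∀ (q : ℕ), q.Prime → q ∈ σ → ∀ Q : Subgroup G, IsPGroup q Q →
      ∀ k ∈ Subgroup.normalizer (Q : Set G), (∀ r : ℕ, r.Prime → r ∣ orderOf k → r ∈ π ∧ r ≠ q) →
      k ∈ Subgroup.centralizer (Q : Set G) := by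
    intro q hq hqσ Q hQ k hk hkπ
    have : Fact q.Prime := ⟨hq⟩
    obtain ⟨A, B, hA, hB, hAp, hAi, -, hAB, -, -, hBi⟩ := exists_split' Hs hsn q
    have hind : ¬ q ∣ A.index := by
      rw [← Subgroup.relIndex_mul_index hA]
      exact hq.not_dvd_mul hAi (hsHall q hq hqσ)
    obtain ⟨T, hT⟩ := hQ.exists_le_sylow
    obtain ⟨g, hg⟩ := MulAction.exists_smul_eq G (hAp.toSylow hind) T
    have hQA : Q ≤ MulAut.conj g • A := by
      refine hT.trans (le_of_eq ?_)
      rw [← hg]; rfl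
    have hX : MulAut.conj g • (B ⊔ Ht) ≤ Subgroup.centralizer (Q : Set G) := by
      rw [Subgroup.smul_sup]
      refine sup_le (le_centralizer_of_commute ?_) (le_centralizer_of_commute ?_)
      · intro a ha x hx
        obtain ⟨v, hv, rfl⟩ := hQA ha
        obtain ⟨w, hw, rfl⟩ := hx
        exact (Commute.map (hAB v hv w hw) (MulAut.conj g)).eq
      · intro a ha x hx
        exact hcomm' g a x (Subgroup.pointwise_smul_le_pointwise_smul_iff.2 hA (hQA ha)) hx
    set M := Subgroup.normalizer (Q : Set G) with hM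
    set C := Subgroup.centralizer (Q : Set G) with hC
    have hCM : C ≤ M := Subgroup.centralizer_le_normalizer _
    have : (C.subgroupOf M).Normal := CfsgLib.PNilpotent.centralizer_subgroupOf_normal Q
    have hord : orderOf ((⟨k, hk⟩ : M) : M ⧸ C.subgroupOf M) = 1 := by
      by_contra hne
      obtain ⟨r, hr, hrd⟩ := Nat.exists_prime_and_dvd hne
      obtain ⟨hrπ, hrq⟩ := hkπ r hr (hrd.trans ((orderOf_map_dvd (QuotientGroup.mk' _) _).trans
        (by rw [Subgroup.orderOf_mk])))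
      have h1 : r ∣ C.index := hrd.trans ((orderOf_dvd_natCard _).trans
        (by rw [← Subgroup.index_eq_card]; exact Dvd.intro _ (Subgroup.relIndex_mul_index hCM)))
      have h2 : r ∣ (MulAut.conj g • (B ⊔ Ht)).index := h1.trans (Subgroup.index_dvd_of_le hX)
      have h3 : r ∣ (B ⊔ Ht).index := h2.trans (dvd_of_eq (index_conj_smul _ _))
      rcases (hπ ▸ hrπ : r ∈ σ ∪ τ) with h | h
      · refine hr.not_dvd_mul (hBi r hr hrq) (hsHall r hr h) ?_
        rw [Subgroup.relIndex_mul_index hB]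
        exact h3.trans (Subgroup.index_dvd_of_le le_sup_left)
      · exact htHall r hr h (h3.trans (Subgroup.index_dvd_of_le le_sup_right))
    rw [orderOf_eq_one_iff, QuotientGroup.eq_one_iff, Subgroup.mem_subgroupOf] at hord
    exact hord
  -- normal complements inside π-subgroups
  have hcompl : ∀ K : Subgroup G, IsPiSubgroup π K → ∀ q : ℕ, q.Prime → q ∈ σ →
      ∃ N : Subgroup K, N.Normal ∧ ¬ q ∣ Nat.card N ∧ ∃ k : ℕ, N.index = q ^ k := by
    intro K hK q hq hqσ
    have : Fact q.Prime := ⟨hq⟩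
    obtain ⟨P⟩ : Nonempty (Sylow q K) := Sylow.nonempty
    have hyp : CfsgLib.PNilpotent.PrimeToPCentralizes q K := by
      intro Q hQ k hk hord
      have h1 := hkey q hq hqσ (Q.map K.subtype) (hQ.map _) (k : G)
        (Subgroup.le_normalizer_map K.subtype (Subgroup.mem_map_of_mem _ hk))
        (fun r hr hdvd => by
          rw [Subgroup.orderOf_coe] at hdvd
          refine ⟨hK r hr (hdvd.trans (orderOf_dvd_natCard k)), fun e => hr.ne_one ?_⟩
          exact Nat.eq_one_of_dvd_coprimes hord hdvd (e ▸ dvd_rfl))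
      rw [Subgroup.mem_centralizer_iff] at h1 ⊢
      exact fun a ha => Subtype.ext (h1 a (Subgroup.mem_map_of_mem K.subtype ha))
    obtain ⟨N, hN, hc⟩ := CfsgLib.PNilpotent.exists_normal_complement hyp P
    refine ⟨N, hN, ?_, ?_⟩
    · rw [← hc.index_eq_card]; exact P.not_dvd_index
    · obtain ⟨n, hn⟩ := P.isPGroup'.exists_card_eq
      exact ⟨n, by rw [hc.symm.index_eq_card, hn]⟩
  -- every maximal π-subgroup is conjugate to H
  suffices hmain : ∀ K : Subgroup G, Maximal (IsPiSubgroup π) K → ∃ g : G, K = MulAut.conj g • H by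
    intro A B hA hB
    obtain ⟨a, rfl⟩ := hmain A hA
    obtain ⟨b, rfl⟩ := hmain B hB
    refine ⟨b * a⁻¹, ?_⟩
    change _ = MulAut.conj (b * a⁻¹) • MulAut.conj a • H
    rw [smul_smul, ← map_mul, inv_mul_cancel_right]
  intro K hK
  have hKπ : IsPiSubgroup π K := hK.1
  let ι := {q : ℕ // q ∈ (Nat.card K).primeFactors ∧ q ∈ σ}
  have hι : Finite ι := Finite.of_injective (β := (Nat.card K).primeFactors) (fun q => ⟨q.1, q.2.1⟩)
    fun a b h => Subtype.ext (congrArg (fun t : (Nat.card K).primeFactors => (t : ℕ)) h)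
  choose N hNn hNcard hNq using fun q : ι => hcompl K hKπ q.1 (Nat.prime_of_mem_primeFactors q.2.1) q.2.2
  let T : Subgroup K := ⨅ q : ι, N q
  have hTn : T.Normal := Subgroup.normal_iInf_normal hNn
  let f : K →* ((q : ι) → K ⧸ N q) := MonoidHom.pi fun q => QuotientGroup.mk' (N q)
  have hker : f.ker = T := by
    ext k
    simp only [T, f, MonoidHom.mem_ker, Subgroup.mem_iInf, funext_iff, MonoidHom.pi_apply,
      Pi.one_apply, QuotientGroup.mk'_apply, QuotientGroup.eq_one_iff]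
  have hTτ : ∀ r : ℕ, r.Prime → r ∣ Nat.card T → r ∈ τ := by
    intro r hr hdvd
    have hrK : r ∣ Nat.card K := hdvd.trans (Subgroup.card_subgroup_dvd_card T)
    refine ((hπ ▸ hKπ r hr hrK : r ∈ σ ∪ τ)).resolve_left fun hrσ => ?_
    exact hNcard ⟨r, Nat.mem_primeFactors.2 ⟨hr, hrK, Nat.card_pos.ne'⟩, hrσ⟩
      (hdvd.trans (Subgroup.card_dvd_of_le (iInf_le N _)))
  have hTσ : ∀ r : ℕ, r.Prime → r ∣ T.index → r ∈ σ := by
    intro r hr hdvd
    have h1 : T.index ∣ Nat.card ((q : ι) → K ⧸ N q) := by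
      rw [← hker, Subgroup.index_ker]; exact Subgroup.card_subgroup_dvd_card _
    have : Fintype ι := Fintype.ofFinite ι
    rw [Nat.card_pi] at h1
    obtain ⟨q, -, hq⟩ := (Prime.dvd_finsetProd_iff (Nat.prime_iff.1 hr) _).1 (hdvd.trans h1)
    have : Fact q.1.Prime := ⟨Nat.prime_of_mem_primeFactors q.2.1⟩
    obtain ⟨k, hk⟩ := hNq q
    rw [← Subgroup.index_eq_card, hk] at hq
    rw [(Nat.prime_dvd_prime_iff_eq hr this.out).1 (hr.dvd_of_dvd_pow hq)]
    exact q.2.2
  have hcopT : (Nat.card T).Coprime T.index := Nat.coprime_of_dvd fun r hr h1 h2 =>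
    Set.disjoint_left.1 hd (hTσ r hr h2) (hTτ r hr h1)
  obtain ⟨S, hSc⟩ := Subgroup.exists_right_complement'_of_coprime hcopT
  have hSnil : Group.IsNilpotent S := by
    have : ∀ q : ι, Group.IsNilpotent (K ⧸ N q) := fun q => by
      have : Fact q.1.Prime := ⟨Nat.prime_of_mem_primeFactors q.2.1⟩
      obtain ⟨k, hk⟩ := hNq q
      exact (IsPGroup.of_card (p := q.1) (n := k) ((Subgroup.index_eq_card (N q)).symm.trans hk)).isNilpotent
    have hinj : Function.Injective (f.comp S.subtype) := by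
      rw [injective_iff_map_eq_one]
      intro s hs'
      have h1 : (s : K) ∈ f.ker := hs'
      rw [hker] at h1
      exact Subtype.ext (Subgroup.disjoint_def.1 hSc.disjoint h1 s.2)
    exact Group.nilpotent_of_mulEquiv (MonoidHom.ofInjective hinj).symm
  have hSσ : IsPiSubgroup σ (S.map K.subtype) := by
    intro r hr hdvd
    rw [Subgroup.card_map_of_injective K.subtype_injective, ← hSc.symm.index_eq_card] at hdvd
    exact hTσ r hr hdvd
  set TG := T.map K.subtype with hTG
  have hTGτ : IsPiSubgroup τ TG := fun r hr hdvd => hTτ r hr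
    (by rwa [hTG, Subgroup.card_map_of_injective K.subtype_injective] at hdvd)
  -- conjugate T into Ht
  obtain ⟨t, htt⟩ : ∃ t : G, TG ≤ MulAut.conj t • Ht := by
    obtain ⟨Y, hY, hYmax⟩ := hexists τ TG hTGτ
    obtain ⟨Z, hZ, hZmax⟩ := hexists τ Ht ht
    obtain ⟨t, rfl⟩ := hD Z Y hZmax hYmax
    exact ⟨t, hmaxHall τ Ht Z hZmax.1 htHall hZ ▸ hY⟩
  set M := Subgroup.normalizer (TG : Set G) with hM
  have hKM : K ≤ M := by
    have h1 := Subgroup.le_normalizer_map (H := T) K.subtype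
    rw [Subgroup.normalizer_eq_top, ← MonoidHom.range_eq_map, Subgroup.range_subtype] at h1
    exact h1
  have hWM : MulAut.conj t • Hs ≤ M := fun w hw =>
    Subgroup.centralizer_le_normalizer _ (Subgroup.mem_centralizer_iff.2 fun a ha => (hcomm' t w a hw (htt ha)).symm)
  have hWn : Group.IsNilpotent (MulAut.conj t • Hs : Subgroup G) :=
    Group.nilpotent_of_mulEquiv (Subgroup.equivSMul (MulAut.conj t) Hs)
  have hSn' : Group.IsNilpotent (S.map K.subtype) :=
    Group.nilpotent_of_mulEquiv (Subgroup.equivMapOfInjective S K.subtype K.subtype_injective)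
  obtain ⟨c, hc, hle⟩ := wielandt _ σ M (MulAut.conj t • Hs) (S.map K.subtype) rfl
    ((Subgroup.map_subtype_le S).trans hKM) hWM hWn (isPiSubgroup_smul hs t)
    (fun r hr hrσ hdvd => hsHall r hr hrσ (by
      have h1 : (MulAut.conj t • Hs).relIndex M ∣ (MulAut.conj t • Hs).index :=
        Dvd.intro _ (Subgroup.relIndex_mul_index hWM)
      rw [index_conj_smul] at h1
      exact hdvd.trans h1))
    hSn' hSσ
  have hKle : K ≤ MulAut.conj (c * t) • H := by
    have hKeq : K = TG ⊔ S.map K.subtype := by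
      rw [hTG, ← Subgroup.map_sup, hSc.sup_eq_top, ← MonoidHom.range_eq_map, Subgroup.range_subtype]
    rw [hKeq, map_mul, ← smul_smul, ← hjoin, Subgroup.smul_sup, Subgroup.smul_sup]
    refine sup_le (le_trans ?_ le_sup_right) (le_trans hle le_sup_left)
    have : MulAut.conj c • TG = TG := Subgroup.mem_normalizer_iff_map_conj_eq.1 hc
    rw [← this]
    exact Subgroup.pointwise_smul_le_pointwise_smul_iff.2 htt
  exact ⟨c * t, le_antisymm hKle (hK.2 (isPiSubgroup_smul hH.1 (c * t)) hKle)⟩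

end Cfsg.Agent.S4334
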