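import Cfsg.Statements.S4337
import Cfsg.Agent.Lib.PermGen.SwapClosure

set_option autoImplicit false
open Pointwise
open Cfsg

namespace Cfsg.Agent.S4337

/-- Three transpositions generate a solvable group. -/
theorem result (n : ℕ) (a b c : Equiv.Perm (Fin n))
    (ha : a.IsSwap) (hb : b.IsSwap) (hc : c.IsSwap) :
    Group.IsSolvable (Subgroup.closure ({a, b, c} : Set (Equiv.Perm (Fin n)))) := by
  obtain ⟨col, hcol, hcard⟩ := CfsgLib.PermGen.exists_swap_colouring [a, b, c]
    (by simp [ha, hb, hc])
  have hinv : ∀ g ∈ Subgroup.closure ({a, b, c} : Set (Equiv.Perm (Fin n))), ∀ x, col (g x) = col x :=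
    fun g hg => CfsgLib.PermGen.colouring_invariant_closure col _
      (by rintro t (rfl | rfl | rfl) <;> exact hcol _ (by simp)) hg
  apply CfsgLib.PermGen.isSolvable_of_orbit_le_four
  intro x
  have h1 := CfsgLib.PermGen.card_fiber_add_card_image_le col x
  simp only [List.length_cons, List.length_nil] at hcard
  have h2 : Nat.card (MulAction.orbit (Subgroup.closure ({a, b, c} : Set (Equiv.Perm (Fin n)))) x) ≤
      (Finset.univ.filter fun y => col y = col x).card := by
    rw [← Nat.card_eq_finsetCard]
    refine Nat.card_le_card_of_injective (fun y => ⟨y.1, ?_⟩) (fun y z h => Subtype.ext (Subtype.mk.inj h))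
    obtain ⟨⟨g, hg⟩, hy⟩ := y.2
    simp only [Finset.mem_filter, Finset.mem_univ, true_and]
    rw [← hy]
    exact hinv g hg x
  omega

end Cfsg.Agent.S4337
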