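import Cfsg.Statements.S4342

set_option autoImplicit false
open Pointwise
open Cfsg

namespace Cfsg.Agent.S4342

variable {G : Type*} [Group G] [Finite G] {p : ℕ} [Fact p.Prime]

theorem card_sylow_normal (H : Subgroup G) [H.Normal] (hp : ¬ p ∣ H.index) :
    Nat.card (Sylow p H) = Nat.card (Sylow p G) := by
  have hle : ∀ P : Sylow p G, (P : Subgroup G) ≤ H := by
    intro P x hx
    have h1 : IsPGroup p ((P : Subgroup G).map (QuotientGroup.mk' H)) := P.isPGroup'.map _
    obtain ⟨k, hk⟩ := IsPGroup.iff_card.1 h1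
    have h2 := Subgroup.card_subgroup_dvd_card ((P : Subgroup G).map (QuotientGroup.mk' H))
    rw [hk, ← Subgroup.index_eq_card] at h2
    have hk0 : k = 0 := by
      by_contra h
      exact hp ((dvd_pow_self p h).trans h2)
    rw [hk0, pow_zero] at hk
    have h3 : QuotientGroup.mk' H x ∈ (⊥ : Subgroup (G ⧸ H)) := by
      rw [← Subgroup.eq_bot_of_card_eq _ hk]
      exact Subgroup.mem_map_of_mem _ hx
    exact (QuotientGroup.eq_one_iff x).1 (Subgroup.mem_bot.1 h3)
  refine (Nat.card_congr (Equiv.ofBijective (fun P : Sylow p G => P.subtype (hle P)) ⟨?_, ?_⟩)).symm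
  · exact fun P Q h => Sylow.subtype_injective h
  · intro Q
    obtain ⟨P, hP⟩ := Q.exists_comap_subtype_eq
    exact ⟨P, Sylow.ext hP⟩

theorem mapSurjective_bijective_of_le_center (Z : Subgroup G) [Z.Normal]
    (hZ : Z ≤ Subgroup.center G) :
    Function.Bijective (Sylow.mapSurjective (QuotientGroup.mk'_surjective Z) : Sylow p G → Sylow p (G ⧸ Z)) := by
  refine ⟨fun A B h => ?_, Sylow.mapSurjective_surjective _ p⟩
  have h1 : (A : Subgroup G).map (QuotientGroup.mk' Z) = (B : Subgroup G).map (QuotientGroup.mk' Z) :=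
    congrArg Sylow.toSubgroup h
  rw [Subgroup.map_eq_map_iff, QuotientGroup.ker_mk'] at h1
  have h2 : (A : Subgroup G) ⊔ Z ≤ Subgroup.normalizer ((A : Subgroup G) : Set G) :=
    sup_le Subgroup.le_normalizer (hZ.trans (Subgroup.center_le_normalizer _))
  have h3 : B ∈ MulAction.fixedPoints (A : Subgroup G) (Sylow p G) := by
    rw [Subgroup.sylow_mem_fixedPoints_iff]
    refine le_trans (le_trans le_sup_left (h1.le)) ?_
    exact sup_le Subgroup.le_normalizer (hZ.trans (Subgroup.center_le_normalizer _))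
  exact Sylow.ext ((A.isPGroup'.sylow_mem_fixedPoints_iff.1 h3).antisymm
    (A.3 B.isPGroup' (A.isPGroup'.sylow_mem_fixedPoints_iff.1 h3)).le)

/-- Sylow numbers of a normal subgroup of p'-index modulo its centre. -/
theorem result {G : Type*} [Group G] [Finite G]
    (p : ℕ) [Fact p.Prime] (H : Subgroup G) [H.Normal] (hp : ¬ p ∣ H.index) :
    Nat.card (Sylow p (H ⧸ Subgroup.center H)) = Nat.card (Sylow p G) := by
  rw [← card_sylow_normal H hp]
  exact (Nat.card_congr (Equiv.ofBijective _
    (mapSurjective_bijective_of_le_center (G := H) (p := p) (Subgroup.center H) le_rfl))).symm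

end Cfsg.Agent.S4342
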