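import Cfsg.Statements.S4344

set_option autoImplicit false
open Pointwise
open Cfsg

namespace Cfsg.Agent.S4344

/-- The number of Sylow subgroups equals the index of a maximal subgroup with cyclic normal subgroup containing one. -/
theorem result {S : Type*} [Group S] [Finite S]
    [IsSimpleGroup S] (hS : ¬ IsMulCommutative S) (p : ℕ) [Fact p.Prime] (hp : p ∣ Nat.card S)
    (M : Subgroup S) (hM : IsCoatom M) (C : Subgroup S) (hCM : C ≤ M) (hCn : (C.subgroupOf M).Normal)
    (hC : IsCyclic C) (P : Sylow p S) (hP : (P : Subgroup S) ≤ C) :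
    Nat.card (Sylow p S) = M.index := by
  rw [P.card_eq_index_normalizer]
  have hle : M ≤ Subgroup.normalizer ((P : Subgroup S) : Set S) := by
    intro m hm
    apply Sylow.smul_eq_iff_mem_normalizer.1
    have hmC : ((m • P : Sylow p S) : Subgroup S) ≤ C := by
      rw [Sylow.smul_def, Sylow.pointwise_smul_def]
      rintro y hy
      obtain ⟨z, hz, rfl⟩ := hy
      exact (Subgroup.le_normalizer_of_normal_subgroupOf hCM hm z).1 (hP hz)
    have := (IsCyclic.isMulCommutative (α := C))
    have hN : ((P.subtype hP : Sylow p C) : Subgroup C).Normal :=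
      ⟨fun n hn g => by rwa [this.is_comm.comm g n, mul_inv_cancel_right]⟩
    have : Subsingleton (Sylow p C) := by
      refine ⟨fun Q R => ?_⟩
      obtain ⟨a, ha⟩ := MulAction.exists_smul_eq C (P.subtype hP) Q
      obtain ⟨b, hb⟩ := MulAction.exists_smul_eq C (P.subtype hP) R
      rw [← ha, ← hb, Sylow.smul_eq_of_normal, Sylow.smul_eq_of_normal]
    exact Sylow.subtype_injective (hP := hmC) (hQ := hP) (Subsingleton.elim _ _)
  have hne : Subgroup.normalizer ((P : Subgroup S) : Set S) ≠ ⊤ := by
    intro h
    have hn : (P : Subgroup S).Normal := Subgroup.normalizer_eq_top_iff.1 h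
    rcases hn.eq_bot_or_eq_top with h1 | h1
    · exact (P.ne_bot_of_dvd_card hp) h1
    · have : IsPGroup p S := (h1 ▸ P.isPGroup' : IsPGroup p (⊤ : Subgroup S)).of_equiv Subgroup.topEquiv
      have hc := this.center_nontrivial
      rcases (inferInstance : (Subgroup.center S).Normal).eq_bot_or_eq_top with h2 | h2
      · rw [h2] at hc
        exact false_of_nontrivial_of_subsingleton (⊥ : Subgroup S)
      · exact hS ⟨⟨fun a b => (Subgroup.mem_center_iff.1 (h2 ▸ Subgroup.mem_top b)) a⟩⟩
  congr 1
  exact ((hM.le_iff.1 hle).resolve_left hne)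

end Cfsg.Agent.S4344
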