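import Cfsg.Statements.S4346
import Cfsg.Agent.Lib.TwentyTwo.Three
import Cfsg.Agent.Lib.TwentyTwo.NineOrder
import Cfsg.Agent.Lib.Solvable.CoprimeAction
import Cfsg.Agent.S4341

set_option autoImplicit false
open Cfsg
open scoped Pointwise

namespace Cfsg.Agent.S4346

open CfsgLib.TwentyTwo in
theorem not_setting {G : Type*} [Group G] [Finite G] (hG : Setting G) : False := by
  by_cases hno : ∀ P : Sylow 3 G, nine P = ∅
  · obtain ⟨P⟩ : Nonempty (Sylow 3 G) := inferInstance
    exact hG.false_of_no_nine hno P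
  have : Fact (Nat.Prime 3) := ⟨Nat.prime_three⟩
  push Not at hno
  obtain ⟨P0, hP0⟩ := hno
  have hall : ∀ P : Sylow 3 G, (nine P).Nonempty := by
    intro P
    obtain ⟨g, rfl⟩ := MulAction.exists_smul_eq G P0 P
    exact nine_conj g hP0
  obtain ⟨d, hN, hd⟩ := hG.card_normalizer_nine hall P0
  have hd8 : d ≤ 8 := Nat.le_of_dvd (by norm_num) hd
  have h11 : ¬ 11 ∣ Nat.card (Subgroup.normalizer ((P0 : Subgroup G) : Set G)) := by
    rw [hN]
    intro h
    have h2 : 11 ∣ 9 * 8 := h.trans (Nat.mul_dvd_mul_left 9 hd)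
    norm_num at h2
  obtain ⟨Q, c, e, -, hc, he, he1, -, -, hmod, heq⟩ := hG.eleven P0 h11
  rw [hN] at heq
  have hc2 : c ≤ 2 := Nat.le_of_dvd (by norm_num) hc
  have he10 : e ≤ 10 := Nat.le_of_dvd (by norm_num) he
  generalize Nat.card (Sylow 11 G) = n at hmod heq
  have hd0 : d ≠ 0 := by rintro rfl; simp at hd
  have hc0 : c ≠ 0 := by rintro rfl; simp at hc
  have he0 : e ≠ 0 := by rintro rfl; simp at he
  interval_cases d <;> interval_cases c <;> interval_cases e <;> omega

theorem reduce : ∀ m : ℕ, ∀ (G : Type*) [Group G] [Finite G],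
    Nat.card G = m → Nat.card (Sylow 3 G) ≠ 22 := by
  intro m
  induction m using Nat.strong_induction_on with
  | _ m ih =>
  intro G _ _ hm h22
  have : Fact (Nat.Prime 3) := ⟨Nat.prime_three⟩
  by_cases hs : IsSimpleGroup G
  · exact not_setting ⟨hs, h22⟩
  have : Nontrivial G := by
    by_contra hc
    rw [not_nontrivial_iff_subsingleton] at hc
    have : Subsingleton (Sylow 3 G) := ⟨fun A B => Sylow.ext (Subsingleton.elim _ _)⟩
    rw [Nat.card_eq_one_iff_unique.2 ⟨this, inferInstance⟩] at h22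
    omega
  obtain ⟨K, hKn, hKb, hKt⟩ : ∃ K : Subgroup G, K.Normal ∧ K ≠ ⊥ ∧ K ≠ ⊤ := by
    by_contra! hc
    exact hs ⟨fun H hH => or_iff_not_imp_left.2 (hc H hH)⟩
  obtain ⟨P⟩ : Nonempty (Sylow 3 G) := inferInstance
  obtain ⟨D, hD⟩ : ∃ D, D = (P : Subgroup G) ⊓ K := ⟨_, rfl⟩
  obtain ⟨N, hN⟩ : ∃ N, N = ((P : Subgroup G) ⊔ K) ⊓ Subgroup.normalizer (D : Set G) := ⟨_, rfl⟩
  subst hD
  have hn : ((((P : Subgroup G) ⊓ K : Subgroup G)).subgroupOf N).Normal := by
    refine Subgroup.normal_subgroupOf_of_le_normalizer ?_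
    rw [hN]; exact inf_le_right
  have hres := Cfsg.Agent.S4341.result 3 K P N hN
  rw [h22] at hres
  have hKcard : Nat.card K < m := by
    rw [← hm]
    exact lt_of_le_of_ne (Nat.le_of_dvd Nat.card_pos (Subgroup.card_subgroup_dvd_card K))
      fun he => hKt (Subgroup.eq_top_of_card_eq K he)
  have hQcard : Nat.card (G ⧸ K) < m := by
    rw [← hm, ← K.card_mul_index]
    have h1 : 1 < Nat.card K := (Subgroup.one_lt_card_iff_ne_bot K).2 hKb
    have h2 : 0 < K.index := Nat.pos_of_ne_zero Subgroup.index_ne_zero_of_finite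
    exact (Nat.lt_mul_iff_one_lt_left h2).2 h1
  have h1 := ih _ hKcard K rfl
  have h2 := ih _ hQcard (G ⧸ K) rfl
  have m1 : Nat.card (Sylow 3 (G ⧸ K)) % 3 = 1 := card_sylow_modEq_one 3 _
  have m2 : Nat.card (Sylow 3 K) % 3 = 1 := card_sylow_modEq_one 3 _
  have key : ∀ x, x ∣ 22 → x % 3 = 1 → x = 1 ∨ x = 22 := by
    intro x hx hx3
    have := Nat.le_of_dvd (by norm_num) hx
    interval_cases x <;> omega
  have e1 : Nat.card (Sylow 3 (G ⧸ K)) = 1 :=
    (key _ ⟨_, hres.trans (mul_assoc _ _ _)⟩ m1).resolve_right h2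
  have e2 : Nat.card (Sylow 3 K) = 1 :=
    (key _ ⟨_, hres.trans (by rw [mul_comm (Nat.card (Sylow 3 (G ⧸ K))), mul_assoc])⟩ m2).resolve_right h1
  rw [e1, e2, one_mul, one_mul] at hres
  have h3 := ih (Nat.card (N ⧸ ((P : Subgroup G) ⊓ K).subgroupOf N))
  have hbig : m ≤ Nat.card (N ⧸ ((P : Subgroup G) ⊓ K).subgroupOf N) := by
    by_contra hc
    exact h3 (not_le.1 hc) (N ⧸ ((P : Subgroup G) ⊓ K).subgroupOf N) rfl hres.symm
  have hNle : Nat.card N ≤ m := hm ▸ Nat.le_of_dvd Nat.card_pos (Subgroup.card_subgroup_dvd_card N)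
  have hmul := Subgroup.card_mul_index (((P : Subgroup G) ⊓ K).subgroupOf N)
  have hidx : (((P : Subgroup G) ⊓ K).subgroupOf N).index =
      Nat.card (N ⧸ ((P : Subgroup G) ⊓ K).subgroupOf N) := rfl
  have hNtop : N = ⊤ := Subgroup.eq_top_of_card_eq N (by
    have := Nat.le_of_dvd Nat.card_pos (Dvd.intro_left _ hmul)
    omega)
  have hDN : (P : Subgroup G) ⊓ K ≤ N := hNtop ▸ le_top
  have hDbot : (P : Subgroup G) ⊓ K = ⊥ := by
    have hc : Nat.card (((P : Subgroup G) ⊓ K).subgroupOf N) = 1 := by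
      rw [hidx] at hmul
      have hpos : 0 < Nat.card (N ⧸ ((P : Subgroup G) ⊓ K).subgroupOf N) := Nat.card_pos
      have h0 : 0 < Nat.card (((P : Subgroup G) ⊓ K).subgroupOf N) := Nat.card_pos
      nlinarith
    rw [Nat.card_congr (Subgroup.subgroupOfEquivOfLe hDN).toEquiv] at hc
    exact Subgroup.card_eq_one.1 hc
  have hPK : (P : Subgroup G) ⊔ K = ⊤ := top_le_iff.1 (hNtop.ge.trans (hN.le.trans inf_le_left))
  -- `K` has order prime to three
  have hK3 : ¬ 3 ∣ Nat.card K := by
    intro h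
    obtain ⟨x, hx⟩ := exists_prime_orderOf_dvd_card' 3 h
    have hp : IsPGroup 3 (Subgroup.zpowers (x : G)) :=
      IsPGroup.of_card (n := 1) (by rw [Nat.card_zpowers, Subgroup.orderOf_coe, hx, pow_one])
    obtain ⟨S, hS⟩ := hp.exists_le_sylow
    obtain ⟨g, hg⟩ := MulAction.exists_smul_eq G S P
    have hmem : g * (x : G) * g⁻¹ ∈ (P : Subgroup G) ⊓ K := by
      refine ⟨?_, hKn.conj_mem _ x.2 g⟩
      rw [← hg]
      exact Subgroup.smul_mem_pointwise_smul _ (MulAut.conj g) _ (hS (Subgroup.mem_zpowers _))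
    rw [hDbot, Subgroup.mem_bot, conj_eq_one_iff] at hmem
    have h' : orderOf (x : G) = 3 := by rw [Subgroup.orderOf_coe, hx]
    rw [hmem, orderOf_one] at h'
    norm_num at h'
  -- the index of the centralizer of `P` in `K` is twenty-two
  set C := K ⊓ Subgroup.centralizer ((P : Subgroup G) : Set G) with hC
  have hrel : C.relIndex K = 22 := by
    have h : Nat.card (Sylow 3 G) = (Subgroup.normalizer ((P : Subgroup G) : Set G)).index :=
      P.card_eq_index_normalizer
    rw [h22] at h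
    have hrelN : (Subgroup.normalizer ((P : Subgroup G) : Set G)).relIndex K = 22 := by
      rw [← Cfsg.Agent.S4341.relIndex_eq_of_forall_exists (B := ⊤) le_top, Subgroup.relIndex_top_right, h]
      intro b _
      have hb : b ∈ K ⊔ (P : Subgroup G) := by rw [sup_comm, hPK]; exact Subgroup.mem_top b
      obtain ⟨k, hk, y, hy, rfl⟩ := (Subgroup.mem_sup_of_normal_left (s := K) (t := (P : Subgroup G))).1 hb
      exact ⟨k, hk, by rw [inv_mul_cancel_left]; exact Subgroup.le_normalizer hy⟩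
    rw [← hrelN, ← Subgroup.inf_relIndex_right (Subgroup.normalizer _) K]
    congr 1
    refine le_antisymm (fun c hc => ⟨Subgroup.centralizer_le_normalizer _ hc.2, hc.1⟩) ?_
    rintro c ⟨hcN, hcK⟩
    refine ⟨hcK, Subgroup.mem_centralizer_iff.2 fun p hp => ?_⟩
    have hmem : c * p * c⁻¹ * p⁻¹ ∈ (P : Subgroup G) ⊓ K := by
      have hp' : p ∈ (P : Subgroup G) := hp
      have hP1 : c * p * c⁻¹ * p⁻¹ ∈ (P : Subgroup G) :=
        mul_mem ((Subgroup.mem_normalizer_iff.1 hcN p).1 hp') (inv_mem hp')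
      refine ⟨hP1, ?_⟩
      rw [mul_assoc c, mul_assoc c]
      exact mul_mem hcK (hKn.conj_mem _ (inv_mem hcK) p)
    rw [hDbot, Subgroup.mem_bot, mul_inv_eq_one, mul_inv_eq_iff_eq_mul] at hmem
    exact hmem.symm
  have : Fact (Nat.Prime 2) := ⟨Nat.prime_two⟩
  obtain ⟨Q0⟩ : Nonempty (Sylow 2 C) := inferInstance
  set U : Subgroup G := (Q0 : Subgroup C).map C.subtype with hU
  have hUC : U ≤ C := Subgroup.map_subtype_le _
  have hUp : IsPGroup 2 U := Q0.isPGroup'.map _
  have hUP : (P : Subgroup G) ≤ Subgroup.normalizer (U : Set G) := fun p hp =>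
    Subgroup.centralizer_le_normalizer _ (Subgroup.mem_centralizer_iff.2 fun u hu =>
      ((Subgroup.mem_centralizer_iff.1 (hUC hu).2) p hp).symm)
  have hcop : (Nat.card (P : Subgroup G)).Coprime (Nat.card K) := by
    obtain ⟨k, hk⟩ := IsPGroup.iff_card.1 P.isPGroup'
    rw [hk]
    exact ((Nat.prime_three.coprime_iff_not_dvd).2 hK3).pow_left k
  have hsolv : Group.IsSolvable (P : Subgroup G) := by
    have : Group.IsNilpotent (P : Subgroup G) := P.isPGroup'.isNilpotent
    infer_instance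
  obtain ⟨Q, hUQ, hPQ⟩ := CfsgLib.Solvable.exists_invariant_sylow_ge (A := (P : Subgroup G))
    ((Subgroup.normalizer_eq_top (H := K)).symm ▸ le_top) hcop (Or.inl hsolv) 2
    (hUC.trans inf_le_left) hUp hUP
  set R : Subgroup G := (Q : Subgroup K).map K.subtype with hR
  have hRK : R ≤ K := Subgroup.map_subtype_le _
  have hRcard : Nat.card R = 2 * Nat.card U := by
    have hU1 : Nat.card U = 2 ^ (Nat.card C).factorization 2 := by
      rw [hU, Subgroup.card_map_of_injective C.subtype_injective, Q0.card_eq_multiplicity]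
    have hR1 : Nat.card R = 2 ^ (Nat.card K).factorization 2 := by
      rw [hR, Subgroup.card_map_of_injective K.subtype_injective, Q.card_eq_multiplicity]
    have hK' := Subgroup.relIndex_mul_relIndex (⊥ : Subgroup G) C K bot_le inf_le_left
    rw [Subgroup.relIndex_bot_left, Subgroup.relIndex_bot_left, hrel] at hK'
    rw [hR1, hU1, ← hK', Nat.factorization_mul Nat.card_pos.ne' (by norm_num), Finsupp.add_apply,
      show (22 : ℕ) = 2 * 11 by norm_num, Nat.factorization_mul (by norm_num) (by norm_num),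
      Nat.Prime.factorization Nat.prime_two, Nat.Prime.factorization (by norm_num : Nat.Prime 11)]
    simp [pow_succ, mul_comm]
  have hRp : IsPGroup 2 R := Q.isPGroup'.map _
  have hinf : R ⊓ Subgroup.centralizer ((P : Subgroup G) : Set G) = U := by
    refine (Subgroup.eq_of_le_of_card_ge (le_inf hUQ fun u hu => (hUC hu).2) ?_).symm
    have hle : R ⊓ Subgroup.centralizer ((P : Subgroup G) : Set G) ≤ C :=
      inf_le_inf_right _ hRK
    have hp2 : IsPGroup 2 ((R ⊓ Subgroup.centralizer ((P : Subgroup G) : Set G)).subgroupOf C) :=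
      (hRp.to_le inf_le_left).of_equiv (Subgroup.subgroupOfEquivOfLe hle).symm
    obtain ⟨S, hS⟩ := hp2.exists_le_sylow
    rw [← Nat.card_congr (Subgroup.subgroupOfEquivOfLe hle).toEquiv, hU,
      Subgroup.card_map_of_injective C.subtype_injective, Nat.card_congr (Q0.equiv S).toEquiv]
    exact Nat.le_of_dvd Nat.card_pos (Subgroup.card_dvd_of_le hS)
  -- `P` fixes an element outside `U`
  let _ : MulAction (P : Subgroup G) R :=
    { smul := fun p r => ⟨(p : G) * r * (p : G)⁻¹, (Subgroup.mem_normalizer_iff.1 (hPQ p.2) r).1 r.2⟩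
      one_smul := fun r => Subtype.ext (by change (1 : G) * r * (1 : G)⁻¹ = r; group)
      mul_smul := fun a b r => Subtype.ext (by
        change ((a : G) * b) * r * ((a : G) * b)⁻¹ = a * (b * r * (b : G)⁻¹) * (a : G)⁻¹
        group) }
  have hfix : ∀ r : R, r ∈ MulAction.fixedPoints (P : Subgroup G) R ↔ (r : G) ∈ U := by
    intro r
    rw [← hinf]
    constructor
    · intro h
      refine ⟨r.2, Subgroup.mem_centralizer_iff.2 fun p hp => ?_⟩
      have := congrArg Subtype.val (h ⟨p, hp⟩)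
      change p * (r : G) * p⁻¹ = r at this
      rwa [mul_inv_eq_iff_eq_mul] at this
    · intro h p
      refine Subtype.ext ?_
      change (p : G) * r * (p : G)⁻¹ = r
      rw [Subgroup.mem_centralizer_iff.1 h.2 p p.2, mul_inv_cancel_right]
  have hmod := P.isPGroup'.card_modEq_card_fixedPoints R
  have hfc : Nat.card (MulAction.fixedPoints (P : Subgroup G) R) = Nat.card U :=
    Nat.card_congr ⟨fun r => ⟨r.1, (hfix r.1).1 r.2⟩, fun u => ⟨⟨u.1, hUQ u.2⟩, (hfix _).2 u.2⟩,
      fun r => rfl, fun u => rfl⟩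
  rw [hfc, hRcard] at hmod
  obtain ⟨j, hj⟩ := IsPGroup.iff_card.1 hUp
  have hnd : ¬ 3 ∣ Nat.card U := by
    rw [hj]
    exact fun h => by have := Nat.prime_three.dvd_of_dvd_pow h; norm_num at this
  unfold Nat.ModEq at hmod
  omega

/-- No finite group has exactly 22 Sylow 3-subgroups. -/
theorem result {G : Type*} [Group G] [Finite G] : Nat.card (Sylow 3 G) ≠ 22 :=
  reduce _ G rfl

end Cfsg.Agent.S4346
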