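import Cfsg.Statements.S4347

set_option autoImplicit false
open Pointwise
open Cfsg

namespace Cfsg.Agent.S4347

/-- No redundant Sylow iff some p-element lies in a unique Sylow. -/
theorem result {G : Type*} [Group G] [Finite G]
    (p : ℕ) [Fact p.Prime] :
    (¬ ∃ Q : Sylow p G, ∀ x : G, (∃ k : ℕ, orderOf x = p ^ k) → ∃ P : Sylow p G, P ≠ Q ∧ x ∈ P) ↔
      ∃ x : G, (∃ k : ℕ, orderOf x = p ^ k) ∧ ∃! P : Sylow p G, x ∈ P := by
  constructor
  · intro h
    push Not at h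
    obtain ⟨Q⟩ : Nonempty (Sylow p G) := Sylow.nonempty
    obtain ⟨x, hk, hx⟩ := h Q
    obtain ⟨k, hk'⟩ := hk
    obtain ⟨R, hR⟩ := IsPGroup.exists_le_sylow
      (IsPGroup.of_card (p := p) (n := k) (G := Subgroup.zpowers x) (by rw [Nat.card_zpowers, hk']))
    have hxR : x ∈ R := hR (Subgroup.mem_zpowers x)
    refine ⟨x, ⟨k, hk'⟩, R, hxR, fun P hP => ?_⟩
    have hRQ : R = Q := by_contra fun hne => hx R hne hxR
    rw [hRQ]
    exact by_contra fun hne => hx P hne hP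
  · rintro ⟨x, ⟨k, hk⟩, P, hxP, huniq⟩ ⟨Q, hQ⟩
    obtain ⟨g, hg⟩ := MulAction.exists_smul_eq G P Q
    obtain ⟨R, hne, hR⟩ := hQ (MulAut.conj g x) ⟨k, by rw [MulEquiv.orderOf_eq, hk]⟩
    have h1 : x ∈ (g⁻¹ • R : Sylow p G) := by
      change x ∈ MulAut.conj g⁻¹ • (R : Subgroup G)
      rw [Subgroup.mem_pointwise_smul_iff_inv_smul_mem]
      simp [MulAut.smul_def]; exact hR
    exact hne (by rw [← hg, ← huniq _ h1, smul_inv_smul])

end Cfsg.Agent.S4347
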