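import Cfsg.Statements.S4348

set_option autoImplicit false
open Pointwise
open Cfsg

namespace Cfsg.Agent.S4348

/-- A p-element in a unique Sylow when the Sylow is cyclic modulo the p-core. -/
theorem result {G : Type*} [Group G] [Finite G]
    (p : ℕ) [Fact p.Prime] (P : Sylow p G)
    [hn : ((Cfsg.pCore p G).subgroupOf (P : Subgroup G)).Normal]
    (hc : IsCyclic ((P : Subgroup G) ⧸ (Cfsg.pCore p G).subgroupOf (P : Subgroup G))) :
    ∃ x : G, (∃ k : ℕ, orderOf x = p ^ k) ∧ ∃! Q : Sylow p G, x ∈ Q := by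
  obtain ⟨q, hq⟩ := hc
  induction q using QuotientGroup.induction_on with
  | _ x =>
  have hcore : ∀ Q : Sylow p G, Cfsg.pCore p G ≤ Q := fun Q =>
    sSup_le fun N hN => (haveI := hN.1; hN.2.le_sylow_of_normal Q)
  obtain ⟨k, hk⟩ := IsPGroup.iff_orderOf.1 P.isPGroup' x
  refine ⟨(x : G), ⟨k, by rw [Subgroup.orderOf_coe, hk]⟩, P, x.2, fun Q hQ => ?_⟩
  have hle : (P : Subgroup G) ≤ Q := by
    intro y hy
    obtain ⟨i, hi⟩ := hq (⟨y, hy⟩ : (P : Subgroup G))
    have h1 : (((x ^ i : (P : Subgroup G))) : (P : Subgroup G) ⧸ (Cfsg.pCore p G).subgroupOf (P : Subgroup G)) =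
        ((⟨y, hy⟩ : (P : Subgroup G)) : _) := hi
    rw [QuotientGroup.eq, Subgroup.mem_subgroupOf] at h1
    have h2 := hcore Q h1
    simp only [Subgroup.coe_mul, Subgroup.coe_inv, SubgroupClass.coe_zpow] at h2
    exact (mul_mem_cancel_left (inv_mem (Subgroup.zpow_mem _ hQ i))).1 h2
  exact Sylow.ext (P.3 Q.isPGroup' hle)

end Cfsg.Agent.S4348
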