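import Cfsg.Statements.S4349
import Cfsg.Agent.Lib.SymTwo.UniqueSylow

set_option autoImplicit false
open Cfsg

namespace Cfsg.Agent.S4349

/-- Let n ≥ 2 and let x be an element of 2-power order of the symmetric group of degree n. Then x lies in exactly one Sylow 2-subgroup if and only if x has at most two fixed points and the nontrivial cycles of x have pairwise different lengths. -/
theorem result (n : ℕ) (hn : 2 ≤ n)
    (x : Equiv.Perm (Fin n)) (hx : ∃ k : ℕ, orderOf x = 2 ^ k) :
    (∃! P : Sylow 2 (Equiv.Perm (Fin n)), x ∈ P) ↔ (n ≤ x.support.card + 2 ∧ x.cycleType.Nodup) := by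
  have hd := CfsgLib.SymTwo.distinct_iff x
  rw [Fintype.card_fin] at hd
  rw [← hd]
  constructor
  · rintro ⟨P, hP, huniq⟩
    exact CfsgLib.SymTwo.distinct_of_unique hx (fun T T' hT hT' => (huniq T hT).trans (huniq T' hT').symm) P hP
  · intro hdist
    obtain ⟨k, hk⟩ := hx
    have hp : IsPGroup 2 (Subgroup.zpowers x) := IsPGroup.of_card (n := k) (by rw [Nat.card_zpowers, hk])
    obtain ⟨P, hP⟩ := hp.exists_le_sylow
    exact ⟨P, hP (Subgroup.mem_zpowers x), fun Q hQ =>
      CfsgLib.SymTwo.Distinct.unique_sylow _ rfl x hdist ⟨k, hk⟩ Q P hQ (hP (Subgroup.mem_zpowers x))⟩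

end Cfsg.Agent.S4349
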