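import Cfsg.Statements.S4354
import Cfsg.Agent.S4341

set_option autoImplicit false
open Pointwise
open Cfsg

namespace Cfsg.Agent.S4354

variable {G : Type*} [Group G]

theorem mem_centralizer_singleton {x y : G} :
    y ∈ Subgroup.centralizer ({x} : Set G) ↔ y * x = x * y := Subgroup.mem_centralizer_singleton_iff

theorem conj_mem_conj_smul {H : Subgroup G} {g x : G} (hx : x ∈ H) :
    g * x * g⁻¹ ∈ MulAut.conj g • H := ⟨x, hx, rfl⟩

/-- A p-element with p'-class size is conjugate into the centre of any given Sylow subgroup. -/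
theorem exists_conj_central [Finite G] {p : ℕ} [Fact p.Prime] (P : Sylow p G) {x : G}
    (hx : ∃ k : ℕ, orderOf x = p ^ k) (hi : ¬ p ∣ (Subgroup.centralizer ({x} : Set G)).index) :
    ∃ g : G, g * x * g⁻¹ ∈ P ∧ ∀ z ∈ P, z * (g * x * g⁻¹) = (g * x * g⁻¹) * z := by
  set C := Subgroup.centralizer ({x} : Set G) with hC
  obtain ⟨R⟩ : Nonempty (Sylow p C) := Sylow.nonempty
  have hR : IsPGroup p ((R : Subgroup C).map C.subtype) := R.isPGroup'.map _
  have hRi : ¬ p ∣ ((R : Subgroup C).map C.subtype).index := by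
    rw [Subgroup.index_map_subtype]
    exact Nat.Prime.not_dvd_mul Fact.out R.not_dvd_index hi
  obtain ⟨g, hg⟩ := MulAction.exists_smul_eq G (hR.toSylow hRi) P
  have hRC : ((hR.toSylow hRi : Sylow p G) : Subgroup G) ≤ C := Subgroup.map_subtype_le _
  have hcent : ∀ z ∈ P, z * (g * x * g⁻¹) = (g * x * g⁻¹) * z := by
    intro z hz
    have hz' : z ∈ MulAut.conj g • ((hR.toSylow hRi : Sylow p G) : Subgroup G) := by
      rw [← hg] at hz; exact hz
    obtain ⟨w, hw, rfl⟩ := hz'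
    change g * w * g⁻¹ * (g * x * g⁻¹) = g * x * g⁻¹ * (g * w * g⁻¹)
    calc g * w * g⁻¹ * (g * x * g⁻¹) = g * (w * x) * g⁻¹ := by group
      _ = g * (x * w) * g⁻¹ := by rw [mem_centralizer_singleton.1 (hRC hw)]
      _ = g * x * g⁻¹ * (g * w * g⁻¹) := by group
  refine ⟨g, ?_, hcent⟩
  obtain ⟨k, hk⟩ := hx
  have hxp : IsPGroup p (Subgroup.zpowers (g * x * g⁻¹)) := by
    refine IsPGroup.of_card (n := k) ?_
    rw [Nat.card_zpowers, ← hk]
    exact MulEquiv.orderOf_eq (MulAut.conj g) x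
  have hle : (P : Subgroup G) ≤ Subgroup.normalizer ((Subgroup.zpowers (g * x * g⁻¹) : Subgroup G) : Set G) := by
    intro z hz
    rw [Subgroup.mem_normalizer_iff_map_conj_eq, MonoidHom.map_zpowers]
    change Subgroup.zpowers (z * (g * x * g⁻¹) * z⁻¹) = _
    rw [hcent z hz, mul_inv_cancel_right]
  have h1 := P.3 (P.isPGroup'.to_sup_of_normal_right' hxp hle) le_sup_left
  exact h1.le (Subgroup.mem_sup_right (Subgroup.mem_zpowers _))

/-- A minimal group with nonabelian Sylow subgroups and p'-class sizes of p-elements is simple. -/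
theorem result {G : Type*} [Group G] [Finite G]
    (p : ℕ) [Fact p.Prime] (h : ((∃ P : Sylow p G, ¬ IsMulCommutative P) ∧ ∀ x : G, (∃ k : ℕ, orderOf x = p ^ k) → ¬ p ∣ (Subgroup.centralizer ({x} : Set G)).index))
    (hmin : ∀ (N : Subgroup G) [N.Normal], N ≠ ⊥ → N ≠ ⊤ →
      ¬ ((∃ P : Sylow p N, ¬ IsMulCommutative P) ∧ ∀ x : N, (∃ k : ℕ, orderOf x = p ^ k) → ¬ p ∣ (Subgroup.centralizer ({x} : Set N)).index) ∧
      ¬ ((∃ P : Sylow p (G ⧸ N), ¬ IsMulCommutative P) ∧ ∀ x : (G ⧸ N), (∃ k : ℕ, orderOf x = p ^ k) → ¬ p ∣ (Subgroup.centralizer ({x} : Set (G ⧸ N))).index)) :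
    IsSimpleGroup G := by
  obtain ⟨⟨P, hP⟩, hcls⟩ := h
  have : Nontrivial G := by
    by_contra hn
    rw [not_nontrivial_iff_subsingleton] at hn
    exact hP ⟨⟨fun a b => Subsingleton.elim _ _⟩⟩
  refine ⟨fun N hN => ?_⟩
  by_contra hne
  push Not at hne
  obtain ⟨hNbot, hNtop⟩ := hne
  obtain ⟨h1, h2⟩ := hmin N hNbot hNtop
  -- Sylow subgroups of `N` and of the quotient are abelian
  have hNab : ∀ S : Sylow p N, IsMulCommutative S := by
    by_contra hcon
    push Not at hcon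
    refine h1 ⟨hcon, fun x hx hdvd => ?_⟩
    obtain ⟨k, hk⟩ := hx
    refine hcls (x : G) ⟨k, by rw [Subgroup.orderOf_coe, hk]⟩ (hdvd.trans ?_)
    have heq : Subgroup.centralizer ({x} : Set N) = (Subgroup.centralizer ({(x : G)} : Set G)).subgroupOf N := by
      ext y
      rw [Subgroup.mem_subgroupOf, mem_centralizer_singleton, mem_centralizer_singleton, Subtype.ext_iff]
      rfl
    rw [heq]
    change (Subgroup.centralizer ({(x : G)} : Set G)).relIndex N ∣ _
    set C := Subgroup.centralizer ({(x : G)} : Set G)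
    have hrel : C.relIndex (N ⊔ C) = C.relIndex N := by
      apply S4341.relIndex_eq_of_forall_exists le_sup_left
      intro b hb
      obtain ⟨n, hn, c, hc, rfl⟩ := Subgroup.mem_sup_of_normal_left.1 hb
      exact ⟨n, hn, by rwa [inv_mul_cancel_left]⟩
    rw [← hrel, ← Subgroup.relIndex_mul_index (le_sup_right : C ≤ N ⊔ C)]
    exact dvd_mul_right _ _
  have hQab : ∀ S : Sylow p (G ⧸ N), IsMulCommutative S := by
    by_contra hcon
    push Not at hcon
    refine h2 ⟨hcon, fun q hq hdvd => ?_⟩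
    obtain ⟨k, hk⟩ := hq
    obtain ⟨S, hS⟩ := IsPGroup.exists_le_sylow
      (IsPGroup.of_card (p := p) (n := k) (G := Subgroup.zpowers q) (by rw [Nat.card_zpowers, hk]))
    obtain ⟨T, rfl⟩ := Sylow.mapSurjective_surjective (QuotientGroup.mk'_surjective N) p S
    obtain ⟨x, hx, rfl⟩ := hS (Subgroup.mem_zpowers q)
    obtain ⟨j, hj⟩ := IsPGroup.iff_orderOf.1 T.isPGroup' ⟨x, hx⟩
    refine hcls x ⟨j, by rw [← hj, Subgroup.orderOf_mk]⟩ (hdvd.trans ?_)
    refine (Subgroup.index_dvd_of_le ?_).trans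
      (Subgroup.index_map_dvd (Subgroup.centralizer ({x} : Set G)) (QuotientGroup.mk'_surjective N))
    rintro _ ⟨c, hc, rfl⟩
    exact mem_centralizer_singleton.2
      (by rw [← map_mul, ← map_mul, mem_centralizer_singleton.1 hc])
  -- so `P = Z(P) (P ∩ N)`
  have hdec : ∀ x ∈ P, ∃ c ∈ (P : Subgroup G), (∀ z ∈ P, z * c = c * z) ∧ c⁻¹ * x ∈ N := by
    intro x hx
    obtain ⟨k, hk⟩ := IsPGroup.iff_orderOf.1 P.isPGroup' ⟨x, hx⟩
    rw [Subgroup.orderOf_mk] at hk
    obtain ⟨g, hcP, hccent⟩ := exists_conj_central P ⟨k, hk⟩ (hcls x ⟨k, hk⟩)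
    let PQ : Sylow p (G ⧸ N) := P.mapSurjective (QuotientGroup.mk'_surjective N)
    have := hQab PQ
    have hx1 : (x : G ⧸ N) ∈ (PQ : Subgroup (G ⧸ N)) := ⟨x, hx, rfl⟩
    have hx2 : ((g * x * g⁻¹ : G) : G ⧸ N) ∈ (PQ : Subgroup (G ⧸ N)) := ⟨_, hcP, rfl⟩
    obtain ⟨nb, hnb, hconj⟩ := PQ.conj_eq_normalizer_conj_of_mem (x : G ⧸ N) ((g⁻¹ : G) : G ⧸ N) hx1
      (by simp; exact hx2)
    obtain ⟨n, rfl⟩ := QuotientGroup.mk_surjective nb
    -- lift to the normaliser of P
    set L := (P : Subgroup G) ⊔ N with hL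
    have hn : n ∈ Subgroup.normalizer (L : Set G) := by
      have h5 := Subgroup.comap_normalizer_eq_of_surjective (PQ : Subgroup (G ⧸ N))
        (QuotientGroup.mk'_surjective N)
      have h6 : (PQ : Subgroup (G ⧸ N)).comap (QuotientGroup.mk' N) = L := by
        change ((P : Subgroup G).map _).comap _ = _
        rw [Subgroup.comap_map_eq, QuotientGroup.ker_mk']
      rw [h6] at h5
      exact h5.le hnb
    have hnP : ((n • P : Sylow p G) : Subgroup G) ≤ L := by
      rintro y ⟨z, hz, rfl⟩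
      exact (Subgroup.mem_normalizer_iff.1 hn z).1 (Subgroup.mem_sup_left hz)
    obtain ⟨l, hl⟩ := MulAction.exists_smul_eq L (P.subtype (le_sup_left : (P : Subgroup G) ≤ L))
      ((n • P).subtype hnP)
    rw [Sylow.smul_subtype] at hl
    have hl2 : (l : G) • P = n • P := Sylow.subtype_injective hl
    have hln : (l : G)⁻¹ * n ∈ Subgroup.normalizer ((P : Subgroup G) : Set G) := by
      apply Sylow.smul_eq_iff_mem_normalizer.1
      rw [mul_smul, ← hl2, inv_smul_smul]
    have hl3 : (l : G) ∈ N ⊔ (P : Subgroup G) := by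
      rw [sup_comm]; exact l.2
    obtain ⟨k', hk', y, hy, hly⟩ := Subgroup.mem_sup_of_normal_left.1 hl3
    -- n = k' * m with m normalising P
    set m := y * ((l : G)⁻¹ * n) with hm
    have hmN : m ∈ Subgroup.normalizer ((P : Subgroup G) : Set G) :=
      mul_mem (Subgroup.le_normalizer hy) hln
    have hnm : (n : G ⧸ N) = (m : G ⧸ N) := by
      rw [QuotientGroup.eq]
      have : n⁻¹ * m = n⁻¹ * k'⁻¹ * n := by rw [hm, ← hly]; group
      rw [this]
      simpa using Subgroup.Normal.conj_mem ‹N.Normal› _ (N.inv_mem hk') n⁻¹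
    set c := g * x * g⁻¹ with hc
    have hpsub : ∀ z : G, z ∈ P → m * z * m⁻¹ ∈ P := fun z hz =>
      (Subgroup.mem_normalizer_iff.1 hmN z).1 hz
    refine ⟨m * c * m⁻¹, hpsub c hcP, ?_, ?_⟩
    · intro z hz
      have h8 : m⁻¹ * z * m ∈ P := (Subgroup.mem_normalizer_iff''.1 hmN z).1 hz
      have h9 := hccent _ h8
      calc z * (m * c * m⁻¹) = m * (m⁻¹ * z * m * c) * m⁻¹ := by group
        _ = m * (c * (m⁻¹ * z * m)) * m⁻¹ := by rw [h9]
        _ = m * c * m⁻¹ * z := by group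
    · rw [← QuotientGroup.eq]
      have h10 : ((c : G) : G ⧸ N) = (n : G ⧸ N)⁻¹ * (x : G ⧸ N) * (n : G ⧸ N) := by
        rw [← hconj]; simp [hc]
      simp only [QuotientGroup.mk_mul, QuotientGroup.mk_inv, ← hnm, h10]
      group
  apply hP
  refine ⟨⟨fun a b => Subtype.ext ?_⟩⟩
  obtain ⟨ca, hca, hcac, hna⟩ := hdec a a.2
  obtain ⟨cb, hcb, hcbc, hnb⟩ := hdec b b.2
  set u := ca⁻¹ * (a : G) with hu
  set v := cb⁻¹ * (b : G) with hv
  have huP : u ∈ P := (P : Subgroup G).mul_mem ((P : Subgroup G).inv_mem hca) a.2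
  have hvP : v ∈ P := (P : Subgroup G).mul_mem ((P : Subgroup G).inv_mem hcb) b.2
  have huv : u * v = v * u := by
    obtain ⟨S, hS⟩ := (P.isPGroup'.comap_of_injective N.subtype N.subtype_injective).exists_le_sylow
    have := hNab S
    have h11 := this.is_comm.comm (⟨⟨u, hna⟩, hS huP⟩ : (S : Subgroup N)) ⟨⟨v, hnb⟩, hS hvP⟩
    exact congrArg (fun s : (S : Subgroup N) => ((s : N) : G)) h11
  change (a : G) * b = b * a
  rw [show (a : G) = ca * u by rw [hu, mul_inv_cancel_left], show (b : G) = cb * v by rw [hv, mul_inv_cancel_left]]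
  calc ca * u * (cb * v) = ca * (u * cb) * v := by group
    _ = ca * cb * (u * v) := by rw [hcbc u huP]; group
    _ = cb * ca * (v * u) := by rw [huv, hcbc ca hca]
    _ = cb * (ca * v) * u := by group
    _ = cb * v * (ca * u) := by rw [← hcac v hvP]; group

end Cfsg.Agent.S4354
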