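import Cfsg.Statements.S4365

set_option autoImplicit false
open Pointwise
open Cfsg
open scoped commutatorElement

namespace Cfsg.Agent.S4365

open Finset

theorem pow_mod_aux {M : Type*} [Monoid M] (v : M) {p : ℕ} (hv : v ^ p = 1) (k : ℕ) :
    v ^ (k % p) = v ^ k := by
  conv_rhs => rw [← Nat.mod_add_div k p, pow_add, pow_mul, hv, one_pow, mul_one]

/-- Sums over the lines of a rank two elementary abelian group of operators. -/
theorem prod_lines {A V M : Type*} [CommGroup A] [CommGroup V] [Group M] [MulAction M A]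
    (π : A →* V) {p : ℕ} (hp : p.Prime) (u v : M) (huv : Commute u v) (hv : v ^ p = 1) (b : A)
    (h1 : ∀ j : ℕ, ∏ i ∈ range p, π ((u * v ^ j) ^ i • b) = 1)
    (h2 : ∀ c : A, ∏ i ∈ range p, π (v ^ i • c) = 1) : π b ^ p = 1 := by
  have h3 : ∏ i ∈ range p, ∏ j ∈ range p, π ((u * v ^ j) ^ i • b) = 1 := by
    rw [Finset.prod_comm]
    exact Finset.prod_eq_one fun j _ => h1 j
  rw [Finset.prod_eq_single 0] at h3
  · simpa using h3
  · intro i hi hi0
    rw [Finset.mem_range] at hi
    refine Eq.trans ?_ (h2 (u ^ i • b))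
    have hco : i.Coprime p :=
      ((hp.coprime_iff_not_dvd).2 (Nat.not_dvd_of_pos_of_lt (Nat.pos_of_ne_zero hi0) hi)).symm
    refine Finset.prod_nbij (fun j => j * i % p) ?_ ?_ ?_ ?_
    · intro j _
      exact Finset.mem_coe.2 (Finset.mem_range.2 (Nat.mod_lt _ hp.pos))
    · intro j hj k hk hjk
      rw [Finset.mem_coe, Finset.mem_range] at hj hk
      have : j ≡ k [MOD p] := Nat.ModEq.cancel_right_of_coprime hco.symm hjk
      exact Nat.ModEq.eq_of_lt_of_lt this hj hk
    · refine Finset.surjOn_of_injOn_of_card_le _ ?_ ?_ le_rfl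
      · intro j _
        exact Finset.mem_coe.2 (Finset.mem_range.2 (Nat.mod_lt _ hp.pos))
      · intro j hj k hk hjk
        rw [Finset.mem_coe, Finset.mem_range] at hj hk
        exact Nat.ModEq.eq_of_lt_of_lt (Nat.ModEq.cancel_right_of_coprime hco.symm hjk) hj hk
    · intro j _
      congr 1
      rw [(huv.pow_right j).mul_pow, ← pow_mul, smul_smul, pow_mod_aux v hv (j * i),
        (huv.pow_pow i (j * i)).eq]
  · simp [hp.ne_zero]

/-- Two class sizes in a p-group force the central quotient to have exponent p. -/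
theorem result {P : Type*} [Group P] [Finite P] (p : ℕ) [Fact p.Prime]
    (hP : IsPGroup p P) (a : ℕ) (ha : 1 ≤ a)
    (hcs : {k : ℕ | ∃ x : P, (Subgroup.centralizer ({x} : Set P)).index = k} = {1, p ^ a}) (x : P) :
    x ^ p ∈ Subgroup.center P := by
  have hp : p.Prime := Fact.out
  let C : P → Subgroup P := fun y => Subgroup.centralizer ({y} : Set P)
  have hmem : ∀ y z : P, z ∈ C y ↔ z * y = y * z := fun y z => Subgroup.mem_centralizer_singleton_iff
  have hcent : ∀ y : P, y ∉ Subgroup.center P → (C y).index = p ^ a := by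
    intro y hy
    have h1 : (C y).index ∈ ({1, p ^ a} : Set ℕ) := hcs ▸ ⟨y, rfl⟩
    refine h1.resolve_left fun h2 => hy (Subgroup.mem_center_iff.2 fun g => ?_)
    exact (hmem y g).1 ((Subgroup.index_eq_one.1 h2).ge (Subgroup.mem_top g))
  have hceq : ∀ y z : P, y ∉ Subgroup.center P → z ∉ Subgroup.center P → C y ≤ C z → C y = C z := by
    intro y z hy hz hle
    have h1 := (C y).card_mul_index
    have h2 := (C z).card_mul_index
    rw [hcent y hy] at h1
    rw [hcent z hz] at h2
    exact Subgroup.eq_of_le_of_card_ge hle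
      (le_of_eq (Nat.eq_of_mul_eq_mul_right (pow_pos hp.pos a) (h2.trans h1.symm)))
  have hpow : ∀ (y : P) (n : ℕ), C y ≤ C (y ^ n) := fun y n g hg =>
    (hmem _ _).2 (Commute.pow_right ((hmem y g).1 hg) n)
  have hCp : ∀ y : P, y ^ p ∉ Subgroup.center P → C y = C (y ^ p) := fun y hy =>
    hceq y (y ^ p) (fun h => hy (pow_mem h p)) hy (hpow y p)
  by_contra hx
  rcases eq_or_lt_of_le ha with ha1 | ha2
  · -- class sizes 1 and p
    subst ha1
    rw [pow_one] at hcent
    have hxZ : x ∉ Subgroup.center P := fun h => hx (pow_mem h p)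
    have hn : ∀ y, y ∉ Subgroup.center P → (C y).Normal := by
      intro y hy
      obtain ⟨k, hk⟩ := IsPGroup.iff_card.1 hP
      refine Subgroup.normal_of_index_eq_minFac_card ?_
      have h1 := (C y).index_dvd_card
      rw [hcent y hy, hk] at h1
      have hk0 : k ≠ 0 := fun h => hp.ne_one (Nat.dvd_one.1 (by rwa [h, pow_zero] at h1))
      rw [hcent y hy, hk, Nat.pow_minFac hk0, hp.minFac_eq]
    have hcomm : ∀ g h : P, ⁅g, h⁆ ∈ Subgroup.center P := by
      intro g h
      rw [Subgroup.mem_center_iff]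
      intro y
      by_cases hy : y ∈ Subgroup.center P
      · exact (Subgroup.mem_center_iff.1 hy _).symm
      have := hn y hy
      have hc := (isCyclic_of_prime_card (α := P ⧸ C y) (p := p)
        (by rw [← Subgroup.index_eq_card, hcent y hy])).isMulCommutative
      have h1 : ⁅g, h⁆ ∈ C y := by
        rw [← QuotientGroup.eq_one_iff, commutatorElement_def]
        simp only [QuotientGroup.mk_mul, QuotientGroup.mk_inv]
        rw [hc.is_comm.comm (g : P ⧸ C y) (h : P ⧸ C y)]
        group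
      exact ((hmem y _).1 h1).symm
    apply hx
    rw [Subgroup.mem_center_iff]
    intro g
    have := hn x hxZ
    have hgp : g ^ p ∈ C x := by
      have h1 := Subgroup.pow_index_mem (C x) g
      rwa [hcent x hxZ] at h1
    have hc := hcomm g x
    have hconj : ∀ n : ℕ, g * x ^ n * g⁻¹ = ⁅g, x⁆ ^ n * x ^ n := by
      intro n
      rw [← Commute.mul_pow (Subgroup.mem_center_iff.1 hc x).symm, ← conj_pow, commutatorElement_def]
      group
    have hconj2 : ∀ n : ℕ, g ^ n * x * (g ^ n)⁻¹ = ⁅g, x⁆ ^ n * x := by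
      intro n
      induction n with
      | zero => simp
      | succ n ih =>
        calc g ^ (n + 1) * x * (g ^ (n + 1))⁻¹ = g * (g ^ n * x * (g ^ n)⁻¹) * g⁻¹ := by
              rw [pow_succ']; group
          _ = (g * ⁅g, x⁆ ^ n) * (x * g⁻¹) := by rw [ih]; group
          _ = (⁅g, x⁆ ^ n * g) * (x * g⁻¹) := by
              rw [Subgroup.mem_center_iff.1 (pow_mem hc n) g]
          _ = ⁅g, x⁆ ^ n * (⁅g, x⁆ * x) := by rw [commutatorElement_def]; group
          _ = ⁅g, x⁆ ^ (n + 1) * x := by rw [pow_succ, mul_assoc]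
    have h1 := hconj2 p
    rw [(hmem x _).1 hgp, mul_inv_cancel_right] at h1
    have h2 : ⁅g, x⁆ ^ p = 1 := mul_eq_right.1 h1.symm
    have h3 := hconj p
    rw [h2, one_mul] at h3
    exact mul_inv_eq_iff_eq_mul.1 h3
  -- a central element modulo the centre
  set Z := Subgroup.center P with hZ
  obtain ⟨t, htZ, htp, ht2⟩ : ∃ t : P, t ∉ Z ∧ t ^ p ∈ Z ∧ ∀ g : P, ⁅g, t⁆ ∈ Z := by
    have hQ : IsPGroup p (P ⧸ Z) := hP.to_quotient Z
    have : Nontrivial (P ⧸ Z) := ⟨⟨(x : P ⧸ Z), 1, fun h =>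
      hx (pow_mem ((QuotientGroup.eq_one_iff x).1 h) p)⟩⟩
    have hcn := hQ.center_nontrivial
    obtain ⟨c, hc⟩ := exists_prime_orderOf_dvd_card' (G := Subgroup.center (P ⧸ Z)) p (by
      obtain ⟨k, hk⟩ := IsPGroup.iff_card.1 (hQ.to_subgroup (Subgroup.center (P ⧸ Z)))
      rw [hk]
      refine dvd_pow_self p fun h => ?_
      rw [h, pow_zero, Nat.card_eq_one_iff_unique] at hk
      exact (not_subsingleton _) hk.1)
    obtain ⟨t, ht⟩ := QuotientGroup.mk_surjective (c : P ⧸ Z)
    refine ⟨t, fun h => ?_, ?_, fun g => ?_⟩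
    · rw [← QuotientGroup.eq_one_iff, ht] at h
      have : c = 1 := Subtype.ext h
      rw [this, orderOf_one] at hc
      exact hp.ne_one hc.symm
    · rw [← QuotientGroup.eq_one_iff, QuotientGroup.mk_pow, ht, ← Subgroup.coe_pow, ← hc,
        pow_orderOf_eq_one, Subgroup.coe_one]
    · rw [← QuotientGroup.eq_one_iff, commutatorElement_def]
      simp only [QuotientGroup.mk_mul, QuotientGroup.mk_inv]
      rw [ht, Subgroup.mem_center_iff.1 c.2 (g : P ⧸ Z)]
      group
  have hCt : ∀ y : P, y ^ p ∉ Z → C y = C t := by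
    intro y hy
    set c := ⁅y, t⁆ with hcdef
    have hc : c ∈ Z := ht2 y
    have hconj : ∀ n : ℕ, y * t ^ n * y⁻¹ = c ^ n * t ^ n := by
      intro n
      rw [← Commute.mul_pow (Subgroup.mem_center_iff.1 hc t).symm, ← conj_pow, hcdef, commutatorElement_def]
      group
    have hcp : c ^ p = 1 := by
      have h1 := hconj p
      rw [Subgroup.mem_center_iff.1 htp y, mul_inv_cancel_right] at h1
      exact mul_eq_right.1 h1.symm
    have hconj2 : ∀ n : ℕ, y ^ n * t * (y ^ n)⁻¹ = c ^ n * t := by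
      intro n
      induction n with
      | zero => simp
      | succ n ih =>
        calc y ^ (n + 1) * t * (y ^ (n + 1))⁻¹ = y * (y ^ n * t * (y ^ n)⁻¹) * y⁻¹ := by
              rw [pow_succ']; group
          _ = (y * c ^ n) * (t * y⁻¹) := by rw [ih]; group
          _ = (c ^ n * y) * (t * y⁻¹) := by rw [Subgroup.mem_center_iff.1 (pow_mem hc n) y]
          _ = c ^ n * (c * t) := by rw [hcdef, commutatorElement_def]; group
          _ = c ^ (n + 1) * t := by rw [pow_succ, mul_assoc]
    have ht1 : t ∈ C (y ^ p) := by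
      have h1 := hconj2 p
      rw [hcp, one_mul, mul_inv_eq_iff_eq_mul] at h1
      exact (hmem _ _).2 h1.symm
    have hyt : Commute y t := ((hmem y t).1 ((hCp y hy).ge ht1)).symm
    have h2 : (y * t) ^ p ∉ Z := by
      rw [hyt.mul_pow]
      exact fun h => hy ((Z.mul_mem_cancel_right htp).1 h)
    have h3 : C ((y * t) ^ p) = C (y ^ p) := by
      ext g
      rw [hmem, hmem, hyt.mul_pow]
      constructor
      · intro h
        have h4 := Subgroup.mem_center_iff.1 htp g
        rw [← mul_assoc, mul_assoc (y ^ p) (t ^ p) g, ← h4, ← mul_assoc] at h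
        exact mul_right_cancel h
      · intro h
        rw [← mul_assoc, h, mul_assoc, Subgroup.mem_center_iff.1 htp g, ← mul_assoc]
    have h5 : C y ≤ C t := by
      intro g hg
      have hg2 : g ∈ C (y * t) := (hCp _ h2).ge (h3.ge ((hCp y hy).le hg))
      have hg1 := (hmem y g).1 hg
      rw [hmem] at hg2 ⊢
      rw [← mul_assoc, hg1, mul_assoc, mul_assoc] at hg2
      exact mul_left_cancel hg2
    exact hceq y t (fun h => hy (pow_mem h p)) htZ h5
  set A := C t with hA
  have hxA : C x = A := hCt x hx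
  have hout : ∀ g : P, g ∉ A → g ^ p ∈ Z := by
    intro g hg
    by_contra h
    exact hg ((hCt g h).le ((hmem g g).2 rfl))
  -- the maximal centraliser is abelian
  have hab : ∀ u ∈ A, ∀ v ∈ A, u * v = v * u := by
    have hcentral : ∀ u ∈ A, u ^ p ∉ Z → ∀ v ∈ A, u * v = v * u := by
      intro u _ hu v hv
      exact ((hmem u v).1 ((hCt u hu).ge hv)).symm
    intro u hu v hv
    by_cases h1 : u ^ p ∈ Z
    · have hxu : x * u = u * x := hcentral x (hxA.le ((hmem x x).2 rfl)) hx u hu
      have h2 : (x * u) ^ p ∉ Z := by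
        rw [(show Commute x u from hxu).mul_pow]
        exact fun h => hx ((Z.mul_mem_cancel_right h1).1 h)
      have hxu' := hcentral (x * u) (A.mul_mem (hxA.le ((hmem x x).2 rfl)) hu) h2 v hv
      have hxv := hcentral x (hxA.le ((hmem x x).2 rfl)) hx v hv
      rw [← mul_assoc v, ← hxv, mul_assoc, mul_assoc] at hxu'
      exact mul_left_cancel hxu'
    · exact hcentral u hu h1 v hv
  have hAn : A.Normal := by
    refine ⟨fun v hv g => ?_⟩
    rw [hA, hmem] at hv ⊢
    obtain ⟨c, hc, hct⟩ : ∃ c ∈ Z, g⁻¹ * t * g = c * t :=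
      ⟨⁅g⁻¹, t⁆, ht2 _, by rw [commutatorElement_def]; group⟩
    calc g * v * g⁻¹ * t = g * (v * (g⁻¹ * t * g)) * g⁻¹ := by group
      _ = g * ((g⁻¹ * t * g) * v) * g⁻¹ := by
          have h1 : v * (c * t) = (c * t) * v := by
            rw [← mul_assoc, Subgroup.mem_center_iff.1 hc v, mul_assoc, hv, ← mul_assoc]
          rw [hct, h1]
      _ = t * (g * v * g⁻¹) := by group
  let : CommGroup A := { (inferInstance : Group A) with
    mul_comm := fun u v => Subtype.ext (hab u u.2 v v.2) }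
  let π : A →* A ⧸ Z.subgroupOf A := QuotientGroup.mk' _
  have hind : A.index = p ^ a := hcent t htZ
  have hQ : IsPGroup p (P ⧸ A) := hP.to_quotient A
  have hQcard : Nat.card (P ⧸ A) = p ^ a := by rw [← Subgroup.index_eq_card, hind]
  have : Nontrivial (P ⧸ A) := by
    rw [← Finite.one_lt_card_iff_nontrivial, hQcard]
    exact Nat.one_lt_pow (by omega) hp.one_lt
  have hcn := hQ.center_nontrivial
  obtain ⟨c, hc1⟩ := exists_ne (1 : Subgroup.center (P ⧸ A))
  obtain ⟨h, hh⟩ := QuotientGroup.mk_surjective (c : P ⧸ A)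
  have hhA : h ∉ A := fun h1 => hc1 (Subtype.ext (hh ▸ (QuotientGroup.eq_one_iff h).2 h1))
  have hhord : orderOf (h : P ⧸ A) ∣ p :=
    orderOf_dvd_of_pow_eq_one (by
      rw [← QuotientGroup.mk_pow, QuotientGroup.eq_one_iff]
      exact (hmem t _).2 (Subgroup.mem_center_iff.1 (hout h hhA) t).symm)
  obtain ⟨gbar, hgbar⟩ : ∃ q : P ⧸ A, q ∉ Subgroup.zpowers (h : P ⧸ A) := by
    by_contra hall
    push Not at hall
    have h1 : Nat.card (P ⧸ A) ∣ p := by
      rw [← Subgroup.card_top (G := P ⧸ A), ← (Subgroup.eq_top_iff' _).2 hall, Nat.card_zpowers]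
      exact hhord
    rw [hQcard] at h1
    exact absurd (Nat.le_of_dvd hp.pos h1) (not_le.2 ((pow_one p).symm.trans_lt (Nat.pow_lt_pow_right hp.one_lt ha2)))
  obtain ⟨g, rfl⟩ := QuotientGroup.mk_surjective gbar
  let ψ : P →* MulAut A := MulAut.conjNormal
  have hψA : ∀ u ∈ A, ψ u = 1 := fun u hu => MulEquiv.ext fun b => Subtype.ext (by
    change u * (b : P) * u⁻¹ = b
    rw [hab u hu b b.2, mul_inv_cancel_right])
  have hnorm : ∀ w : P, w ∉ A → ∀ b : A, ∏ i ∈ range p, π ((ψ w) ^ i • b) = 1 := by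
    intro w hw b
    rw [← map_prod, ← MonoidHom.mem_ker, QuotientGroup.ker_mk', Subgroup.mem_subgroupOf]
    have hformula : ∀ n : ℕ, ((b : P) * w) ^ n = ((∏ i ∈ range n, (ψ w) ^ i • b : A) : P) * w ^ n := by
      intro n
      induction n with
      | zero => simp
      | succ n ih =>
        rw [pow_succ, ih, Finset.prod_range_succ, ← map_pow]
        have h1 : ((ψ (w ^ n) • b : A) : P) = w ^ n * b * (w ^ n)⁻¹ := rfl
        rw [Subgroup.coe_mul, h1, pow_succ]
        group
    have h2 : (b : P) * w ∉ A := fun h3 => hw ((A.mul_mem_cancel_left b.2).1 h3)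
    have h4 := hout _ h2
    rw [hformula p] at h4
    exact (Z.mul_mem_cancel_right (hout w hw)).1 h4
  have hgh : Commute (ψ g) (ψ h) := by
    have h1 : (g * h * (h * g)⁻¹ : P) ∈ A := by
      rw [← QuotientGroup.eq_one_iff]
      simp only [QuotientGroup.mk_mul, QuotientGroup.mk_inv, hh]
      rw [Subgroup.mem_center_iff.1 c.2 (g : P ⧸ A)]
      exact mul_inv_cancel _
    have h2 := hψA _ h1
    rw [map_mul, map_inv, mul_inv_eq_one, map_mul, map_mul] at h2
    exact h2
  have hhp : (ψ h) ^ p = 1 := by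
    rw [← map_pow]
    exact hψA _ ((hmem t _).2 (Subgroup.mem_center_iff.1 (hout h hhA) t).symm)
  have hfin : π (⟨x, hxA.le ((hmem x x).2 rfl)⟩ : A) ^ p = 1 := by
    refine prod_lines π hp (ψ g) (ψ h) hgh hhp _ (fun j => ?_) (fun b => hnorm h hhA b)
    rw [← map_pow ψ h j, ← map_mul]
    refine hnorm _ (fun h1 => hgbar ?_) _
    have h2 : (g : P ⧸ A) * (h : P ⧸ A) ^ j = 1 := by
      rw [← QuotientGroup.mk_pow, ← QuotientGroup.mk_mul, QuotientGroup.eq_one_iff]
      exact h1
    rw [mul_eq_one_iff_eq_inv.1 h2]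
    exact inv_mem (pow_mem (Subgroup.mem_zpowers _) j)
  rw [← map_pow, ← MonoidHom.mem_ker, QuotientGroup.ker_mk', Subgroup.mem_subgroupOf] at hfin
  exact hx hfin

end Cfsg.Agent.S4365
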