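import Cfsg.Statements.S4370
import Cfsg.Agent.Lib.InvChar.OneInvolution
import Cfsg.Agent.Lib.PGroup.Basic
import Cfsg.Agent.Lib.PGroup.CyclicMaximal
import Cfsg.Agent.Lib.TwoFusion.DihedralIso
import Mathlib

set_option autoImplicit false
open Cfsg

namespace Cfsg.Agent.S4370

/-- Let G be a finite non-abelian nilpotent group. Then the centralizer of every non-central element of G is cyclic if and only if G is isomorphic to the direct product of a generalized quaternion group and a cyclic group of odd order. -/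
theorem result {G : Type*} [Group G] [Finite G] (hG : Group.IsNilpotent G)
    (hna : ¬ IsMulCommutative G) :
    (∀ x : G, x ∉ Subgroup.center G → IsCyclic (Subgroup.centralizer ({x} : Set G))) ↔
      ∃ (k m : ℕ), 1 ≤ k ∧ Odd m ∧ Nonempty (G ≃* QuaternionGroup (2 ^ k) × Multiplicative (ZMod m)) := by
  classical
  constructor
  · intro h
    haveI := hG
    haveI : Fact (Nat.Prime 2) := ⟨Nat.prime_two⟩
    obtain ⟨x₀, hx₀⟩ : ∃ x : G, x ∉ Subgroup.center G := by
      by_contra! hc
      exact hna ⟨⟨fun a b => (Subgroup.mem_center_iff.1 (hc b) a)⟩⟩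
    have cyc_le : ∀ {H K : Subgroup G}, H ≤ K → IsCyclic ↥K → IsCyclic ↥H := by
      intro H K hle hK
      exact isCyclic_of_injective (Subgroup.inclusion hle) (Subgroup.inclusion_injective hle)
    have hZcyc : IsCyclic ↥(Subgroup.center G) := cyc_le (K := Subgroup.centralizer ({x₀} : Set G)) (Subgroup.center_le_centralizer _) (h x₀ hx₀)
    have eq_of : ∀ (H : Subgroup G), IsCyclic ↥H → ∀ p : ℕ, p.Prime → ∀ y ∈ H, ∀ z ∈ H, orderOf y = p → orderOf z = p →
        y ∈ Subgroup.zpowers z := by
      intro H hH p hp y hy z hz hoy hoz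
      let yy : ↥H := ⟨y, hy⟩
      let zz : ↥H := ⟨z, hz⟩
      haveI := hH
      have := Fintype.ofFinite ↥H
      have hyy : orderOf yy = p := (Subgroup.orderOf_mk y hy).trans hoy
      have hzz : orderOf zz = p := (Subgroup.orderOf_mk z hz).trans hoz
      have hfin : (Finset.univ.filter fun u : ↥H => u ∈ Subgroup.zpowers zz) = Finset.univ.filter fun u : ↥H => u ^ p = 1 := by
        refine Finset.eq_of_subset_of_card_le (fun u hu => ?_) ?_
        · obtain ⟨i, rfl⟩ := (Finset.mem_filter.1 hu).2
          refine Finset.mem_filter.2 ⟨Finset.mem_univ _, ?_⟩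
          show (zz ^ i) ^ p = 1
          rw [← zpow_natCast, ← zpow_mul, mul_comm, zpow_mul, zpow_natCast, ← hzz, pow_orderOf_eq_one, one_zpow]
        · refine le_trans (IsCyclic.card_pow_eq_one_le hp.pos) ?_
          rw [← Fintype.card_subtype, ← Nat.card_eq_fintype_card]
          exact le_of_eq ((Nat.card_zpowers zz).trans hzz).symm
      have hmem : yy ∈ Subgroup.zpowers zz := (Finset.mem_filter.1
        (hfin.symm ▸ Finset.mem_filter.2 ⟨Finset.mem_univ _, hyy ▸ pow_orderOf_eq_one yy⟩ :
          yy ∈ Finset.univ.filter fun u : ↥H => u ∈ Subgroup.zpowers zz)).2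
      obtain ⟨i, hi⟩ := hmem
      exact ⟨i, by simpa [yy, zz] using congrArg Subtype.val hi⟩
    have hsylN : ∀ (p : ℕ) [Fact p.Prime] (P : Sylow p G), (P : Subgroup G).Normal := fun p _ P => inferInstance
    have hprime_center : ∀ (p : ℕ), p.Prime → p ∣ Nat.card G → ∃ z ∈ Subgroup.center G, orderOf z = p := by
      intro p hp hdvd
      haveI : Fact p.Prime := ⟨hp⟩
      obtain ⟨P⟩ : Nonempty (Sylow p G) := inferInstance
      have hne := P.ne_bot_of_dvd_card hdvd
      haveI : Nontrivial ↥(P : Subgroup G) := (Subgroup.nontrivial_iff_ne_bot _).2 hne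
      obtain ⟨z, -, hz, hzo⟩ := CfsgLib.PGroup.exists_central_orderOf_eq P.2 ⊤ top_ne_bot
      refine ⟨z.1, ?_, (Subgroup.orderOf_coe z).trans hzo⟩
      rw [Subgroup.mem_center_iff]
      have hle : (⊤ : Subgroup G) ≤ Subgroup.centralizer {z.1} := by
        intro g _
        refine Subgroup.mem_centralizer_singleton_iff.2 ?_
        let L : Subgroup G := Subgroup.centralizer {z.1}
        have hL : L = ⊤ := by
          refine Subgroup.eq_top_of_card_eq _ (Nat.dvd_antisymm L.card_subgroup_dvd_card ?_)
          refine (Nat.dvd_iff_prime_pow_dvd_dvd _ _).2 fun q k hq hk => ?_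
          haveI : Fact q.Prime := ⟨hq⟩
          obtain ⟨Q⟩ : Nonempty (Sylow q G) := inferInstance
          have hQL : (Q : Subgroup G) ≤ L := by
            intro y hy
            refine Subgroup.mem_centralizer_singleton_iff.2 ?_
            by_cases hqp : q = p
            · subst hqp
              have : (Q : Subgroup G) = P := by
                haveI := Sylow.unique_of_normal P (hsylN _ P)
                rw [Subsingleton.elim Q P]
              exact congrArg Subtype.val (Subgroup.mem_center_iff.1 hz ⟨y, this ▸ hy⟩)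
            · exact (Subgroup.commute_of_normal_of_disjoint _ _ (hsylN q Q) (hsylN p P)
                (IsPGroup.disjoint_of_ne q p hqp _ _ Q.2 P.2) y z.1 hy z.2).eq
          exact dvd_trans (Q.pow_dvd_card_of_pow_dvd_card hk) (Subgroup.card_dvd_of_le hQL)
        exact Subgroup.mem_centralizer_singleton_iff.1 (hL ▸ Subgroup.mem_top g : g ∈ L)
      exact fun g => Subgroup.mem_centralizer_singleton_iff.1 (hle (Subgroup.mem_top g))
    have huniq : ∀ p : ℕ, p.Prime → ∀ y z : G, orderOf y = p → orderOf z = p → y ∈ Subgroup.zpowers z := by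
      intro p hp y z hy hz
      have hc : ∀ y : G, orderOf y = p → y ∈ Subgroup.center G := by
        intro y hy
        by_contra hyc
        obtain ⟨w, hw, hwo⟩ := hprime_center p hp (hy ▸ orderOf_dvd_natCard y)
        obtain ⟨i, hi⟩ := eq_of _ (h y hyc) p hp y (Subgroup.mem_centralizer_singleton_iff.2 rfl) w
          (Subgroup.center_le_centralizer _ hw) hy hwo
        exact hyc (hi ▸ Subgroup.zpow_mem _ hw i)
      exact eq_of _ hZcyc p hp y (hc y hy) z (hc z hz) hy hz
    obtain ⟨P⟩ : Nonempty (Sylow 2 G) := inferInstance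
    haveI : (P : Subgroup G).Normal := hsylN 2 P
    obtain ⟨K, hK⟩ := Subgroup.exists_right_complement'_of_coprime (P.card_coprime_index)
    have hKodd : Odd (Nat.card ↥K) := by
      rw [← hK.symm.index_eq_card, ← Nat.not_even_iff_odd, even_iff_two_dvd]
      exact P.not_dvd_index
    haveI hKcyc : IsCyclic ↥K := by
      haveI : IsZGroup ↥K := by
        rw [isZGroup_iff]
        intro q hq Q
        haveI : Fact q.Prime := ⟨hq⟩
        by_cases hq2 : q = 2
        · subst hq2
          have : (Q : Subgroup ↥K) = ⊥ := by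
            rw [← Subgroup.card_eq_one]
            obtain ⟨j, hj⟩ := IsPGroup.iff_card.1 Q.2
            rcases j with _ | j
            · simpa using hj
            · exfalso
              have hd := (Q : Subgroup ↥K).card_subgroup_dvd_card
              rw [hj] at hd
              exact Nat.not_even_iff_odd.2 hKodd (even_iff_two_dvd.2 ((dvd_pow_self 2 j.succ_ne_zero).trans hd))
          rw [this]
          infer_instance
        · refine CfsgLib.PGroup.isCyclic_of_unique_order_prime hq2 Q.2 fun x y hx hx1 hy => ?_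
          by_cases hy1 : y = 1
          · rw [hy1]; exact Subgroup.one_mem _
          · have ho : ∀ u : ↥(Q : Subgroup ↥K), u ^ q = 1 → u ≠ 1 → orderOf u.1.1 = q := fun u h1 h2 => by
              rw [Subgroup.orderOf_coe, Subgroup.orderOf_coe]
              exact orderOf_eq_prime h1 h2
            obtain ⟨i, hi⟩ := huniq q hq y.1.1 x.1.1 (ho y hy hy1) (ho x hx hx1)
            exact ⟨i, Subtype.ext (Subtype.ext (by simpa using hi))⟩
      infer_instance
    have hcom : ∀ (u : ↥(P : Subgroup G)) (v : ↥K), Commute ((P : Subgroup G).subtype u) (K.subtype v) := by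
      intro u v
      have hKC : K ≤ Subgroup.centralizer ((P : Subgroup G) : Set G) := by
        let L : Subgroup ↥K := (Subgroup.centralizer ((P : Subgroup G) : Set G)).subgroupOf K
        have hL : L = ⊤ := by
          refine Subgroup.eq_top_of_card_eq _ (Nat.dvd_antisymm L.card_subgroup_dvd_card ?_)
          refine (Nat.dvd_iff_prime_pow_dvd_dvd _ _).2 fun q k hq hk => ?_
          haveI : Fact q.Prime := ⟨hq⟩
          obtain ⟨Q⟩ : Nonempty (Sylow q ↥K) := inferInstance
          rcases Nat.eq_zero_or_pos k with rfl | hk0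
          · simp
          have hq2 : q ≠ 2 := fun e => by
            subst e
            exact Nat.not_even_iff_odd.2 hKodd (even_iff_two_dvd.2 ((dvd_pow_self 2 hk0.ne').trans hk))
          have hQL : (Q : Subgroup ↥K) ≤ L := by
            intro w hw y hy
            obtain ⟨R, hR⟩ := (Q.2.map K.subtype).exists_le_sylow
            exact (Subgroup.commute_of_normal_of_disjoint _ _ (hsylN q R) inferInstance
              (IsPGroup.disjoint_of_ne q 2 hq2 _ _ R.2 P.2) w.1 y (hR ⟨w, hw, rfl⟩) hy).eq.symm
          exact dvd_trans (Q.pow_dvd_card_of_pow_dvd_card hk) (Subgroup.card_dvd_of_le hQL)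
        intro w hw
        exact (hL ▸ Subgroup.mem_top (⟨w, hw⟩ : ↥K) : (⟨w, hw⟩ : ↥K) ∈ L)
      exact hKC v.2 u.1 u.2
    let f : ↥(P : Subgroup G) × ↥K →* G := MonoidHom.noncommCoprod _ _ hcom
    have hf : Function.Bijective f := hK
    have hPna : ¬ IsMulCommutative ↥(P : Subgroup G) := by
      intro hP
      refine hna ⟨⟨fun a b => ?_⟩⟩
      obtain ⟨⟨a1, a2⟩, rfl⟩ := hf.2 a
      obtain ⟨⟨b1, b2⟩, rfl⟩ := hf.2 b
      rw [← map_mul, ← map_mul]
      congr 1
      letI := (IsCyclic.commGroup (α := ↥K))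
      exact Prod.ext (hP.is_comm.comm a1 b1) (mul_comm a2 b2)
    have hPu : ∃! u : ↥(P : Subgroup G), orderOf u = 2 := by
      have hne : (P : Subgroup G) ≠ ⊥ := fun e => hPna (by rw [e]; infer_instance)
      haveI : Nontrivial ↥(P : Subgroup G) := (Subgroup.nontrivial_iff_ne_bot _).2 hne
      obtain ⟨u, -, -, hu⟩ := CfsgLib.PGroup.exists_central_orderOf_eq P.2 ⊤ top_ne_bot
      refine ⟨u, hu, fun v hv => Subtype.ext ?_⟩
      have hu' : orderOf u.1 = 2 := (Subgroup.orderOf_coe u).trans hu
      obtain ⟨i, hi⟩ := huniq 2 Nat.prime_two v.1 u.1 ((Subgroup.orderOf_coe v).trans hv) hu'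
      have hv1 : v.1 ≠ 1 := fun e => by
        rw [show v = 1 from Subtype.ext e, orderOf_one] at hv; omega
      rcases Int.emod_two_eq_zero_or_one i with hh | hh
      · obtain ⟨j, rfl⟩ := Int.dvd_of_emod_eq_zero hh
        refine absurd ?_ hv1
        rw [← hi]
        show u.1 ^ (2 * j) = 1
        rw [zpow_mul, show u.1 ^ (2 : ℤ) = 1 by exact_mod_cast hu' ▸ pow_orderOf_eq_one u.1, one_zpow]
      · rw [← hi]
        show u.1 ^ i = u.1
        rw [← zpow_mod_orderOf, hu', Nat.cast_two, hh, zpow_one]
    obtain ⟨k, a, hk, ha, hidx, hy⟩ := CfsgLib.InvChar.exists_cyclic_index_two_of_unique_involution P.2 hPna hPu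
    obtain ⟨b, hb⟩ : ∃ b, b ∉ Subgroup.zpowers a := by
      by_contra! hall
      rw [(Subgroup.eq_top_iff' _).2 hall, Subgroup.index_top] at hidx
      omega
    obtain ⟨e⟩ := CfsgLib.TwoFusion.exists_quaternion_mulEquiv (m := 2 ^ (k - 1)) (by positivity)
      (by rw [ha, ← pow_succ', Nat.sub_add_cancel (by omega : 1 ≤ k)]) (hy b hb).2 (hy b hb).1 hb ⊤ (fun g => by
        refine ⟨fun _ => ?_, fun _ => Subgroup.mem_top g⟩
        by_cases hg : g ∈ Subgroup.zpowers a
        · obtain ⟨i, hi⟩ := hg
          exact ⟨i, Or.inl hi.symm⟩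
        · have h : b⁻¹ * g ∈ Subgroup.zpowers a :=
            (Subgroup.mul_mem_iff_of_index_two hidx).2 ⟨fun h => absurd ((Subgroup.inv_mem_iff _).1 h) hb, fun h => absurd h hg⟩
          obtain ⟨i, hi⟩ := h
          exact ⟨i, Or.inr (by rw [show a ^ i = b⁻¹ * g from hi, mul_inv_cancel_left])⟩)
    exact ⟨k - 1, Nat.card ↥K, by omega, hKodd,
      ⟨(MulEquiv.ofBijective f hf).symm.trans ((Subgroup.topEquiv.symm.trans e).prodCongr (zmodCyclicMulEquiv hKcyc).symm)⟩⟩
  · rintro ⟨k, m, hk, hm, ⟨e⟩⟩ x hx
    haveI : NeZero m := ⟨fun h => by simp [h] at hm⟩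
    haveI : NeZero (2 ^ k) := ⟨(pow_pos (by norm_num) k).ne'⟩
    have hq : ∀ q : QuaternionGroup (2 ^ k), q ∉ Subgroup.center _ →
        ∃ q₀, ∀ y, y * q = q * y → y ∈ Subgroup.zpowers q₀ := by
      intro q hq
      have hcast : ∀ j : ZMod (2 * 2 ^ k), (QuaternionGroup.a 1) ^ j.val = QuaternionGroup.a j := fun j => by
        rw [QuaternionGroup.a_one_pow, ZMod.natCast_zmod_val]
      have hn2 : ∀ i : ZMod (2 * 2 ^ k), i + i = 0 → i = 0 ∨ i = ((2 ^ k : ℕ) : ZMod (2 * 2 ^ k)) := by
        intro i hi
        have h : ((i.val + i.val : ℕ) : ZMod (2 * 2 ^ k)) = 0 := by rw [Nat.cast_add, ZMod.natCast_zmod_val]; exact hi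
        obtain ⟨c, hc⟩ := (ZMod.natCast_eq_zero_iff _ _).1 h
        have hlt := ZMod.val_lt i
        have hc2 : c < 2 := by nlinarith
        interval_cases c
        · exact Or.inl ((ZMod.val_eq_zero i).1 (by omega))
        · refine Or.inr ?_
          rw [← ZMod.natCast_zmod_val i]
          congr 1
          omega
      cases q with
      | a i =>
        refine ⟨QuaternionGroup.a 1, fun y hy => ?_⟩
        cases y with
        | a j => exact ⟨(j.val : ℤ), (zpow_natCast _ _).trans (hcast j)⟩
        | xa j =>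
          exfalso
          refine hq (Subgroup.mem_center_iff.2 fun y => ?_)
          rw [QuaternionGroup.xa_mul_a, QuaternionGroup.a_mul_xa, QuaternionGroup.xa.injEq] at hy
          have h2 : i + i = 0 := by linear_combination hy
          cases y with
          | a l => rw [QuaternionGroup.a_mul_a, QuaternionGroup.a_mul_a, add_comm]
          | xa l =>
            rw [QuaternionGroup.xa_mul_a, QuaternionGroup.a_mul_xa]
            congr 1
            linear_combination h2
      | xa i =>
        refine ⟨QuaternionGroup.xa i, fun y hy => ?_⟩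
        have h2 : QuaternionGroup.xa i * QuaternionGroup.xa i = QuaternionGroup.a ((2 ^ k : ℕ) : ZMod (2 * 2 ^ k)) := by
          rw [QuaternionGroup.xa_mul_xa, add_sub_cancel_right]
        cases y with
        | a j =>
          rw [QuaternionGroup.xa_mul_a, QuaternionGroup.a_mul_xa, QuaternionGroup.xa.injEq] at hy
          rcases hn2 j (by linear_combination -hy) with rfl | rfl
          · exact Subgroup.one_mem _
          · rw [← h2]
            exact Subgroup.mul_mem _ (Subgroup.mem_zpowers _) (Subgroup.mem_zpowers _)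
        | xa j =>
          rw [QuaternionGroup.xa_mul_xa, QuaternionGroup.xa_mul_xa, QuaternionGroup.a.injEq] at hy
          rcases hn2 (j - i) (by linear_combination -hy) with h | h
          · rw [sub_eq_zero.1 h]; exact Subgroup.mem_zpowers _
          · have : QuaternionGroup.xa j = QuaternionGroup.xa i * QuaternionGroup.a ((2 ^ k : ℕ) : ZMod (2 * 2 ^ k)) := by
              rw [QuaternionGroup.xa_mul_a]; congr 1; linear_combination h
            rw [this, ← h2]
            exact Subgroup.mul_mem _ (Subgroup.mem_zpowers _) (Subgroup.mul_mem _ (Subgroup.mem_zpowers _) (Subgroup.mem_zpowers _))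
    have hx1 : (e x).1 ∉ Subgroup.center _ := fun hc => hx (Subgroup.mem_center_iff.2 fun y => e.injective (by
      rw [map_mul, map_mul]
      exact Prod.ext (Subgroup.mem_center_iff.1 hc _) (mul_comm _ _)))
    obtain ⟨q₀, hq₀⟩ := hq _ hx1
    let g : Multiplicative (ZMod m) := Multiplicative.ofAdd 1
    have hgm : g ^ m = 1 := by
      show Multiplicative.ofAdd (1 : ZMod m) ^ m = 1
      rw [← ofAdd_nsmul, nsmul_one, ZMod.natCast_self]; rfl
    have hgen : ∀ u : Multiplicative (ZMod m), ∃ j : ℕ, u = g ^ j := fun u => ⟨(Multiplicative.toAdd u).val, by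
      show u = Multiplicative.ofAdd (1 : ZMod m) ^ _
      rw [← ofAdd_nsmul, nsmul_one, ZMod.natCast_zmod_val]; rfl⟩
    have hco : Nat.Coprime (orderOf q₀) m := by
      have hc : Nat.card (QuaternionGroup (2 ^ k)) = 2 ^ (k + 2) := by
        rw [Nat.card_eq_fintype_card, QuaternionGroup.card]; ring
      exact Nat.Coprime.coprime_dvd_left (hc ▸ orderOf_dvd_natCard q₀) (Nat.Coprime.pow_left _ (Nat.coprime_two_left.2 hm))
    have hle : Subgroup.centralizer ({x} : Set G) ≤ Subgroup.zpowers (e.symm (q₀, g)) := by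
      intro y hy
      have hy' : (e y).1 * (e x).1 = (e x).1 * (e y).1 := by
        rw [← Prod.fst_mul, ← Prod.fst_mul, ← map_mul, ← map_mul, Subgroup.mem_centralizer_singleton_iff.1 hy]
      obtain ⟨i, hi⟩ := (mem_zpowers_iff_mem_range_orderOf.1 (hq₀ _ hy') |> Finset.mem_image.1)
      obtain ⟨j, hj⟩ := hgen (e y).2
      let n := Nat.chineseRemainder hco i j
      have hn1 : q₀ ^ (n : ℕ) = q₀ ^ i := pow_eq_pow_iff_modEq.2 n.2.1
      have hn2 : g ^ (n : ℕ) = g ^ j :=
        pow_eq_pow_iff_modEq.2 (n.2.2.of_dvd (orderOf_dvd_of_pow_eq_one hgm))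
      refine ⟨((n : ℕ) : ℤ), e.injective ?_⟩
      show e ((e.symm (q₀, g)) ^ ((n : ℕ) : ℤ)) = e y
      rw [zpow_natCast, map_pow, MulEquiv.apply_symm_apply]
      exact Prod.ext (hn1.trans hi.2) (hn2.trans hj.symm)
    exact isCyclic_of_injective (Subgroup.inclusion hle) (Subgroup.inclusion_injective hle)

end Cfsg.Agent.S4370
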