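import Cfsg.Statements.S4377
import Mathlib

set_option autoImplicit false
open Cfsg

namespace Cfsg.Agent.S4377

/-- Two finite groups have the same number of elements of each order if and only if, for every n, they have the same number of elements g with gⁿ = 1. -/
theorem result {G H : Type*} [Group G] [Finite G] [Group H] [Finite H] :
    (∀ n : ℕ, Nat.card {g : G // orderOf g = n} = Nat.card {h : H // orderOf h = n}) ↔
      ∀ n : ℕ, Nat.card {g : G // g ^ n = 1} = Nat.card {h : H // h ^ n = 1} := by
  classical
  constructor
  · intro h n
    have e : G ≃ H := Equiv.ofFiberEquiv (f := fun g : G => orderOf g) (g := fun x : H => orderOf x)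
      (fun m => Classical.choice (Finite.card_eq.mp (h m)) )
    let e' := Equiv.ofFiberEquiv (f := fun g : G => orderOf g) (g := fun x : H => orderOf x)
      (fun m => Classical.choice (Finite.card_eq.mp (h m)) )
    have he : ∀ g, orderOf (e' g) = orderOf g := fun g => Equiv.ofFiberEquiv_map (g := fun x : H => orderOf x) _ g
    refine Nat.card_congr (e'.subtypeEquiv fun g => ?_)
    rw [← orderOf_dvd_iff_pow_eq_one, ← orderOf_dvd_iff_pow_eq_one, he]
  · intro h n
    induction n using Nat.strong_induction_on with
    | _ n ih =>
      rcases Nat.eq_zero_or_pos n with rfl | hn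
      · have h1 : IsEmpty {g : G // orderOf g = 0} := ⟨fun g => (orderOf_pos g.1).ne' g.2⟩
        have h2 : IsEmpty {g : H // orderOf g = 0} := ⟨fun g => (orderOf_pos g.1).ne' g.2⟩
        rw [Nat.card_of_isEmpty, Nat.card_of_isEmpty]
      · have := Fintype.ofFinite G
        have := Fintype.ofFinite H
        have hG := sum_card_orderOf_eq_card_pow_eq_one (G := G) hn.ne'
        have hH := sum_card_orderOf_eq_card_pow_eq_one (G := H) hn.ne'
        have hn' : n ∈ n.divisors := Nat.mem_divisors_self n hn.ne'
        simp only [Nat.card_eq_fintype_card, Fintype.card_subtype] at h ih ⊢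
        rw [← Finset.add_sum_erase _ _ hn', h n] at hG
        rw [← Finset.add_sum_erase _ _ hn'] at hH
        have hs : ∑ m ∈ n.divisors.erase n, ({g | orderOf g = m} : Finset G).card
            = ∑ m ∈ n.divisors.erase n, ({g | orderOf g = m} : Finset H).card := by
          refine Finset.sum_congr rfl fun m hm => ?_
          obtain ⟨hne, hmd⟩ := Finset.mem_erase.1 hm
          exact ih m (lt_of_le_of_ne (Nat.divisor_le hmd) hne)
        omega

end Cfsg.Agent.S4377
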