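import Cfsg.Statements.S4378
import Cfsg.Agent.Lib.FGStruct.MaxPNilpotent

set_option autoImplicit false
open Cfsg

namespace Cfsg.Agent.S4378

/-- Let G be a finite solvable group in which every maximal subgroup either has a normal 2-complement or has prime index. Then G has a chain of normal subgroups 1 ≤ A ≤ B ≤ C ≤ G in which A and C/B have odd order and B/A and G/C are 2-groups (so the 2-length of G is at most 2). -/
theorem result {G : Type*} [Group G] [Finite G]
    (hG : Group.IsSolvable G)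
    (hmax : ∀ M : Subgroup G, IsCoatom M → (∃ K : Subgroup ↥M, K.Normal ∧ ¬ 2 ∣ Nat.card K ∧ ∃ k : ℕ, K.index = 2 ^ k) ∨ (M.index).Prime) :
    ∃ A B C : Subgroup G, A.Normal ∧ B.Normal ∧ C.Normal ∧ A ≤ B ∧ B ≤ C ∧ Odd (Nat.card A) ∧
      (∃ k : ℕ, A.relIndex B = 2 ^ k) ∧ Odd (B.relIndex C) ∧ ∃ k : ℕ, C.index = 2 ^ k := by
  haveI : Fact (Nat.Prime 2) := ⟨Nat.prime_two⟩
  have hgood : CfsgLib.MaxPNilpotent.Good 2 G := by
    intro H _ _ f hf hO
    haveI : Group.IsSolvable H := Group.isSolvable_of_surjective hf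
    have hF : Cfsg.fittingSubgroup H ≤ Cfsg.pCore 2 H := by
      rw [CfsgLib.Solvable.fittingSubgroup_eq_iSup_pCore]
      refine iSup_le fun q => ?_
      haveI : Fact (q : ℕ).Prime := ⟨(Nat.mem_primeFactors.1 q.2).1⟩
      by_cases hq : (q : ℕ) = 2
      · rw [hq]
      · refine le_trans (le_trans (CfsgLib.Solvable.le_pPrimeCore (CfsgLib.Solvable.pCore_normal _ H) ?_) hO.le) bot_le
        obtain ⟨j, hj⟩ := CfsgLib.Solvable.card_pCore (p := (q : ℕ)) (G := H)
        rw [hj]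
        exact Nat.Coprime.pow_left _ ((Nat.coprime_primes Fact.out Nat.prime_two).2 hq)
    exact le_trans (Subgroup.centralizer_le hF) (le_trans CfsgLib.Solvable.centralizer_fittingSubgroup_le hF)
  obtain ⟨A, B, C, hA, hB, hC, hAB, hBC, h1, h2, h3, h4⟩ := CfsgLib.MaxPNilpotent.main 2 _ G rfl hgood hmax
  have odd : ∀ m : ℕ, ¬ 2 ∣ m → Odd m := fun m hm => Nat.not_even_iff_odd.1 fun h => hm (even_iff_two_dvd.1 h)
  exact ⟨A, B, C, hA, hB, hC, hAB, hBC, odd _ h1, h2, odd _ h3, h4⟩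

end Cfsg.Agent.S4378
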