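import Cfsg.Statements.S4381
import Cfsg.Agent.Lib.Solvable.CoprimeMulAction
import Cfsg.Agent.Lib.PGroup.Basic

set_option autoImplicit false
open Pointwise
open Cfsg
open scoped Pointwise

namespace Cfsg.Agent.S4381

/-- Invariant complement modulo the Frattini subgroup. -/
theorem exists_invariant_sup_eq_top {A G : Type*} [Group A] [Finite A] [Group G] [Finite G]
    [MulDistribMulAction A G] (hcop : (Nat.card A).Coprime (Nat.card G)) {p : ℕ} [Fact p.Prime]
    (hG : IsPGroup p G) (M : Subgroup G) (hM : frattini G ≤ M)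
    (hMA : ∀ a : A, ∀ x ∈ M, a • x ∈ M) :
    ∃ L : Subgroup G, (∀ a : A, ∀ x ∈ L, a • x ∈ L) ∧ L ⊔ M = ⊤ ∧ L ⊓ M ≤ frattini G := by
  classical
  cases nonempty_fintype A
  obtain ⟨L0, ⟨hL0, hdisj⟩, hmax⟩ := Set.Finite.exists_maximal
    (s := {L : Subgroup G | frattini G ≤ L ∧ L ⊓ M ≤ frattini G}) (Set.toFinite _)
    ⟨frattini G, le_rfl, inf_le_left⟩
  have hL0n : L0.Normal := ⟨fun x hx g => by
    have h1 : g * x * g⁻¹ * x⁻¹ ∈ L0 := hL0 (CfsgLib.PGroup.commutator_le_frattini hG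
      (Subgroup.commutator_mem_commutator (Subgroup.mem_top g) (Subgroup.mem_top x)))
    simpa using L0.mul_mem h1 hx⟩
  have hsup : ∀ g : G, g ∈ L0 ⊔ M := by
    intro g
    by_contra hg
    have hnot := hmax (y := L0 ⊔ Subgroup.zpowers g) ⟨hL0.trans le_sup_left, ?_⟩ le_sup_left
    · exact hg (Subgroup.mem_sup_left (hnot (Subgroup.mem_sup_right (Subgroup.mem_zpowers g))))
    · intro x hx
      obtain ⟨hx1, hx2⟩ := hx
      obtain ⟨l, hl, y, hy, rfl⟩ := Subgroup.mem_sup_of_normal_left.1 hx1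
      obtain ⟨i, rfl⟩ := Subgroup.mem_zpowers_iff.1 hy
      by_cases hi : (p : ℤ) ∣ i
      · obtain ⟨j, rfl⟩ := hi
        refine hdisj ⟨L0.mul_mem hl (hL0 ?_), hx2⟩
        rw [zpow_mul, zpow_natCast]
        exact Subgroup.zpow_mem _ (CfsgLib.PGroup.pow_mem_frattini hG g) j
      · exfalso
        obtain ⟨u, v, huv⟩ := ((Nat.prime_iff_prime_int.1 (Fact.out : p.Prime)).coprime_iff_not_dvd).2 hi
        have h1 : (g ^ i) ∈ L0 ⊔ M := by
          rw [show g ^ i = l⁻¹ * (l * g ^ i) by group]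
          exact mul_mem (Subgroup.mem_sup_left (L0.inv_mem hl)) (Subgroup.mem_sup_right hx2)
        apply hg
        rw [← zpow_one g, ← huv, zpow_add, mul_comm u, mul_comm v, zpow_mul, zpow_mul, zpow_natCast]
        exact mul_mem (Subgroup.zpow_mem _ (Subgroup.mem_sup_left
          (hL0 (CfsgLib.PGroup.pow_mem_frattini hG g))) _) (Subgroup.zpow_mem _ h1 _)
  letI : CommGroup (G ⧸ frattini G) :=
    { (inferInstance : Group (G ⧸ frattini G)) with
      mul_comm := fun a b => QuotientGroup.induction_on a fun x => QuotientGroup.induction_on b fun y => by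
        rw [← QuotientGroup.mk_mul, ← QuotientGroup.mk_mul, QuotientGroup.eq]
        apply CfsgLib.PGroup.commutator_le_frattini hG
        rw [show (x * y)⁻¹ * (y * x) = y⁻¹ * x⁻¹ * y⁻¹⁻¹ * x⁻¹⁻¹ by group]
        exact Subgroup.commutator_mem_commutator (Subgroup.mem_top _) (Subgroup.mem_top _) }
  -- the projection
  have hdec : ∀ g : G, ∃ m ∈ M, m⁻¹ * g ∈ L0 := by
    intro g
    obtain ⟨l, hl, m, hm, rfl⟩ := Subgroup.mem_sup_of_normal_left.1 (hsup g)
    exact ⟨m, hm, by simpa [mul_assoc] using hL0n.conj_mem l hl m⁻¹⟩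
  choose π hπM hπL using hdec
  have huniq : ∀ g m, m ∈ M → m⁻¹ * g ∈ L0 → (QuotientGroup.mk m : G ⧸ frattini G) = QuotientGroup.mk (π g) := by
    intro g m hm hml
    rw [QuotientGroup.eq]
    refine hdisj ⟨?_, M.mul_mem (M.inv_mem hm) (hπM g)⟩
    rw [show m⁻¹ * π g = (m⁻¹ * g) * ((π g)⁻¹ * g)⁻¹ by group]
    exact L0.mul_mem hml (L0.inv_mem (hπL g))
  have hπmul : ∀ g h, (QuotientGroup.mk (π (g * h)) : G ⧸ frattini G) =
      QuotientGroup.mk (π g) * QuotientGroup.mk (π h) := by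
    intro g h
    rw [← QuotientGroup.mk_mul]
    refine (huniq (g * h) _ (M.mul_mem (hπM g) (hπM h)) ?_).symm
    rw [show (π g * π h)⁻¹ * (g * h) = ((π h)⁻¹ * ((π g)⁻¹ * g) * (π h)⁻¹⁻¹) * ((π h)⁻¹ * h) by group]
    exact L0.mul_mem (hL0n.conj_mem _ (hπL g) _) (hπL h)
  have hπid : ∀ m ∈ M, (QuotientGroup.mk (π m) : G ⧸ frattini G) = QuotientGroup.mk m :=
    fun m hm => (huniq m m hm (by simp [L0.one_mem])).symm
  -- the action on the quotient
  have hΦ : ∀ a : A, frattini G ≤ (frattini G).comap (MulDistribMulAction.toMonoidHom G a) := by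
    intro a x hx
    have h1 := Subgroup.characteristic_iff_map_le.1 (inferInstance : (frattini G).Characteristic)
      (MulDistribMulAction.toMulEquiv G a)
    exact h1 (Subgroup.mem_map_of_mem _ hx)
  let act : A → (G ⧸ frattini G →* G ⧸ frattini G) := fun a =>
    QuotientGroup.map _ _ (MulDistribMulAction.toMonoidHom G a) (hΦ a)
  have hact : ∀ a x, act a (QuotientGroup.mk x) = QuotientGroup.mk (a • x) := fun a x => rfl
  let f : G →* G ⧸ frattini G :=
    { toFun := fun g => ∏ a : A, act a (QuotientGroup.mk (π (a⁻¹ • g)))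
      map_one' := by
        refine Finset.prod_eq_one fun a _ => ?_
        rw [smul_one, hπid 1 M.one_mem, QuotientGroup.mk_one, map_one]
      map_mul' := fun g h => by simp only [smul_mul', hπmul, map_mul, Finset.prod_mul_distrib] }
  have hfeq : ∀ b g, f (b • g) = act b (f g) := by
    intro b g
    show ∏ a, _ = act b (∏ a, _)
    rw [map_prod]
    refine Fintype.prod_equiv (Equiv.mulLeft b⁻¹) _ _ fun a => ?_
    simp only [Equiv.coe_mulLeft, mul_inv_rev, inv_inv, mul_smul]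
    simp only [hact, mul_smul, smul_inv_smul]
  have hfM : ∀ m ∈ M, f m = (QuotientGroup.mk m) ^ Nat.card A := by
    intro m hm
    show ∏ a, _ = _
    rw [Finset.prod_congr rfl (fun a _ => ?_), Finset.prod_const, Finset.card_univ, Nat.card_eq_fintype_card]
    rw [hπid _ (hMA _ _ hm), hact, smul_inv_smul]
  have hfrange : ∀ g, f g ∈ M.map (QuotientGroup.mk' (frattini G)) := fun g =>
    Subgroup.prod_mem _ fun a _ => ⟨a • π (a⁻¹ • g), hMA _ _ (hπM _), rfl⟩
  have hroot : ∀ x : G ⧸ frattini G, ∃ j : ℕ, (x ^ Nat.card A) ^ j = x := fun x =>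
    exists_pow_eq_self_of_coprime (hcop.coprime_dvd_right
      ((orderOf_dvd_natCard x).trans (Subgroup.card_quotient_dvd_card _)))
  refine ⟨f.ker, fun a x hx => ?_, ?_, ?_⟩
  · rw [MonoidHom.mem_ker] at hx ⊢
    rw [hfeq, hx, map_one]
  · rw [eq_top_iff]
    intro g _
    obtain ⟨m, hm, hfg⟩ := hfrange g
    obtain ⟨j, hj⟩ := hroot (QuotientGroup.mk m)
    rw [← inv_mul_cancel_right g (m ^ j)]
    refine mul_mem (Subgroup.mem_sup_left ?_) (Subgroup.mem_sup_right (M.pow_mem hm j))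
    rw [MonoidHom.mem_ker, map_mul, map_inv, map_pow, hfM m hm, ← hfg, hj]
    exact mul_inv_cancel _
  · rintro x ⟨hx, hxM⟩
    have h1 := MonoidHom.mem_ker.1 hx
    rw [hfM x hxM] at h1
    obtain ⟨j, hj⟩ := hroot (QuotientGroup.mk x)
    rw [h1, one_pow] at hj
    exact (QuotientGroup.eq_one_iff x).1 hj.symm

/-- Let the finite group A act by automorphisms on the finite group G with the orders of A and G coprime, and assume that A or G is solvable. Call a proper A-invariant subgroup of G maximal A-invariant when no A-invariant subgroup lies strictly between it and G. Then all maximal A-invariant subgroups of G are conjugate under elements of the fixed-point subgroup C_G(A) if and only if G is a p-group for some prime p and A leaves invariant no subgroup strictly between the Frattini subgroup of G and G. In that case, if G is nontrivial, the Frattini subgroup is the only maximal A-invariant subgroup (a trivial G has none). -/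
theorem result {A G : Type*} [Group A] [Finite A]
    [Group G] [Finite G] [MulDistribMulAction A G] (hcop : (Nat.card A).Coprime (Nat.card G)) (hsol : Group.IsSolvable A ∨ Group.IsSolvable G) :
    ((∀ M N : Subgroup G, (M ≠ ⊤ ∧ (∀ a : A, ∀ x ∈ M, a • x ∈ M) ∧ ∀ L : Subgroup G, M < L → (∀ a : A, ∀ x ∈ L, a • x ∈ L) → L = ⊤) → (N ≠ ⊤ ∧ (∀ a : A, ∀ x ∈ N, a • x ∈ N) ∧ ∀ L : Subgroup G, N < L → (∀ a : A, ∀ x ∈ L, a • x ∈ L) → L = ⊤) →
        ∃ c : G, (∀ a : A, a • c = c) ∧ N = MulAut.conj c • M) ↔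
      ((∃ p : ℕ, p.Prime ∧ IsPGroup p G) ∧ ∀ L : Subgroup G, frattini G < L → (∀ a : A, ∀ x ∈ L, a • x ∈ L) → L = ⊤)) ∧
    (((∃ p : ℕ, p.Prime ∧ IsPGroup p G) ∧ ∀ L : Subgroup G, frattini G < L → (∀ a : A, ∀ x ∈ L, a • x ∈ L) → L = ⊤) →
      ∀ M : Subgroup G, (M ≠ ⊤ ∧ (∀ a : A, ∀ x ∈ M, a • x ∈ M) ∧ ∀ L : Subgroup G, M < L → (∀ a : A, ∀ x ∈ L, a • x ∈ L) → L = ⊤) ↔ (M = frattini G ∧ M ≠ ⊤)) := by
  classical
  have hΦinv : ∀ a : A, ∀ x ∈ frattini G, a • x ∈ frattini G := fun a x hx =>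
    (Subgroup.characteristic_iff_map_le.1 inferInstance (MulDistribMulAction.toMulEquiv G a))
      (Subgroup.mem_map_of_mem _ hx)
  have hsupinv : ∀ M N : Subgroup G, (∀ a : A, ∀ x ∈ M, a • x ∈ M) →
      (∀ a : A, ∀ x ∈ N, a • x ∈ N) → ∀ a : A, ∀ x ∈ M ⊔ N, a • x ∈ M ⊔ N := by
    intro M N hM hN a
    show M ⊔ N ≤ (M ⊔ N).comap (MulDistribMulAction.toMonoidHom G a)
    exact sup_le (fun x hx => Subgroup.mem_sup_left (hM a x hx)) (fun x hx => Subgroup.mem_sup_right (hN a x hx))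
  have huniq : ((∃ p : ℕ, p.Prime ∧ IsPGroup p G) ∧ ∀ L : Subgroup G, frattini G < L → (∀ a : A, ∀ x ∈ L, a • x ∈ L) → L = ⊤) →
      ∀ M : Subgroup G, (M ≠ ⊤ ∧ (∀ a : A, ∀ x ∈ M, a • x ∈ M) ∧ ∀ L : Subgroup G, M < L → (∀ a : A, ∀ x ∈ L, a • x ∈ L) → L = ⊤) ↔ (M = frattini G ∧ M ≠ ⊤) := by
    rintro ⟨-, hirr⟩ M
    constructor
    · rintro ⟨hne, hMA, hmax⟩
      have hnt : M ⊔ frattini G ≠ ⊤ := fun h => hne (frattini_nongenerating h)
      have h1 : M ⊔ frattini G = frattini G := by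
        by_contra h
        exact hnt (hirr _ (lt_of_le_of_ne le_sup_right (Ne.symm h)) (hsupinv _ _ hMA hΦinv))
      refine ⟨?_, hne⟩
      rcases (sup_eq_right.1 h1).lt_or_eq with hlt | heq
      · have := hmax _ hlt hΦinv
        rw [← h1] at this
        exact absurd this hnt
      · exact heq
    · rintro ⟨rfl, hne⟩
      exact ⟨hne, hΦinv, fun L hL hLA => hirr L hL hLA⟩
  refine ⟨⟨fun hconj => ?_, fun h M N hM hN => ?_⟩, huniq⟩
  swap
  · refine ⟨1, fun a => smul_one a, ?_⟩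
    rw [map_one, one_smul, ((huniq h M).1 hM).1, ((huniq h N).1 hN).1]
  have hexmax : ∀ X : Subgroup G, X ≠ ⊤ → (∀ a : A, ∀ x ∈ X, a • x ∈ X) →
      ∃ M, X ≤ M ∧ M ≠ ⊤ ∧ (∀ a : A, ∀ x ∈ M, a • x ∈ M) ∧
        ∀ L : Subgroup G, M < L → (∀ a : A, ∀ x ∈ L, a • x ∈ L) → L = ⊤ := by
    intro X hX hXA
    obtain ⟨M, hXM, ⟨hM1, hM2⟩, hmax⟩ := Set.Finite.exists_le_maximal
      (s := {M : Subgroup G | M ≠ ⊤ ∧ ∀ a : A, ∀ x ∈ M, a • x ∈ M}) (Set.toFinite _) ⟨hX, hXA⟩
    refine ⟨M, hXM, hM1, hM2, fun L hML hLA => ?_⟩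
    by_contra hL
    exact not_le_of_gt hML (hmax ⟨hL, hLA⟩ hML.le)
  rcases subsingleton_or_nontrivial G with hG | hG
  · exact ⟨⟨2, Nat.prime_two, fun g => ⟨0, Subsingleton.elim _ _⟩⟩,
      fun L _ _ => Subsingleton.elim _ _⟩
  have hpg : ∃ p : ℕ, p.Prime ∧ IsPGroup p G := by
    by_contra hcon
    push Not at hcon
    obtain ⟨M, -, hM1, hM2, hM3⟩ := hexmax ⊥ bot_ne_top (fun a x hx => by
      rw [Subgroup.mem_bot.1 hx, smul_one]; exact Subgroup.one_mem _)
    apply hM1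
    rw [← Subgroup.index_eq_one]
    by_contra hidx
    obtain ⟨p, hp, hpd⟩ := Nat.exists_prime_and_dvd hidx
    haveI := Fact.mk hp
    obtain ⟨P, -, hP⟩ := CfsgLib.Solvable.exists_smul_invariant_sylow (A := A) hcop hsol p
      (U := ⊥) IsPGroup.of_bot (fun a x hx => by rw [Subgroup.mem_bot.1 hx, smul_one]; exact Subgroup.one_mem _)
    have hPtop : (P : Subgroup G) ≠ ⊤ := fun h =>
      hcon p hp ((P.isPGroup'.to_le h.ge).of_equiv Subgroup.topEquiv)
    obtain ⟨N, hPN, hN1, hN2, hN3⟩ := hexmax _ hPtop hP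
    obtain ⟨c, -, hc⟩ := hconj M N ⟨hM1, hM2, hM3⟩ ⟨hN1, hN2, hN3⟩
    have hcard : Nat.card (P : Subgroup G) ∣ Nat.card M := by
      have h1 := Subgroup.card_dvd_of_le hPN
      rw [hc] at h1
      rwa [← Nat.card_congr (Subgroup.equivSMul (MulAut.conj c) M).toEquiv] at h1
    obtain ⟨t, ht⟩ := hcard
    have h2 := Subgroup.card_mul_index M
    rw [← Subgroup.card_mul_index (P : Subgroup G), ht, mul_assoc] at h2
    exact P.not_dvd_index (Nat.eq_of_mul_eq_mul_left Nat.card_pos h2 ▸ hpd.mul_left t)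
  refine ⟨hpg, fun L hL hLA => ?_⟩
  obtain ⟨p, hp, hpG⟩ := hpg
  haveI := Fact.mk hp
  by_contra hLtop
  obtain ⟨M, hLM, hM1, hM2, hM3⟩ := hexmax L hLtop hLA
  have hΦM : frattini G ≤ M := hL.le.trans hLM
  obtain ⟨C, hCA, hCsup, hCinf⟩ := exists_invariant_sup_eq_top hcop hpG M hΦM hM2
  have hCtop : C ≠ ⊤ := by
    intro h
    rw [h, top_inf_eq] at hCinf
    exact not_le_of_gt hL (hLM.trans hCinf)
  obtain ⟨N, hCN, hN1, hN2, hN3⟩ := hexmax C hCtop hCA
  obtain ⟨c, -, hc⟩ := hconj M N ⟨hM1, hM2, hM3⟩ ⟨hN1, hN2, hN3⟩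
  haveI hMn : M.Normal := ⟨fun x hx g => by
    have h1 : g * x * g⁻¹ * x⁻¹ ∈ M := hΦM (CfsgLib.PGroup.commutator_le_frattini hpG
      (Subgroup.commutator_mem_commutator (Subgroup.mem_top g) (Subgroup.mem_top x)))
    simpa using M.mul_mem h1 hx⟩
  have hsn : MulAut.conj c • M = M := by
    refine Subgroup.ext fun x => ?_
    rw [Subgroup.mem_pointwise_smul_iff_inv_smul_mem, ← map_inv, MulAut.smul_def, MulAut.conj_apply,
      inv_inv]
    exact ⟨fun h => by simpa [mul_assoc] using hMn.conj_mem _ h c,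
      fun h => by simpa using hMn.conj_mem _ h c⁻¹⟩
  rw [hsn] at hc
  exact hM1 (eq_top_iff.2 (hCsup ▸ sup_le (hc ▸ hCN) le_rfl))

end Cfsg.Agent.S4381
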