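import Cfsg.Statements.S4385
import Cfsg.Agent.Lib.DihedralPush.Setup
import Cfsg.Agent.Lib.Solvable.Basic

set_option autoImplicit false
open Pointwise
open Cfsg

namespace Cfsg.Agent.S4385

/-- Let H be a subgroup of a finite group G whose largest normal 2-subgroup O_2(H) is nontrivial and such that H/O_2(H) is a dihedral group of order at least 4. Let P be a Sylow 2-subgroup of H and S a Sylow 2-subgroup of G containing P. Suppose y ∈ S lies outside P, normalizes P, has y² in the product of P with the centralizer of P in G, and normalizes no non-identity normal subgroup of H contained in P. Then P has order 4, 8 or 16, and H modulo its largest normal subgroup of odd order is isomorphic to the four-group, to the symmetric group of degree 4, or to the direct product of the symmetric group of degree 4 with a group of order 2. -/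
theorem result {G : Type*} [Group G] [Finite G]
    (H : Subgroup G) (hO : Cfsg.pCore 2 ↥H ≠ ⊥) (n : ℕ) (hn : 2 ≤ n) (hdih : Nonempty (↥H ⧸ Cfsg.pCore 2 ↥H ≃* DihedralGroup n))
    (P : Subgroup G) (hPH : P ≤ H) (hP : IsPGroup 2 P) (hPsyl : ¬ 2 ∣ P.relIndex H)
    (S : Sylow 2 G) (hPS : P ≤ (S : Subgroup G)) (y : G) (hyS : y ∈ (S : Subgroup G)) (hyP : y ∉ P)
    (hy2 : y ^ 2 ∈ P ⊔ Subgroup.centralizer (P : Set G)) (hyN : MulAut.conj y • P = P)
    (hyQ : ∀ Q : Subgroup G, Q ≤ P → (Q.subgroupOf H).Normal → MulAut.conj y • Q = Q → Q = ⊥) :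
    (Nat.card P = 4 ∨ Nat.card P = 8 ∨ Nat.card P = 16) ∧
    (Nonempty (↥H ⧸ Cfsg.oddCore ↥H ≃* Multiplicative (ZMod 2) × Multiplicative (ZMod 2)) ∨
     Nonempty (↥H ⧸ Cfsg.oddCore ↥H ≃* Equiv.Perm (Fin 4)) ∨
     Nonempty (↥H ⧸ Cfsg.oddCore ↥H ≃* Equiv.Perm (Fin 4) × Multiplicative (ZMod 2))) := by
  haveI : (Cfsg.pCore 2 ↥H).Normal := CfsgLib.Solvable.pCore_normal 2 _
  obtain ⟨e⟩ := hdih
  obtain ⟨Q, c, hQdef, hQP, hQn, hcM, hodd, hidx, hinv, hdec, hoc, -⟩ :=
    CfsgLib.DihedralPush.exists_data (by omega) e hPH hP hPsyl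
  have hyP' : y ∈ Subgroup.normalizer (P : Set G) := CfsgLib.Solvable.conj_smul_eq_self_iff.mp hyN
  obtain ⟨x, hx, u, hu, hxu⟩ : ∃ x ∈ P, ∃ u ∈ Subgroup.centralizer (P : Set G), x * u = y ^ 2 :=
    (CfsgLib.Solvable.mem_sup_of_le_normalizer
      ((Subgroup.centralizer_le_normalizer (P : Set G)))).mp hy2
  have hy2Q : y ^ 2 ∈ Subgroup.normalizer (Q : Set G) := by
    rw [← hxu]
    refine mul_mem (hQn (hPH hx)) (CfsgLib.DihedralPush.mem_normalizer_of fun s hs => ?_)
    rw [← (Subgroup.mem_centralizer_iff.mp hu) s (hQP hs), mul_inv_cancel_right]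
    exact hs
  have hcore : ∀ N : Subgroup G, N ≤ P → H ≤ Subgroup.normalizer (N : Set G) →
      y ∈ Subgroup.normalizer (N : Set G) → N = ⊥ := fun N hN hHN hyN' =>
    hyQ N hN (Subgroup.normal_subgroupOf_of_le_normalizer hHN)
      (CfsgLib.Solvable.conj_smul_eq_self_iff.mpr hyN')
  have hdisj : ∀ v ∈ P, v ∈ Subgroup.centralizer (H : Set G) →
      y * v * y⁻¹ ∈ Subgroup.centralizer (H : Set G) → v = 1 := by
    intro v hv h1 h2
    let N : Subgroup G := P ⊓ Subgroup.centralizer (H : Set G) ⊓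
      (Subgroup.centralizer (H : Set G)).comap (MulAut.conj y).toMonoidHom
    have hmem : ∀ {w}, w ∈ N ↔ (w ∈ P ∧ w ∈ Subgroup.centralizer (H : Set G)) ∧
        y * w * y⁻¹ ∈ Subgroup.centralizer (H : Set G) := Iff.rfl
    have := hcore N (inf_le_left.trans inf_le_left)
      (fun m hm => CfsgLib.DihedralPush.mem_normalizer_of fun s hs => by
        rw [(Subgroup.mem_centralizer_iff.mp hs.1.2) m hm, mul_inv_cancel_right]
        exact hs)
      (CfsgLib.DihedralPush.mem_normalizer_of fun s hs => by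
        obtain ⟨⟨hsP, hsC⟩, hsC'⟩ := hmem.mp hs
        refine hmem.mpr ⟨⟨CfsgLib.DihedralPush.conj_mem hyP' hsP, hsC'⟩, ?_⟩
        have e1 : y * (y * s * y⁻¹) * y⁻¹ = s :=
          calc y * (y * s * y⁻¹) * y⁻¹ = y ^ 2 * s * (y ^ 2)⁻¹ := by rw [sq]; group
            _ = x * (u * s * u⁻¹) * x⁻¹ := by rw [← hxu]; group
            _ = s := by
              rw [← (Subgroup.mem_centralizer_iff.mp hu) s hsP, mul_inv_cancel_right,
                (Subgroup.mem_centralizer_iff.mp hsC) x (hPH hx), mul_inv_cancel_right]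
        rw [e1]
        exact hsC)
    exact Subgroup.mem_bot.mp (this ▸ hmem.mpr ⟨⟨hv, h1⟩, h2⟩)
  have h : CfsgLib.DihedralPush.Push H P Q c y := by
    refine ⟨hP, hPH, hQP, hQn, hcM, hodd, hidx, hinv, hdec, hyP', hcore, hdisj, ?_⟩
    rw [hQdef, Ne, Subgroup.map_eq_bot_iff_of_injective _ H.subtype_injective]
    exact hO
  have key : ∀ {X : Type} [Group X] (ψ : ↥H →* X), Function.Surjective ψ →
      (∀ z : ↥H, z ∈ ψ.ker ↔ ((z : G) ∈ Subgroup.zpowers c ∧ ∀ q ∈ Q, Commute (z : G) q)) →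
      Nonempty (↥H ⧸ Cfsg.oddCore ↥H ≃* X) := by
    intro X _ ψ hs hk
    haveI : (Cfsg.oddCore ↥H).Normal := CfsgLib.Solvable.pPrimeCore_normal 2 _
    exact ⟨(QuotientGroup.quotientMulEquivOfEq (h.oddCore_eq_ker ψ hoc hk)).trans
      (QuotientGroup.quotientKerEquivOfSurjective ψ hs)⟩
  by_cases hnc : ∀ q ∈ Q, Commute c q
  · obtain ⟨hcard, ψ, hs, hk⟩ := h.central_case hnc hy2Q
    exact ⟨Or.inl hcard, Or.inl (key ψ hs hk)⟩
  · refine ⟨Or.inr (h.card_cases hnc (Or.inl hy2Q)).1, ?_⟩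
    rcases h.structure_cases hnc (Or.inl hy2Q) with ⟨ψ, hs, hk⟩ | ⟨ψ, hs, hk⟩
    · exact Or.inr (Or.inl (key ψ hs hk))
    · exact Or.inr (Or.inr (key ψ hs hk))

end Cfsg.Agent.S4385
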