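import Cfsg.Statements.S4387
import Mathlib

set_option autoImplicit false
open Pointwise
open Cfsg

namespace Cfsg.Agent.S4387

/-- Let G be a non-trivial finite group in which any two maximal subgroups are conjugate. Then G is cyclic of prime-power order. -/
theorem result {G : Type*} [Group G] [Finite G] [Nontrivial G]
    (h : ∀ M N : Subgroup G, IsCoatom M → IsCoatom N → ∃ g : G, N = MulAut.conj g • M) :
    IsCyclic G ∧ IsPrimePow (Nat.card G) := by
  classical
  have hb : ∃ M : Subgroup G, IsCoatom M := by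
    obtain h' | ⟨M, hM, -⟩ := eq_top_or_exists_le_coatom (⊥ : Subgroup G)
    · exact absurd h' bot_ne_top
    · exact ⟨M, hM⟩
  obtain ⟨M, hM⟩ := hb
  have hder : ∃ x : G, ∀ c : G ⧸ M, x • c ≠ c := by
    by_contra! hcon
    have := Fintype.ofFinite G
    have := Fintype.ofFinite (G ⧸ M)
    have : ∀ x : G, Fintype (MulAction.fixedBy (G ⧸ M) x) := fun x => Fintype.ofFinite _
    have : Unique (MulAction.orbitRel.Quotient G (G ⧸ M)) :=
      { default := Quotient.mk'' (1 : G)
        uniq := fun a => by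
          induction a using Quotient.inductionOn' with
          | _ c =>
            refine Quotient.sound' ?_
            exact MulAction.exists_smul_eq G _ c }
    have : Fintype (MulAction.orbitRel.Quotient G (G ⧸ M)) := Fintype.ofFinite _
    have hsum := MulAction.sum_card_fixedBy_eq_card_orbits_mul_card_group G (G ⧸ M)
    rw [Fintype.card_unique, one_mul, Fintype.card_eq_sum_ones (α := G)] at hsum
    have hlt : ∑ _x : G, 1 < ∑ x : G, Fintype.card (MulAction.fixedBy (G ⧸ M) x) := by
      refine Finset.sum_lt_sum (fun x _ => Fintype.card_pos_iff.2 ?_) ⟨1, Finset.mem_univ _, ?_⟩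
      · obtain ⟨c, hc⟩ := hcon x
        exact ⟨⟨c, hc⟩⟩
      · have : Fintype.card (MulAction.fixedBy (G ⧸ M) (1 : G)) = Fintype.card (G ⧸ M) :=
          Fintype.card_congr ⟨Subtype.val, fun c => ⟨c, one_smul G c⟩, fun _ => rfl, fun _ => rfl⟩
        rw [this]
        have h1 : M.index ≠ 1 := fun h1 => hM.1 (Subgroup.index_eq_one.1 h1)
        have h0 : M.index ≠ 0 := Subgroup.index_ne_zero_of_finite
        rw [← Nat.card_eq_fintype_card]
        change 1 < M.index
        omega
    omega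
  obtain ⟨x, hx⟩ := hder
  have hgen : Subgroup.zpowers x = ⊤ := by
    obtain h' | ⟨N, hN, hxN⟩ := eq_top_or_exists_le_coatom (Subgroup.zpowers x)
    · exact h'
    · exfalso
      obtain ⟨g, rfl⟩ := h M N hM hN
      have hm := hxN (Subgroup.mem_zpowers x)
      rw [Subgroup.mem_pointwise_smul_iff_inv_smul_mem, MulAut.smul_def, MulAut.conj_inv_apply] at hm
      apply hx (g : G)
      rw [MulAction.Quotient.smul_coe, QuotientGroup.eq, smul_eq_mul]
      have := M.inv_mem hm
      simpa [mul_assoc] using this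
  have hcyc : IsCyclic G := isCyclic_iff_exists_zpowers_eq_top.2 ⟨x, hgen⟩
  refine ⟨hcyc, ?_⟩
  have hu : ∀ N : Subgroup G, IsCoatom N → N = M := by
    intro N hN
    obtain ⟨g, rfl⟩ := h M N hM hN
    have : M.Normal := M.normal_of_isMulCommutative
    exact Subgroup.Normal.conj_smul_eq_self g M
  obtain ⟨p, hp, hpd⟩ := Nat.exists_prime_and_dvd (Finite.one_lt_card (α := G)).ne'
  refine (isPrimePow_iff_unique_prime_dvd).2 ⟨p, ⟨hp, hpd⟩, ?_⟩
  rintro r ⟨hr, hrd⟩
  by_contra hne
  -- the unique maximal subgroup contains every proper Sylow subgroup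
  have hsub : ∀ s : ℕ, s.Prime → ∀ S : Sylow s G, (∃ t : ℕ, t.Prime ∧ t ≠ s ∧ t ∣ Nat.card G) → (S : Subgroup G) ≤ M := by
    intro s hs S ⟨t, ht, hts, htd⟩
    obtain h' | ⟨N, hN, hle⟩ := eq_top_or_exists_le_coatom (S : Subgroup G)
    · exfalso
      have : Fact s.Prime := ⟨hs⟩
      obtain ⟨n, hn⟩ := IsPGroup.iff_card.1 S.2
      rw [h', Subgroup.card_top] at hn
      rw [hn] at htd
      exact hts ((Nat.prime_dvd_prime_iff_eq ht hs).1 (ht.dvd_of_dvd_pow htd))
    · exact hu N hN ▸ hle
  apply hM.1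
  refine Subgroup.eq_top_of_card_eq _ (Nat.dvd_antisymm M.card_subgroup_dvd_card ?_)
  refine (Nat.dvd_iff_prime_pow_dvd_dvd _ _).2 fun s k hs hk => ?_
  rcases Nat.eq_zero_or_pos k with rfl | hk0
  · simp
  have hsd : s ∣ Nat.card G := (dvd_pow_self s hk0.ne').trans hk
  have : Fact s.Prime := ⟨hs⟩
  obtain ⟨S⟩ : Nonempty (Sylow s G) := inferInstance
  have hle : (S : Subgroup G) ≤ M := by
    refine hsub s hs S ?_
    by_cases hsp : s = p
    · exact ⟨r, hr, hsp ▸ hne, hrd⟩
    · exact ⟨p, hp, Ne.symm hsp, hpd⟩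
  refine dvd_trans ?_ (Subgroup.card_dvd_of_le hle)
  obtain ⟨m, hm⟩ := S.card_eq_multiplicity.symm ▸ (dvd_rfl : Nat.card S ∣ Nat.card S)
  rw [S.card_eq_multiplicity]
  exact pow_dvd_pow s ((hs.pow_dvd_iff_le_factorization Nat.card_pos.ne').1 hk)

end Cfsg.Agent.S4387
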