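import Cfsg.Statements.S4394
import Cfsg.Agent.Lib.FGStruct.PLengthSemi

set_option autoImplicit false
open Cfsg

namespace Cfsg.Agent.S4394

/-- Let X be a finite minimal non-nilpotent group (not nilpotent, every proper subgroup nilpotent) with a nontrivial normal Sylow p-subgroup P. If G is a finite p-solvable group whose Sylow p-subgroups are isomorphic to P, then G has p-length at most 1. -/
theorem result {G X : Type*} [Group G] [Finite G] [Group X] [Finite X] (p : ℕ) [Fact p.Prime]
    (hX : Cfsg.IsMinimalNonNilpotent X) (P : Sylow p X) (hPn : (P : Subgroup X).Normal) (hP1 : (P : Subgroup X) ≠ ⊥)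
    (hG : Cfsg.IsPSolvable p G) (Q : Sylow p G) (hQ : Nonempty (↥(Q : Subgroup G) ≃* ↥(P : Subgroup X))) : Cfsg.PLengthLE p 1 G := by
  obtain ⟨e⟩ := hQ
  haveI := CfsgLib.Solvable.pPrimeCore_normal p G
  let f := QuotientGroup.mk' (pPrimeCore p G)
  have hf : Function.Surjective f := QuotientGroup.mk'_surjective _
  have hK : IsPSolvable p (G ⧸ pPrimeCore p G) := CfsgLib.PLoc.isPSolvable_of_surjective hf hG
  have hO := CfsgLib.Solvable.pPrimeCore_quotient_eq_bot (p := p) (pPrimeCore p G) rfl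
  let S : Sylow p (G ⧸ pPrimeCore p G) := Sylow.mapSurjective hf Q
  let φ : (Q : Subgroup G) →* (S : Subgroup (G ⧸ pPrimeCore p G)) :=
    (f.comp (Q : Subgroup G).subtype).codRestrict _ fun a => by
      rw [Sylow.coe_mapSurjective]; exact Subgroup.mem_map_of_mem f a.2
  have hφ : Function.Bijective φ := by
    refine ⟨(injective_iff_map_eq_one φ).2 fun a ha => ?_, fun b => ?_⟩
    · have h1 : (a : G) ∈ pPrimeCore p G := (QuotientGroup.eq_one_iff _).1 (congrArg Subtype.val ha)
      obtain ⟨k, hk⟩ := IsPGroup.iff_orderOf.1 Q.isPGroup' a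
      rw [← Subgroup.orderOf_coe] at hk
      exact Subtype.ext (orderOf_eq_one_iff.1 (Nat.eq_one_of_dvd_coprimes
        ((CfsgLib.Solvable.pPrimeCore_card_coprime p G).pow_right k)
        (Subgroup.orderOf_dvd_natCard _ h1) hk.dvd))
    · have hb : (b : G ⧸ pPrimeCore p G) ∈ (Q : Subgroup G).map f := by
        simpa only [S, Sylow.coe_mapSurjective] using b.2
      obtain ⟨a, ha, hab⟩ := hb
      exact ⟨⟨a, ha⟩, Subtype.ext hab⟩
  let e' := e.symm.trans (MulEquiv.ofBijective φ hφ)
  have hS : (S : Subgroup (G ⧸ pPrimeCore p G)) ≤ pCore p (G ⧸ pPrimeCore p G) := by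
    refine CfsgLib.FGStruct.PLengthSemi.le_pCore hK hO S ?_
    rcases CfsgLib.FGStruct.MinNonNilpSylow.facts hX P hPn hP1 with h | h
    · exact Or.inl ⟨⟨fun a b => e'.symm.injective (by rw [map_mul, map_mul]; exact h.is_comm.comm _ _)⟩⟩
    · exact Or.inr (CfsgLib.FGStruct.PLengthSemi.facts_congr e' h)
  haveI := CfsgLib.Solvable.pCore_normal (p := p) (G ⧸ pPrimeCore p G)
  have hker : ((QuotientGroup.mk' (pCore p (G ⧸ pPrimeCore p G))).comp f).ker = pPrimePCore p G := by
    rw [← MonoidHom.comap_ker, QuotientGroup.ker_mk', pPrimePCore]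
  refine CfsgLib.PLengthHH.pLengthLE_succ' (f := (QuotientGroup.mk' (pCore p (G ⧸ pPrimeCore p G))).comp f)
    ((QuotientGroup.mk'_surjective _).comp hf) hker
    (CfsgLib.FGS68.pLengthLE_zero_of_not_dvd ?_)
  rw [← Subgroup.index_eq_card]
  exact fun hd => S.not_dvd_index (hd.trans (Subgroup.index_dvd_of_le hS))

end Cfsg.Agent.S4394
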