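import Cfsg.Statements.S4395
import Cfsg.Agent.Lib.SchmidtCover.Cover
import Cfsg.Agent.Lib.SchmidtCover.Structure

set_option autoImplicit false
universe u
open Cfsg
open scoped commutatorElement

namespace Cfsg.Agent.S4395

/-- Let p ≠ q be primes, r ≥ 1, a the multiplicative order of p modulo q, and a₀ = a when a is odd, a₀ = 3a/2 when a is even. Call a finite group minimal non-p-nilpotent when it has no normal p-complement but every proper subgroup has one. Then there is a minimal non-p-nilpotent group G₀ of order p^a₀ · q^r such that every minimal non-p-nilpotent group of order p^t · q^r (any t) is a quotient of G₀ by a central subgroup. -/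
theorem result (p q r : ℕ) [Fact p.Prime] [Fact q.Prime] (hpq : p ≠ q) (hr : 1 ≤ r) (a a₀ : ℕ)
    (ha : a = orderOf (p : ZMod q)) (ha₀ : a₀ = if a % 2 = 1 then a else 3 * a / 2) :
    ∃ (G₀ : Type u) (_ : Group G₀) (_ : Finite G₀),
      (¬ Cfsg.HasNormalPComplement p G₀ ∧ ∀ K : Subgroup G₀, K ≠ ⊤ → Cfsg.HasNormalPComplement p ↥K) ∧ Nat.card G₀ = p ^ a₀ * q ^ r ∧
      ∀ (X : Type u) [Group X] [Finite X], (¬ Cfsg.HasNormalPComplement p X ∧ ∀ K : Subgroup X, K ≠ ⊤ → Cfsg.HasNormalPComplement p ↥K) →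
        (∃ t : ℕ, Nat.card X = p ^ t * q ^ r) → ∃ φ : G₀ →* X, Function.Surjective φ ∧ φ.ker ≤ Subgroup.center G₀ := by
  classical
  have hp : p.Prime := Fact.out
  have hq : q.Prime := Fact.out
  have hunit : IsUnit (p : ZMod q) := (ZMod.isUnit_iff_coprime _ _).mpr ((Nat.coprime_primes hp hq).mpr hpq)
  have ha0 : 0 < a := by
    rw [ha]
    exact hunit.isOfFinOrder.orderOf_pos
  let K : Type u := ULift.{u} (GaloisField p a)
  haveI : Finite K := inferInstanceAs (Finite (ULift.{u} (GaloisField p a)))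
  have hK : Nat.card K = p ^ a := (Nat.card_congr Equiv.ulift).trans (GaloisField.card p a ha0.ne')
  haveI : CharP K p := CfsgLib.SchmidtCover.charP_of_card hK
  obtain ⟨ζ, hord⟩ : ∃ ζ : Kˣ, orderOf ζ = q := by
    refine exists_prime_orderOf_dvd_card' q ?_
    rw [Nat.card_units, hK]
    refine (Nat.modEq_iff_dvd' (Nat.one_le_pow _ _ hp.pos)).mp ?_
    rw [← ZMod.natCast_eq_natCast_iff, Nat.cast_one, Nat.cast_pow, ha, pow_orderOf_eq_one]
  haveI : NeZero (q ^ r) := ⟨(Nat.pow_pos hq.pos).ne'⟩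
  have hn : ζ ^ (q ^ r) = 1 := by
    rw [← orderOf_dvd_iff_pow_eq_one, hord]
    exact dvd_pow_self q (by omega)
  have hgen := CfsgLib.SchmidtCover.closure_eq_top hpq ha hK ζ hord
  obtain ⟨G₀, i₁, i₂, g₀, hg₀, hg₀c, hg₀d, hg₀card⟩ := CfsgLib.SchmidtCover.exists_cover hK ha hpq hord hn
  have hM := CfsgLib.SchmidtCover.card_model (ζ := ζ) (n := q ^ r) (hn := hn)
  rw [hK] at hM
  have hcardG : Nat.card G₀ = p ^ a₀ * q ^ r := by rw [hg₀card, ha₀]
  have hmin₀ : ∀ H : Subgroup G₀, H.map g₀ = ⊤ → H = ⊤ := by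
    intro H hH
    have hsup : H ⊔ g₀.ker = ⊤ := by rw [← Subgroup.comap_map_eq, hH, Subgroup.comap_top]
    haveI : H.Normal := by
      rw [← Subgroup.normalizer_eq_top_iff, eq_top_iff, ← hsup]
      exact sup_le Subgroup.le_normalizer
        (hg₀c.trans ((Subgroup.center_le_centralizer _).trans (Subgroup.centralizer_le_normalizer _)))
    have hcle : commutator G₀ ≤ H := by
      rw [commutator_def, Subgroup.commutator_le]
      intro y _ w _
      obtain ⟨y₁, hy₁, y₂, hy₂, rfl⟩ := Subgroup.mem_sup_of_normal_left.mp (hsup ▸ Subgroup.mem_top y)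
      obtain ⟨w₁, hw₁, w₂, hw₂, rfl⟩ := Subgroup.mem_sup_of_normal_left.mp (hsup ▸ Subgroup.mem_top w)
      have e1 := Subgroup.mem_center_iff.mp (hg₀c hy₂)
      have e2 := Subgroup.mem_center_iff.mp (hg₀c hw₂)
      have h1 : ⁅y₁ * y₂, w₁ * w₂⁆ = ⁅y₁, w₁⁆ := by
        simp only [commutatorElement_def, mul_inv_rev]
        rw [show y₁ * y₂ * (w₁ * w₂) * (y₂⁻¹ * y₁⁻¹) * (w₂⁻¹ * w₁⁻¹) =
          y₁ * (y₂ * (w₁ * w₂)) * y₂⁻¹ * y₁⁻¹ * w₂⁻¹ * w₁⁻¹ from by group, ← e1 (w₁ * w₂)]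
        rw [show y₁ * ((w₁ * w₂) * y₂) * y₂⁻¹ * y₁⁻¹ * w₂⁻¹ * w₁⁻¹ =
          y₁ * w₁ * (w₂ * y₁⁻¹) * w₂⁻¹ * w₁⁻¹ from by group, ← e2 y₁⁻¹]
        group
      rw [h1, commutatorElement_def]
      exact mul_mem (mul_mem (mul_mem hy₁ hw₁) (inv_mem hy₁)) (inv_mem hw₁)
    rw [← hsup, eq_comm, sup_eq_left]
    exact hg₀d.trans hcle
  refine ⟨G₀, i₁, i₂, CfsgLib.SchmidtCover.minimal_of_cover hq hpq rfl hord hgen g₀ hg₀ hg₀c hmin₀, hcardG, ?_⟩
  intro X _ _ hX ⟨t, ht⟩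
  obtain ⟨g, hg, hgc, hgp, -⟩ := CfsgLib.SchmidtCover.exists_quot hK ha hpq hord rfl hn hX.1 hX.2 ht
  -- a minimal subgroup of the pullback covering the model
  let D : Subgroup (G₀ × X) :=
    MonoidHom.eqLocus (g₀.comp (MonoidHom.fst G₀ X)) (g.comp (MonoidHom.snd G₀ X))
  let π : G₀ × X →* CfsgLib.SchmidtCover.Model ζ (q ^ r) hn := g₀.comp (MonoidHom.fst G₀ X)
  have hDne : {W : Subgroup (G₀ × X) | W ≤ D ∧ W.map π = ⊤}.Nonempty := by
    refine ⟨D, le_rfl, ?_⟩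
    rw [eq_top_iff]
    intro w _
    obtain ⟨u, rfl⟩ := hg₀ w
    obtain ⟨v, hv⟩ := hg (g₀ u)
    exact ⟨(u, v), hv.symm, rfl⟩
  obtain ⟨W, ⟨hWD, hWtop⟩, hWmin⟩ := (Set.toFinite _).exists_minimal hDne
  let f₁ : W →* G₀ := (MonoidHom.fst G₀ X).comp W.subtype
  let f₂ : W →* X := (MonoidHom.snd G₀ X).comp W.subtype
  let πW : W →* CfsgLib.SchmidtCover.Model ζ (q ^ r) hn := g₀.comp f₁
  have hWeq : ∀ w : W, g₀ (f₁ w) = g (f₂ w) := fun w => hWD w.2
  have hπW : Function.Surjective πW := fun m => by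
    obtain ⟨w, hw, hwm⟩ := (hWtop ▸ Subgroup.mem_top m : m ∈ W.map π)
    exact ⟨⟨w, hw⟩, hwm⟩
  have hπWmin : ∀ H : Subgroup W, H.map πW = ⊤ → H = ⊤ := by
    intro H hH
    have h1 : (H.map W.subtype).map π = ⊤ := by
      rw [Subgroup.map_map]
      exact hH
    have h2 := hWmin ⟨(Subgroup.map_subtype_le H).trans hWD, h1⟩ (Subgroup.map_subtype_le H)
    rw [eq_top_iff]
    intro w _
    obtain ⟨w', hw', hww⟩ := h2 w.2
    rwa [← Subtype.ext hww]
  have hkc : πW.ker ≤ Subgroup.center W := by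
    intro w hw
    have e1 := Subgroup.mem_center_iff.mp (hg₀c (show f₁ w ∈ g₀.ker from hw))
    have e2 := Subgroup.mem_center_iff.mp (hgc (show f₂ w ∈ g.ker from
      MonoidHom.mem_ker.mpr ((hWeq w).symm.trans (MonoidHom.mem_ker.mp hw))))
    exact Subgroup.mem_center_iff.mpr fun v => Subtype.ext (Prod.ext (e1 (f₁ v)) (e2 (f₂ v)))
  have hker₀p : IsPGroup p g₀.ker := by
    intro k
    refine ⟨a₀, Subtype.ext ?_⟩
    have h1 : Nat.card g₀.ker * Nat.card (CfsgLib.SchmidtCover.Model ζ (q ^ r) hn) = p ^ a₀ * q ^ r := by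
      rw [← hcardG, ← g₀.ker.card_mul_index, Subgroup.index_ker, MonoidHom.range_eq_top.mpr hg₀, Subgroup.card_top]
    rw [hM, ← mul_assoc] at h1
    have h2 : Nat.card g₀.ker * p ^ a = p ^ a₀ := Nat.eq_of_mul_eq_mul_right (Nat.pow_pos hq.pos) h1
    rw [SubmonoidClass.coe_pow]
    exact orderOf_dvd_iff_pow_eq_one.mp ((Subgroup.orderOf_dvd_natCard g₀.ker k.2).trans
      (h2 ▸ dvd_mul_right _ _))
  have hkp : IsPGroup p πW.ker := by
    intro w
    obtain ⟨i₁', h₁'⟩ := hker₀p ⟨f₁ w, w.2⟩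
    obtain ⟨i₂', h₂'⟩ := hgp ⟨f₂ w, MonoidHom.mem_ker.mpr ((hWeq w).symm.trans (MonoidHom.mem_ker.mp w.2))⟩
    refine ⟨i₁' + i₂', Subtype.ext (Subtype.ext (Prod.ext ?_ ?_))⟩
    · have h1 : (f₁ w) ^ p ^ i₁' = 1 := congrArg Subtype.val h₁'
      show (f₁ w) ^ p ^ (i₁' + i₂') = 1
      rw [pow_add, pow_mul, h1, one_pow]
    · have h1 : (f₂ w) ^ p ^ i₂' = 1 := congrArg Subtype.val h₂'
      show (f₂ w) ^ p ^ (i₁' + i₂') = 1
      rw [pow_add, mul_comm, pow_mul, h1, one_pow]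
  have hWprop := CfsgLib.SchmidtCover.minimal_of_cover hq hpq rfl hord hgen πW hπW hkc hπWmin
  obtain ⟨i, hi⟩ := IsPGroup.iff_card.1 hkp
  have hWcard : Nat.card W = p ^ (i + a) * q ^ r := by
    rw [← πW.ker.card_mul_index, hi, Subgroup.index_ker, MonoidHom.range_eq_top.mpr hπW, Subgroup.card_top, hM,
      pow_add, mul_assoc]
  obtain ⟨-, -, -, -, hWle⟩ := CfsgLib.SchmidtCover.exists_quot hK ha hpq hord rfl hn hWprop.1 hWprop.2 hWcard
  rw [← ha₀, ← hcardG] at hWle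
  -- both projections are onto
  have hf₁ : Function.Surjective f₁ := by
    rw [← MonoidHom.range_eq_top]
    refine hmin₀ _ ?_
    rw [← MonoidHom.range_comp]
    exact MonoidHom.range_eq_top.mpr hπW
  have hf₁b : Function.Bijective f₁ :=
    (Nat.bijective_iff_surjective_and_card _).mpr ⟨hf₁, le_antisymm hWle (Nat.card_le_card_of_surjective _ hf₁)⟩
  let e₁ := MulEquiv.ofBijective f₁ hf₁b
  have hf₂ : Function.Surjective f₂ := by
    rw [← MonoidHom.range_eq_top]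
    by_contra hne
    have hsur : Function.Surjective (g.comp f₂.range.subtype) := fun m => by
      obtain ⟨w, hw⟩ := hπW m
      exact ⟨⟨f₂ w, w, rfl⟩, (hWeq w).symm.trans hw⟩
    exact CfsgLib.SchmidtCover.not_npc (hn := hn)
      (((Nat.coprime_primes hq hp).mpr hpq.symm).pow_left r)
      (fun h => hq.ne_one (by rw [← hord, h, orderOf_one]))
      (CfsgLib.NPC.hasNormalPComplement_of_surjective _ hsur (hX.2 _ hne))
  refine ⟨f₂.comp e₁.symm.toMonoidHom, hf₂.comp e₁.symm.surjective, fun u hu => hg₀c ?_⟩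
  rw [MonoidHom.mem_ker] at hu ⊢
  have h1 : g₀ (f₁ (e₁.symm u)) = g (f₂ (e₁.symm u)) := hWeq _
  rw [show f₂ (e₁.symm u) = 1 from hu, map_one] at h1
  rwa [show f₁ (e₁.symm u) = u from e₁.apply_symm_apply u] at h1

end Cfsg.Agent.S4395
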