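import Cfsg.Statements.S4396
import Cfsg.Agent.Lib.FGStruct.FreeModule
import Cfsg.Agent.Lib.Frobenius.Basic
import Cfsg.Agent.Lib.NilpPerm.Bound
import Cfsg.Agent.Lib.Perm.PermModule

set_option autoImplicit false
open Cfsg

namespace Cfsg.Agent.S4396

/-- Let the finite group A act faithfully and linearly on a finite-dimensional vector space V over a field k, and suppose A is a Frobenius group with nilpotent kernel F (every Frobenius kernel is nilpotent) and complement H such that F fixes no nonzero vector. Then V is free as a module for H: there is a subspace W with V the direct sum of the translates hW, h ∈ H. (No assumption on the characteristic of k.) -/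
theorem result {k V A : Type*} [Field k] [AddCommGroup V] [Module k V] [FiniteDimensional k V] [Group A] [Finite A] [DecidableEq A]
    (ρ : Representation k A V) (hρ : Function.Injective ρ)
    (Fk Hc : Subgroup A) [Fk.Normal] (hHc : Cfsg.IsFrobeniusComplement Hc) (hker : Cfsg.frobeniusKernel Hc = (Fk : Set A)) (hnil : Group.IsNilpotent ↥Fk)
    (hCF : ∀ v : V, (∀ f ∈ Fk, ρ f v = v) → v = 0) :
    ∃ W : Submodule k V, DirectSum.IsInternal (fun h : ↥Hc => W.map (ρ (h : A))) := by
  classical
  haveI := hnil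
  -- the part of the kernel of order prime to the characteristic
  obtain ⟨M, hMn, hMinv, hMk, hMfix⟩ : ∃ M : Subgroup A, Group.IsSolvable ↥M ∧
      (∀ a : A, ∀ m ∈ M, a * m * a⁻¹ ∈ M) ∧ (M ≤ Fk ∧ (Nat.card M : k) ≠ 0) ∧
      ∀ v, (∀ m ∈ M, ρ m v = v) → v = 0 := by
    by_cases h0 : (Nat.card Fk : k) = 0
    · obtain ⟨ℓ, hℓk⟩ := CharP.exists k
      have hℓdvd : ℓ ∣ Nat.card Fk := (CharP.cast_eq_zero_iff k ℓ _).1 h0
      rcases CharP.char_is_prime_or_zero k ℓ with hℓ | hℓ
      swap
      · subst hℓ
        exact absurd (Nat.eq_zero_of_zero_dvd hℓdvd) Nat.card_pos.ne'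
      haveI := Fact.mk hℓ
      obtain ⟨P⟩ := (inferInstance : Nonempty (Sylow ℓ Fk))
      haveI hPn : (P : Subgroup Fk).Normal :=
        (Group.isNilpotent_of_finite_tfae (G := Fk)).out 0 3 rfl rfl |>.mp hnil ℓ inferInstance P
      obtain ⟨Q, hQc⟩ := Subgroup.exists_right_complement'_of_coprime P.card_coprime_index
      have hQcard : Nat.Coprime ℓ (Nat.card Q) := by
        rw [← hQc.symm.index_eq_card]
        exact (Nat.Prime.coprime_iff_not_dvd hℓ).2 P.not_dvd_index
      have hpq : ∀ x ∈ (P : Subgroup Fk), ∀ y ∈ Q, Commute x y := by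
        intro x hx y hy
        obtain ⟨j, hj⟩ := IsPGroup.iff_orderOf.1 P.isPGroup' ⟨x, hx⟩
        rw [Subgroup.orderOf_mk] at hj
        refine CfsgLib.NilpPerm.commute_of_coprime_order ?_
        rw [hj]
        exact Nat.Coprime.pow_left j (Nat.Coprime.coprime_dvd_right
          (Subgroup.orderOf_dvd_natCard Q hy) hQcard)
      have hQmem : ∀ x : Fk, x ∈ Q ↔ Nat.Coprime ℓ (orderOf x) := by
        intro x
        refine ⟨fun hx => Nat.Coprime.coprime_dvd_right (Subgroup.orderOf_dvd_natCard Q hx) hQcard,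
          fun hx => ?_⟩
        obtain ⟨⟨⟨a, ha⟩, ⟨b, hb⟩⟩, hab, -⟩ := hQc.existsUnique x
        obtain ⟨j, hj⟩ := IsPGroup.iff_orderOf.1 P.isPGroup' ⟨a, ha⟩
        rw [Subgroup.orderOf_mk] at hj
        have hord : orderOf x = orderOf a * orderOf b := by
          rw [← hab]
          exact (hpq a ha b hb).orderOf_mul_eq_mul_orderOf_of_coprime (by
            rw [hj]
            exact Nat.Coprime.pow_left j (Nat.Coprime.coprime_dvd_right
              (Subgroup.orderOf_dvd_natCard Q hb) hQcard))
        rcases Nat.eq_zero_or_pos j with rfl | hj0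
        · rw [pow_zero, orderOf_eq_one_iff] at hj
          have hab' : a * b = x := hab
          rw [← hab', hj, one_mul]
          exact hb
        · exfalso
          rw [hord, hj] at hx
          exact (Nat.Prime.coprime_iff_not_dvd hℓ).1 hx ((dvd_pow_self ℓ hj0.ne').mul_right _)
      refine ⟨Q.map Fk.subtype, ?_, ?_, ⟨Subgroup.map_subtype_le Q, ?_⟩, ?_⟩
      · exact Group.isSolvable_of_surjective (f := (Q.equivMapOfInjective Fk.subtype Fk.subtype_injective).toMonoidHom)
          (MulEquiv.surjective _)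
      · rintro a _ ⟨m, hm, rfl⟩
        refine ⟨MulAut.conjNormal (H := Fk) a m, (hQmem _).2 ?_, by simp⟩
        rw [MulEquiv.orderOf_eq]
        exact (hQmem m).1 hm
      · rw [Nat.card_congr (Q.equivMapOfInjective Fk.subtype Fk.subtype_injective).toEquiv.symm, Ne,
          CharP.cast_eq_zero_iff k ℓ]
        exact (Nat.Prime.coprime_iff_not_dvd hℓ).1 hQcard
      · intro v hv
        by_contra hv0
        let U : Submodule k V :=
          { carrier := {w | ∀ m ∈ Q.map Fk.subtype, ρ m w = w}
            zero_mem' := fun m _ => map_zero _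
            add_mem' := fun {x y} hx hy m hm => by rw [map_add, hx m hm, hy m hm]
            smul_mem' := fun c x hx m hm => by rw [map_smul, hx m hm] }
        have hU : ∀ g : (P : Subgroup Fk), ∀ w ∈ U,
            (ρ.comp (Fk.subtype.comp (P : Subgroup Fk).subtype)) g w ∈ U := by
          intro g w hw m hm
          obtain ⟨m', hm', rfl⟩ := hm
          show ρ (Fk.subtype m') (ρ (g.1 : A) w) = ρ (g.1 : A) w
          have hc : (m' : A) * (g.1 : A) = (g.1 : A) * (m' : A) :=
            congrArg Subtype.val (hpq g.1 g.2 m' hm').symm.eq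
          show ρ (m' : A) (ρ (g.1 : A) w) = _
          rw [← Module.End.mul_apply, ← map_mul, hc, map_mul, Module.End.mul_apply,
            hw (m' : A) ⟨m', hm', rfl⟩]
        obtain ⟨w, hwU, hw0, hw⟩ := CfsgLib.Perm.exists_fixed_of_isPGroup (K := k)
          P.isPGroup' (ρ.comp (Fk.subtype.comp (P : Subgroup Fk).subtype)) U hU
          (Submodule.ne_bot_iff _ |>.2 ⟨v, hv, hv0⟩)
        apply hw0
        refine hCF w fun f hf => ?_
        obtain ⟨⟨⟨a, ha⟩, ⟨b, hb⟩⟩, hab, -⟩ := hQc.existsUnique (⟨f, hf⟩ : Fk)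
        have h1 : f = (a : A) * (b : A) := (congrArg Subtype.val hab).symm
        rw [h1, map_mul, Module.End.mul_apply, hwU (b : A) ⟨b, hb, rfl⟩]
        exact hw ⟨a, ha⟩
    · exact ⟨Fk, inferInstance, fun a m hm => Subgroup.Normal.conj_mem ‹Fk.Normal› m hm a,
        ⟨le_rfl, h0⟩, hCF⟩
  haveI := hMn
  haveI hMnorm : M.Normal := ⟨fun m hm a => hMinv a m hm⟩
  have hfpf : ∀ h : Hc, h ≠ 1 → ∀ q : M, MulAut.conjNormal (H := M) (h : A) q = q → q = 1 := by
    intro h hh q hq
    have h1 : (h : A) * q.1 * (h : A)⁻¹ = q.1 := by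
      simpa [MulAut.conjNormal_apply] using congrArg Subtype.val hq
    have hq1 : q.1 ∈ Cfsg.frobeniusKernel Hc := by rw [hker]; exact hMk.1 q.2
    have hh1 : (h : A) ≠ 1 := fun h2 => hh (Subtype.ext h2)
    have h3 : q.1 ∈ Hc := by
      refine CfsgLib.Frobenius.centralizer_le hHc h.2 hh1 ?_
      rw [Subgroup.mem_centralizer_singleton_iff]
      calc q.1 * (h : A) = (h : A) * q.1 * (h : A)⁻¹ * (h : A) := by rw [h1]
        _ = (h : A) * q.1 := by group
    exact Subtype.ext (CfsgLib.Frobenius.eq_one_of_mem_kernel_of_mem' hq1 h3)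
  obtain ⟨W, hW, hdim⟩ := CfsgLib.FGStruct.FreeModule.free_of_fpf (k := k)
    ((MulAut.conjNormal (H := M)).comp Hc.subtype) hMk.2 hfpf _ V rfl (ρ.comp Hc.subtype)
    (ρ.comp M.subtype) (fun h q => by
      show ρ (h : A) * ρ q.1 = ρ _ * ρ (h : A)
      rw [← map_mul, ← map_mul]
      congr 1
      simp [MulAut.conjNormal_apply])
    (fun v hv => hMfix v fun m hm => hv ⟨m, hm⟩)
  refine ⟨W, ?_⟩
  haveI := Fintype.ofFinite Hc
  let g := DirectSum.coeLinearMap (fun h : Hc => W.map (ρ (h : A)))
  have hsurj : Function.Surjective g := by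
    rw [← LinearMap.range_eq_top, DirectSum.range_coeLinearMap]
    exact hW
  have hle : Module.finrank k (DirectSum Hc fun h => W.map (ρ (h : A))) ≤ Module.finrank k V := by
    rw [Module.finrank_directSum]
    calc ∑ h : Hc, Module.finrank k (W.map (ρ (h : A))) ≤ ∑ _h : Hc, Module.finrank k W :=
          Finset.sum_le_sum fun h _ => Submodule.finrank_map_le _ _
      _ ≤ _ := by
          rw [Finset.sum_const, Finset.card_univ, smul_eq_mul, ← Nat.card_eq_fintype_card]
          exact hdim
  have hge := LinearMap.finrank_le_finrank_of_surjective (f := g) hsurj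
  have heq := le_antisymm hle hge
  exact ⟨(LinearMap.injective_iff_surjective_of_finrank_eq_finrank heq).2 hsurj, hsurj⟩

end Cfsg.Agent.S4396
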