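import Cfsg.Statements.S4399
import Cfsg.Agent.Lib.PGroup.MaximalClass
import Cfsg.Agent.Lib.TwoFusion.DihedralIso
import Mathlib

set_option autoImplicit false
open Cfsg

namespace Cfsg.Agent.S4399

/-- Let S be a finite 2-group whose commutator quotient S/[S,S] is a Klein four-group (order 4 and exponent 2). Then S itself has order 4, or S is dihedral of order at least 8, semidihedral of order at least 16 (order 2^(k+4) with an element a of order 2^(k+3) and an involution b with b a b⁻¹ = a^(2^(k+2)−1)), or generalized quaternion of order at least 8. -/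
theorem result {S : Type*} [Group S] [Finite S] (h2 : IsPGroup 2 S) (hab : Nat.card (Abelianization S) = 4)
    (hexp : ∀ x : Abelianization S, x ^ 2 = 1) :
    Nat.card S = 4 ∨
    ((∃ k : ℕ, Nonempty (S ≃* DihedralGroup (2 ^ (k + 2)))) ∨
      (∃ k : ℕ, Nat.card S = 2 ^ (k + 4) ∧ ∃ a b : S, orderOf a = 2 ^ (k + 3) ∧ orderOf b = 2 ∧ b * a * b⁻¹ = a ^ (2 ^ (k + 2) - 1)) ∨
      (∃ k : ℕ, Nonempty (S ≃* QuaternionGroup (2 ^ (k + 1))))) := by
  classical
  haveI : Fact (Nat.Prime 2) := ⟨Nat.prime_two⟩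
  obtain ⟨n, hn⟩ := IsPGroup.iff_card.1 h2
  have hidx : (commutator S).index = 4 := hab
  have hn2 : 2 ≤ n := by
    have h := Subgroup.index_dvd_card (H := commutator S)
    rw [hidx, hn, show (4 : ℕ) = 2 ^ 2 from rfl] at h
    exact (Nat.pow_dvd_pow_iff_le_right (by norm_num)).1 h
  rcases (Nat.lt_or_ge n 3) with h3 | h3
  · left
    rw [hn, show n = 2 by omega]; rfl
  right
  obtain ⟨a, t, ha, htA, hgen, ht2, hta, hZc, hZ2, haZ⟩ := CfsgLib.PGroup.MaxClass.structure_two n h3 hn hidx
  obtain ⟨k, rfl⟩ : ∃ k, n = k + 3 := ⟨n - 3, by omega⟩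
  rw [show k + 3 - 1 = k + 2 by omega] at ha
  rw [show k + 3 - 2 = k + 1 by omega] at haZ
  set z := a ^ (2 ^ (k + 1)) with hz
  have hz1 : z ≠ 1 := pow_ne_one_of_lt_orderOf (by positivity) (by rw [ha]; exact Nat.pow_lt_pow_right (by norm_num) (by omega))
  have hcent : ∀ y ∈ Subgroup.center S, y = 1 ∨ y = z := by
    intro y hy
    obtain ⟨c, -, hc⟩ := (Nat.card_eq_two_iff' (1 : ↥(Subgroup.center S))).1 hZ2 |> fun ⟨c, h1, h2⟩ =>
      (⟨c, h1, h2⟩ : ∃ c : ↥(Subgroup.center S), c ≠ 1 ∧ ∀ u : ↥(Subgroup.center S), u ≠ 1 → u = c)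
    by_cases h : y = 1
    · exact Or.inl h
    · exact Or.inr (congrArg Subtype.val ((hc ⟨y, hy⟩ fun e => h (congrArg Subtype.val e)).trans
        (hc ⟨z, haZ⟩ fun e => hz1 (congrArg Subtype.val e)).symm))
  have hzz : z * z = 1 := by
    rw [hz, ← pow_add, ← two_mul, ← pow_succ', ← ha]
    exact pow_orderOf_eq_one a
  have hAidx : (Subgroup.zpowers a).index = 2 := by
    have h := (Subgroup.zpowers a).card_mul_index
    rw [Nat.card_zpowers, ha, hn, pow_succ 2 (k + 2)] at h
    exact Nat.eq_of_mul_eq_mul_left (by positivity) h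
  have hdec : ∀ b : S, b ∉ Subgroup.zpowers a → ∀ g : S, g ∈ (⊤ : Subgroup S) ↔ ∃ i : ℤ, g = a ^ i ∨ g = b * a ^ i := by
    intro b hb g
    refine ⟨fun _ => ?_, fun _ => Subgroup.mem_top g⟩
    by_cases hg : g ∈ Subgroup.zpowers a
    · obtain ⟨i, hi⟩ := hg
      exact ⟨i, Or.inl hi.symm⟩
    · have h : b⁻¹ * g ∈ Subgroup.zpowers a :=
        (Subgroup.mul_mem_iff_of_index_two hAidx).2 ⟨fun h => absurd ((Subgroup.inv_mem_iff _).1 h) hb, fun h => absurd h hg⟩
      obtain ⟨i, hi⟩ := h
      exact ⟨i, Or.inr (by rw [show a ^ i = b⁻¹ * g from hi, mul_inv_cancel_left])⟩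
  rcases hcent _ hta with h1 | h1
  · have hba : t * a * t⁻¹ = a⁻¹ := eq_inv_of_mul_eq_one_left h1
    rcases hcent _ ht2 with h | h
    · left
      obtain ⟨e⟩ := CfsgLib.TwoFusion.exists_dihedral_mulEquiv (m := 2 ^ (k + 2)) (by positivity) ha h hba htA ⊤ (hdec t htA)
      exact ⟨k, ⟨Subgroup.topEquiv.symm.trans e⟩⟩
    · right; right
      obtain ⟨e⟩ := CfsgLib.TwoFusion.exists_quaternion_mulEquiv (m := 2 ^ (k + 1)) (by positivity)
        (by rw [ha, pow_succ' 2 (k + 1)]) h hba htA ⊤ (hdec t htA)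
      exact ⟨k, ⟨Subgroup.topEquiv.symm.trans e⟩⟩
  · right; left
    have hba : t * a * t⁻¹ = z * a⁻¹ := eq_mul_inv_of_mul_eq h1
    rcases k with _ | k
    · exfalso
      have haa : z * a⁻¹ = a := by
        rw [hz, show 2 ^ (0 + 1) = 1 + 1 from rfl, pow_succ, pow_one, mul_inv_cancel_right]
      rw [haa] at hba
      have hcm : ∀ g h : S, g * h = h * g := by
        have hta' : Commute t a := mul_inv_eq_iff_eq_mul.1 hba
        intro g h
        obtain ⟨i, hg | hg⟩ := (hdec t htA g).1 (Subgroup.mem_top g) <;>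
          obtain ⟨j, hh | hh⟩ := (hdec t htA h).1 (Subgroup.mem_top h) <;> subst hg hh
        · exact ((Commute.refl a).zpow_zpow i j).eq
        · exact ((hta'.symm.zpow_left i).mul_right ((Commute.refl a).zpow_zpow i j)).eq
        · exact ((hta'.zpow_right j).mul_left ((Commute.refl a).zpow_zpow i j)).eq
        · exact (((Commute.refl t).mul_right (hta'.zpow_right j)).mul_left
            ((hta'.symm.zpow_left i).mul_right ((Commute.refl a).zpow_zpow i j))).eq
      have : commutator S = ⊥ := by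
        rw [commutator_def, Subgroup.commutator_eq_bot_iff_le_centralizer]
        exact fun g _ h _ => hcm h g
      rw [this, Subgroup.index_bot, hn] at hidx
      norm_num at hidx
    · have hexp : a ^ (2 ^ (k + 2) - 1) = z * a⁻¹ := by
        rw [eq_mul_inv_iff_mul_eq, ← pow_succ, Nat.sub_add_cancel (Nat.one_le_two_pow)]
      have hcard : Nat.card S = 2 ^ (k + 4) := hn
      refine ⟨k, hcard, ?_⟩
      rcases hcent _ ht2 with h | h
      · refine ⟨a, t, ha, orderOf_eq_prime (by rw [pow_two]; exact h) fun e => htA (e ▸ Subgroup.one_mem _), ?_⟩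
        rw [hexp]; exact hba
      · refine ⟨a, t * a, ha, orderOf_eq_prime ?_ fun e => htA ?_, ?_⟩
        · have hzc : t * z * t⁻¹ = z := by
            rw [Subgroup.mem_center_iff.1 haZ t, mul_inv_cancel_right]
          calc (t * a) ^ 2 = (t * a * t⁻¹) * (t * t) * a := by rw [pow_two]; simp only [mul_assoc, inv_mul_cancel_left]
            _ = z * a⁻¹ * z * a := by rw [hba, h]
            _ = z * (a⁻¹ * z) * a := by simp only [mul_assoc]
            _ = z * (z * a⁻¹) * a := by rw [Subgroup.mem_center_iff.1 haZ a⁻¹]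
            _ = z * z := by simp only [mul_assoc, inv_mul_cancel, mul_one]
            _ = 1 := hzz
        · rw [eq_inv_of_mul_eq_one_left e]
          exact Subgroup.inv_mem _ (Subgroup.mem_zpowers a)
        · rw [hexp, ← hba]
          simp only [mul_assoc, mul_inv_rev, mul_inv_cancel_left]

end Cfsg.Agent.S4399
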