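import Cfsg.Statements.S4398
import Cfsg.Agent.S4399
import Cfsg.Agent.Lib.FGStruct.SectionalTwo

set_option autoImplicit false
open Cfsg

namespace Cfsg.Agent.S4398

open scoped commutatorElement

/-- The facts used about the dihedral and quaternion group of order 8. -/
theorem eight_facts {D : Type*} [Group D] {S : Type*} [Group S] (H : Subgroup S) (φ : ↥H ≃* D)
    (x y z : D) (hcard : Nat.card D = 8)
    (hD : z ≠ 1 ∧ z * z = 1 ∧ y * x * y⁻¹ = x * z ∧ x * y * x⁻¹ = y * z ∧
      (∀ w : D, (∃ i j : Fin 4, ∃ k : Fin 2, w = x ^ (i : ℕ) * y ^ (j : ℕ) * z ^ (k : ℕ))) ∧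
      (∀ w : D, w * x = x * w → w * y = y * w → w = 1 ∨ w = z) ∧ (∀ w : D, w * w = 1 ∨ w * w = z) ∧
      (∀ w : D, w * z = z * w) ∧ (∀ v w : D, v * w = w * v ∨ v * w = w * v * z)) :
    ∃ x' y' z' : S, x' ∈ H ∧ y' ∈ H ∧ z' ∈ H ∧ Nat.card H = 8 ∧ z' ≠ 1 ∧ z' * z' = 1 ∧
      y' * x' * y'⁻¹ = x' * z' ∧ x' * y' * x'⁻¹ = y' * z' ∧ (∀ w ∈ H, w * z' = z' * w) ∧
      (∀ w ∈ H, ∀ g : S, Commute g x' → Commute g y' → Commute g z' → Commute g w) ∧
      (∀ w ∈ H, w * x' = x' * w → w * y' = y' * w → w = 1 ∨ w = z') ∧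
      (∀ w ∈ H, w * w = 1 ∨ w * w = z') ∧
      (∀ v ∈ H, ∀ w ∈ H, v * w = w * v ∨ v * w = w * v * z') := by
  obtain ⟨h1, h2, h3, h4, h5, h6, h7, h8, h9⟩ := hD
  let f : D →* S := H.subtype.comp φ.symm.toMonoidHom
  have hf : Function.Injective f := H.subtype_injective.comp φ.symm.injective
  have hmem : ∀ d, f d ∈ H := fun d => (φ.symm d).2
  have hsurj : ∀ w ∈ H, ∃ d, f d = w := fun w hw => ⟨φ ⟨w, hw⟩, by simp [f]⟩
  refine ⟨f x, f y, f z, hmem x, hmem y, hmem z, by rw [Nat.card_congr φ.toEquiv, hcard],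
    fun h => h1 (hf (by rw [h, map_one])), by rw [← map_mul, h2, map_one],
    by rw [← map_inv, ← map_mul, ← map_mul, h3, map_mul], by rw [← map_inv, ← map_mul, ← map_mul, h4, map_mul],
    ?_, ?_, ?_, ?_, ?_⟩
  · rintro w hw
    obtain ⟨d, rfl⟩ := hsurj w hw
    rw [← map_mul, h8, map_mul]
  · rintro w hw g hx hy hz
    obtain ⟨d, rfl⟩ := hsurj w hw
    obtain ⟨i, j, k, rfl⟩ := h5 d
    simp only [map_mul, map_pow]
    exact ((hx.pow_right _).mul_right (hy.pow_right _)).mul_right (hz.pow_right _)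
  · rintro w hw hx hy
    obtain ⟨d, rfl⟩ := hsurj w hw
    rw [← map_mul, ← map_mul] at hx hy
    rcases h6 d (hf hx) (hf hy) with h | h <;> simp [h]
  · rintro w hw
    obtain ⟨d, rfl⟩ := hsurj w hw
    rcases h7 d with h | h <;> simp [← map_mul, h]
  · rintro v hv w hw
    obtain ⟨d, rfl⟩ := hsurj w hw
    obtain ⟨d', rfl⟩ := hsurj v hv
    rcases h9 d' d with h | h <;> simp [← map_mul, h]

set_option maxRecDepth 20000 in
set_option synthInstance.maxSize 4000 in
theorem exists_eight {S : Type*} [Group S] (H : Subgroup S)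
    (hH : Nonempty (↥H ≃* DihedralGroup 4) ∨ Nonempty (↥H ≃* QuaternionGroup 2)) :
    ∃ x' y' z' : S, x' ∈ H ∧ y' ∈ H ∧ z' ∈ H ∧ Nat.card H = 8 ∧ z' ≠ 1 ∧ z' * z' = 1 ∧
      y' * x' * y'⁻¹ = x' * z' ∧ x' * y' * x'⁻¹ = y' * z' ∧ (∀ w ∈ H, w * z' = z' * w) ∧
      (∀ w ∈ H, ∀ g : S, Commute g x' → Commute g y' → Commute g z' → Commute g w) ∧
      (∀ w ∈ H, w * x' = x' * w → w * y' = y' * w → w = 1 ∨ w = z') ∧
      (∀ w ∈ H, w * w = 1 ∨ w * w = z') ∧
      (∀ v ∈ H, ∀ w ∈ H, v * w = w * v ∨ v * w = w * v * z') := by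
  rcases hH with h | h <;> obtain ⟨φ⟩ := h
  · exact eight_facts H φ (DihedralGroup.r 1) (DihedralGroup.sr 0) (DihedralGroup.r 2)
      (by rw [Nat.card_eq_fintype_card, DihedralGroup.card]) (by decide)
  · exact eight_facts H φ (QuaternionGroup.a 1) (QuaternionGroup.xa 0) (QuaternionGroup.a 2)
      (by rw [Nat.card_eq_fintype_card, QuaternionGroup.card]) (by decide)

/-- Let S be a finite 2-group of sectional 2-rank at most 2 that contains a subgroup isomorphic to the dihedral group of order 8 or to the quaternion group of order 8. Then S is dihedral of order at least 8, semidihedral of order at least 16 (order 2^(k+4) with an element a of order 2^(k+3) and an involution b with b a b⁻¹ = a^(2^(k+2)−1)), or generalized quaternion of order at least 8. -/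
theorem result {S : Type*} [Group S] [Finite S] (h2 : IsPGroup 2 S) (hr : Cfsg.SectionalPRankLE 2 2 S)
    (hsub : ∃ H : Subgroup S, Nonempty (↥H ≃* DihedralGroup 4) ∨ Nonempty (↥H ≃* QuaternionGroup 2)) :
    ((∃ k : ℕ, Nonempty (S ≃* DihedralGroup (2 ^ (k + 2)))) ∨
      (∃ k : ℕ, Nat.card S = 2 ^ (k + 4) ∧ ∃ a b : S, orderOf a = 2 ^ (k + 3) ∧ orderOf b = 2 ∧ b * a * b⁻¹ = a ^ (2 ^ (k + 2) - 1)) ∨
      (∃ k : ℕ, Nonempty (S ≃* QuaternionGroup (2 ^ (k + 1))))) := by
  classical
  haveI : Fact (Nat.Prime 2) := ⟨Nat.prime_two⟩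
  obtain ⟨H, hH⟩ := hsub
  obtain ⟨x, y, z, hx, hy, hz, hcard, hz1, hzz, hyx, hxy, hHz, hgen, hcent, hsq, hcm⟩ :=
    exists_eight H hH
  have hE := CfsgLib.FGStruct.SectionalTwo.noE8_of_sectional hr
  haveI : Nontrivial S := ⟨⟨z, 1, hz1⟩⟩
  -- the centraliser of `H` lies in `H`
  have hC : ∀ g : S, (∀ w ∈ H, Commute g w) → g = 1 ∨ g = z := by
    intro g hg
    by_contra hgz
    have hgH : g ∉ H := fun h => hgz (hcent g h (hg x hx).eq (hg y hy).eq)
    obtain ⟨j, hj⟩ := h2 g
    have hex : ∃ i, g ^ 2 ^ i ∈ H := ⟨j, hj ▸ H.one_mem⟩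
    obtain ⟨i, hi⟩ : ∃ i, Nat.find hex = i + 1 := by
      refine ⟨Nat.find hex - 1, (Nat.succ_pred ?_).symm⟩
      intro h0
      have := Nat.find_spec hex
      rw [h0, pow_zero, pow_one] at this
      exact hgH this
    set c := g ^ 2 ^ i with hc
    have hcH : c ∉ H := Nat.find_min hex (by omega)
    have hc2 : c * c ∈ H := by
      rw [hc, ← pow_add, ← two_mul, ← pow_succ', ← hi]
      exact Nat.find_spec hex
    have hcc : ∀ w ∈ H, Commute c w := fun w hw => (hg w hw).pow_left _
    let K : Subgroup S := H ⊔ Subgroup.zpowers c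
    have hzK : ∀ w ∈ K, Commute z w := by
      intro w hw
      have hle : K ≤ Subgroup.centralizer {z} := sup_le
        (fun v hv => Subgroup.mem_centralizer_singleton_iff.2 (hHz v hv))
        (Subgroup.zpowers_le.2 (Subgroup.mem_centralizer_singleton_iff.2 (hcc z hz).eq))
      exact (Subgroup.mem_centralizer_singleton_iff.1 (hle hw)).symm
    let zK : K := ⟨z, Subgroup.mem_sup_left hz⟩
    haveI hN : (Subgroup.zpowers zK).Normal := ⟨fun w hw v => by
      obtain ⟨e, rfl⟩ := hw
      show v * zK ^ e * v⁻¹ ∈ _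
      have hcv : Commute v zK := Subtype.ext (hzK v.1 v.2).eq.symm
      rw [(hcv.zpow_right e).eq, mul_inv_cancel_right]
      exact Subgroup.zpow_mem _ (Subgroup.mem_zpowers zK) e⟩
    set ρ := QuotientGroup.mk' (Subgroup.zpowers zK) with hρ
    have hρz : ρ zK = 1 := (QuotientGroup.eq_one_iff zK).2 (Subgroup.mem_zpowers zK)
    let ι : H →* K := Subgroup.inclusion le_sup_left
    let cK : K := ⟨c, Subgroup.mem_sup_right (Subgroup.mem_zpowers c)⟩
    have hker : ∀ v : H, ρ (ι v) = 1 → (v : S) = 1 ∨ (v : S) = z := by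
      intro v hv
      obtain ⟨e, he⟩ := Subgroup.mem_zpowers_iff.1 ((QuotientGroup.eq_one_iff _).1 hv)
      have he' : z ^ e = v := congrArg Subtype.val he
      rw [← he']
      rcases Int.even_or_odd e with ⟨k, hk⟩ | ⟨k, hk⟩
      · left; rw [hk, ← two_mul, zpow_mul, zpow_two, hzz, one_zpow]
      · right; rw [hk, zpow_add_one, zpow_mul, zpow_two, hzz, one_zpow, one_mul]
    haveI : Fintype H := Fintype.ofFinite H
    let s : Finset (K ⧸ Subgroup.zpowers zK) := insert (ρ cK) ((Finset.univ : Finset H).image (ρ.comp ι))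
    have hnot : ρ cK ∉ (Finset.univ : Finset H).image (ρ.comp ι) := by
      intro h
      obtain ⟨v, -, hv⟩ := Finset.mem_image.1 h
      rw [MonoidHom.comp_apply, eq_comm, hρ, QuotientGroup.mk'_eq_mk'] at hv
      obtain ⟨u, hu, hu'⟩ := hv
      obtain ⟨e, rfl⟩ := Subgroup.mem_zpowers_iff.1 hu
      have h1 : c * z ^ e = (v : S) := congrArg Subtype.val hu'
      apply hcH
      rw [eq_mul_inv_of_mul_eq h1]
      exact H.mul_mem v.2 (H.inv_mem (H.zpow_mem hz e))
    have h4 : 4 ≤ ((Finset.univ : Finset H).image (ρ.comp ι)).card := by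
      have h1 : Nat.card H = Nat.card (ρ.comp ι).ker * Nat.card (ρ.comp ι).range := by
        rw [← Nat.card_congr (QuotientGroup.quotientKerEquivRange (ρ.comp ι)).toEquiv, mul_comm]
        exact Subgroup.card_eq_card_quotient_mul_card_subgroup _
      have h3 : Nat.card (ρ.comp ι).ker ≤ 2 := by
        rw [← SetLike.coe_sort_coe, Nat.card_coe_set_eq]
        refine le_trans (Set.ncard_le_ncard (t := {(1 : H), ⟨z, hz⟩}) (fun v hv => ?_) (Set.toFinite _)) (Set.ncard_insert_le _ _ |>.trans (by simp))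
        rcases hker v hv with h | h
        · exact Or.inl (Subtype.ext h)
        · exact Or.inr (Subtype.ext h)
      have h5 : Nat.card (ρ.comp ι).range = ((Finset.univ : Finset H).image (ρ.comp ι)).card := by
        rw [← Nat.card_eq_finsetCard]
        exact Nat.card_congr (Equiv.subtypeEquivRight fun q => by simp)
      rw [hcard, h5] at h1
      nlinarith [h1, h3]
    have h5 := CfsgLib.FGStruct.SectionalTwo.NoE8.card_le
      (CfsgLib.FGStruct.SectionalTwo.noE8_of_sectional (S := K) ?_) ρ (QuotientGroup.mk'_surjective _) s ?_ ?_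
    · rw [Finset.card_insert_of_notMem hnot] at h5
      omega
    · intro K' N' hN' A hA hA'
      let e := K'.equivMapOfInjective K.subtype K.subtype_injective
      haveI : (N'.map e.toMonoidHom).Normal := hN'.map _ e.surjective
      let e2 := QuotientGroup.congr N' (N'.map e.toMonoidHom) e rfl
      have h := hr (K'.map K.subtype) (N'.map e.toMonoidHom) (A.map e2.toMonoidHom)
        ((Subgroup.le_centralizer_iff_isMulCommutative).1 (by
          rintro _ ⟨a, ha, rfl⟩ _ ⟨b, hb, rfl⟩
          rw [← map_mul, ← map_mul]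
          exact congrArg _ (congrArg Subtype.val (hA.is_comm.comm ⟨b, hb⟩ ⟨a, ha⟩))))
        (by rintro _ ⟨a, ha, rfl⟩; rw [← map_pow, hA' a ha, map_one])
      rwa [Subgroup.card_map_of_injective (f := e2.toMonoidHom) e2.injective] at h
    · have hHH : ∀ v w : H, ρ (ι v) * ρ (ι w) = ρ (ι w) * ρ (ι v) := by
        intro v w
        rcases hcm v v.2 w w.2 with h | h
        · rw [← map_mul ρ, ← map_mul ρ]
          exact congrArg ρ (Subtype.ext h)
        · rw [← map_mul ρ, ← map_mul ρ, show ι v * ι w = ι w * ι v * zK from Subtype.ext h, map_mul, hρz, mul_one]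
      have hcH' : ∀ v : H, ρ cK * ρ (ι v) = ρ (ι v) * ρ cK := fun v => by
        rw [← map_mul, ← map_mul]
        exact congrArg ρ (Subtype.ext (hcc v v.2).eq)
      intro p hp q hq
      simp only [s, Finset.mem_insert, Finset.mem_image, Finset.mem_univ, true_and] at hp hq
      rcases hp with rfl | ⟨v, rfl⟩ <;> rcases hq with rfl | ⟨w, rfl⟩
      · rfl
      · exact hcH' w
      · exact (hcH' v).symm
      · exact hHH v w
    · intro p hp
      simp only [s, Finset.mem_insert, Finset.mem_image, Finset.mem_univ, true_and] at hp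
      have hone : ∀ u : S, (hu : u ∈ K) → u = 1 ∨ u = z → ρ ⟨u, hu⟩ = 1 := by
        rintro u hu (rfl | rfl)
        · exact map_one ρ
        · exact hρz
      rcases hp with rfl | ⟨v, rfl⟩
      · rw [sq, ← map_mul]
        refine hone _ _ (hcent (c * c) hc2 ?_ ?_)
        · exact ((hcc x hx).mul_left (hcc x hx)).eq
        · exact ((hcc y hy).mul_left (hcc y hy)).eq
      · rw [sq, MonoidHom.comp_apply, ← map_mul]
        exact hone _ _ (hsq v v.2)
  -- the centre
  have hzC : z ∈ Subgroup.center S := by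
    obtain ⟨w, -, hw, hwo⟩ := CfsgLib.PGroup.exists_central_orderOf_eq h2 (⊤ : Subgroup S) top_ne_bot
    rcases hC w (fun v _ => (Subgroup.mem_center_iff.1 hw v).symm) with h | h
    · rw [h, orderOf_one] at hwo; omega
    · exact h ▸ hw
  have hZ : Subgroup.center S = Subgroup.zpowers z := by
    refine le_antisymm (fun g hg => ?_) (Subgroup.zpowers_le.2 hzC)
    rcases hC g (fun v _ => (Subgroup.mem_center_iff.1 hg v).symm) with h | h <;> rw [h]
    · exact Subgroup.one_mem _
    · exact Subgroup.mem_zpowers z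
  have hZ2 : Nat.card (Subgroup.center S) = 2 := by
    rw [hZ, Nat.card_zpowers, orderOf_eq_prime (by rw [sq, hzz]) hz1]
  set π := QuotientGroup.mk' (Subgroup.center S) with hπ
  obtain ⟨n, hn⟩ := IsPGroup.iff_card.1 h2
  have hn3 : 3 ≤ n := by
    have h := Subgroup.card_subgroup_dvd_card H
    rw [hcard, hn, show (8 : ℕ) = 2 ^ 3 by norm_num] at h
    exact (Nat.pow_dvd_pow_iff_le_right one_lt_two).1 h
  have hQ : Nat.card (S ⧸ Subgroup.center S) = 2 ^ (n - 1) := by
    have h := Subgroup.card_eq_card_quotient_mul_card_subgroup (Subgroup.center S)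
    rw [hn, hZ2, show n = n - 1 + 1 by omega, pow_succ] at h
    simpa using (Nat.eq_of_mul_eq_mul_right two_pos h).symm
  have hkerH : (π.comp H.subtype).ker = (Subgroup.center S).subgroupOf H := by
    ext v
    rw [MonoidHom.mem_ker, Subgroup.mem_subgroupOf]
    exact QuotientGroup.eq_one_iff _
  have hcz : Subgroup.center S ≤ H := hZ ▸ Subgroup.zpowers_le.2 hz
  have hAcard : Nat.card (H.map π) = 2 ^ 2 := by
    have h1 : H.map π = (π.comp H.subtype).range := by rw [MonoidHom.range_comp, Subgroup.range_subtype]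
    have h3 := Subgroup.card_eq_card_quotient_mul_card_subgroup (π.comp H.subtype).ker
    rw [Nat.card_congr (QuotientGroup.quotientKerEquivRange (π.comp H.subtype)).toEquiv, hkerH, hcard,
      Nat.card_congr (Subgroup.subgroupOfEquivOfLe hcz).toEquiv, hZ2, ← h1] at h3
    omega
  have hπz : π z = 1 := (QuotientGroup.eq_one_iff z).2 hzC
  have hAC : Subgroup.centralizer ((H.map π : Subgroup _) : Set _) = H.map π := by
    refine le_antisymm ?_ ?_
    · intro q hq
      obtain ⟨g, rfl⟩ := QuotientGroup.mk'_surjective (Subgroup.center S) q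
      have hc : ∀ w ∈ H, g * w * g⁻¹ = w ∨ g * w * g⁻¹ = w * z := by
        intro w hw
        have h1 := Subgroup.mem_centralizer_iff.1 hq _ (Subgroup.mem_map_of_mem π hw)
        rw [← map_mul, ← map_mul, QuotientGroup.mk'_eq_mk'] at h1
        obtain ⟨u, hu, hu'⟩ := h1
        rw [hZ] at hu
        obtain ⟨e, rfl⟩ := Subgroup.mem_zpowers_iff.1 hu
        have h2 : g * w * g⁻¹ = w * z ^ e := by
          rw [mul_inv_eq_iff_eq_mul, ← hu', mul_assoc,
            ((show Commute g z from Subgroup.mem_center_iff.1 hzC g).zpow_right e).eq, ← mul_assoc]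
        rcases Int.even_or_odd e with ⟨k, hk⟩ | ⟨k, hk⟩
        · left; rw [h2, hk, ← two_mul, zpow_mul, zpow_two, hzz, one_zpow, mul_one]
        · right; rw [h2, hk, zpow_add_one, zpow_mul, zpow_two, hzz, one_zpow, one_mul]
      have hzc : ∀ v : S, Commute v z := fun v => Subgroup.mem_center_iff.1 hzC v
      have hzconj : ∀ v : S, v * z * v⁻¹ = z := fun v => by rw [(hzc v).eq, mul_inv_cancel_right]
      have key : ∀ h : S, h ∈ H → (h * g) * x * (h * g)⁻¹ = x → (h * g) * y * (h * g)⁻¹ = y →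
          π g ∈ H.map π := by
        intro h hh hhx hhy
        have hh1 := hC (h * g) (fun w hw => hgen w hw (h * g) (mul_inv_eq_iff_eq_mul.1 hhx)
          (mul_inv_eq_iff_eq_mul.1 hhy) (hzc _))
        have hgH : g ∈ H := by
          rcases hh1 with e | e
          · rw [eq_inv_of_mul_eq_one_right e]; exact H.inv_mem hh
          · rw [eq_inv_mul_of_mul_eq e]; exact H.mul_mem (H.inv_mem hh) hz
        exact Subgroup.mem_map_of_mem π hgH
      have hxx : x * x * x⁻¹ = x := mul_inv_cancel_right x x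
      have hyy : y * y * y⁻¹ = y := mul_inv_cancel_right y y
      have hc3 : ∀ a u v : S, a * (u * v) * a⁻¹ = (a * u * a⁻¹) * (a * v * a⁻¹) := fun a u v => by group
      have hcomp : ∀ a b v : S, (a * b) * v * (a * b)⁻¹ = a * (b * v * b⁻¹) * a⁻¹ := fun a b v => by group
      rcases hc x hx with h1 | h1 <;> rcases hc y hy with h2 | h2
      · exact key 1 H.one_mem (by rw [one_mul]; exact h1) (by rw [one_mul]; exact h2)
      · refine key x hx (by rw [hcomp, h1, hxx]) ?_
        rw [hcomp, h2, hc3, hxy, hzconj, mul_assoc, hzz, mul_one]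
      · refine key y hy ?_ (by rw [hcomp, h2, hyy])
        rw [hcomp, h1, hc3, hyx, hzconj, mul_assoc, hzz, mul_one]
      · refine key (x * y) (H.mul_mem hx hy) ?_ ?_
        · rw [hcomp, h1, hcomp, hc3 y, hyx, hzconj, mul_assoc x z z, hzz, mul_one, hxx]
        · rw [hcomp, h2, hcomp, hc3 y, hyy, hzconj, hc3 x, hxy, hzconj, mul_assoc y z z,
            hzz, mul_one]
    · rw [Subgroup.le_centralizer_iff_isMulCommutative]
      exact IsPGroup.isMulCommutative_of_card_eq_prime_sq hAcard
  have hclassQ := CfsgLib.PGroup.MaxClass.class_of_self_centralizing (p := 2) (n - 1) _ hQ _ hAcard hAC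
  haveI := h2.isNilpotent
  have hclass : Group.nilpotencyClass S = n - 1 := by
    rw [Group.nilpotencyClass_eq_quotient_center_plus_one, hclassQ]
    omega
  have hK := CfsgLib.PGroup.MaxClass.klein_of_class n hn3 hn hclass
  have hexp : ∀ q : Abelianization S, q ^ 2 = 1 := by
    intro q
    rw [← hK.exponent_two]
    exact Monoid.pow_exponent_eq_one q
  rcases Cfsg.Agent.S4399.result h2 hK.card_four hexp with h | h
  · exfalso
    have h1 := Subgroup.card_subgroup_dvd_card H
    rw [hcard, h] at h1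
    norm_num at h1
  · exact h

end Cfsg.Agent.S4398
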