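import Cfsg.Statements.S4400
import Cfsg.Agent.Lib.PGroup.Basic

set_option autoImplicit false
set_option linter.style.haveILetI false
open Cfsg
open scoped commutatorElement

namespace Cfsg.Agent.S4400

universe v

/-- A normal subgroup with centre of order two has a central element `a` generating that centre,
lying in the Frattini subgroup of it, and that Frattini subgroup has index at least four. -/
theorem key {S : Type v} [Group S] [Finite S] (h2 : IsPGroup 2 S) (P : Subgroup S) [P.Normal]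
    (hP : ¬ IsMulCommutative ↥P) (hZP : Nat.card ↥(Subgroup.center ↥P) = 2) :
    ∃ a ∈ (frattini P).map P.subtype, a ≠ 1 ∧ (∀ g, Commute g a) ∧
      (∀ x, x ∈ (Subgroup.center ↥P).map P.subtype ↔ x = 1 ∨ x = a) ∧ 4 ≤ (frattini P).index := by
  classical
  haveI : Fact (Nat.Prime 2) := ⟨Nat.prime_two⟩
  have hP2 : IsPGroup 2 P := h2.to_subgroup P
  obtain ⟨a, ha, hac, hao⟩ : ∃ a ∈ commutator P, a ∈ Subgroup.center ↥P ∧ orderOf a = 2 := by
    refine CfsgLib.PGroup.exists_central_orderOf_eq hP2 (commutator P) fun h => hP ?_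
    · rw [commutator_def, Subgroup.commutator_eq_bot_iff_le_centralizer] at h
      exact ⟨⟨fun x y => Subgroup.mem_centralizer_iff.mp (h (Subgroup.mem_top y)) x trivial⟩⟩
  have hmem : ∀ x, x ∈ Subgroup.center ↥P ↔ x = 1 ∨ x = a := by
    have h1 : Subgroup.zpowers a = Subgroup.center ↥P := Subgroup.eq_of_le_of_card_ge
      (by simpa using hac) (by rw [hZP, Nat.card_zpowers, hao])
    intro x
    constructor
    · intro hx
      rw [← h1] at hx
      obtain ⟨n, rfl⟩ := (isOfFinOrder_of_finite a).mem_powers_iff_mem_zpowers.mpr hx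
      show a ^ n = 1 ∨ a ^ n = a
      rw [← pow_mod_orderOf, hao]
      rcases Nat.mod_two_eq_zero_or_one n with e | e <;> simp [e]
    · rintro (rfl | rfl)
      · exact one_mem _
      · exact hac
  have ha1 : a ≠ 1 := fun h => by rw [h, orderOf_one] at hao; omega
  refine ⟨a, Subgroup.mem_map_of_mem _ (CfsgLib.PGroup.commutator_le_frattini hP2 ha),
    fun h => ha1 (Subtype.ext h), fun g => ?_, fun x => ?_, ?_⟩
  · have hn : ((Subgroup.center ↥P).map P.subtype).Normal := inferInstance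
    obtain ⟨b, hb, e⟩ := hn.conj_mem _ (Subgroup.mem_map_of_mem _ hac) g
    rcases (hmem b).mp hb with rfl | rfl
    · refine absurd (Subtype.ext ?_) ha1
      have := congrArg (fun u => g⁻¹ * u * g) e
      simpa [mul_assoc] using this.symm
    · exact (eq_mul_inv_iff_mul_eq.mp e).symm
  · constructor
    · rintro ⟨b, hb, rfl⟩
      rcases (hmem b).mp hb with rfl | rfl <;> simp
    · rintro (rfl | rfl)
      · exact one_mem _
      · exact Subgroup.mem_map_of_mem _ hac
  · by_contra hlt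
    obtain ⟨j, hj⟩ := IsPGroup.index hP2 (frattini P)
    have hj2 : j ≤ 1 := by
      by_contra h
      have : 2 ^ 2 ≤ 2 ^ j := Nat.pow_le_pow_right (by norm_num) (by omega)
      omega
    obtain ⟨x, hx⟩ : ∃ x : P, frattini P ⊔ Subgroup.zpowers x = ⊤ := by
      by_cases htop : frattini P = ⊤
      · exact ⟨1, by simp [htop]⟩
      obtain ⟨x, -, hx⟩ := SetLike.exists_of_lt (lt_top_iff_ne_top.mpr htop)
      refine ⟨x, Subgroup.index_eq_one.mp ?_⟩
      have hd := Subgroup.index_dvd_of_le (le_sup_left : frattini P ≤ frattini P ⊔ Subgroup.zpowers x)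
      rcases Nat.le_one_iff_eq_zero_or_eq_one.mp hj2 with rfl | rfl
      · exact absurd (Subgroup.index_eq_one.mp (by simpa using hj)) htop
      · rw [hj, pow_one] at hd
        rcases (Nat.dvd_prime Nat.prime_two).mp hd with e | e
        · exact e
        · exact absurd ((Subgroup.eq_of_le_of_card_ge (le_sup_left : frattini P ≤ _)
            (Nat.le_of_mul_le_mul_right (c := 2)
              (le_of_eq (by
                have a1 := (frattini P).card_mul_index
                have a2 := (frattini P ⊔ Subgroup.zpowers x).card_mul_index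
                rw [hj, pow_one] at a1
                rw [e] at a2
                omega)) (by norm_num))).ge (Subgroup.mem_sup_right (Subgroup.mem_zpowers x))) hx
    have hz := frattini_nongenerating (by rw [sup_comm]; exact hx :
      Subgroup.zpowers x ⊔ frattini P = ⊤)
    refine hP ⟨⟨fun u v => ?_⟩⟩
    obtain ⟨i, rfl⟩ := Subgroup.mem_zpowers_iff.mp (hz ▸ Subgroup.mem_top u)
    obtain ⟨k, rfl⟩ := Subgroup.mem_zpowers_iff.mp (hz ▸ Subgroup.mem_top v)
    exact (Commute.zpow_zpow (Commute.refl x) i k).eq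

/-- Let S be a finite 2-group of sectional 2-rank at most 4, and let P and Q be normal non-abelian subgroups of S whose centres have order 2 and are different. Then P and Q commute elementwise and intersect trivially, and PQ contains its own centralizer in S. -/
theorem result {S : Type*} [Group S] [Finite S] (h2 : IsPGroup 2 S) (hr : Cfsg.SectionalPRankLE 2 4 S)
    (P Q : Subgroup S) [P.Normal] [Q.Normal] (hP : ¬ IsMulCommutative ↥P) (hQ : ¬ IsMulCommutative ↥Q)
    (hZP : Nat.card ↥(Subgroup.center ↥P) = 2) (hZQ : Nat.card ↥(Subgroup.center ↥Q) = 2)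
    (hne : (Subgroup.center ↥P).map P.subtype ≠ (Subgroup.center ↥Q).map Q.subtype) :
    ⁅P, Q⁆ = ⊥ ∧ P ⊓ Q = ⊥ ∧ Subgroup.centralizer ((P ⊔ Q : Subgroup S) : Set S) ≤ P ⊔ Q := by
  classical
  haveI : Fact (Nat.Prime 2) := ⟨Nat.prime_two⟩
  obtain ⟨a, haF, ha1, hac, haZ, hiP⟩ := key h2 P hP hZP
  obtain ⟨b, hbF, hb1, hbc, hbZ, hiQ⟩ := key h2 Q hQ hZQ
  have hab : a ≠ b := fun e => hne (Subgroup.ext fun x => by rw [haZ, hbZ, e])
  have hPQ : P ⊓ Q = ⊥ := by
    by_contra hbot
    obtain ⟨z, hz, hzc, hzo⟩ := CfsgLib.PGroup.exists_central_orderOf_eq h2 (P ⊓ Q) hbot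
    have hz1 : z ≠ 1 := fun h => by rw [h, orderOf_one] at hzo; omega
    rw [Subgroup.mem_center_iff] at hzc
    have h1 := (haZ z).mp ⟨⟨z, hz.1⟩, Subgroup.mem_center_iff.mpr fun u => Subtype.ext (hzc u), rfl⟩
    have h3 := (hbZ z).mp ⟨⟨z, hz.2⟩, Subgroup.mem_center_iff.mpr fun u => Subtype.ext (hzc u), rfl⟩
    rcases h1 with h1 | h1
    · exact hz1 h1
    rcases h3 with h3 | h3
    · exact hz1 h3
    exact hab (h1 ▸ h3)
  have hdisj : ∀ x, x ∈ P → x ∈ Q → x = 1 := fun x hx hy =>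
    Subgroup.mem_bot.mp (hPQ ▸ Subgroup.mem_inf.mpr ⟨hx, hy⟩)
  have hcomm : ⁅P, Q⁆ = ⊥ := le_bot_iff.mp (hPQ ▸ Subgroup.commutator_le_inf P Q)
  have hPQc : ∀ x ∈ P, ∀ y ∈ Q, Commute x y := fun x hx y hy =>
    commutatorElement_eq_one_iff_mul_comm.mp
      (Subgroup.mem_bot.mp (hcomm ▸ Subgroup.commutator_mem_commutator hx hy))
  refine ⟨hcomm, hPQ, ?_⟩
  by_contra hC
  set C := Subgroup.centralizer ((P ⊔ Q : Subgroup S) : Set S) with hCdef
  -- an element of order two of `C` modulo `C ⊓ (P ⊔ Q)`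
  obtain ⟨c, hcC, hcn, hc2⟩ : ∃ c ∈ C, c ∉ P ⊔ Q ∧ c ^ 2 ∈ P ⊔ Q := by
    obtain ⟨d, hd, hdn⟩ := SetLike.not_le_iff_exists.mp hC
    obtain ⟨k, hk⟩ := IsPGroup.iff_orderOf.mp h2 d
    have hex : ∃ j, d ^ 2 ^ j ∈ P ⊔ Q := ⟨k, by rw [← hk, pow_orderOf_eq_one]; exact one_mem _⟩
    obtain ⟨j, hj⟩ : ∃ j, Nat.find hex = j + 1 :=
      Nat.exists_eq_add_one_of_ne_zero fun h => hdn (by simpa [h] using Nat.find_spec hex)
    refine ⟨d ^ 2 ^ j, pow_mem hd _, Nat.find_min hex (by omega), ?_⟩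
    rw [← pow_mul, ← pow_succ, ← hj]
    exact Nat.find_spec hex
  -- `c ^ 2` is central in `P ⊔ Q`, hence in the Frattini subgroups
  set N1 := (frattini P).map P.subtype with hN1
  set N2 := (frattini Q).map Q.subtype with hN2
  haveI : N1.Normal := inferInstanceAs ((frattini P).map P.subtype).Normal
  haveI : N2.Normal := inferInstanceAs ((frattini Q).map Q.subtype).Normal
  set D := N1 ⊔ N2 with hD
  have hcP : ∀ x ∈ P, Commute x c := fun x hx =>
    Subgroup.mem_centralizer_iff.mp hcC x (Subgroup.mem_sup_left hx)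
  have hcQ : ∀ x ∈ Q, Commute x c := fun x hx =>
    Subgroup.mem_centralizer_iff.mp hcC x (Subgroup.mem_sup_right hx)
  have hc2D : c ^ 2 ∈ D := by
    have h := hc2
    rw [← SetLike.mem_coe, Subgroup.normal_mul] at h
    obtain ⟨u, hu, v, hv, e⟩ := h
    replace e : u * v = c ^ 2 := e
    have hua : u = 1 ∨ u = a := (haZ u).mp ⟨⟨u, hu⟩, Subgroup.mem_center_iff.mpr fun w => Subtype.ext (by
      have h1 : Commute (w : S) (u * v) := e.symm ▸ (hcP _ w.2).pow_right 2
      simpa using (h1.mul_right ((hPQc _ w.2 _ hv).inv_right)).eq), rfl⟩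
    have hvb : v = 1 ∨ v = b := (hbZ v).mp ⟨⟨v, hv⟩, Subgroup.mem_center_iff.mpr fun w => Subtype.ext (by
      have h1 : Commute (w : S) (u * v) := e.symm ▸ (hcQ _ w.2).pow_right 2
      simpa using ((hPQc _ hu _ w.2).symm.inv_right.mul_right h1).eq), rfl⟩
    rw [← e]
    refine mul_mem (Subgroup.mem_sup_left ?_) (Subgroup.mem_sup_right ?_)
    · rcases hua with rfl | rfl
      exacts [one_mem _, haF]
    · rcases hvb with rfl | rfl
      exacts [one_mem _, hbF]
  set π := QuotientGroup.mk' D with hπ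
  have hπ1 : ∀ x, π x = 1 ↔ x ∈ D := fun x => QuotientGroup.eq_one_iff x
  set s : Set (S ⧸ D) := π '' ((P : Set S) ∪ Q ∪ {c}) with hs
  set A := Subgroup.closure s with hA
  have hPsq : ∀ x ∈ P, x ^ 2 ∈ D := fun x hx => Subgroup.mem_sup_left
    ⟨⟨x, hx⟩ ^ 2, CfsgLib.PGroup.pow_mem_frattini (h2.to_subgroup P) _, rfl⟩
  have hQsq : ∀ x ∈ Q, x ^ 2 ∈ D := fun x hx => Subgroup.mem_sup_right
    ⟨⟨x, hx⟩ ^ 2, CfsgLib.PGroup.pow_mem_frattini (h2.to_subgroup Q) _, rfl⟩
  have hPcm : ∀ x ∈ P, ∀ y ∈ P, ⁅x, y⁆ ∈ D := fun x hx y hy => Subgroup.mem_sup_left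
    ⟨⁅(⟨x, hx⟩ : P), ⟨y, hy⟩⁆, CfsgLib.PGroup.commutator_le_frattini (h2.to_subgroup P)
      (Subgroup.commutator_mem_commutator (Subgroup.mem_top _) (Subgroup.mem_top _)),
      map_commutatorElement _ _ _⟩
  have hQcm : ∀ x ∈ Q, ∀ y ∈ Q, ⁅x, y⁆ ∈ D := fun x hx y hy => Subgroup.mem_sup_right
    ⟨⁅(⟨x, hx⟩ : Q), ⟨y, hy⟩⁆, CfsgLib.PGroup.commutator_le_frattini (h2.to_subgroup Q)
      (Subgroup.commutator_mem_commutator (Subgroup.mem_top _) (Subgroup.mem_top _)),
      map_commutatorElement _ _ _⟩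
  have hgen : ∀ u ∈ s, u ^ 2 = 1 ∧ ∀ v ∈ s, u * v = v * u := by
    have hC' : ∀ x y : S, ⁅x, y⁆ ∈ D → π x * π y = π y * π x := fun x y h => by
      rw [← commutatorElement_eq_one_iff_mul_comm, ← map_commutatorElement]
      exact (hπ1 _).mpr h
    have hC1 : ∀ x y : S, Commute x y → π x * π y = π y * π x := fun x y h => (h.map π).eq
    rintro _ ⟨x, hx, rfl⟩
    refine ⟨?_, ?_⟩
    · rw [← map_pow, hπ1]
      rcases hx with (hx | hx) | rfl
      exacts [hPsq x hx, hQsq x hx, hc2D]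
    · rintro _ ⟨y, hy, rfl⟩
      rcases hx with (hx | hx) | rfl <;> rcases hy with (hy | hy) | rfl
      exacts [hC' _ _ (hPcm x hx y hy), hC1 _ _ (hPQc x hx y hy), hC1 _ _ (hcP x hx),
        hC1 _ _ (hPQc y hy x hx).symm, hC' _ _ (hQcm x hx y hy), hC1 _ _ (hcQ x hx),
        hC1 _ _ (hcP y hy).symm, hC1 _ _ (hcQ y hy).symm, rfl]
  have hAc : IsMulCommutative A := (Subgroup.le_centralizer_iff_isMulCommutative).1 (by
    rw [hA, Subgroup.centralizer_closure, Subgroup.closure_le]
    exact fun u hu v hv => (hgen v hv).2 u hu)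
  have hexp : ∀ u ∈ A, u ^ 2 = 1 := by
    intro u hu
    induction hu using Subgroup.closure_induction with
    | mem x hx => exact (hgen x hx).1
    | one => exact one_pow 2
    | mul x y hx hy ihx ihy =>
      rw [(show Commute x y from congrArg Subtype.val (hAc.is_comm.comm ⟨x, hx⟩ ⟨y, hy⟩)).mul_pow,
        ihx, ihy, mul_one]
    | inv x _ ih => rw [inv_pow, ih, inv_one]
  -- the sectional rank bound
  have hle : Nat.card A ≤ 16 := by
    let H := A.comap π
    let g : H →* A := (π.comp H.subtype).codRestrict A fun x => x.2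
    have hg : Function.Surjective g := fun u => by
      obtain ⟨x, hx⟩ := QuotientGroup.mk'_surjective D u
      exact ⟨⟨x, show π x ∈ A by rw [hπ, hx]; exact u.2⟩, Subtype.ext hx⟩
    let e := QuotientGroup.quotientKerEquivOfSurjective g hg
    have h1 := hr H g.ker ⊤ ⟨⟨fun x y => Subtype.ext (e.injective (by
      rw [Subgroup.coe_mul, Subgroup.coe_mul, map_mul, map_mul]
      exact hAc.is_comm.comm _ _))⟩⟩ fun x _ => e.injective (by
        rw [map_pow, map_one]
        exact Subtype.ext (hexp _ (e x).2))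
    rw [Subgroup.card_top, Nat.card_congr e.toEquiv] at h1
    simpa using h1
  -- thirty-two elements
  let f : (P ⧸ frattini P) × (Q ⧸ frattini Q) × Fin 2 → A := fun t =>
    ⟨π ((t.1.out : S) * (t.2.1.out : S) * c ^ (t.2.2 : ℕ)), by
      rw [map_mul, map_mul, map_pow]
      exact mul_mem (mul_mem (Subgroup.subset_closure ⟨_, Or.inl (Or.inl t.1.out.2), rfl⟩)
        (Subgroup.subset_closure ⟨_, Or.inl (Or.inr t.2.1.out.2), rfl⟩))
        (pow_mem (Subgroup.subset_closure (show π c ∈ s from ⟨c, Or.inr rfl, rfl⟩)) _)⟩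
  have hfe : ∀ (x : P) (y : Q) (d : S), d ∈ D → (x : S) * y = d → x ∈ frattini P ∧ y ∈ frattini Q := by
    intro x y d hd e
    rw [hD, ← SetLike.mem_coe, Subgroup.normal_mul] at hd
    obtain ⟨_, ⟨u, hu, rfl⟩, _, ⟨v, hv, rfl⟩, e'⟩ := hd
    simp only [Subgroup.coe_subtype] at e'
    have h1 : (u : S)⁻¹ * x = v * (y : S)⁻¹ := by
      rw [inv_mul_eq_iff_eq_mul, ← mul_assoc, e', ← e, mul_inv_cancel_right]
    have h3 : (u : S)⁻¹ * x = 1 := hdisj _ (mul_mem (inv_mem u.2) x.2) (h1 ▸ mul_mem v.2 (inv_mem y.2))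
    constructor
    · rwa [← Subtype.ext (inv_mul_eq_one.mp h3) (a1 := u) (a2 := x)]
    · rw [h3, eq_comm, mul_inv_eq_one] at h1
      rwa [← Subtype.ext h1 (a1 := v) (a2 := y)]
  have hinj : Function.Injective f := by
    rintro ⟨x, y, i⟩ ⟨x', y', i'⟩ hxy
    have e : π ((x.out : S) * y.out * c ^ (i : ℕ)) = π ((x'.out : S) * y'.out * c ^ (i' : ℕ)) :=
      congrArg Subtype.val hxy
    have hDPQ : D ≤ P ⊔ Q := sup_le_sup (Subgroup.map_subtype_le _) (Subgroup.map_subtype_le _)
    have hd := (QuotientGroup.eq (s := D)).mp e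
    have hii : i = i' := by
      have hu : ∀ (x : P ⧸ frattini P) (y : Q ⧸ frattini Q), (x.out : S) * y.out ∈ P ⊔ Q :=
        fun x y => mul_mem (Subgroup.mem_sup_left x.out.2) (Subgroup.mem_sup_right y.out.2)
      have h1 := hDPQ hd
      fin_cases i <;> fin_cases i' <;> simp only [pow_zero, pow_one, mul_one] at h1 <;>
        first
        | rfl
        | (exfalso; apply hcn
           first
           | exact (mul_mem_cancel_left (hu x' y')).mp
              ((mul_mem_cancel_left (inv_mem (hu x y))).mp h1)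
           | exact inv_mem_iff.mp ((mul_mem_cancel_right (inv_mem (hu x y))).mp
              ((mul_mem_cancel_right (hu x' y')).mp (by simpa [mul_assoc] using h1))))
    subst hii
    have h1 : ((x.out : S) * y.out)⁻¹ * ((x'.out : S) * y'.out) ∈ D := by
      have h := (inferInstance : D.Normal).conj_mem _ hd (c ^ (i : ℕ))
      simpa [mul_assoc] using h
    obtain ⟨hx, hy⟩ := hfe (x.out⁻¹ * x'.out) (y.out⁻¹ * y'.out) _ h1 (by
      push_cast
      have c1 := (hPQc _ (x.out⁻¹ * x'.out).2 _ (inv_mem y.out.2)).eq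
      push_cast at c1
      calc ((x.out : S))⁻¹ * x'.out * ((y.out : S)⁻¹ * y'.out)
          = ((x.out : S)⁻¹ * x'.out * (y.out : S)⁻¹) * y'.out := by group
        _ = _ := by rw [c1]; group)
    rw [← QuotientGroup.eq] at hx hy
    rw [QuotientGroup.out_eq', QuotientGroup.out_eq'] at hx hy
    rw [hx, hy]
  have hbig := Nat.card_le_card_of_injective f hinj
  rw [Nat.card_prod, Nat.card_prod, Nat.card_eq_fintype_card (α := Fin 2), Fintype.card_fin,
    ← Subgroup.index, ← Subgroup.index] at hbig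
  have := Nat.mul_le_mul hiP hiQ
  rw [← mul_assoc] at hbig
  omega

end Cfsg.Agent.S4400
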