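import Cfsg.Statements.S4401
import Cfsg.Agent.Lib.RankFour.Sectional
import Cfsg.Agent.Lib.Transfer.PGroup

set_option autoImplicit false
open Cfsg

namespace Cfsg.Agent.S4401

open CfsgLib.RankFour
open scoped commutatorElement

variable {S : Type*} [Group S] [Finite S]

/-- A non-abelian 2-subgroup with centre `{1, z}`. -/
structure Node (P : Subgroup S) (z : S) : Prop where
  ncomm : ¬ IsMulCommutative P
  mem : z ∈ P
  ne : z ≠ 1
  central : ∀ x ∈ P, x * z = z * x
  center : ∀ x ∈ P, (∀ y ∈ P, y * x = x * y) → x = 1 ∨ x = z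

theorem Node.conj {P : Subgroup S} {z : S} (h : Node P z) (g : S) :
    Node (P.map (MulAut.conj g).toMonoidHom) (g * z * g⁻¹) := by
  let e : P ≃* P.map (MulAut.conj g).toMonoidHom :=
    P.equivMapOfInjective _ (MulAut.conj g).injective
  refine ⟨fun hc => h.ncomm ⟨⟨fun a b => e.injective (by rw [map_mul, map_mul]; exact hc.is_comm.comm _ _)⟩⟩,
    ⟨z, h.mem, rfl⟩, fun hh => h.ne (conj_eq_one_iff.1 hh), ?_, ?_⟩
  · rintro _ ⟨x, hx, rfl⟩
    show g * x * g⁻¹ * (g * z * g⁻¹) = g * z * g⁻¹ * (g * x * g⁻¹)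
    rw [conj_mul, conj_mul, h.central x hx]
  · rintro _ ⟨x, hx, rfl⟩ hy
    rcases h.center x hx (fun y hy' => (MulAut.conj g).injective (by
      rw [map_mul, map_mul]; exact hy _ ⟨y, hy', rfl⟩)) with h1 | h1
    · exact Or.inl (by subst h1; simp)
    · exact Or.inr (by subst h1; rfl)

theorem Node.exists_comm {P : Subgroup S} {z : S} (h : Node P z) (h2 : IsPGroup 2 S) :
    (⟨z, h.mem⟩ : P) ∈ commutator P := by
  have : Fact (Nat.Prime 2) := ⟨Nat.prime_two⟩
  have := (h2.to_subgroup P).isNilpotent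
  have hne : commutator P ≠ ⊥ := by
    intro hb
    refine h.ncomm ⟨⟨fun a b => ?_⟩⟩
    have : ⁅a, b⁆ ∈ commutator P := by
      rw [commutator_def]
      exact Subgroup.commutator_mem_commutator (Subgroup.mem_top _) (Subgroup.mem_top _)
    rw [hb, Subgroup.mem_bot, commutatorElement_eq_one_iff_mul_comm] at this
    exact this
  obtain ⟨⟨⟨x, hxP⟩, hxc, hxz⟩, hx1⟩ :=
    (Subgroup.ne_bot_iff_exists_ne_one).1 (CfsgLib.Transfer.inf_center_ne_bot hne)
  rcases h.center x hxP (fun y hy =>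
      congrArg Subtype.val (Subgroup.mem_center_iff.1 hxz ⟨y, hy⟩)) with h1 | h1
  · exact absurd (Subtype.ext (Subtype.ext h1)) hx1
  · have : (⟨x, hxP⟩ : P) = ⟨z, h.mem⟩ := Subtype.ext h1
    rw [← this]
    exact hxc

theorem Node.commute (h2 : IsPGroup 2 S) {S₀ P Q : Subgroup S} {z w : S}
    (hP : Node P z) (hQ : Node Q w) (hzw : z ≠ w)
    (hPS : P ≤ S₀) (hQS : Q ≤ S₀) (hPn : ∀ s ∈ S₀, ∀ x ∈ P, s * x * s⁻¹ ∈ P)
    (hQn : ∀ s ∈ S₀, ∀ x ∈ Q, s * x * s⁻¹ ∈ Q) (hzc : ∀ s ∈ S₀, s * z = z * s) :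
    P ⊓ Q = ⊥ ∧ ∀ x ∈ P, ∀ y ∈ Q, x * y = y * x := by
  have : Fact (Nat.Prime 2) := ⟨Nat.prime_two⟩
  have := (h2.to_subgroup P).isNilpotent
  have hbot : P ⊓ Q = ⊥ := by
    by_contra hne
    have : (Q.subgroupOf P).Normal := ⟨fun n hn g => hQn g (hPS g.2) n hn⟩
    have hne' : Q.subgroupOf P ≠ ⊥ := fun hb => hne (by
      rw [Subgroup.subgroupOf_eq_bot, disjoint_iff, inf_comm] at hb
      exact hb)
    obtain ⟨⟨⟨x, hxP⟩, hxQ, hxz⟩, hx1⟩ :=
      (Subgroup.ne_bot_iff_exists_ne_one).1 (CfsgLib.Transfer.inf_center_ne_bot hne')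
    replace hxQ : x ∈ Q := hxQ
    rcases hP.center x hxP (fun y hy =>
      congrArg Subtype.val (Subgroup.mem_center_iff.1 hxz ⟨y, hy⟩)) with h1 | h1
    · exact hx1 (Subtype.ext (Subtype.ext h1))
    · have hzQ : z ∈ Q := h1 ▸ hxQ
      rcases hQ.center z hzQ (fun y hy => hzc y (hQS hy)) with h | h
      · exact hP.ne h
      · exact hzw h
  refine ⟨hbot, fun x hx y hy => ?_⟩
  have h1 : x * y * x⁻¹ * y⁻¹ ∈ P ⊓ Q := by
    refine ⟨?_, ?_⟩
    · rw [mul_assoc x y, mul_assoc x]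
      exact mul_mem hx (hPn y (hQS hy) _ (P.inv_mem hx))
    · exact mul_mem (hQn x (hPS hx) y hy) (Q.inv_mem hy)
  rw [hbot, Subgroup.mem_bot] at h1
  calc x * y = (x * y * x⁻¹ * y⁻¹) * (y * x) := by group
    _ = y * x := by rw [h1, one_mul]

theorem Node.class_le (h2 : IsPGroup 2 S) (hr : Cfsg.SectionalPRankLE 2 4 S)
    {P Q R : Subgroup S} {z w u : S} (hP : Node P z) (hQ : Node Q w) (hR : Node R u)
    (hPQ : ∀ x ∈ P, ∀ y ∈ Q, x * y = y * x) (hPR : ∀ x ∈ P, ∀ y ∈ R, x * y = y * x)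
    (hQR : ∀ x ∈ Q, ∀ y ∈ R, x * y = y * x) : False := by
  obtain ⟨N₁, _, hN₁4, hN₁c, hN₁e, hN₁d⟩ := exists_four_quotient (h2.to_subgroup P) hP.ncomm
  obtain ⟨N₂, _, hN₂4, hN₂c, hN₂e, hN₂d⟩ := exists_four_quotient (h2.to_subgroup Q) hQ.ncomm
  obtain ⟨N₃, _, hN₃4, hN₃c, hN₃e, hN₃d⟩ := exists_four_quotient (h2.to_subgroup R) hR.ncomm
  let j : Q × R →* S := MonoidHom.noncommCoprod Q.subtype R.subtype fun a b => hQR a a.2 b b.2
  have hj : ∀ a : P, ∀ b : Q × R, Commute (P.subtype a) (j b) := fun a b =>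
    Commute.mul_right (hPQ a a.2 b.1 b.1.2) (hPR a a.2 b.2 b.2.2)
  have h16 : Nat.card ((P ⧸ N₁) × (Q ⧸ N₂) × (R ⧸ N₃)) ≤ 2 ^ 4 := by
    refine card_le_of_hom hr (MonoidHom.noncommCoprod P.subtype j hj)
      (MonoidHom.prodMap (QuotientGroup.mk' N₁)
        (MonoidHom.prodMap (QuotientGroup.mk' N₂) (QuotientGroup.mk' N₃)))
      ((QuotientGroup.mk'_surjective N₁).prodMap
        ((QuotientGroup.mk'_surjective N₂).prodMap (QuotientGroup.mk'_surjective N₃))) ?_ ?_ ?_
    · rintro ⟨⟨x, hx⟩, ⟨y, hy⟩, ⟨r, hr'⟩⟩ hk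
      replace hk : x * (y * r) = 1 := hk
      have hxc : ∀ a ∈ P, a * x = x * a := fun a ha => by
        have hx' : x = (y * r)⁻¹ := eq_inv_of_mul_eq_one_left hk
        rw [hx']
        exact (Commute.mul_right (hPQ a ha y hy) (hPR a ha r hr')).inv_right
      have hyc : ∀ b ∈ Q, b * y = y * b := fun b hb => by
        have hy' : y = x⁻¹ * r⁻¹ := by
          rw [← mul_one x⁻¹, ← hk]; group
        rw [hy']
        exact Commute.mul_right (show Commute b x⁻¹ from (show Commute x b from hPQ x hx b hb).symm.inv_right)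
          (show Commute b r⁻¹ from (show Commute b r from hQR b hb r hr').inv_right)
      have hrc : ∀ c ∈ R, c * r = r * c := fun c hc => by
        have hr'' : r = y⁻¹ * x⁻¹ := by
          rw [← mul_one (y⁻¹ * x⁻¹), ← hk]; group
        rw [hr'']
        exact Commute.mul_right (show Commute c y⁻¹ from (show Commute y c from hQR y hy c hc).symm.inv_right)
          (show Commute c x⁻¹ from (show Commute x c from hPR x hx c hc).symm.inv_right)
      have key : ∀ {T : Subgroup S} {t : S} (hT : Node T t) (N : Subgroup T), commutator T ≤ N →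
          ∀ a : T, (∀ b ∈ T, b * (a : S) = a * b) → a ∈ N := by
        intro T t hT N hN a ha
        rcases hT.center a a.2 ha with h | h
        · rw [show a = 1 from Subtype.ext h]; exact one_mem _
        · rw [show a = ⟨t, hT.mem⟩ from Subtype.ext h]; exact hN (hT.exists_comm h2)
      exact Prod.ext ((QuotientGroup.eq_one_iff _).2 (key hP N₁ hN₁d _ hxc))
        (Prod.ext ((QuotientGroup.eq_one_iff _).2 (key hQ N₂ hN₂d _ hyc))
          ((QuotientGroup.eq_one_iff _).2 (key hR N₃ hN₃d _ hrc)))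
    · rintro ⟨a, b, c⟩ ⟨a', b', c'⟩
      exact Prod.ext (hN₁c a a') (Prod.ext (hN₂c b b') (hN₃c c c'))
    · rintro ⟨a, b, c⟩
      exact Prod.ext (hN₁e a) (Prod.ext (hN₂e b) (hN₃e c))
  rw [Nat.card_prod, Nat.card_prod] at h16
  have := Nat.mul_le_mul hN₁4 (Nat.mul_le_mul hN₂4 hN₃4)
  omega

theorem Node.sectional_two (h2 : IsPGroup 2 S) (hr : Cfsg.SectionalPRankLE 2 4 S)
    {P Q : Subgroup S} {w : S} (hQ : Node Q w) (hbot : P ⊓ Q = ⊥)
    (hPQ : ∀ x ∈ P, ∀ y ∈ Q, x * y = y * x) : Cfsg.SectionalPRankLE 2 2 P := by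
  intro H N hN A hA hAe
  obtain ⟨N₂, _, hN₂4, hN₂c, hN₂e, -⟩ := exists_four_quotient (h2.to_subgroup Q) hQ.ncomm
  let X := A.comap (QuotientGroup.mk' N)
  let i₁ : X →* S := (P.subtype.comp H.subtype).comp X.subtype
  let f₁ : X →* A := ((QuotientGroup.mk' N).comp X.subtype).codRestrict A fun x => x.2
  have hf₁ : Function.Surjective f₁ := fun a => by
    obtain ⟨x, hx⟩ := QuotientGroup.mk'_surjective N a.1
    exact ⟨⟨x, show QuotientGroup.mk' N x ∈ A from hx.symm ▸ a.2⟩, Subtype.ext hx⟩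
  have hcomm : ∀ a : X, ∀ b : Q, Commute (i₁ a) (Q.subtype b) := fun a b =>
    hPQ _ ((a : H) : P).2 b b.2
  have h16 : Nat.card (A × (Q ⧸ N₂)) ≤ 2 ^ 4 := by
    refine card_le_of_hom hr (MonoidHom.noncommCoprod i₁ Q.subtype hcomm)
      (MonoidHom.prodMap f₁ (QuotientGroup.mk' N₂))
      (hf₁.prodMap (QuotientGroup.mk'_surjective N₂)) ?_ ?_ ?_
    · rintro ⟨x, ⟨y, hy⟩⟩ hk
      replace hk : i₁ x * y = 1 := hk
      have hy1 : y = 1 := by
        rw [← Subgroup.mem_bot, ← hbot]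
        refine ⟨?_, hy⟩
        rw [show y = (i₁ x)⁻¹ from eq_inv_of_mul_eq_one_right hk]
        exact P.inv_mem ((x : H) : P).2
      subst hy1
      rw [mul_one] at hk
      have hx1 : x = 1 := by
        apply Subtype.ext; apply Subtype.ext; apply Subtype.ext
        exact hk
      subst hx1
      exact map_one _
    · rintro ⟨a, b⟩ ⟨a', b'⟩
      exact Prod.ext (hA.is_comm.comm a a') (hN₂c b b')
    · rintro ⟨a, b⟩
      exact Prod.ext (Subtype.ext (hAe a a.2)) (hN₂e b)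
  rw [Nat.card_prod] at h16
  have := Nat.mul_le_mul_left (Nat.card A) hN₂4
  omega

theorem Node.self_centralizing (h2 : IsPGroup 2 S) (hr : Cfsg.SectionalPRankLE 2 4 S)
    {P Q : Subgroup S} {z w : S} (hP : Node P z) (hQ : Node Q w) (hbot : P ⊓ Q = ⊥)
    (hPQ : ∀ x ∈ P, ∀ y ∈ Q, x * y = y * x) (c : S) (hcP : ∀ x ∈ P, x * c = c * x)
    (hcQ : ∀ y ∈ Q, y * c = c * y) : c = 1 ∨ c = z ∨ c = w ∨ c = z * w := by
  by_contra hcon
  have : Fact (Nat.Prime 2) := ⟨Nat.prime_two⟩
  let C : Subgroup S := Subgroup.centralizer ((P : Set S) ∪ Q)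
  have hzC : z ∈ C := by
    rintro x (hx | hx)
    · exact hP.central x hx
    · exact (hPQ z hP.mem x hx).symm
  have hwC : w ∈ C := by
    rintro x (hx | hx)
    · exact hPQ x hx w hQ.mem
    · exact hQ.central x hx
  have hcC : c ∈ C := by
    rintro x (hx | hx)
    · exact hcP x hx
    · exact hcQ x hx
  let W : Subgroup S := Subgroup.closure {z, w}
  have hWC : W ≤ C := (Subgroup.closure_le _).2 (by
    rintro x (rfl | rfl)
    · exact hzC
    · exact hwC)
  have hz2 : z * z = 1 := by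
    rcases hP.center (z * z) (mul_mem hP.mem hP.mem) (fun y hy =>
      Commute.mul_right (hP.central y hy) (hP.central y hy)) with h | h
    · exact h
    · exact absurd (mul_eq_left.1 h) hP.ne
  have hw2 : w * w = 1 := by
    rcases hQ.center (w * w) (mul_mem hQ.mem hQ.mem) (fun y hy =>
      Commute.mul_right (hQ.central y hy) (hQ.central y hy)) with h | h
    · exact h
    · exact absurd (mul_eq_left.1 h) hQ.ne
  have hzw' : z * w = w * z := hPQ z hP.mem w hQ.mem
  have hW4 : ∀ x ∈ W, x = 1 ∨ x = z ∨ x = w ∨ x = z * w := by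
    intro x hx
    induction hx using Subgroup.closure_induction with
    | mem x hx => rcases hx with rfl | rfl <;> simp
    | one => simp
    | mul x y _ _ hx hy =>
      have hz2' : ∀ a, z * (z * a) = a := fun a => by rw [← mul_assoc, hz2, one_mul]
      have hw2' : ∀ a, w * (w * a) = a := fun a => by rw [← mul_assoc, hw2, one_mul]
      have hwz : ∀ a, w * (z * a) = z * (w * a) := fun a => by rw [← mul_assoc, ← hzw', mul_assoc]
      rcases hx with rfl | rfl | rfl | rfl <;> rcases hy with rfl | rfl | rfl | rfl <;>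
        simp [hz2, hw2, hz2', hw2', hwz, ← hzw', mul_assoc]
    | inv x _ hx =>
      rcases hx with rfl | rfl | rfl | rfl
      · simp
      · simp [inv_eq_of_mul_eq_one_left hz2]
      · simp [inv_eq_of_mul_eq_one_left hw2]
      · rw [mul_inv_rev, inv_eq_of_mul_eq_one_left hz2, inv_eq_of_mul_eq_one_left hw2, ← hzw']
        simp
  obtain ⟨d, hdC, hdW, hd2⟩ : ∃ d ∈ C, d ∉ W ∧ d * d ∈ W := by
    have hcW : c ∉ W := fun h => hcon (hW4 c h)
    obtain ⟨k, hk⟩ := h2 c
    have hex : ∃ m, c ^ 2 ^ m ∈ W := ⟨k, by rw [hk]; exact one_mem _⟩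
    classical
    obtain ⟨m, hm⟩ : ∃ m, Nat.find hex = m + 1 := Nat.exists_eq_succ_of_ne_zero (fun h0 =>
      hcW (by simpa [h0] using Nat.find_spec hex))
    refine ⟨c ^ 2 ^ m, pow_mem hcC _, Nat.find_min hex (by omega), ?_⟩
    rw [← pow_add, ← mul_two, ← pow_succ, ← hm]
    exact Nat.find_spec hex
  obtain ⟨N₁, _, hN₁4, hN₁c, hN₁e, hN₁d⟩ := exists_four_quotient (h2.to_subgroup P) hP.ncomm
  obtain ⟨N₂, _, hN₂4, hN₂c, hN₂e, hN₂d⟩ := exists_four_quotient (h2.to_subgroup Q) hQ.ncomm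
  let D := Subgroup.zpowers d
  have hdcomm : ∀ x : S, (x ∈ P ∨ x ∈ Q) → ∀ e ∈ D, x * e = e * x := by
    rintro x hx _ ⟨n, rfl⟩
    exact (show Commute x d from hdC x hx).zpow_right n
  have : (W.subgroupOf D).Normal := ⟨fun n hn g => by
    obtain ⟨_, a, rfl⟩ := n
    obtain ⟨_, b, rfl⟩ := g
    rw [Subgroup.mem_subgroupOf] at hn ⊢
    simpa [← zpow_add, ← zpow_neg] using hn⟩
  have hqc : ∀ a b : D ⧸ W.subgroupOf D, a * b = b * a := by
    intro a b
    induction a using QuotientGroup.induction_on with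
    | H a =>
      induction b using QuotientGroup.induction_on with
      | H b => rw [← QuotientGroup.mk_mul, ← QuotientGroup.mk_mul, mul_comm' a b]
  have hqe : ∀ a : D ⧸ W.subgroupOf D, a ^ 2 = 1 := by
    intro a
    induction a using QuotientGroup.induction_on with
    | H a =>
      obtain ⟨_, n, rfl⟩ := a
      rw [← QuotientGroup.mk_pow, QuotientGroup.eq_one_iff, Subgroup.mem_subgroupOf, sq]
      show d ^ n * d ^ n ∈ W
      rw [← (Commute.refl d).mul_zpow]
      exact zpow_mem hd2 n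
  have h2q : 2 ≤ Nat.card (D ⧸ W.subgroupOf D) := by
    have hlt : 1 < Nat.card (D ⧸ W.subgroupOf D) :=
      Finite.one_lt_card_iff_nontrivial.2
        ⟨⟨(⟨d, Subgroup.mem_zpowers d⟩ : D), (1 : D), fun h => hdW (by
          have h' := (QuotientGroup.eq_one_iff _).1 h
          exact h')⟩⟩
    omega
  let j : Q × D →* S := MonoidHom.noncommCoprod Q.subtype D.subtype
    fun a b => hdcomm a (Or.inr a.2) b b.2
  have hj : ∀ a : P, ∀ b : Q × D, Commute (P.subtype a) (j b) := fun a b =>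
    Commute.mul_right (hPQ a a.2 b.1 b.1.2) (hdcomm a (Or.inl a.2) b.2 b.2.2)
  have h16 : Nat.card ((P ⧸ N₁) × (Q ⧸ N₂) × (D ⧸ W.subgroupOf D)) ≤ 2 ^ 4 := by
    refine card_le_of_hom hr (MonoidHom.noncommCoprod P.subtype j hj)
      (MonoidHom.prodMap (QuotientGroup.mk' N₁)
        (MonoidHom.prodMap (QuotientGroup.mk' N₂) (QuotientGroup.mk' (W.subgroupOf D))))
      ((QuotientGroup.mk'_surjective N₁).prodMap
        ((QuotientGroup.mk'_surjective N₂).prodMap (QuotientGroup.mk'_surjective _))) ?_ ?_ ?_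
    · rintro ⟨⟨x, hx⟩, ⟨y, hy⟩, ⟨e, he⟩⟩ hk
      replace hk : x * (y * e) = 1 := hk
      have hxc : ∀ a ∈ P, a * x = x * a := fun a ha => by
        rw [show x = (y * e)⁻¹ from eq_inv_of_mul_eq_one_left hk]
        exact (Commute.mul_right (hPQ a ha y hy) (hdcomm a (Or.inl ha) e he)).inv_right
      have hyc : ∀ b ∈ Q, b * y = y * b := fun b hb => by
        have hy' : y = x⁻¹ * e⁻¹ := by
          rw [← mul_one x⁻¹, ← hk]; group
        rw [hy']
        exact Commute.mul_right (show Commute b x⁻¹ from (show Commute x b from hPQ x hx b hb).symm.inv_right)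
          (show Commute b e⁻¹ from (show Commute b e from hdcomm b (Or.inr hb) e he).inv_right)
      have hzN : (⟨z, hP.mem⟩ : P) ∈ N₁ := hN₁d (hP.exists_comm h2)
      have hwN : (⟨w, hQ.mem⟩ : Q) ∈ N₂ := hN₂d (hQ.exists_comm h2)
      refine Prod.ext ((QuotientGroup.eq_one_iff _).2 ?_)
        (Prod.ext ((QuotientGroup.eq_one_iff _).2 ?_) ((QuotientGroup.eq_one_iff _).2 ?_))
      · rcases hP.center x hx hxc with h | h
        · subst h; exact one_mem _
        · subst h; exact hzN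
      · rcases hQ.center y hy hyc with h | h
        · subst h; exact one_mem _
        · subst h; exact hwN
      · show e ∈ W
        rw [show e = y⁻¹ * x⁻¹ by rw [← mul_one (y⁻¹ * x⁻¹), ← hk]; group]
        refine mul_mem (inv_mem ?_) (inv_mem ?_)
        · rcases hQ.center y hy hyc with h | h
          · subst h; exact one_mem _
          · subst h; exact Subgroup.subset_closure (Or.inr rfl)
        · rcases hP.center x hx hxc with h | h
          · subst h; exact one_mem _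
          · subst h; exact Subgroup.subset_closure (Or.inl rfl)
    · rintro ⟨a, b, c⟩ ⟨a', b', c'⟩
      exact Prod.ext (hN₁c a a') (Prod.ext (hN₂c b b') (hqc c c'))
    · rintro ⟨a, b, c⟩
      exact Prod.ext (hN₁e a) (Prod.ext (hN₂e b) (hqe c))
  rw [Nat.card_prod, Nat.card_prod] at h16
  have := Nat.mul_le_mul hN₁4 (Nat.mul_le_mul hN₂4 h2q)
  omega

/-- Let S be a finite 2-group of sectional 2-rank at most 4 and P a proper non-abelian subgroup whose centre has order 2. Let S₀ be the centralizer in S of Z(P) and suppose P is normal in S₀. Then either S₀ = S, or P has sectional 2-rank at most 2 and S₀ has index 2 in S. -/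
theorem result {S : Type*} [Group S] [Finite S] (h2 : IsPGroup 2 S) (hr : Cfsg.SectionalPRankLE 2 4 S)
    (P : Subgroup S) (hPlt : P ≠ ⊤) (hP : ¬ IsMulCommutative ↥P) (hZP : Nat.card ↥(Subgroup.center ↥P) = 2)
    (S₀ : Subgroup S) (hS₀ : S₀ = Subgroup.centralizer (((Subgroup.center ↥P).map P.subtype : Subgroup S) : Set S))
    (hPn : ∀ s ∈ S₀, ∀ x ∈ P, s * x * s⁻¹ ∈ P) :
    S₀ = ⊤ ∨ (Cfsg.SectionalPRankLE 2 2 ↥P ∧ S₀.index = 2) := by
  have : Fact (Nat.Prime 2) := ⟨Nat.prime_two⟩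
  obtain ⟨z₀, hz₀, hz₀u⟩ := (Nat.card_eq_two_iff' (1 : Subgroup.center P)).1 hZP
  set z : S := ((z₀ : P) : S) with hzdef
  have hnode : Node P z :=
    ⟨hP, (z₀ : P).2, fun h => hz₀ (Subtype.ext (Subtype.ext h)),
      fun x hx => congrArg Subtype.val (Subgroup.mem_center_iff.1 z₀.2 ⟨x, hx⟩),
      fun x hx hc => (em ((⟨x, hx⟩ : P) = 1)).imp (fun h => congrArg Subtype.val h) fun h => by
        have := hz₀u ⟨⟨x, hx⟩, Subgroup.mem_center_iff.2 fun y => Subtype.ext (hc y y.2)⟩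
          (fun h' => h (congrArg Subtype.val h'))
        exact congrArg (fun a : Subgroup.center P => ((a : P) : S)) this⟩
  have hS₀mem : ∀ s, s ∈ S₀ ↔ s * z = z * s := by
    intro s
    rw [hS₀]
    constructor
    · exact fun h => (h z ⟨z₀, z₀.2, rfl⟩).symm
    · rintro h _ ⟨x, hx, rfl⟩
      rcases hnode.center x x.2 (fun y hy => congrArg Subtype.val (Subgroup.mem_center_iff.1 hx ⟨y, hy⟩))
        with h' | h'
      · rw [Subgroup.coe_subtype, h', one_mul, mul_one]
      · rw [Subgroup.coe_subtype, h', h]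
  have hPS : P ≤ S₀ := fun x hx => (hS₀mem x).2 (hnode.central x hx)
  by_cases htop : S₀ = ⊤
  · exact Or.inl htop
  refine Or.inr ?_
  set N := Subgroup.normalizer (S₀ : Set S) with hNdef
  have hnil := h2.isNilpotent
  have hlt : S₀ < N := Group.normalizerCondition_of_isNilpotent S₀ (lt_top_iff_ne_top.2 htop)
  obtain ⟨n, hnN, hnS⟩ := SetLike.exists_of_lt hlt
  have hNmem : ∀ m ∈ N, ∀ s, s ∈ S₀ ↔ m * s * m⁻¹ ∈ S₀ := fun m hm => Subgroup.mem_normalizer_iff.1 hm
  have hconjn : ∀ m ∈ N, ∀ s ∈ S₀, ∀ x ∈ P.map (MulAut.conj m).toMonoidHom,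
      s * x * s⁻¹ ∈ P.map (MulAut.conj m).toMonoidHom := by
    rintro m hm s hs _ ⟨x, hx, rfl⟩
    refine ⟨(m⁻¹ * s * m) * x * (m⁻¹ * s * m)⁻¹, hPn _ ?_ x hx, ?_⟩
    · simpa using (hNmem _ (inv_mem hm) s).1 hs
    · show m * ((m⁻¹ * s * m) * x * (m⁻¹ * s * m)⁻¹) * m⁻¹ = s * (m * x * m⁻¹) * s⁻¹
      group
  have hconjS : ∀ m ∈ N, P.map (MulAut.conj m).toMonoidHom ≤ S₀ := by
    rintro m hm _ ⟨x, hx, rfl⟩
    exact (hNmem m hm x).1 (hPS hx)
  have hzc : ∀ s ∈ S₀, s * z = z * s := fun s hs => (hS₀mem s).1 hs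
  have hzcm : ∀ m ∈ N, ∀ s ∈ S₀, s * (m * z * m⁻¹) = (m * z * m⁻¹) * s := by
    intro m hm s hs
    have := hzc _ ((hNmem _ (inv_mem hm) s).1 hs)
    calc s * (m * z * m⁻¹) = m * ((m⁻¹ * s * m⁻¹⁻¹) * z) * m⁻¹ := by group
      _ = m * (z * (m⁻¹ * s * m⁻¹⁻¹)) * m⁻¹ := by rw [this]
      _ = (m * z * m⁻¹) * s := by group
  set w := n * z * n⁻¹ with hw
  set Q := P.map (MulAut.conj n).toMonoidHom with hQdef
  have hQ : Node Q w := hnode.conj n
  have hzw : z ≠ w := fun h => hnS ((hS₀mem n).2 (by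
    calc n * z = (n * z * n⁻¹) * n := by group
      _ = z * n := by rw [← hw, ← h]))
  obtain ⟨hbot, hcomm⟩ := Node.commute h2 hnode hQ hzw hPS (hconjS n hnN) hPn (hconjn n hnN) hzc
  have hclass : ∀ m ∈ N, m * z * m⁻¹ = z ∨ m * z * m⁻¹ = w := by
    intro m hm
    by_contra hcon
    push Not at hcon
    have hR : Node (P.map (MulAut.conj m).toMonoidHom) (m * z * m⁻¹) := hnode.conj m
    obtain ⟨-, h13⟩ := Node.commute h2 hnode hR hcon.1.symm hPS (hconjS m hm) hPn (hconjn m hm) hzc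
    obtain ⟨-, h23⟩ := Node.commute h2 hQ hR hcon.2.symm (hconjS n hnN) (hconjS m hm)
      (hconjn n hnN) (hconjn m hm) (hzcm n hnN)
    exact Node.class_le h2 hr hnode hQ hR hcomm h13 h23
  have hidx : ∀ m ∈ N, m ∈ S₀ ∨ n⁻¹ * m ∈ S₀ := by
    intro m hm
    rcases hclass m hm with h | h
    · exact Or.inl ((hS₀mem m).2 (mul_inv_eq_iff_eq_mul.1 h))
    · refine Or.inr ((hS₀mem _).2 (mul_inv_eq_iff_eq_mul.1 ?_))
      calc n⁻¹ * m * z * (n⁻¹ * m)⁻¹ = n⁻¹ * (m * z * m⁻¹) * n := by group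
        _ = n⁻¹ * w * n := by rw [h]
        _ = z := by rw [hw]; group
  have hn2 : n * w * n⁻¹ = z := by
    rcases hclass (n * n) (mul_mem hnN hnN) with h | h
    · calc n * w * n⁻¹ = n * n * z * (n * n)⁻¹ := by rw [hw]; group
        _ = z := h
    · exfalso
      apply hzw
      have : n * w * n⁻¹ = w := by
        calc n * w * n⁻¹ = n * n * z * (n * n)⁻¹ := by rw [hw]; group
          _ = w := h
      calc z = n⁻¹ * w * n := by rw [hw]; group
        _ = n⁻¹ * (n * w * n⁻¹) * n := by rw [this]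
        _ = w := by group
  have hzw' : z * w = w * z := hcomm z hnode.mem w hQ.mem
  have hzwc : ∀ y ∈ N, y * (z * w) = (z * w) * y := by
    intro y hy
    rcases hidx y hy with h | h
    · exact Commute.mul_right (hzc y h) (hzcm n hnN y h)
    · have hns : n * (z * w) = (z * w) * n :=
        calc n * (z * w) = (n * z * n⁻¹) * (n * w * n⁻¹) * n := by group
          _ = w * z * n := by rw [hn2, ← hw]
          _ = z * w * n := by rw [hzw']
      rw [show y = n * (n⁻¹ * y) by group]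
      exact Commute.mul_left hns (Commute.mul_right (hzc _ h) (hzcm n hnN _ h))
  have hzinv : z⁻¹ = z := by
    rcases hnode.center (z * z) (mul_mem hnode.mem hnode.mem) (fun y hy =>
      Commute.mul_right (hnode.central y hy) (hnode.central y hy)) with h | h
    · exact inv_eq_of_mul_eq_one_left h
    · exact absurd (mul_eq_left.1 h) hnode.ne
  have hwS : ∀ b, b ∈ S₀ ↔ b * w = w * b := by
    intro b
    rw [hNmem _ (inv_mem hnN) b, hS₀mem]
    constructor
    · intro hb
      calc b * w = n * ((n⁻¹ * b * n⁻¹⁻¹) * z) * n⁻¹ := by rw [hw]; group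
        _ = n * (z * (n⁻¹ * b * n⁻¹⁻¹)) * n⁻¹ := by rw [hb]
        _ = w * b := by rw [hw]; group
    · intro hb
      calc n⁻¹ * b * n⁻¹⁻¹ * z = n⁻¹ * (b * w) * n := by rw [hw]; group
        _ = n⁻¹ * (w * b) * n := by rw [hb]
        _ = z * (n⁻¹ * b * n⁻¹⁻¹) := by rw [hw]; group
  have hNtop : N = ⊤ := by
    by_contra hne
    obtain ⟨t, htN, htnN⟩ := SetLike.exists_of_lt
      (Group.normalizerCondition_of_isNilpotent N (lt_top_iff_ne_top.2 hne))
    have htmem : ∀ m, m ∈ N ↔ t * m * t⁻¹ ∈ N := Subgroup.mem_normalizer_iff.1 htN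
    have htmem' : ∀ m ∈ N, t⁻¹ * m * t ∈ N := fun m hm => by
      rw [htmem (t⁻¹ * m * t), show t * (t⁻¹ * m * t) * t⁻¹ = m by group]; exact hm
    set u := t * z * t⁻¹ with hu
    have hcomS : ∀ a ∈ N, ∀ b ∈ N, ⁅a, b⁆ ∈ S₀ := by
      intro a ha b hb
      have : (S₀.subgroupOf N).Normal := ⟨fun x hx g => (hNmem g g.2 x).1 hx⟩
      let π : N →* N ⧸ S₀.subgroupOf N := QuotientGroup.mk' _
      have hcls : ∀ c : N ⧸ S₀.subgroupOf N, c = 1 ∨ c = π ⟨n, hnN⟩ := by
        intro c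
        induction c using QuotientGroup.induction_on with
        | H c =>
          rcases hidx c c.2 with h | h
          · exact Or.inl ((QuotientGroup.eq_one_iff c).2 h)
          · exact Or.inr (Eq.symm (QuotientGroup.eq.2 h))
      have hc : ⁅π ⟨a, ha⟩, π ⟨b, hb⟩⁆ = 1 := by
        rw [commutatorElement_eq_one_iff_mul_comm]
        rcases hcls (π ⟨a, ha⟩) with h | h <;> rcases hcls (π ⟨b, hb⟩) with h' | h' <;>
          simp [h, h']
      rw [← map_commutatorElement] at hc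
      have h' := (QuotientGroup.eq_one_iff (⁅(⟨a, ha⟩ : N), (⟨b, hb⟩ : N)⁆)).1 hc
      exact h'
    let φ : P →* S := (MulAut.conj t).toMonoidHom.comp P.subtype
    have huS : u ∈ S₀ := by
      have hle : (commutator P).map φ ≤ S₀ := by
        rw [commutator_def, Subgroup.map_commutator, Subgroup.commutator_le]
        rintro _ ⟨a, -, rfl⟩ _ ⟨b, -, rfl⟩
        exact hcomS _ ((htmem a).1 (hlt.le (hPS a.2))) _ ((htmem b).1 (hlt.le (hPS b.2)))
      exact hle ⟨_, hnode.exists_comm h2, rfl⟩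
    have huQ : ∀ m ∈ N, ∀ x ∈ P.map (MulAut.conj m).toMonoidHom, x * u = u * x := by
      intro m hm x hx
      have hxN : x ∈ N := hlt.le (hconjS m hm hx)
      have hxu : x * u * x⁻¹ = t * ((t⁻¹ * x * t) * z * (t⁻¹ * x * t)⁻¹) * t⁻¹ := by rw [hu]; group
      rcases hclass _ (htmem' x hxN) with h | h
      · rw [h, ← hu] at hxu
        exact mul_inv_eq_iff_eq_mul.1 hxu
      exfalso
      rw [h] at hxu
      set v := x * u * x⁻¹ * u⁻¹ with hv
      have hvP : v ∈ P.map (MulAut.conj m).toMonoidHom := by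
        rw [hv, mul_assoc x u, mul_assoc x]
        exact mul_mem hx (hconjn m hm u huS _ (inv_mem hx))
      have hv' : v = t * (z * w) * t⁻¹ := by
        calc v = t * (w * z⁻¹) * t⁻¹ := by rw [hv, hxu, hu]; group
          _ = t * (z * w) * t⁻¹ := by rw [hzinv, ← hzw']
      have hvc : ∀ y ∈ N, y * v = v * y := by
        intro y hy
        calc y * v = t * ((t⁻¹ * y * t) * (z * w)) * t⁻¹ := by rw [hv']; group
          _ = t * ((z * w) * (t⁻¹ * y * t)) * t⁻¹ := by rw [hzwc _ (htmem' y hy)]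
          _ = v * y := by rw [hv']; group
      rcases (hnode.conj m).center v hvP (fun y hy => hvc y (hlt.le (hconjS m hm hy))) with h1 | h1
      · rw [hv'] at h1
        have h3 := conj_eq_one_iff.1 h1
        exact hzw ((eq_inv_of_mul_eq_one_left h3).trans (inv_eq_iff_mul_eq_one.2 (by
          calc w * w = n * (z * z) * n⁻¹ := by rw [hw]; group
            _ = 1 := by rw [show z * z = 1 from inv_eq_iff_mul_eq_one.1 hzinv]; group)))
      · have h2 := hvc (m * n * m⁻¹) (mul_mem (mul_mem hm hnN) (inv_mem hm))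
        rw [h1] at h2
        apply hnS
        rw [hS₀mem]
        calc n * z = m⁻¹ * ((m * n * m⁻¹) * (m * z * m⁻¹)) * m := by group
          _ = m⁻¹ * ((m * z * m⁻¹) * (m * n * m⁻¹)) * m := by rw [h2]
          _ = z * n := by group
    have hP1 : P.map (MulAut.conj (1 : S)).toMonoidHom = P := by
      ext x; simp
    have hu4 := Node.self_centralizing h2 hr hnode hQ hbot hcomm u
      (fun x hx => huQ 1 (one_mem _) x (by rw [hP1]; exact hx)) (fun x hx => huQ n hnN x hx)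
    have hun : ¬ ∀ s, s ∈ S₀ ↔ s * u = u * s := by
      intro h
      apply htnN
      rw [hNdef, Subgroup.mem_normalizer_iff]
      intro s
      rw [h (t * s * t⁻¹), hS₀mem s]
      constructor
      · intro hs
        calc t * s * t⁻¹ * u = t * (s * z) * t⁻¹ := by rw [hu]; group
          _ = t * (z * s) * t⁻¹ := by rw [hs]
          _ = u * (t * s * t⁻¹) := by rw [hu]; group
      · intro hs
        calc s * z = t⁻¹ * (t * s * t⁻¹ * u) * t := by rw [hu]; group
          _ = t⁻¹ * (u * (t * s * t⁻¹)) * t := by rw [hs]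
          _ = z * s := by rw [hu]; group
    rcases hu4 with h | h | h | h
    · exact hnode.ne (conj_eq_one_iff.1 h)
    · exact hun (fun s => h.symm ▸ hS₀mem s)
    · exact hun (fun s => h.symm ▸ hwS s)
    · have h5 := hzwc (t * n * t⁻¹) ((htmem n).1 hnN)
      rw [← h] at h5
      apply hnS
      rw [hS₀mem]
      calc n * z = t⁻¹ * ((t * n * t⁻¹) * u) * t := by rw [hu]; group
        _ = t⁻¹ * (u * (t * n * t⁻¹)) * t := by rw [h5]
        _ = z * n := by rw [hu]; group
  refine ⟨Node.sectional_two h2 hr hQ hbot hcomm, ?_⟩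
  rw [Subgroup.index_eq_two_iff]
  refine ⟨n⁻¹, fun b => ?_⟩
  have hnorm : S₀.Normal := Subgroup.normalizer_eq_top_iff.1 hNtop
  have hb : b ∈ N := hNtop ▸ Subgroup.mem_top b
  rcases hidx b hb with h | h
  · refine Or.inr ⟨h, fun h' => hnS ?_⟩
    have := inv_mem (mul_mem (inv_mem h) h')
    simpa [mul_assoc] using this
  · refine Or.inl ⟨?_, fun h' => hnS ?_⟩
    · have := hnorm.conj_mem _ h n
      simpa [mul_assoc] using this
    · have := mul_mem h' (inv_mem h)
      simpa [mul_assoc] using this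

end Cfsg.Agent.S4401
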