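import Cfsg.Statements.S4402
import Cfsg.Agent.Lib.RankFour.WreathDihedral

set_option autoImplicit false
open Cfsg

namespace Cfsg.Agent.S4402

open CfsgLib.RankFour DihedralGroup

variable {S : Type*} [Group S] {P : Subgroup S} (d : WData P)

theorem d8_z_group : isZ 1 ∧ (∀ g h : D8, isZ g → isZ h → isZ (g * h)) ∧ isZ (r 2) := by decide

theorem d8_stab_comm : ∀ a b : D8, isZ ((sr 0)⁻¹ * a) → isZ ((sr 1)⁻¹ * b) →
    a * b * a⁻¹ * b⁻¹ = r 2 := by decide

theorem d8_z_comm' : ∀ a b : D8, isZ a → isZ b → a * b * a⁻¹ * b⁻¹ = 1 := by decide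

theorem d8_z_inv : ∀ a : D8, isZ a → isZ a⁻¹ := by decide

theorem d8_noncentral : ∀ p : D8, isZ p → isV false (p * sr 0) = false ∧ p * sr 0 ≠ 1 := by decide

theorem base_centralizer {x : S} (hx : x ∈ P) (hc : ∀ y, x * d.f y = d.f y * x) :
    ∃ w : D8 × D8, isZ w.1 ∧ isZ w.2 ∧ x = d.f w := by
  obtain ⟨y, rfl | rfl⟩ := d.cover x hx
  · have hcy : ∀ g, g * y = y * g := fun g => d.finj (by rw [map_mul, map_mul]; exact (hc g).symm)
    refine ⟨y, ?_, ?_, rfl⟩
    · rcases d8_center y.1 (fun g => congrArg Prod.fst (hcy (g, 1))) with h | h <;> rw [h] <;> decide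
    · rcases d8_center y.2 (fun g => congrArg Prod.snd (hcy (1, g))) with h | h <;> rw [h] <;> decide
  · exfalso
    have h := hc (sr 0, 1)
    rw [mul_assoc (d.f y), d.sf, ← mul_assoc, ← mul_assoc, ← map_mul, ← map_mul] at h
    have h' : y.1 * 1 = sr 0 * y.1 := congrArg Prod.fst (d.finj (mul_right_cancel h))
    rw [mul_one] at h'
    exact absurd (mul_eq_right.1 h'.symm) (show (sr 0 : D8) ≠ 1 by decide)

theorem commute_swap {y : D8 × D8} (h : d.s * d.f y = d.f y * d.s) : y.1 = y.2 := by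
  rw [d.sf] at h
  exact (congrArg Prod.fst (d.finj (mul_right_cancel h))).symm

theorem card_P (d : WData P) : Nat.card P = 128 := by
  let g : (D8 × D8) × Bool → P := fun x =>
    bif x.2 then ⟨d.f x.1 * d.s, mul_mem (d.fmem _) d.smem⟩ else ⟨d.f x.1, d.fmem _⟩
  have hne : ∀ a b, d.f a ≠ d.f b * d.s := fun a b h =>
    d.snot (b⁻¹ * a) (by rw [map_mul, map_inv, h, inv_mul_cancel_left])
  have hg : Function.Bijective g := by
    constructor
    · rintro ⟨a, _ | _⟩ ⟨b, _ | _⟩ h <;> replace h := congrArg Subtype.val h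
      · exact Prod.ext (d.finj h) rfl
      · exact absurd h (hne a b)
      · exact absurd h.symm (hne b a)
      · exact Prod.ext (d.finj (mul_right_cancel h)) rfl
    · rintro ⟨x, hx⟩
      obtain ⟨y, rfl | rfl⟩ := d.cover x hx
      · exact ⟨(y, false), rfl⟩
      · exact ⟨(y, true), rfl⟩
  rw [← Nat.card_eq_of_bijective g hg]
  simp [Nat.card_eq_fintype_card, DihedralGroup.card]

variable [Finite S]

theorem no_fixing (hr : Cfsg.SectionalPRankLE 2 4 S) {n : S} (hnP : n ∉ P) (hn2 : n * n ∈ P)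
    (hs : n * d.s = d.s * n) (α β γ δ : D8) (ha : n * d.f (sr 0, 1) * n⁻¹ = d.f (α, β))
    (hb : n * d.f (sr 1, 1) * n⁻¹ = d.f (γ, δ))
    (hα : isZ ((sr 0)⁻¹ * α)) (hγ : isZ ((sr 1)⁻¹ * γ)) (hβ : isZ β) (hδ : isZ δ) : False := by
  have hswap : ∀ y y', n * d.f y * n⁻¹ = d.f y' →
      n * d.f (y.2, y.1) * n⁻¹ = d.f (y'.2, y'.1) := by
    intro y y' h
    rw [← d.sconj y.1 y.2, ← d.sconj y'.1 y'.2, Prod.mk.eta, Prod.mk.eta, ← h]
    have hs' : n * d.s⁻¹ = d.s⁻¹ * n := (show Commute n d.s from hs).inv_right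
    have hs'' : d.s⁻¹ * n⁻¹ = n⁻¹ * d.s⁻¹ :=
      ((show Commute n d.s from hs).inv_right.inv_left).symm
    calc n * (d.s * d.f y * d.s⁻¹) * n⁻¹ = (n * d.s) * d.f y * (d.s⁻¹ * n⁻¹) := by group
      _ = (d.s * n) * d.f y * (n⁻¹ * d.s⁻¹) := by rw [hs, hs'']
      _ = d.s * (n * d.f y * n⁻¹) * d.s⁻¹ := by group
  -- `n` centralises the base modulo its centre
  have key : ∀ y : D8 × D8, ∃ w : D8 × D8, isZ w.1 ∧ isZ w.2 ∧ n * d.f y * n⁻¹ = d.f (y * w) := by
    have hmul : ∀ y y' : D8 × D8,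
        (∃ w : D8 × D8, isZ w.1 ∧ isZ w.2 ∧ n * d.f y * n⁻¹ = d.f (y * w)) →
        (∃ w : D8 × D8, isZ w.1 ∧ isZ w.2 ∧ n * d.f y' * n⁻¹ = d.f (y' * w)) →
        ∃ w : D8 × D8, isZ w.1 ∧ isZ w.2 ∧ n * d.f (y * y') * n⁻¹ = d.f (y * y' * w) := by
      rintro y y' ⟨w, h1, h2, h⟩ ⟨w', h1', h2', h'⟩
      refine ⟨w * w', d8_z_group.2.1 _ _ h1 h1', d8_z_group.2.1 _ _ h2 h2', ?_⟩
      have hwy : y' * w = w * y' := Prod.ext ((d8_z _ h1).2.2 _) ((d8_z _ h2).2.2 _)
      have he : y * y' * (w * w') = y * w * (y' * w') := by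
        simp only [mul_assoc]
        rw [← mul_assoc y' w, hwy, mul_assoc]
      rw [he, map_mul, map_mul _ (y * w), ← h, ← h', conj_mul]
    have hone : ∃ w : D8 × D8, isZ w.1 ∧ isZ w.2 ∧ n * d.f 1 * n⁻¹ = d.f (1 * w) :=
      ⟨1, d8_z_group.1, d8_z_group.1, by simp⟩
    have h10 : ∀ g, ∃ w : D8 × D8, isZ w.1 ∧ isZ w.2 ∧ n * d.f (g, 1) * n⁻¹ = d.f ((g, 1) * w) := by
      refine d8_induction hone ?_ ?_ fun x y hx hy => ?_
      · exact ⟨((sr 0)⁻¹ * α, β), hα, hβ, by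
          rw [ha]; congr 1; exact Prod.ext (mul_inv_cancel_left _ _).symm (one_mul _).symm⟩
      · exact ⟨((sr 1)⁻¹ * γ, δ), hγ, hδ, by
          rw [hb]; congr 1; exact Prod.ext (mul_inv_cancel_left _ _).symm (one_mul _).symm⟩
      · have := hmul _ _ hx hy
        rwa [Prod.mk_mul_mk, mul_one] at this
    intro y
    obtain ⟨w, h1, h2, h⟩ := h10 y.2
    have h01 := hswap _ _ h
    have := hmul (y.1, 1) (1, y.2) (h10 y.1) ⟨(w.2, w.1), h2, h1, h01⟩
    rwa [Prod.mk_mul_mk, mul_one, one_mul] at this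
  -- `n` fixes the centre of the base
  have hfix1 : n * d.f (r 2, 1) * n⁻¹ = d.f (r 2, 1) := by
    have : ((r 2 : D8), (1 : D8)) = ((sr 0, 1) * (sr 1, 1) * (sr 0, 1)⁻¹ * (sr 1, 1)⁻¹) :=
      Prod.ext d8_z_comm.symm (by simp)
    calc n * d.f (r 2, 1) * n⁻¹
        = n * d.f ((sr 0, 1) * (sr 1, 1) * (sr 0, 1)⁻¹ * (sr 1, 1)⁻¹) * n⁻¹ := by rw [← this]
      _ = (n * d.f (sr 0, 1) * n⁻¹) * (n * d.f (sr 1, 1) * n⁻¹) * (n * d.f (sr 0, 1) * n⁻¹)⁻¹ *
          (n * d.f (sr 1, 1) * n⁻¹)⁻¹ := by rw [map_mul, map_mul, map_mul, map_inv, map_inv]; group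
      _ = d.f ((α, β) * (γ, δ) * (α, β)⁻¹ * (γ, δ)⁻¹) := by
        rw [ha, hb, map_mul, map_mul, map_mul, map_inv, map_inv]
      _ = d.f (r 2, 1) := by
        congr 1
        exact Prod.ext (d8_stab_comm α γ hα hγ) (d8_z_comm' β δ hβ hδ)
  have hfix : ∀ w : D8 × D8, isZ w.1 → isZ w.2 → n * d.f w * n⁻¹ = d.f w := by
    intro w h1 h2
    have hfix2 := hswap _ _ hfix1
    rcases (d8_z _ h1).1 with e1 | e1 <;> rcases (d8_z _ h2).1 with e2 | e2 <;>
      rw [show w = (w.1, w.2) from rfl, e1, e2]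
    · rw [show ((1 : D8), (1 : D8)) = 1 from rfl, map_one]; group
    · exact hfix2
    · exact hfix1
    · rw [show ((r 2 : D8), (r 2 : D8)) = (r 2, 1) * (1, r 2) by simp, map_mul, ← conj_mul, hfix1, hfix2]
  obtain ⟨x, hx1, hx2, hx⟩ := base_centralizer d hn2 fun y => by
    obtain ⟨w, h1, h2, h⟩ := key y
    have hww : w * w = 1 := Prod.ext (d8_z _ h1).2.1 (d8_z _ h2).2.1
    apply mul_inv_eq_iff_eq_mul.1
    calc n * n * d.f y * (n * n)⁻¹ = n * (n * d.f y * n⁻¹) * n⁻¹ := by group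
      _ = (n * d.f y * n⁻¹) * (n * d.f w * n⁻¹) := by nth_rewrite 1 [h]; rw [map_mul, conj_mul]
      _ = d.f (y * w * w) := by rw [h, hfix w h1 h2, ← map_mul]
      _ = d.f y := by rw [mul_assoc, hww, mul_one]
  have hnf : ∀ y, ∃ w : D8 × D8, isZ w.1 ∧ isZ w.2 ∧ n * d.f y = d.f (y * w) * n := fun y => by
    obtain ⟨w, h1, h2, h⟩ := key y
    exact ⟨w, h1, h2, mul_inv_eq_iff_eq_mul.1 h⟩
  -- the elementary section of order 32
  let X : Subgroup S :=
    { carrier := {g | ∃ y, g = d.f y ∨ g = d.f y * n}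
      one_mem' := ⟨1, Or.inl (map_one _).symm⟩
      mul_mem' := by
        rintro _ _ ⟨a, rfl | rfl⟩ ⟨b, rfl | rfl⟩
        · exact ⟨a * b, Or.inl (map_mul _ _ _).symm⟩
        · exact ⟨a * b, Or.inr (by rw [map_mul, mul_assoc])⟩
        · obtain ⟨w, -, -, h⟩ := hnf b
          exact ⟨a * (b * w), Or.inr (by rw [mul_assoc, h, ← mul_assoc, ← map_mul])⟩
        · obtain ⟨w, -, -, h⟩ := hnf b
          exact ⟨a * (b * w) * x, Or.inl (by
            rw [mul_assoc, ← mul_assoc n, h, mul_assoc _ n, hx, ← map_mul, ← map_mul]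
            congr 1
            simp [mul_assoc])⟩
      inv_mem' := by
        rintro _ ⟨a, rfl | rfl⟩
        · exact ⟨a⁻¹, Or.inl (map_inv _ _).symm⟩
        · obtain ⟨w, -, -, h⟩ := hnf a⁻¹
          refine ⟨x⁻¹ * (a⁻¹ * w), Or.inr ?_⟩
          rw [map_mul, mul_assoc, ← h, map_inv, map_inv, ← hx]
          group }
  let W : Subgroup S := Subgroup.map d.f
    { carrier := {y | isZ y.1 ∧ isZ y.2}
      one_mem' := ⟨d8_z_group.1, d8_z_group.1⟩
      mul_mem' := fun {a b} h h' => ⟨d8_z_group.2.1 _ _ h.1 h'.1, d8_z_group.2.1 _ _ h.2 h'.2⟩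
      inv_mem' := fun {a} h => ⟨d8_z_inv _ h.1, d8_z_inv _ h.2⟩ }
  have hWX : W ≤ X := by rintro _ ⟨y, -, rfl⟩; exact ⟨y, Or.inl rfl⟩
  have hWc : ∀ y : D8 × D8, ∀ w : D8 × D8, isZ w.1 → isZ w.2 → d.f y * d.f w * (d.f y)⁻¹ = d.f w :=
    fun y w h1 h2 => by
      rw [← map_inv, ← map_mul, ← map_mul]
      congr 1
      rw [show y * w = w * y from Prod.ext ((d8_z _ h1).2.2 _) ((d8_z _ h2).2.2 _), mul_inv_cancel_right]
  have hnorm : ∀ g ∈ X, ∀ v ∈ W, g * v * g⁻¹ ∈ W := by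
    rintro _ ⟨y, rfl | rfl⟩ _ ⟨w, hw, rfl⟩
    · exact ⟨w, hw, (hWc y w hw.1 hw.2).symm⟩
    · exact ⟨w, hw, by
        rw [show d.f y * n * d.f w * (d.f y * n)⁻¹ = d.f y * (n * d.f w * n⁻¹) * (d.f y)⁻¹ by group,
          hfix w hw.1 hw.2, hWc y w hw.1 hw.2]⟩
  have hsq : ∀ g ∈ X, g * g ∈ W := by
    rintro _ ⟨y, rfl | rfl⟩
    · exact ⟨y * y, ⟨d8_sq _, d8_sq _⟩, map_mul _ _ _⟩
    · obtain ⟨w, h1, h2, h⟩ := hnf y
      refine ⟨y * y * w * x, ⟨d8_z_group.2.1 _ _ (d8_z_group.2.1 _ _ (d8_sq _) h1) hx1,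
        d8_z_group.2.1 _ _ (d8_z_group.2.1 _ _ (d8_sq _) h2) hx2⟩, ?_⟩
      rw [mul_assoc (d.f y), ← mul_assoc n, h, mul_assoc _ n, hx, ← map_mul, ← map_mul]
      congr 1
      simp [mul_assoc]
  have h16 := relIndex_le_of_sq_mem hr hnorm hsq
  have hW4 : Nat.card W = 4 := by
    rw [Nat.card_congr (Subgroup.equivMapOfInjective _ d.f d.finj).toEquiv.symm]
    show Nat.card {y : D8 × D8 // isZ y.1 ∧ isZ y.2} = 4
    rw [Nat.card_eq_fintype_card]
    decide
  have hX : 128 ≤ Nat.card X := by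
    let g : (D8 × D8) × Bool → X := fun a =>
      bif a.2 then ⟨d.f a.1 * n, a.1, Or.inr rfl⟩ else ⟨d.f a.1, a.1, Or.inl rfl⟩
    have hne : ∀ a b, d.f a ≠ d.f b * n := fun a b h =>
      hnP (by rw [show n = (d.f b)⁻¹ * d.f a by rw [h, inv_mul_cancel_left]]
              exact mul_mem (inv_mem (d.fmem b)) (d.fmem a))
    have hg : Function.Injective g := by
      rintro ⟨a, _ | _⟩ ⟨b, _ | _⟩ h <;> replace h := congrArg Subtype.val h
      · exact Prod.ext (d.finj h) rfl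
      · exact absurd h (hne a b)
      · exact absurd h.symm (hne b a)
      · exact Prod.ext (d.finj (mul_right_cancel h)) rfl
    refine le_trans (le_of_eq ?_) (Nat.card_le_card_of_injective g hg)
    simp [Nat.card_eq_fintype_card, DihedralGroup.card]
  have hmul := Subgroup.card_mul_index (W.subgroupOf X)
  rw [Nat.card_congr (Subgroup.subgroupOfEquivOfLe hWX).toEquiv, hW4] at hmul
  change 4 * W.relIndex X = Nat.card X at hmul
  omega

theorem stabilizer_sq (hr : Cfsg.SectionalPRankLE 2 4 S) {n : S}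
    (hn : n ∈ Subgroup.normalizer (P : Set S)) (hn2 : n * n ∈ P)
    (hA : (d.vSub true).map (MulAut.conj n).toMonoidHom = d.vSub true) : n ∈ P := by
  by_contra hnP
  have hPN : P ≤ Subgroup.normalizer (P : Set S) := Subgroup.le_normalizer
  have hP := Subgroup.mem_normalizer_iff.1 hn
  obtain ⟨u, hu⟩ := d.exists_swap_conj hn
  have hadj : ∀ p ∈ P, (p * n ∉ P) ∧ (p * n) * (p * n) ∈ P := by
    intro p hp
    refine ⟨fun h => hnP (by simpa using mul_mem (inv_mem hp) h), ?_⟩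
    rw [show p * n * (p * n) = p * (n * p * n⁻¹) * (n * n) by group]
    exact mul_mem (mul_mem hp ((hP p).1 hp)) hn2
  set n₁ := (d.f (u, 1))⁻¹ * n with hn₁
  have hp₁ : (d.f (u, 1))⁻¹ ∈ P := inv_mem (d.fmem _)
  have hn₁N : n₁ ∈ Subgroup.normalizer (P : Set S) := mul_mem (hPN hp₁) hn
  have hs : n₁ * d.s = d.s * n₁ := by
    calc n₁ * d.s = (d.f (u, 1))⁻¹ * (n * d.s * n⁻¹) * n := by rw [hn₁]; group
      _ = d.s * n₁ := by rw [hu, hn₁]; group
  obtain ⟨c, hc⟩ := d.conj_vSub hn₁N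
  have hcf : c = false := by
    have h1 : (d.vSub true).map (MulAut.conj n₁).toMonoidHom ≤ d.vSub true := by
      rintro _ ⟨x, hx, rfl⟩
      have : n * x * n⁻¹ ∈ d.vSub true := hA ▸ ⟨x, hx, rfl⟩
      have h' := d.vSub_normal true _ hp₁ _ this
      show n₁ * x * n₁⁻¹ ∈ d.vSub true
      rw [show n₁ * x * n₁⁻¹ = (d.f (u, 1))⁻¹ * (n * x * n⁻¹) * (d.f (u, 1))⁻¹⁻¹ by rw [hn₁]; group]
      exact h'
    rw [hc] at h1
    by_contra hcf
    rw [Bool.not_eq_false] at hcf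
    subst hcf
    exact d.vSub_ne (Subgroup.eq_of_le_of_card_ge h1 (by rw [d.card_vSub, d.card_vSub])).symm
  subst hcf
  obtain ⟨⟨α, β⟩, hab⟩ := d.range_conj hn₁N (sr 0, 1)
  obtain ⟨⟨γ, δ⟩, hgd⟩ := d.range_conj hn₁N (sr 1, 1)
  have hswap : n₁ * d.f (1, sr 1) * n₁⁻¹ = d.f (δ, γ) := by
    rw [← d.sconj (sr 1) 1, ← d.sconj γ δ, ← hgd]
    have hs'' : d.s⁻¹ * n₁⁻¹ = n₁⁻¹ * d.s⁻¹ :=
      ((show Commute n₁ d.s from hs).inv_right.inv_left).symm
    calc n₁ * (d.s * d.f (sr 1, 1) * d.s⁻¹) * n₁⁻¹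
        = (n₁ * d.s) * d.f (sr 1, 1) * (d.s⁻¹ * n₁⁻¹) := by group
      _ = (d.s * n₁) * d.f (sr 1, 1) * (n₁⁻¹ * d.s⁻¹) := by rw [hs, hs'']
      _ = _ := by group
  have hVa : isV true α ∧ isV true β := by
    rw [← d.mem_vSub (y := (α, β)), ← hab, ← Bool.false_xor true, ← hc]
    exact ⟨_, d.mem_vSub.2 ⟨by decide, by decide⟩, rfl⟩
  have hVb : isV false γ ∧ isV false δ := by
    rw [← d.mem_vSub (y := (γ, δ)), ← hgd, ← Bool.false_xor false, ← hc]
    exact ⟨_, d.mem_vSub.2 ⟨by decide, by decide⟩, rfl⟩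
  have hcomm : (α, β) * (δ, γ) = (δ, γ) * (α, β) := by
    apply d.finj
    rw [map_mul, map_mul, ← hab, ← hswap, conj_mul, conj_mul, ← map_mul, ← map_mul]
    congr 3
  have hinj : ¬ ((α * γ) * (α * γ) = 1 ∧ (β * δ) * (β * δ) = 1) := by
    rintro ⟨h1, h2⟩
    have h3 : d.f ((α, β) * (γ, δ) * ((α, β) * (γ, δ))) = 1 := by
      rw [show ((α, β) * (γ, δ) * ((α, β) * (γ, δ)) : D8 × D8) = 1 from Prod.ext h1 h2, map_one]
    rw [map_mul, map_mul, ← hab, ← hgd, conj_mul, conj_mul, conj_eq_one_iff, ← map_mul, ← map_mul,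
      ← map_one d.f] at h3
    exact absurd (congrArg Prod.fst (d.finj h3)) (by decide)
  rcases d8_images_list α ((d8_vlist α).1 hVa.1) β ((d8_vlist β).1 hVa.2)
      γ ((d8_vlist γ).2 hVb.1) δ ((d8_vlist δ).2 hVb.2)
      (congrArg Prod.fst hcomm) (congrArg Prod.snd hcomm) hinj with ⟨h1, h2, h3, h4⟩ | ⟨h1, h2, h3, h4⟩
  · exact no_fixing d hr (hadj _ hp₁).1 (hadj _ hp₁).2 hs α β γ δ hab hgd h1 h2 h3 h4
  · have hq : d.s * (d.f (u, 1))⁻¹ ∈ P := mul_mem d.smem hp₁
    have hn₂ : d.s * (d.f (u, 1))⁻¹ * n = d.s * n₁ := by rw [hn₁, mul_assoc]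
    have hh := hadj _ hq
    rw [hn₂] at hh
    refine no_fixing d hr hh.1 hh.2 (by rw [mul_assoc, hs]) β α δ γ ?_ ?_ h1 h2 h3 h4
    · rw [← d.sconj α β, ← hab]; group
    · rw [← d.sconj γ δ, ← hgd]; group

theorem stabilizer (h2 : IsPGroup 2 S) (hr : Cfsg.SectionalPRankLE 2 4 S) {n : S}
    (hn : n ∈ Subgroup.normalizer (P : Set S))
    (hA : (d.vSub true).map (MulAut.conj n).toMonoidHom = d.vSub true) : n ∈ P := by
  by_contra hnP
  obtain ⟨k, hk⟩ := h2 n
  have hex : ∃ m, n ^ 2 ^ m ∈ P := ⟨k, by rw [hk]; exact one_mem _⟩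
  classical
  obtain ⟨m, hm⟩ : ∃ m, Nat.find hex = m + 1 := Nat.exists_eq_succ_of_ne_zero (fun h0 =>
    hnP (by simpa [h0] using Nat.find_spec hex))
  refine Nat.find_min hex (by omega : m < Nat.find hex) (stabilizer_sq d hr (pow_mem hn _) ?_ ?_)
  · rw [← pow_add, ← mul_two, ← pow_succ, ← hm]
    exact Nat.find_spec hex
  · have hA' : n ∈ Subgroup.normalizer ((d.vSub true : Subgroup S) : Set S) := by
      rw [Subgroup.mem_normalizer_iff]
      intro h
      constructor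
      · exact fun hh => hA ▸ ⟨h, hh, rfl⟩
      · intro hh
        rw [← hA] at hh
        obtain ⟨x, hx, hxe⟩ := hh
        rwa [← (MulAut.conj n).injective hxe]
    have hA'' := Subgroup.mem_normalizer_iff.1 (pow_mem hA' (2 ^ m))
    ext h
    constructor
    · rintro ⟨x, hx, rfl⟩
      exact (hA'' x).1 hx
    · intro hh
      refine ⟨(n ^ 2 ^ m)⁻¹ * h * n ^ 2 ^ m, (hA'' _).2 ?_, ?_⟩
      · simpa [mul_assoc] using hh
      · show n ^ 2 ^ m * ((n ^ 2 ^ m)⁻¹ * h * n ^ 2 ^ m) * (n ^ 2 ^ m)⁻¹ = h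
        group

/-- Let S be a finite 2-group of sectional 2-rank at most 4 and P a proper subgroup isomorphic to the wreath product of the dihedral group of order 8 by a group of order 2 (equivalently, to a Sylow 2-subgroup of the symmetric group of degree 8; order 128). Then Z(S) = Z(P) has order 2, P has index 2 in its normalizer N_S(P), N_S(P)/Z(S) is again isomorphic to that wreath product, and every elementary abelian subgroup V of order 16 that is normal in P satisfies N_S(V) = P. -/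
theorem result {S : Type*} [Group S] [Finite S] (h2 : IsPGroup 2 S) (hr : Cfsg.SectionalPRankLE 2 4 S)
    (P : Subgroup S) (hPlt : P ≠ ⊤) (hP : ∃ T : Sylow 2 (Equiv.Perm (Fin 8)), Nonempty (↥P ≃* ↥(T : Subgroup (Equiv.Perm (Fin 8))))) :
    Subgroup.center S = (Subgroup.center ↥P).map P.subtype ∧ Nat.card ↥(Subgroup.center S) = 2 ∧
    P.relIndex (Subgroup.normalizer (P : Set S)) = 2 ∧
    (∃ (_ : ((Subgroup.center S).subgroupOf (Subgroup.normalizer (P : Set S))).Normal) (T : Sylow 2 (Equiv.Perm (Fin 8))),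
      Nonempty (↥(Subgroup.normalizer (P : Set S)) ⧸ (Subgroup.center S).subgroupOf (Subgroup.normalizer (P : Set S)) ≃*
        ↥(T : Subgroup (Equiv.Perm (Fin 8))))) ∧
    ∀ V : Subgroup S, V ≤ P → (∀ g ∈ P, ∀ v ∈ V, g * v * g⁻¹ ∈ V) → Cfsg.IsElementaryAbelian 2 V → Nat.card ↥V = 16 →
      Subgroup.normalizer (V : Set S) = P := by
  have : Fact (Nat.Prime 2) := ⟨Nat.prime_two⟩
  obtain ⟨T, ⟨e⟩⟩ := hP
  obtain ⟨d⟩ := nonempty_wData P T e
  set M := Subgroup.normalizer (P : Set S) with hMdef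
  have hPM : P ≤ M := Subgroup.le_normalizer
  have hnil := h2.isNilpotent
  obtain ⟨n₀, hn₀M, hn₀P⟩ := SetLike.exists_of_lt
    (Group.normalizerCondition_of_isNilpotent P (lt_top_iff_ne_top.2 hPlt))
  -- `N_S(Vᵢ) = P`
  have hNV : ∀ b : Bool, Subgroup.normalizer ((d.vSub b : Subgroup S) : Set S) = P := by
    intro b
    have hPH : P ≤ Subgroup.normalizer ((d.vSub b : Subgroup S) : Set S) := by
      intro g hg
      rw [Subgroup.mem_normalizer_iff]
      intro h
      refine ⟨fun hh => d.vSub_normal b g hg h hh, fun hh => ?_⟩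
      have := d.vSub_normal b g⁻¹ (inv_mem hg) _ hh
      simpa [mul_assoc] using this
    refine le_antisymm ?_ hPH
    by_contra hnle
    set H := Subgroup.normalizer ((d.vSub b : Subgroup S) : Set S)
    have hne : P.subgroupOf H ≠ ⊤ := fun h => hnle (Subgroup.subgroupOf_eq_top.1 h)
    have := (h2.to_subgroup H).isNilpotent
    obtain ⟨⟨n, hnH⟩, hnN, hnP⟩ := SetLike.exists_of_lt
      (Group.normalizerCondition_of_isNilpotent (P.subgroupOf H) (lt_top_iff_ne_top.2 hne))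
    have hnN' := Subgroup.mem_normalizer_iff.1 hnN
    have hnM : n ∈ Subgroup.normalizer (P : Set S) := by
      rw [Subgroup.mem_normalizer_iff]
      intro h
      constructor
      · intro hh; exact (hnN' ⟨h, hPH hh⟩).1 hh
      · intro hh
        have hhH : h ∈ H := by
          have h' := mul_mem (mul_mem (inv_mem hnH) (hPH hh)) hnH
          rwa [show n⁻¹ * (n * h * n⁻¹) * n = h by group] at h'
        exact (hnN' ⟨h, hhH⟩).2 hh
    obtain ⟨c, hc⟩ := d.conj_vSub hnM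
    have hH' := Subgroup.mem_normalizer_iff.1 hnH
    have hfixb : (d.vSub b).map (MulAut.conj n).toMonoidHom = d.vSub b := by
      refine Subgroup.eq_of_le_of_card_ge ?_ (le_of_eq ?_)
      · rintro _ ⟨x, hx, rfl⟩; exact (hH' x).1 hx
      · exact Nat.card_congr (Subgroup.equivMapOfInjective _ _ (MulAut.conj n).injective).toEquiv
    rw [hc] at hfixb
    have hcf : c = false := by
      rcases c with _ | _
      · rfl
      · cases b
        · exact absurd hfixb d.vSub_ne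
        · exact absurd hfixb d.vSub_ne.symm
    subst hcf
    exact hnP (show n ∈ P from stabilizer d h2 hr hnM (by rw [hc, Bool.false_xor]))
  have hz : ∀ x, x ∈ (Subgroup.center P).map P.subtype → x = 1 ∨ x = d.f (r 2, r 2) := by
    rintro _ ⟨⟨x, hxP⟩, hx, rfl⟩
    have hxc : ∀ y ∈ P, y * x = x * y := fun y hy =>
      congrArg Subtype.val (Subgroup.mem_center_iff.1 hx ⟨y, hy⟩)
    obtain ⟨w, h1, h2', rfl⟩ := base_centralizer d hxP (fun y => (hxc _ (d.fmem y)).symm)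
    have he := commute_swap d (hxc d.s d.smem)
    rcases (d8_z _ h1).1 with e1 | e1
    · exact Or.inl (by show d.f w = 1; rw [show w = 1 from Prod.ext e1 (he ▸ e1), map_one])
    · exact Or.inr (by show d.f w = d.f (r 2, r 2); rw [show w = (r 2, r 2) from Prod.ext e1 (he ▸ e1)])
  have hzne : d.f (r 2, r 2) ≠ 1 := fun h => by
    rw [← map_one d.f] at h
    exact absurd (congrArg Prod.fst (d.finj h)) (by decide)
  have hzmem : d.f (r 2, r 2) ∈ (Subgroup.center P).map P.subtype := by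
    refine ⟨⟨_, d.fmem (r 2, r 2)⟩, Subgroup.mem_center_iff.2 ?_, rfl⟩
    rintro ⟨g, hg⟩
    apply Subtype.ext
    show g * d.f (r 2, r 2) = d.f (r 2, r 2) * g
    have hrc : ∀ h : D8, h * r 2 = r 2 * h := (d8_z _ d8_z_group.2.2).2.2
    obtain ⟨y, rfl | rfl⟩ := d.cover g hg
    · rw [← map_mul, ← map_mul, show y * (r 2, r 2) = (r 2, r 2) * y from Prod.ext (hrc _) (hrc _)]
    · rw [mul_assoc, d.sf, ← mul_assoc, ← mul_assoc, ← map_mul, ← map_mul,
        show y * (r 2, r 2) = (r 2, r 2) * y from Prod.ext (hrc _) (hrc _)]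
  have hle : Subgroup.center S ≤ (Subgroup.center P).map P.subtype := by
    intro x hx
    have hxP : x ∈ P := by
      rw [← hNV true, Subgroup.mem_normalizer_iff]
      intro h
      rw [show x * h * x⁻¹ = h by rw [← Subgroup.mem_center_iff.1 hx h]; group]
    exact ⟨⟨x, hxP⟩, Subgroup.mem_center_iff.2 fun y => Subtype.ext (Subgroup.mem_center_iff.1 hx y), rfl⟩
  have hntS : Nontrivial S := by
    by_contra h
    rw [not_nontrivial_iff_subsingleton] at h
    exact hPlt (Subsingleton.elim _ _)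
  have hcne := h2.center_nontrivial
  obtain ⟨⟨x₀, hx₀⟩, hx₀1⟩ := exists_ne (1 : Subgroup.center S)
  have hx₀z : x₀ = d.f (r 2, r 2) :=
    (hz _ (hle hx₀)).resolve_left fun h => hx₀1 (Subtype.ext h)
  have hceq : Subgroup.center S = (Subgroup.center P).map P.subtype :=
    le_antisymm hle fun x hx => by
      rcases hz x hx with rfl | rfl
      · exact one_mem _
      · exact hx₀z ▸ hx₀
  have hcard2 : Nat.card (Subgroup.center S) = 2 := by
    rw [Nat.card_eq_two_iff' (1 : Subgroup.center S)]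
    refine ⟨⟨x₀, hx₀⟩, hx₀1, ?_⟩
    rintro ⟨y, hy⟩ hy1
    exact Subtype.ext (((hz y (hle hy)).resolve_left fun h => hy1 (Subtype.ext h)).trans hx₀z.symm)
  -- index two
  have hswitch : ∀ n ∈ M, n ∉ P → (d.vSub true).map (MulAut.conj n).toMonoidHom = d.vSub false := by
    intro n hn hnP
    obtain ⟨c, hc⟩ := d.conj_vSub hn
    cases c
    · exact absurd (stabilizer d h2 hr hn (by rw [hc, Bool.false_xor])) hnP
    · exact hc true
  have hidx : P.relIndex M = 2 := by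
    rw [Subgroup.relIndex, Subgroup.index_eq_two_iff]
    refine ⟨⟨n₀, hn₀M⟩, fun b => ?_⟩
    simp only [Subgroup.mem_subgroupOf, Subgroup.coe_mul]
    by_cases hb : (b : S) ∈ P
    · refine Or.inr ⟨hb, fun h => hn₀P ?_⟩
      simpa using mul_mem (inv_mem hb) h
    · refine Or.inl ⟨?_, hb⟩
      obtain ⟨c, hc⟩ := d.conj_vSub (mul_mem b.2 hn₀M)
      refine stabilizer d h2 hr (mul_mem b.2 hn₀M) ?_
      have h1 := hswitch n₀ hn₀M hn₀P
      obtain ⟨cb, hcb⟩ := d.conj_vSub b.2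
      have hcb' : cb = true := by
        cases cb
        · exact absurd (stabilizer d h2 hr b.2 (by rw [hcb, Bool.false_xor])) hb
        · rfl
      subst hcb'
      rw [map_mul, show (MulAut.conj (b : S) * MulAut.conj n₀).toMonoidHom =
        (MulAut.conj (b : S)).toMonoidHom.comp (MulAut.conj n₀).toMonoidHom from rfl,
        ← Subgroup.map_map, h1, hcb]
      rfl
  have hnormal : ((Subgroup.center S).subgroupOf M).Normal :=
    ⟨fun x hx g => by
      rw [Subgroup.mem_subgroupOf] at hx ⊢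
      exact (inferInstance : (Subgroup.center S).Normal).conj_mem _ hx _⟩
  refine ⟨hceq, hcard2, hidx, ⟨hnormal, ?_⟩, fun V hVP hVn hVe hV16 => ?_⟩
  swap
  · obtain ⟨b, rfl⟩ := d.eq_vSub V hVP hVn hVe hV16
    exact hNV b
  -- the permutation action on the conjugates of the swap
  set L := (Subgroup.centralizer ({d.s} : Set S)).subgroupOf M with hLdef
  have hLmem : ∀ m : M, m ∈ L ↔ d.s * (m : S) = m * d.s := fun m => by
    rw [hLdef, Subgroup.mem_subgroupOf, Subgroup.mem_centralizer_iff]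
    simp
  let ι : D8 → M ⧸ L := fun u => QuotientGroup.mk ⟨d.f (u, 1), hPM (d.fmem _)⟩
  have hι : Function.Bijective ι := by
    constructor
    · intro u v h
      have h1 := (hLmem _).1 (QuotientGroup.eq.1 h)
      simp only [Subgroup.coe_mul, Subgroup.coe_inv, ← map_inv, ← map_mul] at h1
      exact inv_mul_eq_one.1 (commute_swap d h1)
    · intro q
      induction q using QuotientGroup.induction_on with
      | H m =>
        obtain ⟨u, hu⟩ := d.exists_swap_conj m.2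
        refine ⟨u, QuotientGroup.eq.2 ((hLmem _).2 ?_)⟩
        simp only [Subgroup.coe_mul, Subgroup.coe_inv]
        calc d.s * ((d.f (u, 1))⁻¹ * (m : S))
            = (d.f (u, 1))⁻¹ * (d.f (u, 1) * d.s * (d.f (u, 1))⁻¹) * m := by group
          _ = (d.f (u, 1))⁻¹ * m * d.s := by rw [← hu]; group
  have h8 : Nat.card (M ⧸ L) = 8 := by
    rw [← Nat.card_eq_of_bijective ι hι, Nat.card_eq_fintype_card, DihedralGroup.card]
  let ε : M ⧸ L ≃ Fin 8 := (Finite.equivFin (M ⧸ L)).trans (finCongr h8)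
  let ψ : M →* Equiv.Perm (Fin 8) :=
    (ε.permCongrHom : Equiv.Perm (M ⧸ L) →* Equiv.Perm (Fin 8)).comp (MulAction.toPermHom M (M ⧸ L))
  have hker : ψ.ker = (Subgroup.center S).subgroupOf M := by
    rw [show ψ.ker = (MulAction.toPermHom M (M ⧸ L)).ker from
      SetLike.ext fun m => map_eq_one_iff _ ε.permCongrHom.injective, ← Subgroup.normalCore_eq_ker]
    refine le_antisymm (fun k hk => ?_) (fun k hk => ?_)
    swap
    · intro b
      rw [Subgroup.mem_subgroupOf] at hk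
      rw [hLmem]
      have h3 := Subgroup.mem_center_iff.1 hk
      have h4 : ((b * k * b⁻¹ : M) : S) = (k : S) := by
        simp only [Subgroup.coe_mul, Subgroup.coe_inv]
        rw [h3 (b : S)]; group
      rw [h4]
      exact h3 d.s
    have hk' : ∀ m ∈ M, d.s * (m * (k : S) * m⁻¹) = (m * (k : S) * m⁻¹) * d.s := fun m hm =>
      (hLmem _).1 (hk ⟨m, hm⟩)
    -- elements of the base in the core
    have hbase : ∀ p : D8 × D8, (∀ m ∈ M, d.s * (m * d.f p * m⁻¹) = (m * d.f p * m⁻¹) * d.s) →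
        p.1 = p.2 ∧ isZ p.1 := by
      intro p hp
      have h1 : ∀ g, g * p.1 * g⁻¹ = p.2 := fun g => by
        have h' := hp _ (hPM (d.fmem (g, 1)))
        rw [← map_inv, ← map_mul, ← map_mul] at h'
        simpa using commute_swap d h'
      have he : p.1 = p.2 := by simpa using h1 1
      refine ⟨he, ?_⟩
      rcases d8_center p.1 (fun g => mul_inv_eq_iff_eq_mul.1 ((h1 g).trans he.symm)) with h | h <;>
        rw [h] <;> decide
    obtain ⟨y', hy'⟩ := d.range_conj k.2 (sr 0, 1)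
    have hp := hbase (y' * (sr 0, 1)⁻¹) (fun m hm => by
      have hinv : ∀ a : S, d.s * a = a * d.s → d.s * a⁻¹ = a⁻¹ * d.s := fun a ha =>
        (show Commute d.s a from ha).inv_right
      rw [show m * d.f (y' * (sr 0, 1)⁻¹) * m⁻¹ = (m * (k : S) * m⁻¹) *
        ((m * d.f (sr 0, 1)) * (k : S) * (m * d.f (sr 0, 1))⁻¹)⁻¹ by
          rw [map_mul, ← hy', map_inv]; group]
      exact Commute.mul_right (hk' m hm) (hinv _ (hk' _ (mul_mem hm (hPM (d.fmem _))))))
    have hne0 := d8_noncentral _ hp.2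
    simp only [Prod.fst_mul, Prod.fst_inv, inv_mul_cancel_right] at hne0
    have hkP : (k : S) ∈ P := by
      obtain ⟨c, hc⟩ := d.conj_vSub k.2
      cases c
      · exact stabilizer d h2 hr k.2 (by rw [hc, Bool.false_xor])
      · exfalso
        have hmem : d.f y' ∈ d.vSub false :=
          hy' ▸ (hc true ▸ ⟨_, d.mem_vSub.2 ⟨by decide, by decide⟩, rfl⟩)
        exact absurd (d.mem_vSub.1 hmem).1 (by rw [hne0.1]; decide)
    obtain ⟨y, hy | hy⟩ := d.cover _ hkP
    · have := hbase y (fun m hm => hy ▸ hk' m hm)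
      rw [Subgroup.mem_subgroupOf, hceq, hy]
      rcases (d8_z _ this.2).1 with e1 | e1
      · rw [show y = 1 from Prod.ext e1 (this.1 ▸ e1), map_one]; exact one_mem _
      · rw [show y = (r 2, r 2) from Prod.ext e1 (this.1 ▸ e1)]; exact hzmem
    · exfalso
      apply hne0.2
      rw [hy, mul_assoc (d.f y), d.sf, ← mul_assoc, ← map_mul] at hy'
      rw [show d.f (y * (1, sr 0)) * d.s * (d.f y * d.s)⁻¹ = d.f (y * (1, sr 0) * y⁻¹) by
        rw [map_mul _ _ y⁻¹, map_inv]; group] at hy'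
      rw [← d.finj hy']
      simp
  have hcardM : Nat.card M = 256 := by
    have h := Subgroup.card_mul_index (P.subgroupOf M)
    rw [Nat.card_congr (Subgroup.subgroupOfEquivOfLe hPM).toEquiv, card_P d] at h
    change 128 * P.relIndex M = _ at h
    rw [hidx] at h
    omega
  have hcardZ : Nat.card ((Subgroup.center S).subgroupOf M) = 2 := by
    rw [Nat.card_congr (Subgroup.subgroupOfEquivOfLe ?_).toEquiv, hcard2]
    intro x hx
    obtain ⟨y, -, rfl⟩ := hle hx
    exact hPM y.2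
  have hrange : Nat.card ψ.range = 128 := by
    have h := Subgroup.card_mul_index ψ.ker
    rw [Subgroup.index_ker, hker, hcardZ, hcardM] at h
    omega
  have hp : IsPGroup 2 ψ.range := IsPGroup.of_card (n := 7) (by rw [hrange]; norm_num)
  obtain ⟨T', hT'⟩ := hp.exists_le_sylow
  have hTeq : ψ.range = (T' : Subgroup (Equiv.Perm (Fin 8))) :=
    Subgroup.eq_of_le_of_card_ge hT' (by rw [hrange, card_eq_of_sylow_eight])
  exact ⟨T', ⟨((QuotientGroup.quotientMulEquivOfEq hker.symm).trans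
    (QuotientGroup.quotientKerEquivRange ψ)).trans (MulEquiv.subgroupCongr hTeq)⟩⟩

end Cfsg.Agent.S4402
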