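import Cfsg.Statements.S4403
import Cfsg.Agent.S3985
import Cfsg.Agent.Lib.Components.GenFitting
import Cfsg.Agent.Lib.Transfer.AbelianSylow
import Cfsg.Agent.Lib.Transfer.PResidual
import Cfsg.Agent.Lib.Solvable.Core

set_option autoImplicit false
open Cfsg

namespace Cfsg.Agent.S4403

/-- Let K be a finite group, p a prime dividing its order with O_{p'}(K) = 1 (no nontrivial normal subgroup of order prime to p), and P a cyclic Sylow p-subgroup of K. Then either P is normal and self-centralizing in K with K/P cyclic of order dividing p − 1 (so K is the semidirect product of P by a group of automorphisms of P of order dividing p − 1), or the generalized Fitting subgroup F*(K) is a non-abelian simple group and p does not divide the index of F*(K) in K. -/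
theorem result {K : Type*} [Group K] [Finite K] (p : ℕ) [Fact p.Prime] (hp : p ∣ Nat.card K) (hO : Cfsg.pPrimeCore p K = ⊥)
    (P : Sylow p K) (hP : IsCyclic ↥(P : Subgroup K)) :
    ((P : Subgroup K).Normal ∧ Subgroup.centralizer ((P : Subgroup K) : Set K) = (P : Subgroup K) ∧
      (∀ (_ : (P : Subgroup K).Normal), IsCyclic (K ⧸ (P : Subgroup K))) ∧ (P : Subgroup K).index ∣ p - 1) ∨
    (IsSimpleGroup ↥(Cfsg.generalizedFittingSubgroup K) ∧ ¬ IsMulCommutative ↥(Cfsg.generalizedFittingSubgroup K) ∧
      ¬ p ∣ (Cfsg.generalizedFittingSubgroup K).index) := by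
  classical
  have hp' := (inferInstance : Fact p.Prime)
  have hPne : (P : Subgroup K) ≠ ⊥ := P.ne_bot_of_dvd_card hp
  have hPc : IsMulCommutative (P : Subgroup K) := hP.isMulCommutative
  -- elements of order `p` of a conjugate of `P` generate the same subgroup
  have huniq : ∀ Q : Sylow p K, ∀ x ∈ (Q : Subgroup K), ∀ y ∈ (Q : Subgroup K),
      orderOf x = p → orderOf y = p → y ∈ Subgroup.zpowers x := by
    intro Q x hx y hy hxo hyo
    haveI : IsCyclic (Q : Subgroup K) := (P.equiv Q).isCyclic.1 hP
    haveI : Fintype (Q : Subgroup K) := Fintype.ofFinite _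
    set x' : (Q : Subgroup K) := ⟨x, hx⟩
    set y' : (Q : Subgroup K) := ⟨y, hy⟩
    have hxo' : orderOf x' = p := by rw [Subgroup.orderOf_mk]; exact hxo
    have hroots := IsCyclic.card_pow_eq_one_le (α := (Q : Subgroup K)) hp'.out.pos
    have hsub : ((Subgroup.zpowers x' : Set (Q : Subgroup K))).toFinset ⊆
        Finset.univ.filter (fun a : (Q : Subgroup K) => a ^ p = 1) := by
      intro a ha
      rw [Set.mem_toFinset] at ha
      rw [Finset.mem_filter]
      refine ⟨Finset.mem_univ _, ?_⟩
      obtain ⟨i, rfl⟩ := ha
      show (x' ^ i) ^ p = 1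
      rw [← zpow_natCast, ← zpow_mul, mul_comm, zpow_mul, zpow_natCast, orderOf_dvd_iff_pow_eq_one.1 hxo'.dvd, one_zpow]
    have heq := Finset.eq_of_subset_of_card_le hsub (by
      refine hroots.trans ?_
      rw [Set.toFinset_card, ← Nat.card_eq_fintype_card]
      exact le_of_eq ((Nat.card_zpowers x').trans hxo').symm)
    have hy' : y' ∈ Finset.univ.filter (fun a : (Q : Subgroup K) => a ^ p = 1) := by
      rw [Finset.mem_filter]
      exact ⟨Finset.mem_univ _, Subtype.ext (by
        show y ^ p = 1
        rw [← hyo, pow_orderOf_eq_one])⟩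
    rw [← heq, Set.mem_toFinset] at hy'
    obtain ⟨i, hi⟩ := hy'
    exact ⟨i, congrArg Subtype.val hi⟩
  by_cases hOp : Cfsg.pCore p K = ⊥
  swap
  · -- the subgroup of order `p` of `P` is normal
    left
    obtain ⟨z, hzo⟩ := exists_prime_orderOf_dvd_card' (G := Cfsg.pCore p K) p (by
      exact ((CfsgLib.Solvable.pCore_isPGroup p K).card_eq_or_dvd).resolve_left
        fun h => hOp (Subgroup.card_eq_one.1 h))
    have hzP : ∀ Q : Sylow p K, (z : K) ∈ (Q : Subgroup K) := fun Q =>
      CfsgLib.Solvable.pCore_le_sylow Q z.2
    have hzo' : orderOf (z : K) = p := by rw [Subgroup.orderOf_coe]; exact hzo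
    have hz1 : (z : K) ≠ 1 := fun h => by
      rw [h, orderOf_one] at hzo'; exact hp'.out.ne_one hzo'.symm
    haveI := CfsgLib.Solvable.pCore_normal p K
    set Z := Subgroup.zpowers (z : K) with hZ
    haveI hZn : Z.Normal := ⟨fun w hw g => by
      obtain ⟨i, rfl⟩ := hw
      show g * (z : K) ^ i * g⁻¹ ∈ Z
      rw [← conj_zpow]
      refine Subgroup.zpow_mem _ (huniq P _ (hzP P) _ ?_ hzo' ?_) i
      · exact CfsgLib.Solvable.pCore_le_sylow P ((inferInstance : (Cfsg.pCore p K).Normal).conj_mem _ z.2 g)
      · rw [← MulAut.conj_apply, MulEquiv.orderOf_eq]; exact hzo'⟩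
    set C := Subgroup.centralizer (Z : Set K) with hC
    haveI hCn : C.Normal := by rw [hC]; infer_instance
    have hPC : (P : Subgroup K) ≤ C := by
      rw [hC, Subgroup.le_centralizer_iff]
      exact le_trans (Subgroup.zpowers_le.2 (hzP P)) (Subgroup.le_centralizer _)
    -- Burnside's transfer in `C`
    obtain ⟨M, hM, hMc⟩ : ∃ M : Subgroup C, M.Normal ∧
        M.IsComplement' ((P.subtype hPC : Sylow p C) : Subgroup C) := by
      refine ⟨_, inferInstance, MonoidHom.ker_transferSylow_isComplement' (P.subtype hPC) fun n hn => ?_⟩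
      have hnK : (n : K) ∈ Subgroup.normalizer ((P : Subgroup K) : Set K) := by
        replace hn := Subgroup.mem_set_normalizer_iff.1 hn
        refine Subgroup.mem_set_normalizer_iff.2 fun x => ?_
        constructor
        · intro hx
          exact (hn ⟨x, hPC hx⟩).1 hx
        · intro hx
          have h1 : (n : K)⁻¹ * ((n : K) * x * (n : K)⁻¹) * (n : K) ∈ C :=
            C.mul_mem (C.mul_mem (C.inv_mem n.2) (hPC hx)) n.2
          have h2 : x ∈ C := by simpa [mul_assoc] using h1
          exact (hn ⟨x, h2⟩).2 hx
      have hcen := Cfsg.Agent.S3985.centralizes_of_fixes P hP (hzP P) hz1 hnK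
        ((Subgroup.mem_centralizer_iff.1 n.2 _ (Subgroup.mem_zpowers (z : K))).symm)
      rw [Subgroup.mem_centralizer_iff]
      intro x hx
      exact Subtype.ext (Subgroup.mem_centralizer_iff.1 hcen _ hx)
    have hMcop : (Nat.card M).Coprime p := by
      rw [← hMc.index_eq_card, Nat.coprime_comm]
      exact (hp'.out.coprime_iff_not_dvd).2 (P.subtype hPC).not_dvd_index
    have hMbot : M = ⊥ := by
      haveI := hM
      refine le_bot_iff.1 ((CfsgLib.Solvable.le_pPrimeCore hM hMcop).trans (le_of_eq ?_))
      apply Subgroup.map_injective C.subtype_injective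
      rw [CfsgLib.Solvable.map_subtype_pPrimeCore_eq, hO, bot_inf_eq, Subgroup.map_bot]
    have hCP : C = (P : Subgroup K) := by
      refine le_antisymm (fun x hx => ?_) hPC
      have h1 : (⟨x, hx⟩ : C) ∈ ((P.subtype hPC : Sylow p C) : Subgroup C) := by
        have h := hMc.sup_eq_top
        rw [hMbot, bot_sup_eq] at h
        rw [h]; exact Subgroup.mem_top _
      exact h1
    refine ⟨hCP ▸ hCn, ?_, fun _ => ?_, ?_⟩
    · refine le_antisymm ?_ (Subgroup.le_centralizer _)
      rw [← hCP]
      exact Subgroup.centralizer_le (hCP.symm ▸ (Subgroup.zpowers_le.2 (hzP P)))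
    all_goals
      have hcardZ : Nat.card Z = p := by rw [hZ, Nat.card_zpowers, hzo']
      haveI : IsCyclic Z := inferInstance
      let f : K →* MulAut Z := MulAut.conjNormal
      have hker : f.ker = (P : Subgroup K) := by
        rw [← hCP, hC]
        ext g
        rw [MonoidHom.mem_ker, Subgroup.mem_centralizer_iff]
        constructor
        · intro h w hw
          have h1 : g * w * g⁻¹ = w := congrArg Subtype.val (DFunLike.congr_fun h (⟨w, hw⟩ : Z))
          exact (mul_inv_eq_iff_eq_mul.1 h1).symm
        · intro h
          refine MulEquiv.ext fun w => Subtype.ext ?_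
          show g * (w : K) * g⁻¹ = w
          rw [← h w.1 w.2, mul_inv_cancel_right]
    · haveI : (P : Subgroup K).Normal := hCP ▸ hCn
      have e : K ⧸ (P : Subgroup K) ≃* f.range :=
        (QuotientGroup.quotientMulEquivOfEq hker.symm).trans (QuotientGroup.quotientKerEquivRange f)
      haveI : Fact (Nat.card Z).Prime := ⟨hcardZ ▸ hp'.out⟩
      haveI : IsCyclic (MulAut Z) := (IsCyclic.mulAutMulEquiv Z).isCyclic.2 (by
        rw [hcardZ]; exact ZMod.isCyclic_units_prime hp'.out)
      exact e.isCyclic.2 inferInstance
    · rw [← hker, Subgroup.index_ker]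
      refine (Subgroup.card_subgroup_dvd_card f.range).trans ?_
      rw [IsCyclic.card_mulAut, hcardZ, Nat.totient_prime hp'.out]
  · right
    have hF : Cfsg.fittingSubgroup K = ⊥ := by
      refine le_bot_iff.1 (CfsgLib.Components.fitting_le_of_pCore_le fun q hq => ?_)
      haveI := Fact.mk hq
      by_cases hqp : q = p
      · rw [hqp, hOp]
      · rw [← hO]
        refine CfsgLib.Components.le_pPrimeCore_of_normal (CfsgLib.Solvable.pCore_normal q K) ?_
        obtain ⟨i, hi⟩ := IsPGroup.iff_card.1 (CfsgLib.Solvable.pCore_isPGroup q K)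
        rw [hi]
        exact Nat.Coprime.pow_left i ((Nat.coprime_primes hq hp'.out).2 hqp)
    haveI : Nontrivial K := by
      by_contra h
      rw [not_nontrivial_iff_subsingleton] at h
      exact hPne (Subsingleton.elim _ _)
    have hFE : Cfsg.generalizedFittingSubgroup K = Cfsg.layer K := by
      rw [Cfsg.generalizedFittingSubgroup, hF, sup_bot_eq]
    obtain ⟨L, hL⟩ : ∃ L : Subgroup K, Cfsg.IsComponent L := by
      by_contra h
      push Not at h
      exact CfsgLib.Components.genFitting_ne_bot (G := K)
        (hFE.trans (CfsgLib.Components.layer_eq_bot_iff.2 h))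
    -- components are simple of order divisible by `p`
    have hZ : ∀ M : Subgroup K, Cfsg.IsComponent M → (Subgroup.center M).map M.subtype = ⊥ := by
      intro M hM
      refine le_bot_iff.1 (le_trans (CfsgLib.Components.le_fitting_of_isSubnormal ?_ ?_) hF.le)
      · exact (Subgroup.Normal.isSubnormal inferInstance).trans' hM.1
      · haveI : Group.IsNilpotent (Subgroup.center M) :=
          letI : CommGroup (Subgroup.center M) :=
            { (inferInstance : Group (Subgroup.center M)) with
              mul_comm := fun a b => Subtype.ext (Subgroup.mem_center_iff.1 b.2 a) }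
          CommGroup.isNilpotent
        exact Group.nilpotent_of_mulEquiv
          ((Subgroup.center M).equivMapOfInjective M.subtype M.subtype_injective)
    have hpM : ∀ M : Subgroup K, Cfsg.IsComponent M → p ∣ Nat.card M := by
      intro M hM
      by_contra h
      refine CfsgLib.Components.component_ne_bot hM (le_bot_iff.1 (le_trans ?_ hO.le))
      exact CfsgLib.Components.le_pPrimeCore_of_isSubnormal hM.1 ((hp'.out.coprime_iff_not_dvd).2 h).symm
    have huniqL : ∀ M : Subgroup K, Cfsg.IsComponent M → M = L := by
      intro M hM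
      by_contra hne
      obtain ⟨a, ha⟩ := exists_prime_orderOf_dvd_card' (G := M) p (hpM M hM)
      obtain ⟨b, hb⟩ := exists_prime_orderOf_dvd_card' (G := L) p (hpM L hL)
      rw [← Subgroup.orderOf_coe] at ha hb
      have hcomm : M ≤ Subgroup.centralizer (L : Set K) :=
        CfsgLib.Components.le_centralizer_of_commutator_eq_bot
          (CfsgLib.Components.component_commutator_of_ne hM hL hne)
      have hab : Commute (a : K) b := (Subgroup.mem_centralizer_iff.1 (hcomm a.2) b b.2).symm
      have hpg : ∀ w : K, orderOf w = p → IsPGroup p (Subgroup.zpowers w) := fun w hw =>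
        IsPGroup.of_card (n := 1) (by rw [Nat.card_zpowers, hw, pow_one])
      have hsup : IsPGroup p ↥(Subgroup.zpowers (a : K) ⊔ Subgroup.zpowers (b : K)) := by
        refine (hpg _ ha).to_sup_of_normal_right' (hpg _ hb) (le_trans ?_ (Subgroup.centralizer_le_normalizer _))
        rw [Subgroup.zpowers_le, Subgroup.mem_centralizer_iff]
        rintro w ⟨i, rfl⟩
        exact (hab.zpow_right i).eq.symm
      obtain ⟨Q, hQ⟩ := hsup.exists_le_sylow
      obtain ⟨i, hi⟩ := huniq Q b (hQ (Subgroup.mem_sup_right (Subgroup.mem_zpowers _))) a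
        (hQ (Subgroup.mem_sup_left (Subgroup.mem_zpowers _))) hb ha
      have haL : (a : K) ∈ L := hi ▸ Subgroup.zpow_mem _ b.2 i
      have hcen : (a : K) ∈ (Subgroup.center L).map L.subtype := by
        refine ⟨⟨a, haL⟩, Subgroup.mem_center_iff.2 fun w => Subtype.ext ?_, rfl⟩
        exact Subgroup.mem_centralizer_iff.1 (hcomm a.2) w.1 w.2
      rw [hZ L hL, Subgroup.mem_bot] at hcen
      rw [hcen, orderOf_one] at ha
      exact hp'.out.ne_one ha.symm
    have hlayer : Cfsg.layer K = L := le_antisymm (sSup_le fun M hM => (huniqL M hM).le)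
      (CfsgLib.Components.component_le_layer hL)
    haveI hLn : L.Normal := hlayer ▸ (inferInstance : (Cfsg.layer K).Normal)
    rw [hFE, hlayer]
    have hcL : Subgroup.center L = ⊥ := (Subgroup.map_eq_bot_iff_of_injective _ L.subtype_injective).1 (hZ L hL)
    have hsimple : IsSimpleGroup L := by
      haveI := hL.2.2
      haveI : Nontrivial L := (Subgroup.nontrivial_iff_ne_bot L).2 (CfsgLib.Components.component_ne_bot hL)
      exact IsSimpleGroup.isSimpleGroup_of_surjective
        (((QuotientGroup.quotientMulEquivOfEq hcL).trans QuotientGroup.quotientBot).toMonoidHom)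
        (MulEquiv.surjective _) |> fun h => h
    have hnc : ¬ IsMulCommutative L := fun h => by
      have : Group.IsSolvable L := Group.isSolvable_of_comm fun a b => h.is_comm.comm a b
      exact CfsgLib.Components.component_not_isSolvable hL this
    refine ⟨hsimple, hnc, fun hdvd => ?_⟩
    set H := L ⊔ (P : Subgroup K) with hH
    let PH : Sylow p H := P.subtype (le_sup_right)
    have hPH : IsCyclic (PH : Subgroup H) :=
      (Subgroup.subgroupOfEquivOfLe (show (P : Subgroup K) ≤ H from le_sup_right)).isCyclic.2 hP
    haveI : (L.subgroupOf H).Normal := inferInstance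
    have hLH : L ≤ H := le_sup_left
    rcases CfsgLib.Transfer.cyclic_sylow_dichotomy PH hPH with h | h
    · have hLnpc : Cfsg.HasNormalPComplement p L :=
        CfsgLib.Transfer.hasNormalPComplement_of_injective (Subgroup.inclusion hLH)
          (Subgroup.inclusion_injective hLH) h
      obtain ⟨S, N, hN, hNc⟩ := hLnpc
      rcases hN.eq_bot_or_eq_top with hb | hb
      · rw [hb, Subgroup.isComplement'_bot_left] at hNc
        haveI : Group.IsNilpotent L := by
          have := S.isPGroup'
          rw [hNc] at this
          exact (this.of_equiv Subgroup.topEquiv).isNilpotent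
        exact CfsgLib.Components.component_not_isSolvable hL inferInstance
      · rw [hb, Subgroup.isComplement'_top_left] at hNc
        exact (S.ne_bot_of_dvd_card (hpM L hL)) hNc
    · have hpg : IsPGroup p (H ⧸ L.subgroupOf H) := by
        have hsurj : Function.Surjective
            ((QuotientGroup.mk' (L.subgroupOf H)).comp (Subgroup.inclusion (show (P : Subgroup K) ≤ H from le_sup_right))) := by
          intro q
          obtain ⟨x, rfl⟩ := QuotientGroup.mk'_surjective _ q
          obtain ⟨l, hl, w, hw, hlw⟩ := Subgroup.mem_sup_of_normal_left.1 (show x.1 ∈ L ⊔ (P : Subgroup K) from x.2)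
          refine ⟨⟨w, hw⟩, (QuotientGroup.eq).2 ?_⟩
          show w⁻¹ * x.1 ∈ L
          rw [← hlw]
          simpa [mul_assoc] using hLn.conj_mem l hl w⁻¹
        exact P.isPGroup'.of_surjective _ hsurj
      have htop := CfsgLib.Transfer.pResidual_le_of_isPGroup_quotient (p := p) (L.subgroupOf H) hpg
      rw [h, top_le_iff, Subgroup.subgroupOf_eq_top] at htop
      have hPL : (P : Subgroup K) ≤ L := le_trans le_sup_right htop
      exact P.not_dvd_index (hdvd.trans (Subgroup.index_dvd_of_le hPL))

end Cfsg.Agent.S4403
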