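import Cfsg.Statements.S4404
import Cfsg.Agent.Lib.FGStruct.MovingFourGroup
import Cfsg.Agent.Lib.Solvable.Hall

set_option autoImplicit false
open Cfsg
open scoped Pointwise

namespace Cfsg.Agent.S4404

/-- Let S be a finite solvable group and M a normal elementary abelian 2-subgroup of S. Suppose S contains an elementary abelian subgroup of order p³ for some odd prime p, and a cyclic 3-subgroup Q such that the cubes of the elements of Q centralize M and the commutator subgroup [Q, M] has order 4 (a four-group inside M). Then S contains an elementary abelian subgroup F of order r³, for some odd prime r, whose centralizer of [Q, M] in F — the subgroup C_F([Q, M]) — is not cyclic. -/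
theorem result {S : Type*} [Group S] [Finite S]
    [Group.IsSolvable S] (M : Subgroup S) [M.Normal] (hM : Cfsg.IsElementaryAbelian 2 M)
    (p : ℕ) (hp : p.Prime) (hp2 : p ≠ 2) (E : Subgroup S) (hE : Cfsg.IsElementaryAbelian p E) (hE3 : Nat.card ↥E = p ^ 3)
    (Q : Subgroup S) (hQc : IsCyclic ↥Q) (hQ3 : IsPGroup 3 ↥Q)
    (hQ1 : ∀ x ∈ Q, x ^ 3 ∈ Subgroup.centralizer (M : Set S)) (hQM : Nat.card ↥⁅Q, M⁆ = 4) :
    ∃ (r : ℕ) (F : Subgroup S), r.Prime ∧ r ≠ 2 ∧ Cfsg.IsElementaryAbelian r F ∧ Nat.card ↥F = r ^ 3 ∧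
      ¬ IsCyclic ↥(F ⊓ Subgroup.centralizer ((⁅Q, M⁆ : Subgroup S) : Set S)) := by
  haveI : Fact p.Prime := ⟨hp⟩
  haveI : Fact (Nat.Prime 3) := ⟨Nat.prime_three⟩
  have hel : CfsgLib.FGStruct.FourMover.El M :=
    ⟨fun a ha b hb => congrArg Subtype.val (hM.1.is_comm.comm ⟨a, ha⟩ ⟨b, hb⟩),
      fun a ha => by rw [← pow_two]; exact hM.2 a ha⟩
  obtain ⟨H, hHall, hQH⟩ := CfsgLib.Solvable.exists_isPiHall_ge (π := {q : ℕ | q ≠ 2}) (K := Q) fun q hq hqd => by
    obtain ⟨k, hk⟩ := IsPGroup.iff_card.1 hQ3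
    rw [hk] at hqd
    rw [Set.mem_setOf_eq, (Nat.prime_dvd_prime_iff_eq hq Nat.prime_three).1 (hq.dvd_of_dvd_pow hqd)]
    norm_num
  have hH : Odd (Nat.card H) := by
    rw [← Nat.not_even_iff_odd, even_iff_two_dvd]
    exact fun h => hHall.1 2 Nat.prime_two h rfl
  obtain ⟨g, hg⟩ := CfsgLib.Solvable.exists_conj_le_isPiHall (K := E) hHall fun q hq hqd => by
    rw [hE3] at hqd
    rw [Set.mem_setOf_eq, (Nat.prime_dvd_prime_iff_eq hq hp).1 (hq.dvd_of_dvd_pow hqd)]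
    exact hp2
  set E' := E.map (MulAut.conj g).toMonoidHom with hE'def
  have hE'H : E' ≤ H := by
    rintro _ ⟨a, ha, rfl⟩
    exact hg (Subgroup.smul_mem_pointwise_smul a _ E ha)
  have hE' : Cfsg.IsElementaryAbelian p E' := ⟨⟨⟨by
      rintro ⟨_, u, hu, rfl⟩ ⟨_, v, hv, rfl⟩
      refine Subtype.ext ?_
      show (MulAut.conj g).toMonoidHom u * (MulAut.conj g).toMonoidHom v = (MulAut.conj g).toMonoidHom v * (MulAut.conj g).toMonoidHom u
      rw [← map_mul, ← map_mul, show u * v = v * u from congrArg Subtype.val (hE.1.is_comm.comm ⟨u, hu⟩ ⟨v, hv⟩)]⟩⟩, by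
    rintro _ ⟨u, hu, rfl⟩
    rw [← map_pow, hE.2 u hu, map_one]⟩
  have hE'3 : Nat.card E' = p ^ 3 := by
    rw [← hE3]; exact Subgroup.card_map_of_injective (MulAut.conj g).injective
  obtain ⟨x, hQx⟩ : ∃ x : S, Subgroup.zpowers x = Q := by
    obtain ⟨x₀, hx₀⟩ := isCyclic_iff_exists_zpowers_eq_top.1 hQc
    refine ⟨x₀, ?_⟩
    rw [show (x₀ : S) = Q.subtype x₀ from rfl, ← MonoidHom.map_zpowers, hx₀, ← MonoidHom.range_eq_map,
      Subgroup.range_subtype]
  subst hQx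
  have hx : CfsgLib.FGStruct.FourMover.Good H M x :=
    ⟨hQH (Subgroup.mem_zpowers x), hQ1 x (Subgroup.mem_zpowers x), hQM⟩
  by_cases hall : ∀ e ∈ E', CfsgLib.FGStruct.FourMover.Meet M x (e * x * e⁻¹)
  · exact CfsgLib.FGStruct.FourMover.finish hp2 hel hH hx hE' hE'3 hE'H hall
  obtain ⟨A, hAH, hA, hA3⟩ : ∃ A : Subgroup S, A ≤ H ∧ Cfsg.IsElementaryAbelian 3 A ∧ Nat.card A = 3 ^ 3 := by
    by_cases hp3 : p = 3
    · subst hp3; exact ⟨E', hE'H, hE', hE'3⟩
    push Not at hall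
    obtain ⟨e, he, hm⟩ := hall
    have hp5 : 5 ≤ p := by
      have := hp.two_le
      have h4 : p ≠ 4 := fun h => by rw [h] at hp; norm_num at hp
      omega
    exact CfsgLib.FGStruct.FourMover.exists_three_cube hel hH hx hp5 (hE'H he) (hE'.2 e he) hm
  obtain ⟨E0, hE0H, hE0, hE03, hmeet⟩ := CfsgLib.FGStruct.FourMover.exists_three_meet hel hH hx hQ3 hAH hA hA3
  exact CfsgLib.FGStruct.FourMover.finish (by norm_num) hel hH hx hE0 hE03 hE0H hmeet

end Cfsg.Agent.S4404
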