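import Cfsg.Statements.S4405
import Cfsg.Agent.Lib.PGroup.Basic
import Cfsg.Agent.Lib.Solvable.Core
import Mathlib

set_option autoImplicit false
open Cfsg
open scoped commutatorElement

namespace Cfsg.Agent.S4405

/-- An element of order dividing 5 acting on a 2-group and trivially on `X`, with `x⁻¹ * e x ∈ X`, fixes `x`. -/
theorem fix_of_mod {G : Type*} [Group G] (e x : G) (k : ℕ) (hk : (x⁻¹ * (e * x * e⁻¹)) ^ (2 ^ k) = 1)
    (he : e ^ 5 = 1) (hc : Commute e (x⁻¹ * (e * x * e⁻¹))) : e * x * e⁻¹ = x := by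
  set t := x⁻¹ * (e * x * e⁻¹) with ht
  have step : ∀ n : ℕ, e ^ n * x * (e ^ n)⁻¹ = x * t ^ n := by
    intro n
    induction n with
    | zero => simp
    | succ n ih =>
      calc e ^ (n + 1) * x * (e ^ (n + 1))⁻¹ = e * (e ^ n * x * (e ^ n)⁻¹) * e⁻¹ := by
            rw [pow_succ']; group
        _ = e * (x * t ^ n) * e⁻¹ := by rw [ih]
        _ = (e * x * e⁻¹) * (e * t ^ n * e⁻¹) := by group
        _ = x * t * t ^ n := by
            rw [(hc.pow_right n).eq, mul_inv_cancel_right, ht]; group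
        _ = x * t ^ (n + 1) := by rw [pow_succ', mul_assoc]
  have h5 := step 5
  rw [he] at h5
  have ht5 : t ^ 5 = 1 := by simpa using h5
  have hcop : Nat.Coprime (2 ^ k) 5 := Nat.Coprime.pow_left _ (by norm_num)
  have ht1 : t = 1 := by
    have := pow_gcd_eq_one.2 ⟨hk, ht5⟩
    rwa [hcop.gcd_eq_one, pow_one] at this
  rw [ht] at ht1
  exact (inv_mul_eq_one.1 ht1).symm

/-- A five-element set is needed for a nontrivial orbit of an element of order five. -/
theorem card_fixed_mod_five {α : Type*} [Finite α] (σ : Equiv.Perm α) (hσ : σ ^ 5 = 1) :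
    Nat.card α ≡ Nat.card {x : α // σ x = x} [MOD 5] := by
  classical
  have : Fact (Nat.Prime 5) := ⟨by norm_num⟩
  have hp : IsPGroup 5 ↥(Subgroup.zpowers σ) := by
    intro g
    refine ⟨1, ?_⟩
    obtain ⟨g, m, rfl⟩ := g
    refine Subtype.ext ?_
    show (σ ^ m) ^ (5 ^ 1) = 1
    rw [pow_one, ← zpow_natCast, ← zpow_mul, mul_comm, zpow_mul, zpow_natCast, hσ, one_zpow]
  refine (hp.card_modEq_card_fixedPoints α).trans ?_
  rw [Nat.card_congr (α := MulAction.fixedPoints ↥(Subgroup.zpowers σ) α) (β := {x : α // σ x = x}) (Equiv.subtypeEquivRight fun x => ?_)]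
  constructor
  · intro h
    exact h ⟨σ, Subgroup.mem_zpowers σ⟩
  · rintro h ⟨g, m, rfl⟩
    exact Equiv.Perm.zpow_apply_eq_self_of_apply_eq_self h m

theorem centralizer_le {G : Type*} [Group G] [Finite G]
    (hG : Nat.card G = 320) (hHF : Cfsg.pCore 2 G = Cfsg.fittingSubgroup G)
    (h32 : Nat.card ↥(Cfsg.pCore 2 G) = 32) :
    Subgroup.centralizer (Cfsg.pCore 2 G : Set G) ≤ Cfsg.pCore 2 G := by
  haveI : (Cfsg.pCore 2 G).Normal := CfsgLib.Solvable.pCore_normal 2 G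
  have hq : Nat.card (G ⧸ Cfsg.pCore 2 G) = 10 := by
    have := Subgroup.card_eq_card_quotient_mul_card_subgroup (Cfsg.pCore 2 G)
    rw [hG, h32] at this
    omega
  haveI : IsZGroup (G ⧸ Cfsg.pCore 2 G) :=
    IsZGroup.of_squarefree (by rw [hq]; exact (Nat.squarefree_mul (by norm_num)).2 ⟨Nat.prime_two.squarefree, (by norm_num : Nat.Prime 5).squarefree⟩)
  haveI : Fact (Nat.Prime 2) := ⟨Nat.prime_two⟩
  haveI : Group.IsNilpotent ↥(Cfsg.pCore 2 G) := (CfsgLib.Solvable.pCore_isPGroup 2 G).isNilpotent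
  haveI : Group.IsSolvable G := Group.isSolvable_of_ker_le_range (Cfsg.pCore 2 G).subtype (QuotientGroup.mk' (Cfsg.pCore 2 G))
    (by rw [QuotientGroup.ker_mk', Subgroup.range_subtype])
  rw [hHF]
  exact CfsgLib.Solvable.centralizer_fittingSubgroup_le

/-- In a group of order 320 whose Fitting subgroup is extraspecial of order 32 of minus type, a four-group centralized
by an outer involution is the whole fixed subgroup. -/
theorem result {G : Type*} [Group G] [Finite G]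
    (hG : Nat.card G = 320) (hHF : Cfsg.pCore 2 G = Cfsg.fittingSubgroup G)
    (hex : Cfsg.IsExtraspecial 2 ↥(Cfsg.pCore 2 G)) (h32 : Nat.card ↥(Cfsg.pCore 2 G) = 32)
    (hminus : ∀ A : Subgroup G, A ≤ Cfsg.pCore 2 G → Cfsg.IsElementaryAbelian 2 A → Nat.card ↥A ≤ 4)
    (T : G) (hT : orderOf T = 2) (hTH : T ∉ Cfsg.pCore 2 G)
    (V : Subgroup G) (hV : V ≤ Cfsg.pCore 2 G ⊓ Subgroup.centralizer ({T} : Set G)) (hV4 : Nat.card ↥V = 4) (hVe : Cfsg.IsElementaryAbelian 2 V) :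
    Nat.card ↥(Cfsg.pCore 2 G ⊓ Subgroup.centralizer ({T} : Set G)) = 4 ∧
      Cfsg.IsElementaryAbelian 2 (Cfsg.pCore 2 G ⊓ Subgroup.centralizer ({T} : Set G)) := by
  classical
  have hCle := centralizer_le hG hHF h32
  haveI hHn : (Cfsg.pCore 2 G).Normal := CfsgLib.Solvable.pCore_normal 2 G
  haveI : Fact (Nat.Prime 2) := ⟨Nat.prime_two⟩
  haveI : Fact (Nat.Prime 5) := ⟨by norm_num⟩
  set H := Cfsg.pCore 2 G with hHdef
  obtain ⟨⟨hpg, hfr, hcomm⟩, hZ2⟩ := hex
  set Z : Subgroup G := (Subgroup.center ↥H).map H.subtype with hZdef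
  haveI hZn : Z.Normal := inferInstance
  have hZcard : Nat.card ↥Z = 2 := by rw [hZdef, Subgroup.card_map_of_injective H.subtype_injective]; exact hZ2
  have hZH : Z ≤ H := Subgroup.map_subtype_le _
  -- conjugation moves no element of `Z`
  have hZcen : ∀ z ∈ Z, ∀ g : G, g * z * g⁻¹ = z := by
    intro z hz g
    obtain ⟨c, -, hc⟩ := (Nat.card_eq_two_iff' (1 : ↥Z)).1 hZcard |> fun ⟨c, h1, h2⟩ => (⟨c, h1, h2⟩ : ∃ c : ↥Z, c ≠ 1 ∧ ∀ y : ↥Z, y ≠ 1 → y = c)
    by_cases h1 : z = 1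
    · rw [h1, mul_one, mul_inv_cancel]
    · have hz1 : (⟨z, hz⟩ : ↥Z) ≠ 1 := fun h => h1 (congrArg Subtype.val h)
      have hg1 : (⟨g * z * g⁻¹, hZn.conj_mem z hz g⟩ : ↥Z) ≠ 1 := fun h => h1 (by
        have := congrArg Subtype.val h
        simpa using this)
      exact congrArg Subtype.val ((hc _ hg1).trans (hc _ hz1).symm)
  have hZc : ∀ z ∈ Z, ∀ g : G, Commute g z := fun z hz g => mul_inv_eq_iff_eq_mul.1 (hZcen z hz g)
  have hZsq : ∀ z ∈ Z, z ^ 2 = 1 := fun z hz => by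
    have := pow_card_eq_one' (x := (⟨z, hz⟩ : ↥Z))
    rw [hZcard] at this
    exact congrArg Subtype.val this
  have hsqZ : ∀ x ∈ H, x ^ 2 ∈ Z := fun x hx => ⟨(⟨x, hx⟩ : ↥H) ^ 2,
    hfr ▸ CfsgLib.PGroup.pow_mem_frattini hpg (⟨x, hx⟩ : ↥H), rfl⟩
  have hcmZ : ∀ x ∈ H, ∀ y ∈ H, x⁻¹ * y⁻¹ * x * y ∈ Z := fun x hx y hy =>
    ⟨⁅(⟨x, hx⟩ : ↥H)⁻¹, (⟨y, hy⟩ : ↥H)⁻¹⁆, hcomm ▸ Subgroup.commutator_mem_commutator (Subgroup.mem_top _) (Subgroup.mem_top _),
      by simp [commutatorElement_def]⟩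
  -- elements of order five
  have hfive : ∀ e : G, orderOf e = 5 → ∀ x ∈ H, x⁻¹ * (e * x * e⁻¹) ∈ Z → x ∈ Z := by
    intro e he x hx hxz
    have hfixmod : ∀ y, y⁻¹ * (e * y * e⁻¹) ∈ Z → e * y * e⁻¹ = y := fun y hy =>
      fix_of_mod e y 1 (by rw [pow_one]; exact hZsq _ hy) (he ▸ pow_orderOf_eq_one e) (hZc _ hy e)
    have hfx := hfixmod x hxz
    by_contra hxZ
    -- the centralizer of `x` in `H` has index at most two
    let Cx : Subgroup G := H ⊓ Subgroup.centralizer {x}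
    have hF : ∀ X Y : Subgroup G, X ≤ Y → Y ≤ H → (∀ y ∈ Y, e * y * e⁻¹ ∈ Y) → (∀ u ∈ X, e * u * e⁻¹ = u) →
        Nat.card ↥Y ≤ 4 * Nat.card ↥X → ∀ y ∈ Y, e * y * e⁻¹ = y := by
      intro X Y hXY hYH hYinv hXfix hcard y hy
      let Q := ↥Y ⧸ X.subgroupOf Y
      have hQ : Nat.card Q ≤ 4 := by
        have h := Subgroup.card_eq_card_quotient_mul_card_subgroup (X.subgroupOf Y)
        rw [Nat.card_congr (Subgroup.subgroupOfEquivOfLe hXY).toEquiv] at h
        have hpos : 0 < Nat.card ↥X := Nat.card_pos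
        change Nat.card ↥Y = Nat.card Q * Nat.card ↥X at h
        by_contra hgt
        have : 5 * Nat.card ↥X ≤ Nat.card Q * Nat.card ↥X := Nat.mul_le_mul_right _ (by omega)
        omega
      have hYinv5 : ∀ y ∈ Y, e⁻¹ * y * e ∈ Y := by
        intro y hy
        have h4 := hYinv _ (hYinv _ (hYinv _ (hYinv _ hy)))
        have e5 : e ^ 5 = 1 := he ▸ pow_orderOf_eq_one e
        have : e * (e * (e * (e * y * e⁻¹) * e⁻¹) * e⁻¹) * e⁻¹ = (e ^ 5 * e⁻¹) * y * (e ^ 5 * e⁻¹)⁻¹ := by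
          simp only [pow_succ, pow_zero, one_mul]; group
        rw [this, e5, one_mul, inv_inv] at h4
        exact h4
      have hfixX' : ∀ u ∈ X, e⁻¹ * u * e = u := fun u hu => by
        conv_lhs => arg 1; arg 2; rw [← hXfix u hu]
        group
      let σ : Equiv.Perm Q :=
        { toFun := Quotient.map' (fun y : ↥Y => (⟨e * y.1 * e⁻¹, hYinv y.1 y.2⟩ : ↥Y)) (fun a b hab => by
            rw [QuotientGroup.leftRel_apply, Subgroup.mem_subgroupOf] at hab ⊢
            show (e * a.1 * e⁻¹)⁻¹ * (e * b.1 * e⁻¹) ∈ X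
            have : (e * a.1 * e⁻¹)⁻¹ * (e * b.1 * e⁻¹) = e * (a.1⁻¹ * b.1) * e⁻¹ := by group
            rw [this, hXfix _ (by exact hab)]; exact hab)
          invFun := Quotient.map' (fun y : ↥Y => (⟨e⁻¹ * y.1 * e, hYinv5 y.1 y.2⟩ : ↥Y)) (fun a b hab => by
            rw [QuotientGroup.leftRel_apply, Subgroup.mem_subgroupOf] at hab ⊢
            show (e⁻¹ * a.1 * e)⁻¹ * (e⁻¹ * b.1 * e) ∈ X
            have : (e⁻¹ * a.1 * e)⁻¹ * (e⁻¹ * b.1 * e) = e⁻¹ * (a.1⁻¹ * b.1) * e := by group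
            rw [this, hfixX' _ (by exact hab)]; exact hab)
          left_inv := fun q => by
            induction q using Quotient.inductionOn' with
            | _ a => exact congrArg Quotient.mk'' (Subtype.ext (show e⁻¹ * (e * a.1 * e⁻¹) * e = a.1 by group))
          right_inv := fun q => by
            induction q using Quotient.inductionOn' with
            | _ a => exact congrArg Quotient.mk'' (Subtype.ext (show e * (e⁻¹ * a.1 * e) * e⁻¹ = a.1 by group)) }
      have hσ : σ ^ 5 = 1 := by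
        apply Equiv.ext
        intro q
        induction q using Quotient.inductionOn' with
        | _ a =>
          show σ (σ (σ (σ (σ (Quotient.mk'' a))))) = Quotient.mk'' a
          have e5 : e ^ 5 = 1 := he ▸ pow_orderOf_eq_one e
          refine congrArg Quotient.mk'' (Subtype.ext ?_)
          show e * (e * (e * (e * (e * a.1 * e⁻¹) * e⁻¹) * e⁻¹) * e⁻¹) * e⁻¹ = a.1
          have : e * (e * (e * (e * (e * a.1 * e⁻¹) * e⁻¹) * e⁻¹) * e⁻¹) * e⁻¹ = e ^ 5 * a.1 * (e ^ 5)⁻¹ := by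
            simp only [pow_succ, pow_zero, one_mul]; group
          rw [this, e5]; group
      have hmod := card_fixed_mod_five σ hσ
      have hle : Nat.card {q : Q // σ q = q} ≤ Nat.card Q := Finite.card_subtype_le _
      have heq : Nat.card {q : Q // σ q = q} = Nat.card Q := by
        rw [Nat.ModEq] at hmod
        omega
      have hall : ∀ q : Q, σ q = q := by
        by_contra! hne
        obtain ⟨q, hq⟩ := hne
        exact (ne_of_lt (Finite.card_subtype_lt (x := q) (p := fun q => σ q = q) hq)) heq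
      have h1 := QuotientGroup.eq.1 (hall (QuotientGroup.mk ⟨y, hy⟩)).symm
      rw [Subgroup.mem_subgroupOf] at h1
      change y⁻¹ * (e * y * e⁻¹) ∈ X at h1
      refine fix_of_mod e y 5 ?_ (he ▸ pow_orderOf_eq_one e) (mul_inv_eq_iff_eq_mul.1 (hXfix _ h1))
      have h3 := pow_card_eq_one' (x := (⟨y⁻¹ * (e * y * e⁻¹), hYH (hXY h1)⟩ : ↥H))
      rw [h32] at h3
      exact congrArg Subtype.val h3
    -- `x` commutes with at least half of `H`
    have hCx : 16 ≤ Nat.card ↥Cx := by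
      let f : ↥H → ↥Z := fun h => ⟨x⁻¹ * h.1⁻¹ * x * h.1, hcmZ x hx h.1 h.2⟩
      by_contra hlt
      have hfib : ∀ z : ↥Z, Nat.card {h : ↥H // f h = z} ≤ Nat.card ↥Cx := by
        intro z
        rcases isEmpty_or_nonempty {h : ↥H // f h = z} with h | ⟨⟨h₀, hh₀⟩⟩
        · simp
        · refine Nat.card_le_card_of_injective (fun h => (⟨h.1.1 * h₀.1⁻¹, ?_⟩ : ↥Cx)) fun a b hab => ?_
          · refine ⟨H.mul_mem h.1.2 (H.inv_mem h₀.2), Subgroup.mem_centralizer_singleton_iff.2 ?_⟩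
            have h1 : x⁻¹ * h.1.1⁻¹ * x * h.1.1 = x⁻¹ * h₀.1⁻¹ * x * h₀.1 := congrArg Subtype.val (h.2.trans hh₀.symm)
            calc h.1.1 * h₀.1⁻¹ * x = h.1.1 * (x * (x⁻¹ * h₀.1⁻¹ * x * h₀.1)) * h₀.1⁻¹ := by group
              _ = h.1.1 * (x * (x⁻¹ * h.1.1⁻¹ * x * h.1.1)) * h₀.1⁻¹ := by rw [h1]
              _ = x * (h.1.1 * h₀.1⁻¹) := by group
          · exact Subtype.ext (Subtype.ext (mul_right_cancel (congrArg Subtype.val hab)))
      have hsum : Nat.card ↥H ≤ Nat.card ↥Z * Nat.card ↥Cx := by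
        have := Fintype.ofFinite ↥Z
        rw [← Nat.card_congr (Equiv.sigmaFiberEquiv f), Nat.card_sigma, Nat.card_eq_fintype_card (α := ↥Z)]
        exact le_trans (Finset.sum_le_sum fun z _ => hfib z) (by simp)
      rw [h32, hZcard] at hsum
      omega
    have hX4 : 4 ≤ Nat.card ↥(Z ⊔ Subgroup.zpowers x) := by
      have hlt : Z < Z ⊔ Subgroup.zpowers x :=
        lt_of_le_of_ne le_sup_left fun h => hxZ (h ▸ Subgroup.mem_sup_right (Subgroup.mem_zpowers x))
      have hd := Subgroup.card_dvd_of_le hlt.le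
      rw [hZcard] at hd
      have hne : Nat.card ↥(Z ⊔ Subgroup.zpowers x) ≠ 2 := fun h =>
        hlt.ne (Subgroup.eq_of_le_of_card_ge hlt.le (by omega))
      obtain ⟨k, hk⟩ := hd
      have : 0 < Nat.card ↥(Z ⊔ Subgroup.zpowers x) := Nat.card_pos
      omega
    let F : Subgroup G := H ⊓ Subgroup.centralizer {e}
    have hF' : ∀ u : G, u ∈ Subgroup.centralizer {e} ↔ e * u * e⁻¹ = u := fun u => by
      rw [Subgroup.mem_centralizer_singleton_iff, mul_inv_eq_iff_eq_mul, eq_comm]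
    have hXF : Z ⊔ Subgroup.zpowers x ≤ F :=
      sup_le (fun z hz => ⟨hZH hz, (hF' z).2 (hZcen z hz e)⟩) (Subgroup.zpowers_le.2 ⟨hx, (hF' x).2 hfx⟩)
    have hXCx : Z ⊔ Subgroup.zpowers x ≤ Cx :=
      sup_le (fun z hz => ⟨hZH hz, Subgroup.mem_centralizer_singleton_iff.2 (hZc z hz x).eq.symm⟩)
        (Subgroup.zpowers_le.2 ⟨hx, Subgroup.mem_centralizer_singleton_iff.2 rfl⟩)
    have hCx32 : Nat.card ↥Cx ≤ 16 := by
      have hd := Subgroup.card_dvd_of_le (inf_le_left : Cx ≤ H)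
      rw [h32] at hd
      have hne : Nat.card ↥Cx ≠ 32 := by
        intro h
        have hEq : Cx = H := Subgroup.eq_of_le_of_card_ge inf_le_left (by omega)
        refine hxZ ⟨⟨x, hx⟩, Subgroup.mem_center_iff.2 fun h' => Subtype.ext ?_, rfl⟩
        have h2 : h'.1 ∈ Cx := hEq.ge h'.2
        exact Subgroup.mem_centralizer_singleton_iff.1 h2.2
      have := Nat.le_of_dvd (by norm_num) hd
      have : ∀ d : ℕ, d ≤ 32 → d ∣ 32 → d ≠ 32 → d ≤ 16 := by decide
      exact this _ (by omega) hd hne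
    have hCxfix := hF (Z ⊔ Subgroup.zpowers x) Cx hXCx inf_le_left
      (fun y hy => ⟨hHn.conj_mem y hy.1 e, Subgroup.mem_centralizer_singleton_iff.2 (by
        have h1 := Subgroup.mem_centralizer_singleton_iff.1 hy.2
        calc e * y * e⁻¹ * x = e * y * e⁻¹ * (e * x * e⁻¹) := by rw [hfx]
          _ = e * (y * x) * e⁻¹ := by group
          _ = e * (x * y) * e⁻¹ := by rw [h1]
          _ = (e * x * e⁻¹) * (e * y * e⁻¹) := by group
          _ = x * (e * y * e⁻¹) := by rw [hfx])⟩)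
      (fun u hu => (hF' u).1 (hXF hu).2) (by omega)
    have hHfix := hF Cx H inf_le_left le_rfl (fun y hy => hHn.conj_mem y hy e) hCxfix (by omega)
    have heH : e ∈ H := hCle fun y hy => (mul_inv_eq_iff_eq_mul.1 (hHfix y hy)).symm
    have := Subgroup.orderOf_dvd_natCard H heH
    rw [h32, he] at this
    norm_num at this
  -- `e`-invariant subgroups containing `Z`
  have hnoinv : ∀ e : G, orderOf e = 5 → ∀ X : Subgroup G, Z ≤ X → X ≤ H → (∀ x ∈ X, e * x * e⁻¹ ∈ X) →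
      Nat.card ↥X = 2 ∨ Nat.card ↥X = 32 := by
    intro e he X hZX hXH hinv
    have e5 : e ^ 5 = 1 := he ▸ pow_orderOf_eq_one e
    have hinv' : ∀ x ∈ X, e⁻¹ * x * e ∈ X := by
      intro y hy
      have h4 := hinv _ (hinv _ (hinv _ (hinv _ hy)))
      have : e * (e * (e * (e * y * e⁻¹) * e⁻¹) * e⁻¹) * e⁻¹ = (e ^ 5 * e⁻¹) * y * (e ^ 5 * e⁻¹)⁻¹ := by
        simp only [pow_succ, pow_zero, one_mul]; group
      rw [this, e5, one_mul, inv_inv] at h4
      exact h4
    let σ : Equiv.Perm ↥X :=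
      { toFun := fun x => ⟨e * x.1 * e⁻¹, hinv x.1 x.2⟩
        invFun := fun x => ⟨e⁻¹ * x.1 * e, hinv' x.1 x.2⟩
        left_inv := fun x => Subtype.ext (show e⁻¹ * (e * x.1 * e⁻¹) * e = x.1 by group)
        right_inv := fun x => Subtype.ext (show e * (e⁻¹ * x.1 * e) * e⁻¹ = x.1 by group) }
    have hσ : σ ^ 5 = 1 := by
      ext a
      show e * (e * (e * (e * (e * a.1 * e⁻¹) * e⁻¹) * e⁻¹) * e⁻¹) * e⁻¹ = a.1
      have : e * (e * (e * (e * (e * a.1 * e⁻¹) * e⁻¹) * e⁻¹) * e⁻¹) * e⁻¹ = e ^ 5 * a.1 * (e ^ 5)⁻¹ := by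
        simp only [pow_succ, pow_zero, one_mul]; group
      rw [this, e5]; group
    have hmod := card_fixed_mod_five σ hσ
    have hfix : Nat.card {a : ↥X // σ a = a} = 2 := by
      rw [← hZcard]
      refine Nat.card_congr
        { toFun := fun a => ⟨a.1.1, hfive e he a.1.1 (hXH a.1.2) ?_⟩
          invFun := fun z => ⟨⟨z.1, hZX z.2⟩, Subtype.ext (hZcen z.1 z.2 e)⟩
          left_inv := fun a => rfl
          right_inv := fun z => rfl }
      have h1 : e * a.1.1 * e⁻¹ = a.1.1 := congrArg Subtype.val a.2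
      rw [h1, inv_mul_cancel]
      exact Z.one_mem
    rw [hfix, Nat.ModEq] at hmod
    have hd := Subgroup.card_dvd_of_le hXH
    rw [h32] at hd
    have : ∀ d : ℕ, d ≤ 32 → d ∣ 32 → d % 5 = 2 % 5 → d = 2 ∨ d = 32 := by decide
    exact this _ (Nat.le_of_dvd (by norm_num) hd) hd hmod
  -- the preimage of the fixed points modulo `Z`
  let Wsub : G → Subgroup G := fun t =>
    { carrier := {x | x ∈ H ∧ x⁻¹ * (t * x * t⁻¹) ∈ Z}
      one_mem' := ⟨H.one_mem, by simp⟩
      mul_mem' := fun {x y} hx hy => ⟨H.mul_mem hx.1 hy.1, by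
        have hh : (x * y)⁻¹ * (t * (x * y) * t⁻¹) = (y⁻¹ * (x⁻¹ * (t * x * t⁻¹)) * y) * (y⁻¹ * (t * y * t⁻¹)) := by group
        rw [hh]
        refine Z.mul_mem ?_ hy.2
        have := hZn.conj_mem _ hx.2 y⁻¹
        rwa [inv_inv] at this⟩
      inv_mem' := fun {x} hx => ⟨H.inv_mem hx.1, by
        have hh : x⁻¹⁻¹ * (t * x⁻¹ * t⁻¹) = x * (x⁻¹ * (t * x * t⁻¹))⁻¹ * x⁻¹ := by group
        rw [hh]
        exact hZn.conj_mem _ (Z.inv_mem hx.2) x⟩ }
  set W := Wsub T with hWdef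
  set C : Subgroup G := H ⊓ Subgroup.centralizer ({T} : Set G) with hCdef
  have hZC : Z ≤ C := fun z hz => ⟨hZH hz, Subgroup.mem_centralizer_singleton_iff.2 (hZc z hz T).eq.symm⟩
  have hCW : C ≤ W := fun c hc => ⟨hc.1, by
    have h1 := Subgroup.mem_centralizer_singleton_iff.1 hc.2
    have : c⁻¹ * (T * c * T⁻¹) = 1 := by rw [← h1]; group
    rw [this]; exact Z.one_mem⟩
  have hWH : W ≤ H := fun x hx => hx.1
  have hV4C : 4 ≤ Nat.card ↥C := hV4 ▸ Nat.le_of_dvd Nat.card_pos (Subgroup.card_dvd_of_le hV)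
  obtain ⟨a, ha⟩ := exists_prime_orderOf_dvd_card' (G := G) 5 (by rw [hG]; norm_num)
  have haH : ∀ e : G, orderOf e = 5 → e ∉ H := fun e he h => by
    have := Subgroup.orderOf_dvd_natCard H h
    rw [h32, he] at this
    norm_num at this
  set b : G := T * (a * T * a⁻¹) with hb
  -- `b` is not in `H`
  have hbH : b ∉ H := by
    intro hbH
    -- a conjugate of `T` in the same coset which is fixed by `a`
    let S := {h : G // h ∈ H}
    have hTa : T⁻¹ * (a * T * a⁻¹) ∈ H := by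
      have : T⁻¹ = T := inv_eq_of_mul_eq_one_right (by rw [← pow_two, ← hT]; exact pow_orderOf_eq_one T)
      rw [this]; exact hbH
    have hTa' : T⁻¹ * (a⁻¹ * T * a) ∈ H := by
      have : T⁻¹ * (a⁻¹ * T * a) = (T⁻¹ * a⁻¹ * T) * (T⁻¹ * (a * T * a⁻¹))⁻¹ * (T⁻¹ * a⁻¹ * T)⁻¹ := by group
      rw [this]; exact hHn.conj_mem _ (H.inv_mem hTa) _
    let σ : Equiv.Perm S :=
      { toFun := fun h => ⟨T⁻¹ * (a * T * a⁻¹) * (a * h.1 * a⁻¹), H.mul_mem hTa (hHn.conj_mem _ h.2 a)⟩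
        invFun := fun h => ⟨T⁻¹ * (a⁻¹ * T * a) * (a⁻¹ * h.1 * a), H.mul_mem hTa' (by
          have := hHn.conj_mem _ h.2 a⁻¹
          rwa [inv_inv] at this)⟩
        left_inv := fun h => Subtype.ext (by
          show T⁻¹ * (a⁻¹ * T * a) * (a⁻¹ * (T⁻¹ * (a * T * a⁻¹) * (a * h.1 * a⁻¹)) * a) = h.1
          group)
        right_inv := fun h => Subtype.ext (by
          show T⁻¹ * (a * T * a⁻¹) * (a * (T⁻¹ * (a⁻¹ * T * a) * (a⁻¹ * h.1 * a)) * a⁻¹) = h.1
          group) }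
    have hσ : σ ^ 5 = 1 := by
      apply Equiv.ext
      intro h
      have hσa : ∀ k : S, T * (σ k).1 = a * (T * k.1) * a⁻¹ := fun k => by
        show T * (T⁻¹ * (a * T * a⁻¹) * (a * k.1 * a⁻¹)) = _
        group
      show σ (σ (σ (σ (σ h)))) = h
      apply Subtype.ext
      apply mul_left_cancel (a := T)
      rw [hσa, hσa, hσa, hσa, hσa]
      have e5 : a ^ 5 = 1 := ha ▸ pow_orderOf_eq_one a
      have : a * (a * (a * (a * (a * (T * h.1) * a⁻¹) * a⁻¹) * a⁻¹) * a⁻¹) * a⁻¹ = a ^ 5 * (T * h.1) * (a ^ 5)⁻¹ := by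
        simp only [pow_succ, pow_zero, one_mul]; group
      rw [this, e5]; group
    have hmod := card_fixed_mod_five σ hσ
    have hS : Nat.card S = 32 := h32
    rw [hS, Nat.ModEq] at hmod
    obtain ⟨⟨h, hh⟩⟩ : Nonempty {q : S // σ q = q} := (Nat.card_pos_iff.1 (by omega)).1
    set T' := T * h.1 with hT'
    have hfixT : a * T' * a⁻¹ = T' := by
      have h1 : T⁻¹ * (a * T * a⁻¹) * (a * h.1 * a⁻¹) = h.1 := congrArg Subtype.val hh
      calc a * T' * a⁻¹ = T * (T⁻¹ * (a * T * a⁻¹) * (a * h.1 * a⁻¹)) := by rw [hT']; group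
        _ = T' := by rw [h1, ← hT']
    have hT'H : T' ∉ H := fun hm => hTH ((H.mul_mem_cancel_right h.2).1 hm)
    -- `T` and `T'` agree modulo `Z`
    have hW' : ∀ x ∈ H, (x⁻¹ * (T * x * T⁻¹) ∈ Z ↔ x⁻¹ * (T' * x * T'⁻¹) ∈ Z) := by
      intro x hx
      have hhh : h.1 * x * h.1⁻¹ * x⁻¹ ∈ Z := by
        have := hcmZ _ (H.inv_mem h.2) _ (H.inv_mem hx)
        simpa [mul_assoc] using this
      have e1 : x⁻¹ * (T' * x * T'⁻¹) = (x⁻¹ * (T * (h.1 * x * h.1⁻¹ * x⁻¹) * T⁻¹) * x) * (x⁻¹ * (T * x * T⁻¹)) := by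
        rw [hT']; group
      rw [e1, hZcen _ hhh T]
      have hm : x⁻¹ * (h.1 * x * h.1⁻¹ * x⁻¹) * x ∈ Z := by
        have := hZn.conj_mem _ hhh x⁻¹
        rwa [inv_inv] at this
      exact (Z.mul_mem_cancel_left hm).symm
    have hWinv : ∀ x ∈ W, a * x * a⁻¹ ∈ W := by
      intro x hx
      refine ⟨hHn.conj_mem _ hx.1 a, ?_⟩
      rw [hW' _ (hHn.conj_mem _ hx.1 a)]
      have e1 : (a * x * a⁻¹)⁻¹ * ((a * T' * a⁻¹) * (a * x * a⁻¹) * (a * T' * a⁻¹)⁻¹) = a * (x⁻¹ * (T' * x * T'⁻¹)) * a⁻¹ := by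
        group
      rw [hfixT] at e1
      rw [e1]
      exact hZn.conj_mem _ ((hW' x hx.1).1 hx.2) a
    rcases hnoinv a ha W (hZC.trans hCW) hWH hWinv with h2 | h2
    · have := Subgroup.card_dvd_of_le hCW
      have := Nat.le_of_dvd (by omega) this
      omega
    · -- `T'` centralizes `H` modulo `Z`
      have hWeq : W = H := Subgroup.eq_of_le_of_card_ge hWH (by omega)
      let C' : Subgroup G := H ⊓ Subgroup.centralizer {T'}
      have hC'inv : ∀ x ∈ C', a * x * a⁻¹ ∈ C' := fun x hx => ⟨hHn.conj_mem _ hx.1 a,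
        Subgroup.mem_centralizer_singleton_iff.2 (by
          have h1 := Subgroup.mem_centralizer_singleton_iff.1 hx.2
          calc a * x * a⁻¹ * T' = a * x * a⁻¹ * (a * T' * a⁻¹) := by rw [hfixT]
            _ = a * (x * T') * a⁻¹ := by group
            _ = a * (T' * x) * a⁻¹ := by rw [h1]
            _ = (a * T' * a⁻¹) * (a * x * a⁻¹) := by group
            _ = T' * (a * x * a⁻¹) := by rw [hfixT])⟩
      have hC'16 : 16 ≤ Nat.card ↥C' := by
        let f : ↥H → ↥Z := fun x => ⟨x.1⁻¹ * (T' * x.1 * T'⁻¹), (hW' x.1 x.2).1 ((hWeq.ge x.2 : x.1 ∈ W)).2⟩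
        by_contra hlt
        have hfib : ∀ z : ↥Z, Nat.card {x : ↥H // f x = z} ≤ Nat.card ↥C' := by
          intro z
          rcases isEmpty_or_nonempty {x : ↥H // f x = z} with h | ⟨⟨x₀, hx₀⟩⟩
          · simp
          · refine Nat.card_le_card_of_injective (fun x => (⟨x.1.1 * x₀.1⁻¹, ?_⟩ : ↥C')) fun a b hab => ?_
            · refine ⟨H.mul_mem x.1.2 (H.inv_mem x₀.2), Subgroup.mem_centralizer_singleton_iff.2 ?_⟩
              have h1 : x.1.1⁻¹ * (T' * x.1.1 * T'⁻¹) = x₀.1⁻¹ * (T' * x₀.1 * T'⁻¹) :=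
                congrArg Subtype.val (x.2.trans hx₀.symm)
              calc x.1.1 * x₀.1⁻¹ * T' = x.1.1 * (x₀.1⁻¹ * (T' * x₀.1 * T'⁻¹)) * T' * x₀.1⁻¹ := by group
                _ = x.1.1 * (x.1.1⁻¹ * (T' * x.1.1 * T'⁻¹)) * T' * x₀.1⁻¹ := by rw [h1]
                _ = T' * (x.1.1 * x₀.1⁻¹) := by group
            · exact Subtype.ext (Subtype.ext (mul_right_cancel (congrArg Subtype.val hab)))
        have hsum : Nat.card ↥H ≤ Nat.card ↥Z * Nat.card ↥C' := by
          have := Fintype.ofFinite ↥Z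
          rw [← Nat.card_congr (Equiv.sigmaFiberEquiv f), Nat.card_sigma, Nat.card_eq_fintype_card (α := ↥Z)]
          exact le_trans (Finset.sum_le_sum fun z _ => hfib z) (by simp)
        rw [h32, hZcard] at hsum
        omega
      have hC'Z : Z ≤ C' := fun z hz => ⟨hZH hz, Subgroup.mem_centralizer_singleton_iff.2 (hZc z hz T').eq.symm⟩
      rcases hnoinv a ha C' hC'Z inf_le_left hC'inv with h3 | h3
      · omega
      · have hEq : C' = H := Subgroup.eq_of_le_of_card_ge inf_le_left (by omega)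
        refine hT'H (hCle fun y hy => ?_)
        exact Subgroup.mem_centralizer_singleton_iff.1 ((hEq.ge hy : y ∈ C')).2
  -- an element of order five acting as a power of `b`
  have hq : Nat.card (G ⧸ H) = 10 := by
    have := Subgroup.card_eq_card_quotient_mul_card_subgroup H
    rw [hG, h32] at this
    omega
  have hb5 : b ^ 5 ∈ H := by
    let P := (Sylow.nonempty (G := G ⧸ H) (p := 5)).some
    haveI : Fact (Nat.Prime 5) := ⟨by norm_num⟩
    have hP5 : Nat.card ↥(P : Subgroup (G ⧸ H)) = 5 := by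
      rw [P.card_eq_multiplicity, hq]
      rw [show (10 : ℕ) = 5 * 2 by norm_num, Nat.factorization_mul (by norm_num) (by norm_num),
        Nat.Prime.factorization (by norm_num : Nat.Prime 5)]
      simp [Nat.factorization_eq_zero_of_not_dvd]
    have hPi : (P : Subgroup (G ⧸ H)).index = 2 := by
      have := (P : Subgroup (G ⧸ H)).card_mul_index
      rw [hP5, hq] at this
      omega
    haveI := Subgroup.normal_of_index_eq_two hPi
    have hmem : (b : G ⧸ H) ∈ (P : Subgroup (G ⧸ H)) := by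
      rw [hb, QuotientGroup.mk_mul, Subgroup.mul_mem_iff_of_index_two hPi]
      constructor
      · intro h
        rw [QuotientGroup.mk_mul, QuotientGroup.mk_mul]
        exact (inferInstance : (P : Subgroup (G ⧸ H)).Normal).conj_mem _ h (a : G ⧸ H)
      · intro h
        rw [QuotientGroup.mk_mul, QuotientGroup.mk_mul, QuotientGroup.mk_inv] at h
        have := (inferInstance : (P : Subgroup (G ⧸ H)).Normal).conj_mem _ h (a : G ⧸ H)⁻¹
        simpa [mul_assoc] using this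
    have := pow_card_eq_one' (x := (⟨_, hmem⟩ : ↥(P : Subgroup (G ⧸ H))))
    rw [hP5] at this
    rw [← QuotientGroup.eq_one_iff, QuotientGroup.mk_pow]
    exact congrArg Subtype.val this
  set e : G := b ^ 32 with he
  have he5 : orderOf e = 5 := by
    refine orderOf_eq_prime ?_ fun h => hbH ?_
    · rw [he, ← pow_mul, mul_comm, pow_mul]
      have := pow_card_eq_one' (x := (⟨b ^ 5, hb5⟩ : ↥H))
      rw [h32] at this
      exact congrArg Subtype.val this
    · have h1 : b = b ^ 32 * ((b ^ 5) ^ 6)⁻¹ * b⁻¹ := by group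
      have h2 : b ^ 2 ∈ H := by
        have : b ^ 2 = b ^ 32 * ((b ^ 5) ^ 6)⁻¹ := by group
        rw [this, ← he, h, one_mul]
        exact H.inv_mem (H.pow_mem hb5 6)
      have : b = b ^ 5 * ((b ^ 2) ^ 2)⁻¹ := by group
      rw [this]
      exact H.mul_mem hb5 (H.inv_mem (H.pow_mem h2 2))
  -- the size bound
  let Wa : Subgroup G := W.map (MulAut.conj a).toMonoidHom
  have hWaH : Wa ≤ H := by
    rintro _ ⟨x, hx, rfl⟩
    exact hHn.conj_mem x hx.1 a
  have hWacard : Nat.card ↥Wa = Nat.card ↥W := Subgroup.card_map_of_injective (MulAut.conj a).injective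
  have hinterZ : W ⊓ Wa ≤ Z := by
    rintro x ⟨hxW, y, hy, hyx⟩
    change a * y * a⁻¹ = x at hyx
    have h1 : x⁻¹ * ((a * T * a⁻¹) * x * (a * T * a⁻¹)⁻¹) ∈ Z := by
      rw [← hyx]
      have : (a * y * a⁻¹)⁻¹ * ((a * T * a⁻¹) * (a * y * a⁻¹) * (a * T * a⁻¹)⁻¹) = a * (y⁻¹ * (T * y * T⁻¹)) * a⁻¹ := by group
      rw [this]
      exact hZn.conj_mem _ hy.2 a
    have h2 : x⁻¹ * (b * x * b⁻¹) ∈ Z := by
      have h3 := hZn.conj_mem _ h1 T
      have h4 := Z.mul_mem hxW.2 h3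
      convert h4 using 1
      rw [hb]; group
    have hpow : ∀ n : ℕ, x⁻¹ * (b ^ n * x * (b ^ n)⁻¹) ∈ Z := by
      intro n
      induction n with
      | zero => simp
      | succ n ih =>
        have h4 := Z.mul_mem h2 (hZn.conj_mem _ ih b)
        convert h4 using 1
        rw [pow_succ']; group
    exact hfive e he5 x hxW.1 (hpow 32)
  have hW8 : Nat.card ↥W ≤ 8 := by
    have hinj : Function.Injective (fun p : ↥W × ↥Wa => p) := fun p q h => h
    have h1 : Nat.card ↥W * Nat.card ↥Wa ≤ Nat.card ↥H * Nat.card ↥Z := by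
      rw [← Nat.card_prod, ← Nat.card_prod]
      refine Nat.card_le_card_of_injective
        (fun p : ↥W × ↥Wa => ((⟨p.1.1 * p.2.1, H.mul_mem (hWH p.1.2) (hWaH p.2.2)⟩ : ↥H),
          (⟨if h : p.1.1⁻¹ * ((Quotient.out (QuotientGroup.mk p.1 : ↥W ⧸ Z.subgroupOf W)) : ↥W).1 ∈ Z then
              p.1.1⁻¹ * ((Quotient.out (QuotientGroup.mk p.1 : ↥W ⧸ Z.subgroupOf W)) : ↥W).1 else 1,
            by split_ifs with h <;> [exact h; exact Z.one_mem]⟩ : ↥Z))) ?_
      rintro ⟨p1, p2⟩ ⟨q1, q2⟩ hpq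
      have hA : p1.1 * p2.1 = q1.1 * q2.1 := congrArg Subtype.val (congrArg Prod.fst hpq)
      have hB := congrArg Subtype.val (congrArg Prod.snd hpq)
      have hmem : ∀ r : ↥W, r.1⁻¹ * ((Quotient.out (QuotientGroup.mk r : ↥W ⧸ Z.subgroupOf W)) : ↥W).1 ∈ Z := by
        intro r
        obtain ⟨z, hz⟩ := QuotientGroup.mk_out_eq_mul (Z.subgroupOf W) r
        rw [hz, Subgroup.coe_mul, inv_mul_cancel_left]
        exact z.2
      simp only [dif_pos (hmem p1), dif_pos (hmem q1)] at hB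
      have hd : q1.1⁻¹ * p1.1 ∈ W ⊓ Wa := by
        refine ⟨W.mul_mem (W.inv_mem q1.2) p1.2, ?_⟩
        have : q1.1⁻¹ * p1.1 = q2.1 * p2.1⁻¹ := by
          calc q1.1⁻¹ * p1.1 = q1.1⁻¹ * (p1.1 * p2.1) * p2.1⁻¹ := by group
            _ = q1.1⁻¹ * (q1.1 * q2.1) * p2.1⁻¹ := by rw [hA]
            _ = q2.1 * p2.1⁻¹ := by group
        rw [this]
        exact Wa.mul_mem q2.2 (Wa.inv_mem p2.2)
      have hq' : (QuotientGroup.mk q1 : ↥W ⧸ Z.subgroupOf W) = QuotientGroup.mk p1 := by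
        rw [QuotientGroup.eq, Subgroup.mem_subgroupOf]
        exact hinterZ hd
      rw [hq'] at hB
      have h1 : p1 = q1 := Subtype.ext (inv_injective (mul_right_cancel hB))
      subst h1
      exact Prod.ext rfl (Subtype.ext (mul_left_cancel hA))
    rw [hWacard, h32, hZcard] at h1
    by_contra hlt
    have : 9 * 9 ≤ Nat.card ↥W * Nat.card ↥W := Nat.mul_le_mul (by omega) (by omega)
    omega
  have hC4 : Nat.card ↥C = 4 := by
    by_contra hne
    have hC8 : Nat.card ↥C = 8 := by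
      have hd := Subgroup.card_dvd_of_le (inf_le_left : C ≤ H)
      rw [h32] at hd
      have hle : Nat.card ↥C ≤ 8 := le_trans (Nat.le_of_dvd Nat.card_pos (Subgroup.card_dvd_of_le hCW)) hW8
      have : ∀ d : ℕ, d ≤ 8 → d ∣ 32 → 4 ≤ d → d ≠ 4 → d = 8 := by decide
      exact this _ hle hd hV4C hne
    have hWC : W = C := (Subgroup.eq_of_le_of_card_ge hCW (by omega)).symm
    have hTi : T⁻¹ = T := inv_eq_of_mul_eq_one_right (by rw [← pow_two, ← hT]; exact pow_orderOf_eq_one T)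
    let d : G → G := fun x => x⁻¹ * (T * x * T⁻¹)
    have hdT : ∀ x, T * d x * T⁻¹ = (d x)⁻¹ := by
      intro x
      have : T * d x * T⁻¹ = T * x⁻¹ * T⁻¹ * ((T * T) * x * (T⁻¹ * T⁻¹)) := by simp only [d]; group
      rw [this, hTi]
      have h2 : T * T = 1 := by rw [← pow_two, ← hT]; exact pow_orderOf_eq_one T
      rw [h2]
      simp only [d, hTi]
      rw [mul_inv_rev, inv_inv, mul_inv_rev, mul_inv_rev, hTi]
      group
    have hdC : ∀ x ∈ H, d x ∈ C ∧ d x ^ 2 = 1 := by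
      intro x hx
      have hdH : d x ∈ H := H.mul_mem (H.inv_mem hx) (hHn.conj_mem x hx T)
      have hdW : d x ∈ W := ⟨hdH, by
        rw [hdT x, ← mul_inv_rev, ← pow_two]
        exact Z.inv_mem (hsqZ _ hdH)⟩
      rw [hWC] at hdW
      refine ⟨hdW, ?_⟩
      have h1 : d x * T = T * d x := Subgroup.mem_centralizer_singleton_iff.1 hdW.2
      have h2 := hdT x
      rw [← h1, mul_inv_cancel_right] at h2
      rw [pow_two]
      exact eq_inv_iff_mul_eq_one.1 h2
    have hmod : ∀ x ∈ H, ∀ y ∈ H, (d y)⁻¹ * d x ∈ Z → y⁻¹ * x ∈ C := by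
      intro x hx y hy hz
      rw [← hWC]
      refine ⟨H.mul_mem (H.inv_mem hy) hx, ?_⟩
      have hdy := (hdC y hy).1
      have hyx : (y⁻¹ * x)⁻¹ * (T * (y⁻¹ * x) * T⁻¹) = ((y⁻¹ * x)⁻¹ * (d y)⁻¹ * (y⁻¹ * x) * d y) * ((d y)⁻¹ * d x) := by
        simp only [d]; group
      rw [hyx]
      exact Z.mul_mem (hcmZ _ (H.mul_mem (H.inv_mem hy) hx) _ hdy.1) hz
    -- `d` meets every coset of `Z` in `C`
    have hall : ∀ c ∈ C, c ^ 2 = 1 := by
      let f : ↥H ⧸ C.subgroupOf H → ↥C ⧸ Z.subgroupOf C := fun q =>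
        QuotientGroup.mk ⟨d (Quotient.out q).1, (hdC _ (Quotient.out q).2).1⟩
      have hfi : Function.Injective f := by
        intro q r hqr
        rw [QuotientGroup.eq, Subgroup.mem_subgroupOf] at hqr
        rw [← QuotientGroup.out_eq' q, ← QuotientGroup.out_eq' r, QuotientGroup.eq, Subgroup.mem_subgroupOf]
        exact hmod _ (Quotient.out r).2 _ (Quotient.out q).2 hqr
      have hcards : Nat.card (↥H ⧸ C.subgroupOf H) = Nat.card (↥C ⧸ Z.subgroupOf C) := by
        have h1 := Subgroup.card_eq_card_quotient_mul_card_subgroup (C.subgroupOf H)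
        have h2 := Subgroup.card_eq_card_quotient_mul_card_subgroup (Z.subgroupOf C)
        rw [Nat.card_congr (Subgroup.subgroupOfEquivOfLe (inf_le_left : C ≤ H)).toEquiv, h32, hC8] at h1
        rw [Nat.card_congr (Subgroup.subgroupOfEquivOfLe hZC).toEquiv, hC8, hZcard] at h2
        omega
      intro c hc
      obtain ⟨q, hq'⟩ := ((Nat.bijective_iff_injective_and_card f).2 ⟨hfi, hcards⟩).2 (QuotientGroup.mk ⟨c, hc⟩)
      rw [QuotientGroup.eq, Subgroup.mem_subgroupOf] at hq'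
      change (d (Quotient.out q).1)⁻¹ * c ∈ Z at hq'
      have hcd : c = d (Quotient.out q).1 * ((d (Quotient.out q).1)⁻¹ * c) := by group
      rw [hcd, (hZc _ hq' _).mul_pow, (hdC _ (Quotient.out q).2).2, hZsq _ hq', one_mul]
    have hEA : Cfsg.IsElementaryAbelian 2 C := by
      refine ⟨⟨⟨fun u v => Subtype.ext ?_⟩⟩, hall⟩
      have i : ∀ w ∈ C, w⁻¹ = w := fun w hw => inv_eq_of_mul_eq_one_right (by rw [← pow_two]; exact hall w hw)
      show u.1 * v.1 = v.1 * u.1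
      calc u.1 * v.1 = (u.1 * v.1)⁻¹ := (i _ (C.mul_mem u.2 v.2)).symm
        _ = v.1 * u.1 := by rw [mul_inv_rev, i _ v.2, i _ u.2]
    have := hminus C inf_le_left hEA
    omega
  refine ⟨hC4, ?_⟩
  rw [← Subgroup.eq_of_le_of_card_ge hV (by rw [hC4, hV4])]
  exact hVe

end Cfsg.Agent.S4405
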