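import Cfsg.Statements.S4406
import Mathlib

set_option autoImplicit false
open Cfsg

namespace Cfsg.Agent.S4406

set_option synthInstance.maxSize 4000
set_option maxRecDepth 20000

abbrev A4 := ↥(alternatingGroup (Fin 4))

theorem sq_of_four : ∀ v : A4, v ^ 4 = 1 → v ^ 2 = 1 := by decide

theorem cube_of_nine : ∀ v : A4, v ^ 9 = 1 → v ^ 3 = 1 := by decide

theorem card_sq : (Finset.univ.filter fun v : A4 => v ^ 2 = 1).card = 4 := by decide

theorem moves : ∀ a : A4, a ^ 3 = 1 → a ≠ 1 → ∀ v : A4, v ^ 2 = 1 → v ≠ 1 →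
    a * v * a⁻¹ ≠ v ∧ a * (a * v * a⁻¹) * a⁻¹ = v * (a * v * a⁻¹) := by decide

theorem three : ∀ a : A4, a ^ 3 = 1 → a ≠ 1 → ∀ v : A4, v ^ 2 = 1 → v ≠ 1 → ∀ w : A4, w ^ 2 = 1 → w ≠ 1 → w ≠ v →
    w = a * v * a⁻¹ ∨ w = a⁻¹ * v * a := by decide

/-- For every four-subgroup `B` of a Sylow 2-subgroup of `A₄ × A₄` meeting neither factor, a Sylow 3-subgroup has a
diagonal subgroup of order 3 normalizing `B`. -/
theorem result
    (X : Sylow 2 (↥(alternatingGroup (Fin 4)) × ↥(alternatingGroup (Fin 4))))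
    (Q : Sylow 3 (↥(alternatingGroup (Fin 4)) × ↥(alternatingGroup (Fin 4))))
    (B : Subgroup (↥(alternatingGroup (Fin 4)) × ↥(alternatingGroup (Fin 4)))) (hBX : B ≤ (X : Subgroup _)) (hB4 : Nat.card ↥B = 4) :
    B ⊓ ((X : Subgroup _) ⊓ Subgroup.prod ⊤ ⊥) ≠ ⊥ ∨ B ⊓ ((X : Subgroup _) ⊓ Subgroup.prod ⊥ ⊤) ≠ ⊥ ∨
      ∃ R : Subgroup (↥(alternatingGroup (Fin 4)) × ↥(alternatingGroup (Fin 4))), R ≤ (Q : Subgroup _) ∧ Nat.card ↥R = 3 ∧
        R ≠ (Q : Subgroup _) ⊓ Subgroup.prod ⊤ ⊥ ∧ R ≠ (Q : Subgroup _) ⊓ Subgroup.prod ⊥ ⊤ ∧ R ≤ Subgroup.normalizer (B : Set _) := by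
  classical
  refine or_iff_not_imp_left.2 fun h1 => or_iff_not_imp_left.2 fun h2 => ?_
  rw [not_not] at h1 h2
  have hB1 : ∀ x ∈ B, x.2 = 1 → x = 1 := fun x hx h =>
    (Subgroup.eq_bot_iff_forall _).1 h1 x ⟨hx, hBX hx, Subgroup.mem_prod.2 ⟨trivial, h⟩⟩
  have hB2 : ∀ x ∈ B, x.1 = 1 → x = 1 := fun x hx h =>
    (Subgroup.eq_bot_iff_forall _).1 h2 x ⟨hx, hBX hx, Subgroup.mem_prod.2 ⟨h, trivial⟩⟩
  have hsq : ∀ x ∈ B, x.1 ^ 2 = 1 ∧ x.2 ^ 2 = 1 := by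
    intro x hx
    have h : x ^ 4 = 1 := by
      have := pow_card_eq_one' (x := (⟨x, hx⟩ : ↥B))
      rw [hB4] at this
      exact Subtype.ext_iff.1 this
    exact ⟨sq_of_four _ (congrArg Prod.fst h), sq_of_four _ (congrArg Prod.snd h)⟩
  have surj : ∀ v : A4, v ^ 2 = 1 → ∃ w, (v, w) ∈ B := by
    intro v hv
    let f : ↥B → {u : A4 // u ^ 2 = 1} := fun x => ⟨x.1.1, (hsq x.1 x.2).1⟩
    have hf : Function.Injective f := fun x y hxy => by
      have h : x.1.1 = y.1.1 := congrArg Subtype.val hxy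
      have h0 := hB2 _ (B.mul_mem (B.inv_mem x.2) y.2) (by rw [Prod.fst_mul, Prod.fst_inv, h, inv_mul_cancel])
      exact Subtype.ext (inv_mul_eq_one.1 h0)
    have hc : Nat.card ↥B = Nat.card {u : A4 // u ^ 2 = 1} := by
      rw [hB4, Nat.card_eq_fintype_card, Fintype.card_subtype, card_sq]
    obtain ⟨x, hx⟩ := ((Nat.bijective_iff_injective_and_card f).2 ⟨hf, hc⟩).2 ⟨v, hv⟩
    refine ⟨x.1.2, ?_⟩
    have : x.1.1 = v := congrArg Subtype.val hx
    rw [← this]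
    exact x.2
  have hQ9 : Nat.card ↥(Q : Subgroup (A4 × A4)) = 9 := by
    have h12 : Nat.card A4 = 12 := by rw [Nat.card_eq_fintype_card]; rfl
    have hprod : (Nat.card (A4 × A4)).factorization 3 = 2 := by
      rw [Nat.card_prod, h12]
      rw [show (12 : ℕ) * 12 = 3 ^ 2 * 16 by norm_num, Nat.factorization_mul (by norm_num) (by norm_num),
        Nat.Prime.factorization_pow Nat.prime_three]
      simp [Nat.factorization_eq_zero_of_not_dvd]
    rw [Q.card_eq_multiplicity, hprod]; norm_num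
  have factor : ∀ (π : A4 × A4 →* A4), ∃ x ∈ (Q : Subgroup (A4 × A4)), x ≠ 1 ∧ π x = 1 := by
    intro π
    by_contra! hcon
    have hinj : Function.Injective ((π.comp (Q : Subgroup (A4 × A4)).subtype)) := (injective_iff_map_eq_one _).2 fun x hx => by
      by_contra hne
      exact hcon x.1 x.2 (fun h => hne (Subtype.ext h)) hx
    have := Subgroup.card_dvd_of_injective _ hinj
    rw [hQ9, Nat.card_eq_fintype_card] at this
    revert this
    decide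
  have h9 : ∀ x ∈ (Q : Subgroup (A4 × A4)), x ^ 9 = 1 := by
    intro x hx
    have := pow_card_eq_one' (x := (⟨x, hx⟩ : ↥(Q : Subgroup (A4 × A4))))
    rw [hQ9] at this
    exact Subtype.ext_iff.1 this
  obtain ⟨⟨a, a'⟩, haQ, hane, ha'⟩ := factor (MonoidHom.snd A4 A4)
  obtain ⟨⟨c', c⟩, hcQ, hcne, hc'⟩ := factor (MonoidHom.fst A4 A4)
  change a' = 1 at ha'
  change c' = 1 at hc'
  subst ha' hc'
  have ha3 : a ^ 3 = 1 := cube_of_nine a (congrArg Prod.fst (h9 _ haQ))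
  have hc3 : c ^ 3 = 1 := cube_of_nine c (congrArg Prod.snd (h9 _ hcQ))
  have ha1 : a ≠ 1 := fun h => hane (by rw [h]; rfl)
  have hc1 : c ≠ 1 := fun h => hcne (by rw [h]; rfl)
  obtain ⟨v, hv, hv1⟩ : ∃ v : A4, v ^ 2 = 1 ∧ v ≠ 1 := by decide
  obtain ⟨hv', hvv⟩ := moves a ha3 ha1 v hv hv1
  obtain ⟨w, hw⟩ := surj v hv
  have hv2 : (a * v * a⁻¹) ^ 2 = 1 := by rw [conj_pow, hv, mul_one, mul_inv_cancel]
  obtain ⟨w', hw'⟩ := surj _ hv2
  have hw1 : w ≠ 1 := fun h => hv1 (congrArg Prod.fst (hB1 _ hw h))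
  have hw'1 : w' ≠ 1 := fun h => by
    have := congrArg Prod.fst (hB1 _ hw' h)
    exact hv1 (by simpa using this)
  have hww : w' ≠ w := fun h => by
    have h0 := hB1 _ (B.mul_mem (B.inv_mem hw) hw') (by simp [h])
    exact hv' (inv_mul_eq_one.1 (congrArg Prod.fst h0)).symm
  obtain ⟨d, hdQ, hd3, hd1, hdw⟩ : ∃ d : A4, ((1 : A4), d) ∈ (Q : Subgroup (A4 × A4)) ∧ d ^ 3 = 1 ∧ d ≠ 1 ∧ w' = d * w * d⁻¹ := by
    rcases three c hc3 hc1 w (hsq _ hw).2 hw1 w' (hsq _ hw').2 hw'1 hww with h | h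
    · exact ⟨c, hcQ, hc3, hc1, h⟩
    · refine ⟨c⁻¹, ?_, by rw [inv_pow, hc3, inv_one], inv_ne_one.2 hc1, by rw [h, inv_inv]⟩
      have := (Q : Subgroup (A4 × A4)).inv_mem hcQ
      simpa using this
  obtain ⟨-, hdd⟩ := moves d hd3 hd1 w (hsq _ hw).2 hw1
  let r : A4 × A4 := (a, d)
  have hr : r ∈ (Q : Subgroup (A4 × A4)) := by
    have := (Q : Subgroup (A4 × A4)).mul_mem haQ hdQ
    simpa [r] using this
  have hr3 : r ^ 3 = 1 := Prod.ext ha3 hd3
  have hcard : Nat.card ↥(Subgroup.zpowers r) = 3 := by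
    rw [Nat.card_zpowers]
    exact orderOf_eq_prime hr3 (fun h => ha1 (congrArg Prod.fst h))
  refine ⟨Subgroup.zpowers r, Subgroup.zpowers_le.2 hr, hcard, fun h => ?_, fun h => ?_, Subgroup.zpowers_le.2 ?_⟩
  · have hm := h ▸ Subgroup.mem_zpowers r
    exact hd1 (Subgroup.mem_prod.1 hm.2).2
  · have hm := h ▸ Subgroup.mem_zpowers r
    exact ha1 (Subgroup.mem_prod.1 hm.2).1
  · have hmap : ∀ x ∈ B, r * x * r⁻¹ ∈ B := by
      intro x hx
      have hwv : (v * (a * v * a⁻¹), w * w') ∈ B := B.mul_mem hw hw'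
      have huniq : ∀ u z : A4, (u, z) ∈ B → x.1 = u → x = (u, z) := by
        intro u z huz h
        have h0 := hB2 _ (B.mul_mem (B.inv_mem hx) huz) (by simp [h])
        exact inv_mul_eq_one.1 h0
      have hcases : x.1 = 1 ∨ x.1 = v ∨ x.1 = a * v * a⁻¹ ∨ x.1 = v * (a * v * a⁻¹) := by
        have : ∀ a : A4, a ^ 3 = 1 → a ≠ 1 → ∀ v : A4, v ^ 2 = 1 → v ≠ 1 → ∀ u : A4, u ^ 2 = 1 →
            u = 1 ∨ u = v ∨ u = a * v * a⁻¹ ∨ u = v * (a * v * a⁻¹) := by decide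
        exact this a ha3 ha1 v hv hv1 _ (hsq x hx).1
      rcases hcases with h | h | h | h
      · rw [hB2 x hx h, mul_one, mul_inv_cancel]; exact B.one_mem
      · rw [huniq v w hw h]
        show (a * v * a⁻¹, d * w * d⁻¹) ∈ B
        rw [← hdw]; exact hw'
      · rw [huniq _ w' hw' h]
        show (a * (a * v * a⁻¹) * a⁻¹, d * w' * d⁻¹) ∈ B
        rw [hvv, hdw, hdd, ← hdw]; exact hwv
      · rw [huniq _ _ hwv h]
        have h1' : r * (v, w) * r⁻¹ ∈ B := by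
          show (a * v * a⁻¹, d * w * d⁻¹) ∈ B
          rw [← hdw]; exact hw'
        have h2' : r * (a * v * a⁻¹, w') * r⁻¹ ∈ B := by
          show (a * (a * v * a⁻¹) * a⁻¹, d * w' * d⁻¹) ∈ B
          rw [hvv, hdw, hdd, ← hdw]; exact hwv
        have := B.mul_mem h1' h2'
        have e : r * ((v * (a * v * a⁻¹), w * w') : A4 × A4) * r⁻¹ = r * (v, w) * r⁻¹ * (r * (a * v * a⁻¹, w') * r⁻¹) := by
          rw [show ((v * (a * v * a⁻¹), w * w') : A4 × A4) = (v, w) * (a * v * a⁻¹, w') from rfl]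
          group
        rwa [e]
    refine Subgroup.mem_normalizer_iff.2 fun x => ⟨hmap x, fun hx => ?_⟩
    have hinv : r⁻¹ = r * r := by
      rw [inv_eq_iff_mul_eq_one, ← mul_assoc, ← pow_two, ← pow_succ, hr3]
    have := hmap _ (hmap _ hx)
    have heq : r * (r * (r * x * r⁻¹) * r⁻¹) * r⁻¹ = (r * r * r) * x * (r * r * r)⁻¹ := by group
    rw [heq, show r * r * r = 1 by rw [← pow_two, ← pow_succ, hr3], inv_one, one_mul, mul_one] at this
    exact this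

end Cfsg.Agent.S4406
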