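import Cfsg.Statements.S4407
import Mathlib

set_option autoImplicit false
open Cfsg

namespace Cfsg.Agent.S4407

/-- The module in the case where it is the sum of the fixed spaces of two swapped lines. -/
theorem core {S : Type*} [Group S] {M : Type*} [AddCommGroup M] [Module (ZMod 2) M] [Finite M] [Nontrivial M]
    (ρ : Representation (ZMod 2) S M)
    (hirr : ∀ N : Submodule (ZMod 2) M, (∀ s : S, ∀ m ∈ N, ρ s m ∈ N) → N = ⊥ ∨ N = ⊤)
    (a b r s : S) (hgen : Subgroup.closure ({a, b, r, s} : Set S) = ⊤)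
    (hb3 : b ^ 3 = 1) (hab : a * b = b * a) (hr4 : r ^ 4 = 1) (hs2 : s ^ 2 = 1)
    (hra : r * a = b * r) (hrb : r * b = a⁻¹ * r) (hsa : s * a = a * s) (hsb : s * b = b⁻¹ * s)
    (hsr : s * r = r⁻¹ * s)
    (hfix : ∀ m : M, ρ a m = m → ρ b m = m → m = 0)
    (htop : ∀ m : M, ∃ u w : M, ρ a u = u ∧ ρ b w = w ∧ m = u + w) :
    Nat.card M = 16 ∧ Nat.card {m : M // ρ (r ^ 2) m = m ∧ ρ s m = m} = 4 ∧
      Nat.card {m : M // ρ (r ^ 2) m = m ∧ ρ (r * s) m = m} = 2 := by
  classical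
  have mulap : ∀ (g h : S) (m : M), ρ (g * h) m = ρ g (ρ h m) := fun g h m => by rw [map_mul]; rfl
  have oneap : ∀ m : M, ρ 1 m = m := fun m => by rw [map_one]; rfl
  have invap : ∀ (g : S) (m : M), ρ g m = m → ρ g⁻¹ m = m := fun g m h => by
    conv_lhs => rw [← h, ← mulap, inv_mul_cancel, oneap]
  have dbl : ∀ x : M, x + x = 0 := fun x => by
    rw [← two_smul (ZMod 2) x, show (2 : ZMod 2) = 0 from rfl, zero_smul]
  have negx : ∀ x : M, -x = x := fun x => neg_eq_of_add_eq_zero_left (dbl x)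
  have cancel : ∀ x y : M, x + y = 0 → x = y := fun x y h => by
    rw [eq_neg_of_add_eq_zero_left h, negx]
  -- group facts
  set z := r ^ 2 with hz
  set t := s * z with htdef
  have rinv : r⁻¹ = r * z := inv_eq_of_mul_eq_one_right (by rw [hz]; calc r * (r * r ^ 2) = r ^ 4 := by group
    _ = 1 := hr4)
  have hzz : z * z = 1 := by rw [hz, ← pow_add]; exact hr4
  have hza : z * a = a⁻¹ * z := by
    rw [hz, pow_two, mul_assoc, hra, ← mul_assoc, hrb, mul_assoc]
  have hzb : z * b = b⁻¹ * z := by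
    rw [hz, pow_two, mul_assoc, hrb, ← mul_assoc]
    have : r * a⁻¹ = b⁻¹ * r := by
      calc r * a⁻¹ = b⁻¹ * (b * r) * a⁻¹ := by group
        _ = b⁻¹ * (r * a) * a⁻¹ := by rw [hra]
        _ = b⁻¹ * r := by group
    rw [this, mul_assoc]
  have hsz : s * z = z * s := by
    have h1 : s * r * r = r⁻¹ * r⁻¹ * s := by rw [hsr, mul_assoc, hsr, mul_assoc]
    have h2 : z⁻¹ = z := inv_eq_of_mul_eq_one_right hzz
    rw [hz, pow_two, ← mul_assoc, h1, ← mul_inv_rev, ← pow_two, ← hz, h2]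
  have htt : t * t = 1 := by
    calc t * t = s * (z * s) * z := by rw [htdef]; simp only [mul_assoc]
      _ = s * (s * z) * z := by rw [hsz]
      _ = (s ^ 2) * (z * z) := by rw [pow_two]; simp only [mul_assoc]
      _ = 1 := by rw [hs2, hzz, one_mul]
  have htb : t * b = b * t := by
    have : s * b⁻¹ = b * s := by
      calc s * b⁻¹ = b * (b⁻¹ * s) * b⁻¹ := by group
        _ = b * (s * b) * b⁻¹ := by rw [hsb]
        _ = b * s := by group
    calc t * b = s * (z * b) := by rw [htdef, mul_assoc]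
      _ = (s * b⁻¹) * z := by rw [hzb, mul_assoc]
      _ = b * t := by rw [this, htdef, mul_assoc]
  have hta : t * a = a⁻¹ * t := by
    have : s * a⁻¹ = a⁻¹ * s := by
      calc s * a⁻¹ = a⁻¹ * (a * s) * a⁻¹ := by group
        _ = a⁻¹ * (s * a) * a⁻¹ := by rw [hsa]
        _ = a⁻¹ * s := by group
    calc t * a = s * (z * a) := by rw [htdef, mul_assoc]
      _ = (s * a⁻¹) * z := by rw [hza, mul_assoc]
      _ = a⁻¹ * t := by rw [this, htdef, mul_assoc]
  have hzt : z * t = t * z := by rw [htdef, ← mul_assoc, ← hsz]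
  have hst : s * t = t * s := by rw [htdef, mul_assoc s z s, ← hsz]
  -- projection to the two summands
  have uniq : ∀ u w : M, ρ a u = u → ρ b w = w → u + w = 0 → u = 0 ∧ w = 0 := by
    intro u w hu hw h
    have huw : u = w := cancel u w h
    subst huw
    exact ⟨hfix u hu hw, hfix u hu hw⟩
  have decomp : ∀ u w u' w' : M, ρ a u = u → ρ b w = w → ρ a u' = u' → ρ b w' = w' →
      u + w = u' + w' → u = u' ∧ w = w' := by
    intro u w u' w' h1 h2 h3 h4 h
    have := uniq (u + u') (w + w') (by rw [map_add, h1, h3]) (by rw [map_add, h2, h4])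
      (by rw [add_add_add_comm, h, dbl])
    exact ⟨cancel _ _ this.1, cancel _ _ this.2⟩
  have Rab : ∀ u, ρ a u = u → ρ b (ρ r u) = ρ r u := fun u h => by rw [← mulap, ← hra, mulap, h]
  have Rba : ∀ w, ρ b w = w → ρ a (ρ r w) = ρ r w := fun w h => by
    have : a * r = r * b⁻¹ := by
      calc a * r = a * (r * b) * b⁻¹ := by group
        _ = a * (a⁻¹ * r) * b⁻¹ := by rw [hrb]
        _ = r * b⁻¹ := by group
    rw [← mulap, this, mulap, invap b w h]
  -- invariant submodules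
  have inv_sub : ∀ W : Submodule (ZMod 2) M, (∀ g ∈ ({a, b, r, s} : Set S), ∀ m ∈ W, ρ g m ∈ W) → W = ⊥ ∨ W = ⊤ := by
    intro W hW
    refine hirr W fun g => ?_
    have hg : g ∈ Subgroup.closure ({a, b, r, s} : Set S) := hgen ▸ Subgroup.mem_top g
    induction hg using Subgroup.closure_induction with
    | mem g hg => exact hW g hg
    | one => intro m hm; rwa [oneap]
    | mul g h _ _ ig ih => intro m hm; rw [mulap]; exact ig _ (ih m hm)
    | inv g _ ig =>
      intro m hm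
      have hinj : Function.Injective (fun x : W => (⟨ρ g x.1, ig _ x.2⟩ : W)) := fun x y h => by
        have := congrArg (fun q : W => ρ g⁻¹ q.1) h
        simp only [← mulap, inv_mul_cancel, oneap] at this
        exact Subtype.ext this
      obtain ⟨x, hx⟩ := (Finite.injective_iff_surjective.1 hinj) ⟨m, hm⟩
      have : ρ g x.1 = m := congrArg Subtype.val hx
      rw [← this, ← mulap, inv_mul_cancel, oneap]
      exact x.2
  -- `t` is trivial on the first summand
  let U : Submodule (ZMod 2) M :=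
    { carrier := {u | ρ a u = u ∧ ρ t u = u}
      add_mem' := fun {x y} hx hy => ⟨by rw [map_add, hx.1, hy.1], by rw [map_add, hx.2, hy.2]⟩
      zero_mem' := ⟨map_zero _, map_zero _⟩
      smul_mem' := fun c x hx => ⟨by rw [map_smul, hx.1], by rw [map_smul, hx.2]⟩ }
  have Ua : ∀ (g : S), g * a = a * g ∨ g * a = a⁻¹ * g → ∀ u, ρ a u = u → ρ a (ρ g u) = ρ g u := by
    intro g hg u hu
    rcases hg with h | h
    · rw [← mulap, ← h, mulap, hu]
    · have : a * g = g * a⁻¹ := by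
        calc a * g = a * (g * a) * a⁻¹ := by group
          _ = a * (a⁻¹ * g) * a⁻¹ := by rw [h]
          _ = g * a⁻¹ := by group
      rw [← mulap, this, mulap, invap a u hu]
  have Ub : ∀ u ∈ U, ρ b u ∈ U := fun u hu => ⟨Ua b (Or.inl hab.symm) u hu.1, by rw [← mulap, htb, mulap, hu.2]⟩
  have Us : ∀ u ∈ U, ρ s u ∈ U := fun u hu => ⟨Ua s (Or.inl hsa) u hu.1, by rw [← mulap, ← hst, mulap, hu.2]⟩
  have Uz : ∀ u ∈ U, ρ z u ∈ U := fun u hu => ⟨Ua z (Or.inr hza) u hu.1, by rw [← mulap, ← hzt, mulap, hu.2]⟩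
  have gen_inv : ∀ Y : Submodule (ZMod 2) M, Y ≤ U → (∀ y ∈ Y, ρ b y ∈ Y) → (∀ y ∈ Y, ρ s y ∈ Y) →
      Y ≠ ⊥ → ∀ u, ρ a u = u → u ∈ Y := by
    intro Y hYU hYb hYs hY u hu
    have hYz : ∀ y ∈ Y, ρ z y ∈ Y := fun y hy => by
      have h := hYs _ hy
      have e : ρ z y = ρ s (ρ t y) := by
        rw [← mulap]
        congr 2
        rw [htdef, ← mul_assoc, ← pow_two, hs2, one_mul]
      rw [e, (hYU hy).2]
      exact h
    let N : Submodule (ZMod 2) M := Y ⊔ Y.map (ρ r)
    have hN : N = ⊤ := by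
      refine (inv_sub N ?_).resolve_left fun h => hY (le_bot_iff.1 (h ▸ le_sup_left))
      intro g hg m hm
      obtain ⟨y, hy, _, ⟨y', hy', rfl⟩, rfl⟩ := Submodule.mem_sup.1 hm
      rw [map_add]
      simp only [Set.mem_insert_iff, Set.mem_singleton_iff] at hg
      rcases hg with rfl | rfl | rfl | rfl
      · refine N.add_mem (Submodule.mem_sup_left ?_) (Submodule.mem_sup_right ?_)
        · rw [(hYU hy).1]; exact hy
        · refine ⟨ρ b⁻¹ y', ?_, ?_⟩
          · have hb2 : b⁻¹ = b * b := inv_eq_of_mul_eq_one_right (by rw [← pow_two, ← pow_succ']; exact hb3)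
            rw [hb2, mulap]
            exact hYb _ (hYb _ hy')
          · rw [← mulap, ← mulap]
            congr 2
            calc r * b⁻¹ = g * (g⁻¹ * r) * b⁻¹ := by group
              _ = g * (r * b) * b⁻¹ := by rw [hrb]
              _ = g * r := by group
      · refine N.add_mem (Submodule.mem_sup_left (hYb y hy)) (Submodule.mem_sup_right ⟨y', hy', ?_⟩)
        rw [Rab y' (hYU hy').1]
      · refine N.add_mem (Submodule.mem_sup_right ⟨y, hy, rfl⟩) (Submodule.mem_sup_left ?_)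
        rw [← mulap, ← pow_two]
        exact hYz y' hy'
      · refine N.add_mem (Submodule.mem_sup_left (hYs y hy)) (Submodule.mem_sup_right ⟨ρ z (ρ g y'), hYz _ (hYs _ hy'), ?_⟩)
        rw [← mulap, ← mulap, ← mulap, hsr, rinv, mul_assoc]
    obtain ⟨y, hy, _, ⟨y', hy', rfl⟩, he⟩ := Submodule.mem_sup.1 (hN ▸ Submodule.mem_top : u ∈ N)
    have := decomp y (ρ r y') u 0 (hYU hy).1 (Rab _ (hYU hy').1) hu (map_zero _) (by rw [he, add_zero])
    rw [← this.1]; exact hy
  obtain ⟨u₀, hu₀, hu₀ne⟩ : ∃ u, ρ a u = u ∧ u ≠ 0 := by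
    obtain ⟨m, hm⟩ := exists_ne (0 : M)
    obtain ⟨u, w, hu, hw, rfl⟩ := htop m
    by_cases h : u = 0
    · refine ⟨ρ r w, Rba w hw, fun h0 => hm ?_⟩
      have : w = 0 := by
        have := congrArg (ρ r⁻¹) h0
        rwa [← mulap, inv_mul_cancel, oneap, map_zero] at this
      rw [h, this, add_zero]
    · exact ⟨u, hu, h⟩
  have hUne : U ≠ ⊥ := by
    intro h
    have h1 : u₀ + ρ t u₀ ∈ U := ⟨by rw [map_add, hu₀, Ua t (Or.inr hta) u₀ hu₀],
      by rw [map_add, ← mulap, htt, oneap, add_comm]⟩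
    rw [h, Submodule.mem_bot] at h1
    have h2 : u₀ ∈ U := ⟨hu₀, (cancel _ _ h1).symm⟩
    rw [h, Submodule.mem_bot] at h2
    exact hu₀ne h2
  have hUall : ∀ u, ρ a u = u → u ∈ U := gen_inv U le_rfl Ub Us hUne
  -- a fixed vector of `s`
  obtain ⟨w, hw, hws, hw0⟩ : ∃ w, ρ a w = w ∧ ρ s w = w ∧ w ≠ 0 := by
    by_cases h : u₀ + ρ s u₀ = 0
    · exact ⟨u₀, hu₀, (cancel _ _ h).symm, hu₀ne⟩
    · exact ⟨u₀ + ρ s u₀, by rw [map_add, hu₀, Ua s (Or.inl hsa) u₀ hu₀],
        by rw [map_add, ← mulap, ← pow_two, hs2, oneap, add_comm], h⟩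
  set v := ρ b w with hv
  have hva : ρ a v = v := Ua b (Or.inl hab.symm) w hw
  have hbv : ρ b v = w + v := by
    have h1 : ρ a (w + v + ρ b v) = w + v + ρ b v := by
      rw [map_add, map_add, hw, hva, Ua b (Or.inl hab.symm) v hva]
    have h2 : ρ b (w + v + ρ b v) = w + v + ρ b v := by
      have h3 : ρ b (ρ b v) = w := by
        rw [hv, ← mulap, ← mulap]
        have : b * (b * b) = 1 := by rw [← pow_two, ← pow_succ']; exact hb3
        rw [mul_assoc, this, oneap]
      rw [map_add, map_add, ← hv, h3]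
      abel
    exact (cancel _ _ (hfix _ h1 h2)).symm
  have hsv : ρ s v = w + v := by
    rw [hv, ← mulap, hsb, mulap, hws, ← hv]
    have hb2 : b⁻¹ = b * b := inv_eq_of_mul_eq_one_right (by rw [← pow_two, ← pow_succ']; exact hb3)
    rw [hb2, mulap, ← hv, hbv]
  have hvw : v ≠ w := fun h => hw0 (hfix w hw h)
  have hv0 : v ≠ 0 := fun h => by
    apply hw0
    have := congrArg (ρ b⁻¹) h
    rwa [hv, ← mulap, inv_mul_cancel, oneap, map_zero] at this
  have hwv0 : w + v ≠ 0 := fun h => hvw (cancel _ _ h).symm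
  let Y : Submodule (ZMod 2) M := Submodule.span (ZMod 2) {w, v}
  have hYmem : ∀ y, y ∈ Y ↔ y = 0 ∨ y = w ∨ y = v ∨ y = w + v := by
    intro y
    rw [Submodule.mem_span_pair]
    constructor
    · rintro ⟨i, j, rfl⟩
      have : ∀ i : ZMod 2, i = 0 ∨ i = 1 := by decide
      rcases this i with rfl | rfl <;> rcases this j with rfl | rfl <;> simp
    · rintro (rfl | rfl | rfl | rfl)
      · exact ⟨0, 0, by simp⟩
      · exact ⟨1, 0, by simp⟩
      · exact ⟨0, 1, by simp⟩
      · exact ⟨1, 1, by simp⟩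
  have hYtop : ∀ u, ρ a u = u → u ∈ Y := by
    refine gen_inv Y (fun y hy => ?_) ?_ ?_ ?_
    · refine hUall y ?_
      rcases (hYmem y).1 hy with rfl | rfl | rfl | rfl
      · exact map_zero _
      · exact hw
      · exact hva
      · rw [map_add, hw, hva]
    · intro y hy
      rw [hYmem]
      rcases (hYmem y).1 hy with rfl | rfl | rfl | rfl
      · exact Or.inl (map_zero _)
      · exact Or.inr (Or.inr (Or.inl rfl))
      · exact Or.inr (Or.inr (Or.inr hbv))
      · refine Or.inr (Or.inl ?_)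
        rw [map_add, hbv, ← hv, add_left_comm, dbl, add_zero]
    · intro y hy
      rw [hYmem]
      rcases (hYmem y).1 hy with rfl | rfl | rfl | rfl
      · exact Or.inl (map_zero _)
      · exact Or.inr (Or.inl hws)
      · exact Or.inr (Or.inr (Or.inr hsv))
      · refine Or.inr (Or.inr (Or.inl ?_))
        rw [map_add, hws, hsv, ← add_assoc, dbl, zero_add]
    · intro h
      have : w ∈ Y := (hYmem w).2 (Or.inr (Or.inl rfl))
      rw [h, Submodule.mem_bot] at this
      exact hw0 this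
  have hY4 : Nat.card {u : M // ρ a u = u} = 4 := by
    have h : Nat.card {u : M // ρ a u = u} = ({0, w, v, w + v} : Finset M).card := by
      rw [← Nat.card_eq_finsetCard]
      refine Nat.card_congr (Equiv.subtypeEquivRight fun u => ?_)
      simp only [Finset.mem_insert, Finset.mem_singleton, ← hYmem]
      refine ⟨hYtop u, fun hy => ?_⟩
      rcases (hYmem u).1 hy with rfl | rfl | rfl | rfl
      · exact map_zero _
      · exact hw
      · exact hva
      · rw [map_add, hw, hva]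
    rw [h]
    repeat rw [Finset.card_insert_of_notMem]
    · simp
    · simp only [Finset.mem_singleton]; intro h; exact hw0 (by simpa using h.symm)
    · simp only [Finset.mem_insert, Finset.mem_singleton, not_or]
      exact ⟨hvw.symm, fun h => hv0 (by simpa using h)⟩
    · simp only [Finset.mem_insert, Finset.mem_singleton, not_or]
      exact ⟨hw0.symm, hv0.symm, hwv0.symm⟩
  have hzs : ∀ u, ρ a u = u → ρ z u = ρ s u := fun u hu => by
    have h := (hUall u hu).2
    calc ρ z u = ρ (s * t) u := by rw [htdef, ← mul_assoc, ← pow_two, hs2, one_mul]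
      _ = ρ s u := by rw [mulap, h]
  have hsfix : ∀ u, ρ a u = u → (ρ s u = u ↔ u = 0 ∨ u = w) := by
    intro u hu
    constructor
    · intro h
      rcases (hYmem u).1 (hYtop u hu) with rfl | rfl | rfl | rfl
      · exact Or.inl rfl
      · exact Or.inr rfl
      · rw [hsv] at h; exact absurd (by simpa using h) hw0
      · rw [map_add, hws, hsv, ← add_assoc, dbl, zero_add] at h
        exact absurd (by simpa using h.symm) hw0
    · rintro (rfl | rfl)
      · exact map_zero _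
      · exact hws
  -- coordinates
  let e : {u : M // ρ a u = u} × {u : M // ρ a u = u} → M := fun p => p.1.1 + ρ r p.2.1
  have hebij : Function.Bijective e := by
    constructor
    · intro p q h
      obtain ⟨h1, h2⟩ := decomp _ _ _ _ p.1.2 (Rab _ p.2.2) q.1.2 (Rab _ q.2.2) h
      refine Prod.ext (Subtype.ext h1) (Subtype.ext ?_)
      have := congrArg (ρ r⁻¹) h2
      rwa [← mulap, ← mulap, inv_mul_cancel, oneap, oneap] at this
    · intro m
      obtain ⟨u, x, hu, hx, rfl⟩ := htop m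
      have hy : ρ a (ρ r⁻¹ x) = ρ r⁻¹ x := by
        rw [← mulap, show a * r⁻¹ = r⁻¹ * b by
          calc a * r⁻¹ = r⁻¹ * (r * a) * r⁻¹ := by group
            _ = r⁻¹ * (b * r) * r⁻¹ := by rw [hra]
            _ = r⁻¹ * b := by group, mulap, hx]
      exact ⟨(⟨u, hu⟩, ⟨ρ r⁻¹ x, hy⟩), by show u + ρ r (ρ r⁻¹ x) = _; rw [← mulap, mul_inv_cancel, oneap]⟩
  have hM16 : Nat.card M = 16 := by
    rw [← Nat.card_eq_of_bijective e hebij, Nat.card_prod, hY4]
  have hrz : ∀ u, ρ z (ρ r u) = ρ r (ρ z u) := fun u => by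
    rw [← mulap, ← mulap, hz, ← pow_succ, ← pow_succ']
  have hrs : ∀ u, ρ a u = u → ρ s (ρ r u) = ρ r (ρ z (ρ s u)) := fun u _ => by
    rw [← mulap, ← mulap, ← mulap, hsr, rinv, mul_assoc]
  have key1 : ∀ p : {u : M // ρ a u = u} × {u : M // ρ a u = u},
      (ρ z (e p) = e p ∧ ρ s (e p) = e p) ↔ (p.1.1 = 0 ∨ p.1.1 = w) ∧ (p.2.1 = 0 ∨ p.2.1 = w) := by
    rintro ⟨⟨u, hu⟩, ⟨x, hx⟩⟩
    have hss : ∀ y, ρ s (ρ s y) = y := fun y => by rw [← mulap, ← pow_two, hs2, oneap]
    have Us' : ∀ y, ρ a y = y → ρ a (ρ s y) = ρ s y := Ua s (Or.inl hsa)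
    show (ρ z (u + ρ r x) = u + ρ r x ∧ ρ s (u + ρ r x) = u + ρ r x) ↔ _
    rw [map_add, map_add, hrz, hrs x hx, hzs u hu, hzs x hx, hzs _ (Us' x hx), hss,
      ← hsfix u hu, ← hsfix x hx]
    constructor
    · rintro ⟨h1, -⟩
      obtain ⟨h2, h3⟩ := decomp _ _ _ _ (Us' u hu) (Rab _ (Us' x hx)) hu (Rab _ hx) h1
      refine ⟨h2, ?_⟩
      have := congrArg (ρ r⁻¹) h3
      rwa [← mulap, inv_mul_cancel, oneap, ← mulap, inv_mul_cancel, oneap] at this
    · rintro ⟨h1, h2⟩
      rw [h1, h2]; exact ⟨rfl, rfl⟩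
  have key2 : ∀ p : {u : M // ρ a u = u} × {u : M // ρ a u = u},
      (ρ z (e p) = e p ∧ ρ (r * s) (e p) = e p) ↔ (p.1.1 = 0 ∨ p.1.1 = w) ∧ p.2.1 = p.1.1 := by
    rintro ⟨⟨u, hu⟩, ⟨x, hx⟩⟩
    have Us' : ∀ y, ρ a y = y → ρ a (ρ s y) = ρ s y := Ua s (Or.inl hsa)
    have hrsr : ρ (r * s) (ρ r x) = ρ s x := by
      rw [← mulap, mul_assoc, hsr, ← mul_assoc, mul_inv_cancel, one_mul]
    show (ρ z (u + ρ r x) = u + ρ r x ∧ ρ (r * s) (u + ρ r x) = u + ρ r x) ↔ _
    rw [map_add, map_add, hrz, hzs u hu, hzs x hx, hrsr, mulap r s u, ← hsfix u hu]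
    have rinj : ∀ p q, ρ r p = ρ r q → p = q := fun p q h => by
      have := congrArg (ρ r⁻¹) h
      rwa [← mulap, ← mulap, inv_mul_cancel, oneap, oneap] at this
    constructor
    · rintro ⟨h1, h2⟩
      obtain ⟨a1, a2⟩ := decomp _ _ _ _ (Us' u hu) (Rab _ (Us' x hx)) hu (Rab _ hx) h1
      rw [add_comm (ρ r (ρ s u))] at h2
      obtain ⟨b1, -⟩ := decomp _ _ _ _ (Us' x hx) (Rab _ (Us' u hu)) hu (Rab _ hx) h2
      exact ⟨a1, by show x = u; rw [← b1, rinj _ _ a2]⟩
    · rintro ⟨h1, rfl : x = u⟩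
      rw [h1]
      exact ⟨rfl, add_comm _ _⟩
  have two : Nat.card {u : {u : M // ρ a u = u} // u.1 = 0 ∨ u.1 = w} = 2 := by
    refine Nat.card_eq_two_iff.2 ⟨⟨⟨0, map_zero _⟩, Or.inl rfl⟩, ⟨⟨w, hw⟩, Or.inr rfl⟩, ?_, ?_⟩
    · intro h
      exact hw0 (congrArg (fun q => q.1.1) h).symm
    · refine Set.eq_univ_of_forall fun q => ?_
      rcases q.2 with h | h
      · exact Or.inl (Subtype.ext (Subtype.ext h))
      · exact Or.inr (Subtype.ext (Subtype.ext h))
  refine ⟨hM16, ?_, ?_⟩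
  · calc Nat.card {m : M // ρ (r ^ 2) m = m ∧ ρ s m = m}
        = Nat.card {p : {u : M // ρ a u = u} × {u : M // ρ a u = u} // (p.1.1 = 0 ∨ p.1.1 = w) ∧ (p.2.1 = 0 ∨ p.2.1 = w)} :=
          (Nat.card_congr ((Equiv.ofBijective e hebij).subtypeEquiv fun p => (key1 p).symm)).symm
      _ = 4 := by
          rw [Nat.card_congr (Equiv.subtypeProdEquivProd (p := fun u : {u : M // ρ a u = u} => u.1 = 0 ∨ u.1 = w)
            (q := fun u : {u : M // ρ a u = u} => u.1 = 0 ∨ u.1 = w)), Nat.card_prod, two]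
  · calc Nat.card {m : M // ρ (r ^ 2) m = m ∧ ρ (r * s) m = m}
        = Nat.card {p : {u : M // ρ a u = u} × {u : M // ρ a u = u} // (p.1.1 = 0 ∨ p.1.1 = w) ∧ p.2.1 = p.1.1} :=
          (Nat.card_congr ((Equiv.ofBijective e hebij).subtypeEquiv fun p => (key2 p).symm)).symm
      _ = Nat.card {u : {u : M // ρ a u = u} // u.1 = 0 ∨ u.1 = w} := Nat.card_congr
          { toFun := fun p => ⟨p.1.1, p.2.1⟩
            invFun := fun u => ⟨(u.1, u.1), u.2, rfl⟩
            left_inv := fun p => Subtype.ext (Prod.ext rfl (Subtype.ext p.2.2.symm))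
            right_inv := fun u => rfl }
      _ = 2 := two

/-- A faithful irreducible `F₂`-module of `3² : D₈` has order 16, with a unique four-subgroup of fixed space of order 2. -/
theorem result {S : Type*} [Group S] [Finite S]
    (A : Subgroup S) [A.Normal] (hA : Cfsg.IsElementaryAbelian 3 A) (hA9 : Nat.card ↥A = 9)
    (hAC : Subgroup.centralizer (A : Set S) = A) (X : Subgroup S) (hX : Nonempty (↥X ≃* DihedralGroup 4)) (hAX : A ⊔ X = ⊤)
    {M : Type*} [AddCommGroup M] [Module (ZMod 2) M] [Finite M] (ρ : Representation (ZMod 2) S M)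
    (hfaith : Function.Injective ρ)
    (hirr : ∀ N : Submodule (ZMod 2) M, (∀ s : S, ∀ m ∈ N, ρ s m ∈ N) → N = ⊥ ∨ N = ⊤) (hM : Nontrivial M) :
    Nat.card M = 16 ∧
      ∃! B : Subgroup S, B ≤ X ∧ Nat.card ↥B = 4 ∧ (∀ b ∈ B, b ^ 2 = 1) ∧
        Nat.card {m : M // ∀ b ∈ B, ρ b m = m} = 2 := by
  classical
  obtain ⟨e⟩ := hX
  let d : DihedralGroup 4 →* S := X.subtype.comp e.symm.toMonoidHom
  have hdinj : Function.Injective d := fun p q h => e.symm.injective (Subtype.ext h)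
  have hdX : ∀ x ∈ X, ∃ q, d q = x := fun x hx => ⟨e ⟨x, hx⟩, by
    show ((e.symm (e ⟨x, hx⟩) : ↥X) : S) = x
    rw [MulEquiv.symm_apply_apply]⟩
  set r := d (DihedralGroup.r 1) with hr
  set s := d (DihedralGroup.sr 0) with hs
  have hdX' : ∀ q, d q ∈ X := fun q => (e.symm q).2
  have hr4 : r ^ 4 = 1 := by rw [hr, ← map_pow]; exact map_one d ▸ congrArg d (by decide)
  have hs2 : s ^ 2 = 1 := by rw [hs, ← map_pow]; exact map_one d ▸ congrArg d (by decide)
  have hsr : s * r = r⁻¹ * s := by rw [hr, hs, ← map_inv, ← map_mul, ← map_mul]; exact congrArg d (by decide)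
  have hz1 : r ^ 2 ≠ 1 := by
    intro h
    rw [hr, ← map_pow, ← map_one d] at h
    exact absurd (hdinj h) (by decide)
  have hsne : s ≠ 1 ∧ s ≠ r ^ 2 := by
    constructor
    · intro h
      rw [hs, ← map_one d] at h
      exact absurd (hdinj h) (by decide)
    · intro h
      rw [hs, hr, ← map_pow] at h
      exact absurd (hdinj h) (by decide)
  have hcube : ∀ x ∈ A, x ^ 3 = 1 := hA.2
  have hcomm : ∀ x ∈ A, ∀ y ∈ A, x * y = y * x := fun x hx y hy =>
    congrArg Subtype.val (hA.1.is_comm.comm ⟨x, hx⟩ ⟨y, hy⟩)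
  have hn : ∀ (g : S), ∀ x ∈ A, g * x * g⁻¹ ∈ A := fun g x hx => (inferInstance : A.Normal).conj_mem x hx g
  have hXA : ∀ x ∈ X, x ∈ A → x = 1 := by
    intro x hxX hxA
    obtain ⟨q, rfl⟩ := hdX x hxX
    have h3 := hcube _ hxA
    rw [← map_pow, ← map_one d] at h3
    have key : ∀ q : DihedralGroup 4, q ^ 3 = 1 → q = 1 := by decide
    rw [key q (hdinj h3), map_one]
  have hfaithX : ∀ x ∈ X, (∀ y ∈ A, x * y * x⁻¹ = y) → x = 1 := fun x hx h => hXA x hx (hAC ▸ fun y hy =>
    (mul_inv_eq_iff_eq_mul.1 (h y hy)).symm)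
  -- an involution inverting and fixing subgroups of order three
  have split : ∀ g : S, g * g = 1 → (∃ y ∈ A, g * y * g⁻¹ ≠ y) → (∃ y ∈ A, g * y * g⁻¹ ≠ y⁻¹) →
      (∃ i ∈ A, i ≠ 1 ∧ g * i * g⁻¹ = i⁻¹) ∧ (∃ f ∈ A, f ≠ 1 ∧ g * f * g⁻¹ = f) := by
    intro g hg ⟨y, hy, hy'⟩ ⟨y2, hy2, hy2'⟩
    have gg : ∀ x : S, g * (g * x * g⁻¹) * g⁻¹ = x := fun x => by
      calc g * (g * x * g⁻¹) * g⁻¹ = (g * g) * x * (g * g)⁻¹ := by group
        _ = x := by rw [hg]; group
    refine ⟨⟨y⁻¹ * (g * y * g⁻¹), A.mul_mem (A.inv_mem hy) (hn g y hy), fun h => hy' (inv_mul_eq_one.1 h).symm, ?_⟩,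
      ⟨y2 * (g * y2 * g⁻¹), A.mul_mem hy2 (hn g y2 hy2), fun h => hy2' (eq_inv_of_mul_eq_one_right h), ?_⟩⟩
    · calc g * (y⁻¹ * (g * y * g⁻¹)) * g⁻¹ = (g * y * g⁻¹)⁻¹ * (g * (g * y * g⁻¹) * g⁻¹) := by group
        _ = (g * y * g⁻¹)⁻¹ * y := by rw [gg]
        _ = (y⁻¹ * (g * y * g⁻¹))⁻¹ := by group
    · calc g * (y2 * (g * y2 * g⁻¹)) * g⁻¹ = (g * y2 * g⁻¹) * (g * (g * y2 * g⁻¹) * g⁻¹) := by group
        _ = (g * y2 * g⁻¹) * y2 := by rw [gg]
        _ = y2 * (g * y2 * g⁻¹) := hcomm _ (hn g y2 hy2) _ hy2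
  have span : ∀ f i : S, f ∈ A → i ∈ A → f ≠ 1 → i ∉ Subgroup.zpowers f → ∀ y ∈ A, y ∈ Subgroup.closure ({f, i} : Set S) := by
    intro f i hf hi hf1 hif y hy
    have hle : Subgroup.closure ({f, i} : Set S) ≤ A := (Subgroup.closure_le _).2 (by
      rintro x (rfl | rfl)
      · exact hf
      · exact hi)
    have hlt : Subgroup.zpowers f < Subgroup.closure ({f, i} : Set S) :=
      lt_of_le_of_ne (Subgroup.zpowers_le.2 (Subgroup.subset_closure (Set.mem_insert _ _)))
        fun h => hif (h ▸ Subgroup.subset_closure (Set.mem_insert_of_mem _ rfl))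
    have h3 : Nat.card ↥(Subgroup.zpowers f) = 3 := by
      rw [Nat.card_zpowers]
      haveI : Fact (Nat.Prime 3) := ⟨Nat.prime_three⟩
      exact orderOf_eq_prime (hcube f hf) hf1
    have heq : Subgroup.closure ({f, i} : Set S) = A := by
      refine Subgroup.eq_of_le_of_card_ge hle ?_
      rw [hA9]
      have h1 := Subgroup.card_dvd_of_le hlt.le
      have h2 := Subgroup.card_dvd_of_le hle
      rw [h3] at h1
      rw [hA9] at h2
      have hne : Nat.card ↥(Subgroup.closure ({f, i} : Set S)) ≠ 3 := fun h =>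
        hlt.ne (Subgroup.eq_of_le_of_card_ge hlt.le (by omega))
      have : ∀ k : ℕ, k ≤ 9 → k ∣ 9 → 3 ∣ k → k ≠ 3 → 9 ≤ k := by decide
      exact this _ (Nat.le_of_dvd (by norm_num) h2) h2 h1 hne
    exact heq ▸ hy
  have order3 : ∀ f ∈ A, f ≠ 1 → ∀ i ∈ Subgroup.zpowers f, i = 1 ∨ i = f ∨ i = f⁻¹ := by
    intro f hf _ i hi
    obtain ⟨k, rfl⟩ := hi
    have h3 : f ^ (3 : ℤ) = 1 := by exact_mod_cast hcube f hf
    show f ^ k = 1 ∨ f ^ k = f ∨ f ^ k = f⁻¹
    have hk : k = 3 * (k / 3) + k % 3 := (Int.mul_ediv_add_emod k 3).symm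
    have : f ^ k = f ^ (k % 3) := by
      conv_lhs => rw [hk, zpow_add, zpow_mul, h3, one_zpow, one_mul]
    rcases (show k % 3 = 0 ∨ k % 3 = 1 ∨ k % 3 = 2 by omega) with h | h | h <;> rw [this, h]
    · exact Or.inl (zpow_zero f)
    · exact Or.inr (Or.inl (zpow_one f))
    · refine Or.inr (Or.inr (eq_inv_of_mul_eq_one_left ?_))
      rw [← zpow_add_one]
      exact h3
  have disjfi : ∀ g f i : S, f ∈ A → i ∈ A → f ≠ 1 → i ≠ 1 → g * f * g⁻¹ = f → g * i * g⁻¹ = i⁻¹ →
      i ∉ Subgroup.zpowers f := by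
    intro g f i hf hi hf1 hi1 hgf hgi hmem
    rcases order3 f hf hf1 i hmem with h | h | h
    · exact hi1 h
    · rw [h, hgf] at hgi
      refine hf1 ?_
      have h2 : f * f = 1 := eq_inv_iff_mul_eq_one.1 hgi
      have h3 := hcube f hf
      rw [pow_succ, pow_two, h2, one_mul] at h3
      exact h3
    · rw [h] at hgi
      have h1 : g * f⁻¹ * g⁻¹ = (g * f * g⁻¹)⁻¹ := by group
      rw [h1, hgf, inv_inv] at hgi
      refine hf1 ?_
      have h2 : f⁻¹ * f⁻¹ = 1 := by
        nth_rw 2 [hgi]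
        exact inv_mul_cancel f
      have h2' : f * f = 1 := by rw [← inv_inj, mul_inv_rev, inv_one]; exact h2
      have h3 := hcube f hf
      rw [pow_succ, pow_two, h2', one_mul] at h3
      exact h3
  have conj_closure : ∀ g f i : S, g * f * g⁻¹ = f → g * i * g⁻¹ = i → ∀ y ∈ Subgroup.closure ({f, i} : Set S),
      g * y * g⁻¹ = y := by
    intro g f i hgf hgi y hy
    have hle : Subgroup.closure ({f, i} : Set S) ≤ Subgroup.centralizer {g} := (Subgroup.closure_le _).2 (by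
      rintro x (rfl | rfl)
      · exact Subgroup.mem_centralizer_singleton_iff.2 (mul_inv_eq_iff_eq_mul.1 hgf).symm
      · exact Subgroup.mem_centralizer_singleton_iff.2 (mul_inv_eq_iff_eq_mul.1 hgi).symm)
    exact mul_inv_eq_iff_eq_mul.2 (Subgroup.mem_centralizer_singleton_iff.1 (hle hy)).symm
  -- `r²` inverts `A`
  have hzinv : ∀ y ∈ A, r ^ 2 * y * (r ^ 2)⁻¹ = y⁻¹ := by
    by_contra! hcon
    obtain ⟨⟨i, hiA, hi1, hi⟩, ⟨f, hfA, hf1, hf⟩⟩ := split (r ^ 2) (by rw [← pow_add]; exact hr4)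
      (by by_contra! h; exact hz1 (hfaithX _ (X.pow_mem (hdX' _) 2) h)) hcon
    have hdis := disjfi (r ^ 2) f i hfA hiA hf1 hi1 hf hi
    have hall := span f i hfA hiA hf1 hdis
    have pres : ∀ x : S, r ^ 2 * (r * x * r⁻¹) * (r ^ 2)⁻¹ = r * (r ^ 2 * x * (r ^ 2)⁻¹) * r⁻¹ := fun x => by group
    have eig : ∀ u : S, u ∈ A → u ≠ 1 → r * u * r⁻¹ ∈ Subgroup.zpowers u → r ^ 2 * u * (r ^ 2)⁻¹ = u := by
      intro u hu hu1 hm
      rcases order3 u hu hu1 _ hm with h | h | h
      · exact absurd (by simpa using h) hu1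
      · calc r ^ 2 * u * (r ^ 2)⁻¹ = r * (r * u * r⁻¹) * r⁻¹ := by rw [pow_two, mul_inv_rev]; simp only [mul_assoc]
          _ = u := by rw [h, h]
      · calc r ^ 2 * u * (r ^ 2)⁻¹ = r * (r * u * r⁻¹) * r⁻¹ := by rw [pow_two, mul_inv_rev]; simp only [mul_assoc]
          _ = r * u⁻¹ * r⁻¹ := by rw [h]
          _ = u := by rw [show r * u⁻¹ * r⁻¹ = (r * u * r⁻¹)⁻¹ by group, h, inv_inv]
    have hri : r ^ 2 * (r * i * r⁻¹) * (r ^ 2)⁻¹ = (r * i * r⁻¹)⁻¹ := by rw [pres, hi]; group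
    have hmem : r * i * r⁻¹ ∈ Subgroup.zpowers i := by
      by_contra hnot
      -- then `r²` inverts all of `A`
      have hall' := span i _ hiA (hn r i hiA) hi1 hnot f hfA
      have key : ∀ y ∈ Subgroup.closure ({i, r * i * r⁻¹} : Set S), y ∈ A ∧ r ^ 2 * y * (r ^ 2)⁻¹ = y⁻¹ := by
        intro y hy
        induction hy using Subgroup.closure_induction with
        | mem x hx =>
          rcases hx with rfl | rfl
          · exact ⟨hiA, hi⟩
          · exact ⟨hn r i hiA, hri⟩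
        | one => exact ⟨A.one_mem, by simp⟩
        | mul x y _ _ hx hy =>
          refine ⟨A.mul_mem hx.1 hy.1, ?_⟩
          calc r ^ 2 * (x * y) * (r ^ 2)⁻¹ = (r ^ 2 * x * (r ^ 2)⁻¹) * (r ^ 2 * y * (r ^ 2)⁻¹) := by group
            _ = x⁻¹ * y⁻¹ := by rw [hx.2, hy.2]
            _ = (x * y)⁻¹ := by rw [← mul_inv_rev, hcomm y hy.1 x hx.1]
        | inv x _ hx =>
          refine ⟨A.inv_mem hx.1, ?_⟩
          calc r ^ 2 * x⁻¹ * (r ^ 2)⁻¹ = (r ^ 2 * x * (r ^ 2)⁻¹)⁻¹ := by group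
            _ = x⁻¹⁻¹ := by rw [hx.2]
      have h := (key f hall').2
      rw [hf] at h
      have h2 : f * f = 1 := eq_inv_iff_mul_eq_one.1 h
      have h3 := hcube f hfA
      rw [pow_succ, pow_two, h2, one_mul] at h3
      exact hf1 h3
    have h := eig i hiA hi1 hmem
    rw [hi] at h
    have h2 : i * i = 1 := eq_inv_iff_mul_eq_one.1 h.symm
    have h3 := hcube i hiA
    rw [pow_succ, pow_two, h2, one_mul] at h3
    exact hi1 h3
  have hzi : (r ^ 2)⁻¹ = r ^ 2 := inv_eq_of_mul_eq_one_right (by rw [← pow_add]; exact hr4)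
  -- basis adapted to `s`
  obtain ⟨-, a, haA, ha1, hsa⟩ := split s (by rw [← pow_two]; exact hs2)
    (by by_contra! h; exact hsne.1 (hfaithX _ (hdX' _) h))
    (by
      by_contra! h
      have h1 : s * (r ^ 2) = 1 := hfaithX _ (X.mul_mem (hdX' _) (X.pow_mem (hdX' _) 2)) fun y hy => by
        calc s * r ^ 2 * y * (s * r ^ 2)⁻¹ = s * (r ^ 2 * y * (r ^ 2)⁻¹) * s⁻¹ := by group
          _ = (s * y * s⁻¹)⁻¹ := by rw [hzinv y hy]; group
          _ = y := by rw [h y hy, inv_inv]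
      exact hsne.2 (by rw [eq_inv_of_mul_eq_one_left h1, hzi]))
  obtain ⟨b, hb⟩ : ∃ b : S, b = r * a * r⁻¹ := ⟨_, rfl⟩
  have hbA : b ∈ A := hb ▸ hn r a haA
  have hb1 : b ≠ 1 := fun h => ha1 (by simpa [hb] using h)
  have hra : r * a = b * r := by rw [hb]; group
  have hrb : r * b = a⁻¹ * r := by
    calc r * b = (r ^ 2 * a * (r ^ 2)⁻¹) * r := by rw [hb, pow_two, mul_inv_rev]; simp only [mul_assoc, inv_mul_cancel, mul_one]
      _ = a⁻¹ * r := by rw [hzinv a haA]
  have hsa' : s * a = a * s := mul_inv_eq_iff_eq_mul.1 hsa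
  have hsbinv : s * b * s⁻¹ = b⁻¹ := by
    have hri : r⁻¹ = r * r ^ 2 := inv_eq_of_mul_eq_one_right (by rw [← mul_assoc]; calc r * r * r ^ 2 = r ^ 4 := by group
      _ = 1 := hr4)
    calc s * b * s⁻¹ = (s * r) * a * (s * r)⁻¹ := by rw [hb]; group
      _ = r⁻¹ * (s * a * s⁻¹) * r⁻¹⁻¹ := by rw [hsr]; group
      _ = r * r ^ 2 * a * ((r ^ 2)⁻¹ * r⁻¹) := by rw [hsa, inv_inv, ← mul_inv_rev, ← hri, inv_inv]
      _ = r * (r ^ 2 * a * (r ^ 2)⁻¹) * r⁻¹ := by simp only [mul_assoc]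
      _ = b⁻¹ := by rw [hzinv a haA, hb]; group
  have hsb : s * b = b⁻¹ * s := mul_inv_eq_iff_eq_mul.1 hsbinv
  have hdisj := disjfi s a b haA hbA ha1 hb1 hsa hsbinv
  have hAgen := span a b haA hbA ha1 hdisj
  have hXgen : ∀ x ∈ X, x ∈ Subgroup.closure ({r, s} : Set S) := by
    intro x hx
    obtain ⟨q, rfl⟩ := hdX x hx
    have hrm : r ∈ Subgroup.closure ({r, s} : Set S) := Subgroup.subset_closure (Set.mem_insert _ _)
    have hsm : s ∈ Subgroup.closure ({r, s} : Set S) := Subgroup.subset_closure (Set.mem_insert_of_mem _ rfl)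
    cases q with
    | r i =>
      have : d (DihedralGroup.r i) = r ^ i.val := by
        rw [hr, ← map_pow, DihedralGroup.r_one_pow, ZMod.natCast_zmod_val]
      rw [this]; exact Subgroup.pow_mem _ hrm _
    | sr i =>
      have : d (DihedralGroup.sr i) = s * r ^ i.val := by
        rw [hr, hs, ← map_pow, ← map_mul, DihedralGroup.r_one_pow, ZMod.natCast_zmod_val, DihedralGroup.sr_mul_r, zero_add]
      rw [this]; exact Subgroup.mul_mem _ hsm (Subgroup.pow_mem _ hrm _)
  have hgen : Subgroup.closure ({a, b, r, s} : Set S) = ⊤ := by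
    rw [eq_top_iff, ← hAX, sup_le_iff]
    refine ⟨fun y hy => ?_, fun x hx => ?_⟩
    · exact Subgroup.closure_mono (by intro q hq; simp only [Set.mem_insert_iff, Set.mem_singleton_iff] at hq ⊢; tauto) (hAgen y hy)
    · exact Subgroup.closure_mono (by intro q hq; simp only [Set.mem_insert_iff, Set.mem_singleton_iff] at hq ⊢; tauto) (hXgen x hx)
  have hab : a * b = b * a := hcomm a haA b hbA
  -- module facts
  have mulap : ∀ (g h : S) (m : M), ρ (g * h) m = ρ g (ρ h m) := fun g h m => by rw [map_mul]; rfl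
  have oneap : ∀ m : M, ρ 1 m = m := fun m => by rw [map_one]; rfl
  have dbl : ∀ x : M, x + x = 0 := fun x => by
    rw [← two_smul (ZMod 2) x, show (2 : ZMod 2) = 0 from rfl, zero_smul]
  have hstab : ∀ W : Submodule (ZMod 2) M, (∀ g ∈ ({a, b, r, s} : Set S), ∀ m ∈ W, ρ g m ∈ W) → W = ⊥ ∨ W = ⊤ := by
    intro W hW
    refine hirr W fun g => ?_
    have hg : g ∈ Submonoid.closure ({a, b, r, s} : Set S) := by
      have h1 : g ∈ (Subgroup.closure ({a, b, r, s} : Set S)).toSubmonoid := hgen ▸ Subgroup.mem_top g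
      rwa [Subgroup.closure_toSubmonoid_of_finite] at h1
    induction hg using Submonoid.closure_induction with
    | mem g hg => exact hW g hg
    | one => intro m hm; rwa [oneap]
    | mul g h _ _ ig ih => intro m hm; rw [mulap]; exact ig _ (ih m hm)
  have hfix : ∀ m : M, ρ a m = m → ρ b m = m → m = 0 := by
    let W : Submodule (ZMod 2) M :=
      { carrier := {m | ∀ y ∈ A, ρ y m = m}
        add_mem' := fun {x y} hx hy g hg => by rw [map_add, hx g hg, hy g hg]
        zero_mem' := fun g _ => map_zero _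
        smul_mem' := fun c x hx g hg => by rw [map_smul, hx g hg] }
    have hW : W = ⊥ := by
      refine (hirr W fun g m hm y hy => ?_).resolve_right fun h => ha1 (hfaith (LinearMap.ext fun m => ?_))
      · have h1 : y * g = g * (g⁻¹ * y * g⁻¹⁻¹) := by group
        rw [← mulap, h1, mulap, hm _ (hn g⁻¹ y hy)]
      · rw [oneap]
        exact (h ▸ Submodule.mem_top : m ∈ W) a haA
    intro m h1 h2
    have : m ∈ W := by
      intro y hy
      let St : Subgroup S :=
        { carrier := {g | ρ g m = m}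
          one_mem' := oneap m
          mul_mem' := fun {g h} hg hh => by show ρ (g * h) m = m; rw [mulap, hh, hg]
          inv_mem' := fun {g} hg => by
            show ρ g⁻¹ m = m
            conv_lhs => rw [← show ρ g m = m from hg, ← mulap, inv_mul_cancel, oneap] }
      have hle : Subgroup.closure ({a, b} : Set S) ≤ St := (Subgroup.closure_le _).2 (by
        rintro x (rfl | rfl)
        · exact h1
        · exact h2)
      exact hle (hAgen y hy)
    rw [hW, Submodule.mem_bot] at this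
    exact this
  let Fx : S → Submodule (ZMod 2) M := fun g =>
    { carrier := {m | ρ g m = m}
      add_mem' := fun {x y} hx hy => by show ρ g (x + y) = x + y; rw [map_add, hx, hy]
      zero_mem' := map_zero _
      smul_mem' := fun c x hx => by show ρ g (c • x) = c • x; rw [map_smul, hx] }
  have fxinv : ∀ g : S, ∀ m, ρ g m = m → ρ g⁻¹ m = m := fun g m h => by
    conv_lhs => rw [← h, ← mulap, inv_mul_cancel, oneap]
  have transport : ∀ g c c' : S, g * c = c' * g → ∀ m, ρ c m = m → ρ c' (ρ g m) = ρ g m := fun g c c' h m hm => by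
    rw [← mulap, ← h, mulap, hm]
  have invs : ∀ c d' : S, (∀ g ∈ ({a, b, r, s} : Set S), (g * c = c * g ∨ g * c = c⁻¹ * g ∨ g * c = d' * g ∨ g * c = d'⁻¹ * g) ∧
        (g * d' = d' * g ∨ g * d' = d'⁻¹ * g ∨ g * d' = c * g ∨ g * d' = c⁻¹ * g)) →
      Fx c ⊔ Fx d' = ⊥ ∨ Fx c ⊔ Fx d' = ⊤ := by
    intro c d' h
    refine hstab _ fun g hg m hm => ?_
    obtain ⟨h1, h2⟩ := h g hg
    obtain ⟨u, hu, v, hv, rfl⟩ := Submodule.mem_sup.1 hm
    rw [map_add]
    have unI : ∀ c m, ρ c⁻¹ m = m → ρ c m = m := fun c m hm => by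
      have := fxinv _ _ hm
      rwa [inv_inv] at this
    refine Submodule.add_mem _ ?_ ?_
    · rcases h1 with e | e | e | e
      · exact Submodule.mem_sup_left (transport g c c e u hu)
      · exact Submodule.mem_sup_left (unI _ _ (transport g c _ e u hu))
      · exact Submodule.mem_sup_right (transport g c _ e u hu)
      · exact Submodule.mem_sup_right (unI _ _ (transport g c _ e u hu))
    · rcases h2 with e | e | e | e
      · exact Submodule.mem_sup_right (transport g d' d' e v hv)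
      · exact Submodule.mem_sup_right (unI _ _ (transport g d' _ e v hv))
      · exact Submodule.mem_sup_left (transport g d' _ e v hv)
      · exact Submodule.mem_sup_left (unI _ _ (transport g d' _ e v hv))
  obtain ⟨c, hc⟩ : ∃ c : S, c = a * b := ⟨_, rfl⟩
  obtain ⟨c', hc'⟩ : ∃ c : S, c = b * a⁻¹ := ⟨_, rfl⟩
  have hrc : r * c = c' * r := by
    calc r * c = (r * a) * b := by rw [hc]; group
      _ = b * (r * b) := by rw [hra]; group
      _ = c' * r := by rw [hrb, hc']; group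
  have hrc' : r * c' = c⁻¹ * r := by
    have h1 : r * a⁻¹ = b⁻¹ * r := by
      calc r * a⁻¹ = b⁻¹ * (b * r) * a⁻¹ := by group
        _ = b⁻¹ * (r * a) * a⁻¹ := by rw [hra]
        _ = b⁻¹ * r := by group
    calc r * c' = (r * b) * a⁻¹ := by rw [hc']; group
      _ = a⁻¹ * (r * a⁻¹) := by rw [hrb]; group
      _ = c⁻¹ * r := by rw [h1, hc, mul_inv_rev, ← mul_assoc, hcomm _ (A.inv_mem hbA) _ (A.inv_mem haA)]
  have hsc : s * c = c'⁻¹ * s := by
    calc s * c = (s * a) * b := by rw [hc, mul_assoc]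
      _ = a * (s * b) := by rw [hsa', mul_assoc]
      _ = c'⁻¹ * s := by rw [hsb, hc', mul_inv_rev, inv_inv]; simp only [mul_assoc]
  have hsc' : s * c' = c⁻¹ * s := by
    have h1 : s * a⁻¹ = a⁻¹ * s := ((Commute.inv_right (hsa' : Commute s a))).eq
    calc s * c' = (s * b) * a⁻¹ := by rw [hc', mul_assoc]
      _ = b⁻¹ * (s * a⁻¹) := by rw [hsb, mul_assoc]
      _ = c⁻¹ * s := by rw [h1, hc, mul_inv_rev]; simp only [mul_assoc]
  have hcomA : ∀ g ∈ A, ∀ x ∈ A, g * x = x * g := fun g hg x hx => hcomm g hg x hx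
  have case1 := invs a b (by
    intro g hg
    simp only [Set.mem_insert_iff, Set.mem_singleton_iff] at hg
    rcases hg with rfl | rfl | rfl | rfl
    · exact ⟨Or.inl rfl, Or.inl hab⟩
    · exact ⟨Or.inl hab.symm, Or.inl rfl⟩
    · exact ⟨Or.inr (Or.inr (Or.inl hra)), Or.inr (Or.inr (Or.inr hrb))⟩
    · exact ⟨Or.inl hsa', Or.inr (Or.inl hsb)⟩)
  have hcA : c ∈ A := hc ▸ A.mul_mem haA hbA
  have hc'A : c' ∈ A := hc' ▸ A.mul_mem hbA (A.inv_mem haA)
  have case2 := invs c c' (by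
    intro g hg
    simp only [Set.mem_insert_iff, Set.mem_singleton_iff] at hg
    rcases hg with rfl | rfl | rfl | rfl
    · exact ⟨Or.inl (hcomA _ haA _ hcA), Or.inl (hcomA _ haA _ hc'A)⟩
    · exact ⟨Or.inl (hcomA _ hbA _ hcA), Or.inl (hcomA _ hbA _ hc'A)⟩
    · exact ⟨Or.inr (Or.inr (Or.inl hrc)), Or.inr (Or.inr (Or.inr hrc'))⟩
    · exact ⟨Or.inr (Or.inr (Or.inr hsc)), Or.inr (Or.inr (Or.inr hsc'))⟩)
  -- in one case the module is spanned
  have hspan : Fx a ⊔ Fx b = ⊤ ∨ Fx c ⊔ Fx c' = ⊤ := by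
    by_contra! hcon
    obtain ⟨h1, h2⟩ := hcon
    have ha0 := case1.resolve_right h1
    have hc0 := case2.resolve_right h2
    obtain ⟨m, hm⟩ := exists_ne (0 : M)
    let π : S → M → M := fun g x => x + ρ g x + ρ (g * g) x
    have hπ : ∀ g, g ^ 3 = 1 → ∀ x, ρ g (π g x) = π g x := fun g hg x => by
      have h3 : g * (g * g) = 1 := by rw [← pow_two, ← pow_succ']; exact hg
      show ρ g (x + ρ g x + ρ (g * g) x) = _
      rw [map_add, map_add, ← mulap, ← mulap, h3, oneap]
      show ρ g x + ρ (g * g) x + x = x + ρ g x + ρ (g * g) x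
      abel
    have hzero : ∀ g, Fx g = ⊥ → g ^ 3 = 1 → π g m = 0 := fun g hg h3 =>
      (Submodule.mem_bot (R := ZMod 2)).1 (hg ▸ hπ g h3 m)
    have za := hzero a (le_bot_iff.1 (ha0 ▸ le_sup_left)) (hcube a haA)
    have zb := hzero b (le_bot_iff.1 (ha0 ▸ le_sup_right)) (hcube b hbA)
    have zc := hzero c (le_bot_iff.1 (hc0 ▸ le_sup_left)) (hcube c hcA)
    have zd := hzero c' (le_bot_iff.1 (hc0 ▸ le_sup_right)) (hcube c' hc'A)
    have hai : a⁻¹ = a * a := inv_eq_of_mul_eq_one_right (by rw [← pow_two, ← pow_succ']; exact hcube a haA)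
    have hcom : Commute a b := hab
    -- the sum over all of `A`
    let T : M := m + ρ a m + ρ (a * a) m + (ρ b m + ρ (a * b) m + ρ (a * a * b) m)
      + (ρ (b * b) m + ρ (a * (b * b)) m + ρ (a * a * (b * b)) m)
    have e1 : c * c = a * a * (b * b) := hcom.mul_mul_mul_comm a b |>.symm |> fun h => by
      rw [hc]; exact (Commute.mul_mul_mul_comm hcom.symm a b)
    have e2 : c' = a * a * b := by
      rw [hc', hai]; exact ((hcom.mul_left hcom).eq).symm
    have e3 : c' * c' = a * (b * b) := by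
      rw [e2]
      calc a * a * b * (a * a * b) = a * a * (b * (a * a)) * b := by group
        _ = a * a * (a * a * b) * b := by rw [(hcom.mul_left hcom).eq]
        _ = a * (a * (a * a)) * (b * b) := by group
        _ = a * (b * b) := by rw [← pow_two a, ← pow_succ', hcube a haA, mul_one]
    have hfa : ρ a T = T := by
      have a3 : ∀ x : M, ρ a (ρ a (ρ a x)) = x := fun x => by
        rw [← mulap, ← mulap, mul_assoc, ← pow_two, ← pow_succ', hcube a haA, oneap]
      simp only [T, map_add, mulap, a3]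
      abel
    have hfb : ρ b T = T := by
      have b3 : ∀ x : M, ρ b (ρ b (ρ b x)) = x := fun x => by
        rw [← mulap, ← mulap, mul_assoc, ← pow_two, ← pow_succ', hcube b hbA, oneap]
      have hsw : ∀ x : M, ρ b (ρ a x) = ρ a (ρ b x) := fun x => by rw [← mulap, ← mulap, hab]
      simp only [T, map_add, mulap, hsw, b3]
      abel
    have hT0 := hfix T hfa hfb
    apply hm
    have h4 : π a m + π b m + π c m + π c' m = 0 := by rw [za, zb, zc, zd]; simp
    have e : π a m + π b m + π c m + π c' m = T + ((m + m) + m) := by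
      simp only [π, T, e1, e3]
      rw [e2, hc]
      abel
    rw [e, hT0, dbl, zero_add, zero_add] at h4
    exact h4
  have toW : ∀ u v : S, Fx u ⊔ Fx v = ⊤ → ∀ m : M, ∃ p q : M, ρ u p = p ∧ ρ v q = q ∧ m = p + q := by
    intro u v h m
    obtain ⟨p, hp, q, hq, hpq⟩ := Submodule.mem_sup.1 (h ▸ Submodule.mem_top : m ∈ Fx u ⊔ Fx v)
    exact ⟨p, q, hp, hq, hpq.symm⟩
  -- the two four-subgroups
  have hfour : ∀ q : DihedralGroup 4, q * q = 1 → q ≠ 1 → q ≠ DihedralGroup.r 2 →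
      ∀ B : Subgroup (DihedralGroup 4), q ∈ B → Nat.card ↥B = 4 → (∀ x ∈ B, x * x = 1) →
      ∀ x, x ∈ B ↔ x = 1 ∨ x = q ∨ x = DihedralGroup.r 2 ∨ x = DihedralGroup.r 2 * q := by
    intro q hq hq1 hq2 B hqB hB4 hBe
    have hle : ∀ x ∈ B, x = 1 ∨ x = q ∨ x = DihedralGroup.r 2 ∨ x = DihedralGroup.r 2 * q := by
      intro x hx
      have key : ∀ q : DihedralGroup 4, q * q = 1 → q ≠ 1 → q ≠ DihedralGroup.r 2 → ∀ x : DihedralGroup 4, x * x = 1 →
          (q * x) * (q * x) = 1 → x = 1 ∨ x = q ∨ x = DihedralGroup.r 2 ∨ x = DihedralGroup.r 2 * q := by decide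
      exact key q hq hq1 hq2 x (hBe x hx) (hBe _ (B.mul_mem hqB hx))
    intro x
    refine ⟨hle x, fun hx => ?_⟩
    have hcard : ({1, q, DihedralGroup.r 2, DihedralGroup.r 2 * q} : Finset (DihedralGroup 4)).card ≤ 4 := Finset.card_le_four
    have hBf : (Finset.univ.filter fun y => y ∈ B) = ({1, q, DihedralGroup.r 2, DihedralGroup.r 2 * q} : Finset (DihedralGroup 4)) := by
      refine Finset.eq_of_subset_of_card_le (fun y hy => ?_) ?_
      · simpa using hle y (Finset.mem_filter.1 hy).2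
      · rw [← Fintype.card_subtype, ← Nat.card_eq_fintype_card]
        exact le_of_le_of_eq hcard hB4.symm
    have : x ∈ (Finset.univ.filter fun y => y ∈ B) := by rw [hBf]; simpa using hx
    exact (Finset.mem_filter.1 this).2
  have hBform : ∀ B : Subgroup S, B ≤ X → Nat.card ↥B = 4 → (∀ y ∈ B, y ^ 2 = 1) →
      (∀ x, x ∈ B ↔ x = 1 ∨ x = s ∨ x = r ^ 2 ∨ x = r ^ 2 * s) ∨
      (∀ x, x ∈ B ↔ x = 1 ∨ x = r * s ∨ x = r ^ 2 ∨ x = r ^ 2 * (r * s)) := by
    intro B hBX hB4 hB2
    let B' : Subgroup (DihedralGroup 4) := B.comap d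
    have hB'4 : Nat.card ↥B' = 4 := by
      refine Eq.trans ?_ hB4
      refine Nat.card_eq_of_bijective (fun x : ↥B' => (⟨d x.1, x.2⟩ : ↥B)) ⟨fun x y h => Subtype.ext (hdinj (Subtype.ext_iff.1 h :)), fun y => ?_⟩
      obtain ⟨q, hq⟩ := hdX y.1 (hBX y.2)
      exact ⟨⟨q, show d q ∈ B from hq ▸ y.2⟩, Subtype.ext hq⟩
    have hB'2 : ∀ x ∈ B', x * x = 1 := fun x hx => hdinj (by rw [map_mul, map_one, ← pow_two]; exact hB2 _ hx)
    obtain ⟨q, hqB, hq1, hq2⟩ : ∃ q ∈ B', q ≠ 1 ∧ q ≠ DihedralGroup.r 2 := by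
      by_contra! hcon
      have : Nat.card ↥B' ≤ 2 := by
        rw [Nat.card_eq_fintype_card, Fintype.card_subtype]
        refine le_trans (Finset.card_le_card (t := {1, DihedralGroup.r 2}) fun y hy => ?_) Finset.card_le_two
        have := (Finset.mem_filter.1 hy).2
        by_cases h : y = 1
        · simp [h]
        · simp [hcon y this h]
      omega
    have hmem := hfour q (hB'2 q hqB) hq1 hq2 B' hqB hB'4 hB'2
    have cls : ∀ q : DihedralGroup 4, q * q = 1 → q ≠ 1 → q ≠ DihedralGroup.r 2 →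
        (∀ x : DihedralGroup 4, (x = 1 ∨ x = q ∨ x = DihedralGroup.r 2 ∨ x = DihedralGroup.r 2 * q) ↔
          (x = 1 ∨ x = DihedralGroup.sr 0 ∨ x = DihedralGroup.r 1 ^ 2 ∨ x = DihedralGroup.r 1 ^ 2 * DihedralGroup.sr 0)) ∨
        (∀ x : DihedralGroup 4, (x = 1 ∨ x = q ∨ x = DihedralGroup.r 2 ∨ x = DihedralGroup.r 2 * q) ↔
          (x = 1 ∨ x = DihedralGroup.r 1 * DihedralGroup.sr 0 ∨ x = DihedralGroup.r 1 ^ 2 ∨
            x = DihedralGroup.r 1 ^ 2 * (DihedralGroup.r 1 * DihedralGroup.sr 0))) := by decide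
    refine (cls q (hB'2 q hqB) hq1 hq2).imp (fun h x => ?_) fun h x => ?_
    all_goals
      constructor
      · intro hx
        obtain ⟨p, rfl⟩ := hdX x (hBX hx)
        rcases (h p).1 ((hmem p).1 hx) with e | e | e | e <;> subst e <;>
          simp only [hr, hs, map_mul, map_pow, map_one, true_or, or_true, eq_self_iff_true]
      · intro hx
        rcases hx with rfl | rfl | rfl | rfl
        · exact B.one_mem
        all_goals
          first
          | (rw [hs]; exact (hmem _).2 ((h _).2 (Or.inr (Or.inl rfl))))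
          | (rw [hr, hs, ← map_mul]; exact (hmem _).2 ((h _).2 (Or.inr (Or.inl rfl))))
          | (rw [hr, ← map_pow]; exact (hmem _).2 ((h _).2 (Or.inr (Or.inr (Or.inl rfl)))))
          | (rw [hr, hs, ← map_pow, ← map_mul]; exact (hmem _).2 ((h _).2 (Or.inr (Or.inr (Or.inr rfl)))))
          | (rw [hr, hs, ← map_pow, ← map_mul, ← map_mul]; exact (hmem _).2 ((h _).2 (Or.inr (Or.inr (Or.inr rfl)))))
  -- four-subgroups with given generators
  have mkB : ∀ t : S, t ∈ X → t ^ 2 = 1 → Commute (r ^ 2) t → t ≠ 1 → t ≠ r ^ 2 →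
      ∃ B : Subgroup S, B ≤ X ∧ Nat.card ↥B = 4 ∧ (∀ y ∈ B, y ^ 2 = 1) ∧ t ∈ B ∧ r ^ 2 ∈ B := by
    intro t htX ht hcm ht1 htz
    rw [pow_two] at ht
    let B : Subgroup S :=
      { carrier := {x | x = 1 ∨ x = t ∨ x = r ^ 2 ∨ x = r ^ 2 * t}
        one_mem' := Or.inl rfl
        mul_mem' := by
          have hz2 : r ^ 2 * r ^ 2 = 1 := by rw [← pow_add]; exact hr4
          have h1 : t * (r ^ 2 * t) = r ^ 2 := by rw [← mul_assoc, ← hcm.eq, mul_assoc, ht, mul_one]
          have h2 : r ^ 2 * (r ^ 2 * t) = t := by rw [← mul_assoc, hz2, one_mul]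
          have h3 : r ^ 2 * t * r ^ 2 = t := by rw [hcm.eq, mul_assoc, hz2, mul_one]
          rintro x y (rfl | rfl | rfl | rfl) (rfl | rfl | rfl | rfl)
          all_goals first
            | exact Or.inl (one_mul 1)
            | exact Or.inr (Or.inl (one_mul _))
            | exact Or.inr (Or.inl (mul_one _))
            | exact Or.inr (Or.inr (Or.inl (one_mul _)))
            | exact Or.inr (Or.inr (Or.inl (mul_one _)))
            | exact Or.inr (Or.inr (Or.inr (one_mul _)))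
            | exact Or.inr (Or.inr (Or.inr (mul_one _)))
            | exact Or.inl ht
            | exact Or.inl hz2
            | exact Or.inr (Or.inr (Or.inr rfl))
            | exact Or.inr (Or.inr (Or.inr hcm.eq.symm))
            | exact Or.inr (Or.inr (Or.inl h1))
            | exact Or.inr (Or.inl h2)
            | exact Or.inr (Or.inr (Or.inl (by rw [mul_assoc, ht, mul_one])))
            | exact Or.inr (Or.inl h3)
            | exact Or.inl (by rw [mul_assoc, h1, hz2])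
        inv_mem' := by
          rintro x (rfl | rfl | rfl | rfl)
          · exact Or.inl inv_one
          · exact Or.inr (Or.inl (inv_eq_of_mul_eq_one_right ht))
          · exact Or.inr (Or.inr (Or.inl hzi))
          · refine Or.inr (Or.inr (Or.inr ?_))
            rw [mul_inv_rev, hzi, inv_eq_of_mul_eq_one_right ht, hcm.eq] }
    refine ⟨B, ?_, ?_, ?_, Or.inr (Or.inl rfl), Or.inr (Or.inr (Or.inl rfl))⟩
    · rintro x (rfl | rfl | rfl | rfl)
      exacts [X.one_mem, htX, X.pow_mem (hdX' _) 2, X.mul_mem (X.pow_mem (hdX' _) 2) htX]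
    · have h : Nat.card ↥B = ({1, t, r ^ 2, r ^ 2 * t} : Finset S).card := by
        rw [← Nat.card_eq_finsetCard]
        exact Nat.card_congr (Equiv.subtypeEquivRight fun x => by
          show (x = 1 ∨ x = t ∨ x = r ^ 2 ∨ x = r ^ 2 * t) ↔ _
          simp)
      rw [h]
      have hne : (1 : S) ≠ r ^ 2 * t := fun hh => htz (by
        have := eq_inv_of_mul_eq_one_right hh.symm
        rw [this, hzi])
      repeat rw [Finset.card_insert_of_notMem]
      · simp
      · simp only [Finset.mem_singleton]; intro hh; exact ht1 (by simpa using hh.symm)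
      · simp only [Finset.mem_insert, Finset.mem_singleton, not_or]
        exact ⟨htz, fun hh => hz1 (by simpa using hh)⟩
      · simp only [Finset.mem_insert, Finset.mem_singleton, not_or]
        exact ⟨Ne.symm ht1, Ne.symm hz1, hne⟩
    · intro y hy
      rw [pow_two]
      rcases hy with rfl | rfl | rfl | rfl
      · exact one_mul 1
      · exact ht
      · rw [← pow_add]; exact hr4
      · rw [hcm.eq, mul_assoc, ← mul_assoc (r ^ 2), hcm.eq, mul_assoc t (r ^ 2), ← pow_add, hr4, mul_one, ht]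
  have hfixB : ∀ (B : Subgroup S) (t : S), (∀ x, x ∈ B ↔ x = 1 ∨ x = t ∨ x = r ^ 2 ∨ x = r ^ 2 * t) →
      Nat.card {m : M // ∀ y ∈ B, ρ y m = m} = Nat.card {m : M // ρ (r ^ 2) m = m ∧ ρ t m = m} := by
    intro B t hB
    refine Nat.card_congr (Equiv.subtypeEquivRight fun m => ⟨fun h => ⟨h _ ((hB _).2 (Or.inr (Or.inr (Or.inl rfl)))),
      h _ ((hB _).2 (Or.inr (Or.inl rfl)))⟩, fun h y hy => ?_⟩)
    rcases (hB y).1 hy with rfl | rfl | rfl | rfl
    · exact oneap m
    · exact h.2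
    · exact h.1
    · rw [mulap, h.2, h.1]
  have hrs2 : (r * s) ^ 2 = 1 := by rw [hr, hs, ← map_mul, ← map_pow]; exact map_one d ▸ congrArg d (by decide)
  have finish : ∀ t t' : S, t ∈ X → t ^ 2 = 1 → t ≠ 1 → t ≠ r ^ 2 → Commute (r ^ 2) t →
      ((t = s ∧ t' = r * s) ∨ (t = r * s ∧ t' = s)) →
      Nat.card {m : M // ρ (r ^ 2) m = m ∧ ρ t m = m} = 2 → Nat.card {m : M // ρ (r ^ 2) m = m ∧ ρ t' m = m} = 4 →
      ∃! B : Subgroup S, B ≤ X ∧ Nat.card ↥B = 4 ∧ (∀ y ∈ B, y ^ 2 = 1) ∧ Nat.card {m : M // ∀ y ∈ B, ρ y m = m} = 2 := by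
    intro t t' htX ht ht1 htz hcm htt h2 h4
    obtain ⟨B, hBX, hB4, hB2, htB, -⟩ := mkB t htX ht hcm ht1 htz
    have form : ∀ C : Subgroup S, C ≤ X → Nat.card ↥C = 4 → (∀ y ∈ C, y ^ 2 = 1) →
        (∀ x, x ∈ C ↔ x = 1 ∨ x = t ∨ x = r ^ 2 ∨ x = r ^ 2 * t) ∨ (∀ x, x ∈ C ↔ x = 1 ∨ x = t' ∨ x = r ^ 2 ∨ x = r ^ 2 * t') := by
      intro C hC1 hC2 hC3
      rcases htt with ⟨rfl, rfl⟩ | ⟨rfl, rfl⟩
      · exact hBform C hC1 hC2 hC3
      · exact (hBform C hC1 hC2 hC3).symm
    have hBt : ∀ x, x ∈ B ↔ x = 1 ∨ x = t ∨ x = r ^ 2 ∨ x = r ^ 2 * t := by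
      refine (form B hBX hB4 hB2).resolve_right fun h => ?_
      rcases (h t).1 htB with e | e | e | e
      · exact ht1 e
      · rcases htt with ⟨rfl, rfl⟩ | ⟨rfl, rfl⟩
        · apply ht1
          have : r = 1 := mul_eq_right.1 e.symm
          exact absurd (by rw [this, one_pow] : r ^ 2 = 1) hz1
        · have : r = 1 := mul_eq_right.1 e
          exact hz1 (by rw [this, one_pow])
      · exact htz e
      · rcases htt with ⟨rfl, rfl⟩ | ⟨rfl, rfl⟩
        · have : r ^ 2 * r = 1 := mul_eq_right.1 (by rw [mul_assoc]; exact e.symm)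
          rw [← pow_succ] at this
          have hr1 : r = 1 := by rw [show (4 : ℕ) = 3 + 1 from rfl, pow_succ, this, one_mul] at hr4; exact hr4
          exact hz1 (by rw [hr1, one_pow])
        · have h5 : r = r ^ 2 := mul_right_cancel e
          rw [pow_two] at h5
          exact hz1 (by rw [left_eq_mul.1 h5, one_pow])
    refine ⟨B, ⟨hBX, hB4, hB2, (hfixB B t hBt).trans h2⟩, fun C ⟨hC1, hC2, hC3, hC4⟩ => ?_⟩
    rcases form C hC1 hC2 hC3 with h | h
    · exact Subgroup.ext fun x => (h x).trans (hBt x).symm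
    · rw [hfixB C t' h, h4] at hC4
      omega
  have hczs : Commute (r ^ 2) s := by
    show r ^ 2 * s = s * r ^ 2
    rw [hr, hs, ← map_pow, ← map_mul, ← map_mul]; exact congrArg d (by decide)
  have hczr : Commute (r ^ 2) (r * s) := ((Commute.refl r).pow_left 2).mul_right hczs
  have hrs1 : r * s ≠ 1 ∧ r * s ≠ r ^ 2 := by
    constructor
    · intro h; rw [hr, hs, ← map_mul, ← map_one d] at h; exact absurd (hdinj h) (by decide)
    · intro h; rw [hr, hs, ← map_mul, ← map_pow] at h; exact absurd (hdinj h) (by decide)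
  have hrinv : r * (r * s) = r ^ 2 * s := by rw [pow_two, mul_assoc]
  rcases hspan with h | h
  · obtain ⟨h16, h4, h2⟩ := core ρ hirr a b r s hgen (hcube b hbA) hab hr4 hs2 hra hrb hsa' hsb hsr hfix (toW a b h)
    exact ⟨h16, finish (r * s) s (X.mul_mem (hdX' _) (hdX' _)) hrs2 hrs1.1 hrs1.2 hczr (Or.inr ⟨rfl, rfl⟩) h2 h4⟩
  · have hgen' : Subgroup.closure ({c, c', r, r * s} : Set S) = ⊤ := by
      rw [eq_top_iff, ← hgen]
      refine (Subgroup.closure_le _).2 fun x hx => ?_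
      set K := Subgroup.closure ({c, c', r, r * s} : Set S)
      have kc : c ∈ K := Subgroup.subset_closure (by simp)
      have kc' : c' ∈ K := Subgroup.subset_closure (by simp)
      have kr : r ∈ K := Subgroup.subset_closure (by simp)
      have ks : s ∈ K := by
        have := K.mul_mem (K.inv_mem kr) (Subgroup.subset_closure (by simp) : r * s ∈ K)
        rwa [inv_mul_cancel_left] at this
      have hai : a = (c * c'⁻¹)⁻¹ := by
        have : c * c'⁻¹ = a⁻¹ := by
          calc c * c'⁻¹ = a * b * (a * b⁻¹) := by rw [hc, hc', mul_inv_rev, inv_inv]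
            _ = a * (b * a) * b⁻¹ := by group
            _ = a * (a * b) * b⁻¹ := by rw [hab]
            _ = a * a := by group
            _ = a⁻¹ := (inv_eq_of_mul_eq_one_right (by rw [← pow_two, ← pow_succ']; exact hcube a haA)).symm
        rw [this, inv_inv]
      have ka : a ∈ K := hai ▸ K.inv_mem (K.mul_mem kc (K.inv_mem kc'))
      have kb : b ∈ K := by
        have := K.mul_mem (K.inv_mem ka) kc
        rwa [hc, inv_mul_cancel_left] at this
      simp only [Set.mem_insert_iff, Set.mem_singleton_iff] at hx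
      rcases hx with rfl | rfl | rfl | rfl
      exacts [ka, kb, kr, ks]
    have h1 : r * s * c = c * (r * s) := by
      calc r * s * c = (r * c'⁻¹) * s := by rw [mul_assoc, hsc]; group
        _ = c * (r * s) := by
          have : r * c'⁻¹ = c * r := by
            calc r * c'⁻¹ = c * (c⁻¹ * r) * c'⁻¹ := by group
              _ = c * (r * c') * c'⁻¹ := by rw [hrc']
              _ = c * r := by group
          rw [this]; group
    have h2 : r * s * c' = c'⁻¹ * (r * s) := by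
      calc r * s * c' = (r * c⁻¹) * s := by rw [mul_assoc, hsc']; group
        _ = c'⁻¹ * (r * s) := by
          have : r * c⁻¹ = c'⁻¹ * r := by
            calc r * c⁻¹ = c'⁻¹ * (c' * r) * c⁻¹ := by group
              _ = c'⁻¹ * (r * c) * c⁻¹ := by rw [hrc]
              _ = c'⁻¹ * r := by group
          rw [this]; group
    have h3 : r * s * r = r⁻¹ * (r * s) := by rw [mul_assoc, hsr]; group
    have hfix' : ∀ m : M, ρ c m = m → ρ c' m = m → m = 0 := by
      intro m hm hm'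
      have hcc : a⁻¹ = c * c'⁻¹ := by
        calc a⁻¹ = a * a := inv_eq_of_mul_eq_one_right (by rw [← pow_two, ← pow_succ']; exact hcube a haA)
          _ = a * (a * b) * b⁻¹ := by group
          _ = a * (b * a) * b⁻¹ := by rw [hab]
          _ = c * c'⁻¹ := by rw [hc, hc']; group
      have ha' : ρ a⁻¹ m = m := by rw [hcc, mulap, fxinv c' m hm', hm]
      have ha'' : ρ a m = m := by have := fxinv _ _ ha'; rwa [inv_inv] at this
      refine hfix m ha'' ?_
      calc ρ b m = ρ (a⁻¹ * c) m := by rw [hc, inv_mul_cancel_left]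
        _ = m := by rw [mulap, hm, ha']
    obtain ⟨h16, h4, h2'⟩ := core ρ hirr c c' r (r * s) hgen' (hcube c' hc'A) (hcomA _ hcA _ hc'A) hr4 hrs2 hrc hrc' h1 h2 h3 hfix' (toW c c' h)
    rw [hrinv] at h2'
    refine ⟨h16, finish s (r * s) (hdX' _) hs2 hsne.1 hsne.2 hczs (Or.inl ⟨rfl, rfl⟩) ?_ h4⟩
    refine Eq.trans ?_ h2'
    refine Nat.card_congr (Equiv.subtypeEquivRight fun m => ⟨fun hm => ⟨hm.1, by rw [mulap, hm.2, hm.1]⟩, fun hm => ⟨hm.1, ?_⟩⟩)
    calc ρ s m = ρ (r ^ 2) (ρ (r ^ 2 * s) m) := by rw [← mulap, ← mul_assoc, ← pow_add, hr4, one_mul]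
      _ = m := by rw [hm.2, hm.1]

end Cfsg.Agent.S4407
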