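import Cfsg.Statements.S4408
import Cfsg.Agent.Lib.FGStruct.SignedEigen
import Cfsg.Agent.Lib.Solvable.Core

set_option autoImplicit false
open Cfsg

namespace Cfsg.Agent.S4408

/-- Let S be a finite solvable group whose Fitting subgroup F(S) has odd order, and let I be an elementary abelian 2-subgroup of S of order 2ⁿ with n ≥ 1. Then F(S) contains subgroups A₁, …, Aₙ of prime order, each normalized by I, pairwise commuting and generating a subgroup A of order |A₁|⋯|Aₙ| (their internal direct product), such that no non-identity element of I centralizes A. -/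
theorem result {S : Type*} [Group S] [Finite S]
    [Group.IsSolvable S] (hF : Odd (Nat.card ↥(Cfsg.fittingSubgroup S)))
    (I : Subgroup S) (hI : Cfsg.IsElementaryAbelian 2 I) (n : ℕ) (hn : 1 ≤ n) (hIn : Nat.card ↥I = 2 ^ n) :
    ∃ f : Fin n → Subgroup S, (∀ i, (Nat.card ↥(f i)).Prime) ∧ (∀ i, f i ≤ Cfsg.fittingSubgroup S) ∧
      (∀ i, I ≤ Subgroup.normalizer ((f i) : Set S)) ∧ (∀ i j, i ≠ j → ∀ a ∈ f i, ∀ b ∈ f j, a * b = b * a) ∧
      Nat.card ↥(⨆ i, f i) = ∏ i, Nat.card ↥(f i) ∧ I ⊓ Subgroup.centralizer ((⨆ i, f i : Subgroup S) : Set S) = ⊥ := by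
  have hIi : ∀ j : ↥I, j * j = 1 := fun j => Subtype.ext (by
    have := hI.2 j.1 j.2
    rw [pow_two] at this
    exact this)
  letI : CommGroup ↥I := { (inferInstance : Group ↥I) with mul_comm := fun a b => hI.1.is_comm.comm a b }
  haveI := CfsgLib.Solvable.fittingSubgroup_normal S
  haveI := CfsgLib.Solvable.fittingSubgroup_isNilpotent S
  have hfaith : ∀ j ∈ (⊤ : Subgroup ↥I), (MulAut.conjNormal (H := Cfsg.fittingSubgroup S)).comp I.subtype j = 1 → j = 1 := by
    intro j _ h
    have hc : (j : S) ∈ Subgroup.centralizer (Cfsg.fittingSubgroup S : Set S) := by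
      intro y hy
      have h1 := congrArg Subtype.val (DFunLike.congr_fun h (⟨y, hy⟩ : ↥(Cfsg.fittingSubgroup S)))
      rw [MonoidHom.comp_apply, MulAut.conjNormal_apply, MulAut.one_apply] at h1
      change (j : S) * y * (j : S)⁻¹ = y at h1
      exact (mul_inv_eq_iff_eq_mul.1 h1).symm
    have hm := CfsgLib.Solvable.centralizer_fittingSubgroup_le hc
    have h2 : (⟨(j : S), hm⟩ : ↥(Cfsg.fittingSubgroup S))⁻¹ = ⟨(j : S), hm⟩ :=
      Subtype.ext (inv_eq_of_mul_eq_one_right (congrArg Subtype.val (hIi j)))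
    exact Subtype.ext (congrArg Subtype.val (CfsgLib.SignedEigen.inv_ne_self_of_odd hF h2) :)
  obtain ⟨x, h1, h2, h3, h4, h5, -⟩ := CfsgLib.SignedEigen.exists_family hIi n hF
    ((MulAut.conjNormal (H := Cfsg.fittingSubgroup S)).comp I.subtype) ⊤ (by rw [Subgroup.card_top, hIn]) hfaith
  let f : Fin n → Subgroup S := fun a => Subgroup.zpowers ((x a : S))
  have hf : (⨆ a, f a) = (⨆ a, Subgroup.zpowers (x a)).map (Cfsg.fittingSubgroup S).subtype := by
    rw [Subgroup.map_iSup]
    simp only [MonoidHom.map_zpowers]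
    rfl
  refine ⟨f, fun a => ?_, fun a => Subgroup.zpowers_le.2 (x a).2, fun a => ?_, ?_, ?_, ?_⟩
  · rw [Nat.card_zpowers, Subgroup.orderOf_coe]; exact h1 a
  · intro j hj
    refine Subgroup.mem_normalizer_iff.2 ?_
    have key : ∀ j : ↥I, ∀ z ∈ f a, (j : S) * z * (j : S)⁻¹ ∈ f a := by
      intro j z hz
      obtain ⟨m, rfl⟩ := hz
      show (j : S) * (x a : S) ^ m * (j : S)⁻¹ ∈ f a
      rw [← conj_zpow]
      refine Subgroup.zpow_mem _ ?_ m
      rcases h3 a j with h | h <;> have h' := congrArg Subtype.val h <;>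
        rw [MonoidHom.comp_apply, MulAut.conjNormal_apply] at h' <;>
        change (j : S) * (x a : S) * (j : S)⁻¹ = _ at h' <;> rw [h']
      · exact Subgroup.mem_zpowers _
      · exact Subgroup.inv_mem _ (Subgroup.mem_zpowers _)
    intro z
    refine ⟨key ⟨j, hj⟩ z, fun hz => ?_⟩
    have := key (⟨j, hj⟩ : ↥I)⁻¹ _ hz
    simpa [mul_assoc] using this
  · rintro a b - p ⟨m, rfl⟩ q ⟨k, rfl⟩
    exact (((h2 a b).map (Cfsg.fittingSubgroup S).subtype).zpow_zpow m k).eq
  · rw [hf, Subgroup.card_map_of_injective (Cfsg.fittingSubgroup S).subtype_injective, h5]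
    exact Finset.prod_congr rfl fun a _ => by rw [Nat.card_zpowers, Subgroup.orderOf_coe]
  · refine (Subgroup.eq_bot_iff_forall _).2 fun j hj => ?_
    have := h4 ⟨j, hj.1⟩ (Subgroup.mem_top _) fun a => Subtype.ext (by
      rw [MonoidHom.comp_apply, MulAut.conjNormal_apply]
      show j * (x a : S) * j⁻¹ = (x a : S)
      have hc := hj.2 (x a : S) (le_iSup f a (Subgroup.mem_zpowers _))
      rw [← hc, mul_inv_cancel_right])
    exact congrArg Subtype.val this

end Cfsg.Agent.S4408
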