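import Cfsg.Statements.S4409
import Cfsg.Agent.Lib.FGStruct.NoAbelianEight
import Cfsg.Agent.Lib.StdForm.OrderEight
import Cfsg.Agent.Lib.Solvable.Hall
import Cfsg.Agent.Lib.Transfer.ThompsonFactor
-- import your own Cfsg.Agent.* helpers here

set_option autoImplicit false
open Cfsg

namespace Cfsg.Agent.S4409

open scoped commutatorElement

/-- Let S be a finite solvable group with O_{2'}(S) = 1 that contains a non-cyclic abelian subgroup of order 8, while no proper subgroup of S of 2-power index contains one. Then a Sylow 2-subgroup X of S is normal in S, and one of the following holds: X is abelian; X is extraspecial of order at least 32; X has a generalized quaternion subgroup X₀ of index 2 with X = X₀·C_X(X₀); or X is special with centre of order 4. -/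
theorem result {S : Type*} [Group S] [Finite S]
    [Group.IsSolvable S] (hO : Cfsg.pPrimeCore 2 S = ⊥)
    (h8 : ∃ A : Subgroup S, IsMulCommutative ↥A ∧ ¬ IsCyclic ↥A ∧ Nat.card ↥A = 8)
    (hmin : ∀ R : Subgroup S, R ≠ ⊤ → (∃ k : ℕ, R.index = 2 ^ k) →
      ¬ ∃ A : Subgroup S, A ≤ R ∧ IsMulCommutative ↥A ∧ ¬ IsCyclic ↥A ∧ Nat.card ↥A = 8)
    (X : Sylow 2 S) :
    (X : Subgroup S).Normal ∧
      (IsMulCommutative ↥X ∨
        (Cfsg.IsExtraspecial 2 ↥X ∧ 32 ≤ Nat.card ↥X) ∨
        (∃ (X₀ : Subgroup S) (k : ℕ), X₀ ≤ (X : Subgroup S) ∧ X₀.relIndex (X : Subgroup S) = 2 ∧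
          Nonempty (↥X₀ ≃* QuaternionGroup (2 ^ (k + 1))) ∧ X₀ ⊔ ((X : Subgroup S) ⊓ Subgroup.centralizer (X₀ : Set S)) = (X : Subgroup S)) ∨
        (Cfsg.IsSpecial 2 ↥X ∧ Nat.card ↥(Subgroup.center ↥X) = 4)) := by
  classical
  haveI := Fact.mk Nat.prime_two
  obtain ⟨A₀, hA₀c, hA₀n, hA₀8⟩ := h8
  -- move `A` into `X`
  obtain ⟨A, hAX, hAc, hAn, hA8⟩ : ∃ A : Subgroup S, A ≤ (X : Subgroup S) ∧ IsMulCommutative A ∧
      ¬ IsCyclic A ∧ Nat.card A = 8 := by
    have hp : IsPGroup 2 A₀ := IsPGroup.of_card (n := 3) (by rw [hA₀8]; norm_num)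
    obtain ⟨Q, hQ⟩ := hp.exists_le_sylow
    obtain ⟨g, hg⟩ := MulAction.exists_smul_eq S Q X
    have he : (X : Subgroup S) = (Q : Subgroup S).map (MulAut.conj g).toMonoidHom := by rw [← hg]; rfl
    let e := A₀.equivMapOfInjective (MulAut.conj g).toMonoidHom (MulAut.conj g).injective
    refine ⟨A₀.map (MulAut.conj g).toMonoidHom, he ▸ Subgroup.map_mono hQ, ⟨⟨fun a b => ?_⟩⟩,
      fun h => hA₀n (e.isCyclic.2 h), (Nat.card_congr e.toEquiv).symm.trans hA₀8⟩
    obtain ⟨a, rfl⟩ := e.surjective a
    obtain ⟨b, rfl⟩ := e.surjective b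
    rw [← map_mul, ← map_mul, hA₀c.is_comm.comm a b]
  have hX2 : IsPGroup 2 (X : Subgroup S) := X.isPGroup'
  have hXA : ¬ CfsgLib.FGStruct.NoAbelianEight.NoA (X : Subgroup S) := fun h => hAn (h A hAX hAc hA8)
  obtain ⟨K, hKπ, hKidx⟩ := CfsgLib.Solvable.exists_isPiHall (G := S) {r : ℕ | r ≠ 2}
  have hKodd : Odd (Nat.card K) := by
    rw [← Nat.not_even_iff_odd, even_iff_two_dvd]
    exact fun h => hKπ 2 Nat.prime_two h rfl
  obtain ⟨a, ha⟩ : ∃ a, K.index = 2 ^ a := ⟨_, Nat.eq_prime_pow_of_unique_prime_dvd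
    Subgroup.index_ne_zero_of_finite fun {r} hr hd => by
      by_contra hne
      exact hKidx r hr hne hd⟩
  have hcard : Nat.card S = Nat.card (X : Subgroup S) * Nat.card K := by
    rw [X.card_eq_multiplicity, ← K.card_mul_index, ha,
      Nat.factorization_mul Nat.card_pos.ne' (pow_ne_zero _ (by norm_num)), Finsupp.add_apply,
      Nat.factorization_eq_zero_of_not_dvd (fun h => hKπ 2 Nat.prime_two h rfl),
      Nat.Prime.factorization_pow Nat.prime_two, Finsupp.single_eq_same, zero_add, mul_comm]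
  -- proper `K`-invariant subgroups of `X`
  have hprop : ∀ Y : Subgroup S, Y ≤ (X : Subgroup S) → Y ≠ (X : Subgroup S) →
      K ≤ Subgroup.normalizer (Y : Set S) → CfsgLib.FGStruct.NoAbelianEight.NoA Y := by
    intro Y hY hne hKY B hB hBc hB8
    by_contra hBn
    refine hmin (Y ⊔ K) (fun htop => hne ?_) ?_ ⟨B, hB.trans le_sup_left, hBc, hBn, hB8⟩
    · refine Subgroup.eq_of_le_of_card_ge hY ?_
      have h1 : Nat.card S ≤ Nat.card Y * Nat.card K := by
        calc Nat.card S = Nat.card (Y ⊔ K : Subgroup S) := by rw [htop, Subgroup.card_top]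
          _ ≤ _ := by
            rw [← SetLike.coe_sort_coe, Subgroup.coe_mul_of_right_le_normalizer_left Y K hKY]
            exact Set.natCard_mul_le
      rw [hcard] at h1
      exact Nat.le_of_mul_le_mul_right h1 Nat.card_pos
    · have hd := Subgroup.index_dvd_of_le (le_sup_right : K ≤ Y ⊔ K)
      rw [ha] at hd
      obtain ⟨k, -, hk⟩ := (Nat.dvd_prime_pow Nat.prime_two).1 hd
      exact ⟨k, hk⟩
  set U := Cfsg.pCore 2 S with hUdef
  haveI hUn : U.Normal := CfsgLib.Solvable.pCore_normal 2 S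
  have hCU : Subgroup.centralizer (U : Set S) ≤ U :=
    CfsgLib.PLoc.centralizer_pCore_le_self (CfsgLib.ThompsonFactor.isPSolvable_of_isSolvable inferInstance) hO
  have hUX : U ≤ (X : Subgroup S) := CfsgLib.Solvable.pCore_le_sylow X
  have hnormU : ∀ H : Subgroup S, H ≤ Subgroup.normalizer (U : Set S) := fun H => by
    rw [Subgroup.normalizer_eq_top_iff.2 hUn]; exact le_top
  by_cases hK1 : K = ⊥
  · have hXtop : (X : Subgroup S) = ⊤ := Subgroup.eq_top_of_card_eq _ (by
      rw [hcard, hK1, Subgroup.card_bot, mul_one])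
    have hA : A = ⊤ := by
      by_contra hne
      refine hmin A hne ?_ ⟨A, le_rfl, hAc, hAn, hA8⟩
      have hd := Subgroup.index_dvd_of_le (bot_le : (⊥ : Subgroup S) ≤ A)
      rw [← hK1, ha] at hd
      obtain ⟨k, -, hk⟩ := (Nat.dvd_prime_pow Nat.prime_two).1 hd
      exact ⟨k, hk⟩
    refine ⟨by rw [hXtop]; infer_instance, Or.inl ?_⟩
    show IsMulCommutative (X : Subgroup S)
    rw [hXtop, ← hA]; exact hAc
  have hKU : ¬ K ≤ Subgroup.centralizer (U : Set S) := by
    intro h
    obtain ⟨m, hm⟩ := IsPGroup.iff_card.1 ((CfsgLib.Solvable.pCore_isPGroup 2 S).to_le (h.trans hCU))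
    rcases Nat.eq_zero_or_pos m with rfl | hm0
    · exact hK1 (Subgroup.card_eq_one.1 hm)
    · exact hKπ 2 Nat.prime_two (hm ▸ dvd_pow_self 2 hm0.ne') rfl
  by_cases hUeq : U = (X : Subgroup S)
  swap
  · exfalso
    have hUN := hprop U hUX hUeq (hnormU K)
    have hU2 : IsPGroup 2 U := CfsgLib.Solvable.pCore_isPGroup 2 S
    have hcls := (CfsgLib.FGStruct.NoAbelianEight.classify hKodd _ U rfl hU2 (hnormU K) hKU
      fun Y hY _ _ B hB => hUN B (hB.trans hY)).2 hUN
    have hA2 : IsPGroup 2 A := hX2.to_le hAX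
    -- the part outside `U` is small
    have hsmall : ∀ B : Subgroup S, (∀ d₁ ∈ B, ∀ d₂ ∈ B, d₁ ∉ U → d₂ ∉ U → d₂⁻¹ * d₁ ∈ U) →
        Nat.card B ≤ 2 * Nat.card (B ⊓ U : Subgroup S) := by
      intro B hB
      by_cases hall : B ≤ U
      · rw [inf_eq_left.2 hall]; omega
      obtain ⟨d₀, hd₀, hd₀'⟩ := SetLike.not_le_iff_exists.1 hall
      let f : B → Bool × (B ⊓ U : Subgroup S) := fun d =>
        if h : (d : S) ∈ U then (false, ⟨d, d.2, h⟩)
        else (true, ⟨d₀⁻¹ * d, B.mul_mem (B.inv_mem hd₀) d.2, hB d d.2 d₀ hd₀ h hd₀'⟩)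
      have hf : Function.Injective f := by
        intro d d' h
        simp only [f] at h
        split at h <;> split at h
        all_goals
          first
          | exact absurd (Prod.mk.inj h).1 (by decide)
          | exact Subtype.ext (congrArg (fun w : Bool × (B ⊓ U : Subgroup S) => (w.2 : S)) h)
          | exact Subtype.ext (mul_left_cancel (congrArg (fun w : Bool × (B ⊓ U : Subgroup S) => (w.2 : S)) h))
      refine (Nat.card_le_card_of_injective f hf).trans (le_of_eq ?_)
      rw [Nat.card_prod]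
      simp
    rcases hcls with hV | ⟨z, hQ⟩
    · have hne : U ≠ ⊥ := fun h => by
        have := hV.1
        rw [h, Subgroup.card_bot] at this
        omega
      have hlt := CfsgLib.FGStruct.NoAbelianEight.commutator_lt hU2 hA2 (hnormU A) hne
      have hW4 := CfsgLib.FGStruct.NoAbelianEight.two_mul_card_le hlt
      rw [hV.1] at hW4
      obtain ⟨b, hbU, hbW⟩ := SetLike.exists_of_lt hlt
      have hcomm : ∀ d ∈ A, ∀ u ∈ U, ⁅d, u⁆ ∈ ⁅U, A⁆ := fun d hd u hu => by
        rw [← commutatorElement_inv]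
        exact inv_mem (Subgroup.commutator_mem_commutator hu hd)
      have hAW : A ≤ Subgroup.normalizer ((⁅U, A⁆ : Subgroup S) : Set S) :=
        CfsgLib.FGStruct.NoAbelianEight.commutator_inv (hnormU A) Subgroup.le_normalizer
      have hfix : ∀ d ∈ A, ∀ w ∈ ⁅U, A⁆, d * w = w * d := by
        intro d hd w hw
        by_cases hw1 : w = 1
        · simp [hw1]
        have h2 : Nat.card (⁅U, A⁆ : Subgroup S) = 2 := by
          have := (Subgroup.one_lt_card_iff_ne_bot (⁅U, A⁆ : Subgroup S)).2 fun h => hw1 (by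
            rwa [h, Subgroup.mem_bot] at hw)
          omega
        obtain ⟨v, -, hv⟩ := (Nat.card_eq_two_iff' (1 : (⁅U, A⁆ : Subgroup S))).1 h2
        have hd' := CfsgLib.FGStruct.NoAbelianEight.conj_mem hAW hd hw
        have e1 := hv ⟨w, hw⟩ fun e => hw1 (congrArg Subtype.val e)
        have e2 := hv ⟨_, hd'⟩ fun e => hw1 (by simpa using congrArg Subtype.val e)
        exact mul_inv_eq_iff_eq_mul.1 (congrArg Subtype.val (e2.trans e1.symm))
      have hmemU : ∀ d, (∀ w ∈ ⁅U, A⁆, d * w = w * d) → d * b = b * d → d ∈ U := by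
        intro d h1 h2
        refine hCU ?_
        have hgen : Subgroup.closure (((⁅U, A⁆ : Subgroup S) : Set S) ∪ {b}) = U := by
          refine Subgroup.eq_of_le_of_card_ge ((Subgroup.closure_le _).2 (Set.union_subset hlt.le
            (Set.singleton_subset_iff.2 hbU))) ?_
          by_cases hbot : ⁅U, A⁆ = ⊥
          · -- then `A` would centralize `U`
            exfalso
            have h3 : A ≤ U := (Subgroup.le_centralizer_iff.1
              (Subgroup.commutator_eq_bot_iff_le_centralizer.1 hbot)).trans hCU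
            have := Subgroup.card_le_of_le h3
            rw [hA8, hV.1] at this
            omega
          · have h3 := (Subgroup.one_lt_card_iff_ne_bot (⁅U, A⁆ : Subgroup S)).2 hbot
            have h4 : (⁅U, A⁆ : Subgroup S) < Subgroup.closure (((⁅U, A⁆ : Subgroup S) : Set S) ∪ {b}) :=
              lt_of_le_of_ne (fun x hx => Subgroup.subset_closure (Or.inl hx)) fun h =>
                hbW (h.symm ▸ Subgroup.subset_closure (Or.inr rfl))
            have h5 := CfsgLib.FGStruct.NoAbelianEight.two_mul_card_le h4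
            rw [hV.1]
            omega
        rw [← hgen, Subgroup.centralizer_closure, Subgroup.mem_centralizer_iff]
        rintro x (hx | hx)
        · exact (h1 x hx).symm
        · cases hx; exact h2.symm
      have hA := hsmall A fun d₁ h₁ d₂ h₂ h1' h2' => by
        refine hmemU _ (hfix _ (mul_mem (inv_mem h₂) h₁)) ?_
        have key : ∀ d ∈ A, d ∉ U → ∀ d' ∈ A, d' ∉ U → ⁅d, b⁆ = ⁅d', b⁆ := by
          have hne1 : ∀ d ∈ A, d ∉ U → ⁅d, b⁆ ≠ 1 := fun d hd hd' h =>
            hd' (hmemU d (hfix d hd) (commutatorElement_eq_one_iff_mul_comm.1 h))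
          intro d hd hd' d' hd2 hd2'
          have h2 : Nat.card (⁅U, A⁆ : Subgroup S) = 2 := by
            have := (Subgroup.one_lt_card_iff_ne_bot (⁅U, A⁆ : Subgroup S)).2 fun h => hne1 d hd hd' (by
              have := hcomm d hd b hbU
              rwa [h, Subgroup.mem_bot] at this)
            omega
          obtain ⟨v, -, hv⟩ := (Nat.card_eq_two_iff' (1 : (⁅U, A⁆ : Subgroup S))).1 h2
          have e1 := hv ⟨_, hcomm d hd b hbU⟩ fun e => hne1 d hd hd' (congrArg Subtype.val e)
          have e2 := hv ⟨_, hcomm d' hd2 b hbU⟩ fun e => hne1 d' hd2 hd2' (congrArg Subtype.val e)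
          exact congrArg Subtype.val (e1.trans e2.symm)
        have h := key d₁ h₁ h1' d₂ h₂ h2'
        simp only [commutatorElement_def] at h
        have h' : d₁ * b * d₁⁻¹ = d₂ * b * d₂⁻¹ := mul_right_cancel h
        calc d₂⁻¹ * d₁ * b = d₂⁻¹ * (d₁ * b * d₁⁻¹) * d₁ := by group
          _ = b * (d₂⁻¹ * d₁) := by rw [h']; group
      have hinf : 2 * Nat.card (A ⊓ U : Subgroup S) ≤ 4 := by
        have h1 : A ⊓ U < U := lt_of_le_of_ne inf_le_right fun h => by
          have hUA : U ≤ A := h ▸ inf_le_left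
          have h3 : A ≤ U := fun d hd => hCU (Subgroup.mem_centralizer_iff.2 fun u hu =>
            congrArg Subtype.val (hAc.is_comm.comm ⟨u, hUA hu⟩ ⟨d, hd⟩))
          have := Subgroup.card_le_of_le h3
          rw [hA8, hV.1] at this
          omega
        exact hV.1 ▸ CfsgLib.FGStruct.NoAbelianEight.two_mul_card_le h1
      omega
    · have hzc : ∀ g : S, g * z = z * g := fun g =>
        mul_inv_eq_iff_eq_mul.1 (hQ.fix_z (hnormU ⊤ (Subgroup.mem_top g)))
      obtain ⟨-, hzU, hz1, hzz, -, hsq⟩ := id hQ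
      -- elements moving `U` only by `z` lie in `U`
      have hmemU : ∀ d, (∀ u ∈ U, ⁅d, u⁆ = 1 ∨ ⁅d, u⁆ = z) → d ∈ U := by
        intro d hd
        obtain ⟨w, hw, hwd⟩ := hQ.mem_mul_centralizer hd
        have := mul_mem hw (hCU hwd)
        rwa [mul_inv_cancel_left] at this
      set B := Subgroup.closure ((A : Set S) ∪ {z}) with hBdef
      have hBX : B ≤ (X : Subgroup S) := (Subgroup.closure_le _).2
        (Set.union_subset hAX (Set.singleton_subset_iff.2 (hUX hzU)))
      have hBc : IsMulCommutative B := CfsgLib.FGStruct.NoAbelianEight.comm_closure (by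
        rintro x (hx | hx) y (hy | hy)
        · exact congrArg Subtype.val (hAc.is_comm.comm ⟨x, hx⟩ ⟨y, hy⟩)
        · cases hy; exact hzc x
        · cases hx; exact (hzc y).symm
        · cases hx; cases hy; rfl)
      have hBcomm : ∀ x ∈ B, ∀ y ∈ B, x * y = y * x := fun x hx y hy =>
        congrArg Subtype.val (hBc.is_comm.comm ⟨x, hx⟩ ⟨y, hy⟩)
      have hAB : A ≤ B := fun x hx => Subgroup.subset_closure (Or.inl hx)
      have hzB : z ∈ B := Subgroup.subset_closure (Or.inr rfl)
      have hB2 : IsPGroup 2 B := hX2.to_le hBX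
      have hlt := hQ.commutator_sup_lt hB2 (hnormU B)
      set W := ⁅U, B⁆ ⊔ Subgroup.zpowers z with hW
      have hW8 := CfsgLib.FGStruct.NoAbelianEight.two_mul_card_le hlt
      rw [hQ.1] at hW8
      have hzW : z ∈ W := Subgroup.mem_sup_right (Subgroup.mem_zpowers z)
      have hcomm : ∀ d ∈ B, ∀ u ∈ U, ⁅d, u⁆ ∈ W := fun d hd u hu => by
        rw [← commutatorElement_inv]
        exact inv_mem (Subgroup.mem_sup_left (Subgroup.commutator_mem_commutator hu hd))
      -- if `W = ⟨z⟩` then `B ≤ U`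
      have hBU : ¬ B ≤ U := fun h => by
        have h1 : B < U := lt_of_le_of_ne h fun e => hQ.not_isMulCommutative (e ▸ hBc)
        have h2 := CfsgLib.FGStruct.NoAbelianEight.two_mul_card_le h1
        have h3 := Subgroup.card_le_of_le hAB
        rw [hQ.1] at h2
        omega
      obtain ⟨w, hwW, hw1, hwz⟩ : ∃ w ∈ W, w ≠ 1 ∧ w ≠ z := by
        by_contra h
        push Not at h
        refine hBU fun d hd => hmemU d fun u hu => ?_
        by_cases h1 : ⁅d, u⁆ = 1
        · exact Or.inl h1
        · exact Or.inr (h _ (hcomm d hd u hu) h1)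
      have hWw : W = Subgroup.zpowers w := (Subgroup.eq_of_le_of_card_ge (Subgroup.zpowers_le.2 hwW)
        (by rw [hQ.card_zpowers (hlt.le hwW) hw1 hwz]; omega)).symm
      have hW4 : Nat.card W = 4 := by rw [hWw]; exact hQ.card_zpowers (hlt.le hwW) hw1 hwz
      have hwsq : w * w = z := hsq w (hlt.le hwW) hw1 hwz
      -- off `⟨z⟩`, `W` is one coset
      have hWcases : ∀ v ∈ W, v = 1 ∨ v = z ∨ v = w ∨ v = z * w := by
        intro v hv
        rw [hWw] at hv
        obtain ⟨m, rfl⟩ := hv
        show w ^ m = 1 ∨ w ^ m = z ∨ w ^ m = w ∨ w ^ m = z * w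
        rcases Int.even_or_odd' m with ⟨k, rfl | rfl⟩ <;> rcases Int.even_or_odd' k with ⟨l, rfl | rfl⟩
        · left; rw [zpow_mul, zpow_two, hwsq, zpow_mul, zpow_two, hzz, one_zpow]
        · right; left; rw [zpow_mul, zpow_two, hwsq, zpow_add_one, zpow_mul, zpow_two, hzz, one_zpow, one_mul]
        · right; right; left
          rw [zpow_add_one, zpow_mul, zpow_two, hwsq, zpow_mul, zpow_two, hzz, one_zpow, one_mul]
        · right; right; right
          rw [zpow_add_one, zpow_mul, zpow_two, hwsq, zpow_add_one, zpow_mul, zpow_two, hzz, one_zpow, one_mul]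
      obtain ⟨b, hbU, hbW⟩ := SetLike.exists_of_lt hlt
      have hgen : Subgroup.closure ({w, b} : Set S) = U := by
        refine Subgroup.eq_of_le_of_card_ge ((Subgroup.closure_le _).2 (by
          rintro x (rfl | rfl)
          exacts [hlt.le hwW, hbU])) ?_
        have h4 : Subgroup.zpowers w < Subgroup.closure ({w, b} : Set S) :=
          lt_of_le_of_ne (Subgroup.zpowers_le.2 (Subgroup.subset_closure (Or.inl rfl))) fun h =>
            hbW (hWw.symm ▸ (h.symm ▸ Subgroup.subset_closure (Or.inr rfl)))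
        have h5 := CfsgLib.FGStruct.NoAbelianEight.two_mul_card_le h4
        rw [← hWw, hW4] at h5
        rw [hQ.1]
        omega
      have hmove : ∀ d : S, (⁅d, w⁆ = 1 ∨ ⁅d, w⁆ = z) → (⁅d, b⁆ = 1 ∨ ⁅d, b⁆ = z) →
          ∀ u ∈ U, ⁅d, u⁆ = 1 ∨ ⁅d, u⁆ = z := by
        intro d h1 h2 u hu
        rw [← hgen] at hu
        induction hu using Subgroup.closure_induction with
        | mem x hx =>
          rcases hx with rfl | rfl
          exacts [h1, h2]
        | one => exact Or.inl (commutatorElement_one_right d)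
        | mul x y _ _ ihx ihy =>
          have e : ⁅d, x * y⁆ = ⁅d, x⁆ * (x * ⁅d, y⁆ * x⁻¹) := by
            simp only [commutatorElement_def]; group
          rw [e]
          rcases ihx with hx | hx <;> rcases ihy with hy | hy <;> rw [hx, hy] <;>
            simp [hzc x, hzz]
        | inv x _ ihx =>
          have e : ⁅d, x⁻¹⁆ = x⁻¹ * ⁅d, x⁆⁻¹ * x := by
            simp only [commutatorElement_def]; group
          rw [e]
          rcases ihx with hx | hx <;> rw [hx]
          · left; group
          · right; rw [inv_eq_of_mul_eq_one_right hzz, hzc, mul_assoc, inv_mul_cancel, mul_one]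
      have hWfix : ∀ d ∈ B, ⁅d, w⁆ = 1 ∨ ⁅d, w⁆ = z := by
        intro d hd
        have hc : d * w * d⁻¹ ∈ W := by
          have := mul_mem (hcomm d hd w (hlt.le hwW)) hwW
          rwa [commutatorElement_def, inv_mul_cancel_right] at this
        rw [commutatorElement_def]
        rcases hWcases _ hc with h | h | h | h
        · exact absurd (by simpa using h) hw1
        · refine absurd ?_ hwz
          calc w = d⁻¹ * (d * w * d⁻¹) * d := by group
            _ = z := by rw [h, hzc d⁻¹, mul_assoc, inv_mul_cancel, mul_one]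
        · left; rw [h, mul_inv_cancel]
        · right; rw [h, mul_inv_cancel_right]
      have hB := hsmall B fun d₁ h₁ d₂ h₂ h1' h2' => by
        have key : ∀ d ∈ B, d ∉ U → ⁅d, b⁆ = w ∨ ⁅d, b⁆ = z * w := fun d hd hd' => by
          rcases hWcases _ (hcomm d hd b hbU) with h | h | h | h
          · exact absurd (hmemU d (hmove d (hWfix d hd) (Or.inl h))) hd'
          · exact absurd (hmemU d (hmove d (hWfix d hd) (Or.inr h))) hd'
          · exact Or.inl h
          · exact Or.inr h
        refine hmemU _ (hmove _ (hWfix _ (mul_mem (inv_mem h₂) h₁)) ?_)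
        obtain ⟨c, hc, hcz⟩ : ∃ c, (c = 1 ∨ c = z) ∧ d₁ * b * d₁⁻¹ = c * (d₂ * b * d₂⁻¹) := by
          have e : ∀ d, d * b * d⁻¹ = ⁅d, b⁆ * b := fun d => by rw [commutatorElement_def]; group
          rcases key d₁ h₁ h1' with h | h <;> rcases key d₂ h₂ h2' with h' | h'
          · exact ⟨1, Or.inl rfl, by rw [e, e, h, h', one_mul]⟩
          · exact ⟨z, Or.inr rfl, by rw [e, e, h, h', ← mul_assoc, ← mul_assoc, hzz, one_mul]⟩
          · exact ⟨z, Or.inr rfl, by rw [e, e, h, h', mul_assoc]⟩
          · exact ⟨1, Or.inl rfl, by rw [e, e, h, h', one_mul]⟩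
        have e2 : ⁅d₂⁻¹ * d₁, b⁆ = d₂⁻¹ * c * d₂ := by
          rw [show ⁅d₂⁻¹ * d₁, b⁆ = d₂⁻¹ * (d₁ * b * d₁⁻¹) * d₂ * b⁻¹ by
            rw [commutatorElement_def]; group, hcz]
          group
        rw [e2]
        rcases hc with rfl | rfl
        · left; group
        · right; rw [hzc, mul_assoc, inv_mul_cancel, mul_one]
      have hinf : 2 * Nat.card (B ⊓ U : Subgroup S) ≤ 8 := by
        have h1 : B ⊓ U < U := lt_of_le_of_ne inf_le_right fun h => hQ.not_isMulCommutative
          ⟨⟨fun x y => Subtype.ext (hBcomm x.1 ((h.ge x.2).1) y.1 ((h.ge y.2).1))⟩⟩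
        exact hQ.1 ▸ CfsgLib.FGStruct.NoAbelianEight.two_mul_card_le h1
      have hAB' : A = B := Subgroup.eq_of_le_of_card_ge hAB (by omega)
      have hzA : z ∈ A := hAB'.symm ▸ hzB
      have hAU4 : Nat.card (A ⊓ U : Subgroup S) = 4 := by
        rw [← hAB'] at hB hinf
        omega
      obtain ⟨i, hiAU, hi1, hiz⟩ : ∃ i ∈ A ⊓ U, i ≠ 1 ∧ i ≠ z := by
        by_contra h
        push Not at h
        have hle : A ⊓ U ≤ Subgroup.zpowers z := fun x hx => by
          by_cases hx1 : x = 1
          · simp [hx1]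
          · rw [h x hx hx1]; exact Subgroup.mem_zpowers z
        have h1 := Subgroup.card_le_of_le hle
        rw [hAU4, Nat.card_zpowers, orderOf_eq_prime (p := 2) (by rw [pow_two]; exact hzz) hz1] at h1
        omega
      have hI : A ⊓ U = Subgroup.zpowers i := (Subgroup.eq_of_le_of_card_ge (Subgroup.zpowers_le.2 hiAU)
        (by rw [hQ.card_zpowers hiAU.2 hi1 hiz, hAU4])).symm
      obtain ⟨d, hdA, hdU, hd2⟩ := CfsgLib.FGStruct.NoAbelianEight.exists_square_mem hA2
        (fun h => hBU (hAB' ▸ h))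
      have hii : i * i = z := hsq i hiAU.2 hi1 hiz
      obtain ⟨t, htA, htU, htt⟩ : ∃ t ∈ A, t ∉ U ∧ t * t = 1 := by
        by_cases h1 : d * d = 1
        · exact ⟨d, hdA, hdU, h1⟩
        by_cases h2 : d * d = z
        · refine ⟨d * i, mul_mem hdA hiAU.1, fun h => hdU ?_, ?_⟩
          · have := mul_mem h (inv_mem hiAU.2)
            rwa [mul_inv_cancel_right] at this
          · have hdi : i * d = d * i := congrArg Subtype.val (hAc.is_comm.comm ⟨i, hiAU.1⟩ ⟨d, hdA⟩)
            rw [show d * i * (d * i) = d * (i * d) * i by group, hdi,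
              show d * (d * i) * i = (d * d) * (i * i) by group, h2, hii, hzz]
        · exfalso
          refine hAn (isCyclic_of_orderOf_eq_card (⟨d, hdA⟩ : A) ?_)
          rw [Subgroup.orderOf_mk, hA8]
          have h3 := hsq _ hd2 h1 h2
          refine orderOf_eq_prime_pow (p := 2) (n := 2) (fun h => hz1 ?_) ?_
          · rw [show (2 : ℕ) ^ 2 = 2 * 2 by norm_num, pow_mul] at h
            simp only [pow_two] at h
            rw [← h3, h]
          · rw [show (2 : ℕ) ^ (2 + 1) = 2 * (2 * 2) by norm_num, pow_mul, pow_mul]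
            simp only [pow_two]
            rw [h3, hzz]
      have hti : ∀ x ∈ Subgroup.zpowers i, t * x = x * t := fun x hx =>
        congrArg Subtype.val (hAc.is_comm.comm ⟨t, htA⟩ ⟨x, (hI.symm ▸ hx : x ∈ A ⊓ U).1⟩)
      have hidx : ((Subgroup.zpowers i).subgroupOf U).index = 2 := by
        have h := ((Subgroup.zpowers i).subgroupOf U).card_mul_index
        rw [Nat.card_congr (Subgroup.subgroupOfEquivOfLe (Subgroup.zpowers_le.2 hiAU.2)).toEquiv,
          hQ.card_zpowers hiAU.2 hi1 hiz, hQ.1] at h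
        omega
      refine htU (hmemU t fun u hu => ?_)
      have htu : t * u * t⁻¹ ∈ U := hUn.conj_mem u hu t
      by_cases hui : u ∈ Subgroup.zpowers i
      · exact Or.inl (commutatorElement_eq_one_iff_mul_comm.2 (hti u hui))
      have hci : ⁅t, u⁆ ∈ Subgroup.zpowers i := by
        have hnot : t * u * t⁻¹ ∉ Subgroup.zpowers i := fun h => hui (by
          have h1 := hti _ h
          have h2 : t * u = u * t := by
            calc t * u = t⁻¹ * (t * (t * u * t⁻¹)) * t := by group
              _ = t⁻¹ * ((t * u * t⁻¹) * t) * t := by rw [h1]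
              _ = _ := by group
          rw [h2, mul_inv_cancel_right] at h
          exact h)
        have h1 := Subgroup.mul_mem_iff_of_index_two hidx (a := ⟨t * u * t⁻¹, htu⟩) (b := ⟨u, hu⟩⁻¹)
        rw [Subgroup.mem_subgroupOf, Subgroup.mem_subgroupOf, Subgroup.mem_subgroupOf] at h1
        rw [commutatorElement_def]
        exact h1.2 ⟨fun h => absurd h hnot, fun h => absurd (by simpa using h) hui⟩
      set v := ⁅t, u⁆ with hv
      have hvv : v * v = 1 := by
        have e : u = t * (t * u * t⁻¹) * t⁻¹ := by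
          rw [show t * (t * u * t⁻¹) * t⁻¹ = (t * t) * u * (t * t)⁻¹ by group, htt]; group
        have e2 : t * u * t⁻¹ = v * u := by rw [hv, commutatorElement_def]; group
        rw [e2, ← mul_assoc, hti v hci, mul_assoc v t u, show v * (t * u) * t⁻¹ = v * (t * u * t⁻¹) by group, e2,
          ← mul_assoc] at e
        exact mul_right_cancel (b := u) (by rw [one_mul]; exact e.symm)
      by_contra h
      rw [not_or] at h
      exact hz1 (hvv ▸ (hsq v ((Subgroup.zpowers_le.2 hiAU.2) hci) h.1 h.2).symm)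
  -- `X` is normal
  have hXn : (X : Subgroup S).Normal := hUeq ▸ hUn
  refine ⟨hXn, ?_⟩
  have hout := (CfsgLib.FGStruct.NoAbelianEight.classify hKodd _ (X : Subgroup S) rfl hX2
    (hUeq ▸ hnormU K) (hUeq ▸ hKU) fun Y hY hne hKY => hprop Y hY hne hKY).1
  rcases hout with h | ⟨z, hQ⟩ | h | ⟨X₀, z, hle, hQ, hidx, hgen⟩ | h
  · exact Or.inl h
  · exfalso
    have hAe : A = (X : Subgroup S) := Subgroup.eq_of_le_of_card_ge hAX (by rw [hA8, hQ.1])
    exact hQ.not_isMulCommutative (hAe ▸ hAc)
  · exact Or.inr (Or.inl h)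
  · refine Or.inr (Or.inr (Or.inl ⟨X₀, 0, hle, hidx, ?_, hgen⟩))
    obtain ⟨i, hi, j, hj, hi1, hiz, hjn, -⟩ := hQ.exists_pair
    have hne := hQ.not_comm hi hj hi1 hiz hjn
    rcases CfsgLib.StdForm.dihedral_or_quaternion_of_card_eight hQ.1
      (g := (⟨i, hi⟩ : X₀)) (h := ⟨j, hj⟩) (fun e => hne (congrArg Subtype.val e)) with he0 | he
    · exfalso
      obtain ⟨e⟩ := he0
      have huniq : ∀ x : X₀, x * x = 1 → x = 1 ∨ (x : S) = z := by
        intro x hx
        by_contra h
        rw [not_or] at h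
        have h1 := hQ.2.2.2.2.2 x x.2 (fun e => h.1 (Subtype.ext e)) h.2
        exact hQ.2.2.1 (h1.symm.trans (congrArg Subtype.val hx))
      have h0 := huniq (e.symm (DihedralGroup.sr 0)) (by rw [← map_mul, DihedralGroup.sr_mul_self, map_one])
      have h1 := huniq (e.symm (DihedralGroup.sr 1)) (by rw [← map_mul, DihedralGroup.sr_mul_self, map_one])
      have hn0 : ∀ k : ZMod 4, e.symm (DihedralGroup.sr k) ≠ 1 := fun k h => by
        have := congrArg e h
        rw [MulEquiv.apply_symm_apply, map_one, DihedralGroup.one_def] at this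
        cases this
      have := e.symm.injective (Subtype.ext ((h0.resolve_left (hn0 0)).trans (h1.resolve_left (hn0 1)).symm))
      exact absurd this (by decide)
    · exact he
  · exact Or.inr (Or.inr (Or.inr h))

end Cfsg.Agent.S4409
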