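import Cfsg.Statements.S4410
import Cfsg.Agent.Lib.Solvable.Core
import Mathlib

set_option autoImplicit false
open Cfsg

namespace Cfsg.Agent.S4410

variable {V : Type*} [AddCommGroup V] [Module (ZMod 2) V] [Finite V]

/-- `u` is a transvection with centre `v`. -/
def IsTv (u : V ≃ₗ[ZMod 2] V) (v : V) : Prop :=
  v ≠ 0 ∧ u v = v ∧ ∀ x, u x = x ∨ u x = x + v

theorem add_self_eq_zero (x : V) : x + x = 0 := by
  rw [← two_smul (ZMod 2) x, show (2 : ZMod 2) = 0 from rfl, zero_smul]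

theorem isTv_conj {u : V ≃ₗ[ZMod 2] V} {v : V} (h : IsTv u v) (g : V ≃ₗ[ZMod 2] V) :
    IsTv (g * u * g⁻¹) (g v) := by
  obtain ⟨h0, hv, hx⟩ := h
  refine ⟨fun h => h0 (g.injective (by rw [h, map_zero])), ?_, fun x => ?_⟩
  · show g (u (g.symm (g v))) = g v
    rw [LinearEquiv.symm_apply_apply, hv]
  · show g (u (g.symm x)) = x ∨ g (u (g.symm x)) = x + g v
    rcases hx (g.symm x) with h | h
    · exact Or.inl (by rw [h, LinearEquiv.apply_symm_apply])
    · exact Or.inr (by rw [h, map_add, LinearEquiv.apply_symm_apply])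

/-- If `u` moves the centre of `w` and conversely not, the product has order dividing four. -/
theorem pow_four {u w : V ≃ₗ[ZMod 2] V} {a b : V} (hu : IsTv u a) (hw : IsTv w b)
    (h : u b = b) : (u * w) ^ 4 = 1 := by
  have key : ∀ x, (u * w) x = x ∨ (u * w) x = x + a ∨ (u * w) x = x + b ∨ (u * w) x = x + a + b := by
    intro x
    show u (w x) = x ∨ u (w x) = x + a ∨ u (w x) = x + b ∨ u (w x) = x + a + b
    rcases hu.2.2 x with h1 | h1 <;> rcases hw.2.2 x with h2 | h2 <;> rw [h2] <;>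
      simp only [map_add, h1, h] <;> tauto
  have hb : (u * w) b = b := by
    show u (w b) = b
    rw [hw.2.1, h]
  have ha : (u * w) a = a ∨ (u * w) a = a + b := by
    show u (w a) = a ∨ u (w a) = a + b
    rcases hw.2.2 a with h2 | h2 <;> rw [h2] <;> simp only [map_add, hu.2.1, h] <;> tauto
  set g := u * w with hg
  have z1 : ∀ y : V, y + b + b = y := fun y => by rw [add_assoc, add_self_eq_zero, add_zero]
  have z2 : ∀ y : V, y + a + a = y := fun y => by rw [add_assoc, add_self_eq_zero, add_zero]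
  apply LinearEquiv.ext
  intro x
  show g (g (g (g x))) = x
  obtain ⟨p, hp, hgp⟩ : ∃ p, g x = x + p ∧ (g p = p ∨ g p = p + b) := by
    rcases key x with h1 | h1 | h1 | h1
    · exact ⟨0, by rw [h1, add_zero], Or.inl (map_zero g)⟩
    · exact ⟨a, h1, ha⟩
    · exact ⟨b, h1, Or.inl hb⟩
    · refine ⟨a + b, by rw [h1, add_assoc], ?_⟩
      rcases ha with h2 | h2
      · exact Or.inl (by rw [map_add, h2, hb])
      · exact Or.inr (by rw [map_add, h2, hb])
  have main : g (g x) = x ∨ g (g x) = x + b := by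
    rw [hp, map_add, hp]
    rcases hgp with h2 | h2 <;> rw [h2]
    · exact Or.inl (by rw [add_assoc, add_self_eq_zero, add_zero])
    · exact Or.inr (by rw [← add_assoc, add_assoc x p p, add_self_eq_zero, add_zero])
  rcases main with h1 | h1
  · rw [h1, h1]
  · rw [h1, map_add, map_add, hb, hb, h1, z1]

/-- Two distinct transvections with product of odd order move each other's centres. -/
theorem moves {u w : V ≃ₗ[ZMod 2] V} {a b : V} (hu : IsTv u a) (hw : IsTv w b) (hu2 : u * u = 1)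
    (hne : u ≠ w) (hodd : Odd (orderOf (u * w))) : u b = b + a := by
  rcases hu.2.2 b with h | h
  · exfalso
    have h4 : orderOf (u * w) ∣ 2 ^ 2 := orderOf_dvd_of_pow_eq_one (pow_four hu hw h)
    obtain ⟨k, -, hk⟩ := (Nat.dvd_prime_pow Nat.prime_two).1 h4
    rcases k with _ | k
    · rw [pow_zero, orderOf_eq_one_iff] at hk
      exact hne (mul_left_cancel (hu2.trans hk.symm))
    · rw [hk, pow_succ] at hodd
      exact Nat.not_even_iff_odd.2 hodd (even_two.mul_left _)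
  · exact h

/-- A cubic element of order four in a solvable linear group over `F₂` with trivial 2-core has `(P-1)²` of rank
at least two. -/
theorem result
    {V : Type*} [AddCommGroup V] [Module (ZMod 2) V] [Finite V]
    (S : Subgroup (V ≃ₗ[ZMod 2] V)) (hS : Group.IsSolvable ↥S) (hO2 : Cfsg.pCore 2 ↥S = ⊥)
    (P : V ≃ₗ[ZMod 2] V) (hPS : P ∈ S) (hP4 : orderOf P = 4)
    (hcub : ((P : V →ₗ[ZMod 2] V) - LinearMap.id) ^ 3 = 0) :
    4 ≤ Nat.card ↥(LinearMap.range (((P : V →ₗ[ZMod 2] V) - LinearMap.id) ^ 2)) := by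
  classical
  haveI : Finite (V ≃ₗ[ZMod 2] V) := Finite.of_injective (fun e => (e : V → V)) DFunLike.coe_injective
  haveI : Fact (Nat.Prime 2) := ⟨Nat.prime_two⟩
  set M := ((P : V →ₗ[ZMod 2] V) - LinearMap.id) ^ 2 with hM
  have hMx : ∀ x, M x = P (P x) + x := by
    intro x
    rw [hM, pow_two, Module.End.mul_apply]
    simp only [LinearMap.sub_apply, LinearEquiv.coe_coe, LinearMap.id_apply, map_sub]
    have e : ∀ y : V, -y = y := fun y => neg_eq_of_add_eq_zero_left (add_self_eq_zero y)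
    simp only [sub_eq_add_neg, neg_add_rev, e]
    trans P (P x) + x + (P x + P x)
    · abel
    · rw [add_self_eq_zero, add_zero]
  by_contra hlt
  set t := P ^ 2 with ht
  have ht1 : t ≠ 1 := pow_ne_one_of_lt_orderOf (by norm_num) (by omega)
  have ht2 : t * t = 1 := by
    rw [ht, ← pow_add, show 2 + 2 = orderOf P by rw [hP4]]
    exact pow_orderOf_eq_one P
  have htx : ∀ x, t x = P (P x) := fun x => by rw [ht, pow_two]; rfl
  obtain ⟨v, hvmem, hv0⟩ : ∃ v ∈ LinearMap.range M, v ≠ 0 := by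
    by_contra! hcon
    refine ht1 (LinearEquiv.ext fun x => ?_)
    have h := hcon _ (LinearMap.mem_range_self M x)
    rw [hMx] at h
    show t x = x
    rw [htx, eq_neg_of_add_eq_zero_left h]
    exact neg_eq_of_add_eq_zero_left (add_self_eq_zero x)
  have htv : IsTv t v := by
    have hr : ∀ y ∈ LinearMap.range M, y = 0 ∨ y = v := by
      intro y hy
      by_contra! hy'
      apply hlt
      have := Fintype.ofFinite ↥(LinearMap.range M)
      have h4 : ({0, ⟨v, hvmem⟩, ⟨y, hy⟩, ⟨v, hvmem⟩ + ⟨y, hy⟩} : Finset ↥(LinearMap.range M)).card = 4 := by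
        have n0 : v + y ≠ 0 := fun h => hy'.2 ((neg_eq_of_add_eq_zero_right h).symm.trans
          (neg_eq_of_add_eq_zero_left (add_self_eq_zero v)))
        have n1 : v ≠ v + y := fun h => hy'.1 (by simpa using h)
        have n2 : y ≠ v + y := fun h => hv0 (by simpa using h)
        repeat rw [Finset.card_insert_of_notMem]
        · simp
        · simp only [Finset.mem_singleton, Subtype.ext_iff]; exact n2
        · simp only [Finset.mem_insert, Finset.mem_singleton, Subtype.ext_iff, not_or]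
          exact ⟨Ne.symm hy'.2, n1⟩
        · simp only [Finset.mem_insert, Finset.mem_singleton, Subtype.ext_iff, not_or]
          exact ⟨Ne.symm hv0, Ne.symm hy'.1, Ne.symm n0⟩
      rw [← h4, Nat.card_eq_fintype_card]
      exact Finset.card_le_univ _
    refine ⟨hv0, ?_, fun x => ?_⟩
    · obtain ⟨w, hw⟩ := hvmem
      have h3 : M (P w - w) = 0 := by
        have h := LinearMap.congr_fun hcub w
        rw [pow_succ] at h
        exact h
      have h5 : M v = 0 := by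
        rw [← hw]
        have h6 : M w = P (P w - w) - (P w - w) := by rw [hM, pow_two]; rfl
        have hcomm : ∀ z, M (P z) = P (M z) := fun z => by rw [hMx, hMx, map_add]
        rw [h6, map_sub, hcomm, h3, map_zero, sub_zero]
      rw [hMx] at h5
      rw [htx, eq_neg_of_add_eq_zero_left h5]
      exact neg_eq_of_add_eq_zero_left (add_self_eq_zero v)
    · have e : t x = x + M x := by rw [hMx, htx, add_left_comm, add_self_eq_zero, add_zero]
      rw [e]
      exact (hr _ (LinearMap.mem_range_self M x)).imp (fun h => by rw [h, add_zero]) (fun h => by rw [h])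
  -- the Fitting subgroup
  haveI hFn := CfsgLib.Solvable.fittingSubgroup_normal ↥S
  haveI hFnil := CfsgLib.Solvable.fittingSubgroup_isNilpotent ↥S
  set F := Cfsg.fittingSubgroup ↥S with hFdef
  have hFodd : Odd (Nat.card ↥F) := by
    rw [← Nat.not_even_iff_odd, even_iff_two_dvd]
    intro h2
    obtain ⟨Q⟩ : Nonempty (Sylow 2 ↥F) := inferInstance
    haveI : (Q : Subgroup ↥F).Characteristic := Sylow.characteristic_of_normal _ inferInstance
    have hle := CfsgLib.Solvable.le_pCore (p := 2) (inferInstance : ((Q : Subgroup ↥F).map F.subtype).Normal) (Q.isPGroup'.map _)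
    rw [hO2, le_bot_iff, (Subgroup.map_eq_bot_iff_of_injective _ F.subtype_injective)] at hle
    exact Q.ne_bot_of_dvd_card h2 hle
  have hoddF : ∀ f : ↥S, f ∈ F → Odd (orderOf (f : V ≃ₗ[ZMod 2] V)) := fun f hf => by
    rw [Subgroup.orderOf_coe]
    exact hFodd.of_dvd_nat (Subgroup.orderOf_dvd_natCard F hf)
  let tS : ↥S := ⟨t, S.pow_mem hPS 2⟩
  have htS2 : tS * tS = 1 := Subtype.ext ht2
  have hti : tS⁻¹ = tS := inv_eq_of_mul_eq_one_right htS2
  -- the conjugates of `t` under `F`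
  let cj : ↥S → ↥S := fun a => a * tS * a⁻¹
  let D : Set ↥S := cj '' (F : Set ↥S)
  have hDtv : ∀ d ∈ D, ∃ b, IsTv (d : V ≃ₗ[ZMod 2] V) b ∧ d * d = 1 := by
    rintro _ ⟨a, -, rfl⟩
    refine ⟨(a : V ≃ₗ[ZMod 2] V) v, isTv_conj htv _, ?_⟩
    show a * tS * a⁻¹ * (a * tS * a⁻¹) = 1
    rw [show a * tS * a⁻¹ * (a * tS * a⁻¹) = a * (tS * tS) * a⁻¹ by group, htS2, mul_one, mul_inv_cancel]
  have hDclosed : ∀ d ∈ D, ∀ d' ∈ D, d * d' * d ∈ D := by
    rintro _ ⟨a, ha, rfl⟩ _ ⟨a', ha', rfl⟩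
    have hm : (cj a * a' * tS) ∈ F := by
      have : cj a * a' * tS = a * (tS * (a⁻¹ * a') * tS⁻¹) := by
        show a * tS * a⁻¹ * a' * tS = _
        rw [hti]; group
      rw [this]
      exact F.mul_mem ha (hFn.conj_mem _ (F.mul_mem (F.inv_mem ha) ha') tS)
    refine ⟨_, hm, ?_⟩
    have hd : (cj a)⁻¹ = cj a := by
      show (a * tS * a⁻¹)⁻¹ = a * tS * a⁻¹
      rw [mul_inv_rev, mul_inv_rev, inv_inv, hti, mul_assoc]
    show cj a * a' * tS * tS * (cj a * a' * tS)⁻¹ = cj a * cj a' * cj a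
    rw [mul_assoc (cj a * a') tS tS, htS2, mul_one, mul_inv_rev, mul_inv_rev, hti, hd]
    show cj a * a' * (tS * (a'⁻¹ * cj a)) = cj a * (a' * tS * a'⁻¹) * cj a
    group
  have hDprod : ∀ d ∈ D, ∀ d' ∈ D, Odd (orderOf ((d : V ≃ₗ[ZMod 2] V) * d')) := by
    rintro _ ⟨a, ha, rfl⟩ _ ⟨a', ha', rfl⟩
    rw [← Subgroup.coe_mul]
    refine hoddF _ ?_
    have : cj a * cj a' = a * (tS * (a⁻¹ * a') * tS⁻¹) * a'⁻¹ := by
      show a * tS * a⁻¹ * (a' * tS * a'⁻¹) = _
      rw [hti]; group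
    rw [this]
    exact F.mul_mem (F.mul_mem ha (hFn.conj_mem _ (F.mul_mem (F.inv_mem ha) ha') tS)) (F.inv_mem ha')
  -- at most three conjugates
  have hD3 : ∀ d1 ∈ D, ∀ d2 ∈ D, ∀ d3 ∈ D, d1 ≠ d2 → d1 ≠ d3 → d2 ≠ d3 → d3 = d2 * d1 * d2 := by
    intro d1 h1 d2 h2 d3 h3 h12 h13 h23
    obtain ⟨b1, ht1', hs1⟩ := hDtv d1 h1
    obtain ⟨b2, ht2', hs2⟩ := hDtv d2 h2
    obtain ⟨b3, ht3', hs3⟩ := hDtv d3 h3
    have ne : ∀ {x y : ↥S}, x ≠ y → (x : V ≃ₗ[ZMod 2] V) ≠ y := fun h h' => h (Subtype.ext h')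
    have m21 := moves ht2' ht1' (congrArg Subtype.val hs2) (ne h12.symm) (hDprod _ h2 _ h1)
    have m31 := moves ht3' ht1' (congrArg Subtype.val hs3) (ne h13.symm) (hDprod _ h3 _ h1)
    have m32 := moves ht3' ht2' (congrArg Subtype.val hs3) (ne h23.symm) (hDprod _ h3 _ h2)
    by_contra hne
    obtain ⟨-, hnew, -⟩ := hDtv _ (hDclosed d2 h2 d1 h1)
    have hd2i : (d2 : V ≃ₗ[ZMod 2] V)⁻¹ = d2 := inv_eq_of_mul_eq_one_right (congrArg Subtype.val hs2)
    have hc : IsTv ((d2 * d1 * d2 : ↥S) : V ≃ₗ[ZMod 2] V) ((d2 : V ≃ₗ[ZMod 2] V) b1) := by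
      have h := isTv_conj ht1' (d2 : V ≃ₗ[ZMod 2] V)
      rw [hd2i] at h
      exact h
    have m3n := moves ht3' hc (congrArg Subtype.val hs3) (ne hne) (hDprod _ h3 _ (hDclosed d2 h2 d1 h1))
    rw [m21, map_add, m31, m32] at m3n
    have hz : b1 + b3 + (b2 + b3) = b1 + b2 := by
      rw [add_add_add_comm, add_self_eq_zero, add_zero]
    rw [hz] at m3n
    exact ht3'.1 (by simpa using m3n)
  -- the elements of `F` inverted by `t`
  obtain ⟨f, hf, hfne⟩ : ∃ f ∈ F, tS * f * tS⁻¹ ≠ f := by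
    by_contra! hcon
    have hm : tS ∈ F := CfsgLib.Solvable.centralizer_fittingSubgroup_le fun y hy =>
      (mul_inv_eq_iff_eq_mul.1 (hcon y hy)).symm
    obtain ⟨k, hk⟩ := hoddF tS hm
    have h2 : orderOf t = 2 := orderOf_eq_prime (by rw [pow_two]; exact ht2) ht1
    change orderOf t = 2 * k + 1 at hk
    omega
  have sq_inj : ∀ y z : ↥S, y ∈ F → z ∈ F → y * y = z * z → y = z := by
    intro y z hy hz h
    obtain ⟨m, hm⟩ := hFodd
    have e : ∀ w : ↥S, w ∈ F → (w * w) ^ (m + 1) = w := by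
      intro w hw
      have h1 := pow_card_eq_one' (x := (⟨w, hw⟩ : ↥F))
      rw [hm] at h1
      have h2 : w ^ (2 * m + 1) = 1 := congrArg Subtype.val h1
      rw [← pow_two, ← pow_mul, show 2 * (m + 1) = (2 * m + 1) + 1 by ring, pow_succ, h2, one_mul]
    rw [← e y hy, h, e z hz]
  set x : ↥S := f⁻¹ * (tS * f * tS⁻¹) with hx
  have hxF : x ∈ F := F.mul_mem (F.inv_mem hf) (hFn.conj_mem f hf tS)
  have hx1 : x ≠ 1 := fun h => hfne (inv_mul_eq_one.1 h).symm
  have hxinv : tS * x * tS⁻¹ = x⁻¹ := by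
    rw [hx, hti, mul_inv_rev, inv_inv, mul_inv_rev, mul_inv_rev, hti]
    calc tS * (f⁻¹ * (tS * f * tS)) * tS = tS * (f⁻¹ * (tS * f * (tS * tS))) := by group
      _ = tS * (f⁻¹ * tS) * f := by rw [htS2]; group
  have hxx : x⁻¹ ≠ x := fun h => by
    refine hx1 (sq_inj x 1 hxF F.one_mem ?_)
    nth_rw 1 [← h]
    rw [inv_mul_cancel, one_mul]
  have himg : ∀ y : ↥S, tS * y * tS⁻¹ = y⁻¹ → cj y = y * y * tS := by
    intro y hy
    have h1 : tS * y⁻¹ = y * tS := by
      have h2 := congrArg Inv.inv hy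
      rw [inv_inv, mul_inv_rev, mul_inv_rev, inv_inv, ← mul_assoc] at h2
      calc tS * y⁻¹ = tS * y⁻¹ * tS⁻¹ * tS := by group
        _ = y * tS := by rw [h2]
    show y * tS * y⁻¹ = _
    rw [mul_assoc, h1, mul_assoc]
  let PS : ↥S := ⟨P, hPS⟩
  have hPt : PS * tS = tS * PS := Subtype.ext (by show P * t = t * P; rw [ht, ← pow_succ', ← pow_succ])
  set y : ↥S := PS * x * PS⁻¹ with hy
  have hyF : y ∈ F := hFn.conj_mem x hxF PS
  have hyinv : tS * y * tS⁻¹ = y⁻¹ := by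
    calc tS * y * tS⁻¹ = (tS * PS) * x * (tS * PS)⁻¹ := by rw [hy]; group
      _ = (PS * tS) * x * (PS * tS)⁻¹ := by rw [hPt]
      _ = PS * (tS * x * tS⁻¹) * PS⁻¹ := by group
      _ = y⁻¹ := by rw [hxinv, hy]; group
  have hy3 : y = x ∨ y = x⁻¹ := by
    by_contra! hne
    have hxinv' : tS * x⁻¹ * tS⁻¹ = x⁻¹⁻¹ := by
      have : tS * x⁻¹ * tS⁻¹ = (tS * x * tS⁻¹)⁻¹ := by group
      rw [this, hxinv]
    have hy1 : y ≠ 1 := fun h => hx1 (by
      rw [hy] at h
      calc x = PS⁻¹ * (PS * x * PS⁻¹) * PS := by group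
        _ = 1 := by rw [h]; group)
    have hinj : ∀ a b : ↥S, a ∈ F → b ∈ F → tS * a * tS⁻¹ = a⁻¹ → tS * b * tS⁻¹ = b⁻¹ → cj a = cj b → a = b := by
      intro a b ha hb hia hib h
      rw [himg a hia, himg b hib] at h
      exact sq_inj a b ha hb (mul_right_cancel h)
    have m0 : tS ∈ D := ⟨1, F.one_mem, by show 1 * tS * (1 : ↥S)⁻¹ = tS; group⟩
    have c0 : tS = cj 1 := by show tS = 1 * tS * (1 : ↥S)⁻¹; group
    have h1i : tS * (1 : ↥S) * tS⁻¹ = (1 : ↥S)⁻¹ := by group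
    have mx : cj x ∈ D := ⟨x, hxF, rfl⟩
    have mx' : cj x⁻¹ ∈ D := ⟨x⁻¹, F.inv_mem hxF, rfl⟩
    have my : cj y ∈ D := ⟨y, hyF, rfl⟩
    have n1 : tS ≠ cj x := fun h => hx1 (hinj 1 x F.one_mem hxF h1i hxinv (c0.symm.trans h)).symm
    have n2 : tS ≠ cj x⁻¹ := fun h =>
      hx1 (inv_eq_one.1 (hinj 1 x⁻¹ F.one_mem (F.inv_mem hxF) h1i hxinv' (c0.symm.trans h)).symm)
    have n3 : tS ≠ cj y := fun h => hy1 (hinj 1 y F.one_mem hyF h1i hyinv (c0.symm.trans h)).symm
    have n4 : cj x ≠ cj x⁻¹ := fun h => hxx (hinj x x⁻¹ hxF (F.inv_mem hxF) hxinv hxinv' h).symm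
    have n5 : cj x ≠ cj y := fun h => hne.1 (hinj x y hxF hyF hxinv hyinv h).symm
    have e1 := hD3 tS m0 (cj x) mx (cj x⁻¹) mx' n1 n2 n4
    have e2 := hD3 tS m0 (cj x) mx (cj y) my n1 n3 n5
    exact hne.2 (hinj y x⁻¹ hyF (F.inv_mem hxF) hyinv hxinv' (e2.trans e1.symm))
  have hPP : PS * y * PS⁻¹ = x⁻¹ := by
    rw [← hxinv, hy]
    have : tS = PS * PS := Subtype.ext (by show t = P * P; rw [ht, pow_two])
    rw [this]; group
  rcases hy3 with h | h
  · rw [h] at hPP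
    rw [hy] at h
    exact hxx (hPP.symm.trans h)
  · rw [h] at hPP
    have h2 : x = y⁻¹ := by rw [h, inv_inv]
    have h3 : PS * x⁻¹ * PS⁻¹ = y⁻¹ := by rw [hy]; group
    rw [h3, ← h2] at hPP
    exact hxx hPP.symm

end Cfsg.Agent.S4410
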