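import Cfsg.Statements.S4411
import Cfsg.Agent.Lib.FGStruct.PQAutomizer
-- import your own Cfsg.Agent.* helpers here

set_option autoImplicit false
open Cfsg

namespace Cfsg.Agent.S4411

/-- Let p and q be distinct primes with {p, q} ≠ {2, 3}, and let G be a finite group such that for every p-subgroup H of G the automizer N_G(H)/C_G(H) is p-solvable. If q divides the order of N_G(H)/C_G(H) for some p-subgroup H, then a Sylow p-subgroup of G has a normal subgroup K (normal in the Sylow subgroup) such that q divides the order of N_G(K)/C_G(K). -/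
theorem result {G : Type*} [Group G] [Finite G]
    (p q : ℕ) [Fact p.Prime] [Fact q.Prime] (hpq : p ≠ q) (h23 : ¬ ((p = 2 ∧ q = 3) ∨ (p = 3 ∧ q = 2)))
    (hsol : ∀ H : Subgroup G, IsPGroup p ↥H →
      Cfsg.IsPSolvable p (↥(Subgroup.normalizer (H : Set G)) ⧸ (Subgroup.centralizer (H : Set G)).subgroupOf (Subgroup.normalizer (H : Set G))))
    (H : Subgroup G) (hH : IsPGroup p ↥H)
    (hq : q ∣ ((Subgroup.centralizer (H : Set G)).subgroupOf (Subgroup.normalizer (H : Set G))).index)
    (Gp : Sylow p G) :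
    ∃ K : Subgroup G, K ≤ (Gp : Subgroup G) ∧ (Gp : Subgroup G) ≤ Subgroup.normalizer (K : Set G) ∧
      q ∣ ((Subgroup.centralizer (K : Set G)).subgroupOf (Subgroup.normalizer (K : Set G))).index := by
  obtain ⟨K, hK, hKA, hKf⟩ := CfsgLib.FGStruct.PQAutomizer.exists_full hpq
    (fun h h' => h23 (Or.inl ⟨h, h'⟩)) _ G rfl hsol H hH
    ((CfsgLib.FGStruct.PQAutomizer.act_iff_dvd_index H).2 hq)
  set N := Subgroup.normalizer (K : Set G) with hN
  obtain ⟨S⟩ : Nonempty (Sylow p N) := inferInstance
  have hidx : ¬ p ∣ ((S : Subgroup N).map N.subtype).index := by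
    rw [Subgroup.index_map_subtype]
    exact (Fact.out : p.Prime).prime.not_dvd_mul S.not_dvd_index
      (CfsgLib.FGStruct.HallPQ.not_dvd_index_of_factorization_eq N hKf)
  let S' : Sylow p G := (S.isPGroup'.map N.subtype).toSylow hidx
  have hKS : K ≤ (S' : Subgroup G) := by
    haveI : (K.comap N.subtype).Normal := Subgroup.normal_in_normalizer
    have h1 := IsPGroup.to_sup_of_normal_left (hK.comap_of_injective N.subtype N.subtype_injective) S.isPGroup'
    intro x hx
    exact ⟨⟨x, Subgroup.le_normalizer hx⟩, (S.is_maximal' h1 le_sup_right).le (Subgroup.mem_sup_left hx), rfl⟩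
  have hSN : (S' : Subgroup G) ≤ N := Subgroup.map_subtype_le _
  obtain ⟨g, hg⟩ := MulAction.exists_smul_eq G S' Gp
  have he : (Gp : Subgroup G) = (S' : Subgroup G).map (MulAut.conj g).toMonoidHom := by rw [← hg]; rfl
  refine ⟨K.map (MulAut.conj g).toMonoidHom, he ▸ Subgroup.map_mono hKS, ?_, ?_⟩
  · rw [he]
    rintro _ ⟨s, hs, rfl⟩
    exact CfsgLib.FGStruct.PQAutomizer.mem_normalizer_map _ K (hSN hs)
  · exact (CfsgLib.FGStruct.PQAutomizer.act_iff_dvd_index _).1
      (CfsgLib.FGStruct.PQAutomizer.act_map _ (MulAut.conj g).injective hKA)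

end Cfsg.Agent.S4411
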