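import Cfsg.Statements.S4412
import Cfsg.Agent.Lib.FGStruct.SignedEigen
-- import your own Cfsg.Agent.* helpers here

set_option autoImplicit false
open Cfsg

namespace Cfsg.Agent.S4412

set_option maxHeartbeats 1000000

/-- Let p be an odd prime, P a finite p-group and I an elementary abelian subgroup of order 8 of Aut(P). Call T ∈ I, T ≠ 1, broad when its fixed-point subgroup C_P(T) is not cyclic. Suppose I has a proper subgroup I₀ containing no broad element such that the product of any two broad elements lies in I₀. Then P is abelian of rank exactly 3 (generated by three elements but not by two), there are exactly three broad elements and they generate I, and I₀ is exactly the set of products of two broad elements. -/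
theorem result
    {P : Type*} [Group P] [Finite P] (p : ℕ) (hp : p.Prime) (hp2 : p ≠ 2) (hP : IsPGroup p P)
    (I : Subgroup (MulAut P)) (hI : Cfsg.IsElementaryAbelian 2 I) (hI8 : Nat.card ↥I = 8)
    (I₀ : Subgroup (MulAut P)) (hI₀ : I₀ < I)
    (hdisj : ∀ T ∈ I₀, T ≠ 1 → ∃ g : P, ∀ x : P, (T x = x ↔ x ∈ Subgroup.zpowers g))
    (hprod : ∀ T ∈ I, ∀ T' ∈ I, T ≠ 1 → T' ≠ 1 → (¬ ∃ g : P, ∀ x : P, (T x = x ↔ x ∈ Subgroup.zpowers g)) →
      (¬ ∃ g : P, ∀ x : P, (T' x = x ↔ x ∈ Subgroup.zpowers g)) → T * T' ∈ I₀) :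
    IsMulCommutative P ∧ (∃ a b c : P, Subgroup.closure {a, b, c} = ⊤) ∧ (¬ ∃ a b : P, Subgroup.closure {a, b} = ⊤) ∧
      Nat.card {T : MulAut P // T ∈ I ∧ T ≠ 1 ∧ ¬ ∃ g : P, ∀ x : P, (T x = x ↔ x ∈ Subgroup.zpowers g)} = 3 ∧
      Subgroup.closure {T : MulAut P | T ∈ I ∧ T ≠ 1 ∧ ¬ ∃ g : P, ∀ x : P, (T x = x ↔ x ∈ Subgroup.zpowers g)} = I ∧
      (I₀ : Set (MulAut P)) = {S : MulAut P | ∃ T T' : MulAut P, T ∈ I ∧ T' ∈ I ∧ T ≠ 1 ∧ T' ≠ 1 ∧
        (¬ ∃ g : P, ∀ x : P, (T x = x ↔ x ∈ Subgroup.zpowers g)) ∧ (¬ ∃ g : P, ∀ x : P, (T' x = x ↔ x ∈ Subgroup.zpowers g)) ∧ S = T * T'} := by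
  classical
  haveI := Fact.mk hp
  haveI : Group.IsNilpotent P := hP.isNilpotent
  have hodd : Odd (Nat.card P) := by
    obtain ⟨n, hn⟩ := IsPGroup.iff_card.1 hP
    rw [hn]; exact (hp.odd_of_ne_two hp2).pow
  letI : CommGroup ↥I := { (inferInstance : Group ↥I) with mul_comm := hI.1.is_comm.comm }
  have hsq : ∀ k : ↥I, k * k = 1 := fun k => by
    rw [← pow_two]; exact Subtype.ext (hI.2 _ k.2)
  obtain ⟨x, hxo, hxc, hxe, hxf, hxcard, -⟩ := CfsgLib.SignedEigen.exists_family hsq 3 hodd I.subtype ⊤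
    (by rw [Subgroup.card_top, hI8]; norm_num) (fun k _ h => Subtype.ext h)
  have hxp : ∀ a, orderOf (x a) = p := fun a => by
    obtain ⟨k, hk⟩ := IsPGroup.iff_orderOf.1 hP (x a)
    rcases Nat.eq_zero_or_pos k with rfl | hk0
    · exact absurd (hk.trans (pow_zero p)) (hxo a).ne_one
    · exact ((hxo a).eq_one_or_self_of_dvd p (hk ▸ dvd_pow_self p hk0.ne')).resolve_left
        hp.ne_one |>.symm
  have hx1 : ∀ a, x a ≠ 1 := fun a h => hp.ne_one (by rw [← hxp a, h, orderOf_one])
  -- the pattern of fixed eigenvectors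
  let pat : ↥I → Fin 3 → Bool := fun k a => decide ((k : MulAut P) (x a) = x a)
  have hpat_true : ∀ k a, pat k a = true → (k : MulAut P) (x a) = x a :=
    fun k a h => of_decide_eq_true h
  have hpat_false : ∀ k a, pat k a = false → (k : MulAut P) (x a) = (x a)⁻¹ :=
    fun k a h => (hxe a k).resolve_left (of_decide_eq_false h)
  have hinvne : ∀ a, (x a)⁻¹ ≠ x a := fun a h => hx1 a (CfsgLib.SignedEigen.inv_ne_self_of_odd hodd h)
  have hpat_mul : ∀ k k' a, pat (k * k') a = (pat k a == pat k' a) := by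
    intro k k' a
    cases hk : pat k a <;> cases hk' : pat k' a
    all_goals
      first
      | have e := hpat_false _ _ hk
      | have e := hpat_true _ _ hk
    all_goals
      first
      | have e' := hpat_false _ _ hk'
      | have e' := hpat_true _ _ hk'
    all_goals simp [pat, MulAut.mul_apply, e, e', map_inv, hinvne a]
  have hpat_inj : Function.Injective pat := by
    intro k k' h
    have h1 : k * k' = 1 := hxf _ (Subgroup.mem_top _) fun a => hpat_true (k * k') a (by
      rw [hpat_mul, h]; simp)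
    rw [eq_comm, ← mul_left_cancel_iff (a := k), h1, hsq]
  have hpat_surj : Function.Surjective pat := by
    haveI := Fintype.ofFinite ↥I
    exact ((Fintype.bijective_iff_injective_and_card pat).2 ⟨hpat_inj, by
      rw [← Nat.card_eq_fintype_card, ← Nat.card_eq_fintype_card, hI8]; simp [Nat.card_eq_fintype_card]⟩).2
  let el : (Fin 3 → Bool) → ↥I := fun s => Function.surjInv hpat_surj s
  have hel : ∀ s, pat (el s) = s := fun s => Function.surjInv_eq hpat_surj s
  have hel' : ∀ k, el (pat k) = k := fun k => hpat_inj (hel _)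
  let bm : (Fin 3 → Bool) → (Fin 3 → Bool) → (Fin 3 → Bool) := fun s s' a => s a == s' a
  have hel_mul : ∀ s s', el s * el s' = el (bm s s') := fun s s' => hpat_inj (by
    rw [hel]; funext a; rw [hpat_mul, hel, hel])
  let u : Fin 3 → ↥I := fun a => el fun b => decide (b ≠ a)
  let d : Fin 3 → ↥I := fun a => el fun b => decide (b = a)
  let t : ↥I := el fun _ => false
  have dec1 : ∀ a : Fin 3, decide (a + 1 ≠ a) = true ∧ decide (a + 1 ≠ a + 1) = false ∧
      decide (a + 2 ≠ a) = true ∧ decide (a + 2 ≠ a + 1) = true ∧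
      (fun b => decide (b ≠ a)) ≠ (fun _ : Fin 3 => true) ∧ (fun b => decide (b = a)) ≠ (fun _ : Fin 3 => true) ∧
      bm (fun b => decide (b ≠ a + 1)) (fun b => decide (b ≠ a + 2)) = (fun b => decide (b = a)) := by decide
  have dec2 : ∀ a b : Fin 3, (fun c => decide (c ≠ a)) = (fun c : Fin 3 => decide (c ≠ b)) → a = b := by decide
  let NB : MulAut P → Prop := fun T => ∃ g : P, ∀ y : P, (T y = y ↔ y ∈ Subgroup.zpowers g)
  have hcommI : ∀ (k k' : ↥I) y, (k : MulAut P) ((k' : MulAut P) y) = (k' : MulAut P) ((k : MulAut P) y) :=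
    fun k k' y => by
      rw [← MulAut.mul_apply, ← MulAut.mul_apply, ← Subgroup.coe_mul, mul_comm, Subgroup.coe_mul]
  -- two eigenvectors with different signs do not fit into a cyclic fixed subgroup
  have key : ∀ (k α : ↥I) (a : Fin 3) (y : P), NB k → pat k a = true → pat α a = false →
      (k : MulAut P) y = y → (α : MulAut P) y = y → y ≠ 1 → False := by
    intro k α a y hNB hka hαa hky hαy hy1
    obtain ⟨g, hg⟩ := hNB
    obtain ⟨i, hi⟩ := (hg y).1 hky
    obtain ⟨j, hj⟩ := (hg (x a)).1 (hpat_true _ _ hka)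
    obtain ⟨m, hm⟩ := (hg ((α : MulAut P) g)).1 (by rw [hcommI, (hg g).2 (Subgroup.mem_zpowers g)])
    change g ^ i = y at hi
    change g ^ j = x a at hj
    change g ^ m = (α : MulAut P) g at hm
    have h1 : y ^ (m - 1) = 1 := by
      rw [zpow_sub, zpow_one, ← hi, ← zpow_mul, mul_comm, zpow_mul, hm, ← map_zpow, hi, hαy, mul_inv_cancel]
    have h2 : x a ^ (m + 1) = 1 := by
      rw [zpow_add, zpow_one, ← hj, ← zpow_mul, mul_comm j, zpow_mul, hm, ← map_zpow, hj, hpat_false _ _ hαa,
        inv_mul_cancel]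
    have hpm : (p : ℤ) ∣ m - 1 := by
      obtain ⟨e, he⟩ := IsPGroup.iff_orderOf.1 hP y
      rcases Nat.eq_zero_or_pos e with rfl | he0
      · exact absurd (orderOf_eq_one_iff.1 (he.trans (pow_zero p))) hy1
      · have := orderOf_dvd_iff_zpow_eq_one.2 h1
        rw [he] at this
        exact dvd_trans (Int.natCast_dvd_natCast.2 (dvd_pow_self p he0.ne')) this
    have hpm' : (p : ℤ) ∣ m + 1 := by
      have := orderOf_dvd_iff_zpow_eq_one.2 h2
      rwa [hxp] at this
    have h3 : (p : ℤ) ∣ 2 := by have := dvd_sub hpm' hpm; simpa using this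
    exact hp2 ((Nat.prime_dvd_prime_iff_eq hp Nat.prime_two).1 (Int.natCast_dvd_natCast.1 h3))
  have hu_broad : ∀ a, ¬ NB (u a) := by
    intro a hNB
    refine key (u a) (u (a + 1)) (a + 1) (x (a + 2)) hNB ?_ ?_ (hpat_true _ _ ?_) (hpat_true _ _ ?_) (hx1 _)
    all_goals simp only [u, hel]
    exacts [(dec1 a).1, (dec1 a).2.1, (dec1 a).2.2.1, (dec1 a).2.2.2.1]
  have hne1 : ∀ s, s ≠ (fun _ => true) → el s ≠ 1 := fun s hs h => hs (by
    rw [← hel s, h]; funext a; simp [pat])
  have hu1 : ∀ a, ((u a : ↥I) : MulAut P) ≠ 1 := fun a h =>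
    hne1 _ (dec1 a).2.2.2.2.1 (Subtype.ext h : u a = 1)
  -- the elements of `I₀`
  have hd_mem : ∀ c, ((d c : ↥I) : MulAut P) ∈ I₀ := by
    intro c
    have h := hprod _ (u (c + 1)).2 _ (u (c + 2)).2 (hu1 _) (hu1 _) (hu_broad _) (hu_broad _)
    rw [← Subgroup.coe_mul, hel_mul, (dec1 c).2.2.2.2.2.2] at h
    exact h
  let even : Set (Fin 3 → Bool) := {s | (xor (xor (s 0) (s 1)) (s 2)) = true}
  have heven : ∀ s : Fin 3 → Bool, (xor (xor (s 0) (s 1)) (s 2)) = true →
      s = (fun _ => true) ∨ ∃ c, s = fun b => decide (b = c) := by decide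
  have hI0mem : ∀ k : ↥I, (k : MulAut P) ∈ I₀ ↔ pat k ∈ even := by
    have hsub : ∀ k : ↥I, pat k ∈ even → (k : MulAut P) ∈ I₀ := by
      intro k hk
      rcases heven _ hk with h | ⟨c, h⟩
      · have h1 : k = 1 := hpat_inj (by rw [h]; funext a; simp [pat])
        rw [h1]; exact one_mem I₀
      · rw [← hel' k, h]; exact hd_mem c
    intro k
    refine ⟨fun hk => ?_, hsub k⟩
    by_contra hodd'
    refine hI₀.not_ge fun T hT => ?_
    by_cases hT' : pat ⟨T, hT⟩ ∈ even
    · exact hsub ⟨T, hT⟩ hT'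
    · have h1 : pat (⟨T, hT⟩ * k) ∈ even := by
        show xor (xor _ _) _ = true
        rw [hpat_mul, hpat_mul, hpat_mul]
        have aux : ∀ s s' : Fin 3 → Bool, ¬ xor (xor (s 0) (s 1)) (s 2) = true →
            ¬ xor (xor (s' 0) (s' 1)) (s' 2) = true →
            xor (xor (s 0 == s' 0) (s 1 == s' 1)) (s 2 == s' 2) = true := by decide
        exact aux _ _ hT' hodd'
      have h2 := I₀.mul_mem (hsub _ h1) (I₀.inv_mem hk)
      simpa using h2
  have hd_NB : ∀ c, NB (d c) := fun c => hdisj _ (hd_mem c) fun h =>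
    hne1 _ (dec1 c).2.2.2.2.2.1 (Subtype.ext h : d c = 1)
  -- the total inversion is fixed-point-free
  have hinvol : ∀ k : ↥I, Function.Involutive (k : MulAut P) := fun k y => by
    rw [← MulAut.mul_apply, ← Subgroup.coe_mul, hsq]; rfl
  have hfpf : ∀ y, (t : MulAut P) y = y → y = 1 := by
    intro y hy
    by_contra hy1
    obtain ⟨c, w, hw, hwt, hw1⟩ : ∃ c w, ((d c : ↥I) : MulAut P) w = w ∧ (t : MulAut P) w = w ∧ w ≠ 1 := by
      by_contra h
      push Not at h
      let C : Subgroup P :=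
        { carrier := {v | (t : MulAut P) v = v}
          one_mem' := map_one _
          mul_mem' := fun {a b} ha hb => by show (t : MulAut P) (a * b) = a * b; rw [map_mul, ha, hb]
          inv_mem' := fun {a} ha => by show (t : MulAut P) a⁻¹ = a⁻¹; rw [map_inv, ha] }
      have hinvC : ∀ c, ((d c : ↥I) : MulAut P) y = y⁻¹ := by
        intro c
        let f : ↥C →* ↥C := ((((d c : ↥I) : MulAut P).toMonoidHom).comp C.subtype).codRestrict C fun v => by
          show (t : MulAut P) (((d c : ↥I) : MulAut P) v) = ((d c : ↥I) : MulAut P) v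
          rw [hcommI, v.2]
        have hf : MonoidHom.FixedPointFree f := fun v hv => by
          by_contra hne
          exact hne (Subtype.ext (h c v (congrArg Subtype.val hv) v.2))
        have h2 : Function.Involutive f := fun v => Subtype.ext (hinvol (d c) v.1)
        exact congrArg Subtype.val (congrFun (hf.coe_eq_inv_of_involutive h2) ⟨y, hy⟩)
      have e : d 2 = d 0 * d 1 := by rw [hel_mul]; exact congrArg el (by decide)
      have e2 : ((d 2 : ↥I) : MulAut P) y = y := by
        rw [e, Subgroup.coe_mul, MulAut.mul_apply, hinvC 1, map_inv, hinvC 0, inv_inv]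
      exact hy1 (h 2 y e2 hy)
    exact key (d c) t c w (hd_NB c) (by simp [d, hel]) (by simp [t, hel]) hw hwt hw1
  have hcomm : ∀ a b : P, a * b = b * a := fun a b =>
    (MonoidHom.FixedPointFree.commute_all_of_involutive
      (φ := ((t : ↥I) : MulAut P).toMonoidHom) hfpf (hinvol t) a b).eq
  have hPc : IsMulCommutative P := ⟨⟨hcomm⟩⟩
  have htNB : NB t := ⟨1, fun y => by
    rw [Subgroup.zpowers_one_eq_bot, Subgroup.mem_bot]
    exact ⟨hfpf y, fun h => by rw [h]; exact map_one _⟩⟩
  -- the broad elements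
  have hbroad : ∀ T : MulAut P, (T ∈ I ∧ T ≠ 1 ∧ ¬ NB T) ↔ ∃ a, T = (u a : ↥I) := by
    intro T
    constructor
    · rintro ⟨hT, hT1, hTb⟩
      have hcase : ∀ s : Fin 3 → Bool, s = (fun _ => true) ∨ s = (fun _ => false) ∨
          (∃ c, s = fun b => decide (b = c)) ∨ ∃ a, s = fun b => decide (b ≠ a) := by decide
      rcases hcase (pat ⟨T, hT⟩) with h | h | ⟨c, h⟩ | ⟨a, h⟩
      · exact absurd (congrArg Subtype.val (hpat_inj (h.trans (by funext a; simp [pat])) :
          (⟨T, hT⟩ : ↥I) = 1)) hT1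
      · have e : t = ⟨T, hT⟩ := by rw [← hel' ⟨T, hT⟩, h]
        rw [e] at htNB
        exact absurd htNB hTb
      · have e : d c = ⟨T, hT⟩ := by rw [← hel' ⟨T, hT⟩, h]
        have h' := hd_NB c
        rw [e] at h'
        exact absurd h' hTb
      · exact ⟨a, congrArg Subtype.val (show (⟨T, hT⟩ : ↥I) = u a by rw [← hel' ⟨T, hT⟩, h])⟩
    · rintro ⟨a, rfl⟩
      exact ⟨(u a).2, hu1 a, hu_broad a⟩
  refine ⟨hPc, ?_, ?_, ?_, ?_, ?_⟩
  · choose g hg using hd_NB
    refine ⟨g 0, g 1, g 2, ?_⟩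
    rw [eq_top_iff]
    intro y _
    set R := Subgroup.closure ({g 0, g 1, g 2} : Set P) with hR
    have hmem : ∀ c w, ((d c : ↥I) : MulAut P) w = w → w ∈ R := fun c w hw => by
      refine Subgroup.zpowers_le.2 (Subgroup.subset_closure ?_) ((hg c w).1 hw)
      fin_cases c <;> simp
    letI : CommGroup P := { (inferInstance : Group P) with mul_comm := hcomm }
    have hm : ∀ (k : ↥I) w, (k : MulAut P) ((k : MulAut P) w) = w := fun k w => hinvol k w
    have hfix : ∀ c, y * ((d c : ↥I) : MulAut P) y ∈ R := fun c => hmem c _ (by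
      rw [map_mul, hm, mul_comm])
    have e01 : d 2 = d 0 * d 1 := by rw [hel_mul]; exact congrArg el (by decide)
    have e10 : d 1 = d 0 * d 2 := by rw [hel_mul]; exact congrArg el (by decide)
    have he : (y * ((d 0 : ↥I) : MulAut P) y) * ((d 1 : ↥I) : MulAut P) y * ((d 2 : ↥I) : MulAut P) y ∈ R := by
      refine hmem 0 _ ?_
      have a1 : ((d 0 : ↥I) : MulAut P) (((d 1 : ↥I) : MulAut P) y) = ((d 2 : ↥I) : MulAut P) y := by
        rw [e01, Subgroup.coe_mul]; rfl
      have a2 : ((d 0 : ↥I) : MulAut P) (((d 2 : ↥I) : MulAut P) y) = ((d 1 : ↥I) : MulAut P) y := by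
        rw [e10, Subgroup.coe_mul]; rfl
      rw [map_mul, map_mul, map_mul, hm, a1, a2]
      simp only [mul_comm, mul_left_comm]
    have h2y : y ^ 2 ∈ R := by
      have h := R.mul_mem (R.mul_mem (R.mul_mem (hfix 0) (hfix 1)) (hfix 2)) (R.inv_mem he)
      convert h using 1
      rw [eq_mul_inv_iff_mul_eq, pow_two]
      simp only [mul_assoc, mul_comm, mul_left_comm]
    obtain ⟨n, hn⟩ := hodd
    have : y = (y ^ 2) ^ (n + 1) := by
      rw [← pow_mul, show 2 * (n + 1) = Nat.card P + 1 by omega, pow_succ, pow_card_eq_one', one_mul]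
    rw [this]
    exact R.pow_mem h2y _
  · rintro ⟨a, b, hab⟩
    letI : CommGroup P := { (inferInstance : Group P) with mul_comm := hcomm }
    let f : P →* P := powMonoidHom p
    have hker : p ^ 3 ≤ Nat.card f.ker := by
      have h : (⨆ c, Subgroup.zpowers (x c)) ≤ f.ker := iSup_le fun c => by
        rw [Subgroup.zpowers_le, MonoidHom.mem_ker]
        show x c ^ p = 1
        rw [← hxp c, pow_orderOf_eq_one]
      refine le_trans (le_of_eq ?_) (Subgroup.card_le_of_le h)
      rw [hxcard, Fin.prod_univ_three, hxp, hxp, hxp]; ring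
    have hidx : Nat.card f.ker = f.range.index := by
      have h1 := f.ker.card_mul_index
      rw [Subgroup.index_ker] at h1
      have h2 := f.range.card_mul_index
      exact Nat.eq_of_mul_eq_mul_right Nat.card_pos (h1.trans (h2.symm.trans (mul_comm _ _)))
    have hpow : ∀ q : P ⧸ f.range, q ^ p = 1 := by
      intro q
      obtain ⟨w, rfl⟩ := QuotientGroup.mk_surjective q
      rw [← QuotientGroup.mk_pow, QuotientGroup.eq_one_iff]
      exact ⟨w, rfl⟩
    let F : Fin p × Fin p → P ⧸ f.range := fun w =>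
      (QuotientGroup.mk a) ^ (w.1 : ℕ) * (QuotientGroup.mk b) ^ (w.2 : ℕ)
    have hF : Function.Surjective F := by
      intro q
      obtain ⟨w, rfl⟩ := QuotientGroup.mk_surjective q
      obtain ⟨i, j, rfl⟩ := Subgroup.mem_closure_pair.1 (show w ∈ Subgroup.closure ({a, b} : Set P) by
        rw [hab]; exact Subgroup.mem_top _)
      have hp0 : (0 : ℤ) < p := by exact_mod_cast hp.pos
      refine ⟨(⟨(i % p).toNat, by have := Int.emod_lt_of_pos i hp0; have := Int.emod_nonneg i hp0.ne'; omega⟩,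
        ⟨(j % p).toNat, by have := Int.emod_lt_of_pos j hp0; have := Int.emod_nonneg j hp0.ne'; omega⟩), ?_⟩
      simp only [F, QuotientGroup.mk_mul, QuotientGroup.mk_zpow]
      rw [← zpow_natCast, ← zpow_natCast, Int.toNat_of_nonneg (Int.emod_nonneg i hp0.ne'),
        Int.toNat_of_nonneg (Int.emod_nonneg j hp0.ne'),
        ← zpow_eq_zpow_emod' i (hpow _), ← zpow_eq_zpow_emod' j (hpow _)]
    have h3 : f.range.index ≤ p ^ 2 := by
      refine le_trans (Nat.card_le_card_of_surjective F hF) (le_of_eq ?_)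
      simp [pow_two]
    have h4 := Nat.pow_lt_pow_right hp.one_lt (show 2 < 3 by norm_num)
    omega
  · have hinj : Function.Injective u := fun a b h => by
      have := congrArg pat h
      simp only [u, hel] at this
      exact dec2 a b this
    calc Nat.card {T : MulAut P // T ∈ I ∧ T ≠ 1 ∧ ¬ NB T}
        = Nat.card (Fin 3) := (Nat.card_eq_of_bijective
          (fun a => (⟨_, (hbroad _).2 ⟨a, rfl⟩⟩ : {T : MulAut P // T ∈ I ∧ T ≠ 1 ∧ ¬ NB T}))
          ⟨fun a b h => hinj (Subtype.ext (congrArg (fun w => w.1) h)), fun T => by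
            obtain ⟨a, ha⟩ := (hbroad _).1 T.2
            exact ⟨a, Subtype.ext ha.symm⟩⟩).symm
      _ = 3 := by simp
  · refine le_antisymm ((Subgroup.closure_le _).2 fun T hT => hT.1) fun T hT => ?_
    set R := Subgroup.closure {T : MulAut P | T ∈ I ∧ T ≠ 1 ∧ ¬ NB T} with hR
    show T ∈ R
    have hu : ∀ a, ((u a : ↥I) : MulAut P) ∈ R := fun a => Subgroup.subset_closure ((hbroad _).2 ⟨a, rfl⟩)
    have hdec : ∀ s : Fin 3 → Bool, ∃ e : Fin 3 → Bool, s = bm (bm
        (if e 0 then (fun b => decide (b ≠ (0 : Fin 3))) else fun _ => true)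
        (if e 1 then (fun b => decide (b ≠ (1 : Fin 3))) else fun _ => true))
        (if e 2 then (fun b => decide (b ≠ (2 : Fin 3))) else fun _ => true) := by decide
    obtain ⟨e, he⟩ := hdec (pat ⟨T, hT⟩)
    have h1 : T = ((el (pat ⟨T, hT⟩) : ↥I) : MulAut P) := by rw [hel']
    rw [h1, he, ← hel_mul, ← hel_mul]
    simp only [Subgroup.coe_mul]
    have hterm : ∀ a : Fin 3, ((el (if e a then (fun b => decide (b ≠ a)) else fun _ => true) : ↥I) : MulAut P) ∈ R := by
      intro a
      split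
      · exact hu a
      · rw [show el (fun _ => true) = 1 from hpat_inj (by rw [hel]; funext b; simp [pat])]
        exact one_mem R
    exact R.mul_mem (R.mul_mem (hterm 0) (hterm 1)) (hterm 2)
  · ext S
    constructor
    · intro hS
      obtain ⟨a, b, hab⟩ : ∃ a b : Fin 3, pat ⟨S, hI₀.le hS⟩ =
          bm (fun c => decide (c ≠ a)) (fun c => decide (c ≠ b)) := by
        have h := (hI0mem ⟨S, hI₀.le hS⟩).1 hS
        revert h
        generalize pat ⟨S, hI₀.le hS⟩ = s
        show xor (xor (s 0) (s 1)) (s 2) = true → _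
        revert s
        decide
      refine ⟨(u a : ↥I), (u b : ↥I), (u a).2, (u b).2, hu1 a, hu1 b, hu_broad a, hu_broad b, ?_⟩
      rw [← Subgroup.coe_mul, hel_mul, ← hab, hel']
    · rintro ⟨T, T', hT, hT', h1, h1', hb, hb', rfl⟩
      exact hprod T hT T' hT' h1 h1' hb hb'

end Cfsg.Agent.S4412
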