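import Cfsg.Statements.S4414
import Cfsg.Agent.Lib.TwoPQModule.Orbits
import Cfsg.Agent.Lib.Solvable.Core

set_option autoImplicit false
open Cfsg

namespace Cfsg.Agent.S4414

/-- Vectors fixed by some endomorphisms after extending the scalars are spanned by fixed vectors. -/
theorem fixed_mem_span {F K : Type*} [Field F] [Field K] [Algebra F K] {E : Type*} [AddCommGroup E]
    [Module F E] {d : ℕ} (b : Module.Basis (Fin d) F E) (X : Set (Module.End F E)) (w : Fin d → K)
    (hw : ∀ φ ∈ X, Matrix.mulVec ((LinearMap.toMatrix b b φ).map (algebraMap F K)) w = w) :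
    w ∈ Submodule.span K ((fun v i => algebraMap F K (b.repr v i)) '' {v | ∀ φ ∈ X, φ v = v}) := by
  classical
  let e := Module.Basis.ofVectorSpace F K
  let c : Module.Basis.ofVectorSpaceIndex F K → E := fun j => b.equivFun.symm fun i => e.repr (w i) j
  have hc : ∀ j i, b.repr (c j) i = e.repr (w i) j := fun j i => by
    show b.equivFun (b.equivFun.symm fun i => e.repr (w i) j) i = _
    rw [LinearEquiv.apply_symm_apply]
  have hfix : ∀ j, ∀ φ ∈ X, φ (c j) = c j := by
    intro j φ hφ
    apply b.repr.injective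
    ext i
    rw [← LinearMap.toMatrix_mulVec_repr b b φ (c j), hc]
    conv_rhs => rw [← congrFun (hw φ hφ) i]
    simp only [Matrix.mulVec, dotProduct, Matrix.map_apply, map_sum, Finsupp.coe_finset_sum,
      Finset.sum_apply]
    refine Finset.sum_congr rfl fun k _ => ?_
    rw [← Algebra.smul_def, map_smul, Finsupp.smul_apply, hc, smul_eq_mul]
  let s := Finset.univ.biUnion fun i => (e.repr (w i)).support
  have hsum : w = ∑ j ∈ s, e j • (fun i => algebraMap F K (b.repr (c j) i)) := by
    ext i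
    rw [Finset.sum_apply]
    conv_lhs => rw [← e.linearCombination_repr (w i)]
    rw [Finsupp.linearCombination_apply, Finsupp.sum_of_support_subset _
      (Finset.subset_biUnion_of_mem (fun i => (e.repr (w i)).support) (Finset.mem_univ i))
      (fun j a => a • e j) (fun _ _ => zero_smul _ _)]
    refine Finset.sum_congr rfl fun j _ => ?_
    rw [Pi.smul_apply, smul_eq_mul, Algebra.smul_def, hc, mul_comm]
  rw [hsum]
  exact Submodule.sum_mem _ fun j _ => Submodule.smul_mem _ _ (Submodule.subset_span ⟨c j, hfix j, rfl⟩)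

/-- Let S be a finite solvable group whose order is divisible only by the primes 2, p, q (p, q distinct odd primes), with a Sylow system S₂, S_p, S_q (pairwise permutable Sylow subgroups) such that: S_p is a minimal normal subgroup of S of order p or p²; S_q has order q and [S_p, S_q] = S_p; and O₂(S) = 1. Let E be an irreducible module for S over the field with two elements on which S_p acts faithfully, and E₀ the subspace of fixed points of S₂. Then either E₀ has at least 8 elements, or E₀ has exactly 4 elements and S_q does not leave E₀ invariant. -/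
theorem result {S : Type*} [Group S] [Finite S]
    [Group.IsSolvable S] (p q : ℕ) (hp : p.Prime) (hq : q.Prime) (hp2 : p ≠ 2) (hq2 : q ≠ 2) (hpq : p ≠ q)
    (hπ : ∀ r : ℕ, r.Prime → r ∣ Nat.card S → r = 2 ∨ r = p ∨ r = q)
    (S₂ : Sylow 2 S) (Sp : Sylow p S) (Sq : Sylow q S)
    (h2q : Nat.card ↥((S₂ : Subgroup S) ⊔ (Sq : Subgroup S)) = Nat.card ↥S₂ * Nat.card ↥Sq)
    (h2p : Nat.card ↥((S₂ : Subgroup S) ⊔ (Sp : Subgroup S)) = Nat.card ↥S₂ * Nat.card ↥Sp)
    (hpq' : Nat.card ↥((Sp : Subgroup S) ⊔ (Sq : Subgroup S)) = Nat.card ↥Sp * Nat.card ↥Sq)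
    (hSpN : (Sp : Subgroup S).Normal) (hSpmin : ∀ N : Subgroup S, N.Normal → N ≤ (Sp : Subgroup S) → N = ⊥ ∨ N = (Sp : Subgroup S))
    (hSpcard : Nat.card ↥Sp = p ∨ Nat.card ↥Sp = p ^ 2)
    (hSq : Nat.card ↥Sq = q) (hcomm : ⁅(Sp : Subgroup S), (Sq : Subgroup S)⁆ = (Sp : Subgroup S))
    (hO2 : Cfsg.pCore 2 S = ⊥)
    {E : Type*} [AddCommGroup E] [Module (ZMod 2) E] [Finite E] (ρ : Representation (ZMod 2) S E) (hE : Nontrivial E)
    (hirr : ∀ N : Submodule (ZMod 2) E, (∀ s : S, ∀ m ∈ N, ρ s m ∈ N) → N = ⊥ ∨ N = ⊤)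
    (hfaith : ∀ x ∈ (Sp : Subgroup S), ρ x = 1 → x = 1) :
    8 ≤ Nat.card {v : E // ∀ s ∈ (S₂ : Subgroup S), ρ s v = v} ∨
      (Nat.card {v : E // ∀ s ∈ (S₂ : Subgroup S), ρ s v = v} = 4 ∧
        ∃ x ∈ (Sq : Subgroup S), ∃ v : E, (∀ s ∈ (S₂ : Subgroup S), ρ s v = v) ∧ ¬ ∀ s ∈ (S₂ : Subgroup S), ρ s (ρ x v) = ρ x v) := by
  classical
  haveI := hSpN
  haveI := hE
  haveI := Fact.mk hp
  haveI := Fact.mk hq
  have hP0 : (Sp : Subgroup S) ≠ ⊥ := by
    intro h
    have h' : Nat.card ↥Sp = 1 := Subgroup.card_eq_one.2 h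
    rw [h'] at hSpcard
    rcases hSpcard with h | h
    · exact hp.one_lt.ne h
    · exact (Nat.one_lt_pow two_ne_zero hp.one_lt).ne h
  obtain ⟨hPc, -⟩ := CfsgLib.Solvable.minimal_normal_elementary_abelian (Sp : Subgroup S) hP0 hSpmin
  have hPcomm : ∀ a ∈ (Sp : Subgroup S), ∀ b ∈ (Sp : Subgroup S), a * b = b * a :=
    fun a ha b hb => congrArg Subtype.val (hPc.is_comm.comm ⟨a, ha⟩ ⟨b, hb⟩)
  -- no fixed vectors of the normal Sylow subgroup
  have hCP : ∀ v : E, (∀ z ∈ (Sp : Subgroup S), ρ z v = v) → v = 0 := by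
    let N : Submodule (ZMod 2) E :=
      { carrier := {v | ∀ z ∈ (Sp : Subgroup S), ρ z v = v}
        zero_mem' := fun z _ => map_zero _
        add_mem' := fun {a b} ha hb z hz => by rw [map_add, ha z hz, hb z hz]
        smul_mem' := fun c a ha z hz => by rw [map_smul, ha z hz] }
    have hinv : ∀ s : S, ∀ m ∈ N, ρ s m ∈ N := by
      intro s m hm z hz
      have h1 : ρ (s⁻¹ * z * s) m = m := hm _ (by simpa using hSpN.conj_mem z hz s⁻¹)
      rw [← Module.End.mul_apply, ← map_mul, show z * s = s * (s⁻¹ * z * s) by group, map_mul,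
        Module.End.mul_apply, h1]
    intro v hv
    rcases hirr N hinv with h | h
    · exact (Submodule.eq_bot_iff N).1 h v hv
    · exfalso
      refine hP0 ((Subgroup.eq_bot_iff_forall _).2 fun z hz => hfaith z hz (LinearMap.ext fun m => ?_))
      have hm : m ∈ N := h ▸ Submodule.mem_top
      exact hm z hz
  -- extension of the scalars
  haveI : Module.Finite (ZMod 2) E := Module.Finite.of_finite
  let b := Module.finBasis (ZMod 2) E
  let d := Module.finrank (ZMod 2) E
  haveI : Nonempty (Fin d) := ⟨⟨0, Module.finrank_pos⟩⟩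
  let K := AlgebraicClosure (ZMod 2)
  haveI : CharP K 2 := charP_of_injective_algebraMap (algebraMap (ZMod 2) K).injective 2
  let Φ : Module.End (ZMod 2) E →+* Module.End K (Fin d → K) :=
    (Matrix.toLinAlgEquiv' (R := K)).toAlgHom.toRingHom.comp
      ((algebraMap (ZMod 2) K).mapMatrix.comp (LinearMap.toMatrixAlgEquiv b).toAlgHom.toRingHom)
  let R : Representation K S (Fin d → K) := Φ.toMonoidHom.comp ρ
  have hR : ∀ g w, R g w = Matrix.mulVec ((LinearMap.toMatrix b b (ρ g)).map (algebraMap (ZMod 2) K)) w :=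
    fun g w => rfl
  let ι : E → Fin d → K := fun v i => algebraMap (ZMod 2) K (b.repr v i)
  have hι : ∀ g v, R g (ι v) = ι (ρ g v) := by
    intro g v
    funext i
    show R g (ι v) i = algebraMap (ZMod 2) K (b.repr (ρ g v) i)
    rw [hR, ← LinearMap.toMatrix_mulVec_repr b b (ρ g) v, RingHom.map_mulVec]
    rfl
  -- the element of order `q`
  obtain ⟨x, hx, hx1⟩ : ∃ x ∈ (Sq : Subgroup S), x ≠ 1 := by
    refine Subgroup.bot_or_exists_ne_one _ |>.resolve_left fun h => ?_
    have h' : Nat.card ↥Sq = 1 := Subgroup.card_eq_one.2 h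
    exact hq.one_lt.ne (h'.symm.trans hSq)
  have hSq' : Nat.card ↥(Sq : Subgroup S) = q := hSq
  have hxq : x ^ q = 1 := orderOf_dvd_iff_pow_eq_one.1 (hSq' ▸ Subgroup.orderOf_dvd_natCard _ hx)
  have hQ : (Sq : Subgroup S) = Subgroup.zpowers x := by
    refine (Subgroup.eq_of_le_of_card_ge (Subgroup.zpowers_le.2 hx) ?_).symm
    rw [Nat.card_zpowers, orderOf_eq_prime hxq hx1, hSq']
  have hfree : ∀ (o : CfsgLib.TwoPQModule.Wt (Sp : Subgroup S) K) (v : Fin d → K), v ≠ 0 →
      CfsgLib.TwoPQModule.HasWt R o v → x • o ≠ o := by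
    intro o v hv0 hv hxo
    have hmul : ∀ a c, o (a * c) = o a * o c := fun a c => by
      refine smul_left_injective K hv0 ?_
      show o (a * c) • v = (o a * o c) • v
      rw [← hv (a * c), Subgroup.coe_mul, map_mul, Module.End.mul_apply, hv c, map_smul, hv a, smul_smul,
        mul_comm (o c)]
    have ho1 : o 1 = 1 := by
      refine smul_left_injective K hv0 ?_
      show o 1 • v = (1 : K) • v
      rw [← hv 1, OneMemClass.coe_one, map_one, one_smul]; rfl
    let φ : (Sp : Subgroup S) →* K := { toFun := o, map_one' := ho1, map_mul' := hmul }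
    have hle : (Sp : Subgroup S) ≤ φ.ker.map (Sp : Subgroup S).subtype := by
      conv_lhs => rw [← hcomm]
      rw [Subgroup.commutator_le]
      intro z hz y hy
      have hyo : y • o = o := by
        have : y ∈ MulAction.stabilizer S o := by
          rw [hQ] at hy
          exact Subgroup.zpowers_le.2 hxo hy
        exact this
      refine ⟨⟨z, hz⟩ * MulAut.conjNormal y ⟨z⁻¹, Subgroup.inv_mem _ hz⟩, ?_, ?_⟩
      · show φ _ = 1
        rw [map_mul]
        have h1 : φ (MulAut.conjNormal y ⟨z⁻¹, Subgroup.inv_mem _ hz⟩) = φ ⟨z⁻¹, Subgroup.inv_mem _ hz⟩ := by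
          have h2 := congrFun hyo (MulAut.conjNormal y ⟨z⁻¹, Subgroup.inv_mem _ hz⟩)
          change o (MulAut.conjNormal y⁻¹ (MulAut.conjNormal y ⟨z⁻¹, _⟩)) = _ at h2
          rw [← MulAut.mul_apply, ← map_mul, inv_mul_cancel, map_one] at h2
          exact h2.symm
        rw [h1, ← map_mul, ← map_one φ]
        exact congrArg φ (Subtype.ext (mul_inv_cancel z))
      · simp only [Subgroup.subtype_apply, Subgroup.coe_mul, MulAut.conjNormal_apply, commutatorElement_def]
        group
    have hv' : ∀ z ∈ (Sp : Subgroup S), R z v = v := by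
      intro z hz
      obtain ⟨⟨z', hz'⟩, hker, rfl⟩ := hle hz
      have h2 : o ⟨z', hz'⟩ = 1 := hker
      have h1 := hv ⟨z', hz'⟩
      rwa [h2, one_smul] at h1
    have hmem := fixed_mem_span b (ρ '' ((Sp : Subgroup S) : Set S)) v (by
      rintro _ ⟨z, hz, rfl⟩
      exact (hR z v).symm.trans (hv' z hz))
    have hzero : {m : E | ∀ φ ∈ ρ '' ((Sp : Subgroup S) : Set S), φ m = m} ⊆ {0} :=
      fun m hm => hCP m fun z hz => hm _ ⟨z, hz, rfl⟩
    have := Submodule.span_mono (R := K) (Set.image_mono hzero) hmem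
    rw [Set.image_singleton, Submodule.mem_span_singleton] at this
    obtain ⟨c, rfl⟩ := this
    refine hv0 ?_
    funext i
    simp
  obtain ⟨w, hli, hwfix, i, hi⟩ := CfsgLib.TwoPQModule.exists_pair (T := (S₂ : Subgroup S)) R S₂.2 hPcomm
    hq hq2 hxq hfree
  -- the fixed space
  let E0 : Submodule (ZMod 2) E :=
    { carrier := {v | ∀ s ∈ (S₂ : Subgroup S), ρ s v = v}
      zero_mem' := fun z _ => map_zero _
      add_mem' := fun {a b} ha hb z hz => by rw [map_add, ha z hz, hb z hz]
      smul_mem' := fun c a ha z hz => by rw [map_smul, ha z hz] }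
  let L : Submodule K (Fin d → K) := Submodule.span K (ι '' (E0 : Set E))
  have hcard : Nat.card {v : E // ∀ s ∈ (S₂ : Subgroup S), ρ s v = v} = 2 ^ Module.finrank (ZMod 2) E0 := by
    show Nat.card E0 = _
    rw [Module.natCard_eq_pow_finrank (K := ZMod 2), Nat.card_zmod]
  let c := Module.finBasis (ZMod 2) E0
  have hLle : L ≤ Submodule.span K (Set.range fun j => ι (c j : E)) := by
    rw [Submodule.span_le]
    rintro _ ⟨v, hv, rfl⟩
    have h1 : ι v = ∑ j, algebraMap (ZMod 2) K (c.repr ⟨v, hv⟩ j) • ι (c j : E) := by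
      have h2 := congrArg Subtype.val (c.sum_repr ⟨v, hv⟩)
      rw [Submodule.coe_sum] at h2
      funext i
      show algebraMap (ZMod 2) K (b.repr v i) = _
      conv_lhs => rw [show v = ((⟨v, hv⟩ : E0) : E) from rfl, ← h2]
      simp [ι, map_sum, Algebra.smul_def]
    rw [h1]
    exact Submodule.sum_mem _ fun j _ => Submodule.smul_mem _ _ (Submodule.subset_span ⟨j, rfl⟩)
  have hLdim : Module.finrank K L ≤ Module.finrank (ZMod 2) E0 :=
    (Submodule.finrank_mono hLle).trans ((finrank_range_le_card _).trans_eq (Fintype.card_fin _))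
  have hwL : Submodule.span K (Set.range w) ≤ L := by
    rw [Submodule.span_le]
    rintro _ ⟨j, rfl⟩
    have hm := fixed_mem_span b (ρ '' ((S₂ : Subgroup S) : Set S)) (w j) (by
      rintro _ ⟨z, hz, rfl⟩
      exact (hR z _).symm.trans (hwfix j z hz))
    refine Submodule.span_mono (Set.image_mono ?_) hm
    exact fun v hv s hs => hv _ ⟨s, hs, rfl⟩
  have h2 : 2 ≤ Module.finrank (ZMod 2) E0 := by
    have := (Submodule.finrank_mono hwL).trans hLdim
    rwa [finrank_span_eq_card hli, Fintype.card_fin] at this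
  rcases eq_or_lt_of_le h2 with h | h
  · refine Or.inr ⟨by rw [hcard, ← h]; norm_num, x, hx, ?_⟩
    by_contra hc
    push Not at hc
    have heq : Submodule.span K (Set.range w) = L :=
      Submodule.eq_of_le_of_finrank_le hwL (by
        rw [finrank_span_eq_card hli, Fintype.card_fin]
        exact hLdim.trans h.ge)
    apply hi
    rw [heq]
    have hmap : L ≤ L.comap (R x) := by
      rw [Submodule.span_le]
      rintro _ ⟨v, hv, rfl⟩
      rw [SetLike.mem_coe, Submodule.mem_comap, hι]
      exact Submodule.subset_span ⟨_, hc v hv, rfl⟩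
    exact hmap (hwL (Submodule.subset_span ⟨i, rfl⟩))
  · left
    rw [hcard]
    exact (show 8 = 2 ^ 3 from rfl).le.trans (Nat.pow_le_pow_right two_pos h)

end Cfsg.Agent.S4414
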