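import Cfsg.Statements.S4415
import Cfsg.Agent.Lib.FGStruct.CubicBlock.Conclusion

set_option autoImplicit false
open Cfsg

namespace Cfsg.Agent.S4415

universe uE

open CfsgLib.FGStruct.CubicBlock in
theorem blk_two {S : Type*} [Group S] [Finite S] {E : Type uE} [AddCommGroup E] [Module (ZMod 3) E] [Finite E]
    (ρ : Representation (ZMod 3) S E) {b : S} (hb3 : b ^ 3 = 1) (E₀ E₁ : Submodule (ZMod 3) E)
    (hE01' : E₀ ⊔ E₁ = ⊤) (hE1 : ∀ v ∈ E₁, ρ b v = v) (hE0inv : ∀ v ∈ E₀, ρ b v ∈ E₀)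
    (hE0 : Nat.card ↥E₀ = 27) (hind : ∃ v ∈ E₀, ρ b (ρ b v - v) - (ρ b v - v) ≠ 0) :
    Module.finrank (ZMod 3) (blk ρ b) = 2 := by
  haveI : Fact (Nat.Prime 3) := ⟨Nat.prime_three⟩
  have h3 : Module.finrank (ZMod 3) E₀ = 3 := by
    have h := Module.natCard_eq_pow_finrank (K := ZMod 3) (V := E₀)
    rw [hE0, Nat.card_zmod, show (27 : ℕ) = 3 ^ 3 by norm_num] at h
    exact (Nat.pow_right_injective (by norm_num) h).symm
  let f : E →ₗ[ZMod 3] E := ρ b - 1
  have hfx : ∀ x, f x = ρ b x - x := fun x => by simp [f]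
  have hthree : ∀ x : E, x + (x + x) = 0 := fun x => by rw [two_smul_self, add_neg_cancel]
  have hbbb : ∀ x, ρ b (ρ b (ρ b x)) = x := fun x => by
    rw [← apply_mul, ← apply_mul, show b * b * b = b ^ 3 by rw [pow_three'], hb3, map_one, Module.End.one_apply]
  have hf3 : ∀ x, f (f (f x)) = 0 := fun x => by
    simp only [hfx, map_sub, hbbb]
    calc x - ρ b (ρ b x) - (ρ b (ρ b x) - ρ b x) - (ρ b (ρ b x) - ρ b x - (ρ b x - x))
        = -(ρ b (ρ b x) + (ρ b (ρ b x) + ρ b (ρ b x))) + (ρ b x + (ρ b x + ρ b x)) := by abel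
      _ = 0 := by rw [hthree, hthree, neg_zero, add_zero]
  obtain ⟨v, hv, hv2⟩ := hind
  have hffv : f (f v) ≠ 0 := by rw [hfx, hfx]; exact hv2
  refine le_antisymm ?_ ?_
  · let g : E₀ →ₗ[ZMod 3] E₀ := f.restrict fun x hx => by
      rw [hfx]; exact sub_mem (hE0inv x hx) hx
    have hker : 1 ≤ Module.finrank (ZMod 3) (LinearMap.ker g) := by
      rw [Submodule.one_le_finrank_iff]
      intro hbot
      have hinj : Function.Injective g := LinearMap.ker_eq_bot.1 hbot
      have h0 : g (g (g ⟨v, hv⟩)) = g (g 0) := by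
        rw [map_zero, map_zero]
        exact Subtype.ext (hf3 v)
      have h1 := hinj h0
      have h2 := hinj h1
      have : (⟨v, hv⟩ : E₀) = 0 := hinj (h2.trans (map_zero g).symm)
      refine hffv ?_
      rw [show v = 0 from congrArg Subtype.val this, map_zero, map_zero]
    have hle : blk ρ b ≤ (LinearMap.range g).map E₀.subtype := by
      rintro _ ⟨x, rfl⟩
      obtain ⟨a, ha, c, hc, rfl⟩ := Submodule.mem_sup.1 (hE01' ▸ Submodule.mem_top : x ∈ E₀ ⊔ E₁)
      refine ⟨g ⟨a, ha⟩, ⟨_, rfl⟩, ?_⟩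
      show f a = f (a + c)
      rw [map_add, hfx c, hE1 c hc, sub_self, add_zero]
    have h1 := (Submodule.finrank_mono hle).trans (Submodule.finrank_map_le _ _)
    have h2 := LinearMap.finrank_range_add_finrank_ker g
    omega
  · have hli : LinearIndependent (ZMod 3) ![(⟨f v, v, rfl⟩ : blk ρ b), ⟨f (f v), f v, rfl⟩] := by
      rw [LinearIndependent.pair_iff]
      intro s t hst
      have hst' : s • f v + t • f (f v) = 0 := congrArg Subtype.val hst
      have h1 := congrArg f hst'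
      rw [map_add, map_smul, map_smul, hf3, smul_zero, add_zero, map_zero, smul_eq_zero] at h1
      have hs := h1.resolve_right hffv
      rw [hs, zero_smul, zero_add, smul_eq_zero] at hst'
      exact ⟨hs, hst'.resolve_right hffv⟩
    have := hli.fintype_card_le_finrank
    simpa using this

open scoped commutatorElement

/-- Let S be a finite solvable group acting faithfully on a finite-dimensional space E over the field with three elements, with O₃(S) = 1. Let B ≤ S have order 3 and suppose: E = E₀ ⊕ E₁ with B fixing E₁ pointwise, E₀ B-invariant of order 27 and indecomposable under B (a generator of B has a single Jordan block on E₀); B normalizes but does not centralize some subgroup Q of S that is elementary abelian of order 4; and B is the centre of a Sylow 3-subgroup of S. Put R = [O_{3'}(S), B]. Then R is elementary abelian of order 4 or extraspecial of order 32 containing an elementary abelian subgroup of order 8 (a central product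 of two quaternion groups), and E is the direct sum of a subspace fixed pointwise by R and an RB-invariant subspace on which the subgroup RB acts faithfully and irreducibly. -/
theorem result {S : Type*} [Group S] [Finite S]
    [Group.IsSolvable S] {E : Type*} [AddCommGroup E] [Module (ZMod 3) E] [Finite E] (ρ : Representation (ZMod 3) S E)
    (hfaith : Function.Injective ρ) (hO3 : Cfsg.pCore 3 S = ⊥)
    (B : Subgroup S) (hB : Nat.card ↥B = 3) (b : S) (hb : Subgroup.zpowers b = B)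
    (E₀ E₁ : Submodule (ZMod 3) E) (hE01 : E₀ ⊓ E₁ = ⊥) (hE01' : E₀ ⊔ E₁ = ⊤)
    (hE1 : ∀ v ∈ E₁, ρ b v = v) (hE0inv : ∀ v ∈ E₀, ρ b v ∈ E₀) (hE0 : Nat.card ↥E₀ = 27)
    (hind : ∃ v ∈ E₀, ρ b (ρ b v - v) - (ρ b v - v) ≠ 0)
    (Q : Subgroup S) (hQ : Cfsg.IsElementaryAbelian 2 Q) (hQ4 : Nat.card ↥Q = 4)
    (hBQ : B ≤ Subgroup.normalizer (Q : Set S)) (hBQ' : ¬ B ≤ Subgroup.centralizer (Q : Set S))
    (P : Sylow 3 S) (hBZ : (Subgroup.center ↥(P : Subgroup S)).map (P : Subgroup S).subtype = B) :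
    ((Cfsg.IsElementaryAbelian 2 ⁅Cfsg.pPrimeCore 3 S, B⁆ ∧ Nat.card ↥⁅Cfsg.pPrimeCore 3 S, B⁆ = 4) ∨
      (Cfsg.IsExtraspecial 2 ↥⁅Cfsg.pPrimeCore 3 S, B⁆ ∧ Nat.card ↥⁅Cfsg.pPrimeCore 3 S, B⁆ = 32 ∧
        ∃ A : Subgroup S, A ≤ ⁅Cfsg.pPrimeCore 3 S, B⁆ ∧ Cfsg.IsElementaryAbelian 2 A ∧ Nat.card ↥A = 8)) ∧
    ∃ F₀ F₁ : Submodule (ZMod 3) E, F₀ ⊓ F₁ = ⊥ ∧ F₀ ⊔ F₁ = ⊤ ∧
      (∀ r ∈ ⁅Cfsg.pPrimeCore 3 S, B⁆, ∀ v ∈ F₁, ρ r v = v) ∧ (∀ r ∈ ⁅Cfsg.pPrimeCore 3 S, B⁆ ⊔ B, ∀ v ∈ F₀, ρ r v ∈ F₀) ∧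
      (∀ r ∈ ⁅Cfsg.pPrimeCore 3 S, B⁆ ⊔ B, (∀ v ∈ F₀, ρ r v = v) → r = 1) ∧
      (∀ N : Submodule (ZMod 3) E, N ≤ F₀ → (∀ r ∈ ⁅Cfsg.pPrimeCore 3 S, B⁆ ⊔ B, ∀ v ∈ N, ρ r v ∈ N) → N = ⊥ ∨ N = F₀) := by
  classical
  subst hb
  haveI : Fact (Nat.Prime 3) := ⟨Nat.prime_three⟩
  have hb3 : b ^ 3 = 1 := by
    rw [← hB, Nat.card_zpowers]; exact pow_orderOf_eq_one b
  have hblk := blk_two ρ hb3 E₀ E₁ hE01' hE1 hE0inv hE0 hind
  set O := Cfsg.pPrimeCore 3 S with hO
  haveI hOn : O.Normal := CfsgLib.Solvable.pPrimeCore_normal 3 S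
  have hOcop : (Nat.card O).Coprime 3 := CfsgLib.Solvable.pPrimeCore_card_coprime 3 S
  -- a rotated four-group in `Q`
  have hQc : ∀ d ∈ Q, ∀ d' ∈ Q, d * d' = d' * d := fun d hd d' hd' =>
    congrArg Subtype.val (hQ.1.is_comm.comm ⟨d, hd⟩ ⟨d', hd'⟩)
  have hbQ : ∀ d ∈ Q, b * d * b⁻¹ ∈ Q := fun d hd =>
    (Subgroup.mem_normalizer_iff.1 (hBQ (Subgroup.mem_zpowers b)) d).1 hd
  obtain ⟨w, hwQ, hw⟩ := CfsgLib.FGStruct.CubicBlock.exists_four_of_moved hb3
    (fun d hd => by rw [← pow_two]; exact hQ.2 d hd) hQc hbQ (by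
      by_contra h
      push Not at h
      refine hBQ' (Subgroup.zpowers_le.2 (Subgroup.mem_centralizer_iff.2 fun d hd => (h d hd).symm)))
  set v := b * w * b⁻¹ with hv
  have hvv : v * v = 1 := by
    rw [hv, show b * w * b⁻¹ * (b * w * b⁻¹) = b * (w * w) * b⁻¹ by group, hw.sq, mul_one, mul_inv_cancel]
  have hwvw : b * (w * v) * b⁻¹ = w := by
    calc b * (w * v) * b⁻¹ = (b * w * b⁻¹) * (b * v * b⁻¹) := by group
      _ = v * (w * v) := by rw [hv, hw.rot]
      _ = (v * w) * v := (mul_assoc _ _ _).symm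
      _ = w := by rw [hv, ← hw.comm, ← hv, mul_assoc, hvv, mul_one]
  -- it lies in `O`
  have hwO : w ∈ O := by
    let π := QuotientGroup.mk' O
    set T := Cfsg.pCore 3 (S ⧸ O)
    haveI hTn : T.Normal := CfsgLib.Solvable.pCore_normal 3 _
    have hCT := CfsgLib.PLoc.centralizer_pCore_le_self
      (CfsgLib.ThompsonFactor.isPSolvable_of_isSolvable (p := 3) (inferInstance : Group.IsSolvable (S ⧸ O)))
      (CfsgLib.Solvable.pPrimeCore_quotient_eq_bot O hO)
    have hbc : b ∈ (Subgroup.center ↥(P : Subgroup S)).map (P : Subgroup S).subtype := by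
      rw [hBZ]; exact Subgroup.mem_zpowers b
    obtain ⟨z, hz, hzb⟩ := hbc
    have hbT : π b ∈ T := hCT (Subgroup.mem_centralizer_iff.2 fun t ht => by
      have ht' := CfsgLib.Solvable.pCore_le_sylow (P.mapSurjective (QuotientGroup.mk'_surjective O)) ht
      rw [Sylow.coe_mapSurjective] at ht'
      obtain ⟨s, hs, rfl⟩ := ht'
      show π s * π b = π b * π s
      rw [← map_mul, ← map_mul, ← hzb]
      exact congrArg (fun x : (P : Subgroup S) => π (x : S)) (Subgroup.mem_center_iff.1 hz ⟨s, hs⟩))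
    have hc : π (v * w) ∈ T := by
      have e : v * w = b * (w * b⁻¹ * w) := by rw [hv]; group
      rw [e, map_mul]
      refine mul_mem hbT ?_
      have h1 := hTn.conj_mem _ (inv_mem hbT) (π w)
      have hwi : w⁻¹ = w := inv_eq_of_mul_eq_one_left hw.sq
      rwa [← map_inv, ← map_inv, ← map_mul, ← map_mul, hwi] at h1
    have h2 : (v * w) ^ 2 = 1 := by
      rw [pow_two, hv, ← hw.comm, ← hv]
      calc w * v * (w * v) = w * (v * w) * v := by group
        _ = w * (w * v) * v := by rw [hv, ← hw.comm]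
        _ = (w * w) * (v * v) := by group
        _ = 1 := by rw [hw.sq, hvv, mul_one]
    obtain ⟨k, hk⟩ := CfsgLib.Solvable.pCore_isPGroup 3 (S ⧸ O) ⟨π (v * w), hc⟩
    have hk' : π (v * w) ^ 3 ^ k = 1 := congrArg Subtype.val hk
    have h1 : π (v * w) = 1 := orderOf_eq_one_iff.1 (Nat.eq_one_of_dvd_coprimes
      ((show Nat.Coprime 3 2 by norm_num).pow_left k) (orderOf_dvd_of_pow_eq_one hk')
      (orderOf_dvd_of_pow_eq_one (by rw [← map_pow, h2, map_one])))
    have h3 := hOn.conj_mem _ ((QuotientGroup.eq_one_iff _).1 h1) b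
    rw [hv, ← hw.comm, ← hv, hwvw] at h3
    exact h3
  obtain ⟨e, he⟩ := CfsgLib.FGStruct.CubicBlock.exists_lines ρ hfaith hb3 hblk.le hw
  have hset : CfsgLib.FGStruct.CubicBlock.Setting ρ O b w e :=
    ⟨hfaith, hOn, hOcop, hb3, hblk.le, hblk.ge, hw, hwO, he⟩
  have hR := hset.rdata
  set R := ⁅O, Subgroup.zpowers b⁆ with hRdef
  have hwR : w ∈ R := by
    have h1 : ⁅w, b⁆ ∈ R := Subgroup.commutator_mem_commutator hwO (Subgroup.mem_zpowers b)
    have hwi : w⁻¹ = w := inv_eq_of_mul_eq_one_left hw.sq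
    have e1 : ⁅w, b⁆ = w * v := by
      rw [commutatorElement_def, hv]
      calc w * b * w⁻¹ * b⁻¹ = w * (b * w⁻¹ * b⁻¹) := by group
        _ = _ := by rw [hwi]
    rw [e1] at h1
    have h2 := hR.conj _ h1
    rwa [hwvw] at h2
  obtain ⟨D, w', hD⟩ := hR.exists_elem hw hwR
  have hRO : R ≤ O := CfsgLib.Solvable.commutator_le_of_normalizes Subgroup.le_normalizer_of_normal
  obtain ⟨e', he'⟩ := CfsgLib.FGStruct.CubicBlock.exists_lines ρ hfaith hb3 hblk.le hD.four
  have hset' : CfsgLib.FGStruct.CubicBlock.Setting ρ O b w' e' :=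
    ⟨hfaith, hOn, hOcop, hb3, hblk.le, hblk.ge, hD.four, hRO (hD.le hD.mem), he'⟩
  obtain ⟨ι, hι, ⟨F⟩⟩ := hset'.exists_frame hR hD
  haveI : Fintype ι := Fintype.ofFinite ι
  refine ⟨?_, F.span₀, F.fixed₁, F.inf_eq_bot hD.le, F.sup_eq_top hR, fun r hr x hx => hx r hr, ?_,
    fun r hr h => F.faithful hR hfaith hr h, fun N hN hinv => F.irreducible hR hD.le N hN hinv⟩
  · rcases F.kind with ⟨h3, hθ⟩ | ⟨h4, htr, hsq, hfree⟩
    · exact Or.inl (F.elementary_of_three hR hfaith hw hwR h3 hθ)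
    · exact Or.inr (F.extraspecial_of_four hR hfaith hD h4 htr hsq hfree)
  · intro r hr x hx
    have hle : R ⊔ Subgroup.zpowers b ≤ Subgroup.closure ((R : Set S) ∪ {b}) :=
      sup_le (fun g hg => Subgroup.subset_closure (Or.inl hg))
        (Subgroup.zpowers_le.2 (Subgroup.subset_closure (Or.inr rfl)))
    have key : ∀ g ∈ Subgroup.closure ((R : Set S) ∪ {b}), ∀ x ∈ F.span₀, ρ g x ∈ F.span₀ := by
      intro g hg
      induction hg using Subgroup.closure_induction'' with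
      | mem g hg =>
        rcases hg with hg | hg
        · exact F.map_span₀_R hg
        · rw [Set.mem_singleton_iff] at hg; rw [hg]; exact F.map_span₀_b
      | inv_mem g hg =>
        rcases hg with hg | hg
        · exact F.map_span₀_R (inv_mem hg)
        · rw [Set.mem_singleton_iff] at hg
          intro y hy
          rw [hg, show b⁻¹ = b * b from inv_eq_of_mul_eq_one_left (by rw [← pow_three']; exact hb3),
            CfsgLib.FGStruct.CubicBlock.apply_mul]
          exact F.map_span₀_b _ (F.map_span₀_b _ hy)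
      | one => intro y hy; rw [map_one, Module.End.one_apply]; exact hy
      | mul g g' _ _ ih ih' =>
        intro y hy
        rw [CfsgLib.FGStruct.CubicBlock.apply_mul]
        exact ih _ (ih' _ hy)
    exact key r (hle hr) x hx

end Cfsg.Agent.S4415
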