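import Cfsg.Statements.S4416
import Cfsg.Agent.Lib.FGS68.Extraspecial2

set_option autoImplicit false
open Cfsg

namespace Cfsg.Agent.S4416

open CfsgLib.Transfer CfsgLib.FGS68
open scoped commutatorElement

universe u v

/-- The number of solutions of `x ^ 2 = 1`. -/
noncomputable def sqCount (E : Type*) [Group E] : ℕ := Nat.card {x : E // x ^ 2 = 1}

theorem sqCount_split {E : Type*} [Group E] [Finite E] (h : CentreOrderP 2 E) {x y z : E}
    (hxy : ⁅x, y⁆ = z) (hz1 : z ≠ 1) (hx2 : x ^ 2 = 1) (hy2 : y ^ 2 = 1) :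
    sqCount E = 2 * sqCount (Subgroup.centralizer ({x, y} : Set E)) +
      Nat.card (Subgroup.centralizer ({x, y} : Set E)) := by
  classical
  haveI : Fact (Nat.Prime 2) := ⟨Nat.prime_two⟩
  have hz : z ∈ Subgroup.center E := hxy ▸ commutatorElement_mem_center_of_le h.class_two x y
  set C := Subgroup.centralizer ({x, y} : Set E) with hC
  have hzz : z * z = 1 := by rw [← pow_two, h.pow_eq_one hz]
  let Φ : C × (Fin 2 × Fin 2) → E := fun p => p.1.1 * x ^ (p.2.1 : ℕ) * y ^ (p.2.2 : ℕ)
  have hmod : ∀ (w : E), w ^ 2 = 1 → ∀ a : ℤ, ∃ i : Fin 2, w ^ a = w ^ (i : ℕ) := by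
    intro w hw a
    refine ⟨⟨(a % 2).toNat, by omega⟩, ?_⟩
    rw [← zpow_natCast w, zpow_eq_zpow_emod' a hw]
    congr 1
    show a % (2 : ℕ) = ((a % 2).toNat : ℤ)
    omega
  have hsurj : Function.Surjective Φ := by
    intro g
    obtain ⟨c, hc, a, b, rfl⟩ := h.exists_normal_form hxy hz1 g
    obtain ⟨i, hi⟩ := hmod x hx2 a
    obtain ⟨j, hj⟩ := hmod y hy2 b
    exact ⟨(⟨c, hc⟩, (i, j)), by simp only [Φ, hi, hj]⟩
  have hcard : Nat.card (C × (Fin 2 × Fin 2)) = Nat.card E := by
    rw [(h.centralizer_pair hxy hz1).2.2]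
    simp [hC]
  have hbij : Function.Bijective Φ := (Nat.bijective_iff_surjective_and_card Φ).2 ⟨hsurj, hcard⟩
  have hxy2 : x * y * (x * y) = z := by
    rw [← hxy, commutatorElement_def, inv_eq_of_mul_eq_one_right (show x * x = 1 by rw [← pow_two, hx2]),
      inv_eq_of_mul_eq_one_right (show y * y = 1 by rw [← pow_two, hy2])]
    simp only [mul_assoc]
  have hval : ∀ (c : C) (i j : Fin 2),
      Φ (c, (i, j)) ^ 2 = if i = 1 ∧ j = 1 then (c.1 ^ 2) * z else c.1 ^ 2 := by
    intro c i j
    have hcx : Commute x c.1 := CentreOrderP.comm_left c.2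
    have hcy : Commute y c.1 := CentreOrderP.comm_right c.2
    fin_cases i <;> fin_cases j <;> simp [Φ]
    · rw [(show Commute c.1 y from hcy.symm).mul_pow, hy2, mul_one]
    · rw [(show Commute c.1 x from hcx.symm).mul_pow, hx2, mul_one]
    · rw [mul_assoc c.1 x y, (show Commute c.1 (x * y) from (hcx.mul_left hcy).symm).mul_pow,
        pow_two (x * y), hxy2]
  have hsq : ∀ c : C, c.1 ^ 2 * z = 1 ↔ ¬ c.1 ^ 2 = 1 := by
    intro c
    rcases central_two_cases h hz hz1 (h.pow_mem_center c.1) with e | e <;> rw [e]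
    · simp [hz1]
    · simp [hzz, hz1]
  haveI : Fintype C := Fintype.ofFinite C
  have h1 : sqCount E = Fintype.card {p : C × (Fin 2 × Fin 2) // Φ p ^ 2 = 1} := by
    rw [sqCount, ← Nat.card_eq_fintype_card]
    exact (Nat.card_congr ((Equiv.ofBijective Φ hbij).subtypeEquiv fun p => Iff.rfl)).symm
  have hC2 : sqCount C = (Finset.univ.filter fun c : C => c.1 ^ 2 = 1).card := by
    rw [sqCount, ← Fintype.card_subtype, ← Nat.card_eq_fintype_card]
    exact Nat.card_congr (Equiv.subtypeEquivRight fun c => by simp [Subtype.ext_iff])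
  rw [h1, hC2, Fintype.card_subtype, Nat.card_eq_fintype_card]
  rw [Finset.card_filter, Fintype.sum_prod_type]
  have hin : ∀ c : C, (∑ q : Fin 2 × Fin 2, if Φ (c, q) ^ 2 = 1 then 1 else 0) =
      2 * (if c.1 ^ 2 = 1 then 1 else 0) + 1 := by
    intro c
    rw [Fintype.sum_prod_type]
    simp only [Fin.sum_univ_two, hval]
    by_cases hc : c.1 ^ 2 = 1 <;> simp [hc, hz1, hsq c]
  simp only [hin]
  rw [Finset.sum_add_distrib, ← Finset.mul_sum, ← Finset.card_filter]
  simp

theorem sqCount_small {E : Type*} [Group E] [Finite E] (h : CentreOrderP 2 E)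
    (hno : ∀ x : E, x ^ 2 = 1 → x ∈ Subgroup.center E) : sqCount E = 2 := by
  rw [sqCount]
  exact (Nat.card_congr (Equiv.subtypeEquivRight fun x => ⟨hno x, fun hx => h.pow_eq_one hx⟩)).trans
    h.card_center

theorem sqCount_eq : ∀ (n : ℕ) (E : Type u) [Group E] [Finite E], CentreOrderP 2 E →
    Nat.card E = 2 ^ (2 * n + 1) →
    sqCount E = 2 ^ (2 * n) + 2 ^ n ∨ (1 ≤ n ∧ sqCount E + 2 ^ n = 2 ^ (2 * n)) := by
  haveI : Fact (Nat.Prime 2) := ⟨Nat.prime_two⟩
  intro n
  induction n with
  | zero =>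
    intro E _ _ h hn
    left
    have hc : Subgroup.center E = ⊤ := Subgroup.eq_top_of_card_eq _ (by rw [h.card_center, hn]; rfl)
    rw [sqCount_small h fun x _ => hc ▸ Subgroup.mem_top x]
    norm_num
  | succ m ih =>
    intro E _ _ h hn
    obtain ⟨z, hz, hz1⟩ := h.exists_center_ne_one
    have hne2 : Nat.card E ≠ 2 := fun e => by
      rw [e] at hn
      have := Nat.pow_right_injective le_rfl (show 2 ^ 1 = 2 ^ (2 * (m + 1) + 1) by rw [pow_one]; exact hn)
      omega
    rcases pair_or_small h hz hz1 hne2 with ⟨x, y, hxy, hx2, hy2⟩ | ⟨hno, h8, -⟩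
    · obtain ⟨hC, -, hcard⟩ := h.centralizer_pair hxy hz1
      have hCn : Nat.card (Subgroup.centralizer ({x, y} : Set E)) = 2 ^ (2 * m + 1) := by
        rw [hn] at hcard
        refine Nat.eq_of_mul_eq_mul_right (by norm_num : 0 < 2 ^ 2) ?_
        rw [← hcard, ← pow_add]; congr 1
      rw [sqCount_split h hxy hz1 hx2 hy2, hCn]
      have e1 : 2 ^ (2 * (m + 1)) = 2 ^ (2 * m) * 4 := by rw [show 2 * (m + 1) = 2 * m + 2 by ring, pow_add]; norm_num
      have e2 : 2 ^ (2 * m + 1) = 2 ^ (2 * m) * 2 := pow_succ 2 (2 * m)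
      have e3 : 2 ^ (m + 1) = 2 ^ m * 2 := pow_succ 2 m
      rcases ih _ hC hCn with h1 | ⟨-, h1⟩
      · left; omega
      · right; omega
    · rw [h8] at hn
      obtain rfl : m = 0 := by
        have := Nat.pow_right_injective le_rfl (show 2 ^ 3 = 2 ^ (2 * (m + 1) + 1) by norm_num; exact hn)
        omega
      right
      rw [sqCount_small h hno]
      norm_num

/-- Same order and same count: isomorphic. -/
theorem exists_equiv {E : Type u} {E' : Type v} [Group E] [Group E'] [Finite E] [Finite E']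
    (h : CentreOrderP 2 E) (h' : CentreOrderP 2 E') {z : E} {z' : E'} (hz : z ∈ Subgroup.center E)
    (hz1 : z ≠ 1) (hz' : z' ∈ Subgroup.center E') (hz1' : z' ≠ 1) (hcard : Nat.card E = Nat.card E')
    (hcnt : sqCount E = sqCount E') : ∃ ψ : E ≃* E', ψ z = z' := by
  haveI : Fact (Nat.Prime 2) := ⟨Nat.prime_two⟩
  suffices key : ∀ (N : ℕ) (E : Type u) (E' : Type v) [Group E] [Group E'] [Finite E] [Finite E'],
      CentreOrderP 2 E → CentreOrderP 2 E' → Nat.card E = N → Nat.card E' = N →
      sqCount E = sqCount E' → ∀ (z : E) (z' : E'),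
      z ∈ Subgroup.center E → z ≠ 1 → z' ∈ Subgroup.center E' → z' ≠ 1 →
      ∃ ψ : E ≃* E', ψ z = z' from
    key _ E E' h h' rfl hcard.symm hcnt z z' hz hz1 hz' hz1'
  intro N
  induction N using Nat.strong_induction_on with
  | _ N ih =>
    intro E E' _ _ _ _ h h' hN hN' hcnt z z' hz hz1 hz' hz1'
    by_cases hN2 : N = 2
    · exact CentreOrderP.exists_equiv_of_center_top h h' (hN.trans hN2) (hN'.trans hN2) hz1 hz1'
    rcases pair_or_small h hz hz1 (hN ▸ hN2) with ⟨x, y, hxy, hx2, hy2⟩ | ⟨hno, h8, x, y, hxy, hx2, hy2⟩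
    <;> rcases pair_or_small h' hz' hz1' (hN' ▸ hN2) with
      ⟨x', y', hxy', hx2', hy2'⟩ | ⟨hno', h8', x', y', hxy', hx2', hy2'⟩
    · obtain ⟨hC, -, hc⟩ := h.centralizer_pair hxy hz1
      obtain ⟨hC', -, hc'⟩ := h'.centralizer_pair hxy' hz1'
      have hCC : Nat.card (Subgroup.centralizer ({x, y} : Set E)) = Nat.card (Subgroup.centralizer ({x', y'} : Set E')) :=
        Nat.eq_of_mul_eq_mul_right (by norm_num : 0 < 2 ^ 2) (hc.symm.trans (hN.trans (hN'.symm.trans hc')))
      obtain ⟨φ, hφ⟩ := ih _ (hN ▸ h.pair_subgroup_card_lt hxy hz1) _ _ hC hC' rfl hCC.symm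
        (by
          have h1 := sqCount_split h hxy hz1 hx2 hy2
          have h3 := sqCount_split h' hxy' hz1' hx2' hy2'
          omega)
        ⟨z, Subgroup.center_le_centralizer _ hz⟩ ⟨z', Subgroup.center_le_centralizer _ hz'⟩
        (CentreOrderP.mem_center_centralizer_pair hz) (fun e => hz1 (congrArg Subtype.val e))
        (CentreOrderP.mem_center_centralizer_pair hz') (fun e => hz1' (congrArg Subtype.val e))
      exact CentreOrderP.exists_extend_equiv h h' hxy hxy' hz1 hz1' (e := 0) (f := 0)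
        (by rwa [zpow_zero]) (by rwa [zpow_zero]) (by rwa [zpow_zero]) (by rwa [zpow_zero]) φ
        (fun _ => congrArg Subtype.val hφ)
    · exfalso
      have h1 := sqCount_split h hxy hz1 hx2 hy2
      rw [hcnt, sqCount_small h' hno'] at h1
      have hpos : 0 < sqCount (Subgroup.centralizer ({x, y} : Set E)) := by
        haveI : Nonempty {c : Subgroup.centralizer ({x, y} : Set E) // c ^ 2 = 1} := ⟨⟨1, one_pow 2⟩⟩
        exact Nat.card_pos
      have : 0 < Nat.card (Subgroup.centralizer ({x, y} : Set E)) := Nat.card_pos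
      omega
    · exfalso
      have h1 := sqCount_split h' hxy' hz1' hx2' hy2'
      rw [← hcnt, sqCount_small h hno] at h1
      have hpos : 0 < sqCount (Subgroup.centralizer ({x', y'} : Set E')) := by
        haveI : Nonempty {c : Subgroup.centralizer ({x', y'} : Set E') // c ^ 2 = 1} := ⟨⟨1, one_pow 2⟩⟩
        exact Nat.card_pos
      have : 0 < Nat.card (Subgroup.centralizer ({x', y'} : Set E')) := Nat.card_pos
      omega
    · exact CentreOrderP.glue_eight h h' h8 h8' hxy hxy' hz1 hz1' hx2 hy2 hx2' hy2'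

/-- Classification of extraspecial 2-groups in intrinsic form. An extraspecial 2-group has order 2^(2m+1) for some m ≥ 1, and the number of its elements squaring to the identity is either 2^(2m) + 2^m or 2^(2m) − 2^m; two extraspecial 2-groups of the same order with the same number of such elements are isomorphic. (The two cases are the central products of m dihedral groups of order 8, and of m − 1 dihedral groups with one quaternion group.) -/
theorem result (E : Type*) [Group E] [Finite E] (hE : Cfsg.IsExtraspecial 2 E) :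
    (∃ m : ℕ, 1 ≤ m ∧ Nat.card E = 2 ^ (2 * m + 1) ∧
      (Nat.card {x : E // x ^ 2 = 1} = 2 ^ (2 * m) + 2 ^ m ∨ Nat.card {x : E // x ^ 2 = 1} = 2 ^ (2 * m) - 2 ^ m)) ∧
    ∀ (E' : Type*) [Group E'] [Finite E'], Cfsg.IsExtraspecial 2 E' → Nat.card E' = Nat.card E →
      Nat.card {x : E' // x ^ 2 = 1} = Nat.card {x : E // x ^ 2 = 1} → Nonempty (E ≃* E') := by
  haveI : Fact (Nat.Prime 2) := ⟨Nat.prime_two⟩
  have h := CfsgLib.Transfer.centreOrderP_of_isExtraspecial hE
  refine ⟨?_, fun E' _ _ hE' hcard hcnt => ?_⟩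
  · obtain ⟨n, hn⟩ := h.exists_card_eq
    have hn1 : 1 ≤ n := by
      by_contra h0
      obtain rfl : n = 0 := by omega
      have hc : Subgroup.center E = ⊤ := Subgroup.eq_top_of_card_eq _ (by rw [h.card_center, hn]; rfl)
      have h1 : commutator E = ⊥ := by
        rw [commutator_def, Subgroup.commutator_eq_bot_iff_le_centralizer]
        intro g _
        rw [Subgroup.mem_centralizer_iff]
        intro k _
        exact Subgroup.mem_center_iff.1 (hc ▸ Subgroup.mem_top g) k
      rw [hE.1.2.2, hc] at h1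
      have h3 := congrArg (fun K : Subgroup E => Nat.card K) h1
      simp [hn] at h3
    refine ⟨n, hn1, hn, ?_⟩
    rcases sqCount_eq n E h hn with h1 | ⟨-, h1⟩
    · exact Or.inl h1
    · right
      have e : Nat.card {x : E // x ^ 2 = 1} = sqCount E := rfl
      omega
  · obtain ⟨z, hz, hz1⟩ := h.exists_center_ne_one
    obtain ⟨z', hz', hz1'⟩ := (CfsgLib.Transfer.centreOrderP_of_isExtraspecial hE').exists_center_ne_one
    obtain ⟨ψ, -⟩ := exists_equiv h (CfsgLib.Transfer.centreOrderP_of_isExtraspecial hE') hz hz1 hz' hz1'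
      hcard.symm hcnt.symm
    exact ⟨ψ⟩

end Cfsg.Agent.S4416
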