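import Cfsg.Statements.S4419
import Cfsg.Agent.Lib.FGStruct.MetacyclicAut
import Cfsg.Agent.Lib.SmallOrder.Frobenius
import Cfsg.Agent.Lib.Fusion.FrobeniusCriterion
import Cfsg.Agent.Lib.Solvable.Core

set_option autoImplicit false
open Cfsg

namespace Cfsg.Agent.S4419

/-- Let p be a prime and G a finite group whose Sylow p-subgroups are metacyclic (a cyclic normal subgroup with cyclic quotient). Then G has a normal p-complement if and only if the order of G/O_{p′,p}(G) is coprime to p² − 1. -/
theorem result {G : Type*} [Group G] [Finite G] (p : ℕ) [Fact p.Prime] (S : Sylow p G) (hS : Cfsg.IsMetacyclic ↥(S : Subgroup G)) : Cfsg.HasNormalPComplement p G ↔ Nat.Coprime (Nat.card (G ⧸ Cfsg.pPrimePCore p G)) (p ^ 2 - 1) := by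
  classical
  have hp := (inferInstance : Fact p.Prime)
  set K := Cfsg.pPrimeCore p G with hK
  haveI hKn : K.Normal := CfsgLib.Solvable.pPrimeCore_normal p G
  haveI hcoren : (Cfsg.pCore p (G ⧸ K)).Normal := CfsgLib.Solvable.pCore_normal p (G ⧸ K)
  have hKcop : (Nat.card K).Coprime p := CfsgLib.Solvable.pPrimeCore_card_coprime p G
  have hidx : Nat.card (G ⧸ Cfsg.pPrimePCore p G) = (Cfsg.pCore p (G ⧸ K)).index :=
    (Cfsg.pCore p (G ⧸ K)).index_comap_of_surjective (QuotientGroup.mk'_surjective K)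
  constructor
  · intro h
    obtain ⟨N, hN, hco, k, hk⟩ := CfsgLib.NPC.hasNormalPComplement_iff.1 h
    have hNK : N ≤ K := CfsgLib.Solvable.le_pPrimeCore hN hco
    have hKidx : ∃ j, K.index = p ^ j := by
      obtain ⟨j, -, hj⟩ := (Nat.dvd_prime_pow hp.out).1 (hk ▸ Subgroup.index_dvd_of_le hNK)
      exact ⟨j, hj⟩
    obtain ⟨j, hj⟩ := hKidx
    have hpg : IsPGroup p (G ⧸ K) := IsPGroup.of_card hj
    rw [hidx, CfsgLib.Solvable.pCore_eq_top_of_isPGroup hpg, Subgroup.index_top]
    exact Nat.coprime_one_left _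
  · intro hcop
    rw [hidx] at hcop
    have hcrit : CfsgLib.SmallOrder.CoprimeTrivial p (G ⧸ K) := by
      intro Q hQ x hx hxo q hq
      -- `Q` is metacyclic
      have hinj : Function.Injective ((QuotientGroup.mk' K).comp (S : Subgroup G).subtype) := by
        rw [injective_iff_map_eq_one]
        intro y hy
        have h1 : (y : G) ∈ K := (QuotientGroup.eq_one_iff _).1 hy
        have h2 : orderOf (y : G) ∣ Nat.gcd (Nat.card K) (Nat.card (S : Subgroup G)) :=
          Nat.dvd_gcd (Subgroup.orderOf_dvd_natCard _ h1) (Subgroup.orderOf_dvd_natCard _ y.2)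
        obtain ⟨i, hi⟩ := IsPGroup.iff_card.1 S.isPGroup'
        rw [hi, (hKcop.pow_right i).gcd_eq_one, Nat.dvd_one, orderOf_eq_one_iff] at h2
        exact Subtype.ext h2
      let P : Sylow p (G ⧸ K) := S.mapSurjective (QuotientGroup.mk'_surjective K)
      have hPm : Cfsg.IsMetacyclic ↥(P : Subgroup (G ⧸ K)) := by
        let e := MulEquiv.ofBijective
          (((QuotientGroup.mk' K).comp (S : Subgroup G).subtype).codRestrict (P : Subgroup (G ⧸ K))
            fun y => Subgroup.mem_map_of_mem _ y.2)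
          ⟨fun a b hab => hinj (congrArg Subtype.val hab), fun w => by
            obtain ⟨y, hy, hyw⟩ := w.2
            exact ⟨⟨y, hy⟩, Subtype.ext hyw⟩⟩
        exact CfsgLib.FGStruct.MetacyclicAut.isMetacyclic_of_injective e.symm.toMonoidHom e.symm.injective hS
      obtain ⟨P', hP'⟩ := hQ.exists_le_sylow
      have hQm : Cfsg.IsMetacyclic ↥Q :=
        CfsgLib.FGStruct.MetacyclicAut.isMetacyclic_of_injective
          ((P'.equiv P).toMonoidHom.comp (Subgroup.inclusion hP'))
          ((P'.equiv P).injective.comp (Subgroup.inclusion_injective hP')) hPm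
      -- the exponents of the powers of `x` centralising `Q`
      have hex : ∃ d, 0 < d ∧ x ^ d ∈ Subgroup.centralizer (Q : Set (G ⧸ K)) :=
        ⟨orderOf x, orderOf_pos x, by rw [pow_orderOf_eq_one]; exact Subgroup.one_mem _⟩
      obtain ⟨hd0, hd⟩ := Nat.find_spec hex
      have hdiv : ∀ n, x ^ n ∈ Subgroup.centralizer (Q : Set (G ⧸ K)) → Nat.find hex ∣ n := by
        intro n hn
        by_contra hnd
        have hmod : 0 < n % Nat.find hex := Nat.pos_of_ne_zero fun h => hnd (Nat.dvd_of_mod_eq_zero h)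
        refine Nat.find_min hex (Nat.mod_lt n hd0) ⟨hmod, ?_⟩
        have h1 : x ^ (n % Nat.find hex) = x ^ n * ((x ^ Nat.find hex) ^ (n / Nat.find hex))⁻¹ := by
          rw [eq_mul_inv_iff_mul_eq, ← pow_mul, ← pow_add, Nat.mod_add_div]
        rw [h1]
        exact mul_mem hn (inv_mem (pow_mem hd _))
      suffices hd1 : Nat.find hex = 1 by
        have := Subgroup.mem_centralizer_iff.1 hd q hq
        rw [hd1, pow_one] at this
        exact this.symm
      by_contra hne
      obtain ⟨r, hr, hrd⟩ := Nat.exists_prime_and_dvd hne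
      haveI := Fact.mk hr
      have hrn : r ∣ orderOf x := hrd.trans (hdiv _ (by rw [pow_orderOf_eq_one]; exact Subgroup.one_mem _))
      have hrp : r ≠ p := fun h => by
        rw [h] at hrn
        exact (hp.out.coprime_iff_not_dvd).1 hxo.symm hrn
      have hrX : r ∣ (Cfsg.pCore p (G ⧸ K)).index := by
        obtain ⟨i, hi⟩ := CfsgLib.Solvable.card_pCore (p := p) (G := G ⧸ K)
        have h1 : r ∣ Nat.card (G ⧸ K) := hrn.trans (orderOf_dvd_natCard x)
        rw [← Subgroup.card_mul_index (Cfsg.pCore p (G ⧸ K)), hi] at h1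
        exact (hr.dvd_mul.1 h1).resolve_left fun h =>
          hrp ((Nat.prime_dvd_prime_iff_eq hr hp.out).1 (hr.dvd_of_dvd_pow h))
      have hr2 : ¬ r ∣ p ^ 2 - 1 := fun h => hr.not_dvd_one (hcop ▸ Nat.dvd_gcd hrX h)
      set c := orderOf x / r ^ (orderOf x).factorization r with hc
      have hy : x ^ c ∈ Subgroup.centralizer (Q : Set (G ⧸ K)) := by
        let N := Subgroup.normalizer (Q : Set (G ⧸ K))
        let y : N := ⟨x ^ c, pow_mem hx c⟩
        have hyr : IsPGroup r (Subgroup.zpowers y) := by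
          refine IsPGroup.of_card (n := (orderOf x).factorization r) ?_
          rw [Nat.card_zpowers, ← Subgroup.orderOf_coe]
          show orderOf (x ^ c) = _
          rw [hc, orderOf_pow_of_dvd (Nat.ordCompl_pos r (orderOf_pos x).ne').ne' (Nat.ordCompl_dvd _ _),
            Nat.div_div_self (Nat.ordProj_dvd _ _) (orderOf_pos x).ne']
        letI : MulDistribMulAction (Subgroup.zpowers y) Q :=
          MulDistribMulAction.compHom Q ((Subgroup.normalizerMonoidHom Q).comp (Subgroup.zpowers y).subtype)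
        rw [Subgroup.mem_centralizer_iff]
        intro w hw
        have h1 := CfsgLib.FGStruct.MetacyclicAut.smul_eq_self hyr hQ hrp hr2 hQm
          (⟨y, Subgroup.mem_zpowers y⟩ : Subgroup.zpowers y) (⟨w, hw⟩ : Q)
        have h2 : x ^ c * w * (x ^ c)⁻¹ = w := congrArg Subtype.val h1
        exact (mul_inv_eq_iff_eq_mul.1 h2).symm
      exact Nat.not_dvd_ordCompl hr (orderOf_pos x).ne' (hrd.trans (hdiv c hy))
    obtain ⟨N, hN, hco, k, hk⟩ :=
      CfsgLib.NPC.hasNormalPComplement_iff.1 (CfsgLib.SmallOrder.hasNormalPComplement_of_coprimeTrivial hcrit)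
    have hbot : N = ⊥ := le_bot_iff.1
      ((CfsgLib.Solvable.le_pPrimeCore hN hco).trans (CfsgLib.Solvable.pPrimeCore_quotient_eq_bot K rfl).le)
    rw [hbot, Subgroup.index_bot] at hk
    exact CfsgLib.NPC.hasNormalPComplement_iff.2 ⟨K, hKn, hKcop, k, hk⟩

end Cfsg.Agent.S4419
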