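import Cfsg.Statements.S4420
import Mathlib

set_option autoImplicit false
open Cfsg

namespace Cfsg.Agent.S4420

/-- Structure of groups in which every element outside some proper subgroup has square 1. Let H be a finite group with a proper subgroup A such that every element outside A has square 1. Then H has an abelian normal subgroup B of index 2 such that every element outside B is an involution inverting every element of B; and if H is not an elementary abelian 2-group, B is the only abelian normal subgroup of index 2 with this property. -/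
theorem result {H : Type*} [Group H] [Finite H] (A : Subgroup H) (hA : A ≠ ⊤) (hD : ∀ x : H, x ∉ A → x ^ 2 = 1) :
    ∃ B : Subgroup H, B.Normal ∧ IsMulCommutative ↥B ∧ B.index = 2 ∧
      (∀ x : H, x ∉ B → x ^ 2 = 1 ∧ ∀ b ∈ B, x * b * x⁻¹ = b⁻¹) ∧
      (¬ (IsMulCommutative H ∧ ∀ x : H, x ^ 2 = 1) →
        ∀ B' : Subgroup H, B'.Normal → IsMulCommutative ↥B' → B'.index = 2 →
          (∀ x : H, x ∉ B' → x ^ 2 = 1 ∧ ∀ b ∈ B', x * b * x⁻¹ = b⁻¹) → B' = B) := by
  classical
  have key : ∀ x : H, x ∉ A → ∀ a ∈ A, x * a * x⁻¹ = a⁻¹ := by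
    intro x hx a ha
    have h1 := hD x hx
    have hxa : x * a ∉ A := fun h => hx ((A.mul_mem_cancel_right ha).1 h)
    have h2 := hD _ hxa
    rw [pow_two] at h1 h2
    have hxi : x⁻¹ = x := inv_eq_of_mul_eq_one_right h1
    have h3 := eq_inv_of_mul_eq_one_left (show x * a * x * a = 1 by rw [mul_assoc (x * a) x a, h2])
    rw [hxi]; exact h3
  obtain ⟨x, -, hx⟩ := SetLike.exists_of_lt (lt_top_iff_ne_top.2 hA)
  have hAc : ∀ a ∈ A, ∀ b ∈ A, a * b = b * a := by
    intro a ha b hb
    have h := key x hx (a * b) (A.mul_mem ha hb)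
    have h' : x * (a * b) * x⁻¹ = (x * a * x⁻¹) * (x * b * x⁻¹) := by group
    rw [h', key x hx a ha, key x hx b hb, ← mul_inv_rev] at h
    exact (inv_injective h).symm
  have elem : ∀ K : Subgroup H, IsMulCommutative H → (∀ y : H, y ^ 2 = 1) → ∀ y : H, ∀ b ∈ K,
      y * b * y⁻¹ = b⁻¹ := by
    intro K hc h2 y b _
    rw [hc.is_comm.comm y b, mul_inv_cancel_right]
    exact (inv_eq_of_mul_eq_one_right (by rw [← pow_two]; exact h2 b)).symm
  by_cases hE : IsMulCommutative H ∧ ∀ y : H, y ^ 2 = 1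
  · obtain ⟨hc, h2⟩ := hE
    have hn2 : ∃ k, Nat.card H = 2 ^ (k + 1) := by
      have hp : IsPGroup 2 H := fun g => ⟨1, by simpa using h2 g⟩
      obtain ⟨n, hn⟩ := IsPGroup.iff_card.1 hp
      rcases n with _ | k
      · exfalso
        have : Subsingleton H := (Nat.card_eq_one_iff_unique.1 (by simpa using hn)).1
        exact hx (Subsingleton.elim (1 : H) x ▸ A.one_mem)
      · exact ⟨k, hn⟩
    obtain ⟨k, hk⟩ := hn2
    have : Fact (Nat.Prime 2) := ⟨Nat.prime_two⟩
    obtain ⟨B, hB⟩ := Sylow.exists_subgroup_card_pow_prime 2 (G := H) (n := k) (by rw [hk]; exact pow_dvd_pow 2 (by omega))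
    have hidx : B.index = 2 := by
      have := B.card_mul_index
      rw [hB, hk, pow_succ] at this
      exact Nat.eq_of_mul_eq_mul_left (pow_pos (by norm_num) k) this
    exact ⟨B, ⟨fun b hb g => by rwa [hc.is_comm.comm g b, mul_inv_cancel_right]⟩,
      ⟨⟨fun a b => Subtype.ext (hc.is_comm.comm _ _)⟩⟩, hidx, fun y _ => ⟨h2 y, elem B hc h2 y⟩, fun h => absurd ⟨hc, h2⟩ h⟩
  · have hne : ∃ a ∈ A, a⁻¹ ≠ a := by
      by_contra! hcon
      have h2 : ∀ y : H, y ^ 2 = 1 := fun y => by
        by_cases hy : y ∈ A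
        · rw [pow_two]
          conv_lhs => arg 1; rw [← hcon y hy]
          exact inv_mul_cancel y
        · exact hD y hy
      refine hE ⟨⟨⟨fun a b => ?_⟩⟩, h2⟩
      have i : ∀ y : H, y⁻¹ = y := fun y => inv_eq_of_mul_eq_one_right (by rw [← pow_two]; exact h2 y)
      calc a * b = (a * b)⁻¹ := (i _).symm
        _ = b * a := by rw [mul_inv_rev, i, i]
    obtain ⟨a₀, ha₀, ha₀'⟩ := hne
    have hidx : A.index = 2 := by
      refine Subgroup.index_eq_two_iff'.2 ⟨x, fun b => ?_⟩
      by_cases hb : b ∈ A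
      · exact Or.inr ⟨hb, fun h => hx ((A.mul_mem_cancel_right hb).1 h)⟩
      · refine Or.inl ⟨?_, hb⟩
        by_contra hbx
        have h1 := key (x * b) hbx a₀ ha₀
        have h2 : x * b * a₀ * (x * b)⁻¹ = x * (b * a₀ * b⁻¹) * x⁻¹ := by group
        rw [h2, key b hb a₀ ha₀, key x hx _ (A.inv_mem ha₀), inv_inv] at h1
        exact ha₀' h1.symm
    refine ⟨A, Subgroup.normal_of_index_eq_two hidx, ⟨⟨fun a b => Subtype.ext (hAc _ a.2 _ b.2)⟩⟩, hidx,
      fun y hy => ⟨hD y hy, key y hy⟩, fun _ B' _ _ hB'i hB' => ?_⟩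
    have hle : A ≤ B' := by
      intro a ha
      by_contra haB
      have h1 := hB' a haB
      by_cases hb : a₀ ∈ B'
      · have := h1.2 a₀ hb
        rw [hAc a ha a₀ ha₀, mul_inv_cancel_right] at this
        exact ha₀' this.symm
      · exact ha₀' (inv_eq_of_mul_eq_one_right (by rw [← pow_two]; exact (hB' a₀ hb).1))
    refine le_antisymm ?_ hle
    have h1 := Subgroup.relIndex_mul_index hle
    rw [hidx, hB'i] at h1
    exact Subgroup.relIndex_eq_one.1 (by omega)

end Cfsg.Agent.S4420
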