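import Cfsg.Statements.S4421
import Mathlib

set_option autoImplicit false
open Cfsg

namespace Cfsg.Agent.S4421

/-- A factorization of a normalizer from two-step control of fusion. Let `G` be a finite group and `A ≤ S ≤ H` subgroups of `G` such that: (i) `S` controls the `G`-fusion of `A` in the sense that every `G`-conjugate of `A` lying in `S` is an `S`-conjugate of `A`; (ii) `H` controls the `G`-fusion of `S` in the same sense; (iii) every conjugate of `S` by an element of the normalizer of `A` lies in `H`. Then `N_G(A) = N_H(A) · (N_G(S) ∩ N_G(A))`: every element of the normalizer of `A` is a product of an element of `H` normalizing `A` and an element normalizing both `S` and `A`. -/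
theorem result {G : Type*} [Group G] [Finite G] (A S H : Subgroup G)
    (hAS : A ≤ S) (hSH : S ≤ H)
    (h1 : ∀ g : G, A.map (MulAut.conj g).toMonoidHom ≤ S → ∃ s ∈ S, A.map (MulAut.conj g).toMonoidHom = A.map (MulAut.conj s).toMonoidHom)
    (h2 : ∀ g : G, S.map (MulAut.conj g).toMonoidHom ≤ H → ∃ y ∈ H, S.map (MulAut.conj g).toMonoidHom = S.map (MulAut.conj y).toMonoidHom)
    (h3 : ∀ x ∈ Subgroup.normalizer (A : Set G), S.map (MulAut.conj x).toMonoidHom ≤ H) :
    ∀ x ∈ Subgroup.normalizer (A : Set G), ∃ y ∈ H ⊓ Subgroup.normalizer (A : Set G),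
      ∃ z ∈ Subgroup.normalizer (S : Set G) ⊓ Subgroup.normalizer (A : Set G), x = y * z := by
  intro x hx
  obtain ⟨y, hy, hyx⟩ := h2 x (h3 x hx)
  have conj_mul : ∀ (K : Subgroup G) (a b : G),
      K.map (MulAut.conj (a * b)).toMonoidHom = (K.map (MulAut.conj b).toMonoidHom).map (MulAut.conj a).toMonoidHom := by
    intro K a b
    rw [Subgroup.map_map]
    congr 1
    ext g
    simp [mul_assoc]
  have conj_one : ∀ (K : Subgroup G), K.map (MulAut.conj (1 : G)).toMonoidHom = K := by
    intro K
    ext g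
    simp
  have mem_norm : ∀ (K : Subgroup G) (a : G),
      a ∈ Subgroup.normalizer (K : Set G) ↔ K.map (MulAut.conj a).toMonoidHom = K := by
    intro K a
    constructor
    · intro ha
      ext g
      simp only [Subgroup.mem_map, MulEquiv.coe_toMonoidHom, MulAut.conj_apply]
      constructor
      · rintro ⟨k, hk, rfl⟩
        exact (Subgroup.mem_normalizer_iff.1 ha k).1 hk
      · intro hg
        refine ⟨a⁻¹ * g * a, ?_, by group⟩
        refine (Subgroup.mem_normalizer_iff.1 ha _).2 ?_
        convert hg using 1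
        group
    · intro ha
      refine Subgroup.mem_normalizer_iff.2 fun k => ⟨fun hk => ?_, fun hk => ?_⟩
      · rw [← ha]
        exact ⟨k, hk, rfl⟩
      · rw [← ha] at hk
        obtain ⟨k', hk', hkk'⟩ := hk
        simp at hkk'
        exact hkk' ▸ hk'
  have hz' : S.map (MulAut.conj (y⁻¹ * x)).toMonoidHom = S := by
    rw [conj_mul, hyx, ← conj_mul, inv_mul_cancel, conj_one]
  have hA' : A.map (MulAut.conj (y⁻¹ * x)).toMonoidHom ≤ S :=
    le_trans (Subgroup.map_mono hAS) hz'.le
  obtain ⟨s, hs, hsx⟩ := h1 _ hA'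
  have hzA : A.map (MulAut.conj (s⁻¹ * (y⁻¹ * x))).toMonoidHom = A := by
    rw [conj_mul, hsx, ← conj_mul, inv_mul_cancel, conj_one]
  have hzS : S.map (MulAut.conj (s⁻¹ * (y⁻¹ * x))).toMonoidHom = S := by
    rw [conj_mul, hz']
    exact (mem_norm S s⁻¹).1 ((Subgroup.le_normalizer (H := S)) (S.inv_mem hs))
  refine ⟨y * s, ⟨H.mul_mem hy (hSH hs), ?_⟩, s⁻¹ * (y⁻¹ * x), ⟨(mem_norm _ _).2 hzS, (mem_norm _ _).2 hzA⟩, by group⟩
  have : y * s = x * (s⁻¹ * (y⁻¹ * x))⁻¹ := by group
  rw [this]
  exact Subgroup.mul_mem _ hx (Subgroup.inv_mem _ ((mem_norm _ _).2 hzA))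

end Cfsg.Agent.S4421
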