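import Cfsg.Statements.S4422
import Mathlib

set_option autoImplicit false
open Cfsg

namespace Cfsg.Agent.S4422

/-- Primitive divisors of `q^e - 1` are congruent to 1 modulo `e`. Let `q ≥ 2` and `e ≥ 1` be natural numbers and let `m` be a divisor of `q^e - 1` that is coprime to `q^i - 1` for every `1 ≤ i < e` (so `m` divides the primitive part of `q^e - 1`, the largest such divisor). Then `m ≡ 1 (mod e)`. -/
theorem result (q e m : ℕ) (hq : 2 ≤ q) (he : 1 ≤ e)
    (hm : m ∣ q ^ e - 1) (hcop : ∀ i : ℕ, 1 ≤ i → i < e → Nat.Coprime m (q ^ i - 1)) :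
    m % e = 1 % e := by
  have hne : q ^ e - 1 ≠ 0 := by
    have : 1 < q ^ e := Nat.one_lt_pow (by omega) (by omega)
    omega
  have hm0 : m ≠ 0 := fun h => hne (by simpa [h] using hm)
  have key : ∀ r : ℕ, r.Prime → r ∣ m → r % e = 1 % e := by
    intro r hr hrm
    have : Fact r.Prime := ⟨hr⟩
    have h1 : (q : ZMod r) ^ e = 1 := by
      have h := (ZMod.natCast_eq_zero_iff _ r).2 (hrm.trans hm)
      rw [Nat.cast_sub (Nat.one_le_pow _ _ (by omega)), Nat.cast_one, sub_eq_zero, Nat.cast_pow] at h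
      exact h
    have hq0 : (q : ZMod r) ≠ 0 := by
      intro h
      rw [h, zero_pow (by omega)] at h1
      exact zero_ne_one h1
    have hord : orderOf (q : ZMod r) = e := by
      refine (orderOf_eq_iff (by omega)).2 ⟨h1, fun i hi hi0 h => ?_⟩
      have h' : ((q ^ i - 1 : ℕ) : ZMod r) = 0 := by
        rw [Nat.cast_sub (Nat.one_le_pow _ _ (by omega)), Nat.cast_one, sub_eq_zero, Nat.cast_pow]
        exact h
      have hd := Nat.dvd_gcd hrm ((ZMod.natCast_eq_zero_iff _ r).1 h')
      rw [(hcop i hi0 hi).gcd_eq_one] at hd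
      exact hr.ne_one (Nat.dvd_one.1 hd)
    have hd : e ∣ r - 1 := hord ▸ ZMod.orderOf_dvd_card_sub_one hq0
    exact ((Nat.modEq_iff_dvd' hr.one_lt.le).2 hd).symm
  have : ∀ k : ℕ, k ≠ 0 → k ∣ m → k % e = 1 % e := by
    intro k
    induction k using Nat.recOnMul with
    | zero => intro h; exact absurd rfl h
    | one => intros; rfl
    | prime p hp => intro _ hd; exact key p hp hd
    | mul a b ha hb =>
      intro h0 hd
      obtain ⟨ha0, hb0⟩ := mul_ne_zero_iff.1 h0
      rw [Nat.mul_mod, ha ha0 (dvd_trans (dvd_mul_right a b) hd), hb hb0 (dvd_trans (dvd_mul_left b a) hd),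
        ← Nat.mul_mod, one_mul]
  exact this m hm0 dvd_rfl

end Cfsg.Agent.S4422
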