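import Cfsg.Statements.S4423
import Cfsg.Agent.Lib.FGStruct.PrimitivePart

set_option autoImplicit false
open Cfsg

namespace Cfsg.Agent.S4423

set_option maxRecDepth 100000 in
theorem totient_small : ∀ e : ℕ, e < 513 → Nat.totient e ≤ 16 →
    e ∈ [0, 1, 2, 3, 4, 5, 6, 7, 8, 9, 10, 11, 12, 13, 14, 15, 16, 17, 18, 20, 21, 22, 24, 26, 28, 30, 32, 34, 36, 40, 42, 48, 60] := by
  decide +kernel

/-- Witnesses in the small cases. -/
def witnesses : List (ℕ × ℕ × ℕ) := [(3, 3, 13), (5, 3, 31), (6, 3, 43), (7, 3, 19), (8, 3, 73), (9, 3, 91), (4, 4, 17), (5, 4, 13), (6, 4, 37), (7, 4, 25), (8, 4, 65), (9, 4, 41), (10, 4, 101), (2, 5, 31), (3, 5, 121), (6, 6, 31), (7, 6, 43), (8, 6, 19), (9, 6, 73), (10, 6, 91), (11, 6, 37), (12, 6, 133), (2, 7, 127), (3, 8, 41), (4, 8, 257), (2, 9, 73), (3, 10, 61), (4, 10, 41), (3, 12, 73), (4, 12, 241), (2, 14, 43), (3, 14, 547), (2, 15, 151), (2, 16, 257), (3, 18, 703), (2, 22, 683), (2, 24, 241), (2, 30, 331),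 (2, 42, 5419)]

theorem witnesses_ok : ∀ t ∈ witnesses, t.2.2 ∣ t.1 ^ t.2.1 - 1 ∧
    (∀ i ∈ List.range t.2.1, 1 ≤ i → Nat.Coprime t.2.2 (t.1 ^ i - 1)) ∧ 3 * t.2.1 + 1 ≤ t.2.2 := by
  decide +kernel

theorem small_cases : ∀ e ∈ [3, 4, 5, 6, 7, 8, 9, 10, 11, 12, 13, 14, 15, 16, 17, 18, 20, 21, 22, 24, 26, 28, 30, 32, 34, 36, 40, 42, 48, 60],
    ∀ q ∈ List.range 14, 2 ≤ q → 4 * (2 * e + 1) * (Nat.totient e + 1) < q ^ Nat.totient e ∨
      (q, e) ∈ [(2, 6), (2, 4), (2, 10), (2, 12), (2, 18), (3, 4), (3, 6), (5, 6), (2, 3), (2, 8), (2, 20), (4, 3), (4, 6)] ∨ (q, e) ∈ witnesses.map (fun t => (t.1, t.2.1)) := by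
  decide +kernel

theorem big_fourteen : ∀ e ∈ [3, 4, 5, 6, 7, 8, 9, 10, 11, 12, 13, 14, 15, 16, 17, 18, 20, 21, 22, 24, 26, 28, 30, 32, 34, 36, 40, 42, 48, 60],
    4 * (2 * e + 1) * (Nat.totient e + 1) < 14 ^ Nat.totient e := by
  decide +kernel

theorem exceptions : ∀ t ∈ ([((2, 6), 1), ((2, 4), 5), ((2, 10), 11), ((2, 12), 13), ((2, 18), 19), ((3, 4), 5), ((3, 6), 7), ((5, 6), 7), ((2, 3), 7), ((2, 8), 17), ((2, 20), 41), ((4, 3), 7), ((4, 6), 13)] : List ((ℕ × ℕ) × ℕ)),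
    t.2 ≤ 2 * t.1.2 + 1 ∧
      t.1.1 ^ t.1.2 - 1 ∣ t.2 * ((List.range t.1.2).tail.map fun i => (t.1.1 ^ i - 1) ^ 5).prod := by
  decide +kernel

/-- Size of the primitive part of `q^e - 1`. For a prime power `q` and `e ≥ 3`, call a divisor of `q^e - 1` primitive when it is coprime to `q^i - 1` for every `1 ≤ i < e`; the primitive part is the largest primitive divisor. Apart from thirteen exceptional pairs, the primitive part is at least `3e + 1`: there is a primitive divisor `m ≥ 3e + 1` unless `(q, e)` is `(2, 6)` (where every primitive divisor is 1), one of `(2,4), (2,10), (2,12), (2,18), (3,4), (3,6), (5,6)` (where the primitive part is exactly `e + 1`), or one of `(2,3), (2,8), (2,20), (4,3), (4,6)` (where it is exactly `2e + 1`). The statement asserts the existence of a primitive divisor `m ≥ 3e + 1` outside the thirteen pairs, and that every primitive divisor is at most `2e + 1` for the thirteen pairs. -/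
theorem result (q e : ℕ) (hq : IsPrimePow q) (he : 3 ≤ e) :
    ((q, e) ∉ [(2, 6), (2, 4), (2, 10), (2, 12), (2, 18), (3, 4), (3, 6), (5, 6), (2, 3), (2, 8), (2, 20), (4, 3), (4, 6)] →
      ∃ m : ℕ, m ∣ q ^ e - 1 ∧ (∀ i : ℕ, 1 ≤ i → i < e → Nat.Coprime m (q ^ i - 1)) ∧ 3 * e + 1 ≤ m) ∧
    ((q, e) ∈ [(2, 6), (2, 4), (2, 10), (2, 12), (2, 18), (3, 4), (3, 6), (5, 6), (2, 3), (2, 8), (2, 20), (4, 3), (4, 6)] →
      ∀ m : ℕ, m ∣ q ^ e - 1 → (∀ i : ℕ, 1 ≤ i → i < e → Nat.Coprime m (q ^ i - 1)) → m ≤ 2 * e + 1) := by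
  refine ⟨fun hne => ?_, fun hmem m hm hcop => ?_⟩
  · have hq2 : 2 ≤ q := hq.one_lt
    have he' : 0 < e.totient := Nat.totient_pos.2 (by omega)
    by_cases hbig : 4 * (2 * e + 1) * (e.totient + 1) < q ^ e.totient
    · exact CfsgLib.FGStruct.PrimitivePart.exists_primitive hq2 he hbig
    have hφ : e.totient ≤ 16 := by
      by_contra hφ
      push Not at hφ
      apply hbig
      have he2 := (CfsgLib.FGStruct.PrimitivePart.le_two_mul_totient_sq e).1
      have key : ∀ j, 4 * (4 * (17 + j) ^ 2 + 1) * (17 + j + 1) < 2 ^ (17 + j) := by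
        intro j
        induction j with
        | zero => norm_num
        | succ j ih =>
          rw [show 17 + (j + 1) = 17 + j + 1 by omega, pow_succ 2 (17 + j)]
          nlinarith
      have h17 := key (e.totient - 17)
      rw [show 17 + (e.totient - 17) = e.totient by omega] at h17
      refine lt_of_lt_of_le (lt_of_le_of_lt ?_ h17) (Nat.pow_le_pow_left hq2 _)
      exact Nat.mul_le_mul_right _ (by omega)
    have he512 : e < 513 := by
      have he2 := (CfsgLib.FGStruct.PrimitivePart.le_two_mul_totient_sq e).1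
      have : e.totient ^ 2 ≤ 16 ^ 2 := Nat.pow_le_pow_left hφ _
      omega
    have hlist := totient_small e he512 hφ
    have hmem' : e ∈ [3, 4, 5, 6, 7, 8, 9, 10, 11, 12, 13, 14, 15, 16, 17, 18, 20, 21, 22, 24, 26, 28, 30, 32, 34, 36, 40, 42, 48, 60] := by
      simp only [List.mem_cons, List.not_mem_nil, or_false] at hlist ⊢
      omega
    have hq14 : q < 14 := by
      by_contra hq14
      push Not at hq14
      have h14 : 4 * (2 * e + 1) * (e.totient + 1) < 14 ^ e.totient := big_fourteen e hmem'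
      exact hbig (lt_of_lt_of_le h14 (Nat.pow_le_pow_left hq14 _))
    rcases small_cases e hmem' q (List.mem_range.2 hq14) hq2 with h | h | h
    · exact absurd h hbig
    · exact absurd h hne
    · obtain ⟨⟨q', e', m⟩, ht, heq⟩ := List.mem_map.1 h
      obtain ⟨rfl, rfl⟩ := Prod.mk.injEq .. |>.mp heq
      obtain ⟨h1, h2, h3⟩ := witnesses_ok _ ht
      exact ⟨m, h1, fun i hi hie => h2 i (List.mem_range.2 hie) hi, h3⟩
  · obtain ⟨P, hP⟩ : ∃ P, ((q, e), P) ∈ ([((2, 6), 1), ((2, 4), 5), ((2, 10), 11), ((2, 12), 13), ((2, 18), 19), ((3, 4), 5), ((3, 6), 7), ((5, 6), 7), ((2, 3), 7), ((2, 8), 17), ((2, 20), 41), ((4, 3), 7), ((4, 6), 13)] : List ((ℕ × ℕ) × ℕ)) := by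
      simp only [List.mem_cons, List.not_mem_nil, or_false, Prod.mk.injEq] at hmem
      rcases hmem with h | h | h | h | h | h | h | h | h | h | h | h | h <;> obtain ⟨rfl, rfl⟩ := h <;>
        exact ⟨_, by simp; rfl⟩
    obtain ⟨hle, hdvd⟩ := exceptions _ hP
    refine le_trans (Nat.le_of_dvd ?_ ?_) hle
    · by_contra h0
      simp only [List.mem_cons, List.not_mem_nil, or_false, Prod.mk.injEq] at hP
      omega
    · refine Nat.Coprime.dvd_of_dvd_mul_right ?_ (hm.trans hdvd)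
      refine Nat.coprime_list_prod_right_iff.2 fun x hx => ?_
      obtain ⟨i, hi, rfl⟩ := List.mem_map.1 hx
      rw [List.range_eq_range', List.tail_range', List.mem_range'_1] at hi
      simp only at hi
      exact (hcop i (by omega) (by omega)).pow_right 5

end Cfsg.Agent.S4423
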