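import Cfsg.Statements.S4425
import Cfsg.Agent.Lib.BlockReg.Bounds
import Cfsg.Agent.Lib.Char.Induced

set_option autoImplicit false
open Cfsg

namespace Cfsg.Agent.S4425
open CfsgLib.BlockReg
open scoped ComplexConjugate

/-- Let χ be an irreducible character of the finite group G, p a prime, p^a the p-part of the order of G and p^b the p-part of the degree χ(1). Let χ̃ be the class function equal to p^a · χ on p-regular elements and zero on p-singular elements. Then p^(−b) · χ̃ is a generalized character of G, while p^(−(b+1)) · χ̃ is not. -/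
theorem result {G : Type*} [Group G] [Finite G] (p : ℕ) [Fact p.Prime] (χ : Cfsg.IrrCharacter G) : Cfsg.IsGeneralizedCharacter G (fun x : G => if p ∣ orderOf x then (0 : ℂ) else ((p ^ ((Nat.card G).factorization p - (Cfsg.charDegree (χ : G → ℂ)).factorization p) : ℕ) : ℂ) * (χ : G → ℂ) x) ∧ ¬ Cfsg.IsGeneralizedCharacter G (fun x : G => if p ∣ orderOf x then (0 : ℂ) else ((p ^ (Nat.card G).factorization p : ℕ) : ℂ) / ((p ^ ((Cfsg.charDegree (χ : G → ℂ)).factorization p + 1) : ℕ) : ℂ) * (χ : G → ℂ) x) := by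
  classical
  haveI := Fintype.ofFinite G
  have hpr : p.Prime := Fact.out
  set a := (Nat.card G).factorization p with ha
  set b := (Cfsg.charDegree (χ : G → ℂ)).factorization p with hb
  have hba : b ≤ a := factorization_deg_le χ
  have hpow : ∀ k : ℕ, ((p : ℂ) ^ k) ≠ 0 := fun k => pow_ne_zero _ (by exact_mod_cast hpr.ne_zero)
  constructor
  · obtain ⟨M, hM⟩ := exists_isPModular hpr
    obtain ⟨n, hn, hexp⟩ := exists_coeff (p := p) hpr χ
    choose q hq using fun ψ => (dvd_coeff_iff hM χ ψ (n ψ) (hn ψ)).1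
    convert isGeneralizedCharacter_int_combination q using 1
    funext g
    have hg := congrFun hexp g
    simp only [tilde, ← ha] at hg
    simp only [hq, ← hb] at hg
    push_cast at hg
    simp only [mul_assoc, ← Finset.mul_sum] at hg
    refine mul_left_cancel₀ (hpow b) ?_
    rw [← hg]
    split_ifs
    · simp
    · rw [← mul_assoc, Nat.cast_pow, ← pow_add, Nat.add_sub_cancel' hba]
  · rintro ⟨α, β, hα, hβ, hθ⟩
    set θ : G → ℂ := fun x : G => if p ∣ orderOf x then (0 : ℂ) else
      ((p ^ a : ℕ) : ℂ) / ((p ^ (b + 1) : ℕ) : ℂ) * (χ : G → ℂ) x with hθdef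
    obtain ⟨P⟩ := (inferInstance : Nonempty (Sylow p G))
    haveI : Fintype (P : Subgroup G) := Fintype.ofFinite _
    obtain ⟨m₁, hm₁⟩ := CfsgLib.Char.IsCharacter.exists_nat_classInner
      (CfsgLib.Char.IsCharacter.restrict hα (P : Subgroup G)) CfsgLib.Char.isIrrCharacter_principal
    obtain ⟨m₂, hm₂⟩ := CfsgLib.Char.IsCharacter.exists_nat_classInner
      (CfsgLib.Char.IsCharacter.restrict hβ (P : Subgroup G)) CfsgLib.Char.isIrrCharacter_principal
    have hcard : Nat.card (P : Subgroup G) = p ^ a := P.card_eq_multiplicity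
    have h1 : θ 1 = ((p ^ a : ℕ) : ℂ) * (((m₁ : ℤ) - m₂ : ℤ) : ℂ) := by
      have hs : ∑ u : (P : Subgroup G), θ u = θ 1 := by
        rw [Finset.sum_eq_single (1 : (P : Subgroup G))]
        · rfl
        · intro u _ hu
          obtain ⟨k, hk⟩ := P.isPGroup' u
          obtain ⟨j, -, hj⟩ := (Nat.dvd_prime_pow hpr).1 (orderOf_dvd_of_pow_eq_one hk)
          have hj0 : j ≠ 0 := by
            rintro rfl
            rw [pow_zero, orderOf_eq_one_iff] at hj
            exact hu hj
          simp only [hθdef]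
          rw [if_pos]
          rw [Subgroup.orderOf_coe, hj]
          exact dvd_pow_self p hj0
        · exact fun h => absurd (Finset.mem_univ _) h
      push_cast
      rw [← hm₁, ← hm₂, ← hs, Cfsg.classInner, Cfsg.classInner, hcard]
      simp only [map_one, mul_one, ← mul_sub, ← Finset.sum_sub_distrib]
      rw [Nat.cast_pow, ← mul_assoc, mul_inv_cancel₀ (hpow a), one_mul]
      exact Finset.sum_congr rfl fun u _ => congrFun hθ u
    have h2 : θ 1 = ((p ^ a : ℕ) : ℂ) / ((p ^ (b + 1) : ℕ) : ℂ) * (χ : G → ℂ) 1 := by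
      simp only [hθdef]
      rw [if_neg (by rw [orderOf_one, Nat.dvd_one]; exact hpr.ne_one)]
    rw [h2, ← deg_cast] at h1
    push_cast at h1
    rw [div_mul_eq_mul_div, div_eq_iff (hpow (b + 1)), mul_assoc] at h1
    replace h1 := mul_left_cancel₀ (hpow a) h1
    have hz : (Cfsg.charDegree (χ : G → ℂ) : ℤ) = (p : ℤ) ^ (b + 1) * ((m₁ : ℤ) - m₂) := by
      rw [mul_comm]
      exact_mod_cast h1
    have hdvd : p ^ (b + 1) ∣ Cfsg.charDegree (χ : G → ℂ) := by
      have : ((p ^ (b + 1) : ℕ) : ℤ) ∣ (Cfsg.charDegree (χ : G → ℂ) : ℤ) :=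
        ⟨(m₁ : ℤ) - m₂, by rw [hz]; push_cast; ring⟩
      exact_mod_cast this
    have h4 := (hpr.pow_dvd_iff_le_factorization (deg_pos χ).ne').1 hdvd
    omega

end Cfsg.Agent.S4425
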