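import Cfsg.Statements.S4426
import Cfsg.Agent.Lib.BlockReg.Bounds

set_option autoImplicit false
open Cfsg

namespace Cfsg.Agent.S4426
open CfsgLib.BlockReg
open scoped ComplexConjugate

/-- Let χ be an irreducible character in the p-block B of the finite group G (relative to a maximal ideal M of the algebraic integers containing p), let p^a be the p-part of the order of G, and let χ̃ be the class function equal to p^a · χ on p-regular elements and zero elsewhere. For ξ ∈ B the inner product [χ̃, ξ] is an integer. The following are equivalent: (a) χ has height zero in B; (b) for some ξ ∈ B the integer [χ̃, ξ] is nonzero and the exact power of p dividing it equals the exact power of p dividing ξ(1); (c) the same holds for every ξ ∈ B. -/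
theorem result {G : Type*} [Group G] [Fintype G] (p : ℕ) [Fact p.Prime] (M : Ideal Cfsg.AlgInt) (hM : Cfsg.IsPModular p M) (B : Set (Cfsg.IrrCharacter G)) (hB : Cfsg.IsPBlock M B) (χ : Cfsg.IrrCharacter G) (hχ : χ ∈ B) : (Cfsg.blockHeight p B (χ : G → ℂ) = 0 ↔ ∃ ξ ∈ B, ∃ n : ℤ, Cfsg.classInner (fun x : G => if p ∣ orderOf x then (0 : ℂ) else ((p ^ (Nat.card G).factorization p : ℕ) : ℂ) * (χ : G → ℂ) x) (ξ : G → ℂ) = (n : ℂ) ∧ n ≠ 0 ∧ padicValInt p n = (Cfsg.charDegree (ξ : G → ℂ)).factorization p) ∧ (Cfsg.blockHeight p B (χ : G → ℂ) = 0 ↔ ∀ ξ ∈ B, ∃ n : ℤ, Cfsg.classInner (fun x : G => if p ∣ orderOf x then (0 : ℂ) else ((p ^ (Nat.card G).factorization p : ℕ) : ℂ) * (χ : G → ℂ) x) (ξ : G → ℂ) = (n : ℂ) ∧ n ≠ 0 ∧ padicValInt p n = (Cfsg.charDegree (ξ : G → ℂ)).factorization p) := by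
  have hpr : p.Prime := Fact.out
  have key : ∀ ξ ∈ B, (Cfsg.blockHeight p B (χ : G → ℂ) = 0 ↔
      ∃ n : ℤ, Cfsg.classInner (tilde p (χ : G → ℂ)) (ξ : G → ℂ) = (n : ℂ) ∧ n ≠ 0 ∧
        padicValInt p n = (Cfsg.charDegree (ξ : G → ℂ)).factorization p) := by
    intro ξ hξ
    set b := (Cfsg.charDegree (ξ : G → ℂ)).factorization p with hb
    obtain ⟨n, hn⟩ := exists_int_classInner_tilde hpr ξ χ
    have hn' : Cfsg.classInner (tilde p (χ : G → ℂ)) (ξ : G → ℂ) = (n : ℂ) := by
      rw [classInner_tilde_conj p (ξ : G → ℂ) (χ : G → ℂ), hn, map_intCast]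
    obtain ⟨hd, hiff⟩ := dvd_coeff_iff hM ξ χ n hn
    have hval : (n ≠ 0 ∧ padicValInt p n = b) ↔ ¬ ((p ^ (b + 1) : ℕ) : ℤ) ∣ n := by
      push_cast
      rw [padicValInt_dvd_iff]
      constructor
      · rintro ⟨h0, hv⟩ h
        rcases h with h | h
        · exact h0 h
        · omega
      · intro h
        have h0 : n ≠ 0 := fun h0 => h (Or.inl h0)
        push_cast at hd
        rcases (padicValInt_dvd_iff b n).1 hd with h1 | h1
        · exact absurd h1 h0
        · exact ⟨h0, by push Not at h; omega⟩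
    rw [blockHeight_eq, Nat.sub_eq_zero_iff_le]
    constructor
    · intro hle
      refine ⟨n, hn', hval.2 fun h => ?_⟩
      exact rInner_not_memIdeal hM hB hχ hξ (le_antisymm hle (minExp_le hχ)) (hiff.1 h)
    · rintro ⟨n', hn'', hne⟩
      have hnn : n' = n := by exact_mod_cast hn''.symm.trans hn'
      subst hnn
      by_contra hgt
      exact hval.1 hne (hiff.2 (rInner_memIdeal hM hB hξ (not_le.1 hgt)))
  constructor
  · exact ⟨fun h => ⟨χ, hχ, (key χ hχ).1 h⟩, fun ⟨ξ, hξ, h⟩ => (key ξ hξ).2 h⟩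
  · exact ⟨fun h ξ hξ => (key ξ hξ).1 h, fun h => (key χ hχ).2 (h χ hχ)⟩

end Cfsg.Agent.S4426
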