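import Cfsg.Statements.S4428
import Cfsg.Agent.Lib.BlockReg.Induced

set_option autoImplicit false
open Cfsg

namespace Cfsg.Agent.S4428
open CfsgLib.BlockReg
open scoped ComplexConjugate

/-- Let χ be an irreducible character of height zero in the p-block B of the finite group G (relative to a maximal ideal M of the algebraic integers containing p). Let x be a p-element of G with centralizer C, and let b be a block of C that induces B. Form the class function ϑ(c) = χ(x c) on C and its b-part (the sum over ψ ∈ b of the inner product of ϑ with ψ, times ψ). Then the b-part of ϑ does not vanish identically on the p-regular elements of C. (Compare the second main Theorem, which gives vanishing when b does not induce B.) -/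
theorem result {G : Type*} [Group G] [Finite G] (p : ℕ) [Fact p.Prime] (M : Ideal Cfsg.AlgInt) (hM : Cfsg.IsPModular p M) (B : Set (Cfsg.IrrCharacter G)) (hB : Cfsg.IsPBlock M B) (χ : Cfsg.IrrCharacter G) (hχ : χ ∈ B) (h0 : Cfsg.blockHeight p B (χ : G → ℂ) = 0) (x : G) (hx : ∃ k : ℕ, orderOf x = p ^ k) (b : Set (Cfsg.IrrCharacter (Subgroup.centralizer ({x} : Set G)))) (hb : Cfsg.IsInducedBlock M (Subgroup.centralizer ({x} : Set G)) b B) : ∃ y : Subgroup.centralizer ({x} : Set G), ¬ p ∣ orderOf y ∧ Cfsg.blockPart b (fun c : Subgroup.centralizer ({x} : Set G) => (χ : G → ℂ) (x * (c : G))) y ≠ 0 := by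
  classical
  haveI := Fintype.ofFinite G
  haveI : Fintype (Subgroup.centralizer ({x} : Set G)) := Fintype.ofFinite (Subgroup.centralizer ({x} : Set G))
  obtain ⟨j, hj⟩ := hx
  have hxj : x ^ p ^ j = 1 := by rw [← hj]; exact pow_orderOf_eq_one x
  have hcomm : ∀ c : (Subgroup.centralizer ({x} : Set G)), Commute x (c : G) := fun c =>
    ((Subgroup.mem_centralizer_singleton_iff).1 c.2).symm
  by_contra hcon
  push Not at hcon
  obtain ⟨ψ, hψ⟩ := block_nonempty hM hb.1
  set θ : (Subgroup.centralizer ({x} : Set G)) → ℂ := fun c => (χ : G → ℂ) (x * (c : G)) with hθ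
  have hθcl : Cfsg.IsClassFunction (Subgroup.centralizer ({x} : Set G)) θ := by
    intro g k
    refine char_conj_invariant χ _ _ (isConj_iff.2 ⟨((k : G))⁻¹, ?_⟩)
    have hk : x * (k : G) = (k : G) * x := hcomm k
    push_cast
    calc ((k : G))⁻¹ * (x * ((k : G) * (g : G) * (k : G)⁻¹)) * ((k : G))⁻¹⁻¹
        = ((k : G))⁻¹ * (x * (k : G)) * (g : G) := by group
      _ = x * (g : G) := by rw [hk]; group
  have hexp := CfsgLib.Char.IsClassFunction.eq_sum_classInner hθcl
  have hlin : ∀ (c : Cfsg.IrrCharacter (Subgroup.centralizer ({x} : Set G)) → ℂ) (s : Finset (Cfsg.IrrCharacter (Subgroup.centralizer ({x} : Set G)))),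
      Cfsg.classInner (tilde p (∑ η ∈ s, c η • (η : (Subgroup.centralizer ({x} : Set G)) → ℂ))) (ψ : (Subgroup.centralizer ({x} : Set G)) → ℂ) =
        ∑ η ∈ s, c η * Cfsg.classInner (tilde p (η : (Subgroup.centralizer ({x} : Set G)) → ℂ)) (ψ : (Subgroup.centralizer ({x} : Set G)) → ℂ) := by
    intro c s
    have : tilde p (∑ η ∈ s, c η • (η : (Subgroup.centralizer ({x} : Set G)) → ℂ)) = ∑ η ∈ s, c η • tilde p (η : (Subgroup.centralizer ({x} : Set G)) → ℂ) := by
      funext g
      simp only [tilde, Finset.sum_apply, Pi.smul_apply, smul_eq_mul]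
      split_ifs
      · simp
      · rw [Finset.mul_sum]
        exact Finset.sum_congr rfl fun η _ => by ring
    rw [this, CfsgLib.Char.classInner_sum_left]
    exact Finset.sum_congr rfl fun η _ => CfsgLib.Char.classInner_smul_left _ _ _
  have h1 : Cfsg.classInner (tilde p θ) (ψ : (Subgroup.centralizer ({x} : Set G)) → ℂ) =
      Cfsg.classInner (tilde p (∑ η ∈ b.toFinset, Cfsg.classInner θ η • (η : (Subgroup.centralizer ({x} : Set G)) → ℂ))) (ψ : (Subgroup.centralizer ({x} : Set G)) → ℂ) := by
    conv_lhs => rw [hexp]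
    rw [hlin, hlin]
    refine (Finset.sum_subset (Finset.subset_univ _) fun η _ hη => ?_).symm
    rw [Set.mem_toFinset] at hη
    rw [classInner_tilde_eq_zero hM (isPBlock_blockOf η) (sameBlock_refl hM _)
      (fun h => hη (mem_of_sameBlock hM hb.1 hψ (sameBlock_symm h))), mul_zero]
  have hz : tilde p (∑ η ∈ b.toFinset, Cfsg.classInner θ η • (η : (Subgroup.centralizer ({x} : Set G)) → ℂ)) = 0 := by
    funext g
    unfold tilde
    split_ifs with hg
    · rfl
    · have := hcon g hg
      simp only [Cfsg.blockPart] at this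
      rw [finsum_mem_eq_toFinset_sum] at this
      simp only [Finset.sum_apply, Pi.smul_apply, smul_eq_mul, Pi.zero_apply]
      rw [mul_eq_zero]
      right
      convert this
  rw [hz, CfsgLib.Char.classInner_zero_left] at h1
  have h2 := classInner_tilde_eq_regInv p θ ψ
  rw [h1, zero_div] at h2
  have hsum0 : (∑ g, regInv p θ g * (ψ : (Subgroup.centralizer ({x} : Set G)) → ℂ) g) / (ψ : (Subgroup.centralizer ({x} : Set G)) → ℂ) 1 = 0 :=
    (mul_eq_zero.1 h2.symm).resolve_left
      (ne_zero_of_not_memIdeal hM (pUnit_spec (G := (Subgroup.centralizer ({x} : Set G))) hM).2)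
  rw [blockHeight_eq, Nat.sub_eq_zero_iff_le] at h0
  have hcrit := (regular_sum_criterion hM (Subgroup.centralizer ({x} : Set G)) hb hψ χ).2 hχ (le_antisymm h0 (minExp_le hχ))
  apply hcrit
  refine (memIdeal_iff_of_sub hM (y := (∑ g, regInv p θ g * (ψ : (Subgroup.centralizer ({x} : Set G)) → ℂ) g) / (ψ : (Subgroup.centralizer ({x} : Set G)) → ℂ) 1) ?_).2
    (by rw [hsum0]; exact memIdeal_zero hM)
  haveI := Fintype.ofFinite (ConjClasses (Subgroup.centralizer ({x} : Set G)))
  have hF1 : ∀ g h : (Subgroup.centralizer ({x} : Set G)), IsConj g h →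
      regInv p (χ : G → ℂ) (g : G) = regInv p (χ : G → ℂ) (h : G) :=
    fun g h hgh => regInv_congr p χ _ _ ((Subgroup.centralizer ({x} : Set G)).subtype.map_isConj hgh)
  have hF2 : ∀ g h : (Subgroup.centralizer ({x} : Set G)), IsConj g h → regInv p θ g = regInv p θ h := fun g h hgh => by
    simp only [regInv, orderOf_eq_of_isConj hgh,
      CfsgLib.Char.IsClassFunction.eq_of_isConj hθcl (isConj_inv_inv hgh)]
  rw [sum_mul_char_div ψ _ hF1, sum_mul_char_div ψ _ hF2, ← Finset.sum_sub_distrib]
  refine memIdeal_sum hM _ fun K _ => ?_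
  rw [← sub_mul]
  refine memIdeal_mul_right hM ?_ (memRing_centralChar hM ψ _)
  simp only [regInv, Subgroup.orderOf_coe]
  split_ifs with hg
  · rw [sub_self]; exact memIdeal_zero hM
  · have hreg : ¬ p ∣ orderOf ((K.out⁻¹ : (Subgroup.centralizer ({x} : Set G))) : G) := by
      rwa [Subgroup.orderOf_coe, orderOf_inv]
    have h3 := memIdeal_neg (char_mul_sub_memIdeal hM χ (hcomm (K.out⁻¹)) hxj hreg)
    rw [neg_sub] at h3
    exact h3

end Cfsg.Agent.S4428
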