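import Cfsg.Statements.S4430
import Cfsg.Agent.Lib.BlockReg.Induced

set_option autoImplicit false
open Cfsg

namespace Cfsg.Agent.S4430
open CfsgLib.BlockReg
open scoped ComplexConjugate

/-- Let H be a subgroup of the finite group G, b a block of H whose induced block B₀ in G is defined (relative to a maximal ideal M of the algebraic integers containing p), and ξ ∈ b. For a block B of G let n_B be the value at 1 of the B-part of the induced character ξ^G (a natural number: the sum over χ ∈ B of the multiplicity of χ in ξ^G times χ(1)). Then for B = B₀ the exact power of p dividing n_B equals the exact power of p dividing ξ^G(1), while for every other block B either n_B = 0 or n_B is divisible by a strictly higher power of p than ξ^G(1). -/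
theorem result {G : Type*} [Group G] [Fintype G] (p : ℕ) [Fact p.Prime] (M : Ideal Cfsg.AlgInt) (hM : Cfsg.IsPModular p M) (H : Subgroup G) [Fintype H] (b : Set (Cfsg.IrrCharacter H)) (B₀ : Set (Cfsg.IrrCharacter G)) (hind : Cfsg.IsInducedBlock M H b B₀) (ξ : Cfsg.IrrCharacter H) (hξ : ξ ∈ b) : (∃ n : ℕ, Cfsg.blockPart B₀ (Cfsg.indFun H (ξ : H → ℂ)) 1 = (n : ℂ) ∧ n ≠ 0 ∧ n.factorization p = (Cfsg.charDegree (Cfsg.indFun H (ξ : H → ℂ))).factorization p) ∧ ∀ B : Set (Cfsg.IrrCharacter G), Cfsg.IsPBlock M B → B ≠ B₀ → ∃ n : ℕ, Cfsg.blockPart B (Cfsg.indFun H (ξ : H → ℂ)) 1 = (n : ℂ) ∧ (n = 0 ∨ (Cfsg.charDegree (Cfsg.indFun H (ξ : H → ℂ))).factorization p < n.factorization p) := by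
  classical
  have hpr : p.Prime := Fact.out
  haveI : Fintype (ConjClasses G) := Fintype.ofFinite _
  set I : G → ℂ := Cfsg.indFun H (ξ : H → ℂ) with hI
  have hIchar : Cfsg.IsCharacter G I :=
    CfsgLib.Char.IsCharacter.indFun H (CfsgLib.Char.IsIrrCharacter.isCharacter ξ.2)
  choose m hm using fun χ : Cfsg.IrrCharacter G =>
    CfsgLib.Char.IsCharacter.exists_nat_classInner hIchar χ.2
  have hdegI : I 1 = ((H.index * Cfsg.charDegree (ξ : H → ℂ) : ℕ) : ℂ) := by
    rw [hI, CfsgLib.Char.indFun_apply_one, ← deg_cast]; push_cast; rfl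
  have hD : Cfsg.charDegree I = H.index * Cfsg.charDegree (ξ : H → ℂ) := by
    rw [Cfsg.charDegree, hdegI, Complex.natCast_re, Nat.floor_natCast]
  have hD0 : H.index * Cfsg.charDegree (ξ : H → ℂ) ≠ 0 :=
    mul_ne_zero Subgroup.index_ne_zero_of_finite (deg_pos ξ).ne'
  obtain ⟨χ₀, hχ₀⟩ := block_nonempty hM hind.2.1
  have main : ∀ B : Set (Cfsg.IrrCharacter G), Cfsg.IsPBlock M B →
      ∃ N : ℕ, Cfsg.blockPart B I 1 = (N : ℂ) ∧
        Cfsg.MemLocalRing M ((N : ℂ) / ((H.index * Cfsg.charDegree (ξ : H → ℂ) : ℕ) : ℂ)) ∧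
        (Cfsg.MemLocalIdeal M ((N : ℂ) / ((H.index * Cfsg.charDegree (ξ : H → ℂ) : ℕ) : ℂ)) ↔
          χ₀ ∉ B) := by
    intro B hB
    refine ⟨∑ χ ∈ B.toFinset, m χ * Cfsg.charDegree (χ : G → ℂ), ?_, ?_⟩
    · simp only [Cfsg.blockPart]
      rw [finsum_mem_eq_toFinset_sum, Nat.cast_sum]
      refine Finset.sum_congr rfl fun χ _ => ?_
      rw [Nat.cast_mul, ← hm χ, deg_cast]
      congr! 2
    set w := (∑ h : H, Cfsg.blockCoeff B (h : G) * (ξ : H → ℂ) h) / (ξ : H → ℂ) 1 with hw
    have hw' : ((∑ χ ∈ B.toFinset, m χ * Cfsg.charDegree (χ : G → ℂ) : ℕ) : ℂ) /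
        ((H.index * Cfsg.charDegree (ξ : H → ℂ) : ℕ) : ℂ) = w := by
      rw [Nat.cast_sum, Finset.sum_div, hw, Finset.sum_div]
      simp only [Cfsg.blockCoeff, finsum_mem_eq_toFinset_sum, Finset.mul_sum, Finset.sum_mul,
        Finset.sum_div]
      rw [Finset.sum_comm]
      refine Finset.sum_congr rfl fun χ _ => ?_
      rw [Nat.cast_mul, ← hm χ, hI,
        CfsgLib.Char.classInner_indFun H _ _ (CfsgLib.Char.IsIrrCharacter.isClassFunction χ.2),
        Cfsg.classInner, deg_cast, Nat.cast_mul, deg_cast, Finset.mul_sum, Finset.sum_mul,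
        Finset.sum_div]
      refine Finset.sum_congr rfl fun h _ => ?_
      have hcard : (Nat.card H : ℂ) * (H.index : ℂ) = (Nat.card G : ℂ) := by
        exact_mod_cast H.card_mul_index
      have h1 : (Nat.card H : ℂ) ≠ 0 := by exact_mod_cast Nat.card_pos.ne'
      have h2 : (H.index : ℂ) ≠ 0 := by exact_mod_cast Subgroup.index_ne_zero_of_finite
      have h3 := deg_ne_zero ξ
      rw [← hcard]
      field_simp
    rw [hw']
    have hc : ∀ g h, IsConj g h → Cfsg.blockCoeff B g = Cfsg.blockCoeff B h :=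
      fun g h hgh => blockCoeff_congr B hgh
    have hcong := sum_subgroup_congr hM H hind hξ hχ₀ (Cfsg.blockCoeff B) hc
      (memRing_blockCoeff hM hB)
    obtain ⟨h1, h0⟩ := sum_blockCoeff_mul_char B χ₀
    by_cases hmem : χ₀ ∈ B
    · rw [h1 hmem] at hcong
      refine ⟨memRing_of_sub hM hcong (memRing_one hM), ?_⟩
      rw [memIdeal_iff_of_sub hM hcong]
      exact ⟨fun h => absurd h (not_memIdeal_one hM), fun h => absurd hmem h⟩
    · rw [h0 hmem] at hcong
      refine ⟨memRing_of_sub hM hcong (memRing_zero hM), ?_⟩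
      rw [memIdeal_iff_of_sub hM hcong]
      exact ⟨fun _ => hmem, fun _ => memIdeal_zero hM⟩
  rw [hD]
  constructor
  · obtain ⟨N, hN, hR, hiff⟩ := main B₀ hind.2.1
    have hI0 : ¬ Cfsg.MemLocalIdeal M
        ((N : ℂ) / ((H.index * Cfsg.charDegree (ξ : H → ℂ) : ℕ) : ℂ)) := fun h => hiff.1 h hχ₀
    have hN0 : N ≠ 0 := by
      rintro rfl
      apply hI0
      rw [Nat.cast_zero, zero_div]
      exact memIdeal_zero hM
    refine ⟨N, hN, hN0, le_antisymm ?_ ?_⟩
    · by_contra hlt
      exact hI0 (natCast_div_memIdeal hM hD0 (not_le.1 hlt))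
    · by_contra hlt
      have := memIdeal_mul_left hM hR (natCast_div_memIdeal hM hN0 (not_le.1 hlt))
      rw [div_mul_div_cancel₀ (by exact_mod_cast hD0), div_self (by exact_mod_cast hN0)] at this
      exact not_memIdeal_one hM this
  · intro B hB hne
    obtain ⟨N, hN, hR, hiff⟩ := main B hB
    have hnot : χ₀ ∉ B := fun h => hne (by
      rw [block_eq_blockOf hM hB h, block_eq_blockOf hM hind.2.1 hχ₀])
    have hIdl := hiff.2 hnot
    refine ⟨N, hN, ?_⟩
    rcases eq_or_ne N 0 with rfl | hN0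
    · exact Or.inl rfl
    refine Or.inr ?_
    by_contra hge
    have := memIdeal_mul_right hM hIdl
      (natCast_div_memRing (n := H.index * Cfsg.charDegree (ξ : H → ℂ)) hM hN0 (Or.inr (not_lt.1 hge)))
    rw [div_mul_div_cancel₀ (by exact_mod_cast hD0), div_self (by exact_mod_cast hN0)] at this
    exact not_memIdeal_one hM this

end Cfsg.Agent.S4430
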