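import Cfsg.Statements.S4431
import Cfsg.Agent.Lib.BlockReg.Induced

set_option autoImplicit false
open Cfsg

namespace Cfsg.Agent.S4431
open CfsgLib.BlockReg
open scoped ComplexConjugate

/-- Let H be a subgroup of the finite group G and b a block of H whose induced block B₀ in G is defined (relative to a maximal ideal M of the algebraic integers containing p). Let χ be an irreducible character of G, ψ ∈ b, and let η be the class function on H equal to p^a · χ on the p-regular elements of H and zero elsewhere, p^a being the p-part of the order of H. Then (a) if χ ∉ B₀, the number [η, ψ]/ψ(1) lies in the local ideal at M; (b) if χ ∈ B₀ has height zero, it does not. -/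
theorem result {G : Type*} [Group G] [Fintype G] (p : ℕ) [Fact p.Prime] (M : Ideal Cfsg.AlgInt) (hM : Cfsg.IsPModular p M) (H : Subgroup G) [Fintype H] (b : Set (Cfsg.IrrCharacter H)) (B₀ : Set (Cfsg.IrrCharacter G)) (hind : Cfsg.IsInducedBlock M H b B₀) (χ : Cfsg.IrrCharacter G) (ψ : Cfsg.IrrCharacter H) (hψ : ψ ∈ b) : (χ ∉ B₀ → Cfsg.MemLocalIdeal M (Cfsg.classInner (fun h : H => if p ∣ orderOf h then (0 : ℂ) else ((p ^ (Nat.card H).factorization p : ℕ) : ℂ) * (χ : G → ℂ) h) (ψ : H → ℂ) / (ψ : H → ℂ) 1)) ∧ (χ ∈ B₀ → Cfsg.blockHeight p B₀ (χ : G → ℂ) = 0 → ¬ Cfsg.MemLocalIdeal M (Cfsg.classInner (fun h : H => if p ∣ orderOf h then (0 : ℂ) else ((p ^ (Nat.card H).factorization p : ℕ) : ℂ) * (χ : G → ℂ) h) (ψ : H → ℂ) / (ψ : H → ℂ) 1)) := by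
  have hpr : p.Prime := Fact.out
  have heq : Cfsg.classInner (fun h : H => if p ∣ orderOf h then (0 : ℂ) else
      ((p ^ (Nat.card H).factorization p : ℕ) : ℂ) * (χ : G → ℂ) h) (ψ : H → ℂ) / (ψ : H → ℂ) 1 =
      pUnit p H * ((∑ h : H, regInv p (χ : G → ℂ) h * (ψ : H → ℂ) h) / (ψ : H → ℂ) 1) := by
    rw [show (fun h : H => if p ∣ orderOf h then (0 : ℂ) else
      ((p ^ (Nat.card H).factorization p : ℕ) : ℂ) * (χ : G → ℂ) h) = tilde p (fun h : H => (χ : G → ℂ) h)
      from rfl, classInner_tilde_eq_regInv]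
    congr 2
    refine Finset.sum_congr rfl fun x _ => ?_
    simp only [regInv, Subgroup.orderOf_coe, InvMemClass.coe_inv]
  obtain ⟨hu, hu'⟩ := pUnit_spec (G := H) hM
  obtain ⟨h1, h2⟩ := regular_sum_criterion hM H hind hψ χ
  rw [heq]
  refine ⟨fun hχ => memIdeal_mul_left hM hu (h1 hχ), fun hχ h0 => ?_⟩
  rw [blockHeight_eq, Nat.sub_eq_zero_iff_le] at h0
  have hh := h2 hχ (le_antisymm h0 (minExp_le hχ))
  have hR : Cfsg.MemLocalRing M
      ((∑ h : H, regInv p (χ : G → ℂ) h * (ψ : H → ℂ) h) / (ψ : H → ℂ) 1) := by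
    obtain ⟨χ₀, hχ₀⟩ := block_nonempty hM hind.2.1
    refine memRing_of_sub hM (sum_subgroup_congr hM H hind hψ hχ₀ _ (regInv_congr p χ)
      (regInv_memRing hM χ)) ?_
    haveI := Fintype.ofFinite (ConjClasses G)
    rw [sum_mul_char_div χ₀ _ (regInv_congr p χ)]
    exact memRing_sum hM _ fun C _ =>
      memRing_mul hM (regInv_memRing hM χ _) (memRing_centralChar hM χ₀ _)
  exact not_memIdeal_mul hM hu hR hu' hh

end Cfsg.Agent.S4431
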