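import Cfsg.Statements.S4435
import Cfsg.Agent.Lib.Blocks.FongReynolds

set_option autoImplicit false
open Cfsg

namespace Cfsg.Agent.S4435

/-- Let N be a normal subgroup of the finite group G, b a block of N (relative to a maximal ideal M of the algebraic integers containing p), and T the stabilizer of b in G (the elements g such that conjugating any member of b by g gives a member of b); N ≤ T. Say that a block of T (or of G) covers b when some member has a constituent in b on restriction to N. Then: (i) every block B′ of T covering b induces a block B of G, B covers b, every ψ ∈ B′ induces to an irreducible character of G, and B consists exactly of the characters induced from members of B′; (ii) distinct blocks of T covering b induce distinct blocks of G; (iii) every block of G covering b is induced by some block of T covering b. -/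
theorem result {G : Type*} [Group G] [Fintype G] (p : ℕ) [Fact p.Prime] (M : Ideal Cfsg.AlgInt) (hM : Cfsg.IsPModular p M) (N : Subgroup G) [hN : N.Normal] [Fintype N] (b : Set (Cfsg.IrrCharacter N)) (hb : Cfsg.IsPBlock M b) (T : Subgroup G) [Fintype T] (hT : ∀ g : G, g ∈ T ↔ ∀ θ ∈ b, ∀ θ' : Cfsg.IrrCharacter N, (∀ n : N, (θ' : N → ℂ) n = (θ : N → ℂ) ⟨g * n * g⁻¹, hN.conj_mem n n.2 g⟩) → θ' ∈ b) (hNT : N ≤ T) : (∀ B' : Set (Cfsg.IrrCharacter T), Cfsg.IsPBlock M B' → (∃ ψ ∈ B', ∃ θ ∈ b, Cfsg.classInner (fun n : N => (ψ : T → ℂ) ⟨(n : G), hNT n.2⟩) (θ : N → ℂ) ≠ 0) → ∃ B : Set (Cfsg.IrrCharacter G), Cfsg.IsInducedBlock M T B' B ∧ (∃ χ ∈ B, ∃ θ ∈ b, Cfsg.classInner (fun n : N => (χ : G → ℂ) n) (θ : N → ℂ) ≠ 0) ∧ (∀ ψ ∈ B', Cfsg.IsIrrCharacter G (Cfsg.indFun T (ψ : T → ℂ))) ∧ ∀ χ : Cfsg.IrrCharacter G, χ ∈ B ↔ ∃ ψ ∈ B', (χ : G → ℂ) = Cfsg.indFun T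 (ψ : T → ℂ)) ∧ (∀ B'₁ B'₂ : Set (Cfsg.IrrCharacter T), Cfsg.IsPBlock M B'₁ → Cfsg.IsPBlock M B'₂ → (∃ ψ ∈ B'₁, ∃ θ ∈ b, Cfsg.classInner (fun n : N => (ψ : T → ℂ) ⟨(n : G), hNT n.2⟩) (θ : N → ℂ) ≠ 0) → (∃ ψ ∈ B'₂, ∃ θ ∈ b, Cfsg.classInner (fun n : N => (ψ : T → ℂ) ⟨(n : G), hNT n.2⟩) (θ : N → ℂ) ≠ 0) → ∀ B : Set (Cfsg.IrrCharacter G), Cfsg.IsInducedBlock M T B'₁ B → Cfsg.IsInducedBlock M T B'₂ B → B'₁ = B'₂) ∧ (∀ B : Set (Cfsg.IrrCharacter G), Cfsg.IsPBlock M B → (∃ χ ∈ B, ∃ θ ∈ b, Cfsg.classInner (fun n : N => (χ : G → ℂ) n) (θ : N → ℂ) ≠ 0) → ∃ B' : Set (Cfsg.IrrCharacter T), Cfsg.IsPBlock M B' ∧ (∃ ψ ∈ B', ∃ θ ∈ b, Cfsg.classInner (fun n : N => (ψ : T → ℂ) ⟨(n : G), hNT n.2⟩) (θ : N → ℂ) ≠ 0) ∧ Cfsg.IsInducedBlock M T B' B) := by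
  haveI := hM.2.1
  have hT' := CfsgLib.Blocks.stab_iff N T hT
  refine ⟨?_, ?_, ?_⟩
  · rintro B' hB' ⟨ψ₀, hψ₀, h₀⟩
    obtain ⟨B, hind, hc, hover, hmem⟩ :=
      CfsgLib.Blocks.fongReynolds N T hNT hb hT' hB' hψ₀ h₀
    refine ⟨B, hind, hc, fun ψ hψ => ?_, hmem⟩
    obtain ⟨χ, e, -⟩ := CfsgLib.Blocks.exists_indFun_overSet N T hNT hb hT' (hover ψ hψ)
    exact e ▸ χ.2
  · rintro B₁ B₂ hB₁ hB₂ ⟨ψ₁, hψ₁, h₁⟩ ⟨ψ₂, hψ₂, h₂⟩ B hi₁ hi₂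
    obtain ⟨χ₁, e₁, -⟩ := CfsgLib.Blocks.exists_indFun_overSet N T hNT hb hT' h₁
    obtain ⟨χ₂, e₂, -⟩ := CfsgLib.Blocks.exists_indFun_overSet N T hNT hb hT' h₂
    have j₁ := CfsgLib.Blocks.isInducedBlock_indFun (M := M) T e₁
    have j₂ := CfsgLib.Blocks.isInducedBlock_indFun (M := M) T e₂
    rw [← CfsgLib.Blocks.IsPBlock.eq_blockOf hB₁ hψ₁] at j₁
    rw [← CfsgLib.Blocks.IsPBlock.eq_blockOf hB₂ hψ₂] at j₂
    have h : χ₂ ∈ Cfsg.blockOf M (χ₁ : G → ℂ) := by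
      rw [CfsgLib.Blocks.IsInducedBlock.unique j₁ hi₁,
        ← CfsgLib.Blocks.IsInducedBlock.unique j₂ hi₂]
      exact CfsgLib.Blocks.mem_blockOf_self χ₂
    have h' : ψ₂ ∈ B₁ := by
      rw [CfsgLib.Blocks.IsPBlock.eq_blockOf hB₁ hψ₁]
      exact CfsgLib.Blocks.sameBlock_of_indFun N T hNT hb hT' h₁ h₂ e₁ e₂ h
    rw [CfsgLib.Blocks.IsPBlock.eq_blockOf hB₁ h', CfsgLib.Blocks.IsPBlock.eq_blockOf hB₂ hψ₂]
  · rintro B hB ⟨χ, hχ, hc⟩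
    obtain ⟨ψ, hψ, e⟩ := CfsgLib.Blocks.exists_overSet_of_covers N T hNT hb hT' hc
    refine ⟨_, CfsgLib.Blocks.isPBlock_blockOf (M := M) ψ,
      ⟨ψ, CfsgLib.Blocks.mem_blockOf_self ψ, hψ⟩, ?_⟩
    rw [CfsgLib.Blocks.IsPBlock.eq_blockOf hB hχ]
    exact CfsgLib.Blocks.isInducedBlock_indFun (M := M) T e

end Cfsg.Agent.S4435
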