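import Cfsg.Statements.S4437
import Cfsg.Agent.Lib.Blocks.NormalDefectIff
import Cfsg.Agent.Lib.Blocks.EquivDefect

set_option autoImplicit false
set_option maxHeartbeats 1000000
set_option synthInstance.maxHeartbeats 400000
open Cfsg

namespace Cfsg.Agent.S4437

/-- Let P be a p-subgroup of the finite group G, H = P·C_G(P), and b a block of H (relative to a maximal ideal M of the algebraic integers containing p) having P as a defect group; let B be the block of G induced by b. Let T be the stabilizer of b in N_G(P): the elements g of N_G(P) such that the g-conjugate of every member of b is again a member of b. Then B has defect group P if and only if p does not divide the index of H in T. -/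
theorem result {G : Type*} [Group G] [Fintype G] (p : ℕ) [Fact p.Prime] (M : Ideal Cfsg.AlgInt) (hM : Cfsg.IsPModular p M) (P : Subgroup G) (hP : IsPGroup p P) (H : Subgroup G) [Fintype H] (hH : H = P ⊔ Subgroup.centralizer (P : Set G)) (b : Set (Cfsg.IrrCharacter H)) (hb : Cfsg.IsPBlock M b) (hbP : Cfsg.IsDefectGroup p M b (P.subgroupOf H)) (B : Set (Cfsg.IrrCharacter G)) (hind : Cfsg.IsInducedBlock M H b B) (T : Subgroup G) (hT : ∀ g : G, g ∈ T ↔ (g ∈ Subgroup.normalizer (P : Set G) ∧ ∀ θ ∈ b, ∀ θ' : Cfsg.IrrCharacter H, (∀ h h' : H, (h' : G) = g * h * g⁻¹ → (θ' : H → ℂ) h' = (θ : H → ℂ) h) → θ' ∈ b)) : Cfsg.IsDefectGroup p M B P ↔ ¬ p ∣ H.relIndex T := by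
  classical
  haveI := hM.2.1
  set N := Subgroup.normalizer (P : Set G) with hNdef
  set C := Subgroup.centralizer (P : Set G) with hCdef
  have hPN : P ≤ N := Subgroup.le_normalizer
  have hCN : C ≤ N := Subgroup.centralizer_le_normalizer _
  have hPH : P ≤ H := hH ▸ le_sup_left
  have hHN : H ≤ N := hH ▸ sup_le hPN hCN
  haveI hPn : (P.subgroupOf N).Normal := (Subgroup.normal_subgroupOf_iff hPN).2
    fun u n hu hn => (Subgroup.mem_normalizer_iff.1 hn u).1 hu
  have hPp' : IsPGroup p (P.subgroupOf N) :=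
    hP.of_equiv (Subgroup.subgroupOfEquivOfLe hPN).symm
  have hcent : C.subgroupOf N = Subgroup.centralizer (P.subgroupOf N : Set N) := by
    ext x
    simp only [Subgroup.mem_subgroupOf, hCdef, Subgroup.mem_centralizer_iff]
    exact ⟨fun h v hv => Subtype.ext (h (v : G) hv),
      fun h u hu => congrArg Subtype.val (h ⟨u, hPN hu⟩ hu)⟩
  have hL : H.subgroupOf N =
      P.subgroupOf N ⊔ Subgroup.centralizer (P.subgroupOf N : Set N) := by
    rw [← hcent, hH, Subgroup.subgroupOf_sup hPN hCN]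
  haveI : (Subgroup.centralizer (P.subgroupOf N : Set N)).Normal := Subgroup.normal_centralizer
  haveI : (H.subgroupOf N).Normal := hL ▸ Subgroup.sup_normal _ _
  let φ : H.subgroupOf N ≃* H := Subgroup.subgroupOfEquivOfLe hHN
  have hφ : ∀ k, ((φ k : H) : G) = ((k : N) : G) := fun k => rfl
  set b' := CfsgLib.Blocks.Pairs.pullSet φ b with hb'def
  have hb' : Cfsg.IsPBlock M b' := CfsgLib.Blocks.Pairs.isPBlock_pullSet φ hb
  have hD' : Cfsg.IsDefectGroup p M b' ((P.subgroupOf N).subgroupOf (H.subgroupOf N)) := by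
    have h := CfsgLib.Blocks.isDefectGroup_pullSet φ hbP
    have e : (P.subgroupOf H).comap φ.toMonoidHom =
        (P.subgroupOf N).subgroupOf (H.subgroupOf N) := by
      ext k
      simp only [Subgroup.mem_comap, Subgroup.mem_subgroupOf, MulEquiv.coe_toMonoidHom, hφ]
    rwa [e] at h
  obtain ⟨β, hβ⟩ := CfsgLib.Blocks.exists_isInducedBlock hM hPp'
    (H := H.subgroupOf N) (by rw [hL]; exact le_sup_left) (by rw [hL]; exact le_sup_right)
    (fun x _ => Subgroup.normalizer_eq_top (H := P.subgroupOf N) ▸ Subgroup.mem_top x) hb'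
  have hβB := CfsgLib.Blocks.isInducedBlock_trans N φ hφ hβ hind
  have hT' : ∀ g : N, g ∈ T.subgroupOf N ↔
      ∀ θ ∈ b', CfsgLib.Blocks.conjIrr (H.subgroupOf N) θ g ∈ b' := by
    intro g
    rw [Subgroup.mem_subgroupOf, ← inv_mem_iff, hT]
    constructor
    · rintro ⟨-, h⟩ _ ⟨θ, hθ, rfl⟩
      refine ⟨CfsgLib.Blocks.Pairs.pull φ.symm
        (CfsgLib.Blocks.conjIrr (H.subgroupOf N) (CfsgLib.Blocks.Pairs.pull φ θ) g),
        h θ hθ _ fun x x' hx => ?_, CfsgLib.Blocks.Pairs.pull_pull_symm _ _⟩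
      refine congrArg (θ : H → ℂ) (Subtype.ext ?_)
      show (g : G) * (x' : G) * (g : G)⁻¹ = (x : G)
      rw [hx]; group
    · intro h
      refine ⟨inv_mem g.2, fun θ hθ θ' hθ' => ?_⟩
      obtain ⟨η, hη, e⟩ := h (CfsgLib.Blocks.Pairs.pull φ θ) ⟨θ, hθ, rfl⟩
      suffices θ' = η by rwa [this]
      refine Subtype.ext (funext fun x' => ?_)
      have e' := congrFun (congrArg Subtype.val e) (φ.symm x')
      rw [CfsgLib.Blocks.Pairs.pull_apply, φ.apply_symm_apply] at e'
      rw [e', CfsgLib.Blocks.coe_conjIrr]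
      show (θ' : H → ℂ) x' = (θ : H → ℂ) (φ ⟨g * (φ.symm x' : N) * g⁻¹, _⟩)
      refine hθ' _ x' ?_
      rw [hφ]
      show (x' : G) = (g : G)⁻¹ * ((g : G) * (x' : G) * (g : G)⁻¹) * ((g : G)⁻¹)⁻¹
      group
  have key := CfsgLib.Blocks.isDefectGroup_iff_not_dvd_relIndex hM hPp' hL hD' hβ hT'
  have hTN : T ≤ N := fun g hg => ((hT g).1 hg).1
  rw [Subgroup.relIndex_subgroupOf hTN] at key
  rw [← key]
  constructor
  · exact fun h => CfsgLib.Blocks.isDefectGroup_of_induced hM hP hβB h
  · intro h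
    obtain ⟨B₁, -, hD₁, hind₁⟩ := CfsgLib.Blocks.firstMain_exists_induced hM hP hβ.2.1 h
    rwa [CfsgLib.Blocks.IsInducedBlock.unique hind₁ hβB] at hD₁

end Cfsg.Agent.S4437
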