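import Cfsg.Statements.S4440
import Cfsg.Agent.Lib.RegLift.Main
import Cfsg.Agent.Lib.RegLift.Idempotent
import Cfsg.Agent.Lib.Blocks.Osima
import Cfsg.Agent.Lib.Blocks.GroupTrace
import Cfsg.Agent.Lib.BlockReg.Foundation
import Mathlib.RingTheory.IntegralClosure.IsIntegral.Basic

set_option autoImplicit false
open Cfsg

namespace Cfsg.Agent.S4440

open CfsgLib CfsgLib.RegLift Polynomial
open scoped ComplexConjugate

universe u

variable {G : Type u} [Group G] [Fintype G] {M : Ideal AlgInt}

theorem inv_natCast_mem [M.IsMaximal] {p : ℕ} (hM : IsPModular p M) {n : ℕ} (hn : ¬ p ∣ n) :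
    ((n : ℂ))⁻¹ ∈ Blocks.locRing M := by
  refine Blocks.mem_locRing_iff.2 ⟨1, (n : AlgInt), fun h => ?_, by simp⟩
  obtain ⟨a, b, hab⟩ : IsCoprime (p : ℤ) (n : ℤ) :=
    Int.isCoprime_iff_nat_coprime.2 (by simpa using (hM.1.coprime_iff_not_dvd.2 hn))
  refine hM.2.1.ne_top ((Ideal.eq_top_iff_one M).2 ?_)
  have h1 : (1 : AlgInt) = (a : AlgInt) * (p : AlgInt) + (b : AlgInt) * (n : AlgInt) := by
    have := congrArg (Int.cast : ℤ → AlgInt) hab
    push_cast at this
    exact this.symm
  rw [h1]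
  exact M.add_mem (M.mul_mem_left _ hM.2.2) (M.mul_mem_left _ h)

open Classical in
theorem sum_blockCoeff_mul (U : Set (IrrCharacter G)) (χ : IrrCharacter G) (h : G) :
    ∑ g, blockCoeff U g * (χ : G → ℂ) (g * h) = if χ ∈ U then (χ : G → ℂ) h else 0 := by
  have hG : (Nat.card G : ℂ) ≠ 0 := Nat.cast_ne_zero.2 Nat.card_pos.ne'
  have h1 : ∀ g, blockCoeff U g * (χ : G → ℂ) (g * h) = ∑ ψ ∈ U.toFinset,
      (Nat.card G : ℂ)⁻¹ * (ψ : G → ℂ) 1 * ((ψ : G → ℂ) g⁻¹ * (χ : G → ℂ) (g * h)) := by
    intro g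
    rw [blockCoeff, finsum_mem_eq_toFinset_sum, Finset.mul_sum, Finset.sum_mul]
    refine Finset.sum_congr rfl fun ψ _ => ?_
    rw [Char.IsIrrCharacter.apply_inv ψ.2]
    ring
  rw [Finset.sum_congr rfl fun g _ => h1 g, Finset.sum_comm]
  simp only [← Finset.mul_sum, sum_inv_mul_irr (Subtype.prop _) χ.2, ← Subtype.ext_iff,
    mul_ite, mul_zero]
  rw [Finset.sum_ite_eq']
  simp only [Set.mem_toFinset]
  refine if_congr Iff.rfl ?_ rfl
  have := Char.IsIrrCharacter.apply_one_ne_zero χ.2
  field_simp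

theorem eq_zero_of_trace_zero {V : Type*} [AddCommGroup V] [Module ℂ V] [FiniteDimensional ℂ V]
    {T : Module.End ℂ V} (hT : T * T = T) (h : LinearMap.trace ℂ V T = 0) : T = 0 := by
  have hP : LinearMap.IsProj (LinearMap.range T) T :=
    ⟨fun x => LinearMap.mem_range_self T x, by
      rintro _ ⟨y, rfl⟩
      exact DFunLike.congr_fun hT y⟩
  rw [hP.trace, Nat.cast_eq_zero, Submodule.finrank_eq_zero, LinearMap.range_eq_bot] at h
  exact h

theorem union_of_blocks (p : ℕ) [hp : Fact p.Prime] (hM : IsPModular p M)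
    (hsolv : IsPSolvable p G) (U : Set (IrrCharacter G))
    (hU : ∀ x : G, p ∣ orderOf x → ∑ᶠ χ ∈ U, (χ : G → ℂ) 1 * (χ : G → ℂ) x = 0)
    (χ : IrrCharacter G) (hχ : χ ∈ U) : blockOf M (χ : G → ℂ) ⊆ U := by
  classical
  haveI : M.IsMaximal := hM.2.1
  set R := Blocks.locRing M
  have hint : ∀ z : ℂ, IsIntegral ℤ z → z ∈ R := fun z hz => Blocks.isIntegral_mem_locRing hz
  obtain ⟨ι, hι, l, hl⟩ := exists_lift hint (p := p) (fun n hn => inv_natCast_mem hM hn) hsolv
    (⊤ : Subgroup G) ⊥ _ (good_bot (R := R) p)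
  -- the characters of the family, decomposed
  have hlchar : ∀ i, IsCharacter G (l i) := fun i =>
    Char.IsCharacter.comp (hl.char i) (Subgroup.topEquiv (G := G)).symm.toMonoidHom
  choose c hc using fun i => Char.IsCharacter.exists_nat_combination (hlchar i)
  let Z : ι → G → ℂ := fun i h =>
    ∑ ξ : IrrCharacter G, (c i ξ : ℂ) * if ξ ∈ U then (ξ : G → ℂ) h else 0
  have hZ : ∀ i h, ∑ g, blockCoeff U g * l i (g * h) = Z i h := by
    intro i h
    simp only [Z, ← sum_blockCoeff_mul U, Finset.mul_sum]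
    rw [Finset.sum_comm]
    refine Finset.sum_congr rfl fun g _ => ?_
    conv_lhs => rw [hc i]
    simp only [Finset.sum_apply, Pi.smul_apply, smul_eq_mul, Finset.mul_sum]
    exact Finset.sum_congr rfl fun ξ _ => by ring
  obtain ⟨y, hyR, -, hy⟩ := hl.full (fun _ => blockCoeff U) fun i h _ => by
    rw [hZ]
    refine R.sum_mem fun ξ _ => R.mul_mem (natCast_mem R _) ?_
    split_ifs
    · obtain ⟨n, ρ, -, hρ⟩ := ξ.2
      exact hint _ (hρ ▸ Char.isIntegral_character ρ h)
    · exact R.zero_mem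
  have hy' : ∀ i h, ∑ g, y g * l i (g * h) = Z i h := fun i h =>
    (hy i h (Subgroup.mem_top h)).trans (hZ i h)
  have hcyc : ∀ i a b, l i (a * b) = l i (b * a) := fun i a b =>
    (hl.cls i).mul_comm' (Subgroup.mem_top a) b
  have hZy : ∀ i h, ∑ g, y g * Z i (g * h) = Z i h := by
    intro i h
    calc ∑ g, y g * Z i (g * h) = ∑ u, blockCoeff U u * ∑ g, y g * l i (g * (h * u)) := by
          simp only [← hZ, Finset.mul_sum]
          rw [Finset.sum_comm]
          refine Finset.sum_congr rfl fun u _ => Finset.sum_congr rfl fun g _ => ?_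
          rw [hcyc i u, mul_assoc g]
          ring
      _ = ∑ ξ : IrrCharacter G, (c i ξ : ℂ) *
            if ξ ∈ U then ∑ u, blockCoeff U u * (ξ : G → ℂ) (u * h) else 0 := by
          simp only [hy', Z, Finset.mul_sum]
          rw [Finset.sum_comm]
          refine Finset.sum_congr rfl fun ξ _ => ?_
          split_ifs with hξ
          · rw [Finset.mul_sum]
            exact Finset.sum_congr rfl fun u _ => by
              rw [Char.IsClassFunction.mul_comm' (Char.IsIrrCharacter.isClassFunction ξ.2) u h]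
              ring
          · simp
      _ = Z i h := by
          refine Finset.sum_congr rfl fun ξ _ => ?_
          by_cases hξ : ξ ∈ U
          · rw [if_pos hξ, if_pos hξ, sum_blockCoeff_mul, if_pos hξ]
          · rw [if_neg hξ, if_neg hξ]
  -- evaluation of class functions on the integral group algebra
  let a : MonoidAlgebra R G := Blocks.ofFun fun g => ⟨y g, hyR g⟩
  let ev : (G → ℂ) → MonoidAlgebra R G → ℂ := fun f w => ∑ h, ((w.coeff h : R) : ℂ) * f h
  have hev : ∀ f w, ev f (a * w) = ev (fun h => ∑ g, y g * f (g * h)) w := by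
    intro f w
    simp only [ev, Blocks.coeff_mul_group, AddSubmonoidClass.coe_finsetSum,
      Subring.coe_mul, Finset.sum_mul, Finset.mul_sum]
    rw [Finset.sum_comm]
    conv_rhs => rw [Finset.sum_comm]
    refine Finset.sum_congr rfl fun g _ => ?_
    refine Fintype.sum_equiv (Equiv.mulLeft g⁻¹) _ _ fun h => ?_
    simp only [Equiv.coe_mulLeft, mul_inv_cancel_left, a, Blocks.coeff_ofFun]
    ring
  have hone : ∀ f, ev f (1 : MonoidAlgebra R G) = f 1 := by
    intro f
    rw [MonoidAlgebra.one_def]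
    simp only [ev]
    rw [Finset.sum_eq_single 1]
    · simp
    · intro h _ hh
      simp [Finsupp.single_eq_of_ne hh]
    · simp
  have hpow : ∀ i n, ev (Z i) (a ^ n) = Z i 1 := by
    intro i n
    induction n with
    | zero => rw [pow_zero, hone]
    | succ n ih =>
      rw [pow_succ', hev, show (fun h => ∑ g, y g * Z i (g * h)) = Z i from funext (hZy i), ih]
  have hpowl : ∀ i n, ev (l i) (a ^ (n + 1)) = Z i 1 := by
    intro i n
    rw [pow_succ', hev, show (fun h => ∑ g, y g * l i (g * h)) = Z i from funext (hy' i), hpow]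
  obtain ⟨Q, hQ0, hQ1, hQe⟩ := exists_idempotent_poly (IsIntegral.of_finite R a)
  set e := aeval a Q with he
  have hel : ∀ i, ev (l i) e = Z i 1 := by
    intro i
    have hsum : ev (l i) e = ∑ n ∈ Finset.range (Q.natDegree + 1),
        ((Q.coeff n : R) : ℂ) * ev (l i) (a ^ n) := by
      simp only [ev, he, aeval_eq_sum_range, MonoidAlgebra.coeff_sum, Finsupp.finsetSum_apply,
        MonoidAlgebra.coeff_smul, Finsupp.smul_apply, smul_eq_mul, AddSubmonoidClass.coe_finsetSum,
        Subring.coe_mul, Finset.sum_mul, Finset.mul_sum]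
      rw [Finset.sum_comm]
      exact Finset.sum_congr rfl fun n _ => Finset.sum_congr rfl fun h _ => by ring
    have h1 : (∑ n ∈ Finset.range (Q.natDegree + 1), ((Q.coeff n : R) : ℂ)) = 1 := by
      have h := congrArg (Subtype.val : R → ℂ) hQ1
      rw [eval_eq_sum_range] at h
      simpa [AddSubmonoidClass.coe_finsetSum] using h
    have h0 : ((Q.coeff 0 : R) : ℂ) = 0 := by
      rw [coeff_zero_eq_eval_zero, hQ0]; rfl
    calc ev (l i) e = ∑ n ∈ Finset.range (Q.natDegree + 1), ((Q.coeff n : R) : ℂ) * Z i 1 := by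
          rw [hsum]
          refine Finset.sum_congr rfl fun n _ => ?_
          rcases n with _ | n
          · rw [h0, zero_mul, zero_mul]
          · rw [hpowl]
      _ = Z i 1 := by rw [← Finset.sum_mul, h1, one_mul]
  -- class sums of the idempotent on singular classes vanish
  have hkey : ∀ x : G, p ∣ orderOf x → ∑ t, ((e.coeff (t⁻¹ * x * t) : R) : ℂ) = 0 := by
    intro x hx
    obtain ⟨η₀, hη₀⟩ : ∃ η₀ : ℂ, IsPrimitiveRoot η₀ p :=
      ⟨_, Complex.isPrimitiveRoot_exp p hp.out.ne_zero⟩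
    let η : R := ⟨η₀, BlockReg.memRing_of_pow_eq_one hM hp.out.pos hη₀.pow_eq_one⟩
    have hη : η ^ p = 1 := Subtype.ext (by simpa [η] using hη₀.pow_eq_one)
    have hη1 : η ≠ 1 := fun h => hη₀.ne_one hp.out.one_lt (congrArg Subtype.val h)
    have hηf : Blocks.red M η = 1 :=
      Blocks.red_eq_one_of_pow_prime_pow (k := 1) hp.out hM.2.2 (by rw [pow_one]; exact hη)
    have key := Blocks.sum_conj_coeff_eq_zero (Blocks.red M)
      (fun r => Blocks.isUnit_of_red_ne_zero) hp.out hη hη1 hηf (fun g => e.coeff g)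
      (fun g => by rw [← Blocks.coeff_mul_group, hQe.eq]) 1 x⁻¹ (fun g => by simp)
      (fun z w hz hw hzw => by
        exfalso
        have hz1 : z = 1 := Blocks.IsPPart.unique hp.out hz
          (Blocks.isPPart_one_of_regular (by simpa using hp.out.not_dvd_one))
        rw [hz1, inv_one] at hzw
        obtain ⟨d, hd⟩ := isConj_iff.1 hzw
        have hw1 : w = 1 := by
          have h := congrArg (fun v => d⁻¹ * v * d) hd
          simpa [mul_assoc] using h
        have h := (Blocks.not_dvd_orderOf_iff hp.out hw).2 hw1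
        rw [orderOf_inv] at h
        exact h hx)
    have h := congrArg Subtype.val key
    simp only [inv_one, one_mul, inv_inv, AddSubmonoidClass.coe_finsetSum, ZeroMemClass.coe_zero] at h
    exact h
  have hG : (Nat.card G : ℂ) ≠ 0 := Nat.cast_ne_zero.2 Nat.card_pos.ne'
  -- the difference with the idempotent of `U` is detected to be zero
  let avg : G → ℂ := fun x => (Nat.card G : ℂ)⁻¹ * ∑ t, ((e.coeff (t⁻¹ * x * t) : R) : ℂ)
  have havgc : ∀ h x, avg (h * x * h⁻¹) = avg x := by
    intro h x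
    simp only [avg]
    congr 1
    refine Fintype.sum_equiv (Equiv.mulLeft h⁻¹) _ _ fun t => ?_
    simp only [Equiv.coe_mulLeft, mul_inv_rev, inv_inv, mul_assoc]
  have havgsum : ∀ f : G → ℂ, (∀ h x, f (h * x * h⁻¹) = f x) →
      ∑ x, avg x * f x = ev f e := by
    intro f hf
    simp only [avg, ev, Finset.mul_sum, Finset.sum_mul]
    rw [Finset.sum_comm]
    have hterm : ∀ t : G, ∑ x, (Nat.card G : ℂ)⁻¹ * ((e.coeff (t⁻¹ * x * t) : R) : ℂ) * f x =
        (Nat.card G : ℂ)⁻¹ * ∑ x, ((e.coeff x : R) : ℂ) * f x := by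
      intro t
      rw [Finset.mul_sum]
      refine Fintype.sum_equiv (MulAut.conj t⁻¹).toEquiv _ _ fun x => ?_
      simp only [MulEquiv.toEquiv_eq_coe, EquivLike.coe_coe, MulAut.conj_apply, inv_inv]
      rw [show f (t⁻¹ * x * t) = f x by simpa using hf t⁻¹ x]
      ring
    rw [Finset.sum_congr rfl fun t _ => hterm t, Finset.sum_const, Finset.card_univ, nsmul_eq_mul,
      ← Nat.card_eq_fintype_card, ← mul_assoc, mul_inv_cancel₀ hG, one_mul]
  let D : G → ℂ := fun x => avg x⁻¹ - blockCoeff U x⁻¹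
  have hbc := BlockReg.blockCoeff_conj_invariant U
  have hD : D = 0 := by
    refine hl.detect D ⟨fun x hx => absurd (Subgroup.mem_top x) hx, fun h _ x => ?_⟩ (fun x => ?_)
      (fun x hx => ?_) fun i => ?_
    · simp only [D, mul_inv_rev, inv_inv]
      rw [← mul_assoc, havgc, hbc]
    · rw [proj_eq_univ ⊥ (fun y hy => if_neg fun h => hy (Subgroup.mem_bot.2 h))]
      rw [Finset.sum_eq_single 1]
      · simp
      · intro b _ hb
        simp [hb]
      · simp
    · refine ⟨orderOf x, orderOf_pos x, fun hd => hx ?_, by simp [pow_orderOf_eq_one]⟩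
      have hd' : p ∣ orderOf x⁻¹ := by rwa [orderOf_inv]
      have h0 : blockCoeff U x⁻¹ = 0 := by
        rw [blockCoeff, finsum_mem_eq_toFinset_sum]
        have h := congrArg conj (hU x⁻¹ hd')
        rw [map_zero, finsum_mem_eq_toFinset_sum, map_sum] at h
        refine mul_eq_zero_of_right _ (Eq.trans ?_ h)
        refine Finset.sum_congr rfl fun ξ _ => ?_
        rw [map_mul]
        congr 1
        rw [← Char.IsIrrCharacter.apply_inv ξ.2, inv_one]
      simp only [D, avg, hkey x⁻¹ hd', mul_zero, h0, sub_zero]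
    · calc ∑ x, D x * l i x⁻¹ = ∑ x, (avg x - blockCoeff U x) * l i x :=
            Fintype.sum_equiv (Equiv.inv G) _ _ fun x => rfl
        _ = 0 := by
            simp only [sub_mul, Finset.sum_sub_distrib]
            rw [havgsum _ fun h x => (hl.cls i).2 h (Subgroup.mem_top h) x, hel, ← hZ i 1]
            simp
  have hchar : ∀ ξ : IrrCharacter G, ev (ξ : G → ℂ) e =
      if ξ ∈ U then (ξ : G → ℂ) 1 else 0 := by
    intro ξ
    rw [← havgsum _ fun h x => Char.IsIrrCharacter.isClassFunction ξ.2 x h,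
      ← sum_blockCoeff_mul U ξ 1]
    refine Finset.sum_congr rfl fun x _ => ?_
    have h := congrFun hD x⁻¹
    simp only [D, inv_inv, Pi.zero_apply, sub_eq_zero] at h
    rw [h, mul_one]
  have hrep : ∀ (ξ : IrrCharacter G) (h : G),
      ∑ g, ((e.coeff g : R) : ℂ) * (ξ : G → ℂ) (g * h) = if ξ ∈ U then (ξ : G → ℂ) h else 0 := by
    intro ξ h
    obtain ⟨n, ρ, hρ, hρc⟩ := ξ.2
    set T : Module.End ℂ (Fin n → ℂ) := ∑ g, ((e.coeff g : R) : ℂ) • ρ g with hT
    have hTT : T * T = T := by
      simp only [hT, Finset.sum_mul, Finset.mul_sum, smul_mul_smul_comm, ← map_mul]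
      conv_rhs => rw [← hQe.eq]
      simp only [Blocks.coeff_mul_group, AddSubmonoidClass.coe_finsetSum, Subring.coe_mul,
        Finset.sum_smul]
      rw [Finset.sum_comm]
      conv_rhs => rw [Finset.sum_comm]
      refine Finset.sum_congr rfl fun g _ => ?_
      refine Fintype.sum_equiv (Equiv.mulLeft g) _ _ fun u => ?_
      simp only [Equiv.coe_mulLeft, inv_mul_cancel_left]
    have htr : ∀ S : Module.End ℂ (Fin n → ℂ), LinearMap.trace ℂ _ (T * S) =
        ∑ g, ((e.coeff g : R) : ℂ) * LinearMap.trace ℂ _ (ρ g * S) := by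
      intro S
      simp only [hT, Finset.sum_mul, smul_mul_assoc, map_sum, map_smul, smul_eq_mul]
    have hval : ∀ u, LinearMap.trace ℂ (Fin n → ℂ) (ρ u) = (ξ : G → ℂ) u := fun u => congrFun hρc u
    have hT1 : LinearMap.trace ℂ _ T = if ξ ∈ U then (ξ : G → ℂ) 1 else 0 := by
      rw [← mul_one T, htr, ← hchar]
      simp only [mul_one, hval, ev]
    have hres : LinearMap.trace ℂ _ (T * ρ h) = if ξ ∈ U then (ξ : G → ℂ) h else 0 := by
      by_cases hξ : ξ ∈ U
      · rw [if_pos hξ] at hT1 ⊢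
        have h1 : (1 : Module.End ℂ (Fin n → ℂ)) - T = 0 := by
          refine eq_zero_of_trace_zero ?_ ?_
          · simp only [sub_mul, mul_sub, one_mul, mul_one, hTT, sub_self, sub_zero]
          · rw [map_sub, hT1, LinearMap.trace_one, ← hρc, ρ.char_one, sub_self]
        rw [← sub_eq_zero.1 h1, one_mul, hval]
      · rw [if_neg hξ] at hT1 ⊢
        rw [eq_zero_of_trace_zero hTT hT1, zero_mul, map_zero]
    rw [← hres, htr]
    exact Finset.sum_congr rfl fun g _ => by rw [← map_mul, hval]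
  have heq : ∀ k : G, ((e.coeff k : R) : ℂ) = blockCoeff U k := by
    intro k
    have hsum : ∀ f : G → ℂ, ∑ ξ : IrrCharacter G, (ξ : G → ℂ) 1 * ∑ g, f g * (ξ : G → ℂ) (g * k⁻¹)
        = (Nat.card G : ℂ) * f k := by
      intro f
      simp only [Finset.mul_sum]
      rw [Finset.sum_comm]
      have : ∀ g, ∑ ξ : IrrCharacter G, (ξ : G → ℂ) 1 * (f g * (ξ : G → ℂ) (g * k⁻¹)) =
          f g * if g * k⁻¹ = 1 then (Nat.card G : ℂ) else 0 := fun g => by
        rw [← Char.sum_apply_one_mul (g * k⁻¹), Finset.mul_sum]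
        exact Finset.sum_congr rfl fun ξ _ => by ring
      simp only [this, mul_inv_eq_one, mul_ite, mul_zero]
      rw [Finset.sum_ite_eq', if_pos (Finset.mem_univ _)]
      ring
    refine mul_left_cancel₀ hG ?_
    rw [← hsum (fun g => ((e.coeff g : R) : ℂ)), ← hsum (blockCoeff U)]
    refine Finset.sum_congr rfl fun ξ _ => ?_
    rw [hrep, sum_blockCoeff_mul]
  exact Blocks.blockOf_subset_of_memLocalRing (fun g => (heq g) ▸ (e.coeff g).2) hχ

/-- Let G be a finite p-solvable group and fix a maximal ideal M of the algebraic integers containing p. Let U be a set of irreducible characters of G such that the class function Σ_{χ ∈ U} χ(1)·χ vanishes at every p-singular element of G. Then U is a union of p-blocks: if χ ∈ U and ψ lies in the same block as χ, then ψ ∈ U. -/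
theorem result {G : Type*} [Group G] [Finite G] (p : ℕ) [Fact p.Prime] (M : Ideal Cfsg.AlgInt) (hM : Cfsg.IsPModular p M) (hsolv : Cfsg.IsPSolvable p G) (U : Set (Cfsg.IrrCharacter G)) (hU : ∀ x : G, p ∣ orderOf x → ∑ᶠ χ ∈ U, (χ : G → ℂ) 1 * (χ : G → ℂ) x = 0) (χ : Cfsg.IrrCharacter G) (hχ : χ ∈ U) (ψ : Cfsg.IrrCharacter G) (hψ : Cfsg.SameBlock M (χ : G → ℂ) (ψ : G → ℂ)) : ψ ∈ U := by
  cases nonempty_fintype G
  exact union_of_blocks p hM hsolv U hU χ hχ hψ

end Cfsg.Agent.S4440
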