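import Cfsg.Statements.S4441
import Cfsg.Agent.Lib.DefectOne.Principal

set_option autoImplicit false
open Cfsg CfsgLib CfsgLib.DefectOne

namespace Cfsg.Agent.S4441

open scoped Classical

theorem result_finite {G : Type*} [Group G] [Finite G] (p : ℕ) [Fact p.Prime] (M : Ideal Cfsg.AlgInt) (hM : Cfsg.IsPModular p M) (hodd : p ≠ 2) (P : Sylow p G) (hP : Nat.card P = p) (e : ℕ) (he : (Subgroup.centralizer ((P : Subgroup G) : Set G)).relIndex (Subgroup.normalizer ((P : Subgroup G) : Set G)) = e) : ∃ X Y : Set (Cfsg.IrrCharacter G), Cfsg.principalBlock M G = X ∪ Y ∧ Disjoint X Y ∧ Nat.card X = e ∧ Nat.card Y = (p - 1) / e ∧ ∃ (εX : Cfsg.IrrCharacter G → ℤ) (ε : ℤ), (∀ χ ∈ X, (εX χ = 1 ∨ εX χ = -1) ∧ (Cfsg.charDegree (χ : G → ℂ) : ℤ) ≡ εX χ [ZMOD p] ∧ ∀ x : G, x ∈ (P : Subgroup G) → x ≠ 1 → ∀ y : G, y ∈ Subgroup.centralizer ((P : Subgroup G) : Set G) → ¬ p ∣ orderOf y → (χ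 : G → ℂ) (x * y) = (εX χ : ℂ)) ∧ (ε = 1 ∨ ε = -1) ∧ (∀ θ ∈ Y, (Cfsg.charDegree (θ : G → ℂ) : ℤ) ≡ ε * (e : ℤ) [ZMOD p]) ∧ (∀ θ ∈ Y, ∀ θ' ∈ Y, ∀ g : G, ¬ p ∣ orderOf g → (θ : G → ℂ) g = (θ' : G → ℂ) g) ∧ ∀ θ ∈ Y, ∀ g : G, ¬ p ∣ orderOf g → (ε : ℂ) * (θ : G → ℂ) g = ∑ᶠ χ ∈ X, (εX χ : ℂ) * (χ : G → ℂ) g := by
  obtain ⟨x, h, hPx, hC⟩ := exists_hypOne_of_sylow P hP
  rw [hC, hPx] at he
  obtain ⟨Y, δ, m, sh⟩ := h.exists_shape CfsgLib.Char.principalIrr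
  refine ⟨↑(h.bset CfsgLib.Char.principalIrr \ Y), ↑Y, ?_, ?_, ?_, ?_,
    fun χ => -m χ, δ, ?_, sh.δ_sign, ?_, ?_, ?_⟩
  · rw [h.principalBlock_eq hM, ← Finset.coe_union, Finset.sdiff_union_of_subset sh.subset]
  · rw [Finset.disjoint_coe]
    exact Finset.sdiff_disjoint
  · rw [Nat.card_coe_set_eq, Set.ncard_coe_finset, sh.card_X, h.card_expGroup_principal, he]
  · rw [Nat.card_coe_set_eq, Set.ncard_coe_finset, sh.card_Y, h.index_expGroup_eq,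
      h.card_expGroup_principal, he]
  · intro χ hχ
    rw [Finset.mem_coe] at hχ
    refine ⟨?_, HypOne.Shape.principal_degree_X h sh hχ, fun y hyP hy1 z hzC hzr => ?_⟩
    · rcases sh.m_sign χ hχ with e1 | e1 <;> simp [e1]
    · rw [hPx] at hyP
      obtain ⟨i, hi, rfl⟩ := h.mem_zpowers_iff_pow.1 hyP
      have hid : ¬ p ∣ i := fun hd => hy1 (h.pow_eq_one_iff.2 hd)
      rw [hC] at hzC
      rw [show z = ((⟨z, h.mem_regPart_iff.2 ⟨hzC, hzr⟩⟩ : regPart p x) : G) from rfl,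
        HypOne.Shape.principal_singular h sh hχ hid, Int.cast_neg]
  · intro θ hθ
    have h1 := HypOne.Shape.principal_degree_Y h sh hθ
    rwa [he] at h1
  · exact fun θ hθ θ' hθ' g hg => HypOne.Shape.eq_on_regular h sh hθ hθ' hg
  · intro θ hθ g hg
    have h1 := HypOne.Shape.relation h sh hθ hg
    rw [finsum_mem_coe_finset]
    simp only [Int.cast_neg, neg_mul, Finset.sum_neg_distrib]
    linear_combination h1

/-- Let p be an odd prime and G a finite group whose Sylow p-subgroup P has order p; let C = C_G(P), N = N_G(P), e the index of C in N and t = (p − 1)/e; fix a maximal ideal M of the algebraic integers containing p and let B₀ be the principal block. Then B₀ is the disjoint union of a set X of e characters and a set Y of t characters such that: each χ ∈ X has a sign ε_χ with χ(1) ≡ ε_χ (mod p) and χ(x y) = ε_χ for every non-identity x ∈ P and every p-regular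 y ∈ C; all members of Y agree on the p-regular elements of G; there is one sign ε with θ(1) ≡ ε e (mod p) for every θ ∈ Y; and for every θ ∈ Y and every p-regular g, ε θ(g) = Σ_{χ ∈ X} ε_χ χ(g). -/
theorem result {G : Type*} [Group G] [Fintype G] (p : ℕ) [Fact p.Prime] (M : Ideal Cfsg.AlgInt) (hM : Cfsg.IsPModular p M) (hodd : p ≠ 2) (P : Sylow p G) (hP : Nat.card P = p) (e : ℕ) (he : (Subgroup.centralizer ((P : Subgroup G) : Set G)).relIndex (Subgroup.normalizer ((P : Subgroup G) : Set G)) = e) : ∃ X Y : Set (Cfsg.IrrCharacter G), Cfsg.principalBlock M G = X ∪ Y ∧ Disjoint X Y ∧ Nat.card X = e ∧ Nat.card Y = (p - 1) / e ∧ ∃ (εX : Cfsg.IrrCharacter G → ℤ) (ε : ℤ), (∀ χ ∈ X, (εX χ = 1 ∨ εX χ = -1) ∧ (Cfsg.charDegree (χ : G → ℂ) : ℤ) ≡ εX χ [ZMOD p] ∧ ∀ x : G, x ∈ (P : Subgroup G) → x ≠ 1 → ∀ y : G, y ∈ Subgroup.centralizer ((P : Subgroup G) : Set G) → ¬ p ∣ orderOf y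 → (χ : G → ℂ) (x * y) = (εX χ : ℂ)) ∧ (ε = 1 ∨ ε = -1) ∧ (∀ θ ∈ Y, (Cfsg.charDegree (θ : G → ℂ) : ℤ) ≡ ε * (e : ℤ) [ZMOD p]) ∧ (∀ θ ∈ Y, ∀ θ' ∈ Y, ∀ g : G, ¬ p ∣ orderOf g → (θ : G → ℂ) g = (θ' : G → ℂ) g) ∧ ∀ θ ∈ Y, ∀ g : G, ¬ p ∣ orderOf g → (ε : ℂ) * (θ : G → ℂ) g = ∑ᶠ χ ∈ X, (εX χ : ℂ) * (χ : G → ℂ) g :=
  result_finite p M hM hodd P hP e he

end Cfsg.Agent.S4441
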