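import Cfsg.Statements.S4442
import Cfsg.Agent.Lib.DefectOne.Local

set_option autoImplicit false
open Cfsg CfsgLib CfsgLib.DefectOne

namespace Cfsg.Agent.S4442

/-- Blocks of defect one. Let p be an odd prime and G a finite group whose Sylow p-subgroup P has order p; let C = C_G(P) and N = N_G(P), and fix a maximal ideal M of the algebraic integers containing p. Let B be a block of G with defect group P, b a block of C inducing B, and θ the member of b having P in its kernel (there is exactly one). Let T be the stabilizer of θ in N (the elements g ∈ N with θ(g c g⁻¹) = θ(c) for all c ∈ C) and e the index of C in T. Then e divides p − 1 and B contains exactly e + (p − 1)/e irreducible characters. Moreover B is the disjoint union of a set X of e characters and a set Y of (p − 1)/e characters such that, with f the index of C in N: every χ ∈ X has χ(1) ≡ ±(f/e)·θ(1) (mod p), there is one sign ε with ψ(1) ≡ ε f θ(1) (mod p) for all ψ ∈ Y, and all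 members of Y agree on the p-regular elements of G. -/
theorem result {G : Type*} [Group G] [Finite G] (p : ℕ) [Fact p.Prime] (M : Ideal Cfsg.AlgInt) (hM : Cfsg.IsPModular p M) (hodd : p ≠ 2) (P : Sylow p G) (hP : Nat.card P = p) (B : Set (Cfsg.IrrCharacter G)) (hB : Cfsg.IsPBlock M B) (hBP : Cfsg.IsDefectGroup p M B P) (b : Set (Cfsg.IrrCharacter (Subgroup.centralizer ((P : Subgroup G) : Set G)))) (hind : Cfsg.IsInducedBlock M (Subgroup.centralizer ((P : Subgroup G) : Set G)) b B) (θ : Cfsg.IrrCharacter (Subgroup.centralizer ((P : Subgroup G) : Set G))) (hθ : θ ∈ b) (hθP : ∀ x : Subgroup.centralizer ((P : Subgroup G) : Set G), (x : G) ∈ (P : Subgroup G) → (θ : Subgroup.centralizer ((P : Subgroup G) : Set G) → ℂ) x = (θ : Subgroup.centralizer ((P : Subgroup G) : Set G) → ℂ) 1) (T : Subgroup G) (hT : ∀ g : G, g ∈ T ↔ (g ∈ Subgroup.normalizer ((P : Subgroup G) : Set G) ∧ ∀ c c' : Subgroup.centralizer ((P : Subgroup G) : Set G), (c' : G) = g * c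 * g⁻¹ → (θ : Subgroup.centralizer ((P : Subgroup G) : Set G) → ℂ) c' = (θ : Subgroup.centralizer ((P : Subgroup G) : Set G) → ℂ) c)) (e f : ℕ) (he : (Subgroup.centralizer ((P : Subgroup G) : Set G)).relIndex T = e) (hf : (Subgroup.centralizer ((P : Subgroup G) : Set G)).relIndex (Subgroup.normalizer ((P : Subgroup G) : Set G)) = f) : e ∣ p - 1 ∧ Nat.card B = e + (p - 1) / e ∧ ∃ X Y : Set (Cfsg.IrrCharacter G), B = X ∪ Y ∧ Disjoint X Y ∧ Nat.card X = e ∧ Nat.card Y = (p - 1) / e ∧ (∀ χ ∈ X, (Cfsg.charDegree (χ : G → ℂ) : ℤ) ≡ ((f / e * Cfsg.charDegree (θ : Subgroup.centralizer ((P : Subgroup G) : Set G) → ℂ) : ℕ) : ℤ) [ZMOD p] ∨ (Cfsg.charDegree (χ : G → ℂ) : ℤ) ≡ -((f / e * Cfsg.charDegree (θ : Subgroup.centralizer ((P : Subgroup G) : Set G) → ℂ) : ℕ) : ℤ) [ZMOD p]) ∧ (∃ ε : ℤ, (ε = 1 ∨ ε = -1) ∧ ∀ ψ ∈ Y, (Cfsg.charDegree (ψ : G → ℂ) : ℤ) ≡ ε * ((f * Cfsg.charDegree (θ : Subgroup.centralizer ((P : Subgroup G) : Set G) → ℂ) : ℕ) : ℤ) [ZMOD p])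 ∧ ∀ ψ ∈ Y, ∀ ψ' ∈ Y, ∀ g : G, ¬ p ∣ orderOf g → (ψ : G → ℂ) g = (ψ' : G → ℂ) g := by
  obtain ⟨x, h, hPx, hC⟩ := exists_hypOne_of_sylow P hP
  classical
  obtain ⟨φ, hBset, hdeg, hstab⟩ := h.exists_bset_of_induced hC hM hind hθ
    fun c hc => hθP c (hPx.ge hc)
  have hTeq : T = stab h φ := by
    ext g
    rw [hT g]
    constructor
    · rintro ⟨hg, hall⟩
      rw [hPx] at hg
      exact (hstab g hg).2 hall
    · intro hg
      refine ⟨by rw [hPx]; exact hg.1, (hstab g hg.1).1 hg⟩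
  rw [hC, hTeq, ← h.card_expGroup] at he
  rw [hC, hPx] at hf
  obtain ⟨Y, δ, m, sh⟩ := h.exists_shape φ
  subst he hf hBset
  rw [h.relIndex_div φ, hdeg]
  refine ⟨h.card_expGroup_dvd φ, ?_, ↑(h.bset φ \ Y), ↑Y, ?_, ?_, ?_, ?_, ?_,
    ⟨δ, sh.δ_sign, fun ψ hψ => HypOne.Shape.degree_Y h sh hψ⟩,
    fun ψ hψ ψ' hψ' g hg => HypOne.Shape.eq_on_regular h sh hψ hψ' hg⟩
  · rw [Nat.card_coe_set_eq, Set.ncard_coe_finset, HypOne.Shape.card_bset h sh,
      h.index_expGroup_eq]
  · rw [← Finset.coe_union, Finset.sdiff_union_of_subset sh.subset]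
  · rw [Finset.disjoint_coe]
    exact Finset.sdiff_disjoint
  · rw [Nat.card_coe_set_eq, Set.ncard_coe_finset, sh.card_X]
  · rw [Nat.card_coe_set_eq, Set.ncard_coe_finset, sh.card_Y, h.index_expGroup_eq]
  · intro χ hχ
    have h1 := HypOne.Shape.degree_X h sh hχ
    rcases sh.m_sign χ hχ with e1 | e1 <;> rw [e1] at h1
    · exact Or.inr (by simpa using h1)
    · exact Or.inl (by simpa using h1)

end Cfsg.Agent.S4442
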