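import Cfsg.Statements.S4444
import Cfsg.Agent.Lib.Glauberman.Transfer

set_option autoImplicit false
open Cfsg

namespace Cfsg.Agent.S4444

open CfsgLib.Glauberman

/-- The Glauberman correspondence for a p-group of operators. Inside a finite group Γ let S normalise G with the orders of G and S coprime, S a p-group, and let C = G ⊓ C(S) be the fixed points. Call an irreducible character χ of G S-invariant when χ(s g s⁻¹) = χ(g) for s ∈ S, g ∈ G. Then: (i) for every S-invariant χ there is exactly one irreducible character β of C whose multiplicity [χ_C, β] in the restriction of χ is not divisible by p; (ii) that multiplicity is ≡ 1 or ≡ −1 (mod p); (iii) distinct S-invariant χ give distinct β; (iv) every irreducible character of C arises in this way. So χ ↦ β is a bijection from the S-invariant irreducible characters of G onto the irreducible characters of C. -/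
theorem result {Γ : Type*} [Group Γ] [Fintype Γ] (G S : Subgroup Γ) [Fintype G] (hnorm : ∀ s ∈ S, ∀ g ∈ G, s * g * s⁻¹ ∈ G) (hcop : (Nat.card G).Coprime (Nat.card S)) (p : ℕ) (hp : p.Prime) (hS : IsPGroup p S) (C : Subgroup Γ) [Fintype C] (hC : C = G ⊓ Subgroup.centralizer (S : Set Γ)) (hCG : C ≤ G) : (∀ χ : Cfsg.IrrCharacter G, (∀ s ∈ S, ∀ g g' : G, (g' : Γ) = s * g * s⁻¹ → (χ : G → ℂ) g' = (χ : G → ℂ) g) → ∃! β : Cfsg.IrrCharacter C, ∃ m : ℕ, Cfsg.classInner (fun c : C => (χ : G → ℂ) ⟨c, hCG c.2⟩) (β : C → ℂ) = (m : ℂ) ∧ ¬ p ∣ m) ∧ (∀ χ : Cfsg.IrrCharacter G, (∀ s ∈ S, ∀ g g' : G, (g' : Γ) = s * g * s⁻¹ → (χ : G → ℂ) g' = (χ : G → ℂ) g) → ∀ β : Cfsg.IrrCharacter C, ∀ m : ℕ, Cfsg.classInner (fun c : C => (χ : G → ℂ) ⟨c, hCG c.2⟩) (β : C → ℂ) = (m : ℂ) → ¬ p ∣ m → ((m : ℤ) ≡ 1 [ZMOD p] ∨ (m : ℤ) ≡ -1 [ZMOD p])) ∧ (∀ χ χ' : Cfsg.IrrCharacter G, (∀ s ∈ S, ∀ g g' : G, (g' : Γ) = s * g * s⁻¹ → (χ : G → ℂ) g' =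 (χ : G → ℂ) g) → (∀ s ∈ S, ∀ g g' : G, (g' : Γ) = s * g * s⁻¹ → (χ' : G → ℂ) g' = (χ' : G → ℂ) g) → ∀ β : Cfsg.IrrCharacter C, ∀ m m' : ℕ, Cfsg.classInner (fun c : C => (χ : G → ℂ) ⟨c, hCG c.2⟩) (β : C → ℂ) = (m : ℂ) → ¬ p ∣ m → Cfsg.classInner (fun c : C => (χ' : G → ℂ) ⟨c, hCG c.2⟩) (β : C → ℂ) = (m' : ℂ) → ¬ p ∣ m' → χ = χ') ∧ (∀ β : Cfsg.IrrCharacter C, ∃ χ : Cfsg.IrrCharacter G, (∀ s ∈ S, ∀ g g' : G, (g' : Γ) = s * g * s⁻¹ → (χ : G → ℂ) g' = (χ : G → ℂ) g) ∧ ∃ m : ℕ, Cfsg.classInner (fun c : C => (χ : G → ℂ) ⟨c, hCG c.2⟩) (β : C → ℂ) = (m : ℂ) ∧ ¬ p ∣ m) := by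
  classical
  haveI : Fact p.Prime := ⟨hp⟩
  simp only [inv_conjHom_iff G S hnorm]
  set φ := conjHom G S hnorm with hφ
  haveI := Fintype.ofFinite (fixedSub φ)
  let e : C ≃* fixedSub φ := fixedEquiv G S hnorm C hC
  let T : IrrCharacter (fixedSub φ) ≃ IrrCharacter C := irrEquiv e
  have htr : ∀ (χ : IrrCharacter G) (γ : IrrCharacter (fixedSub φ)),
      classInner (fun c : C => (χ : G → ℂ) ⟨c, hCG c.2⟩) (T γ : C → ℂ) =
        classInner (fun x : fixedSub φ => (χ : G → ℂ) x) (γ : fixedSub φ → ℂ) := by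
    intro χ γ
    rw [← CfsgLib.Clifford.classInner_comp_equiv e]
    rfl
  by_cases hpG : p ∣ Nat.card G
  · -- then `S` is trivial
    have hS1 : Nat.card S = 1 := by
      obtain ⟨k, hk⟩ := IsPGroup.iff_card.1 hS
      rcases Nat.eq_zero_or_pos k with rfl | hk0
      · simpa using hk
      · exfalso
        refine hp.not_dvd_one ?_
        rw [← hcop]
        exact Nat.dvd_gcd hpG (hk ▸ dvd_pow_self p hk0.ne')
    have hfix : ∀ (s : S) (g : G), φ s g = g := by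
      intro s g
      have : s = 1 := by
        haveI := (Nat.card_eq_one_iff_unique.1 hS1).1
        exact Subsingleton.elim _ _
      simp [this]
    let f : fixedSub φ ≃* G :=
      { toFun := fun x => x, invFun := fun g => ⟨g, fun s => hfix s g⟩,
        left_inv := fun _ => rfl, right_inv := fun _ => rfl, map_mul' := fun _ _ => rfl }
    let R : IrrCharacter G ≃ IrrCharacter C := (irrEquiv f).trans T
    have hinner : ∀ (χ : IrrCharacter G) (β : IrrCharacter C),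
        classInner (fun c : C => (χ : G → ℂ) ⟨c, hCG c.2⟩) (β : C → ℂ) =
          if R χ = β then 1 else 0 := by
      intro χ β
      rw [← CfsgLib.Char.classInner_irrCharacter]
      rfl
    have hm : ∀ (χ : IrrCharacter G) (β : IrrCharacter C) (m : ℕ),
        classInner (fun c : C => (χ : G → ℂ) ⟨c, hCG c.2⟩) (β : C → ℂ) = (m : ℂ) →
          ¬ p ∣ m → R χ = β ∧ m = 1 := by
      intro χ β m h hpm
      rw [hinner] at h
      split_ifs at h with h1
      · exact ⟨h1, by exact_mod_cast h.symm⟩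
      · exact absurd ((show m = 0 by exact_mod_cast h.symm) ▸ dvd_zero p) hpm
    have hex : ∀ χ : IrrCharacter G, ∃ m : ℕ,
        classInner (fun c : C => (χ : G → ℂ) ⟨c, hCG c.2⟩) (R χ : C → ℂ) = (m : ℂ) ∧ ¬ p ∣ m :=
      fun χ => ⟨1, by rw [hinner, if_pos rfl, Nat.cast_one], hp.not_dvd_one⟩
    refine ⟨fun χ _ => ⟨R χ, hex χ, fun β ⟨m, h, hpm⟩ => (hm χ β m h hpm).1.symm⟩,
      fun χ _ β m h hpm => Or.inl (by rw [(hm χ β m h hpm).2]; rfl),
      fun χ χ' _ _ β m m' h hpm h' hpm' => R.injective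
        ((hm χ β m h hpm).1.trans (hm χ' β m' h' hpm').1.symm),
      fun β => ⟨R.symm β, fun s g => by rw [hfix], ?_⟩⟩
    simpa using hex (R.symm β)
  · refine ⟨fun χ hχ => ?_, fun χ hχ β m h hpm => ?_,
      fun χ χ' hχ hχ' β m m' h hpm h' hpm' => ?_, fun β => ?_⟩
    · obtain ⟨γ, hγ, hu⟩ := existsUnique_corr φ hS hpG hχ
      obtain ⟨m, hm, hpm⟩ := hγ
      refine ⟨T γ, ⟨m, by rw [htr]; exact hm, hpm⟩, fun β ⟨m', hm', hpm'⟩ => ?_⟩
      obtain ⟨δ, rfl⟩ := T.surjective β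
      rw [htr] at hm'
      exact congrArg T (hu δ ⟨m', hm', hpm'⟩)
    · obtain ⟨δ, rfl⟩ := T.surjective β
      rw [htr] at h
      exact corr_multiplicity φ hS hpG hχ h hpm
    · obtain ⟨δ, rfl⟩ := T.surjective β
      rw [htr] at h h'
      exact corr_injective φ hS hpG hχ hχ' ⟨m, h, hpm⟩ ⟨m', h', hpm'⟩
    · obtain ⟨δ, rfl⟩ := T.surjective β
      obtain ⟨χ, hχ, m, hm, hpm⟩ := corr_surjective φ hS hpG δ
      exact ⟨χ, hχ, m, by rw [htr]; exact hm, hpm⟩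

end Cfsg.Agent.S4444
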