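import Cfsg.Statements.S4447
import Cfsg.Agent.Lib.Glauberman.LayerBelow
import Cfsg.Agent.Lib.Glauberman.Transfer

set_option autoImplicit false
open Cfsg

namespace Cfsg.Agent.S4447

open CfsgLib CfsgLib.Glauberman

/-- Inside a finite group Γ let S normalise G and also normalise a normal subgroup N of G, with the order of S coprime to the index of N in G and S or G/N solvable. Then for every S-invariant irreducible character χ of G, the restriction of χ to N has an S-invariant irreducible constituent. -/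
theorem result {Γ : Type*} [Group Γ] [Fintype Γ] (G S N : Subgroup Γ) [Fintype G] [Fintype N] (hnorm : ∀ s ∈ S, ∀ g ∈ G, s * g * s⁻¹ ∈ G) (hNG : N ≤ G) [hNn : (N.subgroupOf G).Normal] (hNS : ∀ s ∈ S, ∀ n ∈ N, s * n * s⁻¹ ∈ N) (hcop : (N.relIndex G).Coprime (Nat.card S)) (hsolv : Group.IsSolvable S ∨ Group.IsSolvable (G ⧸ N.subgroupOf G)) (χ : Cfsg.IrrCharacter G) (hinv : (∀ s ∈ S, ∀ g g' : G, (g' : Γ) = s * g * s⁻¹ → (χ : G → ℂ) g' = (χ : G → ℂ) g)) : ∃ θ : Cfsg.IrrCharacter N, Cfsg.classInner (fun n : N => (χ : G → ℂ) ⟨n, hNG n.2⟩) (θ : N → ℂ) ≠ 0 ∧ (∀ s ∈ S, ∀ g g' : N, (g' : Γ) = s * g * s⁻¹ → (θ : N → ℂ) g' = (θ : N → ℂ) g) := by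
  classical
  set N' := N.subgroupOf G with hN'
  let e : N' ≃* N := Subgroup.subgroupOfEquivOfLe hNG
  haveI := Fintype.ofFinite N'
  obtain ⟨θ, hθ, hfix⟩ := exists_fixed_below (conjHom G S hnorm) N'
    ((inv_conjHom_iff G S hnorm _).1 hinv) (fun s x hx => hNS s s.2 (x : Γ) hx) hcop hsolv.symm
  refine ⟨irrEquiv e.symm θ, ?_, fun s hs g g' he => ?_⟩
  · rw [← Clifford.classInner_comp_equiv e]
    have hfun : ((irrEquiv e.symm θ : IrrCharacter N) : N → ℂ) ∘ e = (θ : N' → ℂ) :=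
      funext fun m => congrArg (θ : N' → ℂ) (e.symm_apply_apply m)
    rw [hfun]
    exact hθ
  · exact hfix ⟨s, hs⟩ (e.symm g) (e.symm g') (Subtype.ext he)

end Cfsg.Agent.S4447
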