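import Cfsg.Statements.S4448
import Cfsg.Agent.Lib.Glauberman.LayerInduction
import Cfsg.Agent.Lib.Glauberman.Transfer

set_option autoImplicit false
open Cfsg

namespace Cfsg.Agent.S4448

open CfsgLib CfsgLib.Glauberman

/-- Inside a finite group Γ let S normalise G and also normalise a normal subgroup N of G, with the order of S coprime to the index of N in G and G/N solvable. Then for every S-invariant irreducible character ϑ of N, the induced character ϑ^G has an S-invariant irreducible constituent. -/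
theorem result {Γ : Type*} [Group Γ] [Fintype Γ] (G S N : Subgroup Γ) [Fintype G] [Fintype N] (hnorm : ∀ s ∈ S, ∀ g ∈ G, s * g * s⁻¹ ∈ G) (hNG : N ≤ G) [hNn : (N.subgroupOf G).Normal] (hNS : ∀ s ∈ S, ∀ n ∈ N, s * n * s⁻¹ ∈ N) (hcop : (N.relIndex G).Coprime (Nat.card S)) (hsolv : Group.IsSolvable (G ⧸ N.subgroupOf G)) (θ : Cfsg.IrrCharacter N) (hinv : (∀ s ∈ S, ∀ g g' : N, (g' : Γ) = s * g * s⁻¹ → (θ : N → ℂ) g' = (θ : N → ℂ) g)) : ∃ χ : Cfsg.IrrCharacter G, Cfsg.classInner (fun n : N => (χ : G → ℂ) ⟨n, hNG n.2⟩) (θ : N → ℂ) ≠ 0 ∧ (∀ s ∈ S, ∀ g g' : G, (g' : Γ) = s * g * s⁻¹ → (χ : G → ℂ) g' = (χ : G → ℂ) g) := by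
  classical
  set N' := N.subgroupOf G with hN'
  let e : N' ≃* N := Subgroup.subgroupOfEquivOfLe hNG
  haveI := Fintype.ofFinite N'
  let θ' : IrrCharacter N' := ⟨(θ : N → ℂ) ∘ e, CharTwist.isIrrCharacter_comp_equiv θ.2 e⟩
  set φ := conjHom G S hnorm with hφ
  have htriv : ∀ s ∈ (⊥ : Subgroup S), Triv N' (θ' : N' → ℂ) φ s := by
    intro s hs
    rw [Subgroup.mem_bot] at hs
    subst hs
    refine ⟨fun g => ?_, fun K _ η _ k k' he => ?_⟩
    · rw [map_one, MulAut.one_apply, inv_mul_cancel]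
      exact one_mem _
    · rw [map_one, MulAut.one_apply] at he
      rw [Subtype.ext he]
  obtain ⟨χ, hχ, hfix⟩ := layerClaim _ φ N' θ' (⊥ : Subgroup S) rfl
    (fun s x hx => hNS s s.2 (x : Γ) hx)
    (fun s x x' hx => hinv (s : Γ) s.2 (e x) (e x') (congrArg (fun g : G => (g : Γ)) hx))
    htriv (by rw [Subgroup.index_bot]; exact hcop) (Or.inl hsolv)
  refine ⟨χ, ?_, (inv_conjHom_iff G S hnorm _).2 hfix⟩
  have h0 : classInner (fun m : N' => (χ : G → ℂ) m) ((θ : N → ℂ) ∘ e) ≠ 0 := hχ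
  have hfun : (fun m : N' => (χ : G → ℂ) m) =
      (fun m : N => (χ : G → ℂ) ⟨m, hNG m.2⟩) ∘ e := funext fun m => rfl
  rw [hfun, Clifford.classInner_comp_equiv] at h0
  exact h0

end Cfsg.Agent.S4448
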