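import Cfsg.Statements.S4450
import Cfsg.Agent.Lib.Glauberman.LayerInduction
import Cfsg.Agent.Lib.Glauberman.Transfer
import Mathlib.GroupTheory.SchurZassenhaus

set_option autoImplicit false
open Cfsg

namespace Cfsg.Agent.S4450

open CfsgLib CfsgLib.Glauberman

/-- Let N ≤ G be normal subgroups of the finite group Γ with the index of G in Γ coprime to the index of N in G, and Γ/G or G/N solvable. Then for every irreducible character ϑ of N invariant under conjugation by Γ, the induced character ϑ^G has an irreducible constituent invariant under conjugation by Γ. -/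
theorem result {Γ : Type*} [Group Γ] [Fintype Γ] (G N : Subgroup Γ) [hG : G.Normal] [hN : N.Normal] [Fintype G] [Fintype N] (hNG : N ≤ G) (hcop : (G.index).Coprime (N.relIndex G)) (hsolv : Group.IsSolvable (Γ ⧸ G) ∨ Group.IsSolvable (G ⧸ N.subgroupOf G)) (θ : Cfsg.IrrCharacter N) (hinv : ∀ (x : Γ) (n : N), (θ : N → ℂ) ⟨x * n * x⁻¹, hN.conj_mem n n.2 x⟩ = (θ : N → ℂ) n) : ∃ χ : Cfsg.IrrCharacter G, Cfsg.classInner (fun n : N => (χ : G → ℂ) ⟨n, hNG n.2⟩) (θ : N → ℂ) ≠ 0 ∧ ∀ (x : Γ) (g : G), (χ : G → ℂ) ⟨x * g * x⁻¹, hG.conj_mem g g.2 x⟩ = (χ : G → ℂ) g := by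
  classical
  set π := QuotientGroup.mk' N with hπ
  have hπs : Function.Surjective π := QuotientGroup.mk'_surjective N
  set Gb := G.map π with hGb
  haveI : Gb.Normal := Subgroup.Normal.map hG π hπs
  have hGbidx : Gb.index = G.index := Subgroup.index_map_eq G hπs (by
    rw [hπ, QuotientGroup.ker_mk']; exact hNG)
  have hGbcard : Nat.card Gb = N.relIndex G := by
    have h1 : Gb.index * Nat.card Gb = N.index := Subgroup.index_mul_card Gb
    have h2 := Subgroup.relIndex_mul_index hNG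
    rw [hGbidx, ← h2, mul_comm (N.relIndex G)] at h1
    exact Nat.eq_of_mul_eq_mul_left (Nat.pos_of_ne_zero Subgroup.index_ne_zero_of_finite) h1
  obtain ⟨Kb, hKb⟩ := Subgroup.exists_right_complement'_of_coprime (N := Gb)
    (by rw [hGbidx, hGbcard]; exact hcop.symm)
  set H := Kb.comap π with hH
  have hNH : N ≤ H := fun n hn => by
    show π n ∈ Kb
    rw [show π n = 1 from (QuotientGroup.eq_one_iff n).2 hn]
    exact one_mem Kb
  have hidx : (N.subgroupOf H).index = G.index := by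
    show N.relIndex H = G.index
    have h2 := Subgroup.relIndex_mul_index hNH
    have h3 := Subgroup.relIndex_mul_index hNG
    have h4 : H.index = N.relIndex G := by
      rw [hH, Subgroup.index_comap_of_surjective Kb hπs, hKb.index_eq_card, hGbcard]
    rw [h4, ← h3, mul_comm (N.relIndex G)] at h2
    exact Nat.eq_of_mul_eq_mul_right
      (Nat.pos_of_ne_zero fun h => by
        rw [h, zero_mul] at h3; exact Subgroup.index_ne_zero_of_finite h3.symm) h2
  have hprod : ∀ x : Γ, ∃ g ∈ G, ∃ h ∈ H, x = g * h := by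
    intro x
    have hx : π x ∈ Gb ⊔ Kb := by rw [hKb.sup_eq_top]; trivial
    obtain ⟨_, ⟨g, hg, rfl⟩, k, hk, he⟩ := Subgroup.mem_sup_of_normal_left.1 hx
    refine ⟨g, hg, g⁻¹ * x, ?_, (mul_inv_cancel_left g x).symm⟩
    show π (g⁻¹ * x) ∈ Kb
    rw [map_mul, map_inv, ← he, inv_mul_cancel_left]
    exact hk
  have hnorm : ∀ s ∈ H, ∀ g ∈ G, s * g * s⁻¹ ∈ G := fun s _ g hg => hG.conj_mem g hg s
  set φ := conjHom G H hnorm with hφ
  set N' := N.subgroupOf G with hN'
  let e : N' ≃* N := Subgroup.subgroupOfEquivOfLe hNG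
  haveI := Fintype.ofFinite N'
  let θ' : IrrCharacter N' := ⟨(θ : N → ℂ) ∘ e, CharTwist.isIrrCharacter_comp_equiv θ.2 e⟩
  have htriv : ∀ s ∈ N.subgroupOf H, Triv N' (θ' : N' → ℂ) φ s := by
    intro s hs
    refine ⟨fun g => ?_, fun K hNK η _ k k' he => ?_⟩
    · show (g : Γ)⁻¹ * ((s : Γ) * g * (s : Γ)⁻¹) ∈ N
      have := mul_mem (hN.conj_mem _ (show (s : Γ) ∈ N from hs) (g : Γ)⁻¹)
        (inv_mem (show (s : Γ) ∈ N from hs))
      simpa [mul_assoc] using this
    · haveI := Fintype.ofFinite K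
      let sK : K := ⟨⟨(s : Γ), hNG hs⟩, hNK (show (⟨(s : Γ), hNG hs⟩ : G) ∈ N' from hs)⟩
      have hk : k' = sK * k * sK⁻¹ :=
        Subtype.ext (Subtype.ext (congrArg (fun g : G => (g : Γ)) he))
      rw [hk]
      exact Char.IsIrrCharacter.isClassFunction η.2 k sK
  have hsol : Group.IsSolvable (G ⧸ N') ∨ Group.IsSolvable (H ⧸ N.subgroupOf H) := by
    refine hsolv.symm.imp_right fun h => ?_
    haveI := h
    refine Group.isSolvable_of_isSolvable_injective
      (f := QuotientGroup.map (N.subgroupOf H) G H.subtype fun x hx => hNG hx) ?_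
    intro a b
    obtain ⟨a, rfl⟩ := QuotientGroup.mk_surjective a
    obtain ⟨b, rfl⟩ := QuotientGroup.mk_surjective b
    intro hab
    have h1 : (a : Γ)⁻¹ * b ∈ G := QuotientGroup.eq.1
      (show ((a : Γ) : Γ ⧸ G) = ((b : Γ) : Γ ⧸ G) from hab)
    have h2 : π ((a : Γ)⁻¹ * b) ∈ Gb ⊓ Kb :=
      ⟨⟨_, h1, rfl⟩, show (a : Γ)⁻¹ * b ∈ H from mul_mem (inv_mem a.2) b.2⟩
    rw [hKb.disjoint.eq_bot] at h2
    exact QuotientGroup.eq.2 ((QuotientGroup.eq_one_iff ((a : Γ)⁻¹ * b)).1 h2)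
  obtain ⟨χ, hχ, hfix⟩ := layerClaim _ φ N' θ' (N.subgroupOf H) rfl
    (fun s x hx => hN.conj_mem (x : Γ) hx (s : Γ))
    (fun s x x' hx => by
      show (θ : N → ℂ) (e x') = (θ : N → ℂ) (e x)
      rw [← hinv (s : Γ) (e x)]
      exact congrArg (θ : N → ℂ) (Subtype.ext (congrArg (fun g : G => (g : Γ)) hx)))
    htriv (hidx ▸ hcop.symm) hsol
  refine ⟨χ, ?_, fun x g => ?_⟩
  · have h0 : classInner (fun m : N' => (χ : G → ℂ) m) ((θ : N → ℂ) ∘ e) ≠ 0 := hχ
    have hfun : (fun m : N' => (χ : G → ℂ) m) =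
        (fun m : N => (χ : G → ℂ) ⟨m, hNG m.2⟩) ∘ e := funext fun m => rfl
    rw [hfun, Clifford.classInner_comp_equiv] at h0
    exact h0
  · obtain ⟨a, ha, h, hh, rfl⟩ := hprod x
    have h1 := Char.IsIrrCharacter.isClassFunction χ.2 (φ ⟨h, hh⟩ g) ⟨a, ha⟩
    have h2 := hfix ⟨h, hh⟩ g
    rw [← h2, ← h1]
    exact congrArg (χ : G → ℂ) (Subtype.ext (by simp [φ, conjHom_apply, mul_assoc]))

end Cfsg.Agent.S4450
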