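import Cfsg.Statements.S4452
import Cfsg.Agent.Lib.Glauberman.CoprimeDegree
import Cfsg.Agent.Lib.Glauberman.Transfer

set_option autoImplicit false
open Cfsg

namespace Cfsg.Agent.S4452

open CfsgLib CfsgLib.Glauberman

/-- Let G have a normal subgroup K and a solvable subgroup H of coprime order with K H = G. Then the irreducible characters of G of degree coprime to the order of H are as many as those of the normalizer of H. -/
theorem result {G : Type*} [Group G] [Finite G] (K H : Subgroup G) [K.Normal] (hKH : K ⊔ H = ⊤) (hcop : (Nat.card K).Coprime (Nat.card H)) (hsolv : Group.IsSolvable H) : Nat.card {χ : Cfsg.IrrCharacter G // (Cfsg.charDegree (χ : G → ℂ)).Coprime (Nat.card H)} = Nat.card {η : Cfsg.IrrCharacter (Subgroup.normalizer (H : Set G)) // (Cfsg.charDegree (η : Subgroup.normalizer (H : Set G) → ℂ)).Coprime (Nat.card H)} := by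
  classical
  set N := Subgroup.normalizer (H : Set G) with hN
  have hHN : H ≤ N := Subgroup.le_normalizer
  set K' := K.subgroupOf N with hK'
  set H' := H.subgroupOf N with hH'
  haveI : H'.Normal := Subgroup.normal_in_normalizer
  haveI := Fintype.ofFinite K
  haveI := Fintype.ofFinite K'
  have eH : H' ≃* H := Subgroup.subgroupOfEquivOfLe hHN
  have hcardH : Nat.card H' = Nat.card H := Nat.card_congr eH.toEquiv
  have hK'H' : K' ⊔ H' = ⊤ := by
    refine eq_top_iff.2 fun n _ => ?_
    have hn : (n : G) ∈ K ⊔ H := by rw [hKH]; trivial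
    obtain ⟨k, hk, h, hh, he⟩ := Subgroup.mem_sup_of_normal_left.1 hn
    have hkN : k ∈ N := by
      rw [eq_mul_inv_of_mul_eq he]
      exact mul_mem n.2 (inv_mem (hHN hh))
    rw [show n = (⟨k, hkN⟩ : N) * ⟨h, hHN hh⟩ from Subtype.ext he.symm]
    exact mul_mem (Subgroup.mem_sup_left hk) (Subgroup.mem_sup_right hh)
  have hcop' : (Nat.card K').Coprime (Nat.card H') := by
    rw [hcardH]
    refine hcop.coprime_dvd_left ?_
    exact Subgroup.card_dvd_of_injective
      ((N.subtype.comp K'.subtype).codRestrict K fun x => x.2)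
      (fun a b hab => Subtype.ext (Subtype.ext (congrArg (fun x : K => (x : G)) hab)))
  rw [card_coprime_degree K H hKH hcop, ← hcardH, card_coprime_degree K' H' hK'H' hcop']
  congr 1
  · -- invariant characters of `K` and all characters of the centraliser
    set φ := conjHom K H fun s _ k hk => ‹K.Normal›.conj_mem k hk s with hφ
    have hinv : ∀ θ : IrrCharacter K,
        (∀ g, CharTwist.conjFun K (θ : K → ℂ) g = (θ : K → ℂ)) ↔ Inv φ (θ : K → ℂ) := by
      intro θ
      refine ⟨fun h s k => congrFun (h (s : G)) k, fun h g => funext fun k => ?_⟩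
      have hg : g ∈ K ⊔ H := by rw [hKH]; trivial
      obtain ⟨a, ha, b, hb, rfl⟩ := Subgroup.mem_sup_of_normal_left.1 hg
      have h1 := Char.IsIrrCharacter.isClassFunction θ.2 (φ ⟨b, hb⟩ k) ⟨a, ha⟩
      rw [← h ⟨b, hb⟩ k, ← h1]
      exact congrArg (θ : K → ℂ) (Subtype.ext (by simp [φ, conjHom_apply, mul_assoc]))
    have hinv' : ∀ θ : IrrCharacter K', ∀ g, CharTwist.conjFun K' (θ : K' → ℂ) g = (θ : K' → ℂ) := by
      intro θ g
      funext k
      have hg : g ∈ K' ⊔ H' := by rw [hK'H']; trivial
      obtain ⟨a, ha, b, hb, rfl⟩ := Subgroup.mem_sup_of_normal_left.1 hg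
      have hc : b * (k : N) * b⁻¹ = k := by
        rw [Subgroup.commute_of_normal_of_disjoint H' K' inferInstance inferInstance
          (Subgroup.disjoint_of_coprime_natCard hcop').symm b k hb k.2, mul_inv_cancel_right]
      refine Eq.trans (congrArg (θ : K' → ℂ) (Subtype.ext ?_))
        (Char.IsIrrCharacter.isClassFunction θ.2 k ⟨a, ha⟩)
      show a * b * (k : N) * (a * b)⁻¹ = a * (k : N) * a⁻¹
      rw [mul_inv_rev]
      conv_rhs => rw [← hc]
      group
    rw [Nat.card_congr (Equiv.subtypeEquivRight hinv), card_inv_eq_fixed _ φ rfl hsolv hcop,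
      Nat.card_congr (Equiv.subtypeUnivEquiv hinv')]
    refine Nat.card_congr (irrEquiv ?_)
    refine
      { toFun := fun x => ⟨⟨((x : N) : G), x.2⟩, (mem_fixedSub_conjHom K H _ _).2 ?_⟩
        invFun := fun x => ⟨⟨((x : K) : G), Subgroup.centralizer_le_normalizer _
          ((mem_fixedSub_conjHom K H _ _).1 x.2)⟩, (x : K).2⟩
        left_inv := fun _ => rfl
        right_inv := fun _ => rfl
        map_mul' := fun _ _ => rfl }
    refine Subgroup.mem_centralizer_iff.2 fun s hs => ?_
    exact congrArg Subtype.val (Subgroup.commute_of_normal_of_disjoint H' K' inferInstance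
      inferInstance (Subgroup.disjoint_of_coprime_natCard hcop').symm ⟨s, hHN hs⟩ (x : N) hs x.2).eq
  · exact Nat.card_congr
      { toFun := fun l => l.comp eH.toMonoidHom
        invFun := fun l => l.comp eH.symm.toMonoidHom
        left_inv := fun l => MonoidHom.ext fun x => by simp
        right_inv := fun l => MonoidHom.ext fun x => by simp }

end Cfsg.Agent.S4452
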