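import Cfsg.Statements.S4453
import Cfsg.Agent.Lib.KGV.ParityClifford

set_option autoImplicit false
open Cfsg

namespace Cfsg.Agent.S4453

/-- Inside a finite group Γ let S normalise the solvable subgroup G of odd order with the orders of G and S coprime, let C = G ⊓ C(S), and let L ≤ K be S-invariant normal subgroups of G with K/L abelian, G = KC and H = LC (so C ≤ H ≤ G). Then for each S-invariant irreducible character χ of G there is exactly one S-invariant irreducible character ψ of H whose multiplicity in the restriction of χ to H is odd, and χ ↦ ψ is a bijection from the S-invariant irreducible characters of G onto those of H (distinct χ give distinct ψ, and every S-invariant ψ arises). -/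
theorem result {Γ : Type*} [Group Γ] [Fintype Γ] (G S : Subgroup Γ) [Fintype G] (hnorm : ∀ s ∈ S, ∀ g ∈ G, s * g * s⁻¹ ∈ G) (hcop : (Nat.card G).Coprime (Nat.card S)) (hGsolv : Group.IsSolvable G) (hodd : Odd (Nat.card G)) (C : Subgroup Γ) [Fintype C] (hC : C = G ⊓ Subgroup.centralizer (S : Set Γ)) (hCG : C ≤ G) (K L H : Subgroup Γ) [Fintype H] (hLK : L ≤ K) (hKG : K ≤ G) (hKn : ∀ g ∈ G, ∀ k ∈ K, g * k * g⁻¹ ∈ K) (hLn : ∀ g ∈ G, ∀ l ∈ L, g * l * g⁻¹ ∈ L) (hKS : ∀ s ∈ S, ∀ k ∈ K, s * k * s⁻¹ ∈ K) (hLS : ∀ s ∈ S, ∀ l ∈ L, s * l * s⁻¹ ∈ L) (hab : ∀ a ∈ K, ∀ b ∈ K, a * b * a⁻¹ * b⁻¹ ∈ L) (hGKC : K ⊔ C = G) (hH : H = L ⊔ C) (hHG : H ≤ G) : (∀ χ : Cfsg.IrrCharacter G, (∀ s ∈ S, ∀ g g' : G, (g' : Γ) = s * g * s⁻¹ → (χ : G → ℂ) g' = (χ : G → ℂ) g) → ∃! ψ : Cfsg.IrrCharacter H, (∀ s ∈ S, ∀ g g' : H, (g' : Γ) = s * g * s⁻¹ → (ψ : H → ℂ) g' = (ψ : H → ℂ) g) ∧ ∃ m : ℕ, Cfsg.classInner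 (fun h : H => (χ : G → ℂ) ⟨h, hHG h.2⟩) (ψ : H → ℂ) = (m : ℂ) ∧ Odd m) ∧ (∀ χ χ' : Cfsg.IrrCharacter G, (∀ s ∈ S, ∀ g g' : G, (g' : Γ) = s * g * s⁻¹ → (χ : G → ℂ) g' = (χ : G → ℂ) g) → (∀ s ∈ S, ∀ g g' : G, (g' : Γ) = s * g * s⁻¹ → (χ' : G → ℂ) g' = (χ' : G → ℂ) g) → ∀ ψ : Cfsg.IrrCharacter H, (∀ s ∈ S, ∀ g g' : H, (g' : Γ) = s * g * s⁻¹ → (ψ : H → ℂ) g' = (ψ : H → ℂ) g) → ∀ m m' : ℕ, Cfsg.classInner (fun h : H => (χ : G → ℂ) ⟨h, hHG h.2⟩) (ψ : H → ℂ) = (m : ℂ) → Odd m → Cfsg.classInner (fun h : H => (χ' : G → ℂ) ⟨h, hHG h.2⟩) (ψ : H → ℂ) = (m' : ℂ) → Odd m' → χ = χ') ∧ (∀ ψ : Cfsg.IrrCharacter H, (∀ s ∈ S, ∀ g g' : H, (g' : Γ) = s * g * s⁻¹ → (ψ : H → ℂ) g' = (ψ : H → ℂ) g) → ∃ χ : Cfsg.IrrCharacter G, (∀ s ∈ S, ∀ g g' : G, (g' : Γ) = s * g * s⁻¹ → (χ : G → ℂ) g' = (χ : G → ℂ) g) ∧ ∃ m : ℕ, Cfsg.classInner (fun h : H => (χ : G → ℂ) ⟨h, hHG h.2⟩) (ψ : H → ℂ) =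 (m : ℂ) ∧ Odd m) := by
  classical
  open CfsgLib.Glauberman CfsgLib.KGV.Parity in
  exact (by
    let φ := conjHom G S hnorm
    let K' := K.subgroupOf G
    let L' := L.subgroupOf G
    let H' := H.subgroupOf G
    have hKn' : K'.Normal := ⟨fun k hk g => hKn g g.2 k hk⟩
    have hLn' : L'.Normal := ⟨fun l hl g => hLn g g.2 l hl⟩
    let : Fintype H' := Fintype.ofFinite H'
    have hCmap : (fixedSub φ).map G.subtype = C := by
      rw [hC]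
      ext x
      constructor
      · rintro ⟨y, hy, rfl⟩
        exact ⟨y.2, (mem_fixedSub_conjHom G S hnorm y).1 hy⟩
      · rintro ⟨hxG, hxS⟩
        exact ⟨⟨x, hxG⟩, (mem_fixedSub_conjHom G S hnorm ⟨x, hxG⟩).2 hxS, rfl⟩
    have hsect : AbSect φ K' L' :=
      { odd := hodd
        cop := hcop
        solv := hGsolv
        invK := fun s x hx => hKS s s.2 (x : Γ) hx
        invL := fun s x hx => hLS s s.2 (x : Γ) hx
        le := fun x hx => hLK hx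
        comm := fun a ha b hb => hab (a : Γ) ha (b : Γ) hb
        sup := by
          refine Subgroup.map_injective G.subtype_injective ?_
          rw [Subgroup.map_sup, ← MonoidHom.range_eq_map, Subgroup.range_subtype,
            Subgroup.map_subgroupOf_eq_of_le hKG, hCmap, hGKC] }
    have hH' : H' = L' ⊔ fixedSub φ := by
      refine Subgroup.map_injective G.subtype_injective ?_
      rw [Subgroup.map_sup, Subgroup.map_subgroupOf_eq_of_le hHG,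
        Subgroup.map_subgroupOf_eq_of_le (hLK.trans hKG), hCmap, hH]
    obtain ⟨P1, P2, P3⟩ := hsect.parity_correspondence hH'
    let e : H' ≃* H := Subgroup.subgroupOfEquivOfLe hHG
    let E : IrrCharacter H ≃ IrrCharacter H' := irrEquiv e
    have hodd' : ∀ (χ : IrrCharacter G) (ψ : IrrCharacter H),
        OddMult (fun x : H' => (χ : G → ℂ) x) ((E ψ : IrrCharacter H') : H' → ℂ) ↔
          OddMult (fun h : H => (χ : G → ℂ) ⟨h, hHG h.2⟩) (ψ : H → ℂ) := fun χ ψ =>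
      oddMult_comp e.toMonoidHom e.surjective (fun h : H => (χ : G → ℂ) ⟨h, hHG h.2⟩) (ψ : H → ℂ)
    have hinv' : ∀ ψ : IrrCharacter H,
        InvSub φ H' ((E ψ : IrrCharacter H') : H' → ℂ) ↔
          ∀ s ∈ S, ∀ g g' : H, (g' : Γ) = s * g * s⁻¹ → (ψ : H → ℂ) g' = (ψ : H → ℂ) g :=
      fun ψ => ⟨fun h s hs g g' he => by
        have h1 := h ⟨s, hs⟩ (e.symm g) (e.symm g') (Subtype.ext he)
        rwa [irrEquiv_apply, irrEquiv_apply, e.apply_symm_apply, e.apply_symm_apply] at h1,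
        fun h s x x' he => h s s.2 (e x) (e x') (congrArg Subtype.val he)⟩
    refine ⟨fun χ hχ => ?_, fun χ χ' hχ hχ' ψ hψ m m' hm hmo hm' hmo' => ?_, fun ψ hψ => ?_⟩
    · obtain ⟨ψ₀, ⟨hi, ho⟩, hu⟩ := P1 χ ((inv_conjHom_iff G S hnorm _).1 hχ)
      obtain ⟨ψ, rfl⟩ := E.surjective ψ₀
      refine ⟨ψ, ⟨(hinv' ψ).1 hi, (hodd' χ ψ).1 ho⟩, ?_⟩
      rintro ψ' ⟨hi', ho'⟩
      exact E.injective (hu (E ψ') ⟨(hinv' ψ').2 hi', (hodd' χ ψ').2 ho'⟩)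
    · exact P2 χ χ' ((inv_conjHom_iff G S hnorm _).1 hχ) ((inv_conjHom_iff G S hnorm _).1 hχ')
        (E ψ) ((hinv' ψ).2 hψ) ((hodd' χ ψ).2 ⟨m, hm, hmo⟩) ((hodd' χ' ψ).2 ⟨m', hm', hmo'⟩)
    · obtain ⟨χ, hi, ho⟩ := P3 (E ψ) ((hinv' ψ).2 hψ)
      exact ⟨χ, (inv_conjHom_iff G S hnorm _).2 hi, (hodd' χ ψ).1 ho⟩)

end Cfsg.Agent.S4453
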