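import Cfsg.Statements.S4454
import Cfsg.Agent.Lib.Glauberman.FrobRamified

set_option autoImplicit false
open Cfsg
open scoped ComplexConjugate

namespace Cfsg.Agent.S4454

open CfsgLib

/-- Let N ≤ G be normal subgroups of the finite group Γ with Γ/G cyclic and Γ/N a Frobenius group with kernel G/N: G ≠ Γ, N ≠ G, and no element of Γ outside G fixes a non-identity coset of N in G under conjugation. Let ϑ be an irreducible character of N invariant under conjugation by Γ and suppose ϑ is fully ramified in G: the character of G induced from ϑ equals e·χ for an irreducible character χ of G and a natural number e. Then the index of G in Γ divides e − 1 or e + 1. -/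
theorem result {Γ : Type*} [Group Γ] [Fintype Γ] (G N : Subgroup Γ) [hG : G.Normal] [hN : N.Normal] [Fintype G] [Fintype N] (hNG : N ≤ G) (hGlt : G ≠ ⊤) (hNlt : N ≠ G) (hcyc : IsCyclic (Γ ⧸ G)) (hfrob : ∀ x : Γ, x ∉ G → ∀ g : Γ, g ∈ G → x * g * x⁻¹ * g⁻¹ ∈ N → g ∈ N) (θ : Cfsg.IrrCharacter N) (hinv : ∀ (x : Γ) (n : N), (θ : N → ℂ) ⟨x * n * x⁻¹, hN.conj_mem n n.2 x⟩ = (θ : N → ℂ) n) (χ : Cfsg.IrrCharacter G) (e : ℕ) (hram : Cfsg.indFun (N.subgroupOf G) (fun n : N.subgroupOf G => (θ : N → ℂ) ⟨(n : G), n.2⟩) = fun g => (e : ℂ) * (χ : G → ℂ) g) : (G.index : ℤ) ∣ (e : ℤ) - 1 ∨ (G.index : ℤ) ∣ (e : ℤ) + 1 := by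
  classical
  set N' := N.subgroupOf G with hN'
  haveI := Fintype.ofFinite N'
  let ee : N' ≃* N := Subgroup.subgroupOfEquivOfLe hNG
  have hfun : (fun n : N' => (θ : N → ℂ) ⟨((n : G) : Γ), n.2⟩) = (θ : N → ℂ) ∘ ee :=
    funext fun n => rfl
  rw [hfun] at hram
  have hext : ∀ (x : Γ) (z : G), extendByZero N' ((θ : N → ℂ) ∘ ee)
      (MulAut.conjNormal (H := G) x z) = extendByZero N' ((θ : N → ℂ) ∘ ee) z := by
    intro x z
    by_cases hz : z ∈ N'
    · have hz' : MulAut.conjNormal (H := G) x z ∈ N' := hN.conj_mem _ hz x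
      rw [Char.extendByZero_apply_mem N' _ hz, Char.extendByZero_apply_mem N' _ hz']
      exact (congrArg (θ : N → ℂ) (Subtype.ext rfl)).trans (hinv x (ee ⟨z, hz⟩))
    · rw [Char.extendByZero_of_notMem N' _ hz, Char.extendByZero_of_notMem]
      intro h
      refine hz ?_
      show (z : Γ) ∈ N
      have h2 := hN.conj_mem _ (show x * (z : Γ) * x⁻¹ ∈ N from h) x⁻¹
      simpa [mul_assoc] using h2
  have he0 : (e : ℂ) ≠ 0 := by
    intro h
    have h1 := congrFun hram 1
    rw [h, zero_mul, Char.indFun_apply_one] at h1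
    exact (mul_ne_zero (Nat.cast_ne_zero.2 Subgroup.index_ne_zero_of_finite)
      (Char.IsIrrCharacter.apply_one_ne_zero (CharTwist.isIrrCharacter_comp_equiv θ.2 ee))) h1
  have hχinv : ∀ (x : Γ) (g : G),
      (χ : G → ℂ) ⟨x * g * x⁻¹, hG.conj_mem g g.2 x⟩ = (χ : G → ℂ) g := by
    intro x g
    refine mul_left_cancel₀ he0 ?_
    have h1 := congrFun hram g
    have h2 := congrFun hram (MulAut.conjNormal (H := G) x g)
    refine h2.symm.trans (Eq.trans ?_ h1)
    simp only [indFun]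
    congr 1
    refine (Fintype.sum_equiv (MulAut.conjNormal (H := G) x).toEquiv _ _ fun y => ?_).symm
    simp only [MulEquiv.toEquiv_eq_coe, EquivLike.coe_coe]
    rw [← map_inv, ← map_mul, ← map_mul, hext]
  have hθinv : ∀ g : G, CharTwist.conjFun N' ((θ : N → ℂ) ∘ ee) g = (θ : N → ℂ) ∘ ee :=
    fun g => funext fun n => (congrArg (θ : N → ℂ) (Subtype.ext rfl)).trans (hinv (g : Γ) (ee n))
  obtain ⟨ξ, hξ, hξG⟩ := CharDeep.Extend.extends_of_cyclic G (χ : G → ℂ) χ.2 hχinv hcyc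
  -- the restriction to `N`
  have hθ' := CharTwist.isIrrCharacter_comp_equiv θ.2 ee
  have hFrob := Char.classInner_indFun N' ((θ : N → ℂ) ∘ ee) (χ : G → ℂ)
    (Char.IsIrrCharacter.isClassFunction χ.2)
  rw [hram, show (fun g => (e : ℂ) * (χ : G → ℂ) g) = (e : ℂ) • (χ : G → ℂ) from rfl,
    Char.classInner_smul_left, Char.classInner_irr_self χ.2, mul_one] at hFrob
  have hcon : classInner (fun n : N' => (χ : G → ℂ) n) ((θ : N → ℂ) ∘ ee) ≠ 0 := by
    rw [← Char.classInner_conj_symm, ← hFrob, map_natCast]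
    exact he0
  obtain ⟨b, -, hb⟩ := CharDeep.Cliff.res_eq_smul N' χ.2 hθ' hθinv hcon
  rw [hb, Char.classInner_smul_right, Char.classInner_irr_self hθ', mul_one, map_natCast] at hFrob
  refine CfsgLib.Glauberman.ramified_congr G N hNG hGlt hcyc hfrob θ (fun x => funext (hinv x)) hξ
    (by rw [show (fun g : G => ξ g) = (χ : G → ℂ) from funext hξG]; exact χ.2) e fun m => ?_
  have h1 := congrFun hb (ee.symm m)
  rw [Pi.smul_apply, smul_eq_mul, Function.comp_apply, MulEquiv.apply_symm_apply] at h1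
  rw [hFrob, ← h1, ← hξG]
  rfl

end Cfsg.Agent.S4454
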