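import Cfsg.Statements.S4460
import Cfsg.Agent.Lib.ThreeDeg.DerivedLength

set_option autoImplicit false
open Cfsg

namespace Cfsg.Agent.S4460

/-- A finite group with exactly three distinct irreducible character degrees is solvable of derived length at most 3: its third derived subgroup is trivial. -/
theorem result {G : Type*} [Group G] [Finite G] (hcd : Nat.card {n : ℕ // ∃ χ : Cfsg.IrrCharacter G, Cfsg.charDegree (χ : G → ℂ) = n} = 3) : derivedSeries G 3 = ⊥ := by
  haveI := Fintype.ofFinite G
  have hcd' : {n : ℕ | ∃ χ : Cfsg.IrrCharacter G, Cfsg.charDegree (χ : G → ℂ) = n}.ncard = 3 :=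
    (Nat.card_coe_set_eq _).symm.trans hcd
  obtain ⟨x, y, z, -, -, -, hset⟩ := Set.ncard_eq_three.1 hcd'
  have hmem : ∀ χ : Cfsg.IrrCharacter G, Cfsg.charDegree (χ : G → ℂ) = x ∨
      Cfsg.charDegree (χ : G → ℂ) = y ∨ Cfsg.charDegree (χ : G → ℂ) = z := fun χ => by
    have h : Cfsg.charDegree (χ : G → ℂ) ∈ ({x, y, z} : Set ℕ) := hset ▸ ⟨χ, rfl⟩
    simpa using h
  have h1 : 1 = x ∨ 1 = y ∨ 1 = z := by
    have := hmem CfsgLib.Char.principalIrr
    rwa [show Cfsg.charDegree ((CfsgLib.Char.principalIrr : Cfsg.IrrCharacter G) : G → ℂ) = 1 from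
      CfsgLib.CharTools.charDegree_principal] at this
  rcases h1 with h | h | h
  · subst h
    exact CfsgLib.ThreeDeg.derived_three hmem
  · subst h
    exact CfsgLib.ThreeDeg.derived_three (a := x) (b := z) fun χ => by have := hmem χ; tauto
  · subst h
    exact CfsgLib.ThreeDeg.derived_three (a := x) (b := y) fun χ => by have := hmem χ; tauto

end Cfsg.Agent.S4460
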