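import Cfsg.Statements.S4470
import Cfsg.Agent.Lib.FrobeniusBound.Unitary

set_option autoImplicit false
open Cfsg

namespace Cfsg.Agent.S4470

open CfsgLib

/-- Let the finite group G have a faithful character of degree n. Then G has an abelian normal subgroup A such that every abelian subgroup H of G satisfies [H : H ⊓ A] ≤ 12^n. -/
theorem result {G : Type*} [Group G] [Finite G] (χ : G → ℂ) (hχ : Cfsg.IsCharacter G χ) (hfaith : ∀ g : G, χ g = χ 1 → g = 1) (n : ℕ) (hn : Cfsg.charDegree χ = n) : ∃ A : Subgroup G, A.Normal ∧ (∀ x ∈ A, ∀ y ∈ A, x * y = y * x) ∧ ∀ H : Subgroup G, (∀ x ∈ H, ∀ y ∈ H, x * y = y * x) → (A.subgroupOf H).index ≤ 12 ^ n := by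
  cases nonempty_fintype G
  obtain ⟨d, ρ, rfl⟩ := hχ
  have h1 : ρ.character 1 = (d : ℂ) := by rw [Representation.char_one, Module.finrank_fin_fun]
  have hdn : d = n := by
    rw [← hn, Cfsg.charDegree, h1]
    simp
  subst hdn
  refine FrobeniusBound.exists_isometric ρ fun g h hgh => ?_
  have h2 : g * h⁻¹ = 1 := by
    refine hfaith _ ?_
    rw [h1, Char.character_eq_degree_iff ρ (g * h⁻¹) |>.mpr ?_, Module.finrank_fin_fun]
    rw [map_mul, hgh, ← map_mul, mul_inv_cancel, map_one]
    rfl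
  exact mul_inv_eq_one.mp h2

end Cfsg.Agent.S4470
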