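import Cfsg.Statements.S4471
import Cfsg.Agent.Lib.TwoEigen.Main

set_option autoImplicit false
open Cfsg

namespace Cfsg.Agent.S4471

/-- Let p ≥ 7 be a prime and let the finite group G have a faithful irreducible character of degree n with n < 2p and n ≠ p. If the Sylow p-subgroups of G are non-abelian then p² does not divide the index of O_p(G) in G; consequently, in every case G/O_p(G) has abelian Sylow p-subgroups. -/
theorem result {G : Type*} [Group G] [Finite G] (χ : Cfsg.IrrCharacter G) (hfaith : ∀ g : G, (χ : G → ℂ) g = (χ : G → ℂ) 1 → g = 1) (n : ℕ) (hn : Cfsg.charDegree (χ : G → ℂ) = n) (p : ℕ) (hp : p.Prime) (h7 : 7 ≤ p) (hn2 : n < 2 * p) (hnp : n ≠ p) : ((∃ P : Sylow p G, ∃ x ∈ (P : Subgroup G), ∃ y ∈ (P : Subgroup G), x * y ≠ y * x) → ¬ p ^ 2 ∣ (Cfsg.pCore p G).index) ∧ ∀ Q : Sylow p (G ⧸ Cfsg.pCore p G), ∀ x ∈ (Q : Subgroup (G ⧸ Cfsg.pCore p G)), ∀ y ∈ (Q : Subgroup (G ⧸ Cfsg.pCore p G)), x * y = y * x := by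
  haveI := Fact.mk hp
  haveI := CfsgLib.Solvable.pCore_normal p G
  have h1 : (χ : G → ℂ) 1 = n := by
    rw [← hn]
    exact (CfsgLib.Char.IsCharacter.degree_cast
      (CfsgLib.Char.IsIrrCharacter.isCharacter χ.2)).symm
  have key : (∃ P : Sylow p G, ∃ x ∈ (P : Subgroup G), ∃ y ∈ (P : Subgroup G), x * y ≠ y * x) →
      ¬ p ^ 2 ∣ (Cfsg.pCore p G).index := by
    rintro ⟨P, h⟩
    exact CfsgLib.TwoEigen.not_sq_dvd h7 χ hfaith h1 hn2 hnp P P.2 h
  refine ⟨key, fun Q x hx y hy => ?_⟩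
  by_cases hna : ∃ P : Sylow p G, ∃ x ∈ (P : Subgroup G), ∃ y ∈ (P : Subgroup G), x * y ≠ y * x
  · have h2 := key hna
    rw [hp.pow_dvd_iff_le_factorization Subgroup.index_ne_zero_of_finite] at h2
    have h3 := Q.card_eq_multiplicity
    rw [← Subgroup.index_eq_card] at h3
    haveI : IsCyclic (Q : Subgroup (G ⧸ Cfsg.pCore p G)) := by
      rcases (show (Cfsg.pCore p G).index.factorization p = 0 ∨
        (Cfsg.pCore p G).index.factorization p = 1 by omega) with h | h
      · rw [h, pow_zero] at h3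
        haveI := (Nat.card_eq_one_iff_unique.1 h3).1
        infer_instance
      · rw [h, pow_one] at h3
        exact isCyclic_of_prime_card h3
    exact congrArg Subtype.val (mul_comm'
      (⟨x, hx⟩ : (Q : Subgroup (G ⧸ Cfsg.pCore p G))) ⟨y, hy⟩)
  · push Not at hna
    obtain ⟨P, rfl⟩ := Sylow.mapSurjective_surjective
      (f := QuotientGroup.mk' (Cfsg.pCore p G)) (QuotientGroup.mk'_surjective _) p Q
    rw [Sylow.coe_mapSurjective] at hx hy
    obtain ⟨a, ha, rfl⟩ := hx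
    obtain ⟨b, hb, rfl⟩ := hy
    rw [← map_mul, ← map_mul, hna P a ha b hb]

end Cfsg.Agent.S4471
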