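import Cfsg.Statements.S4474
import Cfsg.Agent.Lib.IndicatorForm.RealForm

set_option autoImplicit false
open Cfsg

namespace Cfsg.Agent.S4474

/-- Let χ be an irreducible character of the finite group G. Then the Frobenius–Schur indicator of χ (the average over s ∈ G of χ(s²)) equals 1 if and only if χ is afforded by a real representation: there is a representation of G on a real coordinate space whose trace function, viewed in ℂ, is χ. -/
theorem result {G : Type*} [Group G] [Fintype G] (χ : Cfsg.IrrCharacter G) : ((Nat.card G : ℂ)⁻¹ * ∑ s : G, (χ : G → ℂ) (s * s)) = 1 ↔ ∃ (n : ℕ) (ρ : Representation ℝ G (Fin n → ℝ)), ∀ g : G, ((LinearMap.trace ℝ (Fin n → ℝ) (ρ g) : ℝ) : ℂ) = (χ : G → ℂ) g := by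
  obtain ⟨n, ρ, hρ, hρχ⟩ := χ.2
  haveI := hρ
  constructor
  · intro hν
    have hreal : ∀ g, (ρ.character g).im = 0 := by
      intro g
      rw [hρχ]
      refine CfsgLib.RealChar.im_eq_zero_of_fsInd_ne_zero χ.2 ?_ g
      show (Nat.card G : ℂ)⁻¹ * ∑ s : G, (χ : G → ℂ) (s * s) ≠ 0
      rw [hν]
      exact one_ne_zero
    obtain ⟨T, hT⟩ := CfsgLib.IndicatorForm.exists_inv_unit ρ hreal
    have hsym := CfsgLib.IndicatorForm.transpose_eq_indicator_smul ρ hreal hT
    rw [hρχ, hν, one_smul] at hsym
    obtain ⟨m, σ, hσ⟩ := CfsgLib.IndicatorForm.exists_real_form ρ hT hsym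
    exact ⟨m, σ, fun g => by rw [hσ g, hρχ]⟩
  · rintro ⟨m, σ, hσ⟩
    let ρC := CfsgLib.Char.extendScalars Complex.ofRealHom σ
    have hchar : ρC.character = (χ : G → ℂ) := by
      rw [CfsgLib.Char.extendScalars_character]
      funext g
      exact hσ g
    obtain ⟨e⟩ := CfsgLib.Char.nonempty_equiv_of_character_eq ρ ρC (hρχ.trans hchar.symm)
    haveI : ρC.IsIrreducible := CfsgLib.Char.isIrreducible_of_equiv e
    have hreal : ∀ g, (ρC.character g).im = 0 := fun g => by
      rw [hchar, ← hσ g]
      exact Complex.ofReal_im _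
    classical
    let A : G → Matrix (Fin m) (Fin m) ℝ := fun g => LinearMap.toMatrix' (σ g)
    let F : Matrix (Fin m) (Fin m) ℝ := ∑ s, (A s).transpose * A s
    have hA : ∀ x y, A (x * y) = A x * A y := fun x y => by
      simp [A, map_mul, Module.End.mul_eq_comp, LinearMap.toMatrix'_comp]
    have hFinv : ∀ g, (A g).transpose * F * A g = F := by
      intro g
      simp only [F, Finset.mul_sum, Finset.sum_mul]
      refine Fintype.sum_equiv (Equiv.mulRight g) _ _ fun s => ?_
      simp only [Equiv.coe_mulRight, hA, Matrix.transpose_mul, Matrix.mul_assoc]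
    have hFt : F.transpose = F := by
      simp [F, Matrix.transpose_sum, Matrix.transpose_mul]
    have hm : 0 < m := by
      have h0 := CfsgLib.Char.finrank_pos_of_irreducible ρC
      rwa [Module.finrank_fin_fun] at h0
    have hF0 : F ≠ 0 := by
      intro h0
      have h1 : (∑ s, (A s).transpose * A s) ⟨0, hm⟩ ⟨0, hm⟩ = 0 :=
        congrFun (congrFun h0 _) _
      simp only [Matrix.sum_apply, Matrix.mul_apply, Matrix.transpose_apply] at h1
      have h2 := (Finset.sum_eq_zero_iff_of_nonneg fun s _ =>
        Finset.sum_nonneg fun i _ => mul_self_nonneg _).1 h1 1 (Finset.mem_univ _)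
      have h3 := (Finset.sum_eq_zero_iff_of_nonneg fun i _ => mul_self_nonneg _).1 h2 ⟨0, hm⟩
        (Finset.mem_univ _)
      simp [A, map_one, Module.End.one_eq_id] at h3
    let FC : Matrix (Fin m) (Fin m) ℂ := F.map Complex.ofRealHom
    have hFC : CfsgLib.IndicatorForm.IsInv ρC FC := by
      intro g
      rw [CfsgLib.IndicatorForm.mat, CfsgLib.Char.extendScalars_toMatrix, ← Matrix.transpose_map,
        ← Matrix.map_mul, ← Matrix.map_mul, hFinv g]
    have h := CfsgLib.IndicatorForm.transpose_eq_indicator_smul ρC hreal hFC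
    rw [hchar] at h
    have hFC0 : FC ≠ 0 := fun h0 => hF0 (Matrix.map_injective Complex.ofReal_injective
      (h0.trans (Matrix.map_zero _ Complex.ofReal_zero).symm))
    have hFCt : FC.transpose = FC := by
      show (F.map Complex.ofRealHom).transpose = F.map Complex.ofRealHom
      rw [← Matrix.transpose_map, hFt]
    rw [hFCt] at h
    exact smul_left_injective ℂ hFC0 (h.symm.trans (one_smul ℂ FC).symm)

end Cfsg.Agent.S4474
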