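import Cfsg.Statements.S4476
import Cfsg.Agent.Lib.RealChar.Trichotomy
import Cfsg.Agent.Lib.CharTools.Basic
import Cfsg.Agent.Lib.Char.Linear
import Mathlib.GroupTheory.ClassEquation
import Mathlib.Algebra.Order.Chebyshev

set_option autoImplicit false
open Cfsg

namespace Cfsg.Agent.S4476

/-- Let G be a finite group of even order g with exactly t involutions, and put α = (g − 1)/t (a rational number). Then (a) some non-identity element x of G has at most α² conjugates; and (b) some non-principal real-valued irreducible character of G has degree at most α. -/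
theorem result {G : Type*} [Group G] [Fintype G] (heven : Even (Nat.card G)) (t : ℕ) (ht : Nat.card {x : G // orderOf x = 2} = t) : (∃ x : G, x ≠ 1 ∧ ((Subgroup.centralizer ({x} : Set G)).index : ℚ) ≤ (((Nat.card G : ℚ) - 1) / t) ^ 2) ∧ ∃ χ : Cfsg.IrrCharacter G, (χ : G → ℂ) ≠ (fun _ => 1) ∧ (∀ g : G, ((χ : G → ℂ) g).im = 0) ∧ (Cfsg.charDegree (χ : G → ℂ) : ℚ) ≤ ((Nat.card G : ℚ) - 1) / t := by
  classical
  have htpos : 0 < t := by
    obtain ⟨x, hx⟩ := exists_prime_orderOf_dvd_card' (G := G) 2 heven.two_dvd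
    rw [← ht]
    haveI : Nonempty {x : G // orderOf x = 2} := ⟨⟨x, hx⟩⟩
    exact Nat.card_pos
  have hroots : Nat.card {x : G // x * x = 1} = t + 1 := by
    have hset : (Finset.univ.filter fun x : G => x * x = 1) =
        insert 1 (Finset.univ.filter fun x : G => orderOf x = 2) := by
      ext x
      simp only [Finset.mem_filter, Finset.mem_univ, true_and, Finset.mem_insert,
        orderOf_eq_prime_iff, ← sq]
      constructor
      · intro h; by_cases h1 : x = 1
        · exact Or.inl h1
        · exact Or.inr ⟨h, h1⟩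
      · rintro (rfl | ⟨h, -⟩)
        · simp
        · exact h
    rw [Nat.card_eq_fintype_card, Fintype.card_subtype, hset, Finset.card_insert_of_notMem
      (by simp), ← ht, Nat.card_eq_fintype_card, Fintype.card_subtype]
  set S := Finset.univ.filter fun χ : Cfsg.IrrCharacter G =>
    (χ : G → ℂ) ≠ (fun _ => 1) ∧ ∀ g : G, ((χ : G → ℂ) g).im = 0 with hS
  let d : Cfsg.IrrCharacter G → ℕ := fun χ => Cfsg.charDegree (χ : G → ℂ)
  have hdeg : ∀ χ : Cfsg.IrrCharacter G, (d χ : ℂ) = (χ : G → ℂ) 1 := fun χ =>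
    CfsgLib.CharTools.irr_degree_cast χ
  have hnd : ∀ χ : Cfsg.IrrCharacter G,
      ((CfsgLib.RealChar.fsInd (χ : G → ℂ)) * (χ : G → ℂ) 1).re ≤
        (if ∀ g : G, ((χ : G → ℂ) g).im = 0 then (d χ : ℝ) else 0) := by
    intro χ
    rw [← hdeg χ]
    split_ifs with h
    · rcases CfsgLib.RealChar.fsInd_eq χ.2 with h0 | h0 | h0 <;> rw [h0] <;> simp
    · have h0 : CfsgLib.RealChar.fsInd (χ : G → ℂ) = 0 := by
        by_contra h0
        exact h ((CfsgLib.RealChar.fsInd_ne_zero_iff χ.2).1 h0)
      simp [h0]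
  have htS : (t : ℝ) ≤ ∑ χ ∈ S, (d χ : ℝ) := by
    have h1 := congrArg Complex.re (CfsgLib.RealChar.sum_fsInd_mul_apply (1 : G))
    rw [Complex.re_sum, hroots] at h1
    simp only [Nat.cast_add, Nat.cast_one, Complex.add_re, Complex.natCast_re, Complex.one_re] at h1
    have h2 := Finset.sum_le_sum fun χ (_ : χ ∈ (Finset.univ : Finset (Cfsg.IrrCharacter G))) => hnd χ
    rw [h1, ← Finset.sum_filter, ← Finset.add_sum_erase _ _ (show CfsgLib.Char.principalIrr ∈
      Finset.univ.filter (fun χ : Cfsg.IrrCharacter G => ∀ g : G, ((χ : G → ℂ) g).im = 0) by simp)]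
      at h2
    have hd1 : (d (CfsgLib.Char.principalIrr (G := G)) : ℝ) = 1 := by
      have : d (CfsgLib.Char.principalIrr (G := G)) = 1 := by
        have h0 := hdeg (CfsgLib.Char.principalIrr (G := G))
        rw [CfsgLib.Char.principalIrr_apply] at h0
        exact_mod_cast h0
      exact_mod_cast this
    have hset : (Finset.univ.filter (fun χ : Cfsg.IrrCharacter G =>
        ∀ g : G, ((χ : G → ℂ) g).im = 0)).erase CfsgLib.Char.principalIrr = S := by
      ext χ
      simp only [hS, Finset.mem_erase, Finset.mem_filter, Finset.mem_univ, true_and]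
      exact and_congr_left' (not_congr ⟨fun h => by rw [h]; rfl, fun h => Subtype.ext h⟩)
    rw [hd1, hset] at h2
    linarith
  have hsq : ∑ χ ∈ S, (d χ : ℝ) ^ 2 ≤ (Nat.card G : ℝ) - 1 := by
    have h1 : ∑ χ : Cfsg.IrrCharacter G, d χ ^ 2 = Nat.card G := CfsgLib.Char.sum_degree_sq
    have h1R : ∑ χ : Cfsg.IrrCharacter G, (d χ : ℝ) ^ 2 = (Nat.card G : ℝ) := by exact_mod_cast h1
    have hd1 : (d (CfsgLib.Char.principalIrr (G := G)) : ℝ) = 1 := by
      have : d (CfsgLib.Char.principalIrr (G := G)) = 1 := by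
        have h0 := hdeg (CfsgLib.Char.principalIrr (G := G))
        rw [CfsgLib.Char.principalIrr_apply] at h0
        exact_mod_cast h0
      exact_mod_cast this
    rw [← h1R, ← Finset.add_sum_erase _ _ (Finset.mem_univ (CfsgLib.Char.principalIrr (G := G))),
      hd1, one_pow, add_sub_cancel_left]
    refine Finset.sum_le_sum_of_subset_of_nonneg (fun χ hχ => ?_) fun χ _ _ => sq_nonneg _
    refine Finset.mem_erase.2 ⟨fun h => (Finset.mem_filter.1 hχ).2.1 (by rw [h]; rfl),
      Finset.mem_univ _⟩
  have htR : (0 : ℝ) < (t : ℝ) := by exact_mod_cast htpos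
  constructor
  · by_contra hcon
    push Not at hcon
    haveI : Fintype (ConjClasses G) := Fintype.ofFinite _
    set U := (Finset.univ : Finset (ConjClasses G)).erase (ConjClasses.mk 1) with hU
    have hcl : ∀ C ∈ U, (((Nat.card G : ℝ) - 1) / t) ^ 2 < (Nat.card C.carrier : ℝ) := by
      intro C hC
      induction C using Quotient.inductionOn with
      | h x =>
        have hx : x ≠ 1 := by rintro rfl; exact (Finset.mem_erase.1 hC).1 rfl
        have h2 := hcon x hx
        have h3 : (Subgroup.centralizer ({x} : Set G)).index =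
            Nat.card (ConjClasses.mk x).carrier := by
          rw [CfsgLib.Char.index_centralizer_eq_card_isConj]
          exact Nat.card_congr (Equiv.subtypeEquivRight fun y => by
            rw [ConjClasses.mem_carrier_iff_mk_eq, ConjClasses.mk_eq_mk_iff_isConj]
            exact ⟨fun h => h.symm, fun h => h.symm⟩)
        rw [h3] at h2
        have h4 : ((((Nat.card G : ℚ) - 1) / t) ^ 2 : ℝ) < ((Nat.card (ConjClasses.mk x).carrier : ℚ) : ℝ) := by
          exact_mod_cast h2
        push_cast at h4
        exact h4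
    have hsum : ∑ C ∈ U, (Nat.card C.carrier : ℝ) = (Nat.card G : ℝ) - 1 := by
      have h1 := sum_conjClasses_card_eq_card G
      have h1R : ∑ C : ConjClasses G, (Nat.card C.carrier : ℝ) = (Nat.card G : ℝ) := by
        rw [Nat.card_eq_fintype_card (α := G), ← h1, Nat.cast_sum]
        exact Finset.sum_congr rfl fun C _ => by rw [← Nat.card_eq_card_toFinset]
      rw [← Finset.add_sum_erase _ _ (Finset.mem_univ (ConjClasses.mk (1 : G)))] at h1R
      have hone : Nat.card (ConjClasses.mk (1 : G)).carrier = 1 := by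
        have : (ConjClasses.mk (1 : G)).carrier = {1} := by
          ext y
          rw [ConjClasses.mem_carrier_iff_mk_eq, ConjClasses.mk_eq_mk_iff_isConj,
            isConj_one_left, Set.mem_singleton_iff]
        rw [this]; simp
      rw [hone, Nat.cast_one] at h1R
      rw [hU]
      linarith
    have hne : U.Nonempty := by
      rw [Finset.nonempty_iff_ne_empty]
      intro hemp
      rw [hemp, Finset.sum_empty] at hsum
      have h2 : 2 ≤ Nat.card G := Nat.le_of_dvd Nat.card_pos heven.two_dvd
      have : (2 : ℝ) ≤ (Nat.card G : ℝ) := by exact_mod_cast h2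
      linarith
    have h5 := Finset.sum_lt_sum_of_nonempty hne hcl
    rw [hsum, Finset.sum_const, nsmul_eq_mul] at h5
    have hScard : (S.card : ℝ) ≤ (U.card : ℝ) := by
      have hk := CfsgLib.Char.card_irrCharacter (G := G)
      rw [Nat.card_eq_fintype_card, Nat.card_eq_fintype_card] at hk
      have h7 : S.card ≤ ((Finset.univ : Finset (Cfsg.IrrCharacter G)).erase
          CfsgLib.Char.principalIrr).card := by
        refine Finset.card_le_card fun χ hχ => Finset.mem_erase.2
          ⟨fun h => (Finset.mem_filter.1 hχ).2.1 (by rw [h]; rfl), Finset.mem_univ _⟩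
      rw [Finset.card_erase_of_mem (Finset.mem_univ _), Finset.card_univ, hk,
        ← Finset.card_univ, ← Finset.card_erase_of_mem (Finset.mem_univ (ConjClasses.mk (1 : G))),
        ← hU] at h7
      exact_mod_cast h7
    have hcs := sq_sum_le_card_mul_sum_sq (s := S) (f := fun χ => (d χ : ℝ))
    set g : ℝ := (Nat.card G : ℝ)
    have h8 : (U.card : ℝ) * (g - 1) ^ 2 < (g - 1) * (t : ℝ) ^ 2 := by
      have h9 := mul_lt_mul_of_pos_right h5 (pow_pos htR 2)
      rw [div_pow, mul_assoc, div_mul_cancel₀ _ (pow_ne_zero 2 htR.ne')] at h9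
      exact h9
    have h10 : (t : ℝ) ^ 2 ≤ (U.card : ℝ) * (g - 1) := by
      refine le_trans (pow_le_pow_left₀ htR.le htS 2) (hcs.trans ?_)
      exact mul_le_mul hScard hsq (Finset.sum_nonneg fun χ _ => sq_nonneg _) (Nat.cast_nonneg _)
    have hg : 0 ≤ g - 1 := by
      have : (1 : ℝ) ≤ g := Nat.one_le_cast.2 (Nat.card_pos : 0 < Nat.card G)
      linarith
    have h11 := mul_le_mul_of_nonneg_left h10 hg
    linarith
  · by_contra hcon
    push Not at hcon
    have hne : S.Nonempty := by
      rw [Finset.nonempty_iff_ne_empty]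
      intro hemp
      rw [hemp, Finset.sum_empty] at htS
      linarith
    have hlt : ∀ χ ∈ S, ((Nat.card G : ℝ) - 1) / t * (d χ : ℝ) < (d χ : ℝ) ^ 2 := by
      intro χ hχ
      obtain ⟨-, h1, h2⟩ := Finset.mem_filter.1 hχ
      have h3 := hcon χ h1 h2
      have h4 : ((((Nat.card G : ℚ) - 1) / t : ℚ) : ℝ) < ((d χ : ℚ) : ℝ) := by exact_mod_cast h3
      push_cast at h4
      rw [sq]
      exact mul_lt_mul_of_pos_right h4 (by exact_mod_cast CfsgLib.CharTools.irr_degree_pos χ)
    have h5 := Finset.sum_lt_sum_of_nonempty hne hlt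
    rw [← Finset.mul_sum] at h5
    have hg : 0 ≤ ((Nat.card G : ℝ) - 1) / t := by
      refine div_nonneg ?_ htR.le
      have : (1 : ℝ) ≤ (Nat.card G : ℝ) := by exact_mod_cast (Nat.card_pos : 0 < Nat.card G)
      linarith
    have h6 := mul_le_mul_of_nonneg_left htS hg
    rw [div_mul_cancel₀ _ htR.ne'] at h6
    linarith

end Cfsg.Agent.S4476
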