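import Cfsg.Statements.S4478
import Cfsg.Agent.Lib.RealChar.Trichotomy
import Cfsg.Agent.Lib.CharTools.Basic
import Cfsg.Agent.Lib.Char.DefectZero
import Cfsg.Agent.Lib.Char.Linear

set_option autoImplicit false
open Cfsg

namespace Cfsg.Agent.S4478

/-- Let G be a finite group of even order and χ an irreducible character of G whose degree x is divisible by the full power of 2 dividing the order of G and, for every odd prime p such that G has an element of order 2p, by the full power of p dividing the order of G. Then all involutions of G are conjugate, the centralizer of every involution has order exactly x with x coprime to its index, and the Frobenius–Schur indicator of χ equals 1. -/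
theorem result {G : Type*} [Group G] [Fintype G] (heven : Even (Nat.card G)) (χ : Cfsg.IrrCharacter G) (h2 : 2 ^ (Nat.card G).factorization 2 ∣ Cfsg.charDegree (χ : G → ℂ)) (hp : ∀ p : ℕ, p.Prime → p ≠ 2 → (∃ g : G, orderOf g = 2 * p) → p ^ (Nat.card G).factorization p ∣ Cfsg.charDegree (χ : G → ℂ)) : (∀ s t : G, orderOf s = 2 → orderOf t = 2 → IsConj s t) ∧ (∀ s : G, orderOf s = 2 → Nat.card (Subgroup.centralizer ({s} : Set G)) = Cfsg.charDegree (χ : G → ℂ) ∧ (Nat.card (Subgroup.centralizer ({s} : Set G))).Coprime (Subgroup.centralizer ({s} : Set G)).index) ∧ (Nat.card G : ℂ)⁻¹ * ∑ g : G, (χ : G → ℂ) (g * g) = 1 := by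
  classical
  haveI := Fintype.ofFinite (ConjClasses G)
  obtain ⟨n, ρ, hρ, hρχ⟩ := χ.2
  haveI := hρ
  have hfin : Module.finrank ℂ (Fin n → ℂ) = Cfsg.charDegree (χ : G → ℂ) := by
    rw [← hρχ]; simp [Cfsg.charDegree]
  set x := Cfsg.charDegree (χ : G → ℂ) with hxdef
  have hx1 : (x : ℂ) = (χ : G → ℂ) 1 := CfsgLib.CharTools.irr_degree_cast χ
  have hvan : ∀ p : ℕ, p.Prime → p ^ (Nat.card G).factorization p ∣ x → ∀ g : G, p ∣ orderOf g →
      (χ : G → ℂ) g = 0 := by
    intro p hpp hfull g hg
    rw [← hρχ]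
    refine CfsgLib.Char.character_eq_zero_of_defect_zero ρ hpp
      (n := (Nat.card G).factorization p) (Nat.ordProj_dvd _ _) ?_ (hfin.symm ▸ hfull) g hg
    exact Nat.pow_succ_factorization_not_dvd Nat.card_pos.ne' hpp
  -- primes of centralizers of involutions have full part in the degree
  have hprimes : ∀ s : G, orderOf s = 2 → ∀ p : ℕ, p.Prime →
      p ∣ Nat.card (Subgroup.centralizer ({s} : Set G)) → p ^ (Nat.card G).factorization p ∣ x := by
    intro s hs p hpp hpd
    by_cases hp2 : p = 2
    · exact hp2 ▸ h2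
    haveI := Fact.mk hpp
    obtain ⟨y, hy⟩ := exists_prime_orderOf_dvd_card' (G := Subgroup.centralizer ({s} : Set G)) p hpd
    refine hp p hpp hp2 ⟨s * (y : G), ?_⟩
    have hc : Commute s (y : G) := (Subgroup.mem_centralizer_singleton_iff.1 y.2).symm
    rw [hc.orderOf_mul_eq_mul_orderOf_of_coprime (by
      rw [hs, Subgroup.orderOf_coe, hy]
      exact (Nat.coprime_primes Nat.prime_two hpp).2 (Ne.symm hp2)), hs, Subgroup.orderOf_coe, hy]
  have hdvd : ∀ s : G, orderOf s = 2 → Nat.card (Subgroup.centralizer ({s} : Set G)) ∣ x := by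
    intro s hs
    have hx0 : x ≠ 0 := (CfsgLib.CharTools.irr_degree_pos χ).ne'
    rw [← Nat.factorization_le_iff_dvd Nat.card_pos.ne' hx0]
    intro p
    by_cases hpp : p.Prime
    · by_cases hpd : p ∣ Nat.card (Subgroup.centralizer ({s} : Set G))
      · refine le_trans ?_ ((hpp.pow_dvd_iff_le_factorization hx0).1 (hprimes s hs p hpp hpd))
        exact (Nat.factorization_le_iff_dvd Nat.card_pos.ne' Nat.card_pos.ne').2
          (Subgroup.card_subgroup_dvd_card _) p
      · rw [Nat.factorization_eq_zero_of_not_dvd hpd]; exact Nat.zero_le _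
    · rw [Nat.factorization_eq_zero_of_not_prime _ hpp]; exact Nat.zero_le _
  have hxeven : 2 ∣ x :=
    (dvd_pow_self 2 (Nat.Prime.factorization_pos_of_dvd Nat.prime_two Nat.card_pos.ne'
      heven.two_dvd).ne').trans h2
  -- the sum of the character over squares
  set I := Finset.univ.filter fun s : G => orderOf s = 2 with hI
  have hsum : ∑ g : G, (χ : G → ℂ) (g * g) = (I.card : ℂ) * (x : ℂ) := by
    have hodd_sum : ∑ g ∈ Finset.univ.filter (fun g : G => Odd (orderOf g)), (χ : G → ℂ) g = 0 := by
      have hne : (χ : G → ℂ) ≠ fun _ => 1 := fun h => by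
        have h1 : (x : ℂ) = 1 := by rw [hx1, h]
        rw [Nat.cast_eq_one] at h1
        rw [h1] at hxeven
        omega
      have h0 := CfsgLib.Char.classInner_irr_of_ne χ.2
        CfsgLib.Char.isIrrCharacter_principal hne
      simp only [Cfsg.classInner, map_one, mul_one, mul_eq_zero, inv_eq_zero, Nat.cast_eq_zero,
        Nat.card_pos.ne', false_or] at h0
      rw [← h0]
      refine Finset.sum_subset (Finset.filter_subset _ _) fun g _ hg => ?_
      simp only [Finset.mem_filter, Finset.mem_univ, true_and, Nat.not_odd_iff_even] at hg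
      exact hvan 2 Nat.prime_two h2 g hg.two_dvd
    rw [← Finset.sum_filter_add_sum_filter_not Finset.univ (fun g : G => Odd (orderOf g))]
    have hA : ∑ g ∈ Finset.univ.filter (fun g : G => Odd (orderOf g)), (χ : G → ℂ) (g * g) = 0 := by
      rw [← hodd_sum]
      refine Finset.sum_nbij' (fun g => g * g) (fun g => g ^ ((orderOf g + 1) / 2)) ?_ ?_ ?_ ?_
        (fun g _ => rfl)
      · intro g hg
        simp only [Finset.mem_filter, Finset.mem_univ, true_and] at hg ⊢
        rw [← sq, Nat.Coprime.orderOf_pow (Nat.Coprime.symm (Nat.coprime_two_left.2 hg)).symm.symm]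
        exact hg
      · intro g hg
        simp only [Finset.mem_filter, Finset.mem_univ, true_and] at hg ⊢
        exact hg.of_dvd_nat (orderOf_pow_dvd _)
      · intro g hg
        simp only [Finset.mem_filter, Finset.mem_univ, true_and] at hg
        obtain ⟨j, hj⟩ := hg
        have ho : orderOf (g * g) = orderOf g := by
          rw [← sq]
          exact Nat.Coprime.orderOf_pow (Nat.Coprime.symm (Nat.coprime_two_left.2 ⟨j, hj⟩))
        show (g * g) ^ ((orderOf (g * g) + 1) / 2) = g
        rw [ho, hj, show (2 * j + 1 + 1) / 2 = j + 1 by omega, ← sq, ← pow_mul,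
          show 2 * (j + 1) = orderOf g + 1 by omega, pow_succ, pow_orderOf_eq_one, one_mul]
      · intro g hg
        simp only [Finset.mem_filter, Finset.mem_univ, true_and] at hg
        obtain ⟨j, hj⟩ := hg
        show g ^ ((orderOf g + 1) / 2) * g ^ ((orderOf g + 1) / 2) = g
        rw [hj, show (2 * j + 1 + 1) / 2 = j + 1 by omega, ← pow_add,
          show j + 1 + (j + 1) = orderOf g + 1 by omega, pow_succ, pow_orderOf_eq_one, one_mul]
    rw [hA, zero_add]
    have hB : ∀ g : G, ¬ Odd (orderOf g) → (χ : G → ℂ) (g * g) =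
        if orderOf g = 2 then (x : ℂ) else 0 := by
      intro g hg
      split_ifs with ho
      · rw [hx1, show g * g = 1 by rw [← sq, ← ho]; exact pow_orderOf_eq_one g]
      · rw [Nat.not_odd_iff_even] at hg
        obtain ⟨m, hm⟩ := hg.two_dvd
        have hog : orderOf (g * g) = m := by
          rw [← sq, orderOf_pow_of_dvd (by norm_num) ⟨m, hm⟩, hm, Nat.mul_div_cancel_left _ two_pos]
        have hm1 : m ≠ 1 := fun h => ho (by rw [hm, h, mul_one])
        obtain ⟨p, hpp, hpm⟩ := Nat.exists_prime_and_dvd hm1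
        refine hvan p hpp ?_ _ (hog.symm ▸ hpm)
        by_cases hp2 : p = 2
        · exact hp2 ▸ h2
        refine hp p hpp hp2 ⟨g ^ (m / p), ?_⟩
        obtain ⟨c, hc⟩ := hpm
        have hc0 : c ≠ 0 := fun h => (orderOf_pos g).ne' (by rw [hm, hc, h, mul_zero, mul_zero])
        rw [hc, Nat.mul_div_cancel_left _ hpp.pos, orderOf_pow_of_dvd hc0 ⟨2 * p, by rw [hm, hc]; ring⟩,
          hm, hc, show 2 * (p * c) = 2 * p * c by ring, Nat.mul_div_cancel _ (Nat.pos_of_ne_zero hc0)]
    rw [Finset.sum_congr rfl (fun g hg => hB g (Finset.mem_filter.1 hg).2), Finset.sum_ite,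
      Finset.sum_const_zero, add_zero, Finset.sum_const, nsmul_eq_mul, hI, Finset.filter_filter]
    congr 3
    refine Finset.filter_congr fun g _ => ⟨fun h => h.2, fun h => ⟨by rw [h]; decide, h⟩⟩
  have hxpos := CfsgLib.CharTools.irr_degree_pos χ
  have hGpos : (0 : ℕ) < Nat.card G := Nat.card_pos
  obtain ⟨s₀, hs₀⟩ := exists_prime_orderOf_dvd_card' (G := G) 2 heven.two_dvd
  have hIpos : 0 < I.card := Finset.card_pos.2 ⟨s₀, by simp [hI, hs₀]⟩
  have hGne : (Nat.card G : ℂ) ≠ 0 := by exact_mod_cast hGpos.ne'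
  have hν : (Nat.card G : ℂ)⁻¹ * ∑ g : G, (χ : G → ℂ) (g * g) = 1 := by
    have hne : CfsgLib.RealChar.fsInd (χ : G → ℂ) ≠ 0 := by
      show (Nat.card G : ℂ)⁻¹ * ∑ g : G, (χ : G → ℂ) (g * g) ≠ 0
      rw [hsum]
      exact mul_ne_zero (inv_ne_zero hGne) (mul_ne_zero (by exact_mod_cast hIpos.ne')
        (by exact_mod_cast hxpos.ne'))
    rcases CfsgLib.RealChar.fsInd_eq χ.2 with h | h | h
    · exact absurd h hne
    · exact h
    · exfalso
      change (Nat.card G : ℂ)⁻¹ * ∑ g : G, (χ : G → ℂ) (g * g) = -1 at h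
      rw [hsum, inv_mul_eq_iff_eq_mul₀ hGne] at h
      have h' : ((I.card * x + Nat.card G : ℕ) : ℂ) = 0 := by push_cast; rw [h]; ring
      rw [Nat.cast_eq_zero] at h'
      omega
  have hcard : Nat.card G = I.card * x := by
    have h := hν
    rw [hsum, inv_mul_eq_iff_eq_mul₀ hGne, mul_one] at h
    exact_mod_cast h.symm
  have hkey : ∀ s : G, orderOf s = 2 →
      Nat.card (Subgroup.centralizer ({s} : Set G)) = x ∧ ∀ y, orderOf y = 2 → IsConj s y := by
    intro s hs
    have hle := Nat.le_of_dvd hxpos (hdvd s hs)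
    have hmi := (Subgroup.centralizer ({s} : Set G)).card_mul_index
    set Cl := Finset.univ.filter (fun y : G => IsConj s y) with hCl
    have hidx : (Subgroup.centralizer ({s} : Set G)).index = Cl.card := by
      rw [CfsgLib.Char.index_centralizer_eq_card_isConj, Nat.card_eq_fintype_card,
        Fintype.card_subtype]
    have hsub : Cl ⊆ I := by
      intro y hy
      obtain ⟨c, hc⟩ := isConj_iff.1 (Finset.mem_filter.1 hy).2
      refine Finset.mem_filter.2 ⟨Finset.mem_univ _, ?_⟩
      rw [← hc, show c * s * c⁻¹ = MulAut.conj c s from rfl, MulEquiv.orderOf_eq, hs]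
    have hle2 := Finset.card_le_card hsub
    rw [hidx, hcard] at hmi
    have hclpos : 0 < Cl.card := Finset.card_pos.2 ⟨s, Finset.mem_filter.2 ⟨Finset.mem_univ _, IsConj.refl s⟩⟩
    have heq : Cl.card = I.card := by
      refine le_antisymm hle2 (Nat.le_of_mul_le_mul_right ?_ hxpos)
      calc I.card * x = Nat.card (Subgroup.centralizer ({s} : Set G)) * Cl.card := hmi.symm
        _ ≤ x * Cl.card := Nat.mul_le_mul_right _ hle
        _ = Cl.card * x := mul_comm _ _
    refine ⟨?_, fun y hy => ?_⟩
    · rw [heq, mul_comm (Nat.card _)] at hmi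
      exact Nat.eq_of_mul_eq_mul_left hIpos hmi
    · have hy' : y ∈ Cl := by
        rw [Finset.eq_of_subset_of_card_le hsub heq.ge]
        exact Finset.mem_filter.2 ⟨Finset.mem_univ _, hy⟩
      exact (Finset.mem_filter.1 hy').2
  refine ⟨fun s t hs ht => (hkey s hs).2 t ht, fun s hs => ⟨(hkey s hs).1, ?_⟩, hν⟩
  refine Nat.coprime_of_dvd fun p hpp hp1 hp2 => ?_
  have hfull := hprimes s hs p hpp hp1
  rw [← (hkey s hs).1] at hfull
  have h3 := mul_dvd_mul hfull hp2
  rw [(Subgroup.centralizer ({s} : Set G)).card_mul_index, ← pow_succ] at h3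
  exact Nat.pow_succ_factorization_not_dvd Nat.card_pos.ne' hpp h3

end Cfsg.Agent.S4478
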