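import Cfsg.Statements.S4483
import Cfsg.Agent.Lib.BlockReg.Bounds
import Cfsg.Agent.Lib.Char.Linear

set_option autoImplicit false
open Cfsg

namespace Cfsg.Agent.S4483
open CfsgLib.BlockReg
open scoped ComplexConjugate

/-- Let G be a finite group of order 2^n·g₀ with g₀ odd, and M a maximal ideal of the algebraic integers containing 2. Every real-valued irreducible character of G of odd degree lies in the principal 2-block; consequently G has at most 2^(2n) real-valued irreducible characters of odd degree. -/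
theorem result {G : Type*} [Group G] [Finite G] (M : Ideal Cfsg.AlgInt) (hM : Cfsg.IsPModular 2 M) : (∀ χ : Cfsg.IrrCharacter G, (∀ g : G, ((χ : G → ℂ) g).im = 0) → Odd (Cfsg.charDegree (χ : G → ℂ)) → χ ∈ Cfsg.principalBlock M G) ∧ Nat.card {χ : Cfsg.IrrCharacter G // (∀ g : G, ((χ : G → ℂ) g).im = 0) ∧ Odd (Cfsg.charDegree (χ : G → ℂ))} ≤ 2 ^ (2 * (Nat.card G).factorization 2) := by
  classical
  haveI := Fintype.ofFinite G
  haveI : Fact (Nat.Prime 2) := ⟨Nat.prime_two⟩
  have hprinc : Cfsg.IsPBlock M (Cfsg.principalBlock M G) :=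
    ⟨CfsgLib.Char.principalIrr, rfl⟩
  have part1 : ∀ χ : Cfsg.IrrCharacter G, (∀ g : G, ((χ : G → ℂ) g).im = 0) →
      Odd (Cfsg.charDegree (χ : G → ℂ)) → χ ∈ Cfsg.principalBlock M G := by
    intro χ hreal hodd
    by_contra hnot
    have hzero := classInner_tilde_eq_zero hM (isPBlock_blockOf χ) (sameBlock_refl hM _)
      (ψ := CfsgLib.Char.principalIrr) (fun h => hnot (sameBlock_symm h))
    have hsum : ∑ g ∈ Finset.univ.filter (fun g : G => ¬ 2 ∣ orderOf g), (χ : G → ℂ) g = 0 := by
      rw [Cfsg.classInner] at hzero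
      have h0 : (Nat.card G : ℂ)⁻¹ ≠ 0 := inv_ne_zero (by exact_mod_cast Nat.card_pos.ne')
      have h2 := (mul_eq_zero.1 hzero).resolve_left h0
      have hp2 : (((2 ^ (Nat.card G).factorization 2 : ℕ)) : ℂ) ≠ 0 := by
        exact_mod_cast pow_ne_zero _ two_ne_zero
      rw [← mul_right_inj' hp2, mul_zero, ← h2, Finset.mul_sum, Finset.sum_filter]
      refine Finset.sum_congr rfl fun g _ => ?_
      rw [CfsgLib.Char.principalIrr_apply, map_one, mul_one, tilde]
      split_ifs <;> rfl
    set O := localSubring hM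
    haveI := isPrime_localIdeal hM
    let red : O →+* O ⧸ localIdeal hM := Ideal.Quotient.mk _
    let f : G → O ⧸ localIdeal hM := fun g => red ⟨(χ : G → ℂ) g, memRing_char hM χ g⟩
    have h2 : (2 : O ⧸ localIdeal hM) = 0 := by
      have : ((2 : ℕ) : O) ∈ localIdeal hM := by
        show Cfsg.MemLocalIdeal M _
        rw [show (((2 : ℕ) : O) : ℂ) = ((2 : ℕ) : ℂ) from map_natCast O.subtype 2]
        exact (memIdeal_natCast_iff hM 2).2 dvd_rfl
      have := Ideal.Quotient.eq_zero_iff_mem.2 this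
      rwa [map_natCast] at this
    set R := Finset.univ.filter (fun g : G => ¬ 2 ∣ orderOf g) with hR
    have hrest : ∑ g ∈ R.erase 1, f g = 0 := by
      refine Finset.sum_involution (fun g _ => g⁻¹) (fun g _ => ?_) (fun g hg _ => ?_)
        (fun g hg => ?_) (fun g _ => inv_inv g)
      · have : f g⁻¹ = f g := by
          simp only [f]
          congr 2
          rw [char_inv]
          exact Complex.conj_eq_iff_im.2 (hreal g)
        rw [this, ← two_mul, h2, zero_mul]
      · intro h
        rw [Finset.mem_erase, hR, Finset.mem_filter] at hg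
        have h22 : g ^ 2 = 1 := by
          rw [sq]
          calc g * g = g⁻¹ * g := by rw [h]
            _ = 1 := inv_mul_cancel g
        rcases (Nat.dvd_prime Nat.prime_two).1 (orderOf_dvd_of_pow_eq_one h22) with h3 | h3
        · exact hg.1 (orderOf_eq_one_iff.1 h3)
        · exact hg.2.2 (by rw [h3])
      · rw [Finset.mem_erase, hR, Finset.mem_filter] at hg ⊢
        exact ⟨inv_ne_one.2 hg.1, Finset.mem_univ _, by rw [orderOf_inv]; exact hg.2.2⟩
    have h1R : (1 : G) ∈ R := by simp [hR]
    have htot : ∑ g ∈ R, f g = 0 := by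
      simp only [f]
      rw [← map_sum, Ideal.Quotient.eq_zero_iff_mem]
      have : ∑ g ∈ R, (⟨(χ : G → ℂ) g, memRing_char hM χ g⟩ : O) = 0 := by
        apply Subtype.ext
        rw [AddSubmonoidClass.coe_finsetSum]
        exact hsum
      rw [this]
      exact Ideal.zero_mem _
    rw [← Finset.add_sum_erase R f h1R, hrest, add_zero] at htot
    have hI : Cfsg.MemLocalIdeal M ((χ : G → ℂ) 1) := Ideal.Quotient.eq_zero_iff_mem.1 htot
    rw [← deg_cast, memIdeal_natCast_iff hM] at hI
    exact (Nat.not_even_iff_odd.2 hodd) (even_iff_two_dvd.2 hI)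
  refine ⟨part1, ?_⟩
  set k := Nat.card (Cfsg.principalBlock M G) with hk
  have hle : Nat.card {χ : Cfsg.IrrCharacter G // (∀ g : G, ((χ : G → ℂ) g).im = 0) ∧
      Odd (Cfsg.charDegree (χ : G → ℂ))} ≤ k :=
    Nat.card_le_card_of_injective
      (fun χ => (⟨χ.1, part1 χ.1 χ.2.1 χ.2.2⟩ : Cfsg.principalBlock M G))
      (fun a b h => Subtype.ext (congrArg (fun z : Cfsg.principalBlock M G => (z : Cfsg.IrrCharacter G)) h))
  have hbf : 4 * k ≤ 2 ^ (2 * Cfsg.blockDefect 2 (Cfsg.principalBlock M G)) + 4 :=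
    brauer_feit hM hprinc
  have hd : Cfsg.blockDefect 2 (Cfsg.principalBlock M G) ≤ (Nat.card G).factorization 2 :=
    Nat.sub_le _ _
  have hpow : 2 ^ (2 * Cfsg.blockDefect 2 (Cfsg.principalBlock M G)) ≤
      2 ^ (2 * (Nat.card G).factorization 2) :=
    Nat.pow_le_pow_right (by norm_num) (by omega)
  have h1 : 1 ≤ 2 ^ (2 * (Nat.card G).factorization 2) := Nat.one_le_two_pow
  omega

end Cfsg.Agent.S4483
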