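import Cfsg.Statements.S4500
import Cfsg.Agent.S4710
import Cfsg.Agent.Lib.Blocks.Section
import Cfsg.Agent.Lib.Blocks.Osima
import Cfsg.Agent.Lib.Char.DefectZero
import Cfsg.Agent.Lib.CharTools.Basic

set_option autoImplicit false
open Cfsg

namespace Cfsg.Agent.S4500

open CfsgLib CfsgLib.Blocks
open scoped Classical

/-- If an integer sum over a block of weights `χ(1) * f χ` is zero and `f` is one at the principal
character, some other degree is prime to `r`. -/
theorem exists_not_dvd_of_sum_eq_zero {G : Type*} [Group G] [Finite G] {r : ℕ} (hr : r.Prime)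
    (s : Finset (IrrCharacter G)) (h1 : CfsgLib.Char.principalIrr ∈ s) (g : G)
    (hsum : ∑ χ ∈ s, (χ : G → ℂ) 1 * (χ : G → ℂ) g = 0) :
    ∃ χ ∈ s, (χ : G → ℂ) ≠ (fun _ => 1) ∧ ¬ r ∣ charDegree (χ : G → ℂ) := by
  by_contra hno
  push Not at hno
  rw [← Finset.add_sum_erase _ _ h1, CfsgLib.Char.principalIrr_apply,
    CfsgLib.Char.principalIrr_apply, one_mul] at hsum
  obtain ⟨z, hz, hzs⟩ : ∃ z : ℂ, IsIntegral ℤ z ∧
      ∑ χ ∈ s.erase CfsgLib.Char.principalIrr, (χ : G → ℂ) 1 * (χ : G → ℂ) g = (r : ℂ) * z := by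
    have hq : ∀ χ ∈ s.erase CfsgLib.Char.principalIrr, ∃ q : ℕ, charDegree (χ : G → ℂ) = r * q := by
      intro χ hχ
      obtain ⟨hne, hm⟩ := Finset.mem_erase.1 hχ
      exact hno χ hm fun e => hne (Subtype.ext e)
    choose q hq using hq
    refine ⟨∑ χ ∈ (s.erase CfsgLib.Char.principalIrr).attach,
      (q χ.1 χ.2 : ℂ) * (χ.1 : G → ℂ) g, ?_, ?_⟩
    · refine IsIntegral.sum _ fun χ _ => ?_
      obtain ⟨n, ρ, -, hρ⟩ := χ.1.2
      rw [← hρ]
      exact (IsIntegral.algebraMap (x := (q χ.1 χ.2 : ℤ)) isIntegral_algebraMap).mul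
        (CfsgLib.Char.isIntegral_character ρ g)
    · rw [Finset.mul_sum, ← Finset.sum_attach]
      refine Finset.sum_congr rfl fun χ _ => ?_
      rw [← CharTools.irr_degree_cast, hq χ.1 χ.2, Nat.cast_mul, mul_assoc]
  rw [hzs] at hsum
  have hr0 : (r : ℂ) ≠ 0 := Nat.cast_ne_zero.2 hr.ne_zero
  have hzr : z = ((-1 / r : ℚ) : ℂ) := by
    push_cast
    rw [eq_div_iff hr0]
    linear_combination hsum
  rw [hzr] at hz
  obtain ⟨k, hk⟩ := IsIntegrallyClosed.isIntegral_iff.1
    ((isIntegral_algebraMap_iff (B := ℂ) (algebraMap ℚ ℂ).injective).1 hz)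
  have hk' : (k : ℚ) * r = -1 := by
    rw [show (k : ℚ) = -1 / r from hk]
    exact div_mul_cancel₀ _ (Nat.cast_ne_zero.2 hr.ne_zero)
  have h3 : (r : ℤ) ∣ 1 := ⟨-k, by
    have : (k : ℤ) * r = -1 := by exact_mod_cast hk'
    linarith⟩
  exact hr.ne_one (Nat.dvd_one.1 (Int.natCast_dvd_natCast.1 h3))

theorem exists_q_power {G : Type*} [Group G] [Finite G] [Nontrivial G] (p q r a b c : ℕ)
    (hp : p.Prime) (hq : q.Prime) (hr : r.Prime) (hpq : p ≠ q) (hpr : p ≠ r) (hqr : q ≠ r)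
    (ha : a ≤ 2) (hG : Nat.card G = p ^ a * q ^ b * r ^ c) :
    ∃ χ : IrrCharacter G, (χ : G → ℂ) ≠ (fun _ => 1) ∧ ∃ k : ℕ, charDegree (χ : G → ℂ) = q ^ k := by
  suffices h : ∃ χ : IrrCharacter G, (χ : G → ℂ) ≠ (fun _ => 1) ∧
      ¬ p ∣ charDegree (χ : G → ℂ) ∧ ¬ r ∣ charDegree (χ : G → ℂ) by
    obtain ⟨χ, hne, hχp, hχr⟩ := h
    refine ⟨χ, hne, ?_⟩
    have hd := CharTools.degree_dvd_card χ
    rw [hG, mul_assoc] at hd
    have hd1 := (Nat.Coprime.pow_right a ((hp.coprime_iff_not_dvd.2 hχp).symm)).dvd_of_dvd_mul_left hd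
    have hd2 := (Nat.Coprime.pow_right c ((hr.coprime_iff_not_dvd.2 hχr).symm)).dvd_of_dvd_mul_right hd1
    obtain ⟨k, -, hk⟩ := (Nat.dvd_prime_pow hq).1 hd2
    exact ⟨k, hk⟩
  haveI := Fact.mk hp
  haveI := Fintype.ofFinite G
  by_cases hdp : p ∣ Nat.card G
  · obtain ⟨x, hx⟩ := exists_prime_orderOf_dvd_card' p hdp
    obtain ⟨M, hM⟩ := CfsgLib.Char.exists_pModular hp
    haveI := hM.2.1
    set B := principalBlock M G
    have hB : IsPBlock M B := isPBlock_principalBlock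
    have hP1 : IsPPart p (1 : G) 1 := by
      refine ⟨1, mul_one 1, Commute.refl 1, ⟨0, by rw [pow_zero, orderOf_one]⟩, ?_⟩
      rw [orderOf_one]; exact hp.not_dvd_one
    have hPx : IsPPart p x⁻¹ x⁻¹ := by
      refine ⟨1, mul_one _, Commute.one_right _, ⟨1, by rw [pow_one, orderOf_inv, hx]⟩, ?_⟩
      rw [orderOf_one]; exact hp.not_dvd_one
    have hne : ¬ IsConj (1 : G) x⁻¹ := by
      intro hc
      rw [isConj_one_right, inv_eq_one] at hc
      rw [hc, orderOf_one] at hx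
      exact hp.ne_one hx.symm
    have key := block_orthogonality_section hp hM.2.2 hB hP1 hPx hne
    rw [finsum_mem_eq_finite_toFinset_sum _ (Set.toFinite _)] at key
    simp only [inv_inv] at key
    obtain ⟨χ, hχ, hne1, hr'⟩ := exists_not_dvd_of_sum_eq_zero hr (Set.toFinite B).toFinset
      ((Set.Finite.mem_toFinset _).2 principalIrr_mem_principalBlock) x key
    rw [Set.Finite.mem_toFinset] at hχ
    refine ⟨χ, hne1, ?_, hr'⟩
    have hmin : sInf ((fun ψ : IrrCharacter G =>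
        (charDegree (ψ : G → ℂ)).factorization p) '' B) = 0 := by
      refine Nat.sInf_eq_zero.2 (Or.inl ⟨_, principalIrr_mem_principalBlock, ?_⟩)
      show (charDegree (fun _ : G => (1 : ℂ))).factorization p = 0
      simp [CharTools.charDegree_principal]
    have hd : blockDefect p B = (Nat.card G).factorization p := by
      rw [blockDefect, hmin, Nat.sub_zero]
    have hle : (Nat.card G).factorization p ≤ 2 := by
      by_contra h3
      have h4 : p ^ (a + 1) ∣ p ^ a * (q ^ b * r ^ c) := by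
        rw [← mul_assoc, ← hG]
        exact (pow_dvd_pow p (by omega)).trans (Nat.ordProj_dvd _ _)
      rw [pow_succ] at h4
      have h5 : p ∣ q ^ b * r ^ c := Nat.dvd_of_mul_dvd_mul_left (pow_pos hp.pos a) h4
      rcases hp.dvd_mul.1 h5 with h6 | h6
      · exact hpq ((Nat.prime_dvd_prime_iff_eq hp hq).1 (hp.dvd_of_dvd_pow h6))
      · exact hpr ((Nat.prime_dvd_prime_iff_eq hp hr).1 (hp.dvd_of_dvd_pow h6))
    have h0 : blockHeight p B (χ : G → ℂ) = 0 := by
      have h1 := (Cfsg.Agent.S4710.result p M hM B hB _ hd).2 χ hχ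
      rcases Nat.lt_or_ge ((Nat.card G).factorization p) 2 with h2 | h2
      · exact h1.1 (by omega)
      · have := h1.2 h2
        omega
    rw [blockHeight, hmin, Nat.sub_zero] at h0
    intro hd'
    have := hp.factorization_pos_of_dvd (CharTools.irr_degree_pos χ).ne' hd'
    omega
  · obtain ⟨g, hg⟩ := exists_ne (1 : G)
    have hsum : ∑ χ : IrrCharacter G, (χ : G → ℂ) 1 * (χ : G → ℂ) g = 0 := by
      rw [CfsgLib.Char.sum_apply_one_mul, if_neg hg]
    obtain ⟨χ, -, hne1, hr'⟩ := exists_not_dvd_of_sum_eq_zero hr Finset.univ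
      (Finset.mem_univ _) g hsum
    exact ⟨χ, hne1, fun hd => hdp (hd.trans (CharTools.degree_dvd_card χ)), hr'⟩

end Cfsg.Agent.S4500

namespace Cfsg.Agent.S4500

/-- Let G be a non-trivial finite group of order p^a · q^b · r^c with p, q, r distinct primes and a ≤ 2. Then G has a non-principal irreducible character whose degree is a power of q, and a non-principal irreducible character whose degree is a power of r; the power may be the zeroth, so a non-principal linear character serves for both. -/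
theorem result {G : Type*} [Group G] [Finite G] [Nontrivial G] (p q r a b c : ℕ) (hp : p.Prime) (hq : q.Prime) (hr : r.Prime) (hpq : p ≠ q) (hpr : p ≠ r) (hqr : q ≠ r) (ha : a ≤ 2) (hG : Nat.card G = p ^ a * q ^ b * r ^ c) : (∃ χ : Cfsg.IrrCharacter G, (χ : G → ℂ) ≠ (fun _ => 1) ∧ ∃ k : ℕ, Cfsg.charDegree (χ : G → ℂ) = q ^ k) ∧ ∃ χ : Cfsg.IrrCharacter G, (χ : G → ℂ) ≠ (fun _ => 1) ∧ ∃ k : ℕ, Cfsg.charDegree (χ : G → ℂ) = r ^ k := by
  exact ⟨exists_q_power p q r a b c hp hq hr hpq hpr hqr ha hG,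
    exists_q_power p r q a c b hp hr hq hpr hpq hqr.symm ha (by rw [hG]; ring)⟩

end Cfsg.Agent.S4500
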