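import Cfsg.Statements.S4484
import Cfsg.Agent.Lib.DefectOne.EigenCount
import Cfsg.Agent.S4500
import Mathlib.GroupTheory.PGroup

set_option autoImplicit false
open Cfsg CfsgLib CfsgLib.DefectOne CfsgLib.Blocks

namespace Cfsg.Agent.S4484

open CfsgLib CfsgLib.DefectOne CfsgLib.Blocks
open scoped Classical

theorem normSq_zc_sub_lt {p : ℕ} [Fact p.Prime] (a b : ZMod p)
    (h1 : 6 * a.val < 6 * b.val + p) (h2 : 6 * b.val < 6 * a.val + p) :
    Complex.normSq (zc p (a - b) - 1) < 1 := by
  have hp : (0 : ℝ) < p := Nat.cast_pos.2 (Fact.out : p.Prime).pos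
  set θ : ℝ := 2 * Real.pi * (((a.val : ℝ) - b.val) / p) with hθ
  have hz : zc p (a - b) = Complex.exp (θ * Complex.I) := by
    have h3 : zc p (a - b) * zc p b = zc p a := by
      rw [← AddChar.map_add_eq_mul, sub_add_cancel]
    rw [zc_apply b, zc_apply a, zeta, ← Complex.exp_nat_mul, ← Complex.exp_nat_mul,
      ← eq_div_iff (Complex.exp_ne_zero _), ← Complex.exp_sub] at h3
    rw [h3, hθ]
    congr 1
    push_cast
    ring
  have hlt : |θ| < Real.pi / 3 := by
    have h1' : 6 * (a.val : ℝ) < 6 * b.val + p := by exact_mod_cast h1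
    have h2' : 6 * (b.val : ℝ) < 6 * a.val + p := by exact_mod_cast h2
    have h4 : |((a.val : ℝ) - b.val) / p| < 1 / 6 := by
      rw [abs_lt, lt_div_iff₀ hp, div_lt_iff₀ hp]
      constructor <;> linarith
    rw [hθ, abs_mul, abs_of_pos Real.two_pi_pos]
    nlinarith [Real.pi_pos, abs_nonneg (((a.val : ℝ) - b.val) / p)]
  have hcos : 1 / 2 < Real.cos θ := by
    rw [← Real.cos_abs θ, ← Real.cos_pi_div_three]
    exact Real.cos_lt_cos_of_nonneg_of_le_pi (abs_nonneg θ) (by linarith [Real.pi_pos]) hlt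
  rw [hz, Complex.exp_mul_I, Complex.normSq_apply]
  simp only [Complex.sub_re, Complex.sub_im, Complex.add_re, Complex.add_im, Complex.mul_re,
    Complex.mul_im, Complex.one_re, Complex.one_im, Complex.I_re, Complex.I_im,
    Complex.cos_ofReal_re, Complex.cos_ofReal_im, Complex.sin_ofReal_re, Complex.sin_ofReal_im]
  ring_nf
  nlinarith [Real.sin_sq_add_cos_sq θ]

end Cfsg.Agent.S4484

namespace Cfsg.Agent.S4484

/-- A refinement of Burnside's result on simple groups of order divisible by only two primes. Let G be a finite simple group of order p^a · q^b · g₀ with p, q distinct primes, a > 0, g₀ coprime to p and q, and the order of G different from p. Then g₀ − 1 > log p / log 6, that is 6^(g₀ − 1) > p. -/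
theorem result {G : Type*} [Group G] [Finite G] [IsSimpleGroup G] (p q a b g₀ : ℕ) (hp : p.Prime) (hq : q.Prime) (hpq : p ≠ q) (ha : 0 < a) (hg : Nat.card G = p ^ a * q ^ b * g₀) (hcop : ¬ p ∣ g₀) (hcoq : ¬ q ∣ g₀) (hne : Nat.card G ≠ p) : p < 6 ^ (g₀ - 1) := by
  classical
  by_contra hlt
  push Not at hlt
  haveI := Fact.mk hp
  haveI := Fintype.ofFinite G
  have hpG : p ∣ Nat.card G := by
    rw [hg, mul_assoc]
    exact (dvd_pow_self p ha.ne').mul_right _
  -- an element of order `p` in the centre of a Sylow subgroup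
  let P : Sylow p G := default
  have hPne : Nontrivial (P : Subgroup G) := by
    rw [← Finite.one_lt_card_iff_nontrivial]
    exact lt_of_lt_of_le hp.one_lt (Nat.le_of_dvd Nat.card_pos (P.dvd_card_of_dvd_card hpG))
  haveI hZ : Nontrivial (Subgroup.center (P : Subgroup G)) := P.isPGroup'.center_nontrivial
  have hdZ : p ∣ Nat.card (Subgroup.center (P : Subgroup G)) := by
    obtain ⟨j, hj⟩ := IsPGroup.iff_card.1 (P.isPGroup'.to_subgroup (Subgroup.center (P : Subgroup G)))
    have := Finite.one_lt_card (α := Subgroup.center (P : Subgroup G))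
    rw [hj] at this ⊢
    exact dvd_pow_self p (by rintro rfl; simp at this)
  obtain ⟨z, hz⟩ := exists_prime_orderOf_dvd_card' p hdZ
  set x : G := ((z : (P : Subgroup G)) : G) with hxdef
  have hx : orderOf x = p := by rw [hxdef, Subgroup.orderOf_coe, Subgroup.orderOf_coe, hz]
  have ht : ¬ p ∣ (Subgroup.centralizer ({x} : Set G)).index := by
    intro hd
    refine P.not_dvd_index (hd.trans (Subgroup.index_dvd_of_le fun w hw => ?_))
    rw [Subgroup.mem_centralizer_singleton_iff]
    exact congrArg Subtype.val (Subgroup.mem_center_iff.1 z.2 ⟨w, hw⟩)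
  -- a character in the principal block
  obtain ⟨M, hM⟩ := CfsgLib.Char.exists_pModular hp
  haveI := hM.2.1
  have hP1 : IsPPart p (1 : G) 1 := by
    refine ⟨1, mul_one 1, Commute.refl 1, ⟨0, by rw [pow_zero, orderOf_one]⟩, ?_⟩
    rw [orderOf_one]; exact hp.not_dvd_one
  have hPx : IsPPart p x⁻¹ x⁻¹ := by
    refine ⟨1, mul_one _, Commute.one_right _, ⟨1, by rw [pow_one, orderOf_inv, hx]⟩, ?_⟩
    rw [orderOf_one]; exact hp.not_dvd_one
  have hx1 : x ≠ 1 := fun h1 => hp.ne_one (by rw [← hx, h1, orderOf_one])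
  have key := block_orthogonality_section hp hM.2.2 (isPBlock_principalBlock (M := M) (G := G)) hP1 hPx
    fun hc => hx1 (inv_eq_one.1 (isConj_one_right.1 hc))
  rw [finsum_mem_eq_finite_toFinset_sum _ (Set.toFinite _)] at key
  simp only [inv_inv] at key
  obtain ⟨χ, hχ, hne1, hqn⟩ := Cfsg.Agent.S4500.exists_not_dvd_of_sum_eq_zero hq
    (Set.toFinite (principalBlock M G)).toFinset
    ((Set.Finite.mem_toFinset _).2 principalIrr_mem_principalBlock) x key
  rw [Set.Finite.mem_toFinset] at hχ
  obtain ⟨n, ρ, hρirr, hρ⟩ := χ.2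
  haveI := hρirr
  obtain ⟨β, e, hbe, hk⟩ := CfsgLib.EigenCount.exists_eigen_exponents hM hχ ρ hρ hx ht
  have hdg : Nat.gcd (charDegree (χ : G → ℂ)) (Subgroup.centralizer ({x} : Set G)).index ∣ g₀ := by
    have h1 : Nat.gcd (charDegree (χ : G → ℂ)) (Subgroup.centralizer ({x} : Set G)).index ∣
        p ^ a * (q ^ b * g₀) := by
      rw [← mul_assoc, ← hg]
      exact (Nat.gcd_dvd_right _ _).trans (Subgroup.index_dvd_card _)
    refine (Nat.Coprime.pow_right b ?_).dvd_of_dvd_mul_left
      ((Nat.Coprime.pow_right a ?_).dvd_of_dvd_mul_left h1)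
    · exact ((hq.coprime_iff_not_dvd.2 fun hd => hqn (hd.trans (Nat.gcd_dvd_left _ _)))).symm
    · exact ((hp.coprime_iff_not_dvd.2 fun hd => ht (hd.trans (Nat.gcd_dvd_right _ _)))).symm
  have hg0 : 0 < g₀ := Nat.pos_of_ne_zero fun h0 => by
    rw [h0, mul_zero] at hg
    exact Nat.card_pos.ne' hg
  have hkg := hk.trans (Nat.le_of_dvd hg0 hdg)
  -- pigeonholing the powers of `x`
  have hn : 0 < n := by
    have h1 := CharTools.irr_apply_one_ne_zero χ
    rw [← hρ, Representation.char_one, Module.finrank_fin_fun] at h1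
    exact Nat.pos_of_ne_zero fun h0 => h1 (by rw [h0, Nat.cast_zero])
  set e0 := e ⟨0, hn⟩ with he0
  set E := (Finset.univ.image e).erase e0
  have hE : E.card ≤ g₀ - 1 := by
    rw [Finset.card_erase_of_mem (Finset.mem_image_of_mem e (Finset.mem_univ _))]
    omega
  set f : ZMod p → (E → Fin 6) := fun r w =>
    ⟨6 * ((w.1 - e0) * r).val / p, Nat.div_lt_of_lt_mul (by
      have := ZMod.val_lt ((w.1 - e0) * r); omega)⟩
  have hlt' : 6 ^ E.card < p := by
    rcases (Nat.pow_le_pow_right (by norm_num : 0 < 6) hE).trans hlt |>.lt_or_eq with h6 | h6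
    · exact h6
    · rcases Nat.eq_zero_or_pos E.card with h7 | h7
      · rw [h7, pow_zero] at h6
        exact absurd h6.symm hp.ne_one
      · exfalso
        have h2 : 2 ∣ p := h6 ▸ Dvd.dvd.pow (by norm_num) h7.ne'
        have h3 : 3 ∣ p := h6 ▸ Dvd.dvd.pow (by norm_num) h7.ne'
        have := (Nat.prime_dvd_prime_iff_eq Nat.prime_two hp).1 h2
        have := (Nat.prime_dvd_prime_iff_eq Nat.prime_three hp).1 h3
        omega
  obtain ⟨r, r', hrr, hf⟩ := Fintype.exists_ne_map_eq_of_card_lt f (by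
    simpa [Fintype.card_fun, ZMod.card] using hlt')
  set s := r - r'
  set y := x ^ s.val with hy
  have hy1 : y ≠ 1 := by
    intro h1
    rw [hy, ← orderOf_dvd_iff_pow_eq_one, hx, ← ZMod.natCast_eq_zero_iff, ZMod.natCast_zmod_val,
      sub_eq_zero] at h1
    exact hrr h1
  have hby : ∀ i, ρ y (β i) = zc p (e i * s) • β i := by
    intro i
    have hpow : ∀ j : ℕ, (ρ x ^ j) (β i) = zc p (e i) ^ j • β i := fun j => by
      induction j with
      | zero => simp
      | succ j ih => rw [pow_succ', Module.End.mul_apply, ih, map_smul, hbe, smul_smul, pow_succ]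
    rw [hy, map_pow, hpow, ← AddChar.map_nsmul_eq_pow, nsmul_eq_mul, ZMod.natCast_zmod_val,
      mul_comm]
  have hnorm : ∀ a : ZMod p, Complex.normSq (zc p a) = 1 := fun a => by
    rw [Complex.normSq_eq_norm_sq, Complex.norm_eq_one_of_pow_eq_one (n := p) ?_ hp.ne_zero,
      one_pow]
    rw [← AddChar.map_nsmul_eq_pow, nsmul_eq_mul, ZMod.natCast_self, zero_mul,
      AddChar.map_zero_eq_one]
  have hclose : ∀ i, Complex.normSq ((zc p (e0 * s))⁻¹ * zc p (e i * s) - 1) < 1 := by
    intro i
    rw [← AddChar.map_neg_eq_inv, ← AddChar.map_add_eq_mul]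
    by_cases hi : e i = e0
    · simp [hi]
    have hmem : e i ∈ E := Finset.mem_erase.2 ⟨hi, Finset.mem_image_of_mem e (Finset.mem_univ i)⟩
    have hfi := congrArg Fin.val (congrFun hf ⟨e i, hmem⟩)
    simp only [f] at hfi
    rw [show -(e0 * s) + e i * s = (e i - e0) * r - (e i - e0) * r' by simp only [s]; ring]
    have h8 := Nat.div_add_mod (6 * ((e i - e0) * r).val) p
    have h9 := Nat.div_add_mod (6 * ((e i - e0) * r').val) p
    have h10 := Nat.mod_lt (6 * ((e i - e0) * r).val) hp.pos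
    have h11 := Nat.mod_lt (6 * ((e i - e0) * r').val) hp.pos
    rw [hfi] at h8
    exact Cfsg.Agent.S4484.normSq_zc_sub_lt _ _ (by omega) (by omega)
  have hnc : Subgroup.normalClosure ({y} : Set G) = ⊤ :=
    (Subgroup.normalClosure_normal.eq_bot_or_eq_top).resolve_left fun h1 => hy1 (by
      have := Subgroup.subset_normalClosure (Set.mem_singleton y)
      rw [h1] at this
      exact Subgroup.mem_bot.1 this)
  have hscal := CfsgLib.CloseEigen.eq_smul_one_of_close ρ hnc β (fun i => zc p (e i * s)) hby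
    (fun i => hnorm _) ⟨⟨0, hn⟩, rfl⟩ hclose
  -- faithfulness
  let K : Subgroup G := (MonoidHom.toHomUnits (ρ : G →* Module.End ℂ (Fin n → ℂ))).ker
  have hKmem : ∀ g, g ∈ K ↔ ρ g = 1 := fun g => by
    simp [K, MonoidHom.mem_ker, Units.ext_iff]
  have hfaith : K = ⊥ := by
    refine ((MonoidHom.normal_ker _).eq_bot_or_eq_top).resolve_right fun htop => hne1 ?_
    have hall : ∀ g, ρ g = 1 := fun g => (hKmem g).1 (htop.ge (Subgroup.mem_top g))
    have hn1 : n = 1 := by
      have h := CfsgLib.CharKernel.finrank_eq_one_of_trivial ρ hall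
      rwa [Module.finrank_fin_fun] at h
    funext g
    rw [← hρ, Representation.character, hall g, LinearMap.trace_one, Module.finrank_fin_fun, hn1,
      Nat.cast_one]
  have hcent : ∀ g : G, g * y = y * g := by
    intro g
    have h1 : g * y * g⁻¹ * y⁻¹ ∈ K := (hKmem _).2 (by
      have h2 : ρ g * ρ y = ρ y * ρ g := by rw [hscal]; simp
      rw [map_mul, map_mul, map_mul, h2, mul_assoc (ρ y), ← map_mul ρ g, mul_inv_cancel, map_one,
        mul_one, ← map_mul, mul_inv_cancel, map_one])
    rw [hfaith, Subgroup.mem_bot, mul_inv_eq_one, mul_inv_eq_iff_eq_mul] at h1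
    exact h1
  haveI : (Subgroup.zpowers y).Normal := ⟨fun w hw g => by
    obtain ⟨j, rfl⟩ := Subgroup.mem_zpowers_iff.1 hw
    rw [(Commute.zpow_right (show Commute g y from hcent g) j).eq, mul_inv_cancel_right]
    exact Subgroup.zpow_mem _ (Subgroup.mem_zpowers y) j⟩
  refine hne ?_
  have htop : Subgroup.zpowers y = ⊤ :=
    ((inferInstance : (Subgroup.zpowers y).Normal).eq_bot_or_eq_top).resolve_left
      (Subgroup.zpowers_ne_bot.2 hy1)
  rw [← Subgroup.card_top, ← htop, Nat.card_zpowers]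
  have hd : orderOf y ∣ p := hx ▸ orderOf_pow_dvd _
  exact ((Nat.dvd_prime hp).1 hd).resolve_left fun h1 => hy1 (orderOf_eq_one_iff.1 h1)

end Cfsg.Agent.S4484
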