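import Cfsg.Statements.S4490
import Cfsg.Agent.Lib.BlockReg.Induced
import Cfsg.Agent.Lib.Char.Conj
import Cfsg.Agent.Lib.Char.Linear

set_option autoImplicit false
open Cfsg

namespace Cfsg.Agent.S4490
open CfsgLib.BlockReg
open scoped ComplexConjugate

/-- Let G be a finite group and M a maximal ideal of the algebraic integers containing 2. Every 2-block B of G whose defect groups are the Sylow 2-subgroups of G (a block of full defect) and which is not the principal block is different from its complex-conjugate block, the block formed by the complex conjugates of the members of B. -/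
theorem result {G : Type*} [Group G] [Finite G] (M : Ideal Cfsg.AlgInt) (hM : Cfsg.IsPModular 2 M) (B : Set (Cfsg.IrrCharacter G)) (hB : Cfsg.IsPBlock M B) (P : Sylow 2 G) (hfull : Cfsg.IsDefectGroup 2 M B (P : Subgroup G)) (hnp : B ≠ Cfsg.principalBlock M G) : {ψ : Cfsg.IrrCharacter G | ∃ χ ∈ B, (ψ : G → ℂ) = fun g => (starRingEnd ℂ) ((χ : G → ℂ) g)} ≠ B := by
  classical
  haveI := Fintype.ofFinite G
  haveI := Fintype.ofFinite (ConjClasses G)
  haveI : Fact (Nat.Prime 2) := ⟨Nat.prime_two⟩
  intro hconj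
  -- full defect: the least degree exponent is zero
  obtain ⟨g₀, hg₀, P', hP'⟩ := hfull
  have hm : minExp 2 B = 0 := by
    rw [← factorization_csize_defectClass hM hB hg₀]
    have h1 : Nat.card (P : Subgroup G) = 2 ^ (Nat.card G).factorization 2 := P.card_eq_multiplicity
    rw [hP', Subgroup.card_map_of_injective (Subgroup.subtype_injective _),
      P'.card_eq_multiplicity] at h1
    have h2 := (Nat.pow_right_injective le_rfl h1)
    have h3 := csize_mul_card g₀
    rw [← h3, Nat.factorization_mul Nat.card_pos.ne' (csize_ne_zero g₀), Finsupp.add_apply] at h2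
    omega
  obtain ⟨χ, hχ, hχm⟩ := exists_minExp (p := 2) (block_nonempty hM hB)
  rw [hm] at hχm
  have hodd : ¬ 2 ∣ Cfsg.charDegree (χ : G → ℂ) := by
    intro h
    have := (Nat.Prime.dvd_iff_one_le_factorization Nat.prime_two (deg_pos χ).ne').1 h
    omega
  let χc : Cfsg.IrrCharacter G :=
    ⟨fun g => conj ((χ : G → ℂ) g), CfsgLib.Char.IsIrrCharacter.conj_apply' χ.2⟩
  have hχc : χc ∈ B := by rw [← hconj]; exact ⟨χ, hχ, rfl⟩
  have hω : ∀ g : G, Cfsg.MemLocalIdeal M
      ((csize g : ℂ) * (χ : G → ℂ) g⁻¹ - (csize g : ℂ) * (χ : G → ℂ) g) := by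
    intro g
    have h := block_congr hM hB hχc hχ g
    have h1 : Cfsg.centralChar (χc : G → ℂ) g = (csize g : ℂ) * (χ : G → ℂ) g⁻¹ / (χ : G → ℂ) 1 := by
      rw [centralChar_eq]
      show (csize g : ℂ) * conj ((χ : G → ℂ) g) / conj ((χ : G → ℂ) 1) = _
      rw [← char_inv, ← char_inv, inv_one]
    rw [h1, centralChar_eq, ← sub_div] at h
    have h2 := memIdeal_mul_right hM h (memRing_natCast hM (Cfsg.charDegree (χ : G → ℂ)))
    rwa [deg_cast, div_mul_cancel₀ _ (deg_ne_zero χ)] at h2
  set O := localSubring hM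
  haveI := isPrime_localIdeal hM
  let red : O →+* O ⧸ localIdeal hM := Ideal.Quotient.mk _
  have h2 : (2 : O ⧸ localIdeal hM) = 0 := by
    have : ((2 : ℕ) : O) ∈ localIdeal hM := by
      show Cfsg.MemLocalIdeal M _
      rw [show (((2 : ℕ) : O) : ℂ) = ((2 : ℕ) : ℂ) from map_natCast O.subtype 2]
      exact (memIdeal_natCast_iff hM 2).2 dvd_rfl
    have := Ideal.Quotient.eq_zero_iff_mem.2 this
    rwa [map_natCast] at this
  let F : G → ℂ := fun g => if 2 ∣ orderOf g then 0 else (χ : G → ℂ) g
  have hF : ∀ g h, IsConj g h → F g = F h := fun g h hgh => by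
    simp only [F, orderOf_eq_of_isConj hgh, char_conj_invariant χ g h hgh]
  have hFR : ∀ g, Cfsg.MemLocalRing M (F g) := fun g => by
    simp only [F]; split_ifs; exacts [memRing_zero hM, memRing_char hM χ g]
  let T : ConjClasses G → O := fun C =>
    ⟨(csize C.out : ℂ) * F C.out, memRing_mul hM (memRing_natCast hM _) (hFR _)⟩
  let σ : ConjClasses G → ConjClasses G := fun C => ConjClasses.mk C.out⁻¹
  have hσout : ∀ C, IsConj (σ C).out C.out⁻¹ := fun C =>
    ConjClasses.mk_eq_mk_iff_isConj.1 (Quotient.out_eq _)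
  have hσσ : ∀ C, σ (σ C) = C := fun C => by
    show ConjClasses.mk (σ C).out⁻¹ = C
    rw [ConjClasses.mk_eq_mk_iff_isConj.2 (isConj_inv_inv (hσout C)), inv_inv]
    exact Quotient.out_eq C
  have hcs : ∀ g h : G, IsConj g h → csize g = csize h := fun g h hgh => by
    rw [csize, csize, ← CfsgLib.Char.card_conjClass, ← CfsgLib.Char.card_conjClass]
    congr 1
    ext x
    simp only [Finset.mem_filter, Finset.mem_univ, true_and]
    exact ⟨fun hx => hgh.symm.trans hx, fun hx => hgh.trans hx⟩
  have hTσ : ∀ C, red (T (σ C)) = red (T C) := by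
    intro C
    refine Ideal.Quotient.eq.2 ?_
    show Cfsg.MemLocalIdeal M
      ((csize (σ C).out : ℂ) * F (σ C).out - (csize C.out : ℂ) * F C.out)
    rw [hF _ _ (hσout C), hcs _ _ (hσout C), csize_inv]
    simp only [F, orderOf_inv]
    split_ifs
    · simpa using memIdeal_zero hM
    · exact hω C.out
  have hfix : ∀ C, C ≠ ConjClasses.mk 1 → red (T C) ≠ 0 → σ C ≠ C := by
    intro C hC1 hT hσC
    apply hT
    by_cases hs : 2 ∣ orderOf C.out
    · have : T C = 0 := Subtype.ext (by simp [T, F, hs])
      rw [this, map_zero]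
    · refine Ideal.Quotient.eq_zero_iff_mem.2 ?_
      show Cfsg.MemLocalIdeal M ((csize C.out : ℂ) * F C.out)
      refine memIdeal_mul_right hM ((memIdeal_natCast_iff hM _).2 ?_) (hFR _)
      have hinv : IsConj C.out⁻¹ C.out := by
        have := hσout C
        rw [hσC] at this
        exact this.symm
      rw [csize, ← CfsgLib.Char.card_conjClass, ← ZMod.natCast_eq_zero_iff, Finset.card_eq_sum_ones,
        Nat.cast_sum, Nat.cast_one]
      refine Finset.sum_involution (fun x _ => x⁻¹) (fun _ _ => (rfl : (1 : ZMod 2) + 1 = 0)) (fun x hx _ => ?_)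
        (fun x hx => ?_) (fun x _ => inv_inv x)
      · intro hxx
        have hx' := (Finset.mem_filter.1 hx).2
        have h22 : x ^ 2 = 1 := by
          rw [sq]
          calc x * x = x⁻¹ * x := by rw [hxx]
            _ = 1 := inv_mul_cancel x
        have ho := orderOf_eq_of_isConj hx'
        rcases (Nat.dvd_prime Nat.prime_two).1 (orderOf_dvd_of_pow_eq_one h22) with h3 | h3
        · apply hC1
          rw [orderOf_eq_one_iff.1 h3] at hx'
          exact (Quotient.out_eq C).symm.trans (ConjClasses.mk_eq_mk_iff_isConj.2 hx')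
        · exact hs (by rw [ho, h3])
      · rw [Finset.mem_filter] at hx ⊢
        exact ⟨Finset.mem_univ _, hinv.symm.trans (isConj_inv_inv hx.2)⟩
  have hrest : ∑ C ∈ Finset.univ.erase (ConjClasses.mk (1 : G)), red (T C) = 0 := by
    refine Finset.sum_involution (fun C _ => σ C) (fun C _ => ?_)
      (fun C hC hT => hfix C (Finset.ne_of_mem_erase hC) hT) (fun C hC => ?_) (fun C _ => hσσ C)
    · rw [hTσ, ← two_mul, h2, zero_mul]
    · refine Finset.mem_erase.2 ⟨fun h => Finset.ne_of_mem_erase hC ?_, Finset.mem_univ _⟩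
      rw [← hσσ C, h]
      show ConjClasses.mk (ConjClasses.mk (1 : G)).out⁻¹ = _
      rw [ConjClasses.mk_eq_mk_iff_isConj.2
        (isConj_inv_inv (ConjClasses.mk_eq_mk_iff_isConj.1 (Quotient.out_eq (ConjClasses.mk (1 : G))))),
        inv_one]
  have hprinc : CfsgLib.Char.principalIrr ∉ B := by
    intro h
    apply hnp
    rw [block_eq_blockOf hM hB h]
    rfl
  have hzero := classInner_tilde_eq_zero hM hB hχ hprinc
  have hsum : ∑ g, F g = 0 := by
    rw [Cfsg.classInner] at hzero
    have h1 := (mul_eq_zero.1 hzero).resolve_left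
      (inv_ne_zero (by exact_mod_cast Nat.card_pos.ne'))
    have hp2 : (((2 ^ (Nat.card G).factorization 2 : ℕ)) : ℂ) ≠ 0 := by
      exact_mod_cast pow_ne_zero _ two_ne_zero
    rw [← mul_right_inj' hp2, mul_zero, ← h1, Finset.mul_sum]
    refine Finset.sum_congr rfl fun g _ => ?_
    rw [CfsgLib.Char.principalIrr_apply, map_one, mul_one]
    simp only [F, tilde]
    split_ifs <;> simp
  rw [sum_eq_sum_classes F hF] at hsum
  have htot : ∑ C, red (T C) = 0 := by
    rw [← map_sum]
    have : ∑ C, T C = 0 := by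
      apply Subtype.ext
      rw [AddSubmonoidClass.coe_finsetSum]
      exact hsum
    rw [this, map_zero]
  rw [← Finset.add_sum_erase _ _ (Finset.mem_univ (ConjClasses.mk (1 : G))), hrest, add_zero] at htot
  have hI : Cfsg.MemLocalIdeal M ((csize (ConjClasses.mk (1 : G)).out : ℂ) *
      F (ConjClasses.mk (1 : G)).out) := Ideal.Quotient.eq_zero_iff_mem.1 htot
  have hone : IsConj (ConjClasses.mk (1 : G)).out 1 :=
    ConjClasses.mk_eq_mk_iff_isConj.1 (Quotient.out_eq _)
  rw [hF _ _ hone, hcs _ _ hone, csize_one, Nat.cast_one, one_mul] at hI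
  simp only [F, orderOf_one] at hI
  rw [if_neg (by norm_num), ← deg_cast, memIdeal_natCast_iff hM] at hI
  exact hodd hI

end Cfsg.Agent.S4490
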