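import Cfsg.Statements.S4493
import Cfsg.Agent.Lib.Blk83.ItoMichler
import Cfsg.Agent.Lib.Transfer.ThompsonFactor
import Cfsg.Agent.Lib.Char.Ito

set_option autoImplicit false
open Cfsg

namespace Cfsg.Agent.S4493

/-- Let G be a finite solvable group and p a prime. Then G has a normal abelian Sylow p-subgroup if and only if no irreducible character degree of G is divisible by p. -/
theorem result {G : Type*} [Group G] [Finite G] (hsolv : Group.IsSolvable G) (p : ℕ) (hp : p.Prime) : (∃ P : Subgroup G, P.Normal ∧ (∀ x ∈ P, ∀ y ∈ P, x * y = y * x) ∧ IsPGroup p P ∧ ¬ p ∣ P.index) ↔ ∀ χ : Cfsg.IrrCharacter G, ¬ p ∣ Cfsg.charDegree (χ : G → ℂ) := by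
  haveI := Fact.mk hp
  constructor
  · rintro ⟨P, hPn, hPc, -, hPi⟩ χ hd
    obtain ⟨n, ρ, hρ, hρχ⟩ := χ.2
    haveI := hρ
    haveI := hPn
    have h1 := CfsgLib.Char.finrank_dvd_index_of_abelian_normal ρ P hPc
    have h2 : Cfsg.charDegree (χ : G → ℂ) = Module.finrank ℂ (Fin n → ℂ) := by
      rw [← hρχ]; simp [Cfsg.charDegree]
    exact hPi (hd.trans (h2 ▸ h1))
  · intro hdeg
    obtain ⟨P⟩ : Nonempty (Sylow p G) := inferInstance
    obtain ⟨h1, h2⟩ := CfsgLib.Blk83.normal_abelian_sylow_of_degrees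
      (CfsgLib.ThompsonFactor.isPSolvable_of_isSolvable hsolv) hdeg P
    exact ⟨P, h1, fun x hx y hy => congrArg Subtype.val (h2.is_comm.comm ⟨x, hx⟩ ⟨y, hy⟩), P.2,
      P.not_dvd_index⟩

end Cfsg.Agent.S4493
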