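import Cfsg.Statements.S4495
import Cfsg.Agent.Lib.SelfCentPrime.Classes

set_option autoImplicit false
open Cfsg

namespace Cfsg.Agent.S4495

/-- Let the finite group G contain an element x of prime order p with C_G(x) = ⟨x⟩, and let t be the number of conjugacy classes of elements of order p. If t ≠ p − 1 then the commutator subgroup has index at most (p − 1)/t; if t = p − 1 it has index exactly p. -/
theorem result {G : Type*} [Group G] [Finite G] (p : ℕ) (hp : p.Prime) (x : G) (hx : orderOf x = p) (hC : Subgroup.centralizer ({x} : Set G) = Subgroup.zpowers x) (t : ℕ) (ht : Nat.card {C : ConjClasses G // ∃ g ∈ C.carrier, orderOf g = p} = t) : (t ≠ p - 1 → (commutator G).index * t ≤ p - 1) ∧ (t = p - 1 → (commutator G).index = p) := by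
  haveI := Fact.mk hp
  have h : CfsgLib.SelfCentPrime.Hyp p x := ⟨hx, hC⟩
  have htq := CfsgLib.SelfCentPrime.card_classes_mul_autIndex h
  rw [ht] at htq
  by_cases hq : CfsgLib.SelfCentPrime.autIndex h = 1
  · rw [hq, mul_one] at htq
    obtain ⟨K, _, hidx, -, -, hK⟩ := CfsgLib.SelfCentPrime.exists_complement h hq
    exact ⟨fun hne => absurd htq hne, fun _ => by rw [hK, hidx]⟩
  · refine ⟨fun _ => ?_, fun he => absurd ?_ hq⟩
    · rw [← htq, mul_comm t]
      exact Nat.mul_le_mul_right t (Nat.le_of_dvd (CfsgLib.SelfCentPrime.autIndex_pos h)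
        (CfsgLib.SelfCentPrime.index_commutator_dvd h hq))
    · rw [he] at htq
      exact (mul_eq_left₀ (by have := hp.two_le; omega)).1 htq

end Cfsg.Agent.S4495
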