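import Cfsg.Statements.S4497
import Cfsg.Agent.Lib.SelfCentPrime.Classes

set_option autoImplicit false
open Cfsg

namespace Cfsg.Agent.S4497

/-- Let the finite group G contain an element x of prime order p with C_G(x) = ⟨x⟩, let t be the number of conjugacy classes of elements of order p, and let S* = O_{p′}(G) be the largest normal subgroup of order prime to p. Then S* ≤ G′; if t ≠ p − 1 the quotient G′/S* is simple (in particular non-trivial); if t = p − 1 then G′ = S*. -/
theorem result {G : Type*} [Group G] [Finite G] (p : ℕ) (hp : p.Prime) (x : G) (hx : orderOf x = p) (hC : Subgroup.centralizer ({x} : Set G) = Subgroup.zpowers x) (t : ℕ) (ht : Nat.card {C : ConjClasses G // ∃ g ∈ C.carrier, orderOf g = p} = t) : Cfsg.pPrimeCore p G ≤ commutator G ∧ (t ≠ p - 1 → ∀ h : ((Cfsg.pPrimeCore p G).subgroupOf (commutator G)).Normal, IsSimpleGroup (↥(commutator G) ⧸ (Cfsg.pPrimeCore p G).subgroupOf (commutator G))) ∧ (t = p - 1 → commutator G = Cfsg.pPrimeCore p G) := by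
  haveI := Fact.mk hp
  have h : CfsgLib.SelfCentPrime.Hyp p x := ⟨hx, hC⟩
  have htq := CfsgLib.SelfCentPrime.card_classes_mul_autIndex h
  rw [ht] at htq
  haveI := CfsgLib.Solvable.pPrimeCore_normal p G
  refine ⟨CfsgLib.SelfCentPrime.pPrimeCore_le_commutator h, fun hne hN => ?_, fun he => ?_⟩
  · have hq : CfsgLib.SelfCentPrime.autIndex h ≠ 1 := fun hq => hne (by rw [← htq, hq, mul_one])
    have hxD : x ∈ commutator G :=
      CfsgLib.SelfCentPrime.zpowers_le_commutator h hq (Subgroup.mem_zpowers x)
    set D := commutator G with hD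
    set S := Cfsg.pPrimeCore p G with hS
    haveI := hN
    have hScop : (Nat.card S).Coprime p := CfsgLib.Solvable.pPrimeCore_card_coprime p G
    haveI : Nontrivial (↥D ⧸ S.subgroupOf D) := by
      refine ⟨⟨QuotientGroup.mk (⟨x, hxD⟩ : D), 1, fun he => ?_⟩⟩
      have hxS : x ∈ S := (QuotientGroup.eq_one_iff (⟨x, hxD⟩ : D)).1 he
      exact hp.coprime_iff_not_dvd.1 hScop.symm (hx ▸ Subgroup.orderOf_dvd_natCard _ hxS)
    refine { eq_bot_or_eq_top_of_normal := fun K hK => ?_ }
    set L := K.comap (QuotientGroup.mk' (S.subgroupOf D)) with hL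
    haveI : L.Normal := hK.comap _
    by_cases hpL : p ∣ Nat.card L
    · right
      have hLx : ∀ y : D, orderOf y = p → y ∈ L := by
        intro y hy
        rw [← QuotientGroup.eq_one_iff, ← orderOf_eq_one_iff]
        have h1 : orderOf (QuotientGroup.mk y : D ⧸ L) ∣ p :=
          hy ▸ orderOf_map_dvd (QuotientGroup.mk' L) y
        refine ((Nat.dvd_prime hp).1 h1).resolve_right fun h2 => ?_
        apply CfsgLib.SelfCentPrime.not_sq_dvd h
        refine dvd_trans ?_ (Subgroup.card_subgroup_dvd_card D)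
        rw [sq, Subgroup.card_eq_card_quotient_mul_card_subgroup L]
        exact mul_dvd_mul (h2 ▸ orderOf_dvd_natCard _) hpL
      have hMD : Subgroup.normalClosure ({x} : Set G) ≤ L.map D.subtype := by
        rw [Subgroup.normalClosure, Subgroup.closure_le]
        intro y hy
        obtain ⟨z, hz, hzy⟩ := Group.mem_conjugatesOfSet_iff.1 hy
        rw [Set.mem_singleton_iff.1 hz] at hzy
        obtain ⟨g, rfl⟩ := isConj_iff.1 hzy
        have hyD : g * x * g⁻¹ ∈ D := Subgroup.Normal.conj_mem inferInstance x hxD g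
        refine ⟨⟨g * x * g⁻¹, hyD⟩, hLx _ ?_, rfl⟩
        rw [← Subgroup.orderOf_coe, show ((⟨g * x * g⁻¹, hyD⟩ : D) : G) = MulAut.conj g x from rfl,
          MulEquiv.orderOf_eq, hx]
      have hDM : D ≤ Subgroup.normalClosure ({x} : Set G) :=
        CfsgLib.SelfCentPrime.commutator_le_of_dvd h
          (hx ▸ Subgroup.orderOf_dvd_natCard _ (Subgroup.subset_normalClosure rfl))
      have hLtop : L = ⊤ := by
        rw [eq_top_iff]
        intro y _
        obtain ⟨z, hz, hzy⟩ := hMD (hDM y.2)
        rwa [← Subtype.ext hzy]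
      rw [← Subgroup.map_comap_eq_self_of_surjective (QuotientGroup.mk'_surjective _) K, ← hL,
        hLtop, Subgroup.map_top_of_surjective _ (QuotientGroup.mk'_surjective _)]
    · left
      have h1 : L ≤ S.subgroupOf D := fun y hy => by
        have h2 : L ≤ Cfsg.pPrimeCore p D := CfsgLib.Solvable.le_pPrimeCore inferInstance
          ((hp.coprime_iff_not_dvd.2 hpL).symm)
        exact CfsgLib.Solvable.map_subtype_pPrimeCore_le D ⟨y, h2 hy, rfl⟩
      rw [← Subgroup.map_comap_eq_self_of_surjective (QuotientGroup.mk'_surjective _) K, ← hL,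
        eq_bot_iff]
      refine (Subgroup.map_mono h1).trans ?_
      rw [QuotientGroup.map_mk'_self]
  · have hq : CfsgLib.SelfCentPrime.autIndex h = 1 := by
      rw [he] at htq
      exact (mul_eq_left₀ (by have := hp.two_le; omega)).1 htq
    obtain ⟨K, hKn, -, hnd, -, hK⟩ := CfsgLib.SelfCentPrime.exists_complement h hq
    rw [hK]
    exact le_antisymm (CfsgLib.Solvable.le_pPrimeCore hKn (hp.coprime_iff_not_dvd.2 hnd).symm)
      (hK ▸ CfsgLib.SelfCentPrime.pPrimeCore_le_commutator h)

end Cfsg.Agent.S4497
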