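import Cfsg.Statements.S4498
import Cfsg.Agent.Lib.BlockReg.Regular

set_option autoImplicit false
open Cfsg

namespace Cfsg.Agent.S4498
open CfsgLib.BlockReg
open scoped ComplexConjugate

/-- Let p and q be distinct primes dividing the order of the finite group G, and suppose G has no element of order p·q. Fix maximal ideals M_p over p and M_q over q of the algebraic integers. Then the principal p-block and the principal q-block of G have a non-principal irreducible character in common. -/
theorem result {G : Type*} [Group G] [Finite G] (p q : ℕ) [Fact p.Prime] [Fact q.Prime] (hpq : p ≠ q) (hp : p ∣ Nat.card G) (hq : q ∣ Nat.card G) (hno : ∀ g : G, orderOf g ≠ p * q) (Mp Mq : Ideal Cfsg.AlgInt) (hMp : Cfsg.IsPModular p Mp) (hMq : Cfsg.IsPModular q Mq) : ∃ χ : Cfsg.IrrCharacter G, (χ : G → ℂ) ≠ (fun _ => 1) ∧ χ ∈ Cfsg.principalBlock Mp G ∧ χ ∈ Cfsg.principalBlock Mq G := by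
  classical
  haveI := Fintype.ofFinite G
  by_contra hcon
  push Not at hcon
  obtain ⟨x, hx⟩ := exists_prime_orderOf_dvd_card' p hp
  obtain ⟨y, hy⟩ := exists_prime_orderOf_dvd_card' q hq
  have hpr : p.Prime := Fact.out
  have hqr : q.Prime := Fact.out
  set Bp := Cfsg.principalBlock Mp G with hBp'
  set Bq := Cfsg.principalBlock Mq G with hBq'
  let one : Cfsg.IrrCharacter G := CfsgLib.Char.principalIrr
  have hBp : Cfsg.IsPBlock Mp Bp := ⟨one, rfl⟩
  have hBq : Cfsg.IsPBlock Mq Bq := ⟨one, rfl⟩
  set u : G → ℂ := fun g => ∑ χ ∈ Bp.toFinset, conj ((χ : G → ℂ) x) * (χ : G → ℂ) g with hu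
  set v : G → ℂ := fun g => ∑ χ ∈ Bq.toFinset, conj ((χ : G → ℂ) y) * (χ : G → ℂ) g with hv
  have hzero : ∀ g, u g * conj (v g) = 0 := by
    intro g
    by_cases hgp : p ∣ orderOf g
    · by_cases hgq : q ∣ orderOf g
      · exfalso
        have hdvd : p * q ∣ orderOf g :=
          Nat.Coprime.mul_dvd_of_dvd_of_dvd ((Nat.coprime_primes hpr hqr).2 hpq) hgp hgq
        exact hno _ (orderOf_pow_orderOf_div (orderOf_pos g).ne' hdvd)
      · have h := block_orthogonality hMq hBq g y hgq (by rw [hy])
        rw [finsum_mem_eq_toFinset_sum] at h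
        have : v g = 0 := by
          simp only [hv]; rw [← h]; exact Finset.sum_congr rfl fun χ _ => mul_comm _ _
        simp [this]
    · have h := block_orthogonality hMp hBp g x hgp (by rw [hx])
      rw [finsum_mem_eq_toFinset_sum] at h
      have : u g = 0 := by
        simp only [hu]; rw [← h]; exact Finset.sum_congr rfl fun χ _ => mul_comm _ _
      simp [this]
  have h0 : Cfsg.classInner u v = 0 := by
    rw [Cfsg.classInner, Finset.sum_eq_zero fun g _ => hzero g, mul_zero]
  have hu' : u = ∑ χ : Cfsg.IrrCharacter G,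
      (if χ ∈ Bp then conj ((χ : G → ℂ) x) else 0) • (χ : G → ℂ) := by
    funext g
    simp only [hu, Finset.sum_apply, Pi.smul_apply, smul_eq_mul, ite_mul, zero_mul]
    rw [← Finset.sum_filter]
    refine Finset.sum_congr ?_ fun _ _ => rfl
    ext χ
    simp
  have hv' : v = ∑ χ : Cfsg.IrrCharacter G,
      (if χ ∈ Bq then conj ((χ : G → ℂ) y) else 0) • (χ : G → ℂ) := by
    funext g
    simp only [hv, Finset.sum_apply, Pi.smul_apply, smul_eq_mul, ite_mul, zero_mul]
    rw [← Finset.sum_filter]
    refine Finset.sum_congr ?_ fun _ _ => rfl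
    ext χ
    simp
  rw [hu', hv', CfsgLib.Char.classInner_sum_smul_sum_smul, Finset.sum_eq_single one] at h0
  · have h1p : one ∈ Bp := sameBlock_refl hMp _
    have h1q : one ∈ Bq := sameBlock_refl hMq _
    rw [if_pos h1p, if_pos h1q] at h0
    simp [one, CfsgLib.Char.principalIrr_apply] at h0
  · intro χ _ hne
    by_cases hp' : χ ∈ Bp
    · have hq' : χ ∉ Bq := hcon χ (fun h => hne (Subtype.ext h)) hp'
      simp [hq']
    · simp [hp']
  · exact fun h => absurd (Finset.mem_univ _) h

end Cfsg.Agent.S4498
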