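import Cfsg.Statements.S4505
import Cfsg.Agent.Lib.BlockReg.Regular
import Cfsg.Agent.Lib.Blocks.Local
import Mathlib.LinearAlgebra.Matrix.Rank

set_option autoImplicit false
open Cfsg

namespace Cfsg.Agent.S4505
open CfsgLib.BlockReg
open scoped ComplexConjugate

/-- Let G be a finite group, p a prime and M a maximal ideal of the algebraic integers containing p. For every σ, the number of p-blocks of defect exactly σ is at most the number of conjugacy classes of p-regular elements whose centralizer has order divisible by p^σ but not by p^(σ+1). -/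
theorem result {G : Type*} [Group G] [Finite G] (p : ℕ) [Fact p.Prime] (M : Ideal Cfsg.AlgInt) (hM : Cfsg.IsPModular p M) (σ : ℕ) : Nat.card {B : Set (Cfsg.IrrCharacter G) // Cfsg.IsPBlock M B ∧ Cfsg.blockDefect p B = σ} ≤ Nat.card {C : ConjClasses G // ∃ g : G, ConjClasses.mk g = C ∧ ¬ p ∣ orderOf g ∧ (Nat.card (Subgroup.centralizer ({g} : Set G))).factorization p = σ} := by
  classical
  haveI := Fintype.ofFinite G
  haveI := Fintype.ofFinite (ConjClasses G)
  haveI := hM.2.1
  set a := (Nat.card G).factorization p with ha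
  let S : Type _ := {C : ConjClasses G // ∃ g : G, ConjClasses.mk g = C ∧ ¬ p ∣ orderOf g ∧
    (Nat.card (Subgroup.centralizer ({g} : Set G))).factorization p = σ}
  let ι : Type _ := {B : Set (Cfsg.IrrCharacter G) // Cfsg.IsPBlock M B ∧ Cfsg.blockDefect p B = σ}
  show Nat.card ι ≤ Nat.card S
  haveI : Fintype ι := Fintype.ofFinite ι
  haveI : Fintype S := Fintype.ofFinite S
  rw [Nat.card_eq_fintype_card, Nat.card_eq_fintype_card]
  choose ξ hξ using fun B : ι => block_nonempty hM B.2.1
  let O := CfsgLib.Blocks.locRing M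
  let A : Matrix ι S (CfsgLib.Blocks.ResField M) := fun B C =>
    CfsgLib.Blocks.red M ⟨Cfsg.blockCoeff B.1 C.1.out, memRing_blockCoeff hM B.2.1 _⟩
  let W : Matrix S ι (CfsgLib.Blocks.ResField M) := fun C B =>
    CfsgLib.Blocks.red M ⟨Cfsg.centralChar (ξ B : G → ℂ) C.1.out, memRing_centralChar hM (ξ B) _⟩
  have hmem : ∀ B B' : ι, ξ B' ∈ B.1 ↔ B = B' := by
    intro B B'
    refine ⟨fun h => Subtype.ext ?_, fun h => h ▸ hξ B⟩
    rw [block_eq_blockOf hM B.2.1 h, block_eq_blockOf hM B'.2.1 (hξ B')]
  have key : A * W = 1 := by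
    ext B B'
    have hoff : ∀ C : ConjClasses G, (¬ ∃ g : G, ConjClasses.mk g = C ∧ ¬ p ∣ orderOf g ∧
        (Nat.card (Subgroup.centralizer ({g} : Set G))).factorization p = σ) →
        CfsgLib.Blocks.red M
          (⟨Cfsg.blockCoeff B.1 C.out, memRing_blockCoeff hM B.2.1 _⟩ *
            ⟨Cfsg.centralChar (ξ B' : G → ℂ) C.out, memRing_centralChar hM (ξ B') _⟩) = 0 := by
      intro C hC
      rw [CfsgLib.Blocks.red_eq_zero]
      show Cfsg.MemLocalIdeal M (Cfsg.blockCoeff B.1 C.out * Cfsg.centralChar (ξ B' : G → ℂ) C.out)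
      by_cases hs : p ∣ orderOf C.out
      · rw [blockCoeff_singular hM B.2.1 _ hs, zero_mul]; exact memIdeal_zero hM
      by_cases h1 : Cfsg.MemLocalIdeal M (Cfsg.blockCoeff B.1 C.out)
      · exact memIdeal_mul_right hM h1 (memRing_centralChar hM _ _)
      by_cases h2 : Cfsg.MemLocalIdeal M (Cfsg.centralChar (ξ B' : G → ℂ) C.out)
      · exact memIdeal_mul_left hM (memRing_blockCoeff hM B.2.1 _) h2
      exfalso
      apply hC
      refine ⟨C.out, Quotient.out_eq C, hs, ?_⟩
      have hle := le_factorization_csize hM B.2.1 h1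
      have hge := factorization_csize_le hM B'.2.1 (hξ B') h2
      have hB := B.2.2
      have hB' := B'.2.2
      rw [blockDefect_eq] at hB hB'
      obtain ⟨χ, hχ, hχm⟩ := exists_minExp (p := p) (block_nonempty hM B.2.1)
      obtain ⟨χ', hχ', hχm'⟩ := exists_minExp (p := p) (block_nonempty hM B'.2.1)
      have l1 : minExp p B.1 ≤ a := hχm ▸ factorization_deg_le χ
      have l2 : minExp p B'.1 ≤ a := hχm' ▸ factorization_deg_le χ'
      have h3 := csize_mul_card C.out
      have h4 : (Nat.card (Subgroup.centralizer ({C.out} : Set G))).factorization p +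
          (csize C.out).factorization p = a := by
        rw [ha, ← h3, Nat.factorization_mul Nat.card_pos.ne' (csize_ne_zero _), Finsupp.add_apply]
      omega
    have htot : ∑ C : ConjClasses G, CfsgLib.Blocks.red M
        (⟨Cfsg.blockCoeff B.1 C.out, memRing_blockCoeff hM B.2.1 _⟩ *
          ⟨Cfsg.centralChar (ξ B' : G → ℂ) C.out, memRing_centralChar hM (ξ B') _⟩) =
        if B = B' then 1 else 0 := by
      have hs := sum_mul_char_div (ξ B') (Cfsg.blockCoeff B.1)
        (fun g h hgh => blockCoeff_congr B.1 hgh)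
      obtain ⟨h1, h0⟩ := sum_blockCoeff_mul_char B.1 (ξ B')
      rw [← map_sum]
      split_ifs with h
      · rw [← map_one (CfsgLib.Blocks.red M)]
        congr 1
        apply Subtype.ext
        rw [AddSubmonoidClass.coe_finsetSum]
        exact hs.symm.trans (h1 ((hmem B B').2 h))
      · rw [← map_zero (CfsgLib.Blocks.red M)]
        congr 1
        apply Subtype.ext
        rw [AddSubmonoidClass.coe_finsetSum]
        exact hs.symm.trans (h0 fun hh => h ((hmem B B').1 hh))
    rw [Matrix.mul_apply, Matrix.one_apply, ← htot]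
    simp only [A, W, ← map_mul]
    rw [Fintype.sum_subtype_add_sum_subtype
      (fun C : ConjClasses G => ∃ g : G, ConjClasses.mk g = C ∧ ¬ p ∣ orderOf g ∧
        (Nat.card (Subgroup.centralizer ({g} : Set G))).factorization p = σ) _ |>.symm]
    conv_rhs => arg 2; rw [Finset.sum_eq_zero fun C _ => hoff C.1 C.2]
    rw [add_zero]
    exact Finset.sum_congr (by ext; simp) fun _ _ => rfl
  have h1 := Matrix.rank_mul_le_left A W
  rw [key, Matrix.rank_one] at h1
  exact h1.trans (Matrix.rank_le_card_width A)

end Cfsg.Agent.S4505
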