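import Cfsg.Statements.S4507
import Cfsg.Agent.Lib.DefectOne.Consequences
import Cfsg.Agent.Lib.PConjugate.Basic

set_option autoImplicit false
open Cfsg CfsgLib CfsgLib.DefectOne

namespace Cfsg.Agent.S4507

/-- Let G be a finite group whose order g is divisible by the prime p exactly once, g′ = g/p, and fix a maximal ideal M of the algebraic integers containing p. Call two irreducible characters p-conjugate when a field automorphism of ℂ fixing the g′-th roots of unity carries one to the other. Let B be a p-block of positive defect (its defect group is a Sylow p-subgroup). Then B contains a subset Y (the exceptional family) such that: Y is a full p-conjugacy class (its members are pairwise p-conjugate and every p-conjugate of a member of Y lies in Y); every member of B outside Y is p-conjugate only to itself; the size t of Y divides p − 1 and B has exactly t + (p − 1)/t members; and there are signs δ_χ = ±1 (χ ∈ B)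 such that for every p-regular element x and every θ ∈ Y, Σ_{χ ∈ B ∖ Y} δ_χ χ(x) + δ_θ θ(x) = 0. -/
theorem result {G : Type*} [Group G] [Finite G] (p : ℕ) [Fact p.Prime] (M : Ideal Cfsg.AlgInt) (hM : Cfsg.IsPModular p M) (hdiv : p ∣ Nat.card G) (hsq : ¬ p ^ 2 ∣ Nat.card G) (B : Set (Cfsg.IrrCharacter G)) (hB : Cfsg.IsPBlock M B) (hd : 0 < Cfsg.blockDefect p B) : ∃ Y : Set (Cfsg.IrrCharacter G), Y ⊆ B ∧ Y.Nonempty ∧ (∀ θ ∈ Y, ∀ ψ : Cfsg.IrrCharacter G, (∃ σ : ℂ ≃+* ℂ, σ (Complex.exp (2 * Real.pi * Complex.I / ((Nat.card G / p ^ (Nat.card G).factorization p) : ℕ))) = Complex.exp (2 * Real.pi * Complex.I / ((Nat.card G / p ^ (Nat.card G).factorization p) : ℕ)) ∧ (ψ : G → ℂ) = fun g => σ ((θ : G → ℂ) g)) ↔ ψ ∈ Y) ∧ (∀ χ ∈ B, χ ∉ Y → ∀ ψ : Cfsg.IrrCharacter G, (∃ σ : ℂ ≃+* ℂ, σ (Complex.exp (2 * Real.pi * Complex.I / ((Nat.card G / p ^ (Nat.card G).factorization p) : ℕ))) = Complex.exp (2 * Real.pi * Complex.I / ((Nat.card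 G / p ^ (Nat.card G).factorization p) : ℕ)) ∧ (ψ : G → ℂ) = fun g => σ ((χ : G → ℂ) g)) → ψ = χ) ∧ Nat.card Y ∣ p - 1 ∧ Nat.card B = Nat.card Y + (p - 1) / Nat.card Y ∧ ∃ δ : Cfsg.IrrCharacter G → ℤ, (∀ χ ∈ B, δ χ = 1 ∨ δ χ = -1) ∧ ∀ x : G, ¬ p ∣ orderOf x → ∀ θ ∈ Y, (∑ᶠ χ ∈ B \ Y, (δ χ : ℂ) * (χ : G → ℂ) x) + (δ θ : ℂ) * (θ : G → ℂ) x = 0 := by
  obtain ⟨x, hx⟩ := exists_prime_orderOf_dvd_card' p hdiv
  have h : HypOne p x := ⟨Fact.out, hx, hsq⟩
  classical
  obtain ⟨χ₀, hχ₀, hd₀⟩ : ∃ χ ∈ B, ¬ p ∣ Cfsg.charDegree (χ : G → ℂ) := by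
    by_contra hno
    push Not at hno
    haveI := hM.2.1
    have hne : ((fun χ : IrrCharacter G =>
        (charDegree (χ : G → ℂ)).factorization p) '' B).Nonempty :=
      (CfsgLib.Blocks.IsPBlock.nonempty hB).image _
    obtain ⟨χ, hχ, he⟩ := Nat.sInf_mem hne
    rw [blockDefect, h.factorization_eq_one, ← he] at hd
    have h1 := h.prime.factorization_pos_of_dvd (CharTools.irr_degree_pos χ).ne' (hno χ hχ)
    simp only at hd
    omega
  obtain ⟨φ, hφ⟩ := h.exists_bset_of_not_dvd hd₀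
  haveI := hM.2.1
  have hBset : B = ↑(h.bset φ) :=
    (CfsgLib.Blocks.IsPBlock.eq_blockOf hB hχ₀).trans (h.blockOf_eq_bset hM hφ)
  obtain ⟨Y, δ, m, sh⟩ := h.exists_shape φ
  have hrel := fun θ ψ : IrrCharacter G =>
    CfsgLib.PConjugate.exists_ringEquiv_iff (p := p) θ ψ
  refine ⟨↑Y, hBset ▸ Finset.coe_subset.2 sh.subset, ?_, ?_, ?_, ?_, ?_,
    fun χ => if χ ∈ Y then δ else m χ, ?_, ?_⟩
  · rw [Finset.coe_nonempty]
    exact (sh.single.choose_spec.1 |> fun h' => ⟨_, h'⟩)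
  · intro θ hθ ψ
    refine (hrel θ ψ).trans ⟨fun ⟨u, hu⟩ => ?_, fun hψ => ?_⟩
    · exact (sh.orbit θ hθ ψ).2 ⟨u, hu⟩
    · obtain ⟨u, hu⟩ := (sh.orbit θ hθ ψ).1 hψ
      exact ⟨u, hu⟩
  · intro χ hχ hχY ψ hψ
    obtain ⟨u, hu⟩ := (hrel χ ψ).1 hψ
    rw [← hu]
    exact sh.fixed χ (Finset.mem_sdiff.2 ⟨by simpa [hBset] using hχ, hχY⟩) u
  · rw [Nat.card_coe_set_eq, Set.ncard_coe_finset, sh.card_Y]
    exact Dvd.intro_left _ (h.card_mul_index_expGroup φ)
  · rw [hBset, Nat.card_coe_set_eq, Nat.card_coe_set_eq, Set.ncard_coe_finset,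
      Set.ncard_coe_finset, CfsgLib.DefectOne.HypOne.Shape.card_bset h sh, sh.card_Y,
      ← h.card_mul_index_expGroup φ, Nat.mul_div_cancel _ (Nat.pos_of_ne_zero
        Subgroup.index_ne_zero_of_finite), add_comm]
  · intro χ hχ
    dsimp only
    split_ifs with hY
    · exact sh.δ_sign
    · exact sh.m_sign χ (Finset.mem_sdiff.2 ⟨by simpa [hBset] using hχ, hY⟩)
  · intro g hg θ hθ
    rw [hBset, ← Finset.coe_sdiff, finsum_mem_coe_finset]
    beta_reduce
    rw [if_pos (Finset.mem_coe.1 hθ)]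
    rw [Finset.sum_congr rfl (g := fun χ : IrrCharacter G => (m χ : ℂ) * (χ : G → ℂ) g)
      fun χ hχ => by rw [if_neg (Finset.mem_sdiff.1 hχ).2]]
    exact CfsgLib.DefectOne.HypOne.Shape.relation h sh (Finset.mem_coe.1 hθ) hg

end Cfsg.Agent.S4507
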