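import Cfsg.Statements.S4508
import Cfsg.Agent.Lib.SelfCentPrime.Det

set_option autoImplicit false
open Cfsg

namespace Cfsg.Agent.S4508

/-- Let the finite group G contain an element x of prime order p with C_G(x) = ⟨x⟩, and let t be the number of conjugacy classes of elements of order p. If G has an irreducible character of degree p − 1, then t is even or the commutator subgroup has even index. -/
theorem result {G : Type*} [Group G] [Finite G] (p : ℕ) (hp : p.Prime) (x : G) (hx : orderOf x = p) (hC : Subgroup.centralizer ({x} : Set G) = Subgroup.zpowers x) (t : ℕ) (ht : Nat.card {C : ConjClasses G // ∃ g ∈ C.carrier, orderOf g = p} = t) (χ : Cfsg.IrrCharacter G) (hχ : Cfsg.charDegree (χ : G → ℂ) + 1 = p) : Even t ∨ Even (commutator G).index := by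
  haveI := Fact.mk hp
  have h : CfsgLib.SelfCentPrime.Hyp p x := ⟨hx, hC⟩
  have hχ1 : (χ : G → ℂ) 1 = ((p - 1 : ℕ) : ℂ) := by
    have h1 : (Cfsg.charDegree (χ : G → ℂ) : ℂ) = (χ : G → ℂ) 1 :=
      CfsgLib.Char.IsCharacter.degree_cast (CfsgLib.Char.IsIrrCharacter.isCharacter χ.2)
    rw [← h1]
    congr 1
    omega
  by_cases hp2 : p = 2
  · right
    have htq := CfsgLib.SelfCentPrime.card_classes_mul_autIndex h
    rw [ht] at htq
    have htq1 : t * CfsgLib.SelfCentPrime.autIndex h = 1 := by omega
    obtain ⟨K, _, hidx, -, -, hK⟩ :=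
      CfsgLib.SelfCentPrime.exists_complement h (Nat.eq_one_of_mul_eq_one_left htq1)
    rw [hK, hidx, hp2]
    exact even_two
  · by_cases hte : Even t
    · exact Or.inl hte
    · exact Or.inr (CfsgLib.SelfCentPrime.even_index_commutator_of_degree h hp2
        (by rw [ht]; exact hte) χ hχ1)

end Cfsg.Agent.S4508
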