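import Cfsg.Statements.S4509
import Cfsg.Agent.Lib.SelfCentPrime.Classes

set_option autoImplicit false
open Cfsg
open scoped commutatorElement

namespace Cfsg.Agent.S4509

/-- Let the finite group G contain an element x of prime order p with C_G(x) = ⟨x⟩; let t be the number of conjugacy classes of elements of order p and 1 + n·p the number of subgroups of order p. Then G has a normal subgroup of order 1 + n·p if and only if either t = p − 1, or t < p − 1 and G″ ≠ G′. Moreover, if t = p − 1 then G′ has order 1 + n·p and G/G′ is cyclic of order p; and if t < p − 1 and G″ ≠ G′ then G″ has order 1 + n·p and G′ has order p·(1 + n·p). -/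
theorem result {G : Type*} [Group G] [Finite G] (p : ℕ) (hp : p.Prime) (x : G) (hx : orderOf x = p) (hC : Subgroup.centralizer ({x} : Set G) = Subgroup.zpowers x) (t : ℕ) (ht : Nat.card {C : ConjClasses G // ∃ g ∈ C.carrier, orderOf g = p} = t) (n : ℕ) (hn : Nat.card {H : Subgroup G // Nat.card H = p} = 1 + n * p) : ((∃ S : Subgroup G, S.Normal ∧ Nat.card S = 1 + n * p) ↔ (t = p - 1 ∨ (t < p - 1 ∧ derivedSeries G 2 ≠ derivedSeries G 1))) ∧ (t = p - 1 → Nat.card (commutator G) = 1 + n * p ∧ IsCyclic (G ⧸ commutator G) ∧ (commutator G).index = p) ∧ (t < p - 1 → derivedSeries G 2 ≠ derivedSeries G 1 → Nat.card (derivedSeries G 2) = 1 + n * p ∧ Nat.card (commutator G) = p * (1 + n * p)) := by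
  haveI := Fact.mk hp
  have h : CfsgLib.SelfCentPrime.Hyp p x := ⟨hx, hC⟩
  have htq := CfsgLib.SelfCentPrime.card_classes_mul_autIndex h
  rw [ht] at htq
  rw [CfsgLib.SelfCentPrime.card_order_p_subgroups h] at hn
  have hcardG := CfsgLib.SelfCentPrime.card_sylow_mul h
  rw [hn] at hcardG
  have hnd : ¬ p ∣ 1 + n * p := by
    intro hd
    have := (Nat.dvd_add_iff_left (dvd_mul_left p n)).2 hd
    exact hp.not_dvd_one this
  have hder1 : derivedSeries G 1 = commutator G := derivedSeries_one G
  have hpart1 : t = p - 1 → Nat.card (commutator G) = 1 + n * p ∧ IsCyclic (G ⧸ commutator G) ∧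
      (commutator G).index = p := by
    intro he
    have hq : CfsgLib.SelfCentPrime.autIndex h = 1 := by
      rw [he] at htq
      exact (mul_eq_left₀ (by have := hp.two_le; omega)).1 htq
    obtain ⟨K, hKn, hidx, -, hcyc, rfl⟩ := CfsgLib.SelfCentPrime.exists_complement h hq
    refine ⟨?_, hcyc, hidx⟩
    have h1 := (commutator G).card_mul_index
    rw [hidx] at h1
    rw [hq, mul_one] at hcardG
    exact Nat.eq_of_mul_eq_mul_right hp.pos (h1.trans hcardG.symm)
  have hq_of_lt : t < p - 1 → CfsgLib.SelfCentPrime.autIndex h ≠ 1 := by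
    intro hlt hq
    rw [hq, mul_one] at htq
    omega
  have hpart2 : t < p - 1 → derivedSeries G 2 ≠ derivedSeries G 1 →
      Nat.card (derivedSeries G 2) = 1 + n * p ∧ Nat.card (commutator G) = p * (1 + n * p) := by
    intro hlt hne
    have hq := hq_of_lt hlt
    set D2 := derivedSeries G 2 with hD2
    haveI : D2.Normal := derivedSeries_normal G 2
    have h21 : D2 ≤ commutator G := hder1 ▸ derivedSeries_antitone G (by norm_num : 1 ≤ 2)
    have hnd2 : ¬ p ∣ Nat.card D2 := fun hd => hne (le_antisymm (hder1 ▸ h21)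
      (hder1 ▸ CfsgLib.SelfCentPrime.commutator_le_of_dvd h hd))
    have hxD := CfsgLib.SelfCentPrime.zpowers_le_commutator h hq
    obtain ⟨hxo, hxc⟩ := CfsgLib.SelfCentPrime.quotient h hnd2
    have hmap : (commutator G).map (QuotientGroup.mk' D2) =
        Subgroup.zpowers (QuotientGroup.mk x : G ⧸ D2) := by
      refine le_antisymm ?_ ?_
      · rintro _ ⟨y, hy, rfl⟩
        rw [← hxc, Subgroup.mem_centralizer_singleton_iff, QuotientGroup.mk'_apply,
          ← QuotientGroup.mk_mul, ← QuotientGroup.mk_mul, QuotientGroup.eq]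
        rw [show (y * x)⁻¹ * (x * y) = ⁅x⁻¹, y⁻¹⁆ by rw [commutatorElement_def]; group, hD2,
          derivedSeries_succ, hder1]
        exact Subgroup.commutator_mem_commutator
          (inv_mem (hxD (Subgroup.mem_zpowers x))) (inv_mem hy)
      · rw [Subgroup.zpowers_le]
        exact ⟨x, hxD (Subgroup.mem_zpowers x), rfl⟩
    have hcardD : Nat.card (commutator G) = p * Nat.card D2 := by
      have h1 : (D2.subgroupOf (commutator G)).index = p := by
        have h2 : Nat.card ((commutator G).map (QuotientGroup.mk' D2)) = p := by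
          rw [hmap, Nat.card_zpowers, hxo]
        have h3 := Subgroup.index_ker ((QuotientGroup.mk' D2).comp (commutator G).subtype)
        rw [MonoidHom.range_comp, Subgroup.range_subtype, h2, ← MonoidHom.comap_ker,
          QuotientGroup.ker_mk'] at h3
        exact h3
      rw [← (D2.subgroupOf (commutator G)).card_mul_index, h1,
        Nat.card_congr (Subgroup.subgroupOfEquivOfLe h21).toEquiv, mul_comm]
    have hdvd := CfsgLib.SelfCentPrime.card_mul_normalizer_dvd h hnd2
    rw [CfsgLib.SelfCentPrime.card_normalizer h, ← hcardG] at hdvd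
    have h4 : Nat.card D2 ∣ 1 + n * p := Nat.dvd_of_mul_dvd_mul_right
      (Nat.mul_pos hp.pos (CfsgLib.SelfCentPrime.autIndex_pos h)) hdvd
    have h5 : (commutator G).index ∣ CfsgLib.SelfCentPrime.autIndex h :=
      CfsgLib.SelfCentPrime.index_commutator_dvd h hq
    have h6 : 1 + n * p ∣ Nat.card D2 := by
      have h7 : Nat.card G ∣ Nat.card D2 * (p * CfsgLib.SelfCentPrime.autIndex h) := by
        rw [← (commutator G).card_mul_index, hcardD, show Nat.card D2 *
          (p * CfsgLib.SelfCentPrime.autIndex h) = p * Nat.card D2 * CfsgLib.SelfCentPrime.autIndex h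
          by ring]
        exact mul_dvd_mul_left _ h5
      rw [← hcardG] at h7
      exact Nat.dvd_of_mul_dvd_mul_right
        (Nat.mul_pos hp.pos (CfsgLib.SelfCentPrime.autIndex_pos h)) h7
    have h8 := Nat.dvd_antisymm h4 h6
    exact ⟨h8, by rw [hcardD, h8]⟩
  refine ⟨⟨?_, ?_⟩, hpart1, hpart2⟩
  · rintro ⟨S, hSn, hS⟩
    have hSp : ¬ p ∣ Nat.card S := hS ▸ hnd
    have htle : t ≤ p - 1 := htq ▸ Nat.le_mul_of_pos_right t (CfsgLib.SelfCentPrime.autIndex_pos h)
    rcases htle.eq_or_lt with he | hlt
    · exact Or.inl he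
    refine Or.inr ⟨hlt, fun he => hSp ?_⟩
    have hq := hq_of_lt hlt
    have htop : Subgroup.normalizer ((Subgroup.zpowers x : Subgroup G) : Set G) ⊔ S = ⊤ := by
      apply Subgroup.eq_top_of_le_card
      set N := Subgroup.normalizer ((Subgroup.zpowers x : Subgroup G) : Set G)
      have h1 : S.relIndex N = Nat.card N := by
        rw [Subgroup.relIndex, Subgroup.index_eq_card, ← Nat.card_congr
          (QuotientGroup.quotientBot (G := N)).toEquiv]
        have : S.subgroupOf N = ⊥ := by
          rw [Subgroup.subgroupOf_eq_bot, disjoint_iff, inf_comm]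
          exact CfsgLib.SelfCentPrime.normalizer_inf_eq_bot h hSp
        rw [this]
      have h2 := Subgroup.relIndex_mul_relIndex ⊥ S (N ⊔ S) bot_le le_sup_right
      rw [Subgroup.relIndex_sup_right, h1, Subgroup.relIndex_bot_left,
        Subgroup.relIndex_bot_left, CfsgLib.SelfCentPrime.card_normalizer h, hS, hcardG] at h2
      exact h2.le
    have hle : derivedSeries G 2 ≤ S := by
      have key : ∀ a b : G, ∃ w ∈ Subgroup.zpowers x,
          QuotientGroup.mk' S ⁅a, b⁆ = QuotientGroup.mk' S w := by
        intro a b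
        have k : ∀ a : G, ∃ m ∈ Subgroup.normalizer ((Subgroup.zpowers x : Subgroup G) : Set G),
            QuotientGroup.mk' S a = QuotientGroup.mk' S m := by
          intro a
          have ha : a ∈ Subgroup.normalizer ((Subgroup.zpowers x : Subgroup G) : Set G) ⊔ S := by
            rw [htop]; trivial
          rw [← SetLike.mem_coe, Subgroup.mul_normal] at ha
          obtain ⟨m, hm, s, hs, rfl⟩ := ha
          refine ⟨m, hm, ?_⟩
          rw [map_mul, QuotientGroup.mk'_apply S s, (QuotientGroup.eq_one_iff s).2 hs, mul_one]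
        obtain ⟨m, hm, hm'⟩ := k a
        obtain ⟨m', hm2, hm2'⟩ := k b
        exact ⟨_, CfsgLib.SelfCentPrime.comm_mem_zpowers h hm hm2,
          by rw [map_commutatorElement, hm', hm2', map_commutatorElement]⟩
      have hDle : (commutator G).map (QuotientGroup.mk' S) ≤
          (Subgroup.zpowers x).map (QuotientGroup.mk' S) := by
        rw [_root_.commutator_eq_closure, MonoidHom.map_closure, Subgroup.closure_le]
        rintro _ ⟨_, ⟨a, b, rfl⟩, rfl⟩
        obtain ⟨w, hw, hw'⟩ := key a b
        exact ⟨w, hw, hw'.symm⟩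
      rw [show (2 : ℕ) = 1 + 1 from rfl, derivedSeries_succ, hder1, Subgroup.commutator_le]
      intro a ha b hb
      rw [← QuotientGroup.eq_one_iff, ← QuotientGroup.mk'_apply, map_commutatorElement]
      obtain ⟨u, hu, hua⟩ := hDle ⟨a, ha, rfl⟩
      obtain ⟨v, hv, hvb⟩ := hDle ⟨b, hb, rfl⟩
      obtain ⟨i, rfl⟩ := Subgroup.mem_zpowers_iff.1 hu
      obtain ⟨j, rfl⟩ := Subgroup.mem_zpowers_iff.1 hv
      rw [← hua, ← hvb, ← map_commutatorElement,
        commutatorElement_eq_one_iff_mul_comm.2 (zpow_mul_comm x i j), map_one]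
    exact (hx ▸ Subgroup.orderOf_dvd_natCard _
      (hle (he.symm ▸ hder1.symm ▸
        CfsgLib.SelfCentPrime.zpowers_le_commutator h hq (Subgroup.mem_zpowers x))))
  · rintro (he | ⟨hlt, hne⟩)
    · exact ⟨commutator G, inferInstance, (hpart1 he).1⟩
    · exact ⟨derivedSeries G 2, derivedSeries_normal G 2, (hpart2 hlt hne).1⟩

end Cfsg.Agent.S4509
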