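import Cfsg.Statements.S4510
import Cfsg.Agent.Lib.BlockReg.Regular


set_option autoImplicit false
open Cfsg

namespace Cfsg.Agent.S4510

open Cfsg CfsgLib.BlockReg


/-- Let G be a finite group, p a prime, M a maximal ideal of the algebraic integers containing p, and call the defect of a conjugacy class the exponent of p in the order of the centralizer of its elements. Two irreducible characters lying in p-blocks of defect exactly d lie in the same block if and only if their central characters (class size times χ(x)/χ(1)) agree modulo the local ideal at M at every p-regular element x whose class has defect exactly d. -/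
theorem result {G : Type*} [Group G] [Finite G] (p : ℕ) [Fact p.Prime] (M : Ideal Cfsg.AlgInt) (hM : Cfsg.IsPModular p M) (d : ℕ) (χ ψ : Cfsg.IrrCharacter G) (hχ : Cfsg.blockDefect p (Cfsg.blockOf M (χ : G → ℂ)) = d) (hψ : Cfsg.blockDefect p (Cfsg.blockOf M (ψ : G → ℂ)) = d) : Cfsg.SameBlock M (χ : G → ℂ) (ψ : G → ℂ) ↔ ∀ x : G, ¬ p ∣ orderOf x → (Nat.card (Subgroup.centralizer ({x} : Set G))).factorization p = d → Cfsg.MemLocalIdeal M (Cfsg.centralChar (χ : G → ℂ) x - Cfsg.centralChar (ψ : G → ℂ) x) := by
  classical
  let _ := Fintype.ofFinite G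
  refine ⟨fun h x _ _ => h x, fun h => ?_⟩
  set B := blockOf M (χ : G → ℂ)
  have hB : IsPBlock M B := ⟨χ, rfl⟩
  have hχB : χ ∈ B := sameBlock_refl hM _
  have hψB : ψ ∈ blockOf M (ψ : G → ℂ) := sameBlock_refl hM _
  have ha : ∀ ξ : IrrCharacter G,
      minExp p (blockOf M (ξ : G → ℂ)) ≤ (Nat.card G).factorization p := fun ξ =>
    (minExp_le (sameBlock_refl hM _)).trans (factorization_deg_le ξ)
  have hχe := ha χ
  have hψe := ha ψ
  rw [blockDefect_eq] at hχ hψ
  by_contra hns
  have hψn : ψ ∉ B := hns
  have h1 := (sum_blockCoeff_mul_char B χ).1 hχB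
  have h0 := (sum_blockCoeff_mul_char B ψ).2 hψn
  rw [sum_mul_char_div χ _ (fun g k hgk => blockCoeff_congr B hgk)] at h1
  rw [sum_mul_char_div ψ _ (fun g k hgk => blockCoeff_congr B hgk)] at h0
  refine not_memIdeal_one hM ?_
  rw [show (1 : ℂ) = 1 - 0 by simp]
  nth_rewrite 1 [← h1]
  rw [← h0, ← Finset.sum_sub_distrib]
  refine memIdeal_sum hM _ fun C _ => ?_
  rw [← mul_sub]
  set g := C.out
  have hR := memRing_blockCoeff hM hB g
  by_cases hsing : p ∣ orderOf g
  · rw [blockCoeff_singular hM hB g hsing, zero_mul]; exact memIdeal_zero hM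
  by_cases hI : MemLocalIdeal M (blockCoeff B g)
  · exact memIdeal_mul_right hM hI
      (memRing_sub hM (memRing_centralChar hM χ g) (memRing_centralChar hM ψ g))
  refine memIdeal_mul_left hM hR ?_
  have hle := le_factorization_csize hM hB hI
  rcases eq_or_lt_of_le hle with heq | hlt
  · refine h g hsing ?_
    have hm := congrArg (fun n : ℕ => n.factorization p) (csize_mul_card (G := G) g)
    simp only [Nat.factorization_mul Nat.card_pos.ne' (csize_ne_zero g), Finsupp.add_apply] at hm
    omega
  · refine memIdeal_sub hM ?_ ?_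
    · by_contra hc
      have := factorization_csize_le hM hB hχB hc
      omega
    · by_contra hc
      have := factorization_csize_le hM ⟨ψ, rfl⟩ hψB hc
      omega

end Cfsg.Agent.S4510
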