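import Cfsg.Statements.S4512
import Cfsg.Agent.Lib.Invol.KleinPrincipal

set_option autoImplicit false
open Cfsg

namespace Cfsg.Agent.S4512

/-- If G is a finite group with a Sylow 2-subgroup that is a Klein four-group and a single conjugacy class of involutions, then its principal 2-block (relative to a maximal ideal M of the algebraic integers containing 2) has 2-regular rank 3: the restrictions of its irreducible characters to the elements of odd order span a space of dimension 3 (it has three irreducible Brauer characters). -/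
theorem result {G : Type*} [Group G] [Finite G] (M : Ideal Cfsg.AlgInt) (hM : Cfsg.IsPModular 2 M) (P : Sylow 2 G)
    (hP : Nat.card P = 4) (hexp : ∀ x : P, x * x = 1)
    (hone : ∀ s t : G, orderOf s = 2 → orderOf t = 2 → IsConj s t) :
    Cfsg.blockRank 2 (Cfsg.principalBlock M G) = 3 := by
  classical
  have : Fact (Nat.Prime 2) := ⟨Nat.prime_two⟩
  have hK : IsKleinFour (P : Subgroup G) := by
    refine ⟨hP, ?_⟩
    have hdvd : Monoid.exponent P ∣ 2 :=
      Monoid.exponent_dvd_of_forall_pow_eq_one fun x => by rw [sq]; exact hexp x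
    rcases (Nat.dvd_prime Nat.prime_two).1 hdvd with h | h
    · have : Subsingleton P := Monoid.exp_eq_one_iff.1 h
      exact absurd (hP.symm.trans (Nat.card_of_subsingleton (1 : (P : Subgroup G)))) (by norm_num)
    · exact h
  obtain ⟨ρ, s, hinj, hρ0, hB, hs0, hs, -, -, hrel, hindep⟩ :=
    CfsgLib.Invol.KleinBlock.exists_four P hK hone hM
  let v : Fin 4 → G → ℂ := fun i => Cfsg.pRegularPart 2 (ρ i : G → ℂ)
  have hv : ∀ i (g : G), v i g = if ¬ 2 ∣ orderOf g then (ρ i : G → ℂ) g else 0 := fun i g => by
    simp only [v, Cfsg.pRegularPart, Cfsg.IsPRegular]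
    congr
  have himg : (fun χ : Cfsg.IrrCharacter G => Cfsg.pRegularPart 2 (χ : G → ℂ)) ''
      Cfsg.principalBlock M G = Set.range v := by
    ext f
    simp only [Set.mem_image, Set.mem_range, v]
    constructor
    · rintro ⟨χ, hχ, rfl⟩
      obtain ⟨i, rfl⟩ := (hB χ).1 (CfsgLib.Invol.BlockCol.mem_pBlock.2 hχ)
      exact ⟨i, rfl⟩
    · rintro ⟨i, rfl⟩
      exact ⟨ρ i, CfsgLib.Invol.BlockCol.mem_pBlock.1 ((hB _).2 ⟨i, rfl⟩), rfl⟩
  let w : Fin 3 → G → ℂ := fun j => v j.succ
  have hv0 : v 0 = -∑ j : Fin 3, (s j.succ : ℂ) • w j := by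
    funext g
    simp only [Pi.neg_apply, Finset.sum_apply, Pi.smul_apply, smul_eq_mul, w, hv]
    by_cases hg : 2 ∣ orderOf g
    · simp [hg]
    · have h := hrel g hg
      rw [Fin.sum_univ_succ, hs0, Int.cast_one, one_mul] at h
      simp only [if_pos hg]
      exact eq_neg_of_add_eq_zero_left h
  have hspan : Submodule.span ℂ (Set.range v) = Submodule.span ℂ (Set.range w) := by
    refine le_antisymm (Submodule.span_le.2 ?_) (Submodule.span_mono ?_)
    · rintro f ⟨i, rfl⟩
      refine Fin.cases ?_ (fun j => Submodule.subset_span (Set.mem_range_self j)) i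
      rw [hv0]
      exact Submodule.neg_mem _ (Submodule.sum_mem _ fun j _ =>
        Submodule.smul_mem _ _ (Submodule.subset_span (Set.mem_range_self j)))
    · rintro f ⟨j, rfl⟩
      exact ⟨j.succ, rfl⟩
  have hli : LinearIndependent ℂ w := by
    rw [Fintype.linearIndependent_iff]
    intro c hc j
    have h := hindep (Fin.cons 0 c) (fun y hy => by
      rw [Fin.sum_univ_succ]
      simpa [w, hv, hy] using congrFun hc y) j.succ
    simpa using h
  rw [Cfsg.blockRank, himg, hspan, finrank_span_eq_card hli, Fintype.card_fin]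

end Cfsg.Agent.S4512
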