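import Cfsg.Statements.S4513
import Cfsg.Agent.Lib.BlockRank.Subsection
import Cfsg.Agent.Lib.BlockRank.Major
import Cfsg.Agent.Lib.BlockRank.RankOne
import Cfsg.Agent.Lib.BlockReg.Bounds
import Cfsg.Agent.Lib.Blocks.Defect
import Cfsg.Agent.Lib.Blocks.Induced
import Cfsg.Agent.Lib.Char.Clifford


set_option autoImplicit false
open Cfsg

namespace Cfsg.Agent.S4513

open Cfsg CfsgLib CfsgLib.BlockReg CfsgLib.BlockRank
open scoped ComplexConjugate


theorem main {G : Type*} [Group G] [Fintype G] {M : Ideal Cfsg.AlgInt} (hM : Cfsg.IsPModular 2 M)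
    {x : G} (hx : orderOf x = 2) {B : Set (Cfsg.IrrCharacter G)} (hB : Cfsg.IsPBlock M B)
    (hBD : Cfsg.IsDefectGroup 2 M B (Subgroup.zpowers x)) {C : Subgroup G} [Fintype C]
    (hC : C = Subgroup.centralizer ({x} : Set G)) {b : Set (Cfsg.IrrCharacter C)}
    (hb : Cfsg.IsInducedBlock M C b B) {θ : Cfsg.IrrCharacter C} (hθ : θ ∈ b)
    (hθx : ∀ z : C, (z : G) = x → (θ : C → ℂ) z = (θ : C → ℂ) 1) :
    Nat.card B = 2 ∧ (∀ χ ∈ B, ∀ ψ ∈ B, ∀ g : G, ¬ 2 ∣ orderOf g → (χ : G → ℂ) g = (ψ : G → ℂ) g) ∧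
      ∃ χ₁ ∈ B, ∃ χ₂ ∈ B, χ₁ ≠ χ₂ ∧ ∃ ε₁ ε₂ : ℤ, (ε₁ = 1 ∨ ε₁ = -1) ∧ (ε₂ = 1 ∨ ε₂ = -1) ∧
        ε₁ * ε₂ = -1 ∧ ∀ y : C, ¬ 2 ∣ orderOf y →
          (χ₁ : G → ℂ) (x * y) = (ε₁ : ℂ) * (θ : C → ℂ) y ∧
          (χ₂ : G → ℂ) (x * y) = (ε₂ : ℂ) * (θ : C → ℂ) y := by
  classical
  have := Fact.mk Nat.prime_two
  have := hM.2.1
  let _ := Fintype.ofFinite (ConjClasses G)
  let _ := Fintype.ofFinite B
  let _ := Fintype.ofFinite b
  have hx2 : ∃ k : ℕ, orderOf x = 2 ^ k := ⟨1, by rw [hx, pow_one]⟩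
  have hbB : IsPBlock M b := hb.1
  -- defect one
  have hd1 : blockDefect 2 B = 1 := by
    have h := CfsgLib.Blocks.card_defectGroup hM hB hBD
    rw [Nat.card_zpowers, hx] at h
    exact (Nat.pow_right_injective le_rfl ((pow_one 2).trans h)).symm
  have hk2 : Nat.card B ≤ 2 := by
    have h := BlockReg.brauer_feit hM hB
    rw [hd1] at h
    omega
  -- one subsection at `x`, of rank one
  let rep : ConjClasses G → G := fun K => if K = ConjClasses.mk x then x else K.out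
  have hrep : ∀ K, ConjClasses.mk (rep K) = K := by
    intro K
    simp only [rep]
    split_ifs with h
    · exact h.symm
    · exact Quotient.out_eq K
  let X : Finset G := (Finset.univ.filter fun g : G =>
    (∃ k : ℕ, orderOf g = 2 ^ k) ∧ rep (ConjClasses.mk g) = g)
  have hX : ∀ g ∈ X, ∃ k : ℕ, orderOf g = 2 ^ k := fun g hg => (Finset.mem_filter.1 hg).2.1
  have hXrep : ∀ g : G, (∃ k : ℕ, orderOf g = 2 ^ k) → ∃! y, y ∈ X ∧ IsConj g y := by
    intro g hg
    have hc : IsConj g (rep (ConjClasses.mk g)) :=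
      ConjClasses.mk_eq_mk_iff_isConj.1 (hrep _).symm
    refine ⟨rep (ConjClasses.mk g), ⟨Finset.mem_filter.2 ⟨Finset.mem_univ _, ?_, ?_⟩, hc⟩, ?_⟩
    · obtain ⟨c, hc'⟩ := isConj_iff.1 hc
      rw [← hc', show orderOf (c * g * c⁻¹) = orderOf g from
        MulEquiv.orderOf_eq (MulAut.conj c) g]
      exact hg
    · rw [hrep]
    · rintro y ⟨hy, hgy⟩
      rw [← (Finset.mem_filter.1 hy).2.2, ConjClasses.mk_eq_mk_iff_isConj.2 hgy]
  have hxX : x ∈ X := Finset.mem_filter.2 ⟨Finset.mem_univ _, hx2, by simp [rep]⟩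
  have hrep1 : rep (ConjClasses.mk 1) = 1 :=
    (isConj_one_right.1 (ConjClasses.mk_eq_mk_iff_isConj.1 (hrep (ConjClasses.mk 1)).symm))
  have h1X : (1 : G) ∈ X := Finset.mem_filter.2 ⟨Finset.mem_univ _, ⟨0, by simp⟩, hrep1⟩
  have hcount := card_eq_sum_sections hM hB X hX hXrep
  have hne : (1 : G) ≠ x := fun h => by rw [← h, orderOf_one] at hx; exact absurd hx (by norm_num)
  have hsub : ({1, x} : Finset G) ⊆ X := Finset.insert_subset h1X (Finset.singleton_subset_iff.2 hxX)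
  set T : G → ℕ := fun g => ∑ᶠ e ∈ {e : Set (IrrCharacter (Subgroup.centralizer ({g} : Set G))) |
    IsInducedBlock M (Subgroup.centralizer ({g} : Set G)) e B}, blockRank 2 e with hT
  have hT2 : T 1 + T x ≤ 2 := by
    refine le_trans ?_ (hcount.symm.le.trans hk2)
    rw [← Finset.sum_pair hne (f := T)]
    exact Finset.sum_le_sum_of_subset hsub
  have hT1 : T 1 ≠ 0 := by
    intro h0
    let _ := Fintype.ofFinite (Subgroup.centralizer ({(1 : G)} : Set G))
    have h := sum_section_eq hM (x := (1 : G)) rfl ⟨0, by simp⟩ hB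
    rw [show (∑ᶠ e ∈ {e : Set (IrrCharacter (Subgroup.centralizer ({(1 : G)} : Set G))) |
      IsInducedBlock M (Subgroup.centralizer ({(1 : G)} : Set G)) e B}, blockRank 2 e) = 0 from h0,
      Nat.cast_zero, mul_zero] at h
    obtain ⟨χ, hχ⟩ := BlockReg.block_nonempty hM hB
    simp only [Complex.mul_conj] at h
    simp only [← Complex.ofReal_sum, Complex.ofReal_eq_zero] at h
    have h1 := (Finset.sum_eq_zero_iff_of_nonneg (fun χ _ =>
      Finset.sum_nonneg fun s _ => Complex.normSq_nonneg _)).1 h χ (Set.mem_toFinset.2 hχ)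
    have h2 := (Finset.sum_eq_zero_iff_of_nonneg fun s _ => Complex.normSq_nonneg _).1 h1 1
      (Finset.mem_filter.2 ⟨Finset.mem_univ _, by simp [IsPRegular]⟩)
    rw [OneMemClass.coe_one, mul_one] at h2
    exact deg_ne_zero χ (Complex.normSq_eq_zero.1 h2)
  have hTx : T x = ∑ e ∈ {e : Set (IrrCharacter C) | IsInducedBlock M C e B}.toFinset,
      blockRank 2 e := by
    subst hC
    exact finsum_mem_eq_toFinset_sum _ _
  have hbmem : b ∈ {e : Set (IrrCharacter C) | IsInducedBlock M C e B}.toFinset :=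
    Set.mem_toFinset.2 hb
  have hlb : blockRank 2 b = 1 ∧ ∀ e, IsInducedBlock M C e B → e = b := by
    have hle : T x ≤ 1 := by omega
    rw [hTx] at hle
    have hpos : ∀ e : Set (IrrCharacter C), IsPBlock M e → 0 < blockRank 2 e := fun e he =>
      blockRank_pos (by norm_num) (BlockReg.block_nonempty hM he)
    have h1 := Finset.single_le_sum (f := fun e => blockRank 2 e) (fun _ _ => Nat.zero_le _) hbmem
    have h0 := hpos b hbB
    refine ⟨by omega, fun e he => ?_⟩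
    by_contra hne'
    have hem : e ∈ {e : Set (IrrCharacter C) | IsInducedBlock M C e B}.toFinset :=
      Set.mem_toFinset.2 he
    have h2 : blockRank 2 e + blockRank 2 b ≤ 1 := by
      rw [← Finset.sum_pair hne' (f := fun e => blockRank 2 e)]
      exact le_trans (Finset.sum_le_sum_of_subset
        (Finset.insert_subset hem (Finset.singleton_subset_iff.2 hbmem))) hle
    have := hpos e he.1
    omega
  obtain ⟨hl, huniq⟩ := hlb
  have hxC : x ∈ C := hC.ge <| Subgroup.mem_centralizer_iff.2 fun y hy => by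
    rw [Set.mem_singleton_iff.1 hy]
  set X' : C := ⟨x, hxC⟩
  have hX'c : X' ∈ Subgroup.center C := Subgroup.mem_center_iff.2 fun c => Subtype.ext
    ((Subgroup.mem_centralizer_iff.1 (hC.le c.2 : (c : G) ∈ _) x rfl).symm)
  have hX'sq : X' ^ 2 = 1 := Subtype.ext (by
    rw [Subgroup.coe_pow, Subgroup.coe_one, ← hx, pow_orderOf_eq_one])
  -- the block `b` has two members
  obtain ⟨φ, nφ, d, -, hdφ, hdsum⟩ := exists_rankOne_data hM hbB hl
  have h1reg : IsPRegular 2 (1 : C) := by simp [IsPRegular]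
  have hdpos : ∀ ψ ∈ b, 1 ≤ d ψ := by
    intro ψ hψ
    refine Nat.one_le_iff_ne_zero.2 fun h0 => deg_ne_zero ψ ?_
    rw [hdφ ψ hψ 1 h1reg, h0, Nat.cast_zero, zero_mul]
  have hdb : blockDefect 2 b ≤ 1 := by
    obtain ⟨D, hD⟩ := CfsgLib.Blocks.exists_defectGroup hM hbB
    obtain ⟨E, hE, hDE⟩ := CfsgLib.Blocks.exists_defectGroup_ge hM hb hD
    have h1 := CfsgLib.Blocks.card_defectGroup hM hB hE
    have h2 := CfsgLib.Blocks.card_defectGroup hM hbB hD
    have h3 := Subgroup.card_dvd_of_le hDE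
    rw [Subgroup.card_map_of_injective C.subtype_injective, h1, h2, hd1] at h3
    exact (Nat.pow_dvd_pow_iff_le_right (by norm_num)).1 h3
  have hxsing : (2 : ℕ) ∣ orderOf X' := by rw [← Subgroup.orderOf_coe]; simp [X', hx]
  have hbcard : Fintype.card b = 2 ∧ ∀ ψ ∈ b, d ψ = 1 := by
    have hle : ∑ ψ ∈ b.toFinset, (1 : ℕ) ≤ ∑ ψ ∈ b.toFinset, d ψ ^ 2 :=
      Finset.sum_le_sum fun ψ hψ => Nat.one_le_pow _ _ (hdpos ψ (Set.mem_toFinset.1 hψ))
    rw [Finset.sum_const, Set.toFinset_card, smul_eq_mul, mul_one, hdsum] at hle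
    have hcard : Fintype.card b ≠ 1 := by
      intro h1
      have hbt : b.toFinset = {θ} := by
        obtain ⟨a, ha⟩ := Finset.card_eq_one.1 (Set.toFinset_card b ▸ h1)
        have : θ ∈ b.toFinset := Set.mem_toFinset.2 hθ
        rw [ha] at this ⊢
        rw [Finset.mem_singleton.1 this]
      have h := block_orthogonality hM hbB 1 X' (by simp) hxsing
      rw [finsum_mem_eq_toFinset_sum, hbt, Finset.sum_singleton, hθx X' rfl] at h
      exact deg_ne_zero θ (mul_self_eq_zero.1 (by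
        rwa [show conj ((θ : C → ℂ) 1) = (θ : C → ℂ) 1 by
          rw [← BlockReg.deg_cast, Complex.conj_natCast]] at h))
    have hb1 : 1 ≤ Fintype.card b := Fintype.card_pos_iff.2 ⟨⟨θ, hθ⟩⟩
    have h2 : 2 ^ blockDefect 2 b ≤ 2 := by
      calc 2 ^ blockDefect 2 b ≤ 2 ^ 1 := Nat.pow_le_pow_right (by norm_num) hdb
        _ = 2 := pow_one 2
    refine ⟨by omega, fun ψ hψ => ?_⟩
    by_contra hd
    have h4 : 2 ≤ d ψ := by have := hdpos ψ hψ; omega
    have h5 : d ψ ^ 2 ≤ ∑ ψ ∈ b.toFinset, d ψ ^ 2 :=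
      Finset.single_le_sum (f := fun ψ => d ψ ^ 2) (fun _ _ => Nat.zero_le _)
        (Set.mem_toFinset.2 hψ)
    rw [hdsum] at h5
    nlinarith
  obtain ⟨hbcard, hd⟩ := hbcard
  have hθφ : ∀ s : C, IsPRegular 2 s → ∀ ψ ∈ b, (ψ : C → ℂ) s = (θ : C → ℂ) s := fun s hs ψ hψ => by
    rw [hdφ ψ hψ s hs, hdφ θ hθ s hs, hd ψ hψ, hd θ hθ]
  -- the values on the section
  have hval : ∀ χ ∈ B, ∃ m : ℤ, ∀ s : C, IsPRegular 2 s →
      (χ : G → ℂ) (x * s) = (m : ℂ) * (θ : C → ℂ) s := by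
    intro χ hχ
    set F : C → ℂ := fun c => (χ : G → ℂ) (x * c)
    let _ := Fintype.ofFinite {e : Set (IrrCharacter C) // IsPBlock M e}
    have hint : ∀ ψ : IrrCharacter C, ∃ m : ℤ, classInner F (ψ : C → ℂ) = (m : ℂ) := by
      intro ψ
      obtain ⟨i, hi⟩ := exists_central_root (n := 2) (by norm_num)
        (IsPrimitiveRoot.neg_one 0 (by norm_num) : IsPrimitiveRoot (-1 : ℂ) 2) hX'c hX'sq ψ
      obtain ⟨n, hn⟩ := Char.IsCharacter.exists_nat_classInner
        (Clifford.isCharacter_res (Char.IsIrrCharacter.isCharacter χ.2) C) ψ.2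
      refine ⟨(-1) ^ i * n, ?_⟩
      push_cast
      rw [← hn, classInner, classInner, mul_left_comm]
      congr 1
      rw [Finset.mul_sum]
      refine Fintype.sum_equiv (Equiv.mulLeft X') _ _ fun c => ?_
      simp only [Equiv.coe_mulLeft]
      rw [hi c, map_mul, map_pow, map_neg, map_one, Subgroup.coe_mul]
      have h1 : ((-1 : ℂ) ^ i) * ((-1 : ℂ) ^ i) = 1 := by
        rw [← pow_add]; exact Even.neg_one_pow ⟨i, rfl⟩
      linear_combination (χ : G → ℂ) (x * (c : G)) * conj ((ψ : C → ℂ) c) * h1.symm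
    choose m hm using hint
    refine ⟨∑ ψ ∈ b.toFinset, m ψ, fun s hs => ?_⟩
    show F s = _
    have hexp := sum_blockPart_blocks hM (isClassFunction_translate hC χ) s
    rw [show F s = _ from hexp,
      Finset.sum_eq_single (⟨b, hbB⟩ : {e : Set (IrrCharacter C) // IsPBlock M e})]
    · rw [blockPart_apply]
      push_cast
      rw [Finset.sum_mul]
      exact Finset.sum_congr rfl fun ψ hψ => by rw [hm, hθφ s hs ψ (Set.mem_toFinset.1 hψ)]
    · rintro ⟨e, he⟩ - hne'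
      let _ := Fintype.ofFinite e
      obtain ⟨B', hB'⟩ := exists_isInducedBlock_centralizer hM (x := x) hC hx2 he
      have hnot : χ ∉ B' := fun hχ' => by
        refine hne' (Subtype.ext (huniq e ?_))
        rwa [BlockReg.block_eq_blockOf hM hB hχ, ← BlockReg.block_eq_blockOf hM hB'.2.1 hχ']
      have h := regNorm_translate_eq_zero hM hC hx2 he hB' hnot
      rw [regNorm_eq] at h
      simp only [Complex.mul_conj] at h
      rw [← Complex.ofReal_sum, Complex.ofReal_eq_zero] at h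
      exact Complex.normSq_eq_zero.1 ((Finset.sum_eq_zero_iff_of_nonneg fun s _ =>
        Complex.normSq_nonneg _).1 h s (Finset.mem_filter.2 ⟨Finset.mem_univ _, hs⟩))
    · simp
  choose! m hm using hval
  -- norms
  have hthnorm : 2 * ∑ s ∈ regSet 2, (θ : C → ℂ) s * conj ((θ : C → ℂ) s) = (Nat.card C : ℂ) := by
    have h := cast_blockRank_eq b (regClosed_of_isPBlock hM hbB)
    rw [hl, Nat.cast_one] at h
    have he : ∀ ψ : b, classInner (pRegularPart 2 ((ψ : IrrCharacter C) : C → ℂ))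
        ((ψ : IrrCharacter C) : C → ℂ) =
        (Nat.card C : ℂ)⁻¹ * ∑ s ∈ regSet 2, (θ : C → ℂ) s * conj ((θ : C → ℂ) s) := by
      intro ψ
      rw [classInner_pRegularPart_eq, regPair]
      congr 1
      exact Finset.sum_congr rfl fun s hs => by
        rw [hθφ s (Finset.mem_filter.1 hs).2 ψ ψ.2]
    rw [Finset.sum_congr rfl fun ψ _ => he ψ, Finset.sum_const, Finset.card_univ, hbcard,
      nsmul_eq_mul] at h
    have hN : (Nat.card C : ℂ) ≠ 0 := Nat.cast_ne_zero.2 Nat.card_pos.ne'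
    field_simp at h
    linear_combination -h
  have hsum : ∑ χ ∈ B.toFinset, m χ ^ 2 = 2 := by
    have h := sum_section_eq hM (x := x) hC hx2 hB
    have hT1' : (∑ᶠ e ∈ {e : Set (IrrCharacter C) | IsInducedBlock M C e B}, blockRank 2 e) = 1 := by
      rw [finsum_mem_eq_toFinset_sum,
        Finset.sum_eq_single_of_mem b hbmem (fun e he hne' =>
          absurd (huniq e ((Set.mem_toFinset (s := {e : Set (IrrCharacter C) | IsInducedBlock M C e B})).1 he)) hne'), hl]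
    rw [hT1', Nat.cast_one, mul_one] at h
    have h' : (∑ χ ∈ B.toFinset, ((m χ : ℂ)) ^ 2) *
        ∑ s ∈ regSet 2, (θ : C → ℂ) s * conj ((θ : C → ℂ) s) = (Nat.card C : ℂ) := by
      rw [← h, Finset.sum_mul]
      refine Finset.sum_congr rfl fun χ hχ => ?_
      rw [Finset.mul_sum]
      refine Finset.sum_congr rfl fun s hs => ?_
      rw [hm χ (Set.mem_toFinset.1 hχ) s (Finset.mem_filter.1 hs).2, map_mul, map_intCast]
      ring
    have hS : (∑ s ∈ regSet 2, (θ : C → ℂ) s * conj ((θ : C → ℂ) s)) ≠ 0 := fun h0 => by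
      rw [h0, mul_zero] at hthnorm
      exact Nat.cast_ne_zero.2 Nat.card_pos.ne' hthnorm.symm
    have : (∑ χ ∈ B.toFinset, ((m χ : ℂ)) ^ 2) = 2 := mul_right_cancel₀ hS (h'.trans hthnorm.symm)
    exact_mod_cast this
  have hcard : B.toFinset.card = 2 := by
    have h1 : 1 ≤ B.toFinset.card := by
      obtain ⟨χ, hχ⟩ := BlockReg.block_nonempty hM hB
      exact Finset.card_pos.2 ⟨χ, Set.mem_toFinset.2 hχ⟩
    have h2 : B.toFinset.card ≤ 2 := by
      rwa [Set.toFinset_card, ← Nat.card_eq_fintype_card]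
    rcases Nat.lt_or_ge B.toFinset.card 2 with h | h
    · obtain ⟨χ, hχ⟩ := Finset.card_eq_one.1 (show B.toFinset.card = 1 by omega)
      rw [hχ, Finset.sum_singleton] at hsum
      have : (m χ).natAbs ^ 2 = 2 := by
        have := congrArg Int.natAbs hsum
        simpa [Int.natAbs_pow] using this
      rcases Nat.lt_or_ge (m χ).natAbs 2 with h' | h'
      · interval_cases hh : (m χ).natAbs <;> simp at this
      · nlinarith
    · omega
  obtain ⟨χ₁, χ₂, hne12, hB12⟩ := Finset.card_eq_two.1 hcard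
  have hm1 : χ₁ ∈ B := Set.mem_toFinset.1 (hB12 ▸ Finset.mem_insert_self _ _)
  have hm2 : χ₂ ∈ B := Set.mem_toFinset.1 (hB12 ▸ Finset.mem_insert.2 (Or.inr (Finset.mem_singleton_self _)))
  rw [hB12, Finset.sum_pair hne12] at hsum
  have horth : ∀ g : G, ¬ 2 ∣ orderOf g →
      (χ₁ : G → ℂ) g * (m χ₁ : ℂ) + (χ₂ : G → ℂ) g * (m χ₂ : ℂ) = 0 := by
    intro g hg
    have h := block_orthogonality hM hB g x hg (hx ▸ dvd_rfl)
    rw [finsum_mem_eq_toFinset_sum, hB12, Finset.sum_pair hne12] at h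
    have hx1 : ∀ χ ∈ B, (χ : G → ℂ) x = (m χ : ℂ) * (θ : C → ℂ) 1 := fun χ hχ => by
      simpa using hm χ hχ 1 h1reg
    rw [hx1 χ₁ hm1, hx1 χ₂ hm2, map_mul, map_mul, map_intCast, map_intCast] at h
    have hc : conj ((θ : C → ℂ) 1) ≠ 0 := by simpa using deg_ne_zero θ
    refine (mul_eq_zero.1 (?_ : conj ((θ : C → ℂ) 1) *
      ((χ₁ : G → ℂ) g * (m χ₁ : ℂ) + (χ₂ : G → ℂ) g * (m χ₂ : ℂ)) = 0)).resolve_left hc
    linear_combination h
  have hs1 : m χ₁ = 1 ∨ m χ₁ = -1 ∨ m χ₁ = 0 := by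
    have : m χ₁ ^ 2 ≤ 2 := by nlinarith [sq_nonneg (m χ₂)]
    have h' : -1 ≤ m χ₁ ∧ m χ₁ ≤ 1 := ⟨by nlinarith, by nlinarith⟩
    omega
  have hd1' : ((charDegree (χ₁ : G → ℂ) : ℤ) * m χ₁ + (charDegree (χ₂ : G → ℂ) : ℤ) * m χ₂) = 0 := by
    have h := horth 1 (by simp)
    rw [← BlockReg.deg_cast, ← BlockReg.deg_cast] at h
    exact_mod_cast h
  have hp1 : (0 : ℤ) < charDegree (χ₁ : G → ℂ) := by exact_mod_cast BlockReg.deg_pos χ₁
  have hp2 : (0 : ℤ) < charDegree (χ₂ : G → ℂ) := by exact_mod_cast BlockReg.deg_pos χ₂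
  have hopp : (m χ₁ = 1 ∧ m χ₂ = -1) ∨ (m χ₁ = -1 ∧ m χ₂ = 1) := by
    have hs2 : -1 ≤ m χ₂ ∧ m χ₂ ≤ 1 := ⟨by nlinarith [sq_nonneg (m χ₁)], by nlinarith [sq_nonneg (m χ₁)]⟩
    obtain ⟨a, b'⟩ := hs2
    rcases hs1 with h | h | h <;> rw [h] at hsum hd1' ⊢ <;>
      interval_cases hh : m χ₂ <;> simp_all <;> omega
  have heq : ∀ g : G, ¬ 2 ∣ orderOf g → (χ₁ : G → ℂ) g = (χ₂ : G → ℂ) g := by
    intro g hg
    have := horth g hg
    rcases hopp with ⟨a, b'⟩ | ⟨a, b'⟩ <;> rw [a, b'] at this <;> push_cast at this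
    · linear_combination this
    · linear_combination -this
  refine ⟨by rw [Nat.card_eq_fintype_card, ← Set.toFinset_card, hcard], fun χ hχ ψ hψ g hg => ?_,
    χ₁, hm1, χ₂, hm2, hne12, m χ₁, m χ₂, by omega, by omega, ?_, fun y hy =>
    ⟨hm χ₁ hm1 y hy, hm χ₂ hm2 y hy⟩⟩
  · have e1 := Set.mem_toFinset.2 hχ
    have e2 := Set.mem_toFinset.2 hψ
    rw [hB12, Finset.mem_insert, Finset.mem_singleton] at e1 e2
    rcases e1 with rfl | rfl <;> rcases e2 with rfl | rfl <;>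
      first | rfl | exact heq g hg | exact (heq g hg).symm
  · rcases hopp with ⟨a, b'⟩ | ⟨a, b'⟩ <;> rw [a, b'] <;> norm_num


/-- Blocks of defect one for p = 2. Let M be a maximal ideal of the algebraic integers containing 2, B a 2-block of the finite group G whose defect group is the subgroup generated by an involution x, C = C_G(x), b a block of C inducing B and θ a member of b taking the same value at x as at 1 (there is exactly one). Then B consists of exactly two irreducible characters, which agree on every element of odd order, and they can be labelled χ₁, χ₂ with signs ε₁, ε₂ = ±1, ε₁ε₂ = −1, such that χᵢ(x y) = εᵢ θ(y) for every element y of C of odd order. -/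
theorem result {G : Type*} [Group G] [Finite G] (M : Ideal Cfsg.AlgInt) (hM : Cfsg.IsPModular 2 M) (x : G) (hx : orderOf x = 2)
    (B : Set (Cfsg.IrrCharacter G)) (hB : Cfsg.IsPBlock M B) (hBD : Cfsg.IsDefectGroup 2 M B (Subgroup.zpowers x))
    (b : Set (Cfsg.IrrCharacter ↥(Subgroup.centralizer ({x} : Set G)))) (hb : Cfsg.IsInducedBlock M (Subgroup.centralizer ({x} : Set G)) b B)
    (θ : Cfsg.IrrCharacter ↥(Subgroup.centralizer ({x} : Set G))) (hθ : θ ∈ b)
    (hθx : ∀ z : ↥(Subgroup.centralizer ({x} : Set G)), (z : G) = x → (θ : ↥(Subgroup.centralizer ({x} : Set G)) → ℂ) z = (θ : ↥(Subgroup.centralizer ({x} : Set G)) → ℂ) 1) :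
    Nat.card B = 2 ∧ (∀ χ ∈ B, ∀ ψ ∈ B, ∀ g : G, ¬ 2 ∣ orderOf g → (χ : G → ℂ) g = (ψ : G → ℂ) g) ∧
      ∃ χ₁ ∈ B, ∃ χ₂ ∈ B, χ₁ ≠ χ₂ ∧ ∃ ε₁ ε₂ : ℤ, (ε₁ = 1 ∨ ε₁ = -1) ∧ (ε₂ = 1 ∨ ε₂ = -1) ∧ ε₁ * ε₂ = -1 ∧
        ∀ y : ↥(Subgroup.centralizer ({x} : Set G)), ¬ 2 ∣ orderOf y →
          (χ₁ : G → ℂ) (x * y) = (ε₁ : ℂ) * (θ : ↥(Subgroup.centralizer ({x} : Set G)) → ℂ) y ∧ (χ₂ : G → ℂ) (x * y) = (ε₂ : ℂ) * (θ : ↥(Subgroup.centralizer ({x} : Set G)) → ℂ) y := by
  let _ := Fintype.ofFinite G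
  let _ := Fintype.ofFinite (Subgroup.centralizer ({x} : Set G))
  exact main hM hx hB hBD rfl hb hθ hθx

end Cfsg.Agent.S4513
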