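import Cfsg.Statements.S4518
import Cfsg.Agent.Lib.Char.Clifford
import Cfsg.Agent.Lib.Char.GaloisConj
import Mathlib.GroupTheory.Perm.Cycle.Type


set_option autoImplicit false
open Cfsg

namespace Cfsg.Agent.S4518

open Cfsg CfsgLib CfsgLib.CharTwist


/-- Let N be a normal subgroup of the finite group G whose index is not divisible by the prime p, and let k be coprime to the order of G with k ^ (p ^ e) ≡ 1 modulo the order of G for some e (so g ↦ g ^ k induces a field automorphism of p-power order on character values). If an irreducible character χ of G satisfies χ (g ^ k) = χ g for all g, then every irreducible constituent θ of the restriction of χ to N satisfies θ (n ^ k) = θ n for all n. -/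
theorem result {G : Type*} [Group G] [Fintype G] (p : ℕ) [Fact p.Prime] (N : Subgroup G) [N.Normal] [Fintype N] (hidx : ¬ p ∣ N.index) (k e : ℕ) (hk : Nat.Coprime k (Nat.card G)) (hke : k ^ (p ^ e) ≡ 1 [MOD Nat.card G]) (χ : Cfsg.IrrCharacter G) (hχ : ∀ g : G, (χ : G → ℂ) (g ^ k) = (χ : G → ℂ) g) (θ : Cfsg.IrrCharacter N) (hθ : Cfsg.classInner (fun n : N => (χ : G → ℂ) n) (θ : N → ℂ) ≠ 0) : ∀ n : N, (θ : N → ℂ) (n ^ k) = (θ : N → ℂ) n := by
  classical
  have hkN : Nat.Coprime k (Nat.card N) := hk.coprime_dvd_right N.card_subgroup_dvd_card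
  have hcl : ∀ ψ : N → ℂ, classInner (fun n : N => (χ : G → ℂ) n) (fun n => ψ (n ^ k)) =
      classInner (fun n : N => (χ : G → ℂ) n) ψ := by
    intro ψ
    unfold classInner
    congr 1
    refine Fintype.sum_equiv (powCoprime (G := N) hkN.symm) _ _ fun n => ?_
    simp [powCoprime, hχ]
  have hmem : ∀ ψ ∈ Clifford.orbit N (θ : N → ℂ),
      (fun n => ψ (n ^ k)) ∈ Clifford.orbit N (θ : N → ℂ) := by
    intro ψ hψ
    obtain ⟨g, rfl⟩ := (Clifford.mem_orbit N).1 hψ
    have hψirr := isIrrCharacter_conjFun N θ.2 g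
    refine (Clifford.mem_orbit N).2 (Clifford.exists_conjFun_eq N χ.2 θ.2
      (CharGalois.isIrrCharacter_powMap hkN hψirr) hθ ?_)
    rw [hcl, Clifford.classInner_res_conjFun N (Char.IsIrrCharacter.isClassFunction χ.2)]
    exact hθ
  let f : Clifford.orbit N (θ : N → ℂ) → Clifford.orbit N (θ : N → ℂ) :=
    fun ψ => ⟨fun n => (ψ : N → ℂ) (n ^ k), hmem _ ψ.2⟩
  have hiter : ∀ (j : ℕ) ψ n, ((f^[j] ψ : _) : N → ℂ) n = (ψ : N → ℂ) (n ^ k ^ j) := by
    intro j
    induction j with
    | zero => simp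
    | succ j ih =>
      intro ψ n
      rw [Function.iterate_succ_apply, ih]
      show (ψ : N → ℂ) ((n ^ k ^ j) ^ k) = _
      rw [← pow_mul, ← pow_succ]
  have hid : f^[p ^ e] = id := by
    funext ψ
    refine Subtype.ext (funext fun n => ?_)
    rw [hiter, id_eq]
    refine congrArg (ψ : N → ℂ) (Subtype.ext ?_)
    rw [Subgroup.coe_pow]
    conv_rhs => rw [← pow_one (n : G)]
    exact pow_eq_pow_iff_modEq.2 (hke.of_dvd (orderOf_dvd_natCard _))
  have hinj : Function.Injective f := by
    intro a b h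
    refine Subtype.ext (funext fun n => ?_)
    obtain ⟨m, rfl⟩ := (CharGalois.pow_bijective hkN).2 n
    exact congrFun (congrArg Subtype.val h) m
  let σ : Equiv.Perm (Clifford.orbit N (θ : N → ℂ)) :=
    Equiv.ofBijective f (Finite.injective_iff_bijective.1 hinj)
  have hσ : σ ^ p ^ e = 1 := by
    refine Equiv.ext fun x => ?_
    rw [Equiv.Perm.coe_pow]
    exact congrFun hid x
  have hcard : ¬ p ∣ Fintype.card (Clifford.orbit N (θ : N → ℂ)) := by
    rw [Fintype.card_coe, Clifford.card_orbit]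
    exact fun h => hidx (h.trans (Subgroup.index_dvd_of_le
      (le_inertia N (Char.IsIrrCharacter.isClassFunction θ.2))))
  obtain ⟨ψ, hψ⟩ := Equiv.Perm.exists_fixed_point_of_prime (p := p) (n := e) hcard hσ
  obtain ⟨g, hg⟩ := (Clifford.mem_orbit N).1 ψ.2
  have hψ' : ∀ m : N, (ψ : N → ℂ) (m ^ k) = (ψ : N → ℂ) m :=
    fun m => congrFun (congrArg Subtype.val hψ) m
  intro n
  have key := hψ' ((MulAut.conjNormal (H := N) g).symm n)
  rw [← hg, conjFun_eq_comp] at key
  simpa [Function.comp, map_pow] using key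

end Cfsg.Agent.S4518
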