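import Cfsg.Statements.S4519
import Cfsg.Agent.Lib.Char.GaloisConj
import Cfsg.Agent.Lib.Char.Clifford
import Cfsg.Agent.Lib.Char.InertiaNorm
import Cfsg.Agent.Lib.CharDeep.Extend
import Cfsg.Agent.Lib.CharDeep.Gallagher
import Cfsg.Agent.Lib.BlockPrincipal.Parity
import Cfsg.Agent.Lib.BlockReg.Integral
import Mathlib.GroupTheory.Nilpotent

set_option autoImplicit false
open Cfsg

namespace Cfsg.Agent.S4519

open Cfsg CfsgLib CfsgLib.BlockReg CfsgLib.BlockPrincipal
open scoped ComplexConjugate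

universe u

variable {G : Type u} [Group G] [Fintype G]

/-- In a group of odd order only the identity is conjugate to its inverse. -/
theorem eq_one_of_real {Q : Type u} [Group Q] [Finite Q] (hQ : Odd (Nat.card Q)) {q : Q}
    (hc : IsConj q q⁻¹) : q = 1 := by
  by_contra hne
  cases nonempty_fintype Q
  have h2 : ¬ 2 ∣ Nat.card Q := Nat.two_dvd_ne_zero.2 (Nat.odd_iff.1 hQ)
  have h := even_csize_of_isConj_inv (fun h => h2 (h.trans (orderOf_dvd_natCard q))) hne hc
  exact h2 (h.trans ⟨_, ((mul_comm _ _).trans (csize_mul_card q)).symm⟩)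

/-- In a quotient of odd order the power map is inversion. -/
theorem mk_pow (N : Subgroup G) [N.Normal] (hidx : Odd N.index) (k : ℕ)
    (hk₂ : ∀ g : G, Odd (orderOf g) → g ^ k = g⁻¹) (q : G ⧸ N) : q ^ k = q⁻¹ := by
  obtain ⟨g, rfl⟩ := QuotientGroup.mk_surjective q
  obtain ⟨a, m, hm, ham⟩ := Nat.exists_eq_two_pow_mul_odd (orderOf_pos g).ne'
  have ho : orderOf (g ^ 2 ^ a) = m := by
    rw [orderOf_pow, ham, Nat.gcd_mul_right_left, Nat.mul_div_cancel_left _ (Nat.two_pow_pos a)]
  have h := congrArg (fun x : G => (x : G ⧸ N)) (hk₂ (g ^ 2 ^ a) (ho ▸ hm))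
  simp only [QuotientGroup.mk_pow, QuotientGroup.mk_inv] at h
  have hco : (Nat.card (G ⧸ N)).Coprime (2 ^ a) := by
    rw [← Subgroup.index_eq_card]
    exact Nat.Coprime.pow_right a (Nat.coprime_two_right.2 hidx)
  refine (powCoprime hco).injective ?_
  show ((g : G ⧸ N) ^ k) ^ 2 ^ a = ((g : G ⧸ N)⁻¹) ^ 2 ^ a
  rw [← pow_mul, mul_comm, pow_mul, h, inv_pow]

/-- **The fixed characters ov a fixed character of a normal subgroup of odd index: exactly one.** -/
theorem existsUnique_fixed (N : Subgroup G) [hN : N.Normal] [Fintype N] (hidx : Odd N.index)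
    (k : ℕ) (hk : Nat.Coprime k (Nat.card G)) (hk₂ : ∀ g : G, Odd (orderOf g) → g ^ k = g⁻¹)
    (θ : IrrCharacter N) (hθ : ∀ n : N, (θ : N → ℂ) (n ^ k) = (θ : N → ℂ) n) :
    ∃! χ : IrrCharacter G, classInner (fun n : N => (χ : G → ℂ) n) (θ : N → ℂ) ≠ 0 ∧
      ∀ g : G, (χ : G → ℂ) (g ^ k) = (χ : G → ℂ) g := by
  classical
  set ov : Finset (IrrCharacter G) := Finset.univ.filter
    fun χ => classInner (fun n : N => (χ : G → ℂ) n) (θ : N → ℂ) ≠ 0 with hover
  set orb := Clifford.orbit N (θ : N → ℂ) with horb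
  have horb_irr : ∀ φ ∈ orb, IsIrrCharacter N φ := fun φ hφ => by
    obtain ⟨g, rfl⟩ := (Clifford.mem_orbit N).1 hφ
    exact CharTwist.isIrrCharacter_conjFun N θ.2 g
  have horb_fix : ∀ φ ∈ orb, ∀ n : N, φ (n ^ k) = φ n := fun φ hφ n => by
    obtain ⟨g, rfl⟩ := (Clifford.mem_orbit N).1 hφ
    show (θ : N → ℂ) _ = (θ : N → ℂ) _
    rw [← hθ ⟨g * n * g⁻¹, hN.conj_mem n n.2 g⟩]
    exact congrArg (θ : N → ℂ) (Subtype.ext (by
      show g * (n : G) ^ k * g⁻¹ = (g * n * g⁻¹) ^ k
      rw [conj_pow]))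
  have horb_one : ∀ φ ∈ orb, φ 1 = (θ : N → ℂ) 1 := fun φ hφ => by
    obtain ⟨g, rfl⟩ := (Clifford.mem_orbit N).1 hφ
    exact congrArg (θ : N → ℂ) (Subtype.ext (by simp))
  have hres : ∀ χ ∈ ov, (fun n : N => (χ : G → ℂ) n) =
      classInner (fun n : N => (χ : G → ℂ) n) (θ : N → ℂ) • ∑ φ ∈ orb, φ := fun χ hχ =>
    Clifford.res_eq N χ.2 θ.2 (Finset.mem_filter.1 hχ).2
  -- the central idempotent of the orbit
  let f : G → ℂ := extendByZero N fun n : N =>
    (Nat.card N : ℂ)⁻¹ * ∑ φ ∈ orb, φ 1 * conj (φ n)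
  have hconjorb : ∀ g, ∀ φ ∈ orb, CharTwist.conjFun N φ g ∈ orb := fun g φ hφ => by
    obtain ⟨x, rfl⟩ := (Clifford.mem_orbit N).1 hφ
    exact (Clifford.mem_orbit N).2 ⟨x * g, CharTwist.conjFun_mul N _ x g⟩
  have hfc : IsClassFunction G f := by
    intro g x
    by_cases hg : g ∈ N
    · have hx : x * g * x⁻¹ ∈ N := hN.conj_mem g hg x
      simp only [f, Char.extendByZero_apply_mem N _ hg, Char.extendByZero_apply_mem N _ hx]
      congr 1
      refine Finset.sum_bij' (fun φ _ => CharTwist.conjFun N φ x)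
        (fun φ _ => CharTwist.conjFun N φ x⁻¹) (fun φ hφ => hconjorb x φ hφ)
        (fun φ hφ => hconjorb x⁻¹ φ hφ) (fun φ _ => ?_) (fun φ _ => ?_) (fun φ hφ => ?_)
      · rw [← CharTwist.conjFun_mul, mul_inv_cancel, CharTwist.conjFun_one]
      · rw [← CharTwist.conjFun_mul, inv_mul_cancel, CharTwist.conjFun_one]
      · rw [horb_one _ (hconjorb x φ hφ), horb_one _ hφ]
        rfl
    · have hx : x * g * x⁻¹ ∉ N := fun h => hg (by
        have := hN.conj_mem _ h x⁻¹
        simpa [mul_assoc] using this)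
      simp only [f, Char.extendByZero_of_notMem N _ hg, Char.extendByZero_of_notMem N _ hx]
  have hfsum : ∀ F : G → ℂ, ∑ g, f g * F g =
      ∑ n : N, ((Nat.card N : ℂ)⁻¹ * ∑ φ ∈ orb, φ 1 * conj (φ n)) * F n := by
    intro F
    rw [← Finset.sum_subset (Finset.subset_univ (Finset.univ.filter fun g : G => g ∈ N))
      (fun g _ hg => by
        rw [Finset.mem_filter, not_and] at hg
        simp [f, Char.extendByZero_of_notMem N _ (hg (Finset.mem_univ _))]),
      Finset.sum_subtype (Finset.univ.filter fun g : G => g ∈ N) (p := fun g => g ∈ N) (by simp)]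
    exact Finset.sum_congr rfl fun n _ => by
      rw [show f (n : G) = _ from Char.extendByZero_apply_mem N _ n.2]
  have hscal : ∀ χ : IrrCharacter G, (∑ g, f g * (χ : G → ℂ) g) / (χ : G → ℂ) 1 =
      if χ ∈ ov then 1 else 0 := by
    intro χ
    have h1 : ∑ g, f g * (χ : G → ℂ) g =
        ∑ φ ∈ orb, φ 1 * classInner (fun n : N => (χ : G → ℂ) n) φ := by
      rw [hfsum]
      simp only [classInner, Finset.mul_sum, Finset.sum_mul]
      rw [Finset.sum_comm]
      exact Finset.sum_congr rfl fun φ _ => Finset.sum_congr rfl fun n _ => by ring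
    have h2 : ∀ φ ∈ orb, classInner (fun n : N => (χ : G → ℂ) n) φ =
        classInner (fun n : N => (χ : G → ℂ) n) (θ : N → ℂ) := fun φ hφ => by
      obtain ⟨g, rfl⟩ := (Clifford.mem_orbit N).1 hφ
      exact Clifford.classInner_res_conjFun N (Char.IsIrrCharacter.isClassFunction χ.2) _ g
    rw [h1, Finset.sum_congr rfl fun φ hφ => by rw [h2 φ hφ, horb_one φ hφ],
      Finset.sum_const, nsmul_eq_mul]
    split_ifs with hχ
    · rw [Clifford.apply_one_eq N χ.2 θ.2 (Finset.mem_filter.1 hχ).2,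
        ← Clifford.card_orbit, ← horb]
      have h0 : ((orb.card : ℕ) : ℂ) ≠ 0 :=
        Nat.cast_ne_zero.2 (Finset.card_ne_zero_of_mem (Clifford.self_mem_orbit N _))
      have h3 := (Finset.mem_filter.1 hχ).2
      have h4 := deg_ne_zero θ
      field_simp
    · have : classInner (fun n : N => (χ : G → ℂ) n) (θ : N → ℂ) = 0 := by
        by_contra h
        exact hχ (Finset.mem_filter.2 ⟨Finset.mem_univ _, h⟩)
      rw [this]; simp
  have hproj : ∀ (χ : IrrCharacter G) (a : G), ∑ g, f g * (χ : G → ℂ) (g * a) =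
      (if χ ∈ ov then 1 else 0) * (χ : G → ℂ) a := by
    intro χ a
    obtain ⟨d, ρ, hρ, hρc⟩ := χ.2
    have h := Char.opOfFun_irreducible ρ hfc
    have h1 := congrArg (fun T => LinearMap.trace ℂ _ (T * ρ a)) h
    simp only [Char.opOfFun, Finset.sum_mul, smul_mul_assoc, ← map_mul, map_sum, map_smul,
      smul_eq_mul] at h1
    rw [Module.finrank_fin_fun, show (d : ℂ) = (χ : G → ℂ) 1 by rw [← hρc]; simp, hρc,
      hscal] at h1
    rw [← hρc]
    simp only [Representation.character]
    rw [h1, ← Module.End.one_eq_id, one_mul]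
  -- the kernel vanishes off related cosets
  have hK : ∀ a b : G, ¬ IsConj (a : G ⧸ N) (b : G ⧸ N) →
      ∑ χ ∈ ov, (χ : G → ℂ) a * conj ((χ : G → ℂ) b) = 0 := by
    intro a b hab
    calc ∑ χ ∈ ov, (χ : G → ℂ) a * conj ((χ : G → ℂ) b)
        = ∑ χ : IrrCharacter G, (∑ g, f g * (χ : G → ℂ) (g * a)) * conj ((χ : G → ℂ) b) := by
          simp only [hproj, ite_mul, one_mul, zero_mul, Finset.sum_ite_mem, Finset.univ_inter]
      _ = ∑ g, f g * ∑ χ : IrrCharacter G, (χ : G → ℂ) (g * a) * conj ((χ : G → ℂ) b) := by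
          simp only [Finset.sum_mul, Finset.mul_sum]
          rw [Finset.sum_comm]
          exact Finset.sum_congr rfl fun g _ => Finset.sum_congr rfl fun χ _ => by ring
      _ = 0 := by
          refine Finset.sum_eq_zero fun g _ => ?_
          rw [Char.sum_mul_conj]
          by_cases hg : g ∈ N
          · rw [if_neg, mul_zero]
            intro hc
            have := MonoidHom.map_isConj (QuotientGroup.mk' N) hc
            simp only [map_mul, QuotientGroup.mk'_apply, (QuotientGroup.eq_one_iff g).2 hg,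
              one_mul] at this
            exact hab this
          · rw [show f g = 0 from Char.extendByZero_of_notMem N _ hg, zero_mul]
  have hoff : ∀ g : G, g ∉ N → ∑ χ ∈ ov, (χ : G → ℂ) (g ^ k) * conj ((χ : G → ℂ) g) = 0 := by
    intro g hg
    refine hK _ _ fun hc => hg ((QuotientGroup.eq_one_iff g).1 ?_)
    rw [QuotientGroup.mk_pow, mk_pow N hidx k hk₂] at hc
    exact eq_one_of_real (by rwa [← Subgroup.index_eq_card]) hc.symm
  have hresfix : ∀ χ ∈ ov, ∀ n : N, (χ : G → ℂ) ((n : G) ^ k) = (χ : G → ℂ) n := by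
    intro χ hχ n
    have h1 := congrFun (hres χ hχ) (n ^ k)
    have h2 := congrFun (hres χ hχ) n
    simp only [Pi.smul_apply, Finset.sum_apply, Subgroup.coe_pow] at h1 h2
    rw [h1, h2]
    exact congrArg _ (Finset.sum_congr rfl fun φ hφ => horb_fix φ hφ n)
  -- the total
  have hind := Char.IsCharacter.indFun (H := N) (Char.IsIrrCharacter.isCharacter θ.2)
  have hcoef : ∀ χ : IrrCharacter G, classInner (indFun N (θ : N → ℂ)) (χ : G → ℂ) =
      classInner (fun n : N => (χ : G → ℂ) n) (θ : N → ℂ) := fun χ => by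
    obtain ⟨m, hm⟩ := Char.IsCharacter.exists_nat_classInner
      (Char.IsCharacter.restrict (Char.IsIrrCharacter.isCharacter χ.2) N) θ.2
    rw [Char.classInner_indFun _ _ _ (Char.IsIrrCharacter.isClassFunction χ.2),
      ← Char.classInner_conj_symm, hm, map_natCast]
  have htot : ∑ χ ∈ ov, classInner (fun n : N => (χ : G → ℂ) n) (fun n : N => (χ : G → ℂ) n) =
      (N.index : ℂ) := by
    have hnorm : ∀ χ ∈ ov, classInner (fun n : N => (χ : G → ℂ) n) (fun n : N => (χ : G → ℂ) n) =
        classInner (fun n : N => (χ : G → ℂ) n) (θ : N → ℂ) *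
          classInner (fun n : N => (χ : G → ℂ) n) (θ : N → ℂ) * (orb.card : ℂ) := by
      intro χ hχ
      set m := classInner (fun n : N => (χ : G → ℂ) n) (θ : N → ℂ) with hm
      conv_lhs => rw [hres χ hχ]
      obtain ⟨j, hj⟩ := Char.IsCharacter.exists_nat_classInner
        (Char.IsCharacter.restrict (Char.IsIrrCharacter.isCharacter χ.2) N) θ.2
      rw [Char.classInner_smul_left, Char.classInner_smul_right, Char.classInner_sum_left,
        Finset.sum_congr rfl fun φ hφ => by
          rw [Char.classInner_sum_right, Finset.sum_eq_single_of_mem φ hφ fun ψ hψ hne =>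
            Char.classInner_irr_of_ne (horb_irr φ hφ) (horb_irr ψ hψ) hne.symm,
            Char.classInner_irr_self (horb_irr φ hφ)],
        Finset.sum_const, nsmul_eq_mul, mul_one, hm, hj, map_natCast, mul_assoc]
    rw [Finset.sum_congr rfl hnorm, ← Finset.sum_mul]
    have hsq : ∑ χ ∈ ov, classInner (fun n : N => (χ : G → ℂ) n) (θ : N → ℂ) *
        classInner (fun n : N => (χ : G → ℂ) n) (θ : N → ℂ) =
        classInner (indFun N (θ : N → ℂ)) (indFun N (θ : N → ℂ)) := by
      rw [Char.classInner_eq_sum (Char.IsCharacter.isClassFunction hind)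
        (Char.IsCharacter.isClassFunction hind)]
      refine (Finset.sum_congr rfl fun χ _ => ?_).trans
        (Finset.sum_subset (Finset.subset_univ ov) fun χ _ hχ => ?_)
      · obtain ⟨j, hj⟩ := Char.IsCharacter.exists_nat_classInner
          (Char.IsCharacter.restrict (Char.IsIrrCharacter.isCharacter χ.2) N) θ.2
        rw [hcoef, hj, map_natCast]
      · have : classInner (fun n : N => (χ : G → ℂ) n) (θ : N → ℂ) = 0 := by
          by_contra h
          exact hχ (Finset.mem_filter.2 ⟨Finset.mem_univ _, h⟩)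
        rw [hcoef, this, zero_mul]
    have hself : classInner (indFun N (θ : N → ℂ)) (indFun N (θ : N → ℂ)) =
        (Nat.card (CharTwist.inertia N (θ : N → ℂ)) : ℂ) / (Nat.card N : ℂ) := by
      rw [Char.classInner_indFun _ _ _ (Char.IsCharacter.isClassFunction hind)]
      have e : (fun n : N => indFun N (θ : N → ℂ) n) =
          ((Nat.card N : ℂ)⁻¹) • ∑ x : G, CharTwist.conjFun N (θ : N → ℂ) x := by
        funext n
        rw [CharTwist.indFun_normal_apply, Pi.smul_apply, Finset.sum_apply, smul_eq_mul]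
      rw [e, Char.classInner_smul_right, Char.classInner_sum_right, map_inv₀, map_natCast,
        div_eq_inv_mul]
      congr 1
      rw [Finset.sum_congr rfl fun x _ => Char.classInner_irr θ.2
        (CharTwist.isIrrCharacter_conjFun N θ.2 x), Finset.sum_boole,
        Nat.card_eq_fintype_card, Fintype.card_subtype]
      congr 2
      ext x
      simp [CharTwist.mem_inertia, eq_comm]
    rw [hsq, hself, horb, Clifford.card_orbit, div_mul_eq_mul_div, ← Nat.cast_mul,
      Subgroup.card_mul_index, ← N.card_mul_index, Nat.cast_mul,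
      mul_div_cancel_left₀ _ (Nat.cast_ne_zero.2 Nat.card_pos.ne')]
  -- count the fixed characters
  have hcount : ((ov.filter fun χ : IrrCharacter G =>
      CharGalois.powIrr hk χ = χ).card : ℂ) = 1 := by
    calc ((ov.filter fun χ : IrrCharacter G => CharGalois.powIrr hk χ = χ).card : ℂ)
        = ∑ χ ∈ ov, classInner (CharGalois.powIrr hk χ : G → ℂ) (χ : G → ℂ) := by
          rw [Finset.card_filter, Nat.cast_sum]
          refine Finset.sum_congr rfl fun χ _ => ?_
          rw [Char.classInner_irrCharacter]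
          split_ifs <;> simp
      _ = (Nat.card G : ℂ)⁻¹ * ∑ g : G, ∑ χ ∈ ov, (χ : G → ℂ) (g ^ k) * conj ((χ : G → ℂ) g) := by
          simp only [classInner, CharGalois.powIrr_apply]
          rw [← Finset.mul_sum, Finset.sum_comm]
      _ = (Nat.card G : ℂ)⁻¹ * ∑ n : N, ∑ χ ∈ ov, (χ : G → ℂ) n * conj ((χ : G → ℂ) n) := by
          congr 1
          rw [← Finset.sum_subset (Finset.subset_univ (Finset.univ.filter fun g : G => g ∈ N))
            (fun g _ hg => hoff g fun h => hg (Finset.mem_filter.2 ⟨Finset.mem_univ _, h⟩)),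
            Finset.sum_subtype (Finset.univ.filter fun g : G => g ∈ N) (p := fun g => g ∈ N) (by simp)]
          exact Finset.sum_congr rfl fun n _ => Finset.sum_congr rfl fun χ hχ => by
            rw [hresfix χ hχ n]
      _ = (Nat.card G : ℂ)⁻¹ * ((Nat.card N : ℂ) * (N.index : ℂ)) := by
          congr 1
          rw [← htot, Finset.sum_comm, Finset.mul_sum]
          refine Finset.sum_congr rfl fun χ _ => ?_
          rw [classInner, ← mul_assoc, mul_inv_cancel₀ (Nat.cast_ne_zero.2 Nat.card_pos.ne'),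
            one_mul]
      _ = 1 := by
          rw [← Nat.cast_mul, N.card_mul_index, inv_mul_cancel₀ (Nat.cast_ne_zero.2 Nat.card_pos.ne')]
  obtain ⟨χ₀, hχ₀⟩ := Finset.card_eq_one.1 (by exact_mod_cast hcount)
  have hiff : ∀ χ : IrrCharacter G, χ ∈ ({χ₀} : Finset (IrrCharacter G)) ↔
      classInner (fun n : N => (χ : G → ℂ) n) (θ : N → ℂ) ≠ 0 ∧
        ∀ g : G, (χ : G → ℂ) (g ^ k) = (χ : G → ℂ) g := by
    intro χ
    rw [← hχ₀, Finset.mem_filter, hover, Finset.mem_filter]
    refine ⟨fun h => ⟨h.1.2, fun g => by rw [← CharGalois.powIrr_apply hk, h.2]⟩,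
      fun h => ⟨⟨Finset.mem_univ _, h.1⟩, Subtype.ext (funext h.2)⟩⟩
  exact ⟨χ₀, (hiff χ₀).1 (Finset.mem_singleton_self _),
    fun χ h => Finset.mem_singleton.1 ((hiff χ).2 h)⟩

/-- A fixed invariant character extends to a fixed character across a quotient of prime-power order. -/
theorem exists_fixed_extension_of_prime_pow {p : ℕ} [Fact p.Prime] (k : ℕ) :
    ∀ (n : ℕ) {K : Type u} [Group K] [Fintype K] (N : Subgroup K) [hN : N.Normal] [Fintype N],
      N.index = p ^ n → Odd N.index → Nat.Coprime k (Nat.card K) →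
      (∀ g : K, Odd (orderOf g) → g ^ k = g⁻¹) → ∀ θ : IrrCharacter N,
      (∀ m : N, (θ : N → ℂ) (m ^ k) = (θ : N → ℂ) m) →
      (∀ g, CharTwist.conjFun N (θ : N → ℂ) g = θ) →
      ∃ χ : IrrCharacter K, (∀ m : N, (χ : K → ℂ) m = (θ : N → ℂ) m) ∧
        ∀ g : K, (χ : K → ℂ) (g ^ k) = (χ : K → ℂ) g := by
  intro n
  induction n with
  | zero =>
    intro K _ _ N hN _ hidx _ _ _ θ hfix _
    rw [pow_zero, Subgroup.index_eq_one] at hidx
    subst hidx
    refine ⟨⟨fun g => (θ : (⊤ : Subgroup K) → ℂ) ⟨g, trivial⟩,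
      CharTwist.isIrrCharacter_comp_equiv θ.2 (Subgroup.topEquiv (G := K)).symm⟩, fun m => rfl,
      fun g => hfix ⟨g, trivial⟩⟩
  | succ n ih =>
    intro K _ _ N hN _ hidx hodd hco hk₂ θ hfix hinv
    classical
    have hp : p.Prime := Fact.out
    -- a normal subgroup of index `p`
    have hQ : IsPGroup p (K ⧸ N) := IsPGroup.of_card (by rw [← Subgroup.index_eq_card, hidx])
    have : Group.IsNilpotent (K ⧸ N) := hQ.isNilpotent
    have : Nontrivial (K ⧸ N) := by
      rw [← Finite.one_lt_card_iff_nontrivial, ← Subgroup.index_eq_card, hidx]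
      exact Nat.one_lt_pow n.succ_ne_zero hp.one_lt
    obtain ⟨L', hL'⟩ : ∃ L' : Subgroup (K ⧸ N), IsCoatom L' := by
      obtain h | ⟨L', hL', -⟩ := IsCoatomic.eq_top_or_exists_le_coatom (⊥ : Subgroup (K ⧸ N))
      · exact absurd h bot_ne_top
      · exact ⟨L', hL'⟩
    have hL'n : L'.Normal := Subgroup.NormalizerCondition.normal_of_coatom L' Group.normalizerCondition_of_isNilpotent hL'
    set L := L'.comap (QuotientGroup.mk' N) with hL
    have hNL : N ≤ L := fun x hx => by
      rw [hL, Subgroup.mem_comap, QuotientGroup.mk'_apply, (QuotientGroup.eq_one_iff x).2 hx]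
      exact Subgroup.one_mem _
    have hLidx : L.index = p := by
      rw [hL, Subgroup.index_comap_of_surjective _ (QuotientGroup.mk'_surjective N)]
      have : Nontrivial ((K ⧸ N) ⧸ L') := by
        rw [← Finite.one_lt_card_iff_nontrivial, ← Subgroup.index_eq_card]
        exact Subgroup.one_lt_index_of_ne_top hL'.1
      obtain ⟨x, hx⟩ := exists_prime_orderOf_dvd_card' (G := (K ⧸ N) ⧸ L') p
        ((hQ.to_quotient L').card_eq_or_dvd.resolve_left Finite.one_lt_card.ne')
      have hsurj := QuotientGroup.mk'_surjective L'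
      have h1 : L' < (Subgroup.zpowers x).comap (QuotientGroup.mk' L') := by
        refine lt_of_le_of_ne (fun y hy => ?_) fun he => ?_
        · rw [Subgroup.mem_comap, QuotientGroup.mk'_apply, (QuotientGroup.eq_one_iff y).2 hy]
          exact Subgroup.one_mem _
        · obtain ⟨y, hy⟩ := hsurj x
          have hyL : y ∈ L' := by
            rw [he, Subgroup.mem_comap, hy]; exact Subgroup.mem_zpowers x
          rw [QuotientGroup.mk'_apply, (QuotientGroup.eq_one_iff y).2 hyL] at hy
          rw [← hy, orderOf_one] at hx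
          exact hp.one_lt.ne hx
      have h2 : Subgroup.zpowers x = ⊤ :=
        Subgroup.comap_injective hsurj ((hL'.2 _ h1).trans (Subgroup.comap_top _).symm)
      rw [Subgroup.index_eq_card, ← Subgroup.card_top (G := (K ⧸ N) ⧸ L'), ← h2, Nat.card_zpowers, hx]
    have hLn : L.Normal := hL'n.comap _
    let _ := Fintype.ofFinite L
    let _ := Fintype.ofFinite (N.subgroupOf L)
    have hNidx : (N.subgroupOf L).index = p ^ n := by
      have h := Subgroup.relIndex_mul_index hNL
      rw [hLidx, hidx, pow_succ] at h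
      exact Nat.eq_of_mul_eq_mul_right hp.pos h
    have hpodd : Odd p := by
      rw [hidx] at hodd
      exact (Nat.odd_pow_iff n.succ_ne_zero).1 hodd
    let e := Subgroup.subgroupOfEquivOfLe hNL
    obtain ⟨η, hηN, hηfix⟩ := ih (N.subgroupOf L) hNidx (hNidx ▸ hpodd.pow)
      (hco.coprime_dvd_right (Subgroup.card_subgroup_dvd_card L))
      (fun g hg => Subtype.ext (hk₂ g (by rwa [Subgroup.orderOf_coe])))
      ⟨(θ : N → ℂ) ∘ e, CharTwist.isIrrCharacter_comp_equiv θ.2 e⟩
      (fun m => by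
        show (θ : N → ℂ) (e (m ^ k)) = (θ : N → ℂ) (e m)
        rw [map_pow]; exact hfix _)
      (fun g => funext fun m => congrFun (hinv g) (e m))
    have hηres : ∀ m : N, (η : L → ℂ) ⟨m, hNL m.2⟩ = (θ : N → ℂ) m := fun m =>
      hηN ⟨⟨m, hNL m.2⟩, m.2⟩
    have hcoL : Nat.Coprime k (Nat.card L) := hco.coprime_dvd_right (Subgroup.card_subgroup_dvd_card L)
    have hover1 : ∀ φ : IrrCharacter L, (∀ m : N, (φ : L → ℂ) ⟨m, hNL m.2⟩ = (θ : N → ℂ) m) →
        classInner (fun m : N.subgroupOf L => (φ : L → ℂ) m) ((θ : N → ℂ) ∘ e) ≠ 0 := by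
      intro φ hφ
      have : (fun m : N.subgroupOf L => (φ : L → ℂ) m) = (θ : N → ℂ) ∘ e := funext fun m => hφ (e m)
      rw [this, Char.classInner_irr_self (CharTwist.isIrrCharacter_comp_equiv θ.2 e)]
      exact one_ne_zero
    -- `η` is invariant
    have hηinv : ∀ g, CharTwist.conjFun L (η : L → ℂ) g = η := by
      intro g
      obtain ⟨_, -, huniq⟩ := existsUnique_fixed (N.subgroupOf L) (hNidx ▸ hpodd.pow) k hcoL
        (fun g hg => Subtype.ext (hk₂ g (by rwa [Subgroup.orderOf_coe])))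
        ⟨(θ : N → ℂ) ∘ e, CharTwist.isIrrCharacter_comp_equiv θ.2 e⟩
        (fun m => by
          show (θ : N → ℂ) (e (m ^ k)) = (θ : N → ℂ) (e m)
          rw [map_pow]; exact hfix _)
      have h1 := huniq η ⟨hover1 η hηres, hηfix⟩
      have h2 := huniq ⟨CharTwist.conjFun L (η : L → ℂ) g,
          CharTwist.isIrrCharacter_conjFun L η.2 g⟩
        ⟨hover1 _ fun m => by
          show (η : L → ℂ) ⟨g * m * g⁻¹, _⟩ = _
          exact (hηres ⟨g * m * g⁻¹, hN.conj_mem m m.2 g⟩).trans (congrFun (hinv g) m),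
        fun x => by
          show (η : L → ℂ) _ = (η : L → ℂ) _
          rw [← hηfix ⟨g * x * g⁻¹, hLn.conj_mem x x.2 g⟩]
          exact congrArg (η : L → ℂ) (Subtype.ext (by
            show g * (x : K) ^ k * g⁻¹ = (g * x * g⁻¹) ^ k
            rw [conj_pow]))⟩
      exact congrArg Subtype.val (h2.trans h1.symm)
    obtain ⟨χ, ⟨hχc, hχfix⟩, -⟩ := existsUnique_fixed L (hLidx ▸ hpodd) k hco hk₂ η hηfix
    -- the multiplicity is one
    obtain ⟨b, d, hd, hbd, hbdvd⟩ := CharDeep.Extend.degree_dvd L (η : L → ℂ) η.2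
      (fun g m => congrFun (hηinv g) m) (χ : K → ℂ) χ.2 hχc
    have horb1 : Clifford.orbit L (η : L → ℂ) = {(η : L → ℂ)} := by
      ext φ
      rw [Clifford.mem_orbit, Finset.mem_singleton]
      exact ⟨fun ⟨g, hg⟩ => hg ▸ hηinv g, fun h => ⟨1, by rw [h]; exact hηinv 1⟩⟩
    have hresL := Clifford.res_eq L χ.2 η.2 hχc
    rw [horb1, Finset.sum_singleton] at hresL
    obtain ⟨c, hc⟩ := Char.IsCharacter.exists_nat_classInner
      (Char.IsCharacter.restrict (Char.IsIrrCharacter.isCharacter χ.2) L) η.2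
    rw [hc] at hresL
    have hbc : b = c := by
      have h := congrFun hresL 1
      simp only [Pi.smul_apply, smul_eq_mul, Subgroup.coe_one] at h
      rw [hbd, hd] at h
      have hd0 : d ≠ 0 := fun h0 => deg_ne_zero η (by rw [hd, h0, Nat.cast_zero])
      push_cast at h
      exact_mod_cast mul_right_cancel₀ (Nat.cast_ne_zero.2 hd0) h
    have hc1 : c = 1 := by
      rw [hLidx] at hbdvd
      rcases (Nat.dvd_prime hp).1 hbdvd with h | h
      · omega
      · exfalso
        -- `c ^ 2 ≤ p`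
        have hle : classInner (fun m : L => (χ : K → ℂ) m) (fun m : L => (χ : K → ℂ) m) *
            (Nat.card L : ℂ) = (c : ℂ) ^ 2 * (Nat.card L : ℂ) := by
          rw [hresL, Char.classInner_smul_left, Char.classInner_smul_right,
            Char.classInner_irr_self η.2, map_natCast]
          ring
        have h1 : ∑ m : L, Complex.normSq ((χ : K → ℂ) m) = ((c : ℝ) ^ 2 * Nat.card L) := by
          apply Complex.ofReal_injective
          push_cast
          rw [← hle, classInner, mul_comm _ (Nat.card L : ℂ), ← mul_assoc,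
            mul_inv_cancel₀ (Nat.cast_ne_zero.2 Nat.card_pos.ne'), one_mul]
          exact Finset.sum_congr rfl fun m _ => (Complex.mul_conj _).symm
        have h2 : ∑ g : K, Complex.normSq ((χ : K → ℂ) g) = (Nat.card K : ℝ) := by
          apply Complex.ofReal_injective
          have := Char.classInner_irr_self χ.2
          rw [classInner, inv_mul_eq_one₀ (Nat.cast_ne_zero.2 Nat.card_pos.ne')] at this
          push_cast
          rw [this]
          exact Finset.sum_congr rfl fun m _ => (Complex.mul_conj _).symm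
        have h3 : ∑ m : L, Complex.normSq ((χ : K → ℂ) m) ≤ ∑ g : K, Complex.normSq ((χ : K → ℂ) g) := by
          rw [← Finset.sum_subtype (Finset.univ.filter fun g : K => g ∈ L) (p := fun g => g ∈ L)
            (by simp) (fun g : K => Complex.normSq ((χ : K → ℂ) g))]
          exact Finset.sum_le_univ_sum_of_nonneg fun g => Complex.normSq_nonneg _
        rw [h1, h2, ← L.card_mul_index, hLidx, ← hbc, h] at h3
        push_cast at h3
        have hL0 : (0 : ℝ) < Nat.card L := by exact_mod_cast Nat.card_pos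
        have hp1 : (1 : ℝ) < p := by exact_mod_cast hp.one_lt
        nlinarith [mul_pos hL0 (mul_pos (lt_trans zero_lt_one hp1) (sub_pos.2 hp1))]
    refine ⟨χ, fun m => ?_, hχfix⟩
    have h := congrFun hresL ⟨m, hNL m.2⟩
    rw [hc1, Nat.cast_one, one_smul] at h
    exact h.trans (hηres m)

/-- A real irreducible character of a group of odd order is principal. -/
theorem degree_eq_one_of_real {Q : Type u} [Group Q] [Fintype Q] (hQ : Odd (Nat.card Q))
    (β : IrrCharacter Q) (hreal : ∀ q, (β : Q → ℂ) q⁻¹ = (β : Q → ℂ) q) :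
    β = Char.principalIrr := by
  classical
  obtain ⟨M, hM⟩ := exists_isPModular Nat.prime_two
  by_contra hne
  have h := sum_involution_memIdeal hM (fun q => (β : Q → ℂ) q) (fun q => memRing_char hM β q)
    (fun q => q⁻¹) inv_involutive (fun q => by rw [hreal, sub_self]; exact memIdeal_zero hM) 1 inv_one
    (fun q hq hq1 => absurd (eq_one_of_real hQ (by rw [hq])) hq1)
  have h0 : ∑ q : Q, (β : Q → ℂ) q = 0 := by
    have := Char.classInner_irr_of_ne β.2 Char.principalIrr.2 (fun he => hne (Subtype.ext he))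
    simpa [classInner, Char.principalIrr_apply] using this
  rw [h0, zero_sub, ← deg_cast] at h
  have hdeg : ¬ 2 ∣ charDegree (β : Q → ℂ) := fun hd =>
    Nat.not_even_iff_odd.2 hQ (even_iff_two_dvd.2 (hd.trans (deg_dvd_card β)))
  exact not_memIdeal_natCast hM hdeg (by simpa using memIdeal_neg h)

/-- Let N be a normal subgroup of odd index in the finite group G, and let k be coprime to the order of G with k ^ (2 ^ e) ≡ 1 modulo the order of G for some e and g ^ k = g⁻¹ for every element g of odd order (so g ↦ g ^ k induces a field automorphism of 2-power order inverting the roots of unity of odd order). If an irreducible character θ of N satisfies θ (n ^ k) = θ n for all n, then there is exactly one irreducible character χ of G with θ a constituent of its restriction to N and χ (g ^ k) = χ g for all g; moreover, if θ is invariant under conjugation by G, that χ restricts to θ. -/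
theorem result {G : Type*} [Group G] [Fintype G] (N : Subgroup G) [hN : N.Normal] [Fintype N] (hidx : Odd N.index) (k e : ℕ) (hk : Nat.Coprime k (Nat.card G)) (hke : k ^ (2 ^ e) ≡ 1 [MOD Nat.card G]) (hk₂ : ∀ g : G, Odd (orderOf g) → g ^ k = g⁻¹) (θ : Cfsg.IrrCharacter N) (hθ : ∀ n : N, (θ : N → ℂ) (n ^ k) = (θ : N → ℂ) n) : ∃ χ : Cfsg.IrrCharacter G, (Cfsg.classInner (fun n : N => (χ : G → ℂ) n) (θ : N → ℂ) ≠ 0 ∧ (∀ g : G, (χ : G → ℂ) (g ^ k) = (χ : G → ℂ) g) ∧ ((∀ g : G, ∀ n : N, (θ : N → ℂ) ⟨g * n * g⁻¹, hN.conj_mem n n.2 g⟩ = (θ : N → ℂ) n) → ∀ n : N, (χ : G → ℂ) n = (θ : N → ℂ) n)) ∧ ∀ χ' : Cfsg.IrrCharacter G, Cfsg.classInner (fun n : N => (χ' : G → ℂ) n) (θ : N → ℂ) ≠ 0 → (∀ g : G, (χ' : G → ℂ) (g ^ k) = (χ' : G → ℂ) g) → χ' = χ := by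
  classical
  obtain ⟨χ, ⟨hχc, hχfix⟩, huniq⟩ := existsUnique_fixed N hidx k hk hk₂ θ hθ
  refine ⟨χ, ⟨hχc, hχfix, fun hinv => ?_⟩, fun χ' h1 h2 => huniq χ' ⟨h1, h2⟩⟩
  have hinv' : ∀ g, CharTwist.conjFun N (θ : N → ℂ) g = θ := fun g => funext fun n => hinv g n
  have hQodd : Odd (Nat.card (G ⧸ N)) := by rwa [← Subgroup.index_eq_card]
  -- extend to `G`
  obtain ⟨ψ, hψ, hψN⟩ := CharDeep.Extend.extends_of_sylow N (θ : N → ℂ) θ.2
    (fun g n => hinv g n) (fun p hp => by
      have := Fact.mk hp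
      obtain ⟨S⟩ : Nonempty (Sylow p (G ⧸ N)) := inferInstance
      set P := (S : Subgroup (G ⧸ N)).comap (QuotientGroup.mk' N) with hP
      have hNP : N ≤ P := fun x hx => by
        rw [hP, Subgroup.mem_comap, QuotientGroup.mk'_apply, (QuotientGroup.eq_one_iff x).2 hx]
        exact Subgroup.one_mem _
      let _ := Fintype.ofFinite P
      let _ := Fintype.ofFinite (N.subgroupOf P)
      obtain ⟨j, hj⟩ := IsPGroup.iff_card.1 S.isPGroup'
      have hpc : Nat.Coprime P.index p := by
        rw [hP, Subgroup.index_comap_of_surjective _ (QuotientGroup.mk'_surjective N)]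
        exact (hp.coprime_iff_not_dvd.2 S.not_dvd_index).symm
      have hidxP : (N.subgroupOf P).index = p ^ j := by
        have h := Subgroup.relIndex_mul_index hNP
        have h2 := (S : Subgroup (G ⧸ N)).card_mul_index
        rw [← Subgroup.index_eq_card, hj,
          ← Subgroup.index_comap_of_surjective _ (QuotientGroup.mk'_surjective N), ← hP, ← h] at h2
        exact (Nat.eq_of_mul_eq_mul_right (Nat.pos_of_ne_zero Subgroup.index_ne_zero_of_finite) h2).symm
      let e := Subgroup.subgroupOfEquivOfLe hNP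
      obtain ⟨η, hη, -⟩ := exists_fixed_extension_of_prime_pow (p := p) k j (N.subgroupOf P) hidxP
        (hidx.of_dvd_nat (Subgroup.relIndex_dvd_index_of_le hNP))
        (hk.coprime_dvd_right (Subgroup.card_subgroup_dvd_card P))
        (fun g hg => Subtype.ext (hk₂ g (by rwa [Subgroup.orderOf_coe])))
        ⟨(θ : N → ℂ) ∘ e, CharTwist.isIrrCharacter_comp_equiv θ.2 e⟩
        (fun m => by
          show (θ : N → ℂ) (e (m ^ k)) = (θ : N → ℂ) (e m)
          rw [map_pow]; exact hθ _)
        (fun g => funext fun m => congrFun (hinv' g) (e m))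
      exact ⟨P, hNP, η, hpc, η.2, fun n => hη ⟨⟨n, hNP n.2⟩, n.2⟩⟩)
  have hψres : (fun n : N => ψ n) = (θ : N → ℂ) := funext hψN
  obtain ⟨-, -, hsurj⟩ := CharDeep.Gal.quotient_bijection N hψ (hψres ▸ θ.2)
  obtain ⟨β, hβ, hβχ⟩ := hsurj _ χ.2 (by rw [hψres]; exact hχc)
  let ψσ : Cfsg.IrrCharacter G := CharGalois.powIrr hk ⟨ψ, hψ⟩
  have hψσres : (fun n : N => (ψσ : G → ℂ) n) = (θ : N → ℂ) := funext fun n => by
    rw [CharGalois.powIrr_apply]
    exact (hψN (n ^ k)).trans (hθ n)
  obtain ⟨δ, hδ, hδψ⟩ := hsurj _ ψσ.2 (by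
    rw [hψres, hψσres, Char.classInner_irr_self θ.2]; exact one_ne_zero)
  have hψ1 : ψ 1 = (θ : N → ℂ) 1 := by simpa using hψN 1
  have hδ1 : δ 1 = 1 := by
    have h := congrFun hδψ 1
    simp only [Pi.mul_apply, Function.comp_apply, map_one] at h
    have h' : (ψσ : G → ℂ) 1 = ψ 1 := by rw [CharGalois.powIrr_apply]; simp
    rw [h'] at h
    exact mul_left_eq_self₀.1 h |>.resolve_right (Char.IsIrrCharacter.apply_one_ne_zero hψ)
  obtain ⟨lam, hlam⟩ := Char.IsCharacter.exists_linear (Char.IsIrrCharacter.isCharacter hδ) hδ1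
  let _ := Fintype.ofFinite (G ⧸ N)
  have hpowq := mk_pow N hidx k hk₂
  -- twist to a real character
  set N' := Nat.card (G ⧸ N) with hN'
  obtain ⟨h, hh⟩ := hQodd
  let r : (G ⧸ N) →* ℂˣ := lam ^ (h + 1)
  have hr2 : ∀ q, r q * r q = lam q := by
    intro q
    have : lam q ^ N' = 1 := by rw [← map_pow, hN', pow_card_eq_one', map_one]
    show lam q ^ (h + 1) * lam q ^ (h + 1) = lam q
    rw [← pow_add, show h + 1 + (h + 1) = N' + 1 by omega, pow_succ, this, one_mul]
  let β' : Cfsg.IrrCharacter (G ⧸ N) :=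
    ⟨fun q => ((r⁻¹ q : ℂˣ) : ℂ) * β q, Char.IsIrrCharacter.linear_mul hβ r⁻¹⟩
  -- `β (q⁻¹) * δ q = β q` as functions on `G`, after multiplying by `ψ`
  have hkey : ∀ g : G, β ((g : G ⧸ N)⁻¹) * (δ (g : G ⧸ N) * ψ g) = β (g : G ⧸ N) * ψ g := by
    intro g
    have h1 := hχfix g
    rw [← hβχ] at h1
    simp only [Pi.mul_apply, Function.comp_apply, QuotientGroup.mk'_apply, QuotientGroup.mk_pow,
      hpowq] at h1
    have h2 := congrFun hδψ g
    simp only [Pi.mul_apply, Function.comp_apply, QuotientGroup.mk'_apply] at h2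
    rw [h2]
    exact h1
  -- uniqueness of the Gallagher factor
  have hbeq : (fun q => β q⁻¹ * δ q) = β := by
    obtain ⟨-, hinj, -⟩ := CharDeep.Gal.quotient_bijection N hψ (hψres ▸ θ.2)
    refine hinj _ _ ?_ hβ (funext fun g => ?_)
    · have hb := CharTwist.isIrrCharacter_conj hβ
      have hb2 := Char.IsIrrCharacter.linear_mul hb lam
      convert hb2 using 1
      funext q
      rw [hlam, mul_comm]
      congr 1
      exact char_inv ⟨β, hβ⟩ q
    · simp only [Pi.mul_apply, Function.comp_apply, QuotientGroup.mk'_apply]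
      rw [mul_assoc]
      exact hkey g
  have hreal : ∀ q, (β' : G ⧸ N → ℂ) q⁻¹ = (β' : G ⧸ N → ℂ) q := by
    intro q
    show ((r⁻¹ q⁻¹ : ℂˣ) : ℂ) * β q⁻¹ = ((r⁻¹ q : ℂˣ) : ℂ) * β q
    have h1 := congrFun hbeq q
    rw [hlam] at h1
    conv_rhs => rw [← h1]
    have h2 : ((r⁻¹ q⁻¹ : ℂˣ) : ℂ) = ((r⁻¹ q : ℂˣ) : ℂ) * ((lam q : ℂˣ) : ℂ) := by
      rw [← Units.val_mul, ← hr2 q]
      congr 1
      simp
    rw [h2]
    ring
  have hβ'1 := congrArg (fun b : Cfsg.IrrCharacter (G ⧸ N) => (b : G ⧸ N → ℂ) 1)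
    (degree_eq_one_of_real ⟨h, hh⟩ β' hreal)
  have hβ1 : β 1 = 1 := by simpa [β', Char.principalIrr_apply] using hβ'1
  intro n
  have := congrFun hβχ (n : G)
  simp only [Pi.mul_apply, Function.comp_apply, QuotientGroup.mk'_apply,
    (QuotientGroup.eq_one_iff (n : G)).2 n.2, hβ1, one_mul] at this
  rw [← this]
  exact hψN n

end Cfsg.Agent.S4519
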