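import Cfsg.Statements.S4520
import Cfsg.Agent.Lib.BlockPrincipal.Criterion
import Cfsg.Agent.Lib.BlockPrincipal.Parity
import Cfsg.Agent.Lib.Char.Clifford


set_option autoImplicit false
open Cfsg

namespace Cfsg.Agent.S4520

open Cfsg CfsgLib CfsgLib.CharTwist CfsgLib.BlockReg CfsgLib.BlockPrincipal

/-- For a character over `θ`, the normalised sum over the regular elements inside `N` is that of `θ`. -/
theorem sum_inside {G : Type*} [Group G] [Fintype G] (p : ℕ) (N : Subgroup G) [N.Normal] [Fintype N]
    (χ : IrrCharacter G) (θ : IrrCharacter N)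
    (h : classInner (fun n : N => (χ : G → ℂ) n) (θ : N → ℂ) ≠ 0) :
    regSum p (fun n : N => (χ : G → ℂ) n) / (χ : G → ℂ) 1 =
      regSum p (θ : N → ℂ) / (θ : N → ℂ) 1 := by
  classical
  have hres := Clifford.res_eq N χ.2 θ.2 h
  set c := classInner (fun n : N => (χ : G → ℂ) n) (θ : N → ℂ)
  have hsum : ∀ φ ∈ Clifford.orbit N (θ : N → ℂ),
      regSum p φ = regSum p (θ : N → ℂ) ∧ φ 1 = (θ : N → ℂ) 1 := by
    intro φ hφ
    obtain ⟨g, rfl⟩ := (Clifford.mem_orbit N).1 hφ
    rw [conjFun_eq_comp]
    refine ⟨?_, by simp⟩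
    refine Finset.sum_equiv (MulAut.conjNormal (H := N) g).toEquiv (fun x => ?_) (fun x _ => rfl)
    simp [MulEquiv.orderOf_eq]
  have h1 : (χ : G → ℂ) 1 =
      c * (((Clifford.orbit N (θ : N → ℂ)).card : ℂ) * (θ : N → ℂ) 1) := by
    have := congrFun hres 1
    simp only [Pi.smul_apply, smul_eq_mul, Finset.sum_apply, OneMemClass.coe_one] at this
    rw [this, Finset.sum_congr rfl fun φ hφ => (hsum φ hφ).2, Finset.sum_const, nsmul_eq_mul]
  have h2 : regSum p (fun n : N => (χ : G → ℂ) n) =
      c * (((Clifford.orbit N (θ : N → ℂ)).card : ℂ) * regSum p (θ : N → ℂ)) := by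
    rw [hres]
    simp only [regSum, Pi.smul_apply, smul_eq_mul, Finset.sum_apply]
    rw [← Finset.mul_sum, Finset.sum_comm]
    congr 1
    rw [← nsmul_eq_mul, ← Finset.sum_const]
    exact Finset.sum_congr rfl fun φ hφ => (hsum φ hφ).1
  have hne : ((Clifford.orbit N (θ : N → ℂ)).card : ℂ) ≠ 0 := by
    exact_mod_cast Finset.card_ne_zero_of_mem (Clifford.self_mem_orbit N _)
  rw [h1, h2, mul_div_mul_left _ _ h, mul_div_mul_left _ _ hne]


/-- Let N be a normal subgroup of odd index in the finite group G, M a maximal ideal of the algebraic integers containing 2, and k coprime to the order of G with k ^ (2 ^ e) ≡ 1 modulo the order of G for some e and g ^ k = g⁻¹ for every element g of odd order. Let θ be an irreducible character of N and χ an irreducible character of G over θ, both unchanged by composing with g ↦ g ^ k. Then χ lies in the principal 2-block of G if and only if θ lies in the principal 2-block of N. -/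
theorem result {G : Type*} [Group G] [Fintype G] (M : Ideal Cfsg.AlgInt) (hM : Cfsg.IsPModular 2 M) (N : Subgroup G) [N.Normal] [Fintype N] (hidx : Odd N.index) (k e : ℕ) (hk : Nat.Coprime k (Nat.card G)) (hke : k ^ (2 ^ e) ≡ 1 [MOD Nat.card G]) (hk₂ : ∀ g : G, Odd (orderOf g) → g ^ k = g⁻¹) (θ : Cfsg.IrrCharacter N) (hθ : ∀ n : N, (θ : N → ℂ) (n ^ k) = (θ : N → ℂ) n) (χ : Cfsg.IrrCharacter G) (hχ : ∀ g : G, (χ : G → ℂ) (g ^ k) = (χ : G → ℂ) g) (hover : Cfsg.classInner (fun n : N => (χ : G → ℂ) n) (θ : N → ℂ) ≠ 0) : χ ∈ Cfsg.principalBlock M G ↔ θ ∈ Cfsg.principalBlock M N := by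
  classical
  have hodd : ∀ g : G, ¬ 2 ∣ orderOf g → Odd (orderOf g) := fun g hg =>
    Nat.odd_iff.2 (by omega)
  have hreal : ∀ g : G, ¬ 2 ∣ orderOf g → IsConj g g⁻¹ → g ∈ N := by
    intro g hg hc
    by_contra hgN
    have hq : ¬ 2 ∣ Nat.card (G ⧸ N) := by
      rw [← Subgroup.index_eq_card]
      exact Nat.two_dvd_ne_zero.2 (Nat.odd_iff.1 hidx)
    have hc' : IsConj (g : G ⧸ N) ((g : G ⧸ N))⁻¹ := by
      have := MonoidHom.map_isConj (QuotientGroup.mk' N) hc
      simpa using this
    have h2 := even_csize_of_isConj_inv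
      (fun h => hq (h.trans (orderOf_dvd_natCard _)))
      (fun h => hgN ((QuotientGroup.eq_one_iff g).1 h)) hc'
    exact hq (h2.trans ⟨_, (mul_comm _ _).trans (csize_mul_card (g : G ⧸ N)) |>.symm⟩)
  set f : G → ℂ := fun g => if ¬ 2 ∣ orderOf g ∧ g ∉ N then 1 else 0 with hf
  have hfc : ∀ g h, IsConj g h → f g = f h := by
    intro g h hgh
    obtain ⟨c, rfl⟩ := isConj_iff.1 hgh
    have ho : orderOf (c * g * c⁻¹) = orderOf g := MulEquiv.orderOf_eq (MulAut.conj c) g
    have hm : c * g * c⁻¹ ∈ N ↔ g ∈ N :=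
      ⟨fun h => by
        have := Subgroup.Normal.conj_mem ‹N.Normal› _ h c⁻¹
        simpa [mul_assoc] using this, fun h => Subgroup.Normal.conj_mem ‹N.Normal› _ h c⟩
    simp only [hf, ho, hm]
  have hout : MemLocalIdeal M ((∑ g, f g * (χ : G → ℂ) g) / (χ : G → ℂ) 1) := by
    rw [sum_mul_char_div χ f hfc]
    set F : ConjClasses G → ℂ := fun C => f C.out * centralChar (χ : G → ℂ) C.out
    have hF : ∀ g : G, F (ConjClasses.mk g) = f g * centralChar (χ : G → ℂ) g := by
      intro g
      have hc : IsConj (ConjClasses.mk g).out g :=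
        ConjClasses.mk_eq_mk_iff_isConj.1 (Quotient.out_eq _)
      simp only [F]
      rw [hfc _ _ hc, centralChar_congr_isConj χ hc]
    let σ : ConjClasses G → ConjClasses G := Quotient.map' (fun g => g⁻¹) fun a b h => by
      obtain ⟨c, hc⟩ := isConj_iff.1 (show IsConj a b from h)
      exact (isConj_iff.2 ⟨c, by rw [← hc]; group⟩ : IsConj a⁻¹ b⁻¹)
    have hσ : ∀ g : G, σ (ConjClasses.mk g) = ConjClasses.mk g⁻¹ := fun g => rfl
    have key := sum_involution_memIdeal hM F
      (fun C => by
        refine memRing_mul hM ?_ (memRing_centralChar hM χ _)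
        simp only [hf]
        split_ifs
        · exact memRing_one hM
        · exact memRing_zero hM) σ
      (fun C => by
        induction C using Quotient.inductionOn' with
        | h g => exact congrArg ConjClasses.mk (inv_inv g))
      (fun C => by
        obtain ⟨g, rfl⟩ := ConjClasses.mk_surjective C
        rw [hσ, hF, hF]
        have hfi : f g⁻¹ = f g := by simp only [hf, orderOf_inv, inv_mem_iff]
        rw [hfi, ← mul_sub]
        simp only [hf]
        split_ifs with h
        · rw [centralChar_eq, centralChar_eq, csize_inv, ← hk₂ g (hodd g h.1), hχ, sub_self,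
            mul_zero]
          exact memIdeal_zero hM
        · rw [zero_mul]; exact memIdeal_zero hM)
      (ConjClasses.mk 1) (by rw [hσ, inv_one])
      (fun C hC _ => by
        obtain ⟨g, rfl⟩ := ConjClasses.mk_surjective C
        rw [hF]
        simp only [hf]
        split_ifs with h
        · rw [hσ] at hC
          exact absurd (hreal g h.1 (ConjClasses.mk_eq_mk_iff_isConj.1 hC).symm) h.2
        · rw [zero_mul]; exact memIdeal_zero hM)
    rw [hF] at key
    simpa [hf, N.one_mem, F] using key
  have hsplit : regSum 2 (χ : G → ℂ) = regSum 2 (fun n : N => (χ : G → ℂ) n) +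
      ∑ g, f g * (χ : G → ℂ) g := by
    unfold regSum
    rw [← Finset.sum_filter_add_sum_filter_not (Finset.univ.filter fun g : G => ¬ 2 ∣ orderOf g)
      (fun g => g ∈ N), Finset.filter_filter, Finset.filter_filter]
    congr 1
    · refine (Finset.sum_bij (fun (n : N) _ => (n : G)) (fun n hn => ?_) (fun a _ b _ h => Subtype.ext (by exact h))
        (fun g hg => ?_) (fun n _ => rfl)).symm
      · simp only [Finset.mem_filter, Finset.mem_univ, true_and] at hn ⊢
        exact ⟨by rwa [Subgroup.orderOf_coe], n.2⟩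
      · simp only [Finset.mem_filter, Finset.mem_univ, true_and] at hg
        refine ⟨⟨g, hg.2⟩, ?_, rfl⟩
        simp only [Finset.mem_filter, Finset.mem_univ, true_and]
        rw [Subgroup.orderOf_mk]
        exact hg.1
    · simp only [hf, ite_mul, one_mul, zero_mul]
      rw [← Finset.sum_filter]
  rw [mem_principal_iff hM χ, mem_principal_iff hM θ]
  refine not_congr (memIdeal_iff_of_sub hM ?_)
  rw [hsplit, add_div, sum_inside 2 N χ θ hover, add_sub_cancel_left]
  exact hout

end Cfsg.Agent.S4520
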