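import Cfsg.Statements.S4521
import Cfsg.Agent.Lib.BlockPrincipal.Criterion
import Cfsg.Agent.Lib.Char.Clifford


set_option autoImplicit false
open Cfsg

namespace Cfsg.Agent.S4521

open Cfsg CfsgLib CfsgLib.CharTwist CfsgLib.BlockReg CfsgLib.BlockPrincipal
open scoped Pointwise

/-- Restriction to a subgroup whose conjugation action is inner is a multiple of one constituent. -/
theorem res_div {G : Type*} [Group G] [Fintype G] (U : Subgroup G) [U.Normal] [Fintype U]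
    (χ : IrrCharacter G) (ψ : IrrCharacter U)
    (hinn : ∀ g : G, ∃ w : U, ∀ n : U, g * n * g⁻¹ = w * n * (w : G)⁻¹)
    (h : classInner (fun u : U => (χ : G → ℂ) u) (ψ : U → ℂ) ≠ 0) (u : U) :
    (χ : G → ℂ) u / (χ : G → ℂ) 1 = (ψ : U → ℂ) u / (ψ : U → ℂ) 1 := by
  classical
  have horb : Clifford.orbit U (ψ : U → ℂ) = {(ψ : U → ℂ)} := by
    refine Finset.eq_singleton_iff_unique_mem.2 ⟨Clifford.self_mem_orbit U _, fun φ hφ => ?_⟩
    obtain ⟨g, rfl⟩ := (Clifford.mem_orbit U).1 hφ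
    obtain ⟨w, hw⟩ := hinn g
    funext n
    rw [← Char.IsIrrCharacter.isClassFunction ψ.2 n w]
    exact congrArg (ψ : U → ℂ) (Subtype.ext (hw n))
  have hres := Clifford.res_eq U χ.2 ψ.2 h
  rw [horb, Finset.sum_singleton] at hres
  have h1 := congrFun hres u
  have h2 := congrFun hres 1
  simp only [Pi.smul_apply, smul_eq_mul, OneMemClass.coe_one] at h1 h2
  rw [h1, h2, mul_div_mul_left _ _ h]


/-- Let the finite group G be generated by subgroups U₁ and U₂ that commute elementwise and whose intersection is a p-group, and let M be a maximal ideal of the algebraic integers containing the prime p. If the irreducible character χ of G has the irreducible constituents ψ₁ on U₁ and ψ₂ on U₂, then χ lies in the principal block of G if and only if ψ₁ and ψ₂ lie in the principal blocks of U₁ and U₂. -/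
theorem result {G : Type*} [Group G] [Fintype G] (p : ℕ) [Fact p.Prime] (M : Ideal Cfsg.AlgInt) (hM : Cfsg.IsPModular p M) (U₁ U₂ : Subgroup G) [Fintype U₁] [Fintype U₂] (hcomm : ∀ u ∈ U₁, ∀ v ∈ U₂, u * v = v * u) (hgen : U₁ ⊔ U₂ = ⊤) (hZ : IsPGroup p ↥(U₁ ⊓ U₂)) (χ : Cfsg.IrrCharacter G) (ψ₁ : Cfsg.IrrCharacter U₁) (ψ₂ : Cfsg.IrrCharacter U₂) (h₁ : Cfsg.classInner (fun u : U₁ => (χ : G → ℂ) u) (ψ₁ : U₁ → ℂ) ≠ 0) (h₂ : Cfsg.classInner (fun u : U₂ => (χ : G → ℂ) u) (ψ₂ : U₂ → ℂ) ≠ 0) : χ ∈ Cfsg.principalBlock M G ↔ (ψ₁ ∈ Cfsg.principalBlock M U₁ ∧ ψ₂ ∈ Cfsg.principalBlock M U₂) := by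
  classical
  have hp : p.Prime := Fact.out
  have hprod : ∀ g : G, ∃ u ∈ U₁, ∃ v ∈ U₂, u * v = g := by
    have hnorm : U₁ ≤ Subgroup.normalizer (U₂ : Set G) := by
      intro u hu
      rw [Subgroup.mem_normalizer_iff]
      intro v
      constructor
      · intro hv
        rwa [hcomm u hu v hv, mul_inv_cancel_right]
      · intro hv
        have := hcomm u hu _ hv
        have hcm : u * v * u⁻¹ = v := by
          calc u * v * u⁻¹ = u⁻¹ * (u * (u * v * u⁻¹)) := by group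
            _ = u⁻¹ * ((u * v * u⁻¹) * u) := by rw [this]
            _ = v := by group
        rwa [hcm] at hv
    intro g
    have hg : g ∈ U₁ ⊔ U₂ := hgen ▸ Subgroup.mem_top g
    have hg' : g ∈ ((U₁ : Set G) * (U₂ : Set G)) := by
      rw [← Subgroup.coe_mul_of_left_le_normalizer_right U₁ U₂ hnorm]
      exact hg
    obtain ⟨u, hu, v, hv, h⟩ := hg'
    exact ⟨u, hu, v, hv, h⟩
  have hconj₁ : ∀ g : G, ∃ w : U₁, ∀ n : U₁, g * n * g⁻¹ = w * n * (w : G)⁻¹ := by
    intro g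
    obtain ⟨u, hu, v, hv, rfl⟩ := hprod g
    refine ⟨⟨u, hu⟩, fun n => ?_⟩
    calc u * v * n * (u * v)⁻¹ = u * (v * n) * v⁻¹ * u⁻¹ := by group
      _ = u * (n * v) * v⁻¹ * u⁻¹ := by rw [hcomm _ n.2 v hv]
      _ = u * n * u⁻¹ := by group
  have hconj₂ : ∀ g : G, ∃ w : U₂, ∀ n : U₂, g * n * g⁻¹ = w * n * (w : G)⁻¹ := by
    intro g
    obtain ⟨u, hu, v, hv, rfl⟩ := hprod g
    refine ⟨⟨v, hv⟩, fun n => ?_⟩
    calc u * v * n * (u * v)⁻¹ = u * (v * n * v⁻¹) * u⁻¹ := by group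
      _ = (v * n * v⁻¹) * u * u⁻¹ := by
        rw [hcomm u hu _ (U₂.mul_mem (U₂.mul_mem hv n.2) (U₂.inv_mem hv))]
      _ = v * n * v⁻¹ := by group
  have : U₁.Normal := ⟨fun n hn g => by
    obtain ⟨w, hw⟩ := hconj₁ g
    have := hw ⟨n, hn⟩
    simp only at this
    rw [this]
    exact U₁.mul_mem (U₁.mul_mem w.2 hn) (U₁.inv_mem w.2)⟩
  have : U₂.Normal := ⟨fun n hn g => by
    obtain ⟨w, hw⟩ := hconj₂ g
    have := hw ⟨n, hn⟩
    simp only at this
    rw [this]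
    exact U₂.mul_mem (U₂.mul_mem w.2 hn) (U₂.inv_mem w.2)⟩
  have hmul : ∀ (u : U₁) (v : U₂), (χ : G → ℂ) ((u : G) * v) / (χ : G → ℂ) 1 =
      ((ψ₁ : U₁ → ℂ) u / (ψ₁ : U₁ → ℂ) 1) * ((ψ₂ : U₂ → ℂ) v / (ψ₂ : U₂ → ℂ) 1) := by
    intro u v
    have hs := sum_char_mul_conj χ (u : G) (v : G)
    have hterm : ∀ t : G, (χ : G → ℂ) (u * (t⁻¹ * v * t)) = (χ : G → ℂ) (u * v) := by
      intro t
      obtain ⟨w, hw⟩ := hconj₂ t⁻¹
      have hw' : t⁻¹ * v * t = w * v * (w : G)⁻¹ := by simpa using hw v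
      rw [hw']
      refine char_conj_invariant χ _ _ (isConj_iff.2 ⟨(w : G)⁻¹, ?_⟩)
      calc (w : G)⁻¹ * (u * (w * v * (w : G)⁻¹)) * ((w : G)⁻¹)⁻¹
          = (w : G)⁻¹ * (u * w) * v := by group
        _ = (w : G)⁻¹ * (w * u) * v := by rw [hcomm u u.2 w w.2]
        _ = u * v := by group
    rw [Finset.sum_congr rfl fun t _ => hterm t, Finset.sum_const, Finset.card_univ, nsmul_eq_mul,
      ← Nat.card_eq_fintype_card] at hs
    rw [← res_div U₁ χ ψ₁ hconj₁ h₁, ← res_div U₂ χ ψ₂ hconj₂ h₂]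
    have hN : (Nat.card G : ℂ) ≠ 0 := by exact_mod_cast Nat.card_pos.ne'
    have hd := deg_ne_zero χ
    field_simp
    field_simp at hs
    linear_combination hs
  have key : regSum p (χ : G → ℂ) / (χ : G → ℂ) 1 =
      (regSum p (ψ₁ : U₁ → ℂ) / (ψ₁ : U₁ → ℂ) 1) *
      (regSum p (ψ₂ : U₂ → ℂ) / (ψ₂ : U₂ → ℂ) 1) := by
    unfold regSum
    rw [Finset.sum_div, Finset.sum_div, Finset.sum_div, Finset.sum_mul_sum, ← Finset.sum_product']
    symm
    refine Finset.sum_bij (fun z _ => (z.1 : G) * (z.2 : G)) (fun z hz => ?_)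
      (fun z hz z' hz' hzz => ?_) (fun g hg => ?_) (fun z _ => (hmul z.1 z.2).symm)
    · simp only [Finset.mem_product, Finset.mem_filter, Finset.mem_univ, true_and] at hz ⊢
      intro hd
      have hc : Commute (z.1 : G) (z.2 : G) := hcomm _ z.1.2 _ z.2.2
      rcases hp.dvd_mul.1 ((hd.trans hc.orderOf_mul_dvd_lcm).trans (Nat.lcm_dvd_mul _ _)) with h | h
      · exact hz.1 (by rwa [← Subgroup.orderOf_coe])
      · exact hz.2 (by rwa [← Subgroup.orderOf_coe])
    · simp only [Finset.mem_product, Finset.mem_filter, Finset.mem_univ, true_and] at hz hz'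
      obtain ⟨⟨u, hu⟩, ⟨v, hv⟩⟩ := z
      obtain ⟨⟨u', hu'⟩, ⟨v', hv'⟩⟩ := z'
      simp only [Subgroup.orderOf_mk] at hz hz'
      simp only at hzz
      have e1 : u'⁻¹ * u = v' * v⁻¹ := by
        calc u'⁻¹ * u = u'⁻¹ * (u * v) * v⁻¹ := by group
          _ = u'⁻¹ * (u' * v') * v⁻¹ := by rw [hzz]
          _ = v' * v⁻¹ := by group
      set w := u'⁻¹ * u with hw
      have hw1 : w ∈ U₁ := U₁.mul_mem (U₁.inv_mem hu') hu
      have hw2 : w ∈ U₂ := e1 ▸ U₂.mul_mem hv' (U₂.inv_mem hv)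
      obtain ⟨j, hj⟩ := hZ ⟨w, hw1, hw2⟩
      have hj' : w ^ p ^ j = 1 := by
        simpa using congrArg (fun x : ↥(U₁ ⊓ U₂) => (x : G)) hj
      have hw0 : w = 1 := eq_one_of_regular_mul (hcomm u' hu' w hw2) hz'.1 hj' (by
        rw [hw, mul_inv_cancel_left]; exact hz.1)
      have huu : u = u' := by
        rw [hw, inv_mul_eq_one] at hw0; exact hw0.symm
      subst huu
      have := mul_left_cancel hzz
      subst this
      rfl
    · simp only [Finset.mem_filter, Finset.mem_univ, true_and] at hg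
      obtain ⟨u, hu, v, hv, rfl⟩ := hprod g
      obtain ⟨a, n', hn', hcard⟩ := Nat.exists_eq_pow_mul_and_not_dvd
        (Nat.card_pos (α := G)).ne' p hp.ne_one
      have hco : Nat.Coprime (p ^ a) n' := Nat.Coprime.pow_left _ (hp.coprime_iff_not_dvd.2 hn')
      obtain ⟨m, hm0, hm1⟩ := Nat.chineseRemainder hco 0 1
      have hreg : ∀ x : G, ¬ p ∣ orderOf (x ^ m) := by
        intro x hd
        refine hn' (hd.trans (orderOf_dvd_of_pow_eq_one ?_))
        obtain ⟨c, hc⟩ := Nat.modEq_zero_iff_dvd.1 hm0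
        rw [← pow_mul, hc, show p ^ a * c * n' = Nat.card G * c by rw [hcard]; ring, pow_mul,
          pow_card_eq_one', one_pow]
      refine ⟨(⟨u ^ m, U₁.pow_mem hu m⟩, ⟨v ^ m, U₂.pow_mem hv m⟩), ?_, ?_⟩
      · simp only [Finset.mem_product, Finset.mem_filter, Finset.mem_univ, true_and,
          Subgroup.orderOf_mk]
        exact ⟨hreg u, hreg v⟩
      · show u ^ m * v ^ m = u * v
        rw [← Commute.mul_pow (hcomm u hu v hv)]
        conv_rhs => rw [← pow_one (u * v)]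
        refine pow_eq_pow_iff_modEq.2 (hm1.of_dvd ?_)
        refine (Nat.Coprime.dvd_mul_left (Nat.Coprime.pow_right a
          ((hp.coprime_iff_not_dvd.2 hg).symm))).1 ?_
        rw [← hcard]
        exact orderOf_dvd_natCard _
  rw [mem_principal_iff hM χ, mem_principal_iff hM ψ₁, mem_principal_iff hM ψ₂, key]
  refine ⟨fun h => ⟨fun h' => h (memIdeal_mul_right hM h' (memRing_regSum_div hM ψ₂)),
    fun h' => h (memIdeal_mul_left hM (memRing_regSum_div hM ψ₁) h')⟩, fun h => ?_⟩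
  exact not_memIdeal_mul hM (memRing_regSum_div hM ψ₁) (memRing_regSum_div hM ψ₂) h.1 h.2

end Cfsg.Agent.S4521
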