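import Cfsg.Statements.S4530
import Cfsg.Agent.Lib.QuatBlocks.Data

set_option autoImplicit false
open Cfsg

namespace Cfsg.Agent.S4530

/-- Let B be a 2-block of the finite group G (relative to a maximal ideal M of the algebraic integers containing 2) whose defect group D is generalized quaternion of order 2 ^ n, n ≥ 3. Then its 2-regular rank l is between 1 and 3, the number of irreducible characters in B is l + 2 ^ (n - 2) + 2, exactly four members have height zero, and every other member has height one or height n - 2; when n ≥ 4 exactly 2 ^ (n - 2) - 1 members have height one. -/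
theorem result {G : Type*} [Group G] [Finite G] (M : Ideal Cfsg.AlgInt) (hM : Cfsg.IsPModular 2 M) (B : Set (Cfsg.IrrCharacter G)) (hB : Cfsg.IsPBlock M B) (D : Subgroup G) (hD : Cfsg.IsDefectGroup 2 M B D) (n : ℕ) (hn : 3 ≤ n) (hq : Nonempty (D ≃* QuaternionGroup (2 ^ (n - 2)))) : 1 ≤ Cfsg.blockRank 2 B ∧ Cfsg.blockRank 2 B ≤ 3 ∧ Nat.card B = Cfsg.blockRank 2 B + 2 ^ (n - 2) + 2 ∧ Nat.card {χ : Cfsg.IrrCharacter G // χ ∈ B ∧ Cfsg.blockHeight 2 B (χ : G → ℂ) = 0} = 4 ∧ (∀ χ ∈ B, Cfsg.blockHeight 2 B (χ : G → ℂ) = 0 ∨ Cfsg.blockHeight 2 B (χ : G → ℂ) = 1 ∨ Cfsg.blockHeight 2 B (χ : G → ℂ) = n - 2) ∧ (4 ≤ n → Nat.card {χ : Cfsg.IrrCharacter G // χ ∈ B ∧ Cfsg.blockHeight 2 B (χ : G → ℂ) = 1} = 2 ^ (n - 2) - 1) := by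
  classical
  letI := Fintype.ofFinite G
  haveI := hM.2.1
  haveI : CharP (CfsgLib.Blocks.ResField M) 2 :=
    CfsgLib.Blocks.charP_resField Nat.prime_two hM.2.2
  haveI : Fintype B := Fintype.ofFinite B
  obtain ⟨S, hS⟩ := CfsgLib.QuatBlocks.exists_setup hM hB hD hn hq
  have hcount : ∀ k : ℕ, Nat.card {χ : Cfsg.IrrCharacter G // χ ∈ B ∧
      Cfsg.blockHeight 2 B (χ : G → ℂ) = k} =
      (Finset.univ.filter fun χ : B =>
        Cfsg.blockHeight 2 B ((χ : Cfsg.IrrCharacter G) : G → ℂ) = k).card := by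
    intro k
    rw [← Fintype.card_subtype, ← Nat.card_eq_fintype_card]
    exact Nat.card_congr ((Equiv.subtypeSubtypeEquivSubtypeInter
      (fun χ : Cfsg.IrrCharacter G => χ ∈ B)
      (fun χ : Cfsg.IrrCharacter G => Cfsg.blockHeight 2 B (χ : G → ℂ) = k)).symm)
  have hcard : Nat.card B = Cfsg.blockRank 2 B + 2 ^ (n - 2) + 2 := by
    rw [Nat.card_eq_fintype_card, S.card, ← S.hm, hS]
  rcases Nat.lt_or_ge n 4 with h4 | h4
  · obtain rfl : n = 3 := by omega
    obtain ⟨hl, h0, hh⟩ := S.invariants_small (by rw [hS]; norm_num)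
    refine ⟨S.one_le_rank, hl, hcard, (hcount 0).trans h0, fun χ hχ => ?_, fun h => absurd h (by norm_num)⟩
    rcases hh ⟨χ, hχ⟩ with h | h
    · exact Or.inl h
    · exact Or.inr (Or.inl h)
  · obtain ⟨hl, h0, hh, h1⟩ := S.invariants_large h4 hS
    exact ⟨S.one_le_rank, hl, hcard, (hcount 0).trans h0, fun χ hχ => hh ⟨χ, hχ⟩,
      fun _ => (hcount 1).trans h1⟩

end Cfsg.Agent.S4530
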