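import Cfsg.Statements.S4531
import Cfsg.Agent.Lib.TameRank.Center
import Cfsg.Agent.Lib.TameRank.Solvable
-- import your own Cfsg.Agent.* helpers here

set_option autoImplicit false
open Cfsg

namespace Cfsg.Agent.S4531

open CfsgLib.TameRank

theorem shape_of_dih {G : Type*} [Group G] [Finite G] {D : Subgroup G} {x s : G} {q : ℕ}
    (h : CfsgLib.DihBlocks.Dih D x s q) : Shape D := by
  refine ⟨⟨x, h.mem_x⟩, ?_, fun d hd => ?_⟩
  · rw [Subgroup.orderOf_mk, h.order, h.card]; ring
  · have hdx : (d : G) ∉ Subgroup.zpowers x := fun hmem => hd (by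
      simpa [Subgroup.mem_zpowers_iff, Subtype.ext_iff] using hmem)
    rw [Subgroup.orderOf_mk, ← Subgroup.orderOf_coe, h.order]
    have h1 := orderOf_le_of_pow_eq_one two_pos ((sq (d : G)).trans (h.sq_out d.2 hdx))
    have := h.two_le
    omega

theorem shape_of_quasiDihedral {D : Type*} [Group D] [Finite D] (h : Cfsg.IsQuasiDihedral D) :
    Shape D := by
  obtain ⟨n, hn, hcard, x, y, hx, hy, hrel⟩ := h
  refine ⟨x, by rw [hcard, hx, pow_succ'], fun d hd => ?_⟩
  have hyx : y ∉ Subgroup.zpowers x := by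
    intro hmem
    obtain ⟨k, rfl⟩ := Subgroup.mem_zpowers_iff.1 hmem
    rw [show x ^ k * x * (x ^ k)⁻¹ = x ^ 1 by group, pow_inj_mod, hx] at hrel
    obtain ⟨m, rfl⟩ : ∃ m, n = m + 3 := ⟨n - 3, by omega⟩
    simp only [show m + 3 - 1 = m + 2 from rfl, show m + 3 = m + 2 + 1 from rfl] at hrel
    rw [pow_succ 2 (m + 2)] at hrel
    have : 4 ≤ 2 ^ (m + 2) := le_trans (by norm_num) (Nat.pow_le_pow_right two_pos (by omega : 2 ≤ m + 2))
    rw [Nat.mod_eq_of_lt (by omega), Nat.mod_eq_of_lt (by omega)] at hrel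
    omega
  have hidx : (Subgroup.zpowers x).index = 2 := by
    have h1 := Subgroup.card_mul_index (Subgroup.zpowers x)
    rw [Nat.card_zpowers, hx, hcard, pow_succ] at h1
    exact Nat.eq_of_mul_eq_mul_left (pow_pos two_pos n) h1
  have h1 : y⁻¹ * d ∈ Subgroup.zpowers x := by
    rw [Subgroup.mul_mem_iff_of_index_two hidx]; simp [hyx, hd]
  obtain ⟨k, hk⟩ := Subgroup.mem_zpowers_iff.1 h1
  have hd' : d = y * x ^ k := by rw [hk, mul_inv_cancel_left]
  have hy2 : y⁻¹ = y := inv_eq_of_mul_eq_one_right (by rw [← sq, ← hy, pow_orderOf_eq_one])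
  have hsq : d * d = (x ^ 2 ^ (n - 1)) ^ k := by
    calc d * d = y * x ^ k * y⁻¹ * x ^ k := by rw [hd', hy2]; group
      _ = (y * x * y⁻¹) ^ k * x ^ k := by rw [conj_zpow]
      _ = (y * x * y⁻¹ * x) ^ k := by
          rw [hrel, (Commute.pow_self x _).mul_zpow]
      _ = _ := by rw [hrel, ← pow_succ, Nat.sub_add_cancel (Nat.one_le_two_pow)]
  have h4 : d ^ 4 = 1 := by
    have hx2 : (x ^ 2 ^ (n - 1)) ^ 2 = 1 := by
      rw [← pow_mul, ← pow_succ, Nat.sub_add_cancel (by omega), ← hx, pow_orderOf_eq_one]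
    rw [show 4 = 2 * 2 from rfl, pow_mul, sq d, hsq, ← zpow_natCast, ← zpow_mul, mul_comm, zpow_mul,
      zpow_natCast, hx2, one_zpow]
  have h5 := orderOf_le_of_pow_eq_one (by norm_num) h4
  rw [hx]
  have : 8 ≤ 2 ^ n := le_trans (by norm_num) (Nat.pow_le_pow_right two_pos hn)
  omega

/-- Let the finite group G have a 2-block B (relative to a maximal ideal M of the algebraic integers containing 2) of 2-regular rank three (three irreducible Brauer characters) whose defect group D is dihedral of order 2 ^ n with n ≥ 3 or semidihedral. Then the centre of G has odd order and G is not solvable. -/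
theorem result {G : Type*} [Group G] [Finite G] (M : Ideal Cfsg.AlgInt) (hM : Cfsg.IsPModular 2 M) (B : Set (Cfsg.IrrCharacter G)) (hB : Cfsg.IsPBlock M B) (D : Subgroup G) (hD : Cfsg.IsDefectGroup 2 M B D) (hD' : (∃ n : ℕ, 3 ≤ n ∧ Nonempty (D ≃* DihedralGroup (2 ^ (n - 1)))) ∨ Cfsg.IsQuasiDihedral D) (hl : Cfsg.blockRank 2 B = 3) : Odd (Nat.card (Subgroup.center G)) ∧ ¬ Group.IsSolvable G := by
  classical
  haveI := hM.2.1
  haveI : CharP (CfsgLib.Blocks.ResField M) 2 :=
    CfsgLib.Blocks.charP_resField Nat.prime_two hM.2.2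
  cases nonempty_fintype G
  constructor
  · by_contra hodd
    rw [Nat.not_odd_iff_even, even_iff_two_dvd] at hodd
    haveI : Fact (Nat.Prime 2) := ⟨Nat.prime_two⟩
    obtain ⟨c, hc⟩ := exists_prime_orderOf_dvd_card' (G := Subgroup.center G) 2 hodd
    rw [← Subgroup.orderOf_coe] at hc
    rcases hD' with ⟨n, hn, hdih⟩ | hsd
    · obtain ⟨x, s, h⟩ := CfsgLib.DihBlocks.exists_dih hn hdih
      exact CfsgLib.TameRank.false_of_dihedral hM hB hD h hl.ge c.2 hc
    · exact CfsgLib.TameRank.false_of_quasiDihedral hM hB hD hsd hl.ge c.2 hc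
  · intro hsol
    have hS : CfsgLib.TameRank.Shape D := by
      rcases hD' with ⟨n, hn, hdih⟩ | hsd
      · obtain ⟨x, s, h⟩ := CfsgLib.DihBlocks.exists_dih hn hdih
        exact shape_of_dih h
      · exact shape_of_quasiDihedral hsd
    have := CfsgLib.TameRank.blockRank_le_two hM _ G rfl hsol B hB D hD hS
    omega

end Cfsg.Agent.S4531
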