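import Cfsg.Statements.S4538
import Cfsg.Agent.Lib.BlockPrincipal.DefectZeroTrace
import Cfsg.Agent.Lib.BlockPrincipal.SplitBNLinearData
import Cfsg.Agent.Lib.BlockPrincipal.SLRadicalCentral
import Cfsg.Agent.Lib.SteinbergChar.Linear
import Cfsg.Agent.S0914

set_option autoImplicit false
open Cfsg

namespace Cfsg.Agent.S4538
open CfsgLib CfsgLib.Blocks

universe w

theorem exists_defect_zero {F : Type w} [Field F] [Fintype F] (n : ℕ) (p : ℕ) [Fact p.Prime]
    [CharP F p] (M : Ideal Cfsg.AlgInt) (hM : Cfsg.IsPModular p M) :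
    ∃ χ : Cfsg.IrrCharacter (Matrix.SpecialLinearGroup (Fin n) F),
      blockDefect p (blockOf M (χ : Matrix.SpecialLinearGroup (Fin n) F → ℂ)) = 0 := by
  obtain ⟨χ, hχ, h⟩ := (CfsgLib.SteinbergChar.linearDatum n F).exists_character p
    (MonoidHom.id (Matrix.SpecialLinearGroup (Fin n) F)) Function.surjective_id
    (by rw [show (MonoidHom.id (Matrix.SpecialLinearGroup (Fin n) F)).ker = ⊥ from
      (MonoidHom.ker_eq_bot_iff _).2 Function.injective_id]; exact bot_le)
  obtain ⟨P⟩ : Nonempty (Sylow p (Matrix.SpecialLinearGroup (Fin n) F)) := inferInstance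
  set ξ : Cfsg.IrrCharacter (Matrix.SpecialLinearGroup (Fin n) F) := ⟨χ, hχ⟩ with hξ
  have hdeg : charDegree χ =
      p ^ (Nat.card (Matrix.SpecialLinearGroup (Fin n) F)).factorization p := by
    rw [← P.card_eq_multiplicity]
    unfold charDegree
    rw [(h P).1, Complex.natCast_re, Nat.floor_natCast]
  have hsingle : blockOf M (ξ : Matrix.SpecialLinearGroup (Fin n) F → ℂ) = {ξ} := by
    refine (Cfsg.Agent.S0914.result p M hM ξ).1 fun hd => P.not_dvd_index ?_
    have h2 : charDegree (ξ : Matrix.SpecialLinearGroup (Fin n) F → ℂ) = Nat.card P := by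
      rw [P.card_eq_multiplicity]; exact hdeg
    rwa [h2, ← Subgroup.card_mul_index (P : Subgroup (Matrix.SpecialLinearGroup (Fin n) F)),
      Nat.mul_div_cancel_left _ Nat.card_pos] at hd
  refine ⟨ξ, ?_⟩
  rw [hsingle]
  unfold blockDefect
  rw [Set.image_singleton, csInf_singleton,
    show charDegree (ξ : Matrix.SpecialLinearGroup (Fin n) F → ℂ) = _ from hdeg, Nat.factorization_pow,
    Finsupp.smul_apply, (Fact.out : p.Prime).factorization_self, smul_eq_mul, mul_one, Nat.sub_self]

theorem singleton_of_defect_zero {G : Type w} [Group G] [Finite G] (p : ℕ) [Fact p.Prime]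
    (M : Ideal Cfsg.AlgInt) (hM : Cfsg.IsPModular p M) (χ : Cfsg.IrrCharacter G)
    (h : blockDefect p (blockOf M (χ : G → ℂ)) = 0) : blockOf M (χ : G → ℂ) = {χ} := by
  have := hM.2.1
  refine (Cfsg.Agent.S0914.result p M hM χ).1 fun hd => ?_
  have h1 : (Nat.card G).factorization p ≤ (charDegree (χ : G → ℂ)).factorization p := by
    have h2 : sInf ((fun ψ : Cfsg.IrrCharacter G => (charDegree (ψ : G → ℂ)).factorization p) ''
        blockOf M (χ : G → ℂ)) ≤ (charDegree (χ : G → ℂ)).factorization p :=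
      Nat.sInf_le ⟨χ, mem_blockOf_self χ, rfl⟩
    unfold blockDefect at h
    omega
  have hdvd := CfsgLib.BlockReg.deg_dvd_card χ
  have h3 := (Fact.out : p.Prime).factorization_pos_of_dvd
    (Nat.div_pos (Nat.le_of_dvd Nat.card_pos hdvd) (CfsgLib.BlockReg.deg_pos χ)).ne' hd
  rw [Nat.factorization_div hdvd, Finsupp.tsub_apply] at h3
  omega

/-- Let F be a finite field of characteristic p and n ≥ 2. Relative to a maximal ideal M of the algebraic integers containing p, the group SL(n, F) has exactly one p-block of defect zero, and every other p-block has full defect (its defect equals the exponent of p in the order of the group, so its defect groups are Sylow p-subgroups). -/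
theorem result {F : Type*} [Field F] [Fintype F] (n : ℕ) (hn : 2 ≤ n) (p : ℕ) [Fact p.Prime] [CharP F p] (M : Ideal Cfsg.AlgInt) (hM : Cfsg.IsPModular p M) : Nat.card {B : Set (Cfsg.IrrCharacter (Matrix.SpecialLinearGroup (Fin n) F)) // Cfsg.IsPBlock M B ∧ Cfsg.blockDefect p B = 0} = 1 ∧ ∀ B : Set (Cfsg.IrrCharacter (Matrix.SpecialLinearGroup (Fin n) F)), Cfsg.IsPBlock M B → Cfsg.blockDefect p B = 0 ∨ Cfsg.blockDefect p B = (Nat.card (Matrix.SpecialLinearGroup (Fin n) F)).factorization p := by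
  have := hM.2.1
  refine ⟨?_, fun B hB => ?_⟩
  · obtain ⟨χ, hχ⟩ := exists_defect_zero (F := F) n p M hM
    have hS := singleton_of_defect_zero p M hM χ hχ
    rw [Nat.card_eq_one_iff_unique]
    refine ⟨⟨fun a b => ?_⟩, ⟨⟨_, isPBlock_blockOf χ, hχ⟩⟩⟩
    obtain ⟨B, ⟨ψ, rfl⟩, hB⟩ := a
    obtain ⟨B', ⟨ψ', rfl⟩, hB'⟩ := b
    refine Subtype.ext ?_
    show blockOf M _ = blockOf M _
    rw [CfsgLib.DefectZeroTrace.eq_of_defect_zero hM (CfsgLib.SplitBN.dataSL F n)
      (CfsgLib.SplitBN.isPGroup_upper p) (CfsgLib.SplitBN.isPGroup_lower p)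
      (singleton_of_defect_zero p M hM ψ hB) (singleton_of_defect_zero p M hM ψ' hB') hB hB']
  · exact CfsgLib.DefectZeroTrace.defect_zero_or_full hM hB fun u hu =>
      CfsgLib.SLRadical.exists_radical p u hu

end Cfsg.Agent.S4538
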