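import Cfsg.Statements.S4540
import Cfsg.Agent.Lib.BlockRank.TwoMajor
import Cfsg.Agent.Lib.Blocks.Defect

set_option autoImplicit false
open Cfsg

namespace Cfsg.Agent.S4540

/-- Let B be a 2-block of the finite group G (relative to a maximal ideal M of the algebraic integers containing 2) of defect d with defect group D. Let z be an element of D commuting with every element of D, and let b be a block of the centralizer C of z with defect group D that induces B (a major subsection (z, b)). If b has 2-regular rank at most three, then 3·k(B) ≤ 3·k₀(B) + 2·Σ 2 ^ h(χ), where k(B) is the number of members of B, k₀(B) the number of members of height zero, and the sum runs over the members χ of B of positive height h(χ); this bound is at most 3·2 ^ d, so in particular B contains at most 2 ^ d irreducible characters. -/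
theorem result {G : Type*} [Group G] [Finite G] (M : Ideal Cfsg.AlgInt) (hM : Cfsg.IsPModular 2 M) (B : Set (Cfsg.IrrCharacter G)) (hB : Cfsg.IsPBlock M B) (D : Subgroup G) (hD : Cfsg.IsDefectGroup 2 M B D) (z : G) (hzD : z ∈ D) (hzc : ∀ d ∈ D, d * z = z * d) (b : Set (Cfsg.IrrCharacter ↥(Subgroup.centralizer ({z} : Set G)))) (hb : Cfsg.IsInducedBlock M (Subgroup.centralizer ({z} : Set G)) b B) (hbD : Cfsg.IsDefectGroup 2 M b (D.subgroupOf (Subgroup.centralizer ({z} : Set G)))) (hl : Cfsg.blockRank 2 b ≤ 3) : 3 * Nat.card B ≤ 3 * Nat.card {χ : Cfsg.IrrCharacter G // χ ∈ B ∧ Cfsg.blockHeight 2 B (χ : G → ℂ) = 0} + 2 * (∑ᶠ χ ∈ {χ : Cfsg.IrrCharacter G | χ ∈ B ∧ 1 ≤ Cfsg.blockHeight 2 B (χ : G → ℂ)}, 2 ^ Cfsg.blockHeight 2 B (χ : G → ℂ)) ∧ 3 * Nat.card {χ : Cfsg.IrrCharacter G // χ ∈ B ∧ Cfsg.blockHeight 2 B (χ : G → ℂ) = 0} + 2 * (∑ᶠ χ ∈ {χ : Cfsg.IrrCharacter G | χ ∈ B ∧ 1 ≤ Cfsg.blockHeight 2 B (χ : G → ℂ)}, 2 ^ Cfsg.blockHeight 2 B (χ : G → ℂ)) ≤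 3 * 2 ^ Cfsg.blockDefect 2 B := by
  classical
  cases nonempty_fintype G
  have : Fact (Nat.Prime 2) := ⟨Nat.prime_two⟩
  have : M.IsMaximal := hM.2.1
  have := Fintype.ofFinite B
  have := Fintype.ofFinite (Subgroup.centralizer ({z} : Set G))
  have hDp := CfsgLib.Blocks.isPGroup_defectGroup hD
  obtain ⟨k, hk⟩ := IsPGroup.iff_orderOf.1 hDp ⟨z, hzD⟩
  rw [Subgroup.orderOf_mk] at hk
  have hDC : D ≤ Subgroup.centralizer ({z} : Set G) := fun d hd =>
    Subgroup.mem_centralizer_singleton_iff.mpr (hzc d hd)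
  have hcard := CfsgLib.Blocks.card_defectGroup hM hb.1 hbD
  rw [Nat.card_congr (Subgroup.subgroupOfEquivOfLe hDC).toEquiv,
    CfsgLib.Blocks.card_defectGroup hM hB hD] at hcard
  have hdd : Cfsg.blockDefect 2 B = Cfsg.blockDefect 2 b :=
    Nat.pow_right_injective le_rfl hcard
  obtain ⟨θ, hθ, hθm⟩ := CfsgLib.BlockReg.exists_minExp (p := 2)
    (CfsgLib.BlockReg.block_nonempty hM hb.1)
  obtain ⟨χ₀, hχ₀, hχ₀m⟩ := CfsgLib.BlockReg.exists_minExp (p := 2)
    (CfsgLib.BlockReg.block_nonempty hM hB)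
  have hle := CfsgLib.BlockReg.factorization_deg_le (p := 2) θ
  have hle' := CfsgLib.BlockReg.factorization_deg_le (p := 2) χ₀
  have hq : Cfsg.blockDefect 2 B + CfsgLib.BlockReg.minExp 2 b =
      (Nat.card (Subgroup.centralizer ({z} : Set G))).factorization 2 := by
    rw [hdd, CfsgLib.BlockReg.blockDefect_eq]
    omega
  have hqB : Cfsg.blockDefect 2 B + CfsgLib.BlockReg.minExp 2 B =
      (Nat.card G).factorization 2 := by
    rw [CfsgLib.BlockReg.blockDefect_eq]
    omega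
  have key := CfsgLib.BlockRank.major_two_bound hM rfl hk hB hb hq hqB hl
  have hheight : ∀ χ ∈ B, Cfsg.blockHeight 2 B (χ : G → ℂ) =
      (Cfsg.charDegree (χ : G → ℂ)).factorization 2 - CfsgLib.BlockReg.minExp 2 B := fun χ _ =>
    CfsgLib.BlockReg.blockHeight_eq 2 B _
  set B0 := B.toFinset.filter fun χ : Cfsg.IrrCharacter G =>
    (Cfsg.charDegree (χ : G → ℂ)).factorization 2 = CfsgLib.BlockReg.minExp 2 B with hB0
  set B1 := B.toFinset.filter fun χ : Cfsg.IrrCharacter G =>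
    ¬ (Cfsg.charDegree (χ : G → ℂ)).factorization 2 = CfsgLib.BlockReg.minExp 2 B with hB1
  have h0 : Nat.card {χ : Cfsg.IrrCharacter G // χ ∈ B ∧ Cfsg.blockHeight 2 B (χ : G → ℂ) = 0} =
      B0.card := Nat.subtype_card B0 fun χ => by
    simp only [hB0, Finset.mem_filter, Set.mem_toFinset]
    refine and_congr_right fun hχ => ?_
    have := CfsgLib.BlockReg.minExp_le (p := 2) hχ
    rw [hheight χ hχ]
    omega
  have h1 : ∑ᶠ χ ∈ {χ : Cfsg.IrrCharacter G | χ ∈ B ∧ 1 ≤ Cfsg.blockHeight 2 B (χ : G → ℂ)},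
      2 ^ Cfsg.blockHeight 2 B (χ : G → ℂ) = ∑ χ ∈ B1,
        2 ^ ((Cfsg.charDegree (χ : G → ℂ)).factorization 2 - CfsgLib.BlockReg.minExp 2 B) := by
    rw [finsum_mem_eq_finite_toFinset_sum _ (Set.toFinite _)]
    refine Finset.sum_congr ?_ fun χ hχ => ?_
    · ext χ
      simp only [Set.Finite.mem_toFinset, Set.mem_ofPred_eq, hB1, Finset.mem_filter,
        Set.mem_toFinset]
      refine and_congr_right fun hχ => ?_
      have := CfsgLib.BlockReg.minExp_le (p := 2) hχ
      rw [hheight χ hχ]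
      omega
    · rw [hheight χ (Set.mem_toFinset.mp (Finset.mem_filter.mp hχ).1)]
  rw [h0, h1]
  refine ⟨?_, key⟩
  have hsplit : Nat.card B = B0.card + B1.card := by
    rw [Nat.card_eq_fintype_card, ← Set.toFinset_card,
      ← Finset.card_filter_add_card_filter_not (s := B.toFinset)
        (fun χ : Cfsg.IrrCharacter G =>
          (Cfsg.charDegree (χ : G → ℂ)).factorization 2 = CfsgLib.BlockReg.minExp 2 B)]
  have h2 : 2 * B1.card ≤ ∑ χ ∈ B1,
      2 ^ ((Cfsg.charDegree (χ : G → ℂ)).factorization 2 - CfsgLib.BlockReg.minExp 2 B) := by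
    rw [mul_comm, ← smul_eq_mul]
    refine Finset.card_nsmul_le_sum _ _ _ fun χ hχ => ?_
    obtain ⟨hχ', hne⟩ := Finset.mem_filter.mp hχ
    have := CfsgLib.BlockReg.minExp_le (p := 2) (Set.mem_toFinset.mp hχ')
    exact Nat.le_self_pow (by omega) 2
  omega

end Cfsg.Agent.S4540
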