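import Cfsg.Statements.S4541
import Cfsg.Agent.Lib.BlockRank.TwoBlocks

set_option autoImplicit false
open Cfsg

namespace Cfsg.Agent.S4541

/-- Let B be a 2-block of the finite group G (relative to a maximal ideal M of the algebraic integers containing 2), u a 2-element, and b a block of the centralizer of u inducing B (a subsection (u, b)), of defect q and 2-regular rank l; write s for the integer square root of l and k₀(B) for the number of members of B of height zero. If s is odd then k₀(B) ≤ s·2 ^ q, and otherwise (s + 1)·k₀(B) ≤ l·2 ^ q; in particular k₀(B) ≤ 2 ^ q when l ≤ 3. -/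
theorem result {G : Type*} [Group G] [Finite G] (M : Ideal Cfsg.AlgInt) (hM : Cfsg.IsPModular 2 M) (B : Set (Cfsg.IrrCharacter G)) (hB : Cfsg.IsPBlock M B) (u : G) (hu : ∃ j : ℕ, orderOf u = 2 ^ j) (b : Set (Cfsg.IrrCharacter ↥(Subgroup.centralizer ({u} : Set G)))) (hb : Cfsg.IsInducedBlock M (Subgroup.centralizer ({u} : Set G)) b B) : (Odd (Nat.sqrt (Cfsg.blockRank 2 b)) → Nat.card {χ : Cfsg.IrrCharacter G // χ ∈ B ∧ Cfsg.blockHeight 2 B (χ : G → ℂ) = 0} ≤ Nat.sqrt (Cfsg.blockRank 2 b) * 2 ^ Cfsg.blockDefect 2 b) ∧ (¬ Odd (Nat.sqrt (Cfsg.blockRank 2 b)) → (Nat.sqrt (Cfsg.blockRank 2 b) + 1) * Nat.card {χ : Cfsg.IrrCharacter G // χ ∈ B ∧ Cfsg.blockHeight 2 B (χ : G → ℂ) = 0} ≤ Cfsg.blockRank 2 b * 2 ^ Cfsg.blockDefect 2 b) ∧ (Cfsg.blockRank 2 b ≤ 3 → Nat.card {χ : Cfsg.IrrCharacter G // χ ∈ B ∧ Cfsg.blockHeight 2 B (χ : G → ℂ) = 0} ≤ 2 ^ Cfsg.blockDefect 2 b) := by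
  classical
  cases nonempty_fintype G
  have := Fintype.ofFinite B
  have := Fintype.ofFinite (Subgroup.centralizer ({u} : Set G))
  obtain ⟨j, hj⟩ := hu
  obtain ⟨θ, hθ, hθm⟩ := CfsgLib.BlockReg.exists_minExp (p := 2)
    (CfsgLib.BlockReg.block_nonempty hM hb.1)
  have hle := CfsgLib.BlockReg.factorization_deg_le (p := 2) θ
  have hq : Cfsg.blockDefect 2 b + CfsgLib.BlockReg.minExp 2 b =
      (Nat.card (Subgroup.centralizer ({u} : Set G))).factorization 2 := by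
    rw [CfsgLib.BlockReg.blockDefect_eq]
    omega
  obtain ⟨T, hT0, hT1, hT2⟩ := CfsgLib.BlockRank.exists_two_traces hM rfl hj hb hq
  have hiff : ∀ χ : Cfsg.IrrCharacter G, (χ ∈ B ∧ Cfsg.blockHeight 2 B (χ : G → ℂ) = 0) ↔
      (χ ∈ B ∧ (Cfsg.charDegree (χ : G → ℂ)).factorization 2 = CfsgLib.BlockReg.minExp 2 B) := by
    intro χ
    refine and_congr_right fun hχ => ?_
    have := CfsgLib.BlockReg.minExp_le (p := 2) hχ
    rw [CfsgLib.BlockReg.blockHeight_eq]
    omega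
  rw [Nat.card_congr (Equiv.subtypeEquivRight hiff)]
  let S := B.toFinset.filter fun χ : Cfsg.IrrCharacter G =>
    (Cfsg.charDegree (χ : G → ℂ)).factorization 2 = CfsgLib.BlockReg.minExp 2 B
  have hcard : Nat.card {χ : Cfsg.IrrCharacter G // χ ∈ B ∧
      (Cfsg.charDegree (χ : G → ℂ)).factorization 2 = CfsgLib.BlockReg.minExp 2 B} = S.card :=
    Nat.subtype_card S (by simp [S])
  have key := CfsgLib.BlockRank.two_count S T (2 ^ Cfsg.blockDefect 2 b) (Cfsg.blockRank 2 b)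
    (fun χ hχ => by
      obtain ⟨hB', hh⟩ := Finset.mem_filter.mp hχ
      rw [← hcard]
      exact hT1 χ (Set.mem_toFinset.mp hB') hh)
    (le_of_le_of_eq (Finset.sum_le_sum_of_subset_of_nonneg (Finset.filter_subset _ _)
      fun χ hχ _ => hT0 χ (Set.mem_toFinset.mp hχ)) hT2)
  rw [hcard]
  refine ⟨key.1, key.2, fun h3 => ?_⟩
  have hpos := CfsgLib.BlockRank.blockRank_pos (p := 2) (by norm_num)
    (CfsgLib.BlockReg.block_nonempty hM hb.1)
  have hsq : Nat.sqrt (Cfsg.blockRank 2 b) = 1 := Nat.eq_sqrt'.mpr ⟨by omega, by norm_num; omega⟩ |>.symm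
  have h1 := key.1 (by rw [hsq]; exact odd_one)
  rwa [hsq, one_mul] at h1

end Cfsg.Agent.S4541
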