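import Cfsg.Statements.S4549
import Cfsg.Agent.Lib.RealChar.PrincipalPDeg
import Cfsg.Agent.Lib.Invol.BlockColumns
import Cfsg.Agent.Lib.ConstBlock.Basic
import Cfsg.Agent.Lib.Transfer.PResidual

set_option autoImplicit false
set_option linter.style.haveILetI false
set_option linter.unusedSectionVars false
set_option maxHeartbeats 1000000
open Cfsg

namespace Cfsg.Agent.S4549

open scoped ComplexConjugate
open CfsgLib

universe u

attribute [local instance high] Fintype.ofFinite

variable {G : Type u} [Group G] [Finite G]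

/-- An involution on a finite set: a sum is congruent mod two to the sum over the fixed points. -/
private theorem sum_fixed_mod_two {α : Type*} [DecidableEq α] (s : Finset α) (τ : α → α)
    (hτ : ∀ a ∈ s, τ a ∈ s) (h2 : ∀ a ∈ s, τ (τ a) = a) (f : α → ZMod 2)
    (hf : ∀ a ∈ s, f (τ a) = f a) :
    ∑ a ∈ s, f a = ∑ a ∈ s.filter (fun a => τ a = a), f a := by
  rw [← Finset.sum_filter_add_sum_filter_not s (fun a => τ a = a) f]
  have h0 : ∑ a ∈ s.filter (fun a => ¬ τ a = a), f a = 0 := by
    refine Finset.sum_involution (fun a _ => τ a) (fun a ha => ?_) (fun a ha _ => ?_)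
      (fun a ha => ?_) (fun a ha => ?_)
    · rw [hf a (Finset.mem_filter.1 ha).1, CharTwo.add_self_eq_zero]
    · exact (Finset.mem_filter.1 ha).2
    · rw [Finset.mem_filter] at ha ⊢
      exact ⟨hτ a ha.1, fun h => ha.2 (by rwa [h2 a ha.1, eq_comm] at h)⟩
    · exact h2 a (Finset.mem_filter.1 ha).1
  rw [h0, add_zero]

/-- A map with a power of two as period fixes a point of any invariant finite set of odd weight. -/
private theorem exists_fixed {α : Type*} [DecidableEq α] (τ : α → α) (f : α → ZMod 2)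
    (hf : ∀ a, f (τ a) = f a) :
    ∀ (n : ℕ) (s : Finset α), (∀ a ∈ s, τ a ∈ s) → (∀ a ∈ s, τ^[2 ^ n] a = a) →
      ∑ a ∈ s, f a ≠ 0 → ∃ a ∈ s, τ a = a ∧ f a ≠ 0 := by
  intro n
  induction n with
  | zero =>
    intro s _ hper hsum
    obtain ⟨a, ha, hfa⟩ := Finset.exists_ne_zero_of_sum_ne_zero hsum
    exact ⟨a, ha, by simpa using hper a ha, hfa⟩
  | succ n ih =>
    intro s hs hper hsum
    set τ' := τ^[2 ^ n] with hτ'
    have hs' : ∀ a ∈ s, τ' a ∈ s := by
      intro a ha
      rw [hτ']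
      generalize 2 ^ n = m
      induction m with
      | zero => simpa
      | succ m ihm => rw [Function.iterate_succ_apply']; exact hs _ ihm
    have h2 : ∀ a ∈ s, τ' (τ' a) = a := fun a ha => by
      rw [hτ', ← Function.iterate_add_apply, ← two_mul, ← pow_succ']
      exact hper a ha
    have hf' : ∀ a ∈ s, f (τ' a) = f a := by
      intro a _
      rw [hτ']
      generalize 2 ^ n = m
      induction m with
      | zero => rfl
      | succ m ihm => rw [Function.iterate_succ_apply', hf, ihm]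
    rw [sum_fixed_mod_two s τ' hs' h2 f hf'] at hsum
    obtain ⟨a, ha, h⟩ := ih (s.filter fun a => τ' a = a) (fun a ha => by
      rw [Finset.mem_filter] at ha ⊢
      refine ⟨hs a ha.1, ?_⟩
      rw [hτ', ← Function.iterate_succ_apply, Function.iterate_succ_apply', ← hτ', ha.2])
      (fun a ha => (Finset.mem_filter.1 ha).2) hsum
    exact ⟨a, (Finset.mem_filter.1 ha).1, h⟩

/-- `3 ^ 2 ^ a ≡ 1` modulo `2 ^ (a + 1)`. -/
private theorem three_pow_modEq (a : ℕ) : 3 ^ 2 ^ a ≡ 1 [MOD 2 ^ (a + 1)] := by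
  have h : ∀ a : ℕ, 2 ^ (a + 1) ∣ 3 ^ 2 ^ a - 1 := by
    intro a
    induction a with
    | zero => norm_num
    | succ a ih =>
      obtain ⟨t, ht⟩ := ih
      have h1 : 3 ^ 2 ^ a = 2 ^ (a + 1) * t + 1 := by
        have := Nat.one_le_pow (2 ^ a) 3 (by norm_num)
        omega
      refine ⟨2 ^ a * t * t + t, ?_⟩
      rw [pow_succ 2 a, pow_mul, h1]
      have : (2 ^ (a + 1) * t + 1) ^ 2 = 2 ^ (a + 1 + 1) * (2 ^ a * t * t + t) + 1 := by ring
      rw [this, Nat.add_sub_cancel]
  exact ((Nat.modEq_iff_dvd' (Nat.one_le_pow _ _ (by norm_num))).2 (h a)).symm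

variable {k : ℕ}

/-- The power map has a period which is a power of two. -/
private theorem exists_period (hk₁ : ∀ g : G, (∃ j : ℕ, orderOf g = 2 ^ j) → g ^ k = g ^ 3)
    (hk₂ : ∀ g : G, Odd (orderOf g) → g ^ k = g) : ∃ n : ℕ, ∀ g : G, g ^ k ^ 2 ^ n = g := by
  haveI : Fact (Nat.Prime 2) := ⟨Nat.prime_two⟩
  refine ⟨(Nat.card G).factorization 2, fun g => ?_⟩
  obtain ⟨s, t, hst, hc, ⟨j, hj⟩, ht⟩ := CfsgLib.Blocks.exists_isPPart Nat.prime_two g
  have hpow : ∀ (x : G) (c : ℕ), x ^ k = x ^ c → ∀ m, x ^ k ^ m = x ^ c ^ m := by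
    intro x c hx m
    induction m with
    | zero => simp
    | succ m ih => rw [pow_succ, pow_mul, ih, ← pow_mul, mul_comm, pow_mul, hx, ← pow_mul, mul_comm,
        ← pow_succ]
  have hs : s ^ k ^ 2 ^ (Nat.card G).factorization 2 = s := by
    rw [hpow s 3 (hk₁ s ⟨j, hj⟩)]
    conv_rhs => rw [← pow_one s]
    rw [pow_eq_pow_iff_modEq, hj]
    refine (three_pow_modEq _).of_dvd (pow_dvd_pow 2 ?_)
    have h1 : 2 ^ j ∣ Nat.card G := hj ▸ orderOf_dvd_natCard s
    have := (Nat.prime_two.pow_dvd_iff_le_factorization Nat.card_pos.ne').1 h1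
    omega
  have ht' : t ^ k ^ 2 ^ (Nat.card G).factorization 2 = t := by
    rw [hpow t 1 (by rw [pow_one]; exact hk₂ t (Nat.odd_iff.2 (Nat.two_dvd_ne_zero.1 ht))),
      one_pow, pow_one]
  rw [← hst, hc.mul_pow, hs, ht']

/-- The exponent is prime to the group order. -/
private theorem coprime_card (hk₁ : ∀ g : G, (∃ j : ℕ, orderOf g = 2 ^ j) → g ^ k = g ^ 3)
    (hk₂ : ∀ g : G, Odd (orderOf g) → g ^ k = g) : k.Coprime (Nat.card G) := by
  refine Nat.coprime_of_dvd fun q hq hqk hqG => ?_
  haveI := Fact.mk hq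
  obtain ⟨g, hg⟩ := exists_prime_orderOf_dvd_card' q hqG
  have hgk : g ^ k = 1 := orderOf_dvd_iff_pow_eq_one.1 (hg ▸ hqk)
  rcases hq.eq_two_or_odd' with rfl | hodd
  · rw [hk₁ g ⟨1, by simpa using hg⟩] at hgk
    have := orderOf_dvd_of_pow_eq_one hgk
    rw [hg] at this
    norm_num at this
  · rw [hk₂ g (hg ▸ hodd)] at hgk
    rw [hgk, orderOf_one] at hg
    exact hq.ne_one hg.symm

variable {M : Ideal Cfsg.AlgInt}

/-- Every `±1`-character of a Sylow 2-subgroup has a fixed odd multiplicity in the block. -/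
private theorem exists_fixed_above (hM : IsPModular 2 M) [Fact (Nat.Prime 2)]
    (hk₁ : ∀ g : G, (∃ j : ℕ, orderOf g = 2 ^ j) → g ^ k = g ^ 3)
    (hk₂ : ∀ g : G, Odd (orderOf g) → g ^ k = g) (P : Sylow 2 G)
    (lam : (P : Subgroup G) →* ℂˣ) (hlam : ∀ x, lam x ^ 2 = 1) :
    ∃ χ ∈ principalBlock M G, Odd (charDegree (χ : G → ℂ)) ∧
      (∀ g : G, (χ : G → ℂ) (g ^ k) = (χ : G → ℂ) g) ∧
      classInner (fun u : (P : Subgroup G) => (χ : G → ℂ) u) (fun u => (lam u : ℂ)) ≠ 0 := by
  classical
  set B := principalBlock M G with hB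
  have hB' : IsPBlock M B := CfsgLib.Blk83.principalBlock_isPBlock
  have hnat : ∀ χ : IrrCharacter G, ∃ m : ℕ,
      classInner (fun u : (P : Subgroup G) => (χ : G → ℂ) u) (fun u => (lam u : ℂ)) = m := fun χ =>
    CfsgLib.Char.IsCharacter.exists_nat_classInner
      (CfsgLib.Char.IsCharacter.restrict (CfsgLib.Char.IsIrrCharacter.isCharacter χ.2) _)
      (CfsgLib.Char.isIrrCharacter_linear lam)
  choose m hm using hnat
  set S : ℕ := ∑ χ ∈ B.toFinset, charDegree (χ : G → ℂ) * m χ with hS
  set T : ℕ := ∑ χ ∈ B.toFinset, charDegree (χ : G → ℂ) ^ 2 with hT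
  have hTf : T.factorization 2 = (Nat.card G).factorization 2 := by
    have h := CfsgLib.BlockReg.factorization_sum_sq hM hB'
    rwa [finsum_mem_eq_toFinset_sum, hB, CfsgLib.RealChar.minExp_principal hM, add_zero] at h
  have hprod : (S : ℂ) * (Nat.card (P : Subgroup G) : ℂ) = (T : ℂ) := by
    rw [hS, hT, Nat.cast_sum, Nat.cast_sum, Finset.sum_mul]
    calc ∑ χ ∈ B.toFinset, ((charDegree (χ : G → ℂ) * m χ : ℕ) : ℂ) * (Nat.card (P : Subgroup G) : ℂ)
        = ∑ χ ∈ B.toFinset, ∑ u : (P : Subgroup G),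
            (charDegree (χ : G → ℂ) : ℂ) * ((χ : G → ℂ) u * conj ((lam u : ℂ))) := by
          refine Finset.sum_congr rfl fun χ _ => ?_
          rw [Nat.cast_mul, ← hm, ← Finset.mul_sum, classInner, mul_assoc]
          congr 1
          rw [mul_comm (Nat.card _ : ℂ)⁻¹, mul_assoc, inv_mul_cancel₀
            (Nat.cast_ne_zero.mpr Nat.card_pos.ne'), mul_one]
      _ = ∑ u : (P : Subgroup G), (∑ χ ∈ B.toFinset,
            (charDegree (χ : G → ℂ) : ℂ) * (χ : G → ℂ) u) * conj ((lam u : ℂ)) := by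
          rw [Finset.sum_comm]
          refine Finset.sum_congr rfl fun u _ => ?_
          rw [Finset.sum_mul]
          exact Finset.sum_congr rfl fun χ _ => by ring
      _ = _ := by
          rw [Finset.sum_eq_single (1 : (P : Subgroup G))]
          · rw [map_one, Units.val_one, map_one, mul_one, OneMemClass.coe_one]
            exact Finset.sum_congr rfl fun χ _ => by rw [CfsgLib.Blk83.one_eq, sq, Nat.cast_mul]
          · intro u _ hu
            have hord : 2 ∣ orderOf ((u : G)⁻¹) := by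
              rw [orderOf_inv]
              by_contra h
              exact hu (Subtype.ext (CfsgLib.ConstBlock.two_elem_regular_mem P.isPGroup' u.2 h))
            have h0 := CfsgLib.BlockReg.block_orthogonality hM hB' 1 ((u : G)⁻¹) (by simp) hord
            rw [finsum_mem_eq_toFinset_sum] at h0
            rw [Finset.sum_congr rfl fun (χ : IrrCharacter G) _ =>
              show (charDegree (χ : G → ℂ) : ℂ) * (χ : G → ℂ) u =
              (χ : G → ℂ) 1 * conj ((χ : G → ℂ) (u : G)⁻¹) by
                rw [CfsgLib.Blk83.one_eq, CfsgLib.Char.IsIrrCharacter.apply_inv χ.2,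
                  Complex.conj_conj], h0, zero_mul]
          · exact fun h => absurd (Finset.mem_univ _) h
  have hprod' : S * Nat.card (P : Subgroup G) = T := by exact_mod_cast hprod
  have hT0 : T ≠ 0 := by
    rw [hT]
    exact (Finset.sum_pos (fun χ _ => pow_pos (CfsgLib.Blk83.deg_pos χ) 2)
      ⟨_, Set.mem_toFinset.mpr (CfsgLib.Blk83.principal_mem hM)⟩).ne'
  have hSodd : ((S : ℕ) : ZMod 2) ≠ 0 := by
    rw [Ne, ZMod.natCast_eq_zero_iff_even, even_iff_two_dvd]
    intro hd
    have h1 : 2 ^ ((Nat.card G).factorization 2 + 1) ∣ T := by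
      rw [← hprod', P.card_eq_multiplicity, add_comm, pow_add, pow_one]
      exact mul_dvd_mul_right hd _
    have := (Nat.prime_two.pow_dvd_iff_le_factorization hT0).1 h1
    omega
  have hco := coprime_card hk₁ hk₂
  obtain ⟨n, hn⟩ := exists_period hk₁ hk₂
  -- invariance of the degree and of the multiplicity
  have hdeg : ∀ χ : IrrCharacter G,
      charDegree (CfsgLib.CharGalois.powIrr hco χ : G → ℂ) = charDegree (χ : G → ℂ) := fun χ => by
    have := CfsgLib.Blk83.one_eq (CfsgLib.CharGalois.powIrr hco χ)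
    rw [CfsgLib.CharGalois.powIrr_apply, one_pow, CfsgLib.Blk83.one_eq] at this
    exact_mod_cast this.symm
  have hmul : ∀ χ : IrrCharacter G, m (CfsgLib.CharGalois.powIrr hco χ) = m χ := fun χ => by
    have hu3 : ∀ u : (P : Subgroup G), (u : G) ^ k = ((u ^ 3 : (P : Subgroup G)) : G) := fun u => by
      obtain ⟨i, hi⟩ := IsPGroup.iff_orderOf.mp P.isPGroup' u
      rw [SubmonoidClass.coe_pow]
      exact hk₁ _ ⟨i, by rwa [Subgroup.orderOf_coe]⟩
    have h3 : Nat.Coprime (Nat.card (P : Subgroup G)) 3 := by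
      obtain ⟨i, hi⟩ := P.isPGroup'.exists_card_eq
      rw [hi]
      exact Nat.Coprime.pow_left _ (by norm_num)
    have : ((m (CfsgLib.CharGalois.powIrr hco χ) : ℕ) : ℂ) = m χ := by
      rw [← hm, ← hm, classInner, classInner]
      congr 1
      refine Fintype.sum_equiv (powCoprime h3) _ _ fun u => ?_
      rw [powCoprime_apply, CfsgLib.CharGalois.powIrr_apply, hu3 u, map_pow,
        show lam u ^ 3 = lam u by rw [pow_succ, hlam, one_mul]]
    exact_mod_cast this
  have hpow : ∀ (i : ℕ) (χ : IrrCharacter G) (g : G),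
      (((CfsgLib.CharGalois.powIrr hco)^[i] χ : IrrCharacter G) : G → ℂ) g =
        (χ : G → ℂ) (g ^ k ^ i) := by
    intro i
    induction i with
    | zero => simp
    | succ i ih =>
      intro χ g
      rw [Function.iterate_succ_apply, ih, CfsgLib.CharGalois.powIrr_apply, ← pow_mul, ← pow_succ]
  obtain ⟨χ, hχB, hfix, hχ⟩ := exists_fixed (CfsgLib.CharGalois.powIrr hco)
    (fun χ => ((charDegree (χ : G → ℂ) * m χ : ℕ) : ZMod 2))
    (fun χ => by simp only [hdeg, hmul]) n B.toFinset
    (fun χ h => Set.mem_toFinset.2 (CfsgLib.Blk83.powIrr_mem hM hco (Set.mem_toFinset.1 h)))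
    (fun χ _ => Subtype.ext (funext fun g => by rw [hpow, hn]))
    (by rw [← Nat.cast_sum]; exact hSodd)
  rw [Ne, ZMod.natCast_eq_zero_iff_even, Nat.not_even_iff_odd, Nat.odd_mul] at hχ
  refine ⟨χ, Set.mem_toFinset.1 hχB, hχ.1, fun g => ?_, ?_⟩
  · rw [← CfsgLib.CharGalois.powIrr_apply hco, hfix]
  · rw [hm]
    exact_mod_cast hχ.2.pos.ne'

/-- An element outside the Frattini subgroup of a 2-group is detected by a `±1`-character. -/
private theorem mem_frattini_of_forall {P : Type u} [Group P] [Finite P] (hP : IsPGroup 2 P)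
    {x : P} (h : ∀ f : P →* ℂˣ, (∀ y, f y ^ 2 = 1) → f x = 1) : x ∈ frattini P := by
  haveI : Fact (Nat.Prime 2) := ⟨Nat.prime_two⟩
  haveI : Group.IsNilpotent P := hP.isNilpotent
  rw [frattini, Order.radical]
  simp only [Subgroup.mem_iInf]
  intro H hH
  haveI : H.Normal := Subgroup.NormalizerCondition.normal_of_coatom H
    Group.normalizerCondition_of_isNilpotent hH
  have h2 : Nat.card (P ⧸ H) = 2 := by
    obtain ⟨i, hi⟩ := (hP.to_quotient H).exists_card_eq
    by_contra hne
    obtain ⟨K, hK⟩ := Sylow.exists_subgroup_card_pow_prime 2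
      (G := P ⧸ H) (n := 1) (by
        rw [hi]
        refine pow_dvd_pow 2 (Nat.one_le_iff_ne_zero.2 fun h0 => ?_)
        rw [h0, pow_zero] at hi
        exact hH.1 (Subgroup.index_eq_one.1 hi))
    rw [pow_one] at hK
    have hle : H ≤ K.comap (QuotientGroup.mk' H) := fun y hy => by
      rw [Subgroup.mem_comap, QuotientGroup.mk'_apply, (QuotientGroup.eq_one_iff y).2 hy]
      exact K.one_mem
    rcases hle.lt_or_eq with hlt | heq
    · have htop := hH.2 _ hlt
      have : K = ⊤ := by
        rw [eq_top_iff]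
        intro y _
        obtain ⟨y, rfl⟩ := QuotientGroup.mk'_surjective H y
        exact (htop ▸ Subgroup.mem_top y : y ∈ K.comap (QuotientGroup.mk' H))
      rw [this, Subgroup.card_top] at hK
      exact hne hK
    · have : K = ⊥ := by
        rw [eq_bot_iff]
        intro y hy
        obtain ⟨y, rfl⟩ := QuotientGroup.mk'_surjective H y
        have : y ∈ H := heq ▸ hy
        rw [Subgroup.mem_bot, QuotientGroup.mk'_apply, QuotientGroup.eq_one_iff]
        exact this
      rw [this, Subgroup.card_bot] at hK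
      omega
  by_contra hx
  haveI : IsCyclic (P ⧸ H) := isCyclic_of_prime_card h2
  obtain ⟨f, hf⟩ := CfsgLib.ConstBlock.exists_hom_ne (A := P ⧸ H)
    (fun a b => (IsCyclic.isMulCommutative (α := P ⧸ H)).is_comm.comm a b) (a := QuotientGroup.mk x)
    (fun e => hx ((QuotientGroup.eq_one_iff x).1 e))
  refine hf (h (f.comp (QuotientGroup.mk' H)) fun y => ?_)
  rw [MonoidHom.comp_apply, ← map_pow, show (QuotientGroup.mk' H y) ^ 2 = 1 by
    rw [← h2]; exact pow_card_eq_one', map_one]

/-- Let G be a finite group and M a maximal ideal of the algebraic integers containing 2. Let k be a natural number with g ^ k = g ^ 3 for every 2-element g and g ^ k = g for every element g of odd order (such k exist); an irreducible character χ is unchanged by g ↦ g ^ k exactly when it is fixed by the field automorphism that cubes the 2-power roots of unity and fixes the roots of unity of odd order. Then G has a normal 2-complement if and only if every member χ of the principal 2-block of odd degree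 with χ (g ^ k) = χ g for all g has degree one. -/
theorem result {G : Type*} [Group G] [Finite G] (M : Ideal Cfsg.AlgInt) (hM : Cfsg.IsPModular 2 M) (k : ℕ) (hk₁ : ∀ g : G, (∃ j : ℕ, orderOf g = 2 ^ j) → g ^ k = g ^ 3) (hk₂ : ∀ g : G, Odd (orderOf g) → g ^ k = g) : Cfsg.HasNormalPComplement 2 G ↔ ∀ χ ∈ Cfsg.principalBlock M G, Odd (Cfsg.charDegree (χ : G → ℂ)) → (∀ g : G, (χ : G → ℂ) (g ^ k) = (χ : G → ℂ) g) → Cfsg.charDegree (χ : G → ℂ) = 1 := by
  haveI : Fact (Nat.Prime 2) := ⟨Nat.prime_two⟩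
  constructor
  · intro h χ hχ hodd _
    obtain ⟨K, hK, hKd, i, hi⟩ := Transfer.hasNormalPComplement_iff_exists_normal.1 h
    haveI := hK
    have htriv := (CfsgLib.Invol.BlockCol.mem_principalBlock_iff_trivial hM K hKd hi χ).1 hχ
    obtain ⟨η, hη, hηχ⟩ := CfsgLib.CharTwist.exists_irr_quotient χ.2 K htriv
    have hdvd := CfsgLib.BlockReg.deg_dvd_card (⟨η, hη⟩ : IrrCharacter (G ⧸ K))
    have hd : charDegree (χ : G → ℂ) = charDegree η := by
      have h1 := CfsgLib.Blk83.one_eq χ
      have h2 := CfsgLib.Blk83.one_eq (⟨η, hη⟩ : IrrCharacter (G ⧸ K))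
      have h3 : (χ : G → ℂ) 1 = η 1 := by rw [hηχ]; simp
      exact_mod_cast h1.symm.trans (h3.trans h2)
    rw [← hd, show Nat.card (G ⧸ K) = 2 ^ i from hi] at hdvd
    obtain ⟨j, -, hj⟩ := (Nat.dvd_prime_pow Nat.prime_two).1 hdvd
    rcases j with _ | j
    · simpa using hj
    · exact absurd (hj ▸ hodd) (Nat.not_odd_iff_even.2 (even_iff_two_dvd.2 (dvd_pow_self 2 j.succ_ne_zero)))
  · intro h
    obtain ⟨P⟩ : Nonempty (Sylow 2 G) := inferInstance
    set a := (Nat.card G).factorization 2
    let N : Subgroup G :=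
      { carrier := {g | ∀ f : G →* ℂˣ, (∀ y, f y ^ 2 ^ a = 1) → f g = 1}
        one_mem' := fun f _ => map_one f
        mul_mem' := fun hx hy f hf => by rw [map_mul, hx f hf, hy f hf, one_mul]
        inv_mem' := fun hx f hf => by rw [map_inv, hx f hf, inv_one] }
    haveI hN : N.Normal := ⟨fun n hn g f hf => by
      rw [map_mul, map_mul, hn f hf, map_inv, mul_one, mul_inv_cancel]⟩
    have hq : IsPGroup 2 (G ⧸ N) := by
      intro x
      refine ⟨a, ?_⟩
      obtain ⟨g, rfl⟩ := QuotientGroup.mk_surjective x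
      rw [← QuotientGroup.mk_pow, QuotientGroup.eq_one_iff]
      exact fun f hf => by rw [map_pow, hf]
    have hNP : N ⊓ (P : Subgroup G) ≤ (frattini (P : Subgroup G)).map (P : Subgroup G).subtype := by
      rintro x ⟨hxN, hxP⟩
      refine ⟨⟨x, hxP⟩, mem_frattini_of_forall P.isPGroup' fun lam hlam => ?_, rfl⟩
      obtain ⟨χ, hχB, hodd, hfix, hne⟩ := exists_fixed_above hM hk₁ hk₂ P lam hlam
      have h1 : (χ : G → ℂ) 1 = 1 := by rw [CfsgLib.Blk83.one_eq, h χ hχB hodd hfix, Nat.cast_one]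
      obtain ⟨ω, hω⟩ := CfsgLib.Char.isIrrCharacter_degree_one_iff.1 ⟨χ.2, h1⟩
      rw [hω] at hne
      have hres := CfsgLib.RealChar.eq_of_classInner_linear_ne_zero _ lam ω hne
      -- the 2-part of the extension
      set c := Nat.card G / 2 ^ a
      have hc : Odd c := Nat.odd_iff.2 (Nat.two_dvd_ne_zero.1
        (Nat.not_dvd_ordCompl Nat.prime_two Nat.card_pos.ne'))
      have hωc := hxN (ω ^ c) fun y => by
        rw [MonoidHom.pow_apply, ← pow_mul, Nat.div_mul_cancel (Nat.ordProj_dvd _ 2), ← map_pow,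
          pow_card_eq_one', map_one]
      rw [MonoidHom.pow_apply, show ω x = lam ⟨x, hxP⟩ from hres ⟨x, hxP⟩] at hωc
      obtain ⟨e, he⟩ := hc
      rwa [he, pow_succ, pow_mul, hlam, one_pow, one_mul] at hωc
    have hNc : HasNormalPComplement 2 N := Transfer.hasNormalPComplement_of_inf_le_frattini P N hNP
    rw [Transfer.hasNormalPComplement_iff_not_dvd] at hNc ⊢
    rwa [← Transfer.map_subtype_pResidual_of_le N (Transfer.pResidual_le_of_isPGroup_quotient N hq),
      Subgroup.card_map_of_injective N.subtype_injective]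

end Cfsg.Agent.S4549
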