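import Cfsg.Statements.S4550
import Cfsg.Agent.Lib.BlockPrincipal.Parity
import Mathlib.GroupTheory.PGroup
import Mathlib.FieldTheory.Finite.Basic

set_option autoImplicit false
open Cfsg

namespace Cfsg.Agent.S4550

open CfsgLib.BlockReg CfsgLib.BlockPrincipal

theorem coprime_k {G : Type*} [Group G] [Finite G] (k : ℕ)
    (hk₁ : ∀ g : G, (∃ j : ℕ, orderOf g = 2 ^ j) → g ^ k = g ^ 3)
    (hk₂ : ∀ g : G, Odd (orderOf g) → g ^ k = g) : k.Coprime (Nat.card G) := by
  refine Nat.coprime_of_dvd fun q hq hqk hqn => ?_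
  obtain ⟨x, hx⟩ := exists_prime_orderOf_dvd_card' (hp := ⟨hq⟩) q hqn
  have h1 : x ^ k = 1 := orderOf_dvd_iff_pow_eq_one.1 (hx ▸ hqk)
  rcases hq.eq_two_or_odd' with rfl | hodd
  · rw [hk₁ x ⟨1, by rw [hx, pow_one]⟩] at h1
    have := orderOf_dvd_of_pow_eq_one h1
    rw [hx] at this
    omega
  · rw [hk₂ x (hx ▸ hodd)] at h1
    rw [h1, orderOf_one] at hx
    exact hq.ne_one hx.symm

/-- The twist has `2`-power order. -/
theorem pow_twist {G : Type*} [Group G] [Finite G] (k : ℕ)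
    (hk₁ : ∀ g : G, (∃ j : ℕ, orderOf g = 2 ^ j) → g ^ k = g ^ 3)
    (hk₂ : ∀ g : G, Odd (orderOf g) → g ^ k = g) :
    ∃ j : ℕ, ∀ g : G, g ^ (k ^ (2 ^ j)) = g := by
  set n := Nat.card G
  refine ⟨n.factorization 2, fun g => ?_⟩
  set j := n.factorization 2
  set o := n / 2 ^ j
  have hno : 2 ^ j * o = n := Nat.ordProj_mul_ordCompl_eq_self n 2
  have ho : (2 ^ j).Coprime o :=
    Nat.Coprime.pow_left _ (Nat.coprime_ordCompl Nat.prime_two Nat.card_pos.ne')
  have hu : (g ^ o) ^ 2 ^ j = 1 := by rw [← pow_mul, mul_comm, hno, pow_card_eq_one']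
  have hv : (g ^ 2 ^ j) ^ o = 1 := by rw [← pow_mul, hno, pow_card_eq_one']
  have h1 : (g ^ o) ^ (k ^ (2 ^ j)) = g ^ o := by
    have hstep : ∀ m : ℕ, (g ^ o) ^ (k ^ m) = (g ^ o) ^ (3 ^ m) := by
      intro m
      induction m with
      | zero => simp
      | succ m ih =>
        have hord : ∃ i, orderOf ((g ^ o) ^ 3 ^ m) = 2 ^ i := by
          have : ((g ^ o) ^ 3 ^ m) ^ 2 ^ j = 1 := by
            rw [← pow_mul, mul_comm, pow_mul, hu, one_pow]
          obtain ⟨i, -, hi⟩ := (Nat.dvd_prime_pow Nat.prime_two).1 (orderOf_dvd_of_pow_eq_one this)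
          exact ⟨i, hi⟩
        rw [pow_succ, pow_mul, ih, hk₁ _ hord, ← pow_mul, ← pow_succ]
    rw [hstep, pow_eq_pow_mod _ hu]
    rcases Nat.eq_zero_or_pos j with h0 | h0
    · have : g ^ o = 1 := by simpa [h0] using hu
      rw [this]; simp
    · have hmod : 3 ^ (2 ^ j) ≡ 1 [MOD 2 ^ j] := by
        have h := Nat.ModEq.pow_totient (x := 3) (n := 2 ^ j)
          (Nat.Coprime.pow_right _ (by norm_num))
        have hphi : (2 ^ j).totient ∣ 2 ^ j := by
          rw [Nat.totient_prime_pow Nat.prime_two h0]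
          simp only [Nat.add_one_sub_one, mul_one]
          exact pow_dvd_pow 2 (Nat.sub_le j 1)
        obtain ⟨c, hc⟩ := hphi
        have he : 3 ^ (2 ^ j) = (3 ^ (2 ^ j).totient) ^ c := by rw [← pow_mul, ← hc]
        have h' := h.pow c
        rw [one_pow] at h'
        rw [he]
        exact h'
      rw [hmod, ← pow_eq_pow_mod _ hu, pow_one]
  have h2 : (g ^ 2 ^ j) ^ (k ^ (2 ^ j)) = g ^ 2 ^ j := by
    have hodd : Odd (orderOf (g ^ 2 ^ j)) := by
      refine Odd.of_dvd_nat ?_ (orderOf_dvd_of_pow_eq_one hv)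
      rw [← Nat.not_even_iff_odd, even_iff_two_dvd]
      exact Nat.not_dvd_ordCompl Nat.prime_two Nat.card_pos.ne'
    have : ∀ m : ℕ, (g ^ 2 ^ j) ^ (k ^ m) = g ^ 2 ^ j := by
      intro m
      induction m with
      | zero => simp
      | succ m ih => rw [pow_succ, pow_mul, ih, hk₂ _ hodd]
    exact this _
  have hb := Nat.gcd_eq_gcd_ab (2 ^ j) o
  rw [Nat.Coprime.gcd_eq_one ho] at hb
  set a := Nat.gcdA (2 ^ j) o
  set b := Nat.gcdB (2 ^ j) o
  have hg : g = (g ^ 2 ^ j) ^ a * (g ^ o) ^ b := by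
    rw [← zpow_natCast g (2 ^ j), ← zpow_natCast g o, ← zpow_mul, ← zpow_mul, ← zpow_add,
      ← hb, Nat.cast_one, zpow_one]
  have hcomm : Commute ((g ^ 2 ^ j) ^ a) ((g ^ o) ^ b) :=
    (Commute.pow_pow_self g _ _).zpow_zpow _ _
  have ha : ((g ^ 2 ^ j) ^ a) ^ (k ^ (2 ^ j)) = (g ^ 2 ^ j) ^ a := by
    rw [← zpow_natCast ((g ^ 2 ^ j) ^ a), ← zpow_mul, mul_comm, zpow_mul, zpow_natCast, h2]
  have hb' : ((g ^ o) ^ b) ^ (k ^ (2 ^ j)) = (g ^ o) ^ b := by
    rw [← zpow_natCast ((g ^ o) ^ b), ← zpow_mul, mul_comm, zpow_mul, zpow_natCast, h1]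
  conv_lhs => rw [hg, hcomm.mul_pow, ha, hb', ← hg]

/-- Let G be a finite group of even order and M a maximal ideal of the algebraic integers containing 2. Let k be a natural number with g ^ k = g ^ 3 for every 2-element g and g ^ k = g for every element g of odd order (such k exist); an irreducible character χ is unchanged by g ↦ g ^ k exactly when it is fixed by the field automorphism that cubes the 2-power roots of unity and fixes the roots of unity of odd order. Then the number of members χ of the principal 2-block of odd degree with χ (g ^ k) = χ g for all g is even. -/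
theorem result {G : Type*} [Group G] [Finite G] (M : Ideal Cfsg.AlgInt) (hM : Cfsg.IsPModular 2 M) (hev : Even (Nat.card G)) (k : ℕ) (hk₁ : ∀ g : G, (∃ j : ℕ, orderOf g = 2 ^ j) → g ^ k = g ^ 3) (hk₂ : ∀ g : G, Odd (orderOf g) → g ^ k = g) : Even (Nat.card {χ : Cfsg.IrrCharacter G // χ ∈ Cfsg.principalBlock M G ∧ Odd (Cfsg.charDegree (χ : G → ℂ)) ∧ ∀ g : G, (χ : G → ℂ) (g ^ k) = (χ : G → ℂ) g}) := by
  classical
  haveI : Fact (Nat.Prime 2) := ⟨Nat.prime_two⟩
  let _ := Fintype.ofFinite G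
  obtain ⟨t, ht⟩ := exists_prime_orderOf_dvd_card' (G := G) 2 (even_iff_two_dvd.1 hev)
  set B := Cfsg.principalBlock M G
  have hB : Cfsg.IsPBlock M B := isPBlock_principal
  have hc := coprime_k k hk₁ hk₂
  obtain ⟨j, hj⟩ := pow_twist k hk₁ hk₂
  set S := {χ : Cfsg.IrrCharacter G // χ ∈ B ∧ Odd (Cfsg.charDegree (χ : G → ℂ))}
  -- the twist preserves the set
  have hS : ∀ χ : Cfsg.IrrCharacter G, χ ∈ B → Odd (Cfsg.charDegree (χ : G → ℂ)) →
      CfsgLib.CharGalois.powIrr hc χ ∈ B ∧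
        Odd (Cfsg.charDegree (CfsgLib.CharGalois.powIrr hc χ : G → ℂ)) := by
    intro χ hχ hodd
    refine ⟨mem_of_regular_congr hM hB hχ fun g hg => ?_, ?_⟩
    · rw [centralChar_eq, centralChar_eq, CfsgLib.CharGalois.powIrr_apply,
        CfsgLib.CharGalois.powIrr_apply, one_pow,
        hk₂ g (Nat.not_even_iff_odd.1 fun he => hg (even_iff_two_dvd.1 he)), sub_self]
      exact memIdeal_zero hM
    · simpa [Cfsg.charDegree, CfsgLib.CharGalois.powIrr_apply] using hodd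
  let f : S → S := fun χ => ⟨CfsgLib.CharGalois.powIrr hc χ.1, hS χ.1 χ.2.1 χ.2.2⟩
  have hf : Function.Bijective f := Finite.injective_iff_bijective.1 fun a b h =>
    Subtype.ext ((CfsgLib.CharGalois.powIrr_bijective hc).1 (congrArg Subtype.val h))
  let π : Equiv.Perm S := Equiv.ofBijective f hf
  have hiter : ∀ (m : ℕ) (χ : S) (g : G),
      (((π ^ m) χ).1 : G → ℂ) g = (χ.1 : G → ℂ) (g ^ (k ^ m)) := by
    intro m
    induction m with
    | zero => intro χ g; simp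
    | succ m ih =>
      intro χ g
      rw [pow_succ, Equiv.Perm.mul_apply, ih]
      show (χ.1 : G → ℂ) ((g ^ k ^ m) ^ k) = _
      rw [← pow_mul, ← pow_succ]
  have hπ : π ^ (2 ^ j) = 1 := by
    refine Equiv.ext fun χ => Subtype.ext (Subtype.ext (funext fun g => ?_))
    rw [hiter, hj]
    rfl
  have hP : IsPGroup 2 (Subgroup.zpowers π) := IsPGroup.of_card_dvd_pow (n := j) (by
    rw [Nat.card_zpowers]; exact orderOf_dvd_of_pow_eq_one hπ)
  have hmod := hP.card_modEq_card_fixedPoints S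
  have hfix : Nat.card (MulAction.fixedPoints (Subgroup.zpowers π) S) =
      Nat.card {χ : Cfsg.IrrCharacter G // χ ∈ B ∧ Odd (Cfsg.charDegree (χ : G → ℂ)) ∧
        ∀ g : G, (χ : G → ℂ) (g ^ k) = (χ : G → ℂ) g} := by
    refine Nat.card_congr ⟨fun x => ⟨x.1.1, x.1.2.1, x.1.2.2, fun g => ?_⟩,
      fun x => ⟨⟨x.1, x.2.1, x.2.2.1⟩, ?_⟩, fun _ => rfl, fun _ => rfl⟩
    · exact congrFun (congrArg (fun y : S => (y.1 : G → ℂ))
        (x.2 ⟨π, Subgroup.mem_zpowers π⟩)) g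
    · rintro ⟨σ, hσ⟩
      have h1 : ∀ m : ℤ, (π ^ m) (⟨x.1, x.2.1, x.2.2.1⟩ : S) = ⟨x.1, x.2.1, x.2.2.1⟩ :=
        fun m => Equiv.Perm.zpow_apply_eq_self_of_apply_eq_self
          (Subtype.ext (Subtype.ext (funext x.2.2.2))) m
      obtain ⟨m, rfl⟩ := Subgroup.mem_zpowers_iff.1 hσ
      exact h1 m
  rw [hfix] at hmod
  suffices hS2 : 2 ∣ Nat.card S by
    rw [even_iff_two_dvd]
    exact Nat.modEq_zero_iff_dvd.1 (hmod.symm.trans (Nat.modEq_zero_iff_dvd.2 hS2))
  have horth := block_orth_swap hM hB 1 t (by simp) (by rw [ht])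
  rw [finsum_mem_eq_toFinset_sum] at horth
  have hsum : Cfsg.MemLocalIdeal M
      ((∑ χ ∈ B.toFinset, Cfsg.charDegree (χ : G → ℂ) ^ 2 : ℕ) : ℂ) := by
    have h2 : Cfsg.MemLocalIdeal M (∑ χ ∈ B.toFinset,
        ((χ : G → ℂ) t - (χ : G → ℂ) 1) * (starRingEnd ℂ) ((χ : G → ℂ) 1)) := by
      refine memIdeal_sum hM _ fun χ _ => memIdeal_mul_right hM
        (sub_deg_memIdeal_involution hM χ (by rw [← ht, pow_orderOf_eq_one])) ?_
      rw [← deg_cast, map_natCast]
      exact memRing_natCast hM _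
    have h3 := memIdeal_neg h2
    rw [← Finset.sum_neg_distrib] at h3
    convert h3 using 1
    rw [← add_zero (∑ χ ∈ B.toFinset, -(((χ : G → ℂ) t - (χ : G → ℂ) 1) *
      (starRingEnd ℂ) ((χ : G → ℂ) 1))), ← horth, ← Finset.sum_add_distrib, Nat.cast_sum]
    refine Finset.sum_congr rfl fun χ _ => ?_
    rw [Nat.cast_pow, ← deg_cast χ, map_natCast]
    ring
  rw [memIdeal_natCast_iff hM, ← ZMod.natCast_eq_zero_iff, Nat.cast_sum] at hsum
  rw [← ZMod.natCast_eq_zero_iff, ← hsum, Nat.card_eq_fintype_card,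
    Fintype.card_of_subtype (B.toFinset.filter fun χ : Cfsg.IrrCharacter G =>
      Odd (Cfsg.charDegree (χ : G → ℂ))) (fun χ => by simp [Finset.mem_filter]),
    Finset.card_eq_sum_ones, Nat.cast_sum, Finset.sum_filter]
  refine Finset.sum_congr rfl fun χ _ => ?_
  split_ifs with h
  · rw [ZMod.natCast_eq_one_iff_odd.2 (h.pow)]; simp
  · rw [ZMod.natCast_eq_zero_iff_even.2 ((Nat.not_odd_iff_even.1 h).pow_of_ne_zero (by norm_num))]

end Cfsg.Agent.S4550
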