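import Cfsg.Statements.S4551
import Cfsg.Agent.Lib.BlockPrincipal.Alperin
import Cfsg.Agent.S4520
import Mathlib.GroupTheory.Nilpotent


set_option autoImplicit false
open Cfsg

namespace Cfsg.Agent.S4551

open Cfsg CfsgLib CfsgLib.BlockReg CfsgLib.BlockPrincipal CfsgLib.PrincipalCover CfsgLib.CharTwist

open scoped Pointwise

universe u

/-- Transport of principal-block membership along an isomorphism. -/
theorem comp_equiv_mem {p : ℕ} [Fact p.Prime] {M : Ideal Cfsg.AlgInt} (hM : IsPModular p M)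
    {A B : Type u} [Group A] [Group B] [Fintype A] [Fintype B] (e : A ≃* B) {θ : IrrCharacter B}
    (hθ : θ ∈ principalBlock M B) :
    (⟨(θ : B → ℂ) ∘ e, isIrrCharacter_comp_equiv θ.2 e⟩ : IrrCharacter A) ∈ principalBlock M A := by
  rw [mem_principal_iff hM]
  have h2 : regSum p ((θ : B → ℂ) ∘ e) = regSum p (θ : B → ℂ) := by
    refine Finset.sum_equiv e.toEquiv (fun x => ?_) (fun x _ => rfl)
    simp [MulEquiv.orderOf_eq]
  show ¬ MemLocalIdeal M (regSum p ((θ : B → ℂ) ∘ e) / (θ : B → ℂ) (e 1))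
  rw [h2, map_one]
  exact (mem_principal_iff hM θ).1 hθ

/-- A member of the principal block of `N` is invariant in `G = N·C(P)`. -/
theorem conj_fixed {G : Type u} [Group G] [Fintype G] {p : ℕ} [Fact p.Prime]
    {M : Ideal Cfsg.AlgInt} (hM : IsPModular p M) {P N : Subgroup G} [hN : N.Normal] [Fintype N]
    (h : Hyp p P N) {θ : IrrCharacter N} (hθ : θ ∈ principalBlock M N) (g : G) (n : N) :
    (θ : N → ℂ) ⟨g * n * g⁻¹, hN.conj_mem n n.2 g⟩ = (θ : N → ℂ) n := by
  classical
  set K := (Subgroup.zpowers (g : G ⧸ N)).comap (QuotientGroup.mk' N) with hKdef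
  have hNK : N ≤ K := fun x hx => by
    rw [hKdef, Subgroup.mem_comap, QuotientGroup.mk'_apply, (QuotientGroup.eq_one_iff x).2 hx]
    exact Subgroup.one_mem _
  have hgK : g ∈ K := Subgroup.mem_zpowers _
  let _ := Fintype.ofFinite K
  let _ := Fintype.ofFinite (N.subgroupOf K)
  have hcyc : IsCyclic (K ⧸ N.subgroupOf K) := isCyclic_of_injective
    ((quotMap (N := N) K).codRestrict (Subgroup.zpowers (g : G ⧸ N)) fun r => by
      obtain ⟨k, rfl⟩ := QuotientGroup.mk_surjective r
      exact k.2)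
    fun r r' hr => quotMap_injective K (congrArg Subtype.val hr)
  obtain ⟨ξ, hξ, -⟩ := exists_good_of_cyclic hM (h.subgroupOf hNK) hcyc
    (comp_equiv_mem hM (Subgroup.subgroupOfEquivOfLe hNK) hθ)
  have h1 := hξ ⟨⟨g * n * g⁻¹, hNK (hN.conj_mem n n.2 g)⟩, hN.conj_mem n n.2 g⟩
  have h2 := hξ ⟨⟨(n : G), hNK n.2⟩, n.2⟩
  refine h1.symm.trans (Eq.trans ?_ h2)
  exact Char.IsIrrCharacter.isClassFunction ξ.2 (⟨(n : G), hNK n.2⟩ : K) ⟨g, hgK⟩

/-- A good extension exists when the quotient is a `q`-group. -/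
theorem exists_good_pgroup {p : ℕ} [Fact p.Prime] {M : Ideal Cfsg.AlgInt} (hM : IsPModular p M)
    {q : ℕ} (hq : q.Prime) (m : ℕ) : ∀ (G : Type u) [Group G] [Fintype G] (P N : Subgroup G)
    [N.Normal] [Fintype N] (θ : IrrCharacter N), Hyp p P N → IsPGroup q (G ⧸ N) → N.index = m →
    θ ∈ principalBlock M N →
    ∃ χ : IrrCharacter G, (∀ n : N, (χ : G → ℂ) n = (θ : N → ℂ) n) ∧
      Good p M P N (χ : G → ℂ) := by
  induction m using Nat.strong_induction_on with
  | _ m ih =>
  intro G _ _ P N _ _ θ h hQ hm hθ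
  classical
  have := Fact.mk hq
  by_cases hm1 : m = 1
  · have : Subsingleton (G ⧸ N) := by
      rw [← Finite.card_le_one_iff_subsingleton, ← Subgroup.index_eq_card, hm, hm1]
    exact exists_good_of_cyclic hM h inferInstance hθ
  have : Nontrivial (G ⧸ N) := by
    rw [← Finite.one_lt_card_iff_nontrivial, ← Subgroup.index_eq_card, hm]
    have := Subgroup.index_ne_zero_of_finite (H := N)
    omega
  have hnil := hQ.isNilpotent
  obtain ⟨T, hT, hTp⟩ := CfsgLib.WreathEmbed.exists_normal_prime_index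
    (G := G ⧸ N) (inferInstance : Group.IsSolvable (G ⧸ N))
  set H := T.comap (QuotientGroup.mk' N) with hHdef
  have hNH : N ≤ H := fun x hx => by
    rw [hHdef, Subgroup.mem_comap, QuotientGroup.mk'_apply, (QuotientGroup.eq_one_iff x).2 hx]
    exact T.one_mem
  let _ := Fintype.ofFinite H
  let _ := Fintype.ofFinite (N.subgroupOf H)
  have hHn : H.Normal := hT.comap _
  have hHidx : H.index = T.index :=
    Subgroup.index_comap_of_surjective T (QuotientGroup.mk'_surjective N)
  have hlt : (N.subgroupOf H).index < m := by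
    have e : N.relIndex H * H.index = N.index := Subgroup.relIndex_mul_index hNH
    rw [hm, hHidx] at e
    have hpos : 0 < N.relIndex H := Nat.pos_of_ne_zero fun h0 => by
      rw [h0, zero_mul] at e; exact Subgroup.index_ne_zero_of_finite (hm.trans e.symm)
    show N.relIndex H < m
    rw [← e]
    exact lt_mul_of_one_lt_right hpos hTp.one_lt
  have hQH : IsPGroup q (H ⧸ N.subgroupOf H) :=
    hQ.of_injective (quotMap (N := N) H) (quotMap_injective H)
  let eN : N.subgroupOf H ≃* N := Subgroup.subgroupOfEquivOfLe hNH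
  have hθH := comp_equiv_mem hM eN hθ
  obtain ⟨η₁, hη₁, hg₁⟩ := ih _ hlt H (P.subgroupOf H) (N.subgroupOf H) _ (h.subgroupOf hNH)
    hQH rfl hθH
  have hinv : ∀ g : G, ∀ x : H, (η₁ : H → ℂ) ⟨g * x * g⁻¹, hHn.conj_mem x x.2 g⟩ =
      (η₁ : H → ℂ) x := by
    intro g
    obtain ⟨c, hc, hgc⟩ := h.cover g
    have hfun : ∀ x : H, (η₁ : H → ℂ) ⟨c * x * c⁻¹, hHn.conj_mem x x.2 c⟩ = (η₁ : H → ℂ) x := by
      intro x
      let η₂ : IrrCharacter H :=
        ⟨conjFun H (η₁ : H → ℂ) c, isIrrCharacter_conjFun H η₁.2 c⟩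
      have he : η₂ = η₁ := by
        refine good_unique hM (h.subgroupOf hNH) (η := η₂) (η' := η₁)
          (θ := ⟨(θ : N → ℂ) ∘ eN, isIrrCharacter_comp_equiv θ.2 eN⟩) (fun n => ?_) hη₁ ?_ hg₁
        · show (η₁ : H → ℂ) ⟨c * ((n : H) : G) * c⁻¹, _⟩ = (θ : N → ℂ) (eN n)
          rw [← conj_fixed hM h hθ c (eN n)]
          exact hη₁ ⟨⟨c * ((n : H) : G) * c⁻¹, hHn.conj_mem _ (n : H).2 c⟩,
            (inferInstance : N.Normal).conj_mem _ n.2 c⟩
        · intro r
          obtain ⟨y, rfl⟩ := QuotientGroup.mk_surjective r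
          have key := hg₁ ((MulAut.conjNormal (H := H) c y : H) : H ⧸ N.subgroupOf H)
          convert key using 2
          show s p (N.subgroupOf H) (conjFun H (η₁ : H → ℂ) c) _ = _
          simp only [s, conjFun_eq_comp, Function.comp_apply, map_one]
          congr 1
          refine Finset.sum_equiv (MulAut.conjNormal (H := H) c).toEquiv (fun z => ?_)
            (fun z _ => rfl)
          simp only [mem_S, MulEquiv.toEquiv_eq_coe, MulEquiv.coe_toEquiv, MulEquiv.orderOf_eq]
          refine and_congr_right fun _ => ?_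
          rw [QuotientGroup.eq, QuotientGroup.eq, ← map_inv, ← map_mul]
          show _ ↔ c * ((z⁻¹ * y : H) : G) * c⁻¹ ∈ N
          constructor
          · intro e; exact (inferInstance : N.Normal).conj_mem _ e c
          · intro e
            have := (inferInstance : N.Normal).conj_mem _ e c⁻¹
            rwa [show c⁻¹ * (c * ((z⁻¹ * y : H) : G) * c⁻¹) * c⁻¹⁻¹ = ((z⁻¹ * y : H) : G) by
              group] at this
      exact congrFun (congrArg Subtype.val he) x
    intro x
    set n : H := ⟨g⁻¹ * c, hNH hgc⟩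
    have h1 := hfun (n⁻¹ * x * n)
    rw [show (η₁ : H → ℂ) (n⁻¹ * x * n) = (η₁ : H → ℂ) x from by
      have := Char.IsIrrCharacter.isClassFunction η₁.2 x n⁻¹
      rwa [inv_inv] at this] at h1
    rw [← h1]
    refine congrArg (η₁ : H → ℂ) (Subtype.ext ?_)
    show g * (x : G) * g⁻¹ = c * ((g⁻¹ * c)⁻¹ * (x : G) * (g⁻¹ * c)) * c⁻¹
    group
  have hcyc : IsCyclic (G ⧸ H) := by
    have := Fact.mk hTp
    exact isCyclic_of_prime_card (p := T.index) (by rw [← Subgroup.index_eq_card, hHidx])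
  obtain ⟨χ, hχ, hχH⟩ := Cfsg.Agent.S0886.result H hcyc (η₁ : H → ℂ) η₁.2 hinv
  exact exists_good_of_extension hM h hθ (η := ⟨χ, hχ⟩) fun n =>
    (hχH ⟨n, hNH n.2⟩).trans (hη₁ ⟨⟨n, hNH n.2⟩, n.2⟩)


/-- Let N be a normal subgroup of the finite group G of index prime to p, P a Sylow p-subgroup of G with G = N·C_G(P), and M a maximal ideal of the algebraic integers containing p. Then restriction to N is a bijection from the principal p-block of G onto the principal p-block of N: every member of the principal block of G restricts to a member of the principal block of N, and every member of the principal block of N is the restriction of exactly one member of the principal block of G. -/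
theorem result {G : Type*} [Group G] [Finite G] (p : ℕ) [Fact p.Prime] (M : Ideal Cfsg.AlgInt) (hM : Cfsg.IsPModular p M) (N : Subgroup G) [N.Normal] (hidx : ¬ p ∣ N.index) (P : Sylow p G) (hsup : N ⊔ Subgroup.centralizer ((P : Subgroup G) : Set G) = ⊤) : (∀ χ ∈ Cfsg.principalBlock M G, ∃ θ ∈ Cfsg.principalBlock M ↥N, ∀ n : N, (χ : G → ℂ) n = (θ : N → ℂ) n) ∧ ∀ θ ∈ Cfsg.principalBlock M ↥N, ∃! χ : Cfsg.IrrCharacter G, χ ∈ Cfsg.principalBlock M G ∧ ∀ n : N, (χ : G → ℂ) n = (θ : N → ℂ) n := by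
  classical
  have hp : p.Prime := Fact.out
  let _ := Fintype.ofFinite G
  let _ := Fintype.ofFinite N
  let _ := Fintype.ofFinite (G ⧸ N)
  have hPN : (P : Subgroup G) ≤ N := fun x hx => by
    obtain ⟨j, hj⟩ := P.2 ⟨x, hx⟩
    rw [← QuotientGroup.eq_one_iff]
    have h1 : (x : G ⧸ N) ^ p ^ j = 1 := by
      rw [← QuotientGroup.mk_pow, show x ^ p ^ j = 1 by
        simpa using congrArg (fun z : (P : Subgroup G) => (z : G)) hj, QuotientGroup.mk_one]
    have h2 : (x : G ⧸ N) ^ N.index = 1 := by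
      rw [Subgroup.index_eq_card]; exact pow_card_eq_one'
    have := pow_gcd_eq_one.2 ⟨h1, h2⟩
    rwa [show Nat.gcd (p ^ j) N.index = 1 from
      Nat.Coprime.pow_left _ (hp.coprime_iff_not_dvd.2 hidx), pow_one] at this
  have h : Hyp p (P : Subgroup G) N := by
    refine ⟨P.2, P.not_dvd_index, hPN, fun g => ?_⟩
    have hg : g ∈ ((Subgroup.centralizer ((P : Subgroup G) : Set G) : Set G) * (N : Set G) :
        Set G) := by
      rw [← Subgroup.mul_normal, sup_comm, hsup]; trivial
    obtain ⟨c, hc, n, hn, rfl⟩ := hg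
    refine ⟨c, hc, ?_⟩
    rw [mul_inv_rev, inv_mul_cancel_right]
    exact N.inv_mem hn
  have hgood : ∀ θ ∈ principalBlock M ↥N, ∃ η : IrrCharacter G,
      (∀ n : N, (η : G → ℂ) n = (θ : N → ℂ) n) ∧ Good p M (P : Subgroup G) N (η : G → ℂ) := by
    intro θ hθ
    obtain ⟨η, hη, hηN⟩ := CharDeep.Extend.extends_of_sylow N (θ : N → ℂ) θ.2
      (fun g n => conj_fixed hM h hθ g n) (fun r hr => by
        have := Fact.mk hr
        obtain ⟨T⟩ : Nonempty (Sylow r (G ⧸ N)) := inferInstance
        set H := (T : Subgroup (G ⧸ N)).comap (QuotientGroup.mk' N) with hHdef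
        have hNH : N ≤ H := fun x hx => by
          rw [hHdef, Subgroup.mem_comap, QuotientGroup.mk'_apply,
            (QuotientGroup.eq_one_iff x).2 hx]
          exact Subgroup.one_mem _
        let _ := Fintype.ofFinite H
        let _ := Fintype.ofFinite (N.subgroupOf H)
        have hQH : IsPGroup r (H ⧸ N.subgroupOf H) :=
          T.2.of_injective ((quotMap (N := N) H).codRestrict (T : Subgroup (G ⧸ N)) fun z => by
            obtain ⟨k, rfl⟩ := QuotientGroup.mk_surjective z
            exact k.2)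
            fun z z' hz => quotMap_injective H (congrArg Subtype.val hz)
        obtain ⟨η₁, hη₁, -⟩ := exists_good_pgroup hM hr _ H
          ((P : Subgroup G).subgroupOf H) (N.subgroupOf H) _ (h.subgroupOf hNH) hQH rfl
          (comp_equiv_mem hM (Subgroup.subgroupOfEquivOfLe hNH) hθ)
        refine ⟨H, hNH, η₁, ?_, η₁.2, fun n => hη₁ ⟨⟨n, hNH n.2⟩, n.2⟩⟩
        rw [hHdef, Subgroup.index_comap_of_surjective _ (QuotientGroup.mk'_surjective N)]
        exact (hr.coprime_iff_not_dvd.2 T.not_dvd_index).symm)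
    exact exists_good_of_extension hM h hθ (η := ⟨η, hη⟩) hηN
  have huniq : ∀ θ ∈ principalBlock M ↥N, ∀ (η χ : IrrCharacter G),
      (∀ n : N, (η : G → ℂ) n = (θ : N → ℂ) n) → Good p M (P : Subgroup G) N (η : G → ℂ) →
      χ ∈ principalBlock M G → classInner (fun n : N => (χ : G → ℂ) n) (θ : N → ℂ) ≠ 0 →
      χ = η := by
    intro θ hθ η χ hη hg hχ hover
    have hN' : IsIrrCharacter N (fun n : N => (η : G → ℂ) n) := by
      rw [show (fun n : N => (η : G → ℂ) n) = (θ : N → ℂ) from funext hη]; exact θ.2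
    obtain ⟨-, -, h3⟩ := CharDeep.Gal.quotient_bijection N η.2 hN'
    obtain ⟨β, hβ, hβχ⟩ := h3 (χ : G → ℂ) χ.2
      (by rw [show (fun n : N => (η : G → ℂ) n) = (θ : N → ℂ) from funext hη]; exact hover)
    by_cases hβ1 : β = fun _ => (1 : ℂ)
    · refine Subtype.ext ?_
      rw [← hβχ, hβ1]
      funext g
      exact one_mul _
    exfalso
    set Β : IrrCharacter (G ⧸ N) := ⟨β, hβ⟩
    refine (mem_principal_iff hM χ).1 hχ ?_
    have hnd : ¬ p ∣ charDegree β := fun hd =>
      hidx (hd.trans (by rw [Subgroup.index_eq_card]; exact deg_dvd_card Β))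
    have hβR : ∀ q, MemLocalRing M (β q / β 1) := fun q => by
      rw [div_eq_mul_inv, ← show (charDegree β : ℂ) = β 1 from deg_cast Β]
      exact memRing_mul hM (memRing_char hM Β q) (memRing_inv_natCast hM hnd)
    rw [regSum_div_eq (N := N)]
    have hterm : ∀ q, s p N (χ : G → ℂ) q = β q / β 1 * s p N (η : G → ℂ) q := by
      intro q
      simp only [s, ← hβχ, Pi.mul_apply, Function.comp_apply, map_one]
      rw [Finset.sum_congr rfl (g := fun x => β q * (η : G → ℂ) x) (fun x hx => by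
        rw [QuotientGroup.mk'_apply, (mem_S.1 hx).2]), ← Finset.mul_sum]
      ring
    have horth : ∑ q, β q = 0 := by
      have hz : classInner β (fun _ : G ⧸ N => (1 : ℂ)) = 0 := by_contra fun hc =>
        hβ1 (Char.eq_of_classInner_ne_zero hβ Char.isIrrCharacter_principal hc)
      rw [classInner] at hz
      simp only [map_one, mul_one] at hz
      exact (mul_eq_zero.1 hz).resolve_left (inv_ne_zero (Nat.cast_ne_zero.2 Nat.card_pos.ne'))
    have h2 : MemLocalIdeal M (∑ q, (β q / β 1 * s p N (η : G → ℂ) q -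
        β q / β 1 * (cnt p (P : Subgroup G) N : ℂ))) :=
      memIdeal_sum hM _ fun q _ => by rw [← mul_sub]; exact memIdeal_mul_left hM (hβR q) (hg q)
    rw [Finset.sum_sub_distrib, ← Finset.sum_mul _ _ (cnt p (P : Subgroup G) N : ℂ), ← Finset.sum_div, horth,
      zero_div, zero_mul, sub_zero] at h2
    rwa [Finset.sum_congr rfl fun q _ => hterm q]
  refine ⟨fun χ hχ => ?_, fun θ hθ => ?_⟩
  · obtain ⟨θ, hθi, hover⟩ := Clifford.exists_constituent_res N χ.2
    have hθ : (⟨θ, hθi⟩ : IrrCharacter N) ∈ principalBlock M ↥N := by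
      rw [mem_principal_iff hM]
      rw [← Cfsg.Agent.S4520.sum_inside p N χ ⟨θ, hθi⟩ hover]
      have h1 := s_sub_cnt_of_principal hM h hχ 1 fun r => by rw [mul_one, one_mul]
      have h2 : regSum p (fun n : N => (χ : G → ℂ) n) / (χ : G → ℂ) 1 = s p N (χ : G → ℂ) 1 := by
        unfold regSum s
        congr 1
        refine Finset.sum_bij (fun (n : N) _ => (n : G)) (fun n hn => ?_)
          (fun a _ b _ e => Subtype.ext e) (fun x hx => ?_) (fun n _ => rfl)
        · rw [Finset.mem_filter] at hn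
          exact mem_S.2 ⟨by rw [Subgroup.orderOf_coe]; exact hn.2, (QuotientGroup.eq_one_iff _).2 n.2⟩
        · obtain ⟨hr, hq⟩ := mem_S.1 hx
          refine ⟨⟨x, (QuotientGroup.eq_one_iff x).1 hq⟩, ?_, rfl⟩
          rw [Finset.mem_filter, Subgroup.orderOf_mk]
          exact ⟨Finset.mem_univ _, hr⟩
      rw [h2]
      intro hI
      exact not_memIdeal_natCast hM (cnt_not_dvd h) ((memIdeal_iff_of_sub hM h1).1 hI)
    obtain ⟨η, hη, hg⟩ := hgood _ hθ
    have he := huniq _ hθ η χ hη hg hχ hover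
    exact ⟨⟨θ, hθi⟩, hθ, fun n => by rw [he]; exact hη n⟩
  · obtain ⟨η, hη, hg⟩ := hgood θ hθ
    refine ⟨η, ⟨hg.mem_principal hM h, hη⟩, fun χ hχ => huniq θ hθ η χ hη hg hχ.1 ?_⟩
    rw [show (fun n : N => (χ : G → ℂ) n) = (θ : N → ℂ) from funext hχ.2,
      Char.classInner_irr_self θ.2]
    exact one_ne_zero

end Cfsg.Agent.S4551
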