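import Cfsg.Statements.S4552
import Cfsg.Agent.Lib.BlockRank.HomocyclicTwo
import Cfsg.Agent.Lib.BlockRank.HomocyclicCount

set_option autoImplicit false
open Cfsg

namespace Cfsg.Agent.S4552

/-- Let B be a 2-block of the finite group G (relative to a maximal ideal M of the algebraic integers containing 2) whose defect group D is the direct product of two cyclic groups of the same order 2 ^ m, m ≥ 2. Then either B has 2-regular rank one and exactly 4 ^ m irreducible characters, or B has 2-regular rank three and exactly (4 ^ m + 8) / 3 irreducible characters. -/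
theorem result {G : Type*} [Group G] [Finite G] (M : Ideal Cfsg.AlgInt) (hM : Cfsg.IsPModular 2 M) (B : Set (Cfsg.IrrCharacter G)) (hB : Cfsg.IsPBlock M B) (D : Subgroup G) (hD : Cfsg.IsDefectGroup 2 M B D) (m : ℕ) (hm : 2 ≤ m) (hiso : Nonempty (D ≃* Multiplicative (ZMod (2 ^ m) × ZMod (2 ^ m)))) : (Cfsg.blockRank 2 B = 1 ∧ Nat.card B = 4 ^ m) ∨ (Cfsg.blockRank 2 B = 3 ∧ 3 * Nat.card B = 4 ^ m + 8) := by
  haveI : M.IsMaximal := hM.2.1
  haveI := CfsgLib.Blocks.charP_resField (M := M) hM.1 hM.2.2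
  obtain ⟨φ⟩ := hiso
  haveI : NeZero (2 ^ m) := ⟨pow_ne_zero m two_ne_zero⟩
  have hcard : Nat.card D = 4 ^ m := by
    rw [Nat.card_congr φ.toEquiv, Nat.card_congr Multiplicative.toAdd, Nat.card_prod, Nat.card_zmod,
      ← mul_pow]
    norm_num
  have hab : ∀ x ∈ D, ∀ y ∈ D, x * y = y * x := fun x hx y hy =>
    congrArg Subtype.val (φ.injective (by rw [map_mul, map_mul, mul_comm]) :
      (⟨x, hx⟩ : D) * ⟨y, hy⟩ = ⟨y, hy⟩ * ⟨x, hx⟩)
  have hexp : ∀ w ∈ D, w ^ 2 ^ m = 1 := fun w hw => by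
    refine congrArg Subtype.val (φ.injective ?_ : (⟨w, hw⟩ : D) ^ 2 ^ m = 1)
    rw [map_pow, map_one]
    refine Multiplicative.toAdd.injective ?_
    rw [toAdd_pow, toAdd_one]
    have h0 : (2 : ZMod (2 ^ m)) ^ m = 0 := by exact_mod_cast ZMod.natCast_self (2 ^ m)
    ext <;> simp [h0]
  have hmax := (CfsgLib.Blocks.Pairs.isDefectGroup_iff_maxR hM hB).1 hD
  obtain ⟨e, hP⟩ := CfsgLib.Blocks.Pairs.exists_pairOf
    (CfsgLib.Blocks.Pairs.isBlockIdem_ebar hB) hmax.pgroup hmax.ne_zero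
  have hno := hmax.noExt hP
  have h4 := CfsgLib.BlockRank.card_sq_one_le φ
  have hfree := CfsgLib.BlockRank.free_of_homocyclic hM hP hno hab h4
    (m := m - 1) (by rw [show m - 1 + 1 = m by omega]; exact hexp)
  rcases CfsgLib.BlockRank.inertial_index_homocyclic hM hB hP hno hab (m := 2 * m - 1)
    (by rw [hcard, show 2 * m - 1 + 1 = 2 * m by omega, pow_mul]; norm_num) h4 hfree with h | h
  · left
    obtain ⟨h1, h2⟩ := CfsgLib.BlockRank.rankOne_of_trivial_inertial hM hB hP hno hab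
      (Subgroup.relIndex_eq_one.1 h)
    exact ⟨h1, h2.trans hcard⟩
  · right
    have hl := CfsgLib.BlockRank.blockRank_eq_three hM hB hP hno hab (by omega) hcard h4 hexp hfree h
    obtain ⟨k, hk, hk2⟩ := CfsgLib.BlockRank.exists_card_of_free hM hB hP hno hab hfree
    rw [h, hcard] at hk2
    exact ⟨hl, by omega⟩

end Cfsg.Agent.S4552
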