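import Cfsg.Statements.S4553
import Cfsg.Agent.S0867
import Cfsg.Agent.Lib.BlockPrincipal.Criterion
import Cfsg.Agent.Lib.Char.GaloisConj
import Cfsg.Agent.Lib.Char.Clifford
import Cfsg.Agent.Lib.CharDeep.Gallagher
import Cfsg.Agent.Lib.Char.Equiv
import Cfsg.Agent.Lib.Transfer.PResidual


set_option autoImplicit false
open Cfsg

namespace Cfsg.Agent.S4553

open Cfsg CfsgLib CfsgLib.BlockReg CfsgLib.BlockPrincipal
open scoped Pointwise

universe u

/-- In a finite group a map `g ↦ g ^ k` prescribed on `p`-elements and `p'`-elements has `k` prime to the order. -/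
theorem coprime_of_pow {G : Type u} [Group G] [Finite G] {p : ℕ} (hp : p.Prime) {k : ℕ}
    (hk₁ : ∀ g : G, (∃ j : ℕ, orderOf g = p ^ j) → g ^ k = g ^ (1 + p))
    (hk₂ : ∀ g : G, Nat.Coprime (orderOf g) p → g ^ k = g) : Nat.Coprime k (Nat.card G) := by
  refine Nat.coprime_of_dvd fun q hq hqk hqc => ?_
  have := Fact.mk hq
  obtain ⟨g, hg⟩ := exists_prime_orderOf_dvd_card' q hqc
  have h0 : g ^ k = 1 := orderOf_dvd_iff_pow_eq_one.1 (hg ▸ hqk)
  by_cases hqp : q = p
  · subst hqp
    rw [hk₁ g ⟨1, by rw [hg, pow_one]⟩, ← orderOf_dvd_iff_pow_eq_one, hg] at h0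
    exact hq.one_lt.ne' (Nat.dvd_one.1 ((Nat.dvd_add_left dvd_rfl).1 h0))
  · rw [hk₂ g (hg.symm ▸ (Nat.coprime_primes hq hp).2 hqp)] at h0
    rw [h0, orderOf_one] at hg
    exact hq.one_lt.ne hg

/-- The linear characters of exponent `p` of a nontrivial cyclic `p`-group. -/
theorem card_hom_pow_eq_one {H : Type u} [Group H] [Finite H] {p : ℕ} [Fact p.Prime]
    (hcyc : IsCyclic H) (hp : p ∣ Nat.card H) :
    Nat.card {l : H →* ℂˣ // l ^ p = 1} = p := by
  obtain ⟨g, hg⟩ := hcyc.exists_generator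
  have : NeZero p := ⟨(Fact.out : p.Prime).ne_zero⟩
  refine (Nat.card_congr ?_).trans (Complex.card_rootsOfUnity p)
  refine Equiv.ofBijective (fun l => ⟨l.1 g, (mem_rootsOfUnity _ _).2 (by
    have := DFunLike.congr_fun l.2 g
    simpa using this)⟩) ⟨fun a b h => ?_, fun z => ?_⟩
  · refine Subtype.ext (MonoidHom.ext fun x => ?_)
    obtain ⟨i, rfl⟩ := hg x
    rw [map_zpow, map_zpow]
    exact congrArg (fun y : ℂˣ => y ^ i) (congrArg Subtype.val h)
  · have hz : (z.1 : ℂˣ) ^ p = 1 := (mem_rootsOfUnity _ _).1 z.2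
    have hord : orderOf (z.1 : ℂˣ) ∣ orderOf g := by
      rw [orderOf_eq_card_of_forall_mem_zpowers hg]
      exact (orderOf_dvd_of_pow_eq_one hz).trans hp
    refine ⟨⟨monoidHomOfForallMemZpowers hg hord, MonoidHom.ext fun x => ?_⟩,
      Subtype.ext (monoidHomOfForallMemZpowers_apply_gen hg hord)⟩
    obtain ⟨i, rfl⟩ := hg x
    rw [MonoidHom.pow_apply, map_zpow, monoidHomOfForallMemZpowers_apply_gen, MonoidHom.one_apply,
      ← zpow_natCast, ← zpow_mul, mul_comm, zpow_mul, zpow_natCast, hz, one_zpow]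

open Classical in
/-- The determinant decides the twist produced by a power map. -/
theorem twist_pow_det {G : Type u} [Group G] [Finite G] {n : ℕ}
    (ρ : Representation ℂ G (Fin n → ℂ)) (l : G →* ℂˣ) (k : ℕ)
    (h : ∀ g, ρ.character (g ^ k) = (l g : ℂ) * ρ.character g) (u : G) :
    LinearMap.det (ρ (u ^ k)) = (l u : ℂ) ^ n * LinearMap.det (ρ u) := by
  set C := Subgroup.zpowers u
  let φ : C →* C :=
    { toFun := fun x => x ^ k
      map_one' := one_pow k
      map_mul' := fun a b => Commute.mul_pow (show Commute a b from mul_comm' a b) k }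
  let ρ₁ : Representation ℂ C (Fin n → ℂ) := ρ.comp (C.subtype.comp φ)
  let ρ₂ : Representation ℂ C (Fin n → ℂ) :=
    { toFun := fun x => (l x.1 : ℂ) • ρ x.1
      map_one' := by simp
      map_mul' := fun a b => by
        simp only [Subgroup.coe_mul, map_mul, Units.val_mul, smul_mul_assoc, mul_smul_comm,
          smul_smul, mul_comm (l b.1 : ℂ)] }
  have heq : ρ₁.character = ρ₂.character := funext fun x => by
    show LinearMap.trace ℂ _ (ρ ((x : G) ^ k)) = LinearMap.trace ℂ _ ((l x.1 : ℂ) • ρ x.1)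
    rw [map_smul, smul_eq_mul]
    exact h x.1
  obtain ⟨e⟩ := Char.nonempty_equiv_of_character_eq ρ₁ ρ₂ heq
  have h1 : ρ₂ ⟨u, Subgroup.mem_zpowers u⟩ =
      e.toLinearEquiv.conj (ρ₁ ⟨u, Subgroup.mem_zpowers u⟩) := by
    refine LinearMap.ext fun v => ?_
    obtain ⟨w, rfl⟩ := e.toLinearEquiv.surjective v
    rw [LinearEquiv.conj_apply_apply, LinearEquiv.symm_apply_apply]
    exact (DFunLike.congr_fun (e.isIntertwining' ⟨u, Subgroup.mem_zpowers u⟩) w).symm
  have h2 := congrArg LinearMap.det h1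
  rw [LinearEquiv.conj_apply, LinearMap.comp_assoc, LinearMap.det_conj] at h2
  rw [show LinearMap.det (ρ₂ ⟨u, Subgroup.mem_zpowers u⟩) =
    (l u : ℂ) ^ n * LinearMap.det (ρ u) from by
      show LinearMap.det ((l u : ℂ) • ρ u) = _
      rw [LinearMap.det_smul, Module.finrank_fin_fun]] at h2
  exact h2.symm


/-- Let G be a finite group, p a prime, P a Sylow p-subgroup, N the p-residual of G (the subgroup generated by the elements of order prime to p, the smallest normal subgroup with G/N a p-group), and M a maximal ideal of the algebraic integers containing p; suppose G/N is cyclic and nontrivial. Let k be a natural number with g ^ k = g ^ (1 + p) for every p-element g and g ^ k = g for every element g of order prime to p (so that χ (g ^ k) is the image of χ g under the field automorphism that raises p-power roots of unity to the power 1 + p and fixes the roots of unity of order prime to p). Then the number of members χ of the principal block of G of degree prime to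 p with χ (g ^ k) = χ g for all g equals p times the number of members θ of the principal block of N of degree prime to p that are invariant under conjugation by P and satisfy θ (n ^ k) = θ n for all n. -/
theorem result {G : Type*} [Group G] [Finite G] (p : ℕ) [Fact p.Prime] (M : Ideal Cfsg.AlgInt) (hM : Cfsg.IsPModular p M) (P : Sylow p G) (N : Subgroup G) [hN : N.Normal] (hNres : N = Cfsg.pResidual p G) (hcyc : IsCyclic (G ⧸ N)) (hnt : N ≠ ⊤) (k : ℕ) (hk₁ : ∀ g : G, (∃ j : ℕ, orderOf g = p ^ j) → g ^ k = g ^ (1 + p)) (hk₂ : ∀ g : G, Nat.Coprime (orderOf g) p → g ^ k = g) : Nat.card {χ : Cfsg.IrrCharacter G // χ ∈ Cfsg.principalBlock M G ∧ ¬ p ∣ Cfsg.charDegree (χ : G → ℂ) ∧ ∀ g : G, (χ : G → ℂ) (g ^ k) = (χ : G → ℂ) g} = p * Nat.card {θ : Cfsg.IrrCharacter ↥N // θ ∈ Cfsg.principalBlock M ↥N ∧ ¬ p ∣ Cfsg.charDegree (θ : ↥N → ℂ) ∧ (∀ x ∈ (P : Subgroup G), ∀ n : ↥N, (θ : ↥N → ℂ) ⟨x * n * x⁻¹, hN.conj_mem n n.2 x⟩ = (θ : ↥N → ℂ) n) ∧ ∀ n : ↥N, (θ : ↥N → ℂ) (n ^ k) = (θ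 : ↥N → ℂ) n} := by
  classical
  have hp : p.Prime := Fact.out
  let _ := Fintype.ofFinite G
  let _ := Fintype.ofFinite N
  subst hNres
  set N := pResidual p G
  have hpg : IsPGroup p (G ⧸ N) := Transfer.isPGroup_quotient_pResidual
  obtain ⟨b, hb⟩ := Transfer.index_pResidual_eq_pow (G := G) (p := p)
  have hb0 : p ∣ Nat.card (G ⧸ N) := by
    rw [← Subgroup.index_eq_card, hb]
    refine dvd_pow_self p fun h0 => hnt (Subgroup.index_eq_one.1 ?_)
    rw [hb, h0, pow_zero]
  have hk : Nat.Coprime k (Nat.card G) := coprime_of_pow hp hk₁ hk₂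
  have hkN : Nat.Coprime k (Nat.card N) := hk.coprime_dvd_right N.card_subgroup_dvd_card
  have hNP : N ⊔ (P : Subgroup G) = ⊤ := Transfer.pResidual_sup_of_sylow P
  have hdecomp : ∀ g : G, ∃ u ∈ (P : Subgroup G), ((u : G) : G ⧸ N) = g := by
    intro g
    have hg : g ∈ ((N : Set G) * ((P : Subgroup G) : Set G) : Set G) := by
      rw [← Subgroup.normal_mul, hNP]; trivial
    obtain ⟨n, hn, u, hu, rfl⟩ := hg
    exact ⟨u, hu, by rw [QuotientGroup.mk_mul, (QuotientGroup.eq_one_iff n).2 hn, one_mul]⟩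
  have hPel : ∀ u ∈ (P : Subgroup G), ∃ j : ℕ, orderOf u = p ^ j := by
    intro u hu
    obtain ⟨j, hj⟩ := (IsPGroup.iff_orderOf.1 P.2) ⟨u, hu⟩
    exact ⟨j, by rw [← hj, Subgroup.orderOf_mk]⟩
  -- linear characters of the quotient under the power map
  have hlk : ∀ (l : G →* ℂˣ), (∀ n : N, l n = 1) → ∀ g, l (g ^ k) = l g ^ (1 + p) := by
    intro l hl g
    obtain ⟨u, hu, hug⟩ := hdecomp g
    have hlu : l g = l u := by
      have hmem : u⁻¹ * g ∈ N := QuotientGroup.eq.1 hug
      have := hl ⟨_, hmem⟩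
      simp only [map_mul, map_inv, inv_mul_eq_one] at this
      exact this.symm
    rw [map_pow, hlu, ← map_pow, hk₁ u (hPel u hu), map_pow]
  -- regular sums
  have hregN : ∀ g : G, ¬ p ∣ orderOf g → g ∈ N := fun g hg =>
    Transfer.mem_pResidual_of_coprime (hp.coprime_iff_not_dvd.2 hg).symm
  have hblock : ∀ (χ : IrrCharacter G) (θ : IrrCharacter N),
      (∀ n : N, (χ : G → ℂ) n = (θ : N → ℂ) n) →
      (χ ∈ principalBlock M G ↔ θ ∈ principalBlock M N) := by
    intro χ θ h
    have hs : regSum p (χ : G → ℂ) = regSum p (θ : N → ℂ) := by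
      unfold regSum
      refine (Finset.sum_bij (fun (n : N) _ => (n : G)) (fun n hn => ?_)
        (fun a _ b _ h => Subtype.ext h) (fun g hg => ?_) (fun n _ => (h n).symm)).symm
      · simp only [Finset.mem_filter, Finset.mem_univ, true_and] at hn ⊢
        rwa [Subgroup.orderOf_coe]
      · simp only [Finset.mem_filter, Finset.mem_univ, true_and] at hg
        refine ⟨⟨g, hregN g hg⟩, ?_, rfl⟩
        simp only [Finset.mem_filter, Finset.mem_univ, true_and]
        rwa [Subgroup.orderOf_mk]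
    have h1 : (χ : G → ℂ) 1 = (θ : N → ℂ) 1 := by rw [← h 1, Subgroup.coe_one]
    rw [mem_principal_iff hM, mem_principal_iff hM, hs, h1]
  -- the canonical extension
  have hcanon : ∀ θ : IrrCharacter N, ¬ p ∣ charDegree (θ : N → ℂ) →
      (∀ x ∈ (P : Subgroup G), ∀ n : N,
        (θ : N → ℂ) ⟨x * n * x⁻¹, hN.conj_mem n n.2 x⟩ = (θ : N → ℂ) n) →
      ∃ η : IrrCharacter G, (∀ n : N, (η : G → ℂ) n = (θ : N → ℂ) n) ∧
        ((∀ n : N, (θ : N → ℂ) (n ^ k) = (θ : N → ℂ) n) →
          ∀ g : G, (η : G → ℂ) (g ^ k) = (η : G → ℂ) g) := by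
    intro θ hθd hθP
    have hinv : ∀ (g : G) (n : N),
        (θ : N → ℂ) ⟨g * n * g⁻¹, hN.conj_mem (n : G) n.2 g⟩ = (θ : N → ℂ) n := by
      intro g n
      have hgI : g ∈ CharTwist.inertia N (θ : N → ℂ) := by
        have hle : N ⊔ (P : Subgroup G) ≤ CharTwist.inertia N (θ : N → ℂ) :=
          sup_le (CharTwist.le_inertia N (Char.IsIrrCharacter.isClassFunction θ.2))
            fun x hx => funext fun m => hθP x hx m
        exact hle (hNP ▸ Subgroup.mem_top g)
      exact congrFun hgI n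
    have hcop : Nat.Coprime N.index
        (detOrder (θ : N → ℂ) * charDegree (θ : N → ℂ)) := by
      rw [hb]
      refine Nat.Coprime.pow_left b (hp.coprime_iff_not_dvd.2 fun hd => ?_)
      refine (hp.dvd_mul.1 hd).elim (fun hd' => ?_) hθd
      obtain ⟨δ, hδ⟩ := CharDeep.Extend.exists_det_hom N (θ : N → ℂ) θ.2
      rw [detOrder, hδ, CharDeep.Lin.orderOf_coe] at hd'
      obtain ⟨a, n', hn', hcard⟩ := Nat.exists_eq_pow_mul_and_not_dvd
        (Nat.card_pos (α := N)).ne' p hp.ne_one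
      refine hn' (hd'.trans (orderOf_dvd_of_pow_eq_one (MonoidHom.ext fun x => ?_)))
      have hle : pResidual p N ≤ (δ ^ n').ker := by
        rw [pResidual, Subgroup.closure_le]
        intro y hy
        rw [SetLike.mem_coe, MonoidHom.mem_ker, MonoidHom.pow_apply, ← map_pow]
        have hdvd : orderOf y ∣ n' := by
          refine (Nat.Coprime.dvd_mul_left (Nat.Coprime.pow_right a hy)).1 ?_
          rw [← hcard]
          exact orderOf_dvd_natCard _
        rw [orderOf_dvd_iff_pow_eq_one.1 hdvd, map_one]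
      rw [Transfer.pResidual_pResidual] at hle
      simpa using hle (Subgroup.mem_top x)
    obtain ⟨η, ⟨hη, hηN, hηd⟩, -⟩ := Cfsg.Agent.S0867.result N (θ : N → ℂ) θ.2 hinv
      (charDegree (θ : N → ℂ)) (deg_cast θ).symm hcop
    refine ⟨⟨η, hη⟩, hηN, fun hθk g => ?_⟩
    obtain ⟨l, hlN, hl⟩ := CharDeep.Gal.exists_linear_of_res_eq N hη
      (CharGalois.isIrrCharacter_powMap hk hη)
      (by rw [show (fun n : N => η n) = (θ : N → ℂ) from funext hηN]; exact θ.2)
      (fun n => by rw [← Subgroup.coe_pow, hηN, hηN, hθk])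
    obtain ⟨m, ρ, hρ, hρc⟩ := id hη
    have hm : m = charDegree (θ : N → ℂ) := by
      have h1 := deg_cast θ
      rw [← hηN 1, Subgroup.coe_one, ← hρc, Representation.char_one] at h1
      exact_mod_cast (show (m : ℂ) = (charDegree (θ : N → ℂ) : ℂ) by simpa using h1.symm)
    let D : G →* ℂˣ := MonoidHom.toHomUnits ((LinearMap.det).comp ρ)
    have hD : orderOf D = detOrder (θ : N → ℂ) := by
      rw [← hηd, detOrder, ← hρc, CharDeep.Cover.detChar_eq, ← CharDeep.Lin.orderOf_coe]
      rfl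
    have hlP : ∀ v ∈ (P : Subgroup G), l v = 1 := by
      intro v hv
      obtain ⟨j, hj⟩ := hPel v hv
      have hDv : D v = 1 := by
        have h1 : D v ^ orderOf v = 1 := by rw [← map_pow, pow_orderOf_eq_one, map_one]
        have h2 : D v ^ orderOf D = 1 := by
          rw [← MonoidHom.pow_apply, pow_orderOf_eq_one, MonoidHom.one_apply]
        have hco : Nat.gcd (orderOf v) (orderOf D) = 1 := by
          rw [hj, hD]
          exact Nat.Coprime.pow_left j (hp.coprime_iff_not_dvd.2 fun h => by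
            have := hcop.coprime_mul_right_right
            rw [hb] at this
            have hb' : b ≠ 0 := fun h0 => hnt (Subgroup.index_eq_one.1 (by rw [hb, h0, pow_zero]))
            exact hp.ne_one (Nat.eq_one_of_dvd_coprimes this (dvd_pow_self p hb') h))
        have h3 := pow_gcd_eq_one.2 ⟨h1, h2⟩
        rwa [hco, pow_one] at h3
      have hdet := twist_pow_det ρ l k (fun g => by rw [hρc]; exact congrFun hl g) v
      have hDk : LinearMap.det (ρ (v ^ k)) = 1 := by
        show ((D (v ^ k) : ℂˣ) : ℂ) = 1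
        rw [map_pow, hDv, one_pow, Units.val_one]
      rw [hDk, show LinearMap.det (ρ v) = ((D v : ℂˣ) : ℂ) from rfl, hDv, Units.val_one,
        mul_one] at hdet
      have h1 : l v ^ m = 1 := Units.ext (by rw [Units.val_pow_eq_pow_val, Units.val_one, ← hdet])
      have h2 : l v ^ orderOf v = 1 := by rw [← map_pow, pow_orderOf_eq_one, map_one]
      have hco : Nat.gcd m (orderOf v) = 1 := by
        rw [hj, hm]
        exact Nat.Coprime.pow_right j (hp.coprime_iff_not_dvd.2 hθd).symm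
      have h3 := pow_gcd_eq_one.2 ⟨h1, h2⟩
      rwa [hco, pow_one] at h3
    have hl1 : l g = 1 := by
      have hle : N ⊔ (P : Subgroup G) ≤ l.ker :=
        sup_le (fun x hx => hlN ⟨x, hx⟩) fun x hx => hlP x hx
      exact hle (hNP ▸ Subgroup.mem_top g)
    show η (g ^ k) = η g
    rw [congrFun hl g, hl1, Units.val_one, one_mul]
  choose η hηN hηk using hcanon
  let twist : ((G ⧸ N) →* ℂˣ) → IrrCharacter G → IrrCharacter G := fun l χ =>
    ⟨fun g => ((l.comp (QuotientGroup.mk' N)) g : ℂ) * (χ : G → ℂ) g,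
      Char.IsIrrCharacter.linear_mul χ.2 _⟩
  have hres : ∀ (l : (G ⧸ N) →* ℂˣ) (χ : IrrCharacter G) (n : N),
      (twist l χ : G → ℂ) n = (χ : G → ℂ) n := by
    intro l χ n
    show ((l (QuotientGroup.mk' N (n : G))) : ℂ) * _ = _
    rw [show QuotientGroup.mk' N (n : G) = 1 from (QuotientGroup.eq_one_iff _).2 n.2, map_one,
      Units.val_one, one_mul]
  have hinj : ∀ (χ : IrrCharacter G) (θ : IrrCharacter N),
      (∀ n : N, (χ : G → ℂ) n = (θ : N → ℂ) n) →
      ∀ l l' : (G ⧸ N) →* ℂˣ, twist l χ = twist l' χ → l = l' := by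
    intro χ θ h l l' hll
    have hN' : Cfsg.IsIrrCharacter N (fun n : N => (χ : G → ℂ) n) := by
      rw [show (fun n : N => (χ : G → ℂ) n) = (θ : N → ℂ) from funext h]; exact θ.2
    obtain ⟨-, h2, -⟩ := CharDeep.Gal.quotient_bijection N χ.2 hN'
    have := h2 _ _ (Char.isIrrCharacter_linear l) (Char.isIrrCharacter_linear l')
      (congrArg Subtype.val hll)
    exact MonoidHom.ext fun x => Units.ext (congrFun this x)
  have hpowtwist : ∀ (l : (G ⧸ N) →* ℂˣ) (g : G),
      (l.comp (QuotientGroup.mk' N)) (g ^ k) = (l.comp (QuotientGroup.mk' N)) g ^ (1 + p) :=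
    fun l => hlk _ fun n => by
      rw [MonoidHom.comp_apply,
        show QuotientGroup.mk' N (n : G) = 1 from (QuotientGroup.eq_one_iff _).2 n.2, map_one]
  have hdeg : ∀ (χ : IrrCharacter G) (θ : IrrCharacter N),
      (∀ n : N, (χ : G → ℂ) n = (θ : N → ℂ) n) →
      charDegree (χ : G → ℂ) = charDegree (θ : N → ℂ) := fun χ θ h => by
    apply Nat.cast_injective (R := ℂ)
    rw [deg_cast, deg_cast, ← h 1, Subgroup.coe_one]
  rw [show p * _ = Nat.card {l : (G ⧸ N) →* ℂˣ // l ^ p = 1} * _ from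
    congrArg (· * _) (card_hom_pow_eq_one hcyc hb0).symm, ← Nat.card_prod]
  refine (Nat.card_congr (Equiv.ofBijective
    (fun x : {l : (G ⧸ N) →* ℂˣ // l ^ p = 1} ×
        {θ : IrrCharacter N // θ ∈ principalBlock M N ∧ ¬ p ∣ charDegree (θ : N → ℂ) ∧
          (∀ y ∈ (P : Subgroup G), ∀ n : N,
            (θ : N → ℂ) ⟨y * n * y⁻¹, hN.conj_mem n n.2 y⟩ = (θ : N → ℂ) n) ∧
          ∀ n : N, (θ : N → ℂ) (n ^ k) = (θ : N → ℂ) n} =>
      (⟨twist x.1.1 (η x.2.1 x.2.2.2.1 x.2.2.2.2.1),
        (hblock _ _ fun n => (hres _ _ n).trans (hηN _ _ _ n)).2 x.2.2.1,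
        by rw [hdeg _ _ fun n => (hres _ _ n).trans (hηN _ _ _ n)]; exact x.2.2.2.1,
        fun g => by
          show ((x.1.1.comp (QuotientGroup.mk' N)) (g ^ k) : ℂ) * _ = _
          rw [hpowtwist, hηk _ _ _ x.2.2.2.2.2]
          have := DFunLike.congr_fun x.1.2 (QuotientGroup.mk' N g)
          rw [MonoidHom.pow_apply, MonoidHom.one_apply] at this
          rw [pow_add, pow_one, MonoidHom.comp_apply, this, mul_one]
          rfl⟩ :
        {χ : IrrCharacter G // χ ∈ principalBlock M G ∧ ¬ p ∣ charDegree (χ : G → ℂ) ∧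
          ∀ g : G, (χ : G → ℂ) (g ^ k) = (χ : G → ℂ) g})) ⟨?_, ?_⟩)).symm
  · rintro ⟨l, θ⟩ ⟨l', θ'⟩ h
    have h' := congrArg Subtype.val h
    simp only at h'
    have hθ : θ = θ' := Subtype.ext (Subtype.ext (funext fun n => by
      rw [← hηN θ.1 θ.2.2.1 θ.2.2.2.1 n, ← hres l.1, h', hres, hηN]))
    subst hθ
    rw [Subtype.ext (hinj _ _ (hηN θ.1 θ.2.2.1 θ.2.2.2.1) _ _ h')]
  · rintro ⟨χ, hχB, hχd, hχk⟩
    obtain ⟨θ, hθ, hθc⟩ := Clifford.exists_constituent_res N χ.2
    set Θ : IrrCharacter N := ⟨θ, hθ⟩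
    have hclN := CharTwist.le_inertia N (Char.IsIrrCharacter.isClassFunction hθ)
    obtain ⟨c, hc⟩ := Char.IsCharacter.exists_nat_classInner
      (Clifford.isCharacter_res (Char.IsIrrCharacter.isCharacter χ.2) N) hθ
    have hmul : (charDegree (χ : G → ℂ) : ℂ) =
        ((c * (CharTwist.inertia N θ).index * charDegree θ : ℕ) : ℂ) := by
      rw [deg_cast, Clifford.apply_one_eq N χ.2 hθ hθc, hc]
      push_cast
      rw [show (charDegree θ : ℂ) = θ 1 from deg_cast Θ]
    have hmul' : charDegree (χ : G → ℂ) = c * (CharTwist.inertia N θ).index * charDegree θ :=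
      Nat.cast_injective hmul
    have htop : (CharTwist.inertia N θ).index = 1 := by
      obtain ⟨i, -, hi⟩ := (Nat.dvd_prime_pow hp).1 (hb ▸ Subgroup.index_dvd_of_le hclN)
      rcases i with - | i
      · simpa using hi
      · exact absurd ((dvd_mul_of_dvd_right (hi ▸ dvd_pow_self p i.succ_ne_zero) c).mul_right _)
          (hmul' ▸ hχd)
    have hθd : ¬ p ∣ charDegree θ := fun h => hχd (hmul' ▸ h.mul_left _)
    have hθP : ∀ x ∈ (P : Subgroup G), ∀ n : N, θ ⟨x * n * x⁻¹, hN.conj_mem n n.2 x⟩ = θ n :=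
      fun x _ n => congrFun (show x ∈ CharTwist.inertia N θ from
        (Subgroup.index_eq_one.1 htop).symm ▸ Subgroup.mem_top x) n
    have hN' : Cfsg.IsIrrCharacter N (fun n : N => (η Θ hθd hθP : G → ℂ) n) := by
      rw [show (fun n : N => (η Θ hθd hθP : G → ℂ) n) = θ from funext (hηN Θ hθd hθP)]; exact hθ
    obtain ⟨-, -, h3⟩ := CharDeep.Gal.quotient_bijection N (η Θ hθd hθP).2 hN'
    obtain ⟨β, hβ, hβχ⟩ := h3 (χ : G → ℂ) χ.2 (by
      rw [show (fun n : N => (η Θ hθd hθP : G → ℂ) n) = θ from funext (hηN Θ hθd hθP)]; exact hθc)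
    set Β : IrrCharacter (G ⧸ N) := ⟨β, hβ⟩
    have hprod : charDegree (χ : G → ℂ) = charDegree β * charDegree θ := by
      apply Nat.cast_injective (R := ℂ)
      push_cast
      rw [deg_cast, show (charDegree β : ℂ) = β 1 from deg_cast Β,
        show (charDegree θ : ℂ) = (Θ : N → ℂ) 1 from deg_cast Θ, ← hβχ, ← hηN Θ hθd hθP 1]
      simp only [Pi.mul_apply, Function.comp_apply, map_one, Subgroup.coe_one]
    have hβ1 : charDegree β = 1 := by
      have hd := deg_dvd_card Β
      rw [← Subgroup.index_eq_card, hb] at hd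
      obtain ⟨i, -, hi⟩ := (Nat.dvd_prime_pow hp).1 hd
      rcases i with - | i
      · simpa using hi
      · exact absurd ((hi ▸ dvd_pow_self p i.succ_ne_zero).mul_right _) (hprod ▸ hχd)
    obtain ⟨f, hf⟩ := Char.IsCharacter.exists_linear (Char.IsIrrCharacter.isCharacter hβ)
      (by rw [← show (charDegree β : ℂ) = β 1 from deg_cast Β, hβ1, Nat.cast_one])
    have htw : twist f (η Θ hθd hθP) = χ := Subtype.ext (funext fun g => by
      rw [← hβχ]
      show _ = β (QuotientGroup.mk' N g) * _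
      rw [hf]; rfl)
    have hθk : ∀ n : N, θ (n ^ k) = θ n := by
      intro n
      have := hχk (n : G)
      rw [← htw, ← Subgroup.coe_pow, hres, hres, hηN, hηN] at this
      exact this
    have hfp : f ^ p = 1 := by
      have h1 : twist (f ^ (1 + p)) (η Θ hθd hθP) = twist f (η Θ hθd hθP) := by
        refine Subtype.ext (funext fun g => ?_)
        have := hχk g
        rw [← htw] at this
        show (((f ^ (1 + p)).comp (QuotientGroup.mk' N)) g : ℂ) * _ = _
        refine Eq.trans ?_ this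
        show _ = ((f.comp (QuotientGroup.mk' N)) (g ^ k) : ℂ) * _
        rw [hpowtwist, hηk Θ hθd hθP hθk]
        rfl
      have h2 := hinj _ _ (hηN Θ hθd hθP) _ _ h1
      refine MonoidHom.ext fun x => ?_
      have := DFunLike.congr_fun h2 x
      rw [MonoidHom.pow_apply, pow_add, pow_one] at this
      rw [MonoidHom.pow_apply, MonoidHom.one_apply]
      exact mul_eq_left.1 this
    exact ⟨(⟨f, hfp⟩, ⟨Θ, (hblock χ Θ (fun n => by rw [← htw, hres, hηN])).1 hχB, hθd, hθP, hθk⟩),
      Subtype.ext htw⟩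

end Cfsg.Agent.S4553
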