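import Cfsg.Statements.S4560
import Cfsg.Agent.Lib.BlockPrincipal.SmallSymmetricChars
import Mathlib.GroupTheory.Perm.Cycle.Type

set_option autoImplicit false
open Cfsg

namespace Cfsg.Agent.S4560

open Cfsg CfsgLib CfsgLib.SmallSym Equiv Finset
open scoped Classical

theorem twoSet_eq_empty {n : ℕ} (g : Perm (Fin n)) (h : 2 ∉ g.cycleType) :
    twoSet (n := n) g = ∅ := by
  rw [eq_empty_iff_forall_notMem]
  intro a ha
  obtain ⟨h1, h2⟩ := (mem_filter.1 ha).2
  apply h
  have hmem : g.cycleOf a ∈ g.cycleFactorsFinset :=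
    Perm.cycleOf_mem_cycleFactorsFinset_iff.2 (Perm.mem_support.2 h2)
  have hc : (g.cycleOf a).IsCycle := Perm.isCycle_cycleOf g h2
  have hmoved : (g.cycleOf a) a ≠ a := by rw [Perm.cycleOf_apply_self]; exact h2
  have hsq : (g.cycleOf a) ^ 2 = 1 := by
    refine hc.pow_eq_one_iff.2 ⟨a, hmoved, ?_⟩
    rw [Perm.cycleOf_pow_apply_self, sq]
    exact h1
  have hle : orderOf (g.cycleOf a) ∣ 2 := orderOf_dvd_of_pow_eq_one hsq
  have hne : orderOf (g.cycleOf a) ≠ 1 := fun h => hmoved (by rw [orderOf_eq_one_iff.1 h]; rfl)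
  have hcard : (g.cycleOf a).support.card = 2 := by
    rw [← hc.orderOf]
    exact ((Nat.dvd_prime Nat.prime_two).1 hle).resolve_left hne
  rw [Perm.cycleType_def, Multiset.mem_map]
  exact ⟨_, hmem, hcard⟩

theorem exists_cycles {n : ℕ} (m : Multiset ℕ) (hm : m.sum ≤ n) (h3 : ∀ a ∈ m, 3 ≤ a) :
    ∃ g : Perm (Fin n), g.cycleType = m ∧ (fixSet (n := n) g).card = n - m.sum ∧
      (twoSet (n := n) g).card = 0 ∧ Perm.sign g = (-1) ^ (m.sum + Multiset.card m) := by
  obtain ⟨g, hg⟩ := (Perm.exists_with_cycleType_iff (α := Fin n) (m := m)).2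
    ⟨by rwa [Fintype.card_fin], fun a ha => by have := h3 a ha; omega⟩
  refine ⟨g, hg, ?_, ?_, ?_⟩
  · have hs : fixSet (n := n) g = g.supportᶜ := by
      ext a
      simp [fixSet]
    rw [hs, card_compl, ← Perm.sum_cycleType, hg, Fintype.card_fin]
  · rw [twoSet_eq_empty g (fun h => by have := h3 2 (hg ▸ h); omega), card_empty]
  · rw [Perm.sign_of_cycleType, hg]

/-- Adjoin a transposition on two fixed points. -/
theorem exists_mul_swap {n : ℕ} (g : Perm (Fin n)) (h2 : (twoSet (n := n) g).card = 0)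
    (hf : 2 ≤ (fixSet (n := n) g).card) :
    ∃ h : Perm (Fin n), (twoSet (n := n) h).card = 2 ∧
      (fixSet (n := n) h).card + 2 = (fixSet (n := n) g).card ∧
      Perm.sign h = -Perm.sign g ∧ ∀ j, g ^ j = 1 → Even j → h ^ j = 1 := by
  obtain ⟨a, ha, b, hb, hab⟩ := one_lt_card.1 (by omega : 1 < (fixSet (n := n) g).card)
  have hga : g a = a := (mem_filter.1 ha).2
  have hgb : g b = b := (mem_filter.1 hb).2
  set h := g * swap a b with hh
  have hha : h a = b := by rw [hh, Perm.mul_apply, swap_apply_left, hgb]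
  have hhb : h b = a := by rw [hh, Perm.mul_apply, swap_apply_right, hga]
  have hrest : ∀ x, x ≠ a → x ≠ b → h x = g x := fun x h1 h2 => by
    rw [hh, Perm.mul_apply, swap_apply_of_ne_of_ne h1 h2]
  have hstay : ∀ x, x ≠ a → x ≠ b → g x ≠ a ∧ g x ≠ b := fun x h1 h2 =>
    ⟨fun e => h1 (g.injective (e.trans hga.symm)), fun e => h2 (g.injective (e.trans hgb.symm))⟩
  have hT : twoSet (n := n) h = {a, b} := by
    ext x
    simp only [twoSet, mem_filter, mem_univ, true_and, mem_insert, mem_singleton]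
    show (h (h x) = x ∧ h x ≠ x) ↔ _
    constructor
    · intro hx
      by_contra hne
      push Not at hne
      obtain ⟨k1, k2⟩ := hstay x hne.1 hne.2
      rw [hrest x hne.1 hne.2, hrest _ k1 k2] at hx
      have : x ∈ twoSet (n := n) g := mem_filter.2 ⟨mem_univ _, hx⟩
      rw [card_eq_zero.1 h2] at this
      exact notMem_empty _ this
    · rintro (rfl | rfl)
      · exact ⟨by rw [hha, hhb], by rw [hha]; exact hab.symm⟩
      · exact ⟨by rw [hhb, hha], by rw [hhb]; exact hab⟩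
  have hF : fixSet (n := n) h = fixSet (n := n) g \ {a, b} := by
    ext x
    simp only [fixSet, mem_filter, mem_univ, true_and, mem_sdiff, mem_insert, mem_singleton]
    show h x = x ↔ g x = x ∧ _
    constructor
    · intro hx
      have h1 : x ≠ a := fun e => hab (by rw [e, hha] at hx; exact hx.symm)
      have h2 : x ≠ b := fun e => hab (by rw [e, hhb] at hx; exact hx)
      exact ⟨by rw [← hrest x h1 h2]; exact hx, by simp [h1, h2]⟩
    · rintro ⟨hx, hne⟩
      push Not at hne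
      rw [hrest x hne.1 hne.2, hx]
  refine ⟨h, by rw [hT, card_pair hab], ?_, ?_, fun j hj he => ?_⟩
  · rw [hF, card_sdiff_of_subset (insert_subset ha (singleton_subset_iff.2 hb)), card_pair hab]
    omega
  · rw [hh, map_mul, Perm.sign_swap hab, mul_neg, mul_one]
  · have hc : Commute g (swap a b) := by
      refine Equiv.ext fun x => ?_
      rw [Perm.mul_apply, Perm.mul_apply]
      by_cases h1 : x = a
      · rw [h1, swap_apply_left, hga, swap_apply_left, hgb]
      by_cases h2 : x = b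
      · rw [h2, swap_apply_right, hgb, swap_apply_right, hga]
      rw [swap_apply_of_ne_of_ne h1 h2, swap_apply_of_ne_of_ne (hstay x h1 h2).1 (hstay x h1 h2).2]
    rw [hh, hc.mul_pow, hj, one_mul]
    obtain ⟨i, rfl⟩ := he
    rw [← two_mul, pow_mul, sq, swap_mul_self, one_pow]

/-- Four-cycles, possibly with one eight-cycle, covering `4 k` points with prescribed parity. -/
theorem exists_two_power {n : ℕ} (k ε : ℕ) (h4 : 4 * k ≤ n) (hk : 2 ≤ k) :
    ∃ g : Perm (Fin n), (fixSet (n := n) g).card = n - 4 * k ∧ (twoSet (n := n) g).card = 0 ∧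
      g ^ 8 = 1 ∧ Perm.sign g = (-1) ^ ε := by
  have hm : ∃ m : Multiset ℕ, m.sum = 4 * k ∧ (∀ a ∈ m, a = 4 ∨ a = 8) ∧
      (Multiset.card m) % 2 = ε % 2 := by
    rcases Nat.mod_two_eq_zero_or_one (k + ε) with h | h
    · exact ⟨Multiset.replicate k 4, by rw [Multiset.sum_replicate, smul_eq_mul, mul_comm],
        fun a ha => Or.inl (Multiset.eq_of_mem_replicate ha), by rw [Multiset.card_replicate]; omega⟩
    · exact ⟨8 ::ₘ Multiset.replicate (k - 2) 4,
        by rw [Multiset.sum_cons, Multiset.sum_replicate, smul_eq_mul]; omega,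
        fun a ha => (Multiset.mem_cons.1 ha).elim Or.inr fun h => Or.inl (Multiset.eq_of_mem_replicate h),
        by rw [Multiset.card_cons, Multiset.card_replicate]; omega⟩
  obtain ⟨m, hsum, hmem, hpar⟩ := hm
  obtain ⟨g, hg, hf, ht, hs⟩ := exists_cycles (n := n) m (by omega) fun a ha => by
    rcases hmem a ha with rfl | rfl <;> norm_num
  refine ⟨g, by rw [hf, hsum], ht, ?_, ?_⟩
  · refine orderOf_dvd_iff_pow_eq_one.1 ?_
    rw [← Perm.lcm_cycleType, hg, Multiset.lcm_dvd]
    intro a ha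
    rcases hmem a ha with rfl | rfl <;> norm_num
  · rw [hs, hsum]
    refine Units.ext ?_
    push_cast
    rw [neg_one_pow_eq_pow_mod_two]
    conv_rhs => rw [neg_one_pow_eq_pow_mod_two]
    congr 1
    omega

theorem orderOf_two_pow {n : ℕ} (x : alternatingGroup (Fin n))
    (h : (x : Perm (Fin n)) ^ 8 = 1) : ∃ j, orderOf x = 2 ^ j := by
  have h' : x ^ (2 ^ 3) = 1 := Subtype.ext h
  obtain ⟨j, -, hj⟩ := (Nat.dvd_prime_pow Nat.prime_two).1 (orderOf_dvd_of_pow_eq_one h')
  exact ⟨j, hj⟩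


/-- For n ≥ 7 the alternating group on n letters has an irreducible character that vanishes at some 2-element and is the restriction of an irreducible character of the symmetric group, and an irreducible character that vanishes at some element of order 3 and is the restriction of an irreducible character of the symmetric group. -/
theorem result (n : ℕ) (hn : 7 ≤ n) : (∃ χ : Cfsg.IrrCharacter (alternatingGroup (Fin n)), (∃ x : alternatingGroup (Fin n), (∃ j : ℕ, orderOf x = 2 ^ j) ∧ (χ : alternatingGroup (Fin n) → ℂ) x = 0) ∧ ∃ ψ : Cfsg.IrrCharacter (Equiv.Perm (Fin n)), ∀ x : alternatingGroup (Fin n), (ψ : Equiv.Perm (Fin n) → ℂ) x = (χ : alternatingGroup (Fin n) → ℂ) x) ∧ (∃ χ : Cfsg.IrrCharacter (alternatingGroup (Fin n)), (∃ y : alternatingGroup (Fin n), orderOf y = 3 ∧ (χ : alternatingGroup (Fin n) → ℂ) y = 0) ∧ ∃ ψ : Cfsg.IrrCharacter (Equiv.Perm (Fin n)), ∀ x : alternatingGroup (Fin n), (ψ : Equiv.Perm (Fin n) → ℂ) x = (χ : alternatingGroup (Fin n) → ℂ)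 x) := by
  haveI h4S : MulAction.IsMultiplyPretransitive (Equiv.Perm (Fin n)) (Fin n) 4 :=
    Equiv.Perm.isMultiplyPretransitive (Fin n) 4
  haveI h4A : MulAction.IsMultiplyPretransitive (alternatingGroup (Fin n)) (Fin n) 4 := by
    haveI := alternatingGroup.isMultiplyPretransitive (Fin n)
    exact MulAction.isMultiplyPretransitive_of_le (n := Nat.card (Fin n) - 2)
      (by rw [Nat.card_fin]; omega) (Nat.sub_le _ _)
  obtain ⟨hS1, hS2⟩ := SmallSym.irreducible (G := Equiv.Perm (Fin n)) (n := n) (by omega)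
  obtain ⟨hA1, hA2⟩ := SmallSym.irreducible (G := alternatingGroup (Fin n)) (n := n) (by omega)
  let c1 : Cfsg.IrrCharacter (alternatingGroup (Fin n)) := ⟨_, hA1⟩
  let c2 : Cfsg.IrrCharacter (alternatingGroup (Fin n)) := ⟨_, hA2⟩
  have e1 : ∃ ψ : Cfsg.IrrCharacter (Equiv.Perm (Fin n)), ∀ x : alternatingGroup (Fin n),
      (ψ : Equiv.Perm (Fin n) → ℂ) x = (c1 : alternatingGroup (Fin n) → ℂ) x :=
    ⟨⟨_, hS1⟩, fun x => rfl⟩
  have e2 : ∃ ψ : Cfsg.IrrCharacter (Equiv.Perm (Fin n)), ∀ x : alternatingGroup (Fin n),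
      (ψ : Equiv.Perm (Fin n) → ℂ) x = (c2 : alternatingGroup (Fin n) → ℂ) x :=
    ⟨⟨_, hS2⟩, fun x => rfl⟩
  have v1 : ∀ (x : alternatingGroup (Fin n)) (f t : ℕ),
      (fixSet (n := n) (x : Equiv.Perm (Fin n))).card = f →
      (twoSet (n := n) (x : Equiv.Perm (Fin n))).card = t →
      ((f : ℂ) ^ 2 - 3 * f + t = 0) → (c1 : alternatingGroup (Fin n) → ℂ) x = 0 := by
    intro x f t hf ht h
    show chiTwoTwo n (x : Equiv.Perm (Fin n)) = 0
    rw [chiTwoTwo, hf, ht, h, zero_div]
  have v2 : ∀ (x : alternatingGroup (Fin n)) (f t : ℕ),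
      (fixSet (n := n) (x : Equiv.Perm (Fin n))).card = f →
      (twoSet (n := n) (x : Equiv.Perm (Fin n))).card = t →
      ((f : ℂ) ^ 2 - 3 * f + 2 - t = 0) → (c2 : alternatingGroup (Fin n) → ℂ) x = 0 := by
    intro x f t hf ht h
    show chiOneOne n (x : Equiv.Perm (Fin n)) = 0
    rw [chiOneOne, hf, ht, h, zero_div]
  refine ⟨?_, ?_⟩
  · rcases (by omega : n % 4 = 0 ∨ n % 4 = 1 ∨ n % 4 = 2 ∨ n % 4 = 3) with h | h | h | h
    · obtain ⟨g, hf, ht, h8, hs⟩ := exists_two_power (n := n) (n / 4) 0 (by omega) (by omega)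
      let x : alternatingGroup (Fin n) := ⟨g, by rw [Equiv.Perm.mem_alternatingGroup, hs, pow_zero]⟩
      exact ⟨c1, ⟨x, orderOf_two_pow x h8, v1 x 0 0 (by rw [show (x : Equiv.Perm (Fin n)) = g from rfl, hf]; omega) ht (by norm_num)⟩, e1⟩
    · obtain ⟨g, hf, ht, h8, hs⟩ := exists_two_power (n := n) (n / 4) 0 (by omega) (by omega)
      let x : alternatingGroup (Fin n) := ⟨g, by rw [Equiv.Perm.mem_alternatingGroup, hs, pow_zero]⟩
      exact ⟨c2, ⟨x, orderOf_two_pow x h8, v2 x 1 0 (by rw [show (x : Equiv.Perm (Fin n)) = g from rfl, hf]; omega) ht (by norm_num)⟩, e2⟩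
    all_goals
      by_cases hsmall : n = 7
      swap
      · obtain ⟨g, hf, ht, h8, hs⟩ := exists_two_power (n := n) (n / 4) 1 (by omega) (by omega)
        obtain ⟨k, hk2, hkf, hks, hk8⟩ := exists_mul_swap g ht (by omega)
        let x : alternatingGroup (Fin n) :=
          ⟨k, by rw [Equiv.Perm.mem_alternatingGroup, hks, hs, pow_one, neg_neg]⟩
        have hx8 := orderOf_two_pow x (hk8 8 h8 ⟨4, rfl⟩)
        first
          | exact ⟨c2, ⟨x, hx8, v2 x 0 2 (by rw [show (x : Equiv.Perm (Fin n)) = k from rfl]; omega) hk2 (by norm_num)⟩, e2⟩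
          | exact ⟨c1, ⟨x, hx8, v1 x 1 2 (by rw [show (x : Equiv.Perm (Fin n)) = k from rfl]; omega) hk2 (by norm_num)⟩, e1⟩
      · obtain ⟨g, hgt, hf, ht, hs⟩ := exists_cycles (n := n) ({4} : Multiset ℕ) (by simp; omega)
          (by simp)
        simp only [Multiset.sum_singleton, Multiset.card_singleton] at hf hs
        have h8 : g ^ 8 = 1 := by
          refine orderOf_dvd_iff_pow_eq_one.1 ?_
          rw [← Equiv.Perm.lcm_cycleType, hgt]
          simp
        obtain ⟨k, hk2, hkf, hks, hk8⟩ := exists_mul_swap g ht (by omega)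
        let x : alternatingGroup (Fin n) :=
          ⟨k, by rw [Equiv.Perm.mem_alternatingGroup, hks, hs]; norm_num⟩
        have hx8 := orderOf_two_pow x (hk8 8 h8 ⟨4, rfl⟩)
        exact ⟨c1, ⟨x, hx8, v1 x 1 2 (by rw [show (x : Equiv.Perm (Fin n)) = k from rfl]; omega) hk2 (by norm_num)⟩, e1⟩
  · obtain ⟨g, hg, hf, ht, hs⟩ := exists_cycles (n := n) (Multiset.replicate (n / 3) 3)
      (by rw [Multiset.sum_replicate, smul_eq_mul]; omega)
      (fun a ha => (Multiset.eq_of_mem_replicate ha).ge)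
    rw [Multiset.sum_replicate, smul_eq_mul] at hf hs
    rw [Multiset.card_replicate] at hs
    let x : alternatingGroup (Fin n) := ⟨g, by
      rw [Equiv.Perm.mem_alternatingGroup, hs]
      exact Even.neg_one_pow ⟨2 * (n / 3), by ring⟩⟩
    have hord : orderOf x = 3 := by
      haveI : Fact (Nat.Prime 3) := ⟨Nat.prime_three⟩
      rw [← Subgroup.orderOf_coe x]
      show orderOf g = 3
      refine orderOf_eq_prime ?_ ?_
      · refine orderOf_dvd_iff_pow_eq_one.1 ?_
        rw [← Equiv.Perm.lcm_cycleType, hg, Multiset.lcm_dvd]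
        exact fun a ha => (Multiset.eq_of_mem_replicate ha) ▸ dvd_rfl
      · intro h
        rw [h, Equiv.Perm.cycleType_one] at hg
        have h' := congrArg Multiset.card hg
        rw [Multiset.card_zero, Multiset.card_replicate] at h'
        omega
    rcases (by omega : n % 3 = 0 ∨ n % 3 = 1 ∨ n % 3 = 2) with h | h | h
    · exact ⟨c1, ⟨x, hord, v1 x 0 0 (by rw [show (x : Equiv.Perm (Fin n)) = g from rfl, hf]; omega) ht (by norm_num)⟩, e1⟩
    · exact ⟨c2, ⟨x, hord, v2 x 1 0 (by rw [show (x : Equiv.Perm (Fin n)) = g from rfl, hf]; omega) ht (by norm_num)⟩, e2⟩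
    · exact ⟨c2, ⟨x, hord, v2 x 2 0 (by rw [show (x : Equiv.Perm (Fin n)) = g from rfl, hf]; omega) ht (by norm_num)⟩, e2⟩

end Cfsg.Agent.S4560
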