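import Cfsg.Statements.S4561
import Cfsg.Agent.Lib.WreathEmbed.Basic
import Cfsg.Agent.Lib.Char.CentralOver
import Cfsg.Agent.Lib.Char.Orth
import Mathlib.GroupTheory.FiniteAbelian.Duality
import Mathlib.RingTheory.RootsOfUnity.AlgebraicallyClosed
import Mathlib.RingTheory.RootsOfUnity.Complex
import Mathlib.RingTheory.IntegralDomain
import Mathlib.GroupTheory.SemidirectProduct
import Mathlib.Algebra.Group.Hom.Instances
import Mathlib.Algebra.Squarefree.Basic
import Mathlib.LinearAlgebra.Trace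

set_option autoImplicit false
universe u
open Cfsg

namespace Cfsg.Agent.S4561

open scoped ComplexConjugate

/-- An orthogonal, translation-stable group of normalised phase functions on `Q`. -/
def Good (Q : Type u) [Group Q] [Fintype Q] (r : ℕ) (F₀ : Subgroup (Q → ℂˣ)) : Prop :=
  (∀ φ ∈ F₀, φ 1 = 1) ∧ (∀ φ ∈ F₀, ∀ x, φ x ^ r = 1) ∧ Nat.card F₀ = Nat.card Q ∧
    (∀ φ ∈ F₀, φ ≠ 1 → ∑ x, (φ x : ℂ) = 0) ∧
    ∀ φ ∈ F₀, ∀ q, (fun x => φ (q * x) * (φ q)⁻¹) ∈ F₀

/-- `G` embeds in a group with such functions. -/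
def Embeds (G : Type u) [Group G] [Finite G] : Prop :=
  ∀ r : ℕ, 0 < r → (∀ p : ℕ, p.Prime → p ∣ Nat.card G → p ∣ r) →
    ∃ (Q : Type u) (_ : Group Q) (_ : Fintype Q) (f : G →* Q) (F₀ : Subgroup (Q → ℂˣ)),
      Function.Injective f ∧ (∀ p : ℕ, p.Prime → p ∣ Nat.card Q → p ∣ Nat.card G) ∧ Good Q r F₀

theorem embeds_step (G : Type u) [Group G] [Finite G] (N : Subgroup G) [N.Normal] (p : ℕ)
    [Fact p.Prime] (f : G →* RegularWreathProduct N (Multiplicative (ZMod p)))
    (hf : Function.Injective f) (hcard : Nat.card G = Nat.card N * p) (hN : Embeds N) :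
    Embeds G := by
  classical
  intro r hr0 hr
  obtain ⟨Q, _, _, g, F₀, hg, hQp, h1, hroot, hF, hsum, hinv⟩ :=
    hN r hr0 fun q hq hd => hr q hq (hcard ▸ hd.mul_right p)
  have hp : p.Prime := Fact.out
  have hpr : p ∣ r := hr p hp (hcard ▸ dvd_mul_left p _)
  set C := Multiplicative (ZMod p) with hC
  have hcC : Nat.card C = p := by simp [hC]
  let W := RegularWreathProduct Q C
  have : Fintype W := Fintype.ofFinite W
  let Φ : (C → F₀) × (C →* ℂˣ) →* (W → ℂˣ) :=
    { toFun := fun a w => (∏ i, (a.1 i : Q → ℂˣ) (w.left i)) * a.2 w.right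
      map_one' := by funext w; simp
      map_mul' := fun a b => by
        funext w
        simp only [Prod.fst_mul, Prod.snd_mul, Pi.mul_apply, Subgroup.coe_mul, MonoidHom.mul_apply,
          Finset.prod_mul_distrib]
        exact mul_mul_mul_comm _ _ _ _ }
  have hΦ : Function.Injective Φ := by
    rw [injective_iff_map_eq_one]
    rintro ⟨a, ζ⟩ h
    have h' : ∀ w : W, (∏ i, (a i : Q → ℂˣ) (w.left i)) * ζ w.right = 1 := congrFun h
    refine Prod.ext ?_ ?_
    · funext i
      apply Subtype.ext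
      funext x
      have := h' ⟨Pi.mulSingle i x, 1⟩
      rw [map_one, mul_one, Finset.prod_eq_single i] at this
      · simpa using this
      · intro j _ hj
        simp [hj, h1 _ (a j).2]
      · simp
    · refine MonoidHom.ext fun c => ?_
      have := h' ⟨1, c⟩
      simpa [h1 _ (a _).2] using this
  refine ⟨W, inferInstance, inferInstance, (CfsgLib.WreathEmbed.mapLeft C g).comp f,
    MonoidHom.range (G := (C → F₀) × (C →* ℂˣ)) Φ,
    (CfsgLib.WreathEmbed.mapLeft_injective C g hg).comp hf, ?_, ?_, ?_, ?_, ?_, ?_⟩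
  · intro q hq hd
    rw [RegularWreathProduct.card, hcC] at hd
    rcases hq.dvd_mul.1 hd with hd | hd
    · exact hcard ▸ (hQp q hq (hq.dvd_of_dvd_pow hd)).mul_right p
    · exact hcard ▸ hd.mul_left _
  · rintro _ ⟨⟨a, ζ⟩, rfl⟩
    simp [Φ, h1 _ (a _).2]
  · rintro _ ⟨⟨a, ζ⟩, rfl⟩ w
    have hζ : ∀ c : C, ζ c ^ r = 1 := by
      intro c
      obtain ⟨t, ht⟩ := hpr
      have hcp : c ^ p = 1 := by
        have := pow_card_eq_one' (x := c)
        rwa [hcC] at this
      rw [← map_pow, ht, pow_mul, hcp, one_pow, map_one]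
    simp [Φ, mul_pow, ← Finset.prod_pow, hζ, hroot _ (a _).2]
  · rw [RegularWreathProduct.card, Nat.card_congr (MonoidHom.ofInjective hΦ).toEquiv.symm,
      Nat.card_prod, Nat.card_fun, hF, CommGroup.card_monoidHom_of_hasEnoughRootsOfUnity]
  · rintro _ ⟨⟨a, ζ⟩, rfl⟩ hne
    have hs : ∑ w : W, ((Φ (a, ζ) w : ℂˣ) : ℂ) =
        (∑ v : C → Q, ∏ i, (((a i : Q → ℂˣ) (v i) : ℂˣ) : ℂ)) * ∑ c : C, (ζ c : ℂ) := by
      rw [Finset.sum_mul_sum, ← Fintype.sum_prod_type']
      refine Fintype.sum_equiv (RegularWreathProduct.equivProd Q C) _ _ fun w => ?_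
      simp [Φ, RegularWreathProduct.equivProd]
    rw [hs]
    by_cases hz : ζ = 1
    · obtain ⟨i, hi⟩ : ∃ i, a i ≠ 1 := by
        by_contra hall
        apply hne
        have : a = 1 := funext fun i => not_not.1 fun h => hall ⟨i, h⟩
        rw [this, hz]
        exact map_one Φ
      rw [← Fintype.prod_sum (fun i x => (((a i : Q → ℂˣ) x : ℂˣ) : ℂ)), Finset.prod_eq_zero (Finset.mem_univ i), zero_mul]
      exact hsum _ (a i).2 fun h => hi (Subtype.ext h)
    · have h0 := sum_hom_units_eq_zero ((Units.coeHom ℂ).comp ζ) fun h => hz (MonoidHom.ext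
        fun c => Units.ext (by simpa using DFunLike.congr_fun h c))
      simp only [MonoidHom.coe_comp, Function.comp_apply, Units.coeHom_apply] at h0
      rw [h0, mul_zero]
  · rintro _ ⟨⟨a, ζ⟩, rfl⟩ q
    refine ⟨(fun j => ⟨fun x => (a (q.right * j) : Q → ℂˣ) (q.left (q.right * j) * x) *
      ((a (q.right * j) : Q → ℂˣ) (q.left (q.right * j)))⁻¹, hinv _ (a _).2 _⟩, ζ), ?_⟩
    funext w
    show (∏ j, ((a (q.right * j) : Q → ℂˣ) (q.left (q.right * j) * w.left j) *
        ((a (q.right * j) : Q → ℂˣ) (q.left (q.right * j)))⁻¹)) * ζ w.right =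
      (∏ i, (a i : Q → ℂˣ) (q.left i * w.left (q.right⁻¹ * i))) * ζ (q.right * w.right) *
        ((∏ i, (a i : Q → ℂˣ) (q.left i)) * ζ q.right)⁻¹
    rw [Finset.prod_mul_distrib, Finset.prod_inv_distrib,
      Fintype.prod_equiv (Equiv.mulLeft q.right)
        (fun j => (a (q.right * j) : Q → ℂˣ) (q.left (q.right * j) * w.left j))
        (fun i => (a i : Q → ℂˣ) (q.left i * w.left (q.right⁻¹ * i)))
        (fun j => by simp only [Equiv.coe_mulLeft]; rw [inv_mul_cancel_left]),
      Fintype.prod_equiv (Equiv.mulLeft q.right)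
        (fun j => (a (q.right * j) : Q → ℂˣ) (q.left (q.right * j)))
        (fun i => (a i : Q → ℂˣ) (q.left i)) (fun j => by simp), map_mul, mul_inv]
    calc _ = (∏ i, (a i : Q → ℂˣ) (q.left i * w.left (q.right⁻¹ * i))) *
          (∏ i, (a i : Q → ℂˣ) (q.left i))⁻¹ * (ζ w.right * (ζ q.right * (ζ q.right)⁻¹)) := by
          rw [mul_inv_cancel, mul_one]
      _ = _ := by ac_rfl

theorem embeds_solvable (G : Type u) [Group G] [Finite G] (hsolv : Group.IsSolvable G) :
    Embeds G := by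
  refine CfsgLib.WreathEmbed.solvable_induction (P := fun G _ _ => Embeds G) ?_ ?_ G hsolv
  · intro G _ _ _ r _ _
    have : Fintype G := Fintype.ofFinite G
    refine ⟨G, inferInstance, inferInstance, MonoidHom.id G, ⊥, Function.injective_id,
      fun p hp hd => hd, ?_, ?_, ?_, ?_, ?_⟩
    · intro φ hφ; simp [Subgroup.mem_bot.1 hφ]
    · intro φ hφ x; simp [Subgroup.mem_bot.1 hφ]
    · rw [Subgroup.card_bot, Nat.card_eq_one_iff_unique.2 ⟨inferInstance, inferInstance⟩]
    · intro φ hφ h; exact absurd (Subgroup.mem_bot.1 hφ) h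
    · intro φ hφ q; rw [Subgroup.mem_bot]; funext x; simp [Subgroup.mem_bot.1 hφ]
  · exact fun G _ _ N _ p _ _ f hf hc hN => embeds_step G N p f hf hc hN

theorem main (Q : Type u) [Group Q] [Fintype Q] (r : ℕ) [NeZero r] (F₀ : Subgroup (Q → ℂˣ))
    (hgood : Good Q r F₀) :
    ∃ (H : Type u) (_ : Group H) (_ : Finite H) (χ : Cfsg.IrrCharacter H),
      (∀ h : H, (χ : H → ℂ) h = (χ : H → ℂ) 1 → h = 1) ∧
      Cfsg.charDegree (χ : H → ℂ) ^ 2 = (Subgroup.center H).index ∧
      (∃ f : Q →* H ⧸ Subgroup.center H, Function.Injective f) ∧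
      Nat.card (Subgroup.center H) = r ∧ Nat.card H = r * Nat.card Q ^ 2 := by
  classical
  obtain ⟨h1, hroot, hF, hsum, hinv⟩ := hgood
  let Ψ : rootsOfUnity r ℂ × F₀ →* (Q → ℂˣ) :=
    { toFun := fun a x => (a.1 : ℂˣ) * (a.2 : Q → ℂˣ) x
      map_one' := by funext x; simp
      map_mul' := fun a b => by
        funext x
        simp only [Prod.fst_mul, Prod.snd_mul, Subgroup.coe_mul, Pi.mul_apply]
        exact mul_mul_mul_comm _ _ _ _ }
  have hΨ : Function.Injective Ψ := by
    rw [injective_iff_map_eq_one]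
    rintro ⟨c, φ⟩ h
    have h' : ∀ x, (c : ℂˣ) * (φ : Q → ℂˣ) x = 1 := congrFun h
    have hc : (c : ℂˣ) = 1 := by simpa [h1 _ φ.2] using h' 1
    refine Prod.ext (Subtype.ext hc) (Subtype.ext (funext fun x => ?_))
    simpa [hc] using h' x
  set F := Ψ.range with hFdef
  have hmove : ∀ (q : Q), ∀ f ∈ F, (fun x => f (q * x)) ∈ F := by
    rintro q _ ⟨⟨c, φ⟩, rfl⟩
    refine ⟨(⟨(c : ℂˣ) * (φ : Q → ℂˣ) q, ?_⟩,
      ⟨fun x => (φ : Q → ℂˣ) (q * x) * ((φ : Q → ℂˣ) q)⁻¹, hinv _ φ.2 q⟩), ?_⟩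
    · rw [mem_rootsOfUnity, mul_pow, (mem_rootsOfUnity r _).1 c.2, hroot _ φ.2, one_mul]
    · funext x
      show (c : ℂˣ) * (φ : Q → ℂˣ) q * ((φ : Q → ℂˣ) (q * x) * ((φ : Q → ℂˣ) q)⁻¹) =
        (c : ℂˣ) * (φ : Q → ℂˣ) (q * x)
      rw [mul_comm ((φ : Q → ℂˣ) (q * x)), ← mul_assoc, mul_assoc (c : ℂˣ), mul_inv_cancel,
        mul_one]
  let T : Q → F → F := fun q f => ⟨fun x => (f : Q → ℂˣ) (q⁻¹ * x), hmove _ _ f.2⟩
  let act : Q →* MulAut F :=
    { toFun := fun q =>
        { toFun := T q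
          invFun := T q⁻¹
          left_inv := fun f => by apply Subtype.ext; funext x; simp [T]
          right_inv := fun f => by apply Subtype.ext; funext x; simp [T]
          map_mul' := fun a b => rfl }
      map_one' := by
        apply MulEquiv.ext; intro f; apply Subtype.ext; funext x; simp [T]
      map_mul' := fun a b => by
        apply MulEquiv.ext; intro f; apply Subtype.ext; funext x; simp [T, mul_assoc] }
  let H := SemidirectProduct F Q act
  let e : rootsOfUnity r ℂ × F₀ ≃ F := (MonoidHom.ofInjective hΨ).toEquiv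
  have : Finite F₀ := Nat.finite_of_card_ne_zero (hF ▸ Nat.card_pos.ne')
  have : Fintype F₀ := Fintype.ofFinite F₀
  have : Finite (rootsOfUnity r ℂ) := Nat.finite_of_card_ne_zero (by rw [Complex.card_rootsOfUnity]; exact NeZero.ne r)
  have : Fintype (rootsOfUnity r ℂ) := Fintype.ofFinite _
  have : Fintype F := Fintype.ofEquiv _ e
  have : Fintype H := Fintype.ofEquiv _ SemidirectProduct.equivProd.symm
  have hcF : Nat.card F = r * Nat.card Q := by
    rw [Nat.card_congr e.symm, Nat.card_prod, hF, Complex.card_rootsOfUnity]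
  have hcH : Nat.card H = r * Nat.card Q ^ 2 := by
    rw [Nat.card_congr SemidirectProduct.equivProd, Nat.card_prod, hcF]; ring
  let ρ : Representation ℂ H (Q → ℂ) :=
    { toFun := fun h =>
        { toFun := fun v x => ((h.left : Q → ℂˣ) x : ℂ) * v (h.right⁻¹ * x)
          map_add' := fun a b => by funext x; simp [mul_add]
          map_smul' := fun c a => by funext x; simp [mul_left_comm] }
      map_one' := by
        apply LinearMap.ext; intro v; funext x; simp
      map_mul' := fun a b => by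
        apply LinearMap.ext; intro v; funext x
        show ((a.left : Q → ℂˣ) x * (b.left : Q → ℂˣ) (a.right⁻¹ * x) : ℂˣ) *
            v ((a.right * b.right)⁻¹ * x) =
          ((a.left : Q → ℂˣ) x : ℂ) *
            (((b.left : Q → ℂˣ) (a.right⁻¹ * x) : ℂ) * v (b.right⁻¹ * (a.right⁻¹ * x)))
        simp [mul_assoc] }
  set χ : H → ℂ := ρ.character with hχdef
  have hχ : ∀ h : H, χ h = if h.right = 1 then ∑ x, ((h.left : Q → ℂˣ) x : ℂ) else 0 := by
    intro h
    rw [hχdef, Representation.character, LinearMap.trace_eq_matrix_trace ℂ (Pi.basisFun ℂ Q),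
      Matrix.trace]
    simp only [Matrix.diag_apply, LinearMap.toMatrix_apply, Pi.basisFun_repr, Pi.basisFun_apply]
    split_ifs with hr
    · refine Finset.sum_congr rfl fun x _ => ?_
      simp [ρ, hr]
    · refine Finset.sum_eq_zero fun x _ => ?_
      have : h.right⁻¹ * x ≠ x := fun he => hr (inv_eq_one.1 (mul_eq_right.1 he))
      simp [ρ, this]
  have hval : ∀ a : rootsOfUnity r ℂ × F₀, ∑ x, (((e a : F) : Q → ℂˣ) x : ℂ) =
      if a.2 = 1 then ((a.1 : ℂˣ) : ℂ) * Nat.card Q else 0 := by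
    intro a
    show ∑ x, (((a.1 : ℂˣ) * (a.2 : Q → ℂˣ) x : ℂˣ) : ℂ) = _
    simp only [Units.val_mul, ← Finset.mul_sum]
    split_ifs with h
    · simp [h, Nat.card_eq_fintype_card]
    · rw [hsum _ a.2.2 fun h' => h (Subtype.ext h'), mul_zero]
  have hQ0 : (Nat.card Q : ℂ) ≠ 0 := Nat.cast_ne_zero.2 Nat.card_pos.ne'
  have hnorm : Cfsg.classInner χ χ = 1 := by
    rw [Cfsg.classInner, inv_mul_eq_one₀ (Nat.cast_ne_zero.2 Nat.card_pos.ne'), hcH,
      ← (SemidirectProduct.equivProd (φ := act)).symm.sum_comp, Fintype.sum_prod_type,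
      Finset.sum_comm, Finset.sum_eq_single 1 (fun q _ hq => Finset.sum_eq_zero fun f _ => by
        simp [hχ, SemidirectProduct.equivProd, hq]) (fun h => absurd (Finset.mem_univ _) h)]
    simp only [hχ, SemidirectProduct.equivProd, Equiv.coe_fn_symm_mk, if_true]
    rw [← e.sum_comp, Fintype.sum_prod_type]
    simp only [hval]
    have : ∀ c : rootsOfUnity r ℂ, ∑ φ : F₀, (if φ = 1 then ((c : ℂˣ) : ℂ) * Nat.card Q else 0) *
        conj (if φ = 1 then ((c : ℂˣ) : ℂ) * Nat.card Q else 0) = (Nat.card Q : ℂ) ^ 2 := by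
      intro c
      rw [Finset.sum_eq_single 1 (fun φ _ hφ => by simp [hφ]) (by simp)]
      have hc : (((c : ℂˣ) : ℂ)) ^ r = 1 := by
        rw [← Units.val_pow_eq_pow_val, (mem_rootsOfUnity r _).1 c.2, Units.val_one]
      have hn : ‖((c : ℂˣ) : ℂ)‖ = 1 := Complex.norm_eq_one_of_pow_eq_one hc (NeZero.ne r)
      simp only [if_true, map_mul, Complex.conj_natCast]
      rw [mul_mul_mul_comm, Complex.mul_conj', hn]
      push_cast; ring
    rw [Finset.sum_congr rfl fun c _ => this c, Finset.sum_const, Finset.card_univ,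
      ← Nat.card_eq_fintype_card, Complex.card_rootsOfUnity]
    simp
  have hdeg : χ 1 = Nat.card Q := by
    rw [hχ]; simp [Nat.card_eq_fintype_card]
  have hch : Cfsg.IsCharacter H χ := CfsgLib.Char.isCharacter_character ρ
  have hirr : Cfsg.IsIrrCharacter H χ :=
    CfsgLib.Char.IsCharacter.isIrrCharacter_of_classInner_self hch hnorm
  have hcdeg : Cfsg.charDegree χ = Nat.card Q := by
    unfold Cfsg.charDegree; rw [hdeg]; simp
  let ι : rootsOfUnity r ℂ → H := fun c => ⟨e (c, 1), 1⟩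
  have hιc : ∀ c, ι c ∈ Subgroup.center H := by
    intro c
    rw [Subgroup.mem_center_iff]
    intro h
    apply SemidirectProduct.ext
    · rw [SemidirectProduct.mul_left, SemidirectProduct.mul_left]
      show h.left * act h.right (e (c, 1)) = e (c, 1) * act 1 h.left
      rw [map_one, MulAut.one_apply]
      apply Subtype.ext
      funext x
      show (h.left : Q → ℂˣ) x * ((c : ℂˣ) * 1) = (c : ℂˣ) * 1 * (h.left : Q → ℂˣ) x
      simp [mul_comm]
    · show h.right * 1 = 1 * h.right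
      rw [mul_one, one_mul]
  have hconj : ∀ h : H, conj (χ h) = χ h⁻¹ := fun h =>
    (CfsgLib.Char.IsCharacter.apply_inv hch h).symm
  have hnz : ∀ h : H, χ h ≠ 0 → ∃ c, h = ι c ∧ χ h = ((c : ℂˣ) : ℂ) * Nat.card Q := by
    intro h h0
    rw [hχ] at h0
    obtain ⟨hr, h0'⟩ : h.right = 1 ∧ ∑ x, ((h.left : Q → ℂˣ) x : ℂ) ≠ 0 := by
      split_ifs at h0 with hr
      · exact ⟨hr, h0⟩
      · exact absurd rfl h0
    have hv := hval (e.symm h.left)
    rw [Equiv.apply_symm_apply] at hv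
    split_ifs at hv with h2
    · refine ⟨(e.symm h.left).1, SemidirectProduct.ext ?_ hr, by rw [hχ, if_pos hr, hv]⟩
      show h.left = e ((e.symm h.left).1, 1)
      rw [← h2, Prod.mk.eta, Equiv.apply_symm_apply]
    · exact absurd hv h0'
  have hcent : ∀ h : H, h ∈ Subgroup.center H ↔ ∃ c, h = ι c := by
    intro h
    refine ⟨fun hh => ?_, fun ⟨c, hc⟩ => hc ▸ hιc c⟩
    have h2 := CfsgLib.CharOver.apply_mul_central hirr hh h⁻¹
    rw [inv_mul_cancel, hdeg] at h2
    have h0 : χ h ≠ 0 := fun h0 => by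
      rw [h0, mul_zero] at h2; exact mul_ne_zero hQ0 hQ0 h2
    obtain ⟨c, hc, -⟩ := hnz h h0
    exact ⟨c, hc⟩
  have hcZ : Nat.card (Subgroup.center H) = r := by
    rw [← Complex.card_rootsOfUnity r]
    refine (Nat.card_congr (Equiv.ofBijective (fun c => (⟨ι c, hιc c⟩ : Subgroup.center H))
      ⟨fun a b h => ?_, fun z => ?_⟩)).symm
    · have h' := congrArg (fun z : Subgroup.center H => e.symm (z : H).left) h
      simpa [ι] using h'
    · obtain ⟨c, hc⟩ := (hcent z).1 z.2
      exact ⟨c, Subtype.ext hc.symm⟩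
  refine ⟨H, inferInstance, inferInstance, ⟨χ, hirr⟩, ?_, ?_,
    ⟨(QuotientGroup.mk' _).comp SemidirectProduct.inr, ?_⟩, hcZ, hcH⟩
  · intro h hh
    change χ h = χ 1 at hh
    rw [hdeg] at hh
    obtain ⟨c, hc, hv⟩ := hnz h (hh ▸ hQ0)
    rw [hv] at hh
    have hc1 : c = 1 := Subtype.ext (Units.ext (mul_eq_right₀ hQ0 |>.1 hh))
    rw [hc, hc1]
    apply SemidirectProduct.ext
    · show e (1, 1) = 1
      exact map_one (MonoidHom.ofInjective hΨ)
    · rfl
  · change Cfsg.charDegree χ ^ 2 = _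
    have := (Subgroup.center H).card_mul_index
    rw [hcZ, hcH] at this
    rw [hcdeg]
    exact Nat.eq_of_mul_eq_mul_left (NeZero.pos r) this.symm
  · rw [injective_iff_map_eq_one]
    intro q hq
    obtain ⟨c, hc⟩ := (hcent _).1 ((QuotientGroup.eq_one_iff _).1 hq)
    have h' := congrArg SemidirectProduct.right hc
    rw [SemidirectProduct.right_inr] at h'
    exact h'

/-- For every finite solvable group G there is a finite group H with a faithful irreducible character χ whose degree squared equals the index of the centre Z(H) (so χ is fully ramified over the centre), such that G is isomorphic to a subgroup of H/Z(H), the primes dividing the orders of H, of Z(H) and of G are the same, and the order of Z(H) is squarefree. -/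
theorem result {G : Type u} [Group G] [Finite G] (hsolv : Group.IsSolvable G) : ∃ (H : Type u) (_ : Group H) (_ : Finite H) (χ : Cfsg.IrrCharacter H), (∀ h : H, (χ : H → ℂ) h = (χ : H → ℂ) 1 → h = 1) ∧ (Cfsg.charDegree (χ : H → ℂ)) ^ 2 = (Subgroup.center H).index ∧ (∃ f : G →* H ⧸ Subgroup.center H, Function.Injective f) ∧ (∀ p : ℕ, p.Prime → ((p ∣ Nat.card H ↔ p ∣ Nat.card G) ∧ (p ∣ Nat.card (Subgroup.center H) ↔ p ∣ Nat.card G))) ∧ Squarefree (Nat.card (Subgroup.center H)) := by
  classical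
  set r := ∏ p ∈ (Nat.card G).primeFactors, p with hrdef
  have hmem : ∀ p : ℕ, p.Prime → (p ∣ r ↔ p ∣ Nat.card G) := by
    intro p hp
    rw [hrdef, hp.prime.dvd_finset_prod_iff]
    constructor
    · rintro ⟨q, hq, hd⟩
      have hq' := Nat.prime_of_mem_primeFactors hq
      rw [(Nat.prime_dvd_prime_iff_eq hp hq').1 hd]
      exact Nat.dvd_of_mem_primeFactors hq
    · intro hd
      exact ⟨p, Nat.mem_primeFactors.2 ⟨hp, hd, Nat.card_pos.ne'⟩, dvd_rfl⟩
  have hr0 : 0 < r := Finset.prod_pos fun p hp => (Nat.prime_of_mem_primeFactors hp).pos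
  have : NeZero r := ⟨hr0.ne'⟩
  obtain ⟨Q, _, _, f, F₀, hf, hQ, hgood⟩ :=
    embeds_solvable G hsolv r hr0 fun p hp hd => (hmem p hp).2 hd
  obtain ⟨H, _, _, χ, h1, h2, ⟨g, hg⟩, hZ, hH⟩ := main Q r F₀ hgood
  refine ⟨H, inferInstance, inferInstance, χ, h1, h2, ⟨g.comp f, hg.comp hf⟩,
    fun p hp => ⟨?_, ?_⟩, ?_⟩
  · rw [hH, hp.dvd_mul, hmem p hp]
    exact ⟨fun h => h.elim id fun h => hQ p hp (hp.dvd_of_dvd_pow h), Or.inl⟩
  · rw [hZ, hmem p hp]
  · rw [hZ, hrdef]
    refine Finset.squarefree_prod_of_pairwise_isCoprime (fun p hp q hq hpq => ?_)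
      (fun p hp => (Nat.prime_of_mem_primeFactors hp).squarefree)
    exact Nat.coprime_iff_isRelPrime.1 ((Nat.coprime_primes (Nat.prime_of_mem_primeFactors hp)
      (Nat.prime_of_mem_primeFactors hq)).2 hpq)

end Cfsg.Agent.S4561
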