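import Cfsg.Statements.S4563
import Cfsg.Agent.S0006
import Cfsg.Agent.Lib.Solvable.SmallOrder
import Cfsg.Agent.Lib.BlockPrincipal.FullyRamifiedComplement

set_option autoImplicit false
open Cfsg

namespace Cfsg.Agent.S4563

open Cfsg CfsgLib
open scoped Classical

universe u

/-- A constituent of a character inducing an irreducible one lies under it. -/
theorem constituent_below {H : Type u} [Group H] [Fintype H] (K : Subgroup H) [Fintype K]
    {φ : K → ℂ} (hφ : IsCharacter K φ) {χ : H → ℂ} (hχ : IsIrrCharacter H χ)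
    (hind : Cfsg.indFun K φ = χ) (κ : IrrCharacter K) (hκ : classInner φ (κ : K → ℂ) ≠ 0) :
    classInner (fun k : K => χ k) (κ : K → ℂ) ≠ 0 := by
  have hI : IsCharacter H (Cfsg.indFun K (κ : K → ℂ)) :=
    Char.IsCharacter.indFun K (Char.IsIrrCharacter.isCharacter κ.2)
  obtain ⟨ξ, hξ, hξc⟩ := Clifford.exists_constituent hI (by
    rw [Char.indFun_apply_one]
    exact mul_ne_zero (Nat.cast_ne_zero.2 Subgroup.index_ne_zero_of_finite)
      (Char.IsIrrCharacter.apply_one_ne_zero κ.2))
  choose f hf using fun ν : IrrCharacter K => Char.IsCharacter.exists_nat_classInner hφ ν.2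
  choose a ha using fun ν : IrrCharacter K => Char.IsCharacter.exists_nat_classInner
    (Char.IsCharacter.indFun (G := H) K (Char.IsIrrCharacter.isCharacter ν.2)) hξ
  have hχξ : classInner χ ξ = ((∑ ν, f ν * a ν : ℕ) : ℂ) := by
    conv_lhs => rw [← hind, Char.IsCharacter.eq_sum_classInner hφ, Char.indFun_sum]
    simp only [Char.indFun_smul, Char.classInner_sum_left, Char.classInner_smul_left, hf, ha]
    push_cast
    rfl
  have hne : classInner χ ξ ≠ 0 := by
    rw [hχξ, Nat.cast_ne_zero]
    intro h0
    rcases Nat.mul_eq_zero.1 ((Finset.sum_eq_zero_iff.1 h0) κ (Finset.mem_univ _)) with h | h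
    · exact hκ (by rw [hf, h, Nat.cast_zero])
    · exact hξc (by rw [ha, h, Nat.cast_zero])
  rw [← Char.eq_of_classInner_ne_zero hχ hξ hne,
    Char.classInner_indFun K _ _ (Char.IsIrrCharacter.isClassFunction hχ),
    ← Char.classInner_conj_symm, map_ne_zero] at hξc
  exact hξc


/-- Let χ be an irreducible character of the finite group H that is fully ramified over the normal subgroup Z: the restriction of χ to Z is e times an irreducible character of Z with e ^ 2 equal to the index of Z. If K is a proper normal subgroup of H containing Z and χ is induced from a character of K, then H/K is solvable; in particular, if K is solvable then so is H. -/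
theorem result {H : Type*} [Group H] [Fintype H] (Z : Subgroup H) [Z.Normal] (χ : Cfsg.IrrCharacter H) (hfr : ∃ (θ : Cfsg.IrrCharacter ↥Z) (e : ℕ), e ^ 2 = Z.index ∧ ∀ z : ↥Z, (χ : H → ℂ) z = (e : ℂ) * (θ : ↥Z → ℂ) z) (K : Subgroup H) [K.Normal] [Fintype K] (hZK : Z ≤ K) (hK : K ≠ ⊤) (φ : ↥K → ℂ) (hφ : Cfsg.IsCharacter ↥K φ) (hind : Cfsg.indFun K φ = (χ : H → ℂ)) : Group.IsSolvable (H ⧸ K) ∧ (Group.IsSolvable ↥K → Group.IsSolvable H) := by
  classical
  let _ := Fintype.ofFinite Z
  obtain ⟨θ, e, he, hres⟩ := hfr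
  obtain ⟨hinv, hoff⟩ := FullyRamified.invariant_and_vanish Z χ θ he hres
  have he0 : e ≠ 0 := by
    intro h
    exact Subgroup.index_ne_zero_of_finite (H := Z) (by rw [← he, h]; norm_num)
  have hχc := Char.IsIrrCharacter.isCharacter χ.2
  have hd : ∀ {A : Type _} [Group A] [Fintype A] (f : A → ℂ), IsIrrCharacter A f →
      f 1 = (Char.degree f : ℂ) := fun f hf =>
    (Char.IsCharacter.degree_cast (Char.IsIrrCharacter.isCharacter hf)).symm
  have hquot : Group.IsSolvable (H ⧸ K) := by
    refine Cfsg.Agent.S0006.result fun p hp => ?_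
    haveI : Fact p.Prime := ⟨hp⟩
    obtain ⟨M, hM, n, hn⟩ := FullyRamified.exists_hall Z θ.2 hχc he hres hoff hinv K hZK p (by
      intro G _ _ ι Z' W B _ _ _ _ _ hZB hBW θ' k s hθ' hinv' hres' hoff' hW hes hs hmem hdiv _
      have hZW : Z' ≤ W := hZB.trans hBW
      have hχG := CharTwist.isCharacter_comp hχc ι
      obtain ⟨η, hηc⟩ := FullyRamified.exists_below Z' B hZB hθ' hχG he0 hres'
      refine ⟨η, η.2, hηc, ?_⟩
      obtain ⟨c, hc⟩ := Char.IsCharacter.exists_nat_classInner
        (CharTwist.isCharacter_comp (Char.IsIrrCharacter.isCharacter η.2) (Subgroup.inclusion hZB)) hθ'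
      have hη1 : Char.degree (η : B → ℂ) = c * Char.degree θ' := by
        have h := congrFun (Clifford.res_eq_smul_of_fixed Z' B hZB hθ' (fun g _ => hinv' g) η.2 hηc) 1
        simp only [Pi.smul_apply, smul_eq_mul] at h
        rw [show classInner (fun n : Z' => (η : B → ℂ) ⟨n, hZB n.2⟩) θ' = c from hc, hd θ' hθ',
          show (η : B → ℂ) ⟨((1 : Z') : G), hZB (1 : Z').2⟩ = (η : B → ℂ) 1 from
            congrArg (η : B → ℂ) (Subtype.ext rfl), hd _ η.2] at h
        exact_mod_cast h
      obtain ⟨ψ, hψ, hψη, hψθ⟩ := FullyRamified.exists_over Z' W hZW hθ' B hZB hBW η.2 hηc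
      obtain ⟨m, hm⟩ := Char.IsCharacter.exists_nat_classInner
        (CharTwist.isCharacter_comp (Char.IsIrrCharacter.isCharacter hψ) (Subgroup.inclusion hBW)) η.2
      set I := CharTwist.inertia B (η : B → ℂ) with hI
      set t := I.relIndex W with ht
      have hψ1 : Char.degree ψ = m * t * Char.degree (η : B → ℂ) := by
        have h := CliffordOver.apply_one_eq B W hBW η.2 hψ hψη
        rw [show classInner (fun n : B => ψ ⟨n, hBW n.2⟩) (η : B → ℂ) = m from hm, hd ψ hψ,
          hd _ η.2] at h
        exact_mod_cast h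
      have hψ2 : Char.degree ψ = p ^ k * Char.degree θ' := by
        have h := (FullyRamified.degree_and_unique Z' W hZW hθ' hinv' hχG hres' hoff' hW hes hs
          hψ hψθ).1
        rw [hd ψ hψ, hd θ' hθ'] at h
        exact_mod_cast h
      have hθpos := Char.IsIrrCharacter.degree_pos hθ'
      have hmtc : m * t * c = p ^ k := Nat.eq_of_mul_eq_mul_right hθpos
        (by rw [mul_assoc (m * t), ← hη1, ← hψ1, hψ2])
      have hbound : m * (m * t) ≤ B.relIndex W := by
        haveI := Fintype.ofFinite (B.subgroupOf W)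
        have hdt : Char.degree (CliffordOver.trans B W hBW (η : B → ℂ)) = Char.degree (η : B → ℂ) := by
          rw [Char.degree, Char.degree, CliffordOver.trans, Function.comp_apply, map_one]
        have h := FullyRamified.sum_mult_degree_le (B.subgroupOf W)
          (CliffordOver.isIrrCharacter_trans B W hBW η.2) {⟨ψ, hψ⟩} (fun _ => m) (fun φ' hφ' => by
            rw [Finset.mem_singleton.1 hφ', CliffordOver.classInner_trans]; exact hm)
        rw [Finset.sum_singleton, hdt, hψ1, ← mul_assoc] at h
        exact Nat.le_of_mul_le_mul_right h (Char.IsIrrCharacter.degree_pos η.2)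
      -- the degree of `φ` is a multiple of the common degree over `θ'`
      let toK : B →* K := (ι.comp B.subtype).codRestrict K fun b => (hmem _ (hBW b.2)).1 b.2
      let fZ : Z' →* K := toK.comp (Subgroup.inclusion hZB)
      set ξ : B → ℂ := φ ∘ toK with hξ
      have hξc : IsCharacter B ξ := CharTwist.isCharacter_comp hφ toK
      have hconst : ∀ η' : IrrCharacter B, classInner ξ (η' : B → ℂ) ≠ 0 →
          (η' : B → ℂ) 1 = (η : B → ℂ) 1 := by
        intro η' hη'
        have hη'θ : classInner ((η' : B → ℂ) ∘ Subgroup.inclusion hZB) θ' ≠ 0 := by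
          intro h0
          obtain ⟨θ₂, hθ₂, hc₂⟩ := Clifford.exists_constituent
            (CharTwist.isCharacter_comp (Char.IsIrrCharacter.isCharacter η'.2) (Subgroup.inclusion hZB))
            (by rw [Function.comp_apply, map_one]; exact Char.IsIrrCharacter.apply_one_ne_zero η'.2)
          have h1 := FullyRamified.res_ne_zero hξc (Subgroup.inclusion hZB) hθ₂ η'.2 hη' hc₂
          obtain ⟨κ, hκ1, hκ2⟩ := FullyRamified.exists_of_res_ne_zero hφ fZ hθ₂ h1
          have h2 := FullyRamified.res_ne_zero (Clifford.isCharacter_res hχc K) fZ hθ₂ κ.2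
            (constituent_below K hφ χ.2 hind κ hκ1) hκ2
          rw [show (fun x : K => (χ : H → ℂ) x) ∘ fZ = (e : ℂ) • θ' from funext hres',
            Char.classInner_smul_left] at h2
          rw [← Char.eq_of_classInner_ne_zero hθ' hθ₂ (right_ne_zero_of_mul h2)] at hc₂
          exact hc₂ h0
        obtain ⟨a, -, ha⟩ := FullyRamified.exists_conj Z' W hZW hθ' hinv' hχG hres' hoff' hW hes hs
          B hZB hBW η.2 η'.2 hηc hη'θ
        rw [← ha]
        exact congrArg (η : B → ℂ) (Subtype.ext (by simp))
      choose nu hnu using fun η' : IrrCharacter B =>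
        Char.IsCharacter.exists_nat_classInner hξc η'.2
      have hφ1 : φ 1 = ((∑ η', nu η' : ℕ) : ℂ) * (η : B → ℂ) 1 := by
        have h := congrFun (Char.IsCharacter.eq_sum_classInner hξc) 1
        simp only [Finset.sum_apply, Pi.smul_apply, smul_eq_mul, hnu] at h
        simp only [hξ, Function.comp_apply, map_one] at h
        rw [h, Nat.cast_sum, Finset.sum_mul]
        refine Finset.sum_congr rfl fun η' _ => ?_
        by_cases h0 : nu η' = 0
        · rw [h0]; simp
        · rw [hconst η' (by rw [hnu]; exact Nat.cast_ne_zero.2 h0)]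
      have hNe : K.index * ((∑ η', nu η') * c) = e := by
        have h1 : (χ : H → ℂ) 1 = (e : ℂ) * θ' 1 := by
          have := hres' 1
          rwa [OneMemClass.coe_one, map_one] at this
        rw [← hind, Char.indFun_apply_one, hφ1, hd _ η.2, hη1, hd θ' hθ'] at h1
        refine Nat.eq_of_mul_eq_mul_right hθpos ?_
        have h1' : K.index * ((∑ η', nu η') * (c * Char.degree θ')) = e * Char.degree θ' := by
          exact_mod_cast h1
        rw [← h1']; ring
      set R := B.relIndex W with hR
      have hRdvd : R ∣ p ^ (2 * k) :=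
        hW ▸ Dvd.intro_left _ (Subgroup.relIndex_mul_relIndex Z' B W hZB hBW)
      have hRc : R * c ∣ p ^ k := by
        have h1 : R * c ∣ p ^ k * s := by
          rw [← hes, ← hNe]
          exact mul_dvd_mul hdiv (Dvd.intro_left _ rfl)
        refine Nat.Coprime.dvd_of_dvd_mul_right ?_ h1
        refine Nat.Coprime.coprime_dvd_left (mul_dvd_mul hRdvd (Dvd.intro_left _ hmtc)) ?_
        rw [← pow_add]
        exact Nat.Coprime.pow_left _ ((Fact.out : p.Prime).coprime_iff_not_dvd.2 hs)
      have hcpos : 0 < c := Nat.pos_of_ne_zero fun h => hηc (by rw [hc, h, Nat.cast_zero])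
      have h1 : R * c ≤ m * t * c := hmtc ▸ Nat.le_of_dvd (pow_pos hp.pos k) hRc
      have h2 : R ≤ m * t := Nat.le_of_mul_le_mul_right h1 hcpos
      have hRpos : 0 < R := Nat.pos_of_ne_zero fun h => by
        rw [h] at hRdvd
        exact pow_ne_zero _ hp.ne_zero (Nat.eq_zero_of_zero_dvd hRdvd)
      have h3 : R ≤ t := by
        have h4 : (m * t) * (m * t) ≤ R * t := by
          calc (m * t) * (m * t) = m * (m * t) * t := by ring
            _ ≤ R * t := Nat.mul_le_mul_right t hbound
        have h5 : R * R ≤ R * t := (Nat.mul_le_mul h2 h2).trans h4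
        exact Nat.le_of_mul_le_mul_left h5 hRpos
      have hBI : B ≤ I ⊓ W :=
        le_inf (CharTwist.le_inertia B (Char.IsIrrCharacter.isClassFunction η.2)) hBW
      have h6 := Subgroup.relIndex_mul_relIndex B (I ⊓ W) W hBI inf_le_right
      rw [Subgroup.inf_relIndex_right, ← ht, ← hR] at h6
      refine Subgroup.relIndex_eq_one.1 ?_
      have h7 : B.relIndex (I ⊓ W) ≠ 0 := fun h => by rw [h, zero_mul] at h6; omega
      by_contra h8
      have h9 : 2 * R ≤ B.relIndex (I ⊓ W) * t := Nat.mul_le_mul (by omega) h3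
      omega)
    refine ⟨M, ?_⟩
    rw [← Subgroup.card_mul_index M, hn,
      Nat.factorization_mul Nat.card_pos.ne' (pow_ne_zero _ hp.ne_zero),
      Finsupp.add_apply, Nat.factorization_eq_zero_of_not_dvd hM, hp.factorization_pow,
      Finsupp.single_eq_same, zero_add]
  exact ⟨hquot, fun hK => CfsgLib.Solvable.isSolvable_of_normal K hK hquot⟩

end Cfsg.Agent.S4563
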