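import Cfsg.Statements.S4564
import Cfsg.Agent.S0886
import Cfsg.Agent.Lib.CharDeep.Gallagher
import Cfsg.Agent.Lib.BlockPrincipal.FullyRamifiedComplement

set_option autoImplicit false
open Cfsg

namespace Cfsg.Agent.S4564

open Cfsg CfsgLib
open scoped Classical

universe u

theorem exists_ne_principal {A : Type u} [Group A] [Fintype A] {g : A} (hg : g ≠ 1) :
    ∃ β : IrrCharacter A, β ≠ Char.principalIrr := by
  by_contra h
  push Not at h
  have h0 := Char.sum_apply_one_mul (G := A) g
  rw [if_neg hg, Finset.sum_eq_single (Char.principalIrr : IrrCharacter A)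
    (fun b _ hb => absurd (h b) hb) (fun hb => absurd (Finset.mem_univ _) hb)] at h0
  simp [Char.principalIrr_apply] at h0


/-- Let χ be an irreducible character of the finite group H that is fully ramified over the normal subgroup Z: the restriction of χ to Z is e times an irreducible character of Z with e ^ 2 equal to the index of Z. Let K be a normal subgroup of H containing Z and P a cyclic Sylow p-subgroup of H/K. Then P has a complement in H/K: a subgroup meeting P trivially whose product with P is the whole group. -/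
theorem result {H : Type*} [Group H] [Finite H] (Z : Subgroup H) [Z.Normal] (χ : Cfsg.IrrCharacter H) (hfr : ∃ (θ : Cfsg.IrrCharacter ↥Z) (e : ℕ), e ^ 2 = Z.index ∧ ∀ z : ↥Z, (χ : H → ℂ) z = (e : ℂ) * (θ : ↥Z → ℂ) z) (K : Subgroup H) [K.Normal] (hZK : Z ≤ K) (p : ℕ) [Fact p.Prime] (P : Sylow p (H ⧸ K)) (hcyc : IsCyclic P) : ∃ M : Subgroup (H ⧸ K), M.IsComplement' (P : Subgroup (H ⧸ K)) := by
  classical
  let _ := Fintype.ofFinite H
  let _ := Fintype.ofFinite Z
  obtain ⟨θ, e, he, hres⟩ := hfr
  obtain ⟨hinv, hoff⟩ := FullyRamified.invariant_and_vanish Z χ θ he hres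
  have he0 : e ≠ 0 := by
    intro h
    exact Subgroup.index_ne_zero_of_finite (H := Z) (by rw [← he, h]; norm_num)
  have hχc := Char.IsIrrCharacter.isCharacter χ.2
  obtain ⟨M, hM, n, hn⟩ := FullyRamified.exists_hall Z θ.2 hχc he hres hoff hinv K hZK p (by
    intro G _ _ ι Z' W B _ _ _ _ _ hZB hBW θ' k s hθ' hinv' hres' hoff' hW hes hs hmem _ _
    obtain ⟨η, hηc⟩ := FullyRamified.exists_below Z' B hZB hθ' (CharTwist.isCharacter_comp hχc ι)
      he0 hres'
    refine ⟨η, η.2, hηc, ?_⟩
    haveI := Fintype.ofFinite (B.subgroupOf W)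
    set N' := B.subgroupOf W with hN'
    set η' := CliffordOver.trans B W hBW (η : B → ℂ) with hη'
    have hη'i : IsIrrCharacter N' η' := CliffordOver.isIrrCharacter_trans B W hBW η.2
    set T' := CharTwist.inertia N' η' with hT'
    have hTeq : T' = (CharTwist.inertia B (η : B → ℂ)).subgroupOf W :=
      CliffordOver.inertia_trans B W hBW (η : B → ℂ)
    by_contra hle
    obtain ⟨x, hx, hxB⟩ := SetLike.not_le_iff_exists.1 hle
    have hxT : (⟨x, hx.2⟩ : W) ∈ T' := by rw [hTeq]; exact hx.1
    have hNT : N' ≤ T' := CharTwist.le_inertia N' (Char.IsIrrCharacter.isClassFunction hη'i)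
    haveI := Fintype.ofFinite T'
    set N'' := N'.subgroupOf T' with hN''
    haveI := Fintype.ofFinite N''
    haveI := Fintype.ofFinite (↥T' ⧸ N'')
    let f : T' →* H ⧸ K := (QuotientGroup.mk' K).comp (ι.comp (W.subtype.comp T'.subtype))
    have hker : f.ker = N'' := by
      ext t
      rw [MonoidHom.mem_ker, hN'', Subgroup.mem_subgroupOf, hN', Subgroup.mem_subgroupOf,
        hmem _ (t : W).2]
      exact QuotientGroup.eq_one_iff _
    have hrange : IsPGroup p f.range := by
      obtain ⟨j, -, hj⟩ := (Nat.dvd_prime_pow (Fact.out : p.Prime)).1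
        (show N''.index ∣ p ^ (2 * k) from
          (Dvd.intro _ (Subgroup.relIndex_mul_index hNT)).trans
            (hW ▸ Dvd.intro_left _ (Subgroup.relIndex_mul_relIndex Z' B W hZB hBW)))
      exact IsPGroup.of_card (by rw [← Subgroup.index_ker, hker, hj])
    obtain ⟨Q, hQ⟩ := hrange.exists_le_sylow
    haveI : IsCyclic Q := isCyclic_of_surjective (P.equiv Q).toMonoidHom (P.equiv Q).surjective
    haveI : IsCyclic f.range :=
      isCyclic_of_injective (Subgroup.inclusion hQ) (Subgroup.inclusion_injective hQ)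
    have hcycT : IsCyclic (↥T' ⧸ N'') := by
      let g := (QuotientGroup.kerLift f).codRestrict f.range (fun q => by
        obtain ⟨t, rfl⟩ := QuotientGroup.mk_surjective q
        exact ⟨t, rfl⟩)
      have hg : Function.Injective g := fun a b h =>
        QuotientGroup.kerLift_injective f (congrArg Subtype.val h)
      have : IsCyclic (↥T' ⧸ f.ker) := isCyclic_of_injective g hg
      exact isCyclic_of_surjective (QuotientGroup.quotientMulEquivOfEq hker).toMonoidHom
        (QuotientGroup.quotientMulEquivOfEq hker).surjective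
    have hη''i := CliffordOver.isIrrCharacter_trans N' T' hNT hη'i
    obtain ⟨ψ, hψ, hψN⟩ := Cfsg.Agent.S0886.result N'' hcycT (CliffordOver.trans N' T' hNT η')
      hη''i (fun t m => congrFun (CharTwist.mem_inertia.1 t.2) (Subgroup.subgroupOfEquivOfLe hNT m))
    have hψN' : IsIrrCharacter N'' (fun m : N'' => ψ m) := by
      rw [show (fun m : N'' => ψ m) = CliffordOver.trans N' T' hNT η' from funext hψN]
      exact hη''i
    obtain ⟨hb1, hb2, -⟩ := CharDeep.Gal.quotient_bijection N'' hψ hψN'
    have hxne : ((⟨⟨x, hx.2⟩, hxT⟩ : T') : ↥T' ⧸ N'') ≠ 1 := fun h => hxB (Subgroup.mem_subgroupOf.1 (Subgroup.mem_subgroupOf.1 ((QuotientGroup.eq_one_iff (⟨⟨x, hx.2⟩, hxT⟩ : T')).1 h)))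
    obtain ⟨β, hβ⟩ := exists_ne_principal hxne
    set ψ₂ : T' → ℂ := ((β : ↥T' ⧸ N'' → ℂ) ∘ QuotientGroup.mk' N'') * ψ with hψ₂
    have hover : ∀ ξ : T' → ℂ, IsIrrCharacter T' ξ →
        classInner (fun m : N'' => ξ m) (CliffordOver.trans N' T' hNT η') ≠ 0 →
        IsIrrCharacter W (Cfsg.indFun T' ξ) ∧
          classInner (fun m : N' => ξ ⟨m, hNT m.2⟩) η' ≠ 0 ∧
          classInner (Cfsg.indFun T' ξ ∘ Subgroup.inclusion (hZB.trans hBW)) θ' ≠ 0 := by
      intro ξ hξ hc
      rw [CliffordOver.classInner_trans] at hc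
      have hI := Clifford.isIrrCharacter_indFun N' T' hNT hη'i (fun _ => Iff.rfl) hξ hc
      have h2 := (Clifford.indFun_eq_of_constituent N' T' hNT hη'i (fun _ => Iff.rfl) hξ hc hI (by
        rw [← Char.classInner_conj_symm,
          ← Char.classInner_indFun T' ξ _ (Char.IsIrrCharacter.isClassFunction hI),
          Char.classInner_irr_self hI, map_one]
        exact one_ne_zero)).2.1
      refine ⟨hI, hc, ?_⟩
      rw [h2, hη', CliffordOver.classInner_trans] at hc
      exact FullyRamified.res_ne_zero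
        (CharTwist.isCharacter_comp (Char.IsIrrCharacter.isCharacter hI) (Subgroup.inclusion hBW))
        (Subgroup.inclusion hZB) hθ' η.2 hc hηc
    have hone : classInner (fun m : N'' => ψ m) (CliffordOver.trans N' T' hNT η') = 1 := by
      rw [show (fun m : N'' => ψ m) = CliffordOver.trans N' T' hNT η' from funext hψN]
      exact Char.classInner_irr_self hη''i
    obtain ⟨h1, h1', h1''⟩ := hover ψ hψ (by rw [hone]; exact one_ne_zero)
    obtain ⟨h2, h2', h2''⟩ := hover ψ₂ (hb1 _ β.2).1 (by
      have : (fun m : N'' => ψ₂ m) = (β : ↥T' ⧸ N'' → ℂ) 1 • fun m : N'' => ψ m := by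
        funext m
        show (β : ↥T' ⧸ N'' → ℂ) (QuotientGroup.mk' N'' (m : T')) * ψ m = _
        rw [show QuotientGroup.mk' N'' (m : T') = 1 from (QuotientGroup.eq_one_iff _).2 m.2]
        rfl
      rw [this, Char.classInner_smul_left, hone, mul_one]
      exact Char.IsIrrCharacter.apply_one_ne_zero β.2)
    have heq := (FullyRamified.degree_and_unique Z' W (hZB.trans hBW) hθ' hinv'
      (CharTwist.isCharacter_comp hχc ι) hres' hoff' hW hes hs h1 h1'').2 _ h2 h2''
    have := Clifford.indFun_injective N' T' hNT hη'i (fun _ => Iff.rfl) (hb1 _ β.2).1 hψ h2' h1' heq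
    refine hβ (Subtype.ext ((hb2 _ _ β.2 Char.principalIrr.2 ?_).trans rfl))
    refine this.trans (funext fun t => ?_)
    simp [Char.principalIrr_apply])
  refine ⟨M, Subgroup.isComplement'_of_coprime ?_ ?_⟩
  · rw [Sylow.card_eq_multiplicity, ← Subgroup.card_mul_index M, hn,
      Nat.factorization_mul Nat.card_pos.ne' (pow_ne_zero _ (Fact.out : p.Prime).ne_zero),
      Finsupp.add_apply, Nat.factorization_eq_zero_of_not_dvd hM,
      (Fact.out : p.Prime).factorization_pow, Finsupp.single_eq_same, zero_add]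
  · rw [Sylow.card_eq_multiplicity]
    exact (((Fact.out : p.Prime).coprime_iff_not_dvd.2 hM).symm).pow_right _

end Cfsg.Agent.S4564
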