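import Cfsg.Statements.S4583
import Cfsg.Agent.Lib.BlockPrincipal.Criterion
import Cfsg.Agent.Lib.Char.Induced
import Cfsg.Agent.Lib.Char.Complete
import Cfsg.Agent.Lib.Char.Clifford


set_option autoImplicit false
open Cfsg

namespace Cfsg.Agent.S4583

open Cfsg CfsgLib CfsgLib.BlockReg CfsgLib.BlockPrincipal
open scoped Pointwise

universe u

/-- Transitivity of being a constituent. -/
theorem constituent_trans {G : Type u} [Group G] [Fintype G] (H N : Subgroup G) [Fintype H]
    [Fintype N] (hNH : N ≤ H) (χ : IrrCharacter G) (η : IrrCharacter H) (θ : IrrCharacter N)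
    (h1 : classInner (fun h : H => (χ : G → ℂ) h) (η : H → ℂ) ≠ 0)
    (h2 : ∀ n : N, (η : H → ℂ) (Subgroup.inclusion hNH n) = (θ : N → ℂ) n) :
    classInner (fun n : N => (χ : G → ℂ) n) (θ : N → ℂ) ≠ 0 := by
  classical
  have hres := Clifford.isCharacter_res (Char.IsIrrCharacter.isCharacter χ.2) H
  obtain ⟨m, hm⟩ : ∃ m : IrrCharacter H → ℕ,
      ∀ ψ : IrrCharacter H, classInner (fun h : H => (χ : G → ℂ) h) (ψ : H → ℂ) = m ψ :=
    ⟨fun ψ => (Char.IsCharacter.exists_nat_classInner hres ψ.2).choose,
      fun ψ => (Char.IsCharacter.exists_nat_classInner hres ψ.2).choose_spec⟩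
  have hcomp : ∀ ψ : IrrCharacter H,
      ∃ c : ℕ, classInner (fun n : N => (ψ : H → ℂ) (Subgroup.inclusion hNH n)) (θ : N → ℂ) = c :=
    fun ψ => Char.IsCharacter.exists_nat_classInner
      (CharTwist.isCharacter_comp (Char.IsIrrCharacter.isCharacter ψ.2) (Subgroup.inclusion hNH)) θ.2
  choose c hc using hcomp
  have heq : (fun n : N => (χ : G → ℂ) n) =
      ∑ ψ : IrrCharacter H, (m ψ : ℂ) • fun n : N => (ψ : H → ℂ) (Subgroup.inclusion hNH n) := by
    funext n
    have := congrFun (Char.IsClassFunction.eq_sum_classInner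
      (Char.IsCharacter.isClassFunction hres)) (Subgroup.inclusion hNH n)
    simp only [Finset.sum_apply, Pi.smul_apply, hm] at this ⊢
    exact this
  rw [heq, Char.classInner_sum_left]
  simp only [Char.classInner_smul_left, hc]
  norm_cast
  intro h0
  have := (Finset.sum_eq_zero_iff.1 h0) η (Finset.mem_univ _)
  have hcη : c η = 1 := by
    have h := hc η
    rw [show (fun n : N => (η : H → ℂ) (Subgroup.inclusion hNH n)) = (θ : N → ℂ) from funext h2,
      Char.classInner_irr_self θ.2] at h
    exact_mod_cast h.symm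
  rw [hcη, mul_one] at this
  exact h1 (by rw [hm, this, Nat.cast_zero])


/-- Let N be a normal subgroup of the finite group G, p a prime, M a maximal ideal of the algebraic integers containing p, and P a Sylow p-subgroup of G. Let θ be an irreducible character of N of degree prime to p lying in the principal p-block of N, and suppose θ extends to the subgroup NP (some irreducible character of NP restricts to θ). Then some irreducible character χ of G of degree prime to p in the principal p-block of G lies over θ (θ is a constituent of the restriction of χ to N). -/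
theorem result {G : Type*} [Group G] [Finite G] (N : Subgroup G) [N.Normal] (p : ℕ) [Fact p.Prime] (M : Ideal Cfsg.AlgInt) (hM : Cfsg.IsPModular p M) (P : Sylow p G)
    (θ : Cfsg.IrrCharacter N) (hθ : θ ∈ Cfsg.principalBlock M N) (hdeg : ¬ p ∣ Cfsg.charDegree (θ : N → ℂ))
    (hext : ∃ η : Cfsg.IrrCharacter ↥(N ⊔ (P : Subgroup G)), ∀ n : N, (η : ↥(N ⊔ (P : Subgroup G)) → ℂ) (Subgroup.inclusion le_sup_left n) = (θ : N → ℂ) n) :
    ∃ χ : Cfsg.IrrCharacter G, χ ∈ Cfsg.principalBlock M G ∧ ¬ p ∣ Cfsg.charDegree (χ : G → ℂ) ∧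
      haveI := Fintype.ofFinite N; Cfsg.classInner (fun n : N => (χ : G → ℂ) n) (θ : N → ℂ) ≠ 0 := by
  classical
  have hp : p.Prime := Fact.out
  let _ := Fintype.ofFinite G
  let _ := Fintype.ofFinite N
  let _ := Fintype.ofFinite ↥(N ⊔ (P : Subgroup G))
  set H := N ⊔ (P : Subgroup G) with hH
  obtain ⟨η, hη⟩ := hext
  have hindex : ¬ p ∣ H.index := fun h =>
    P.not_dvd_index (h.trans (Subgroup.index_dvd_of_le le_sup_right))
  have hregN : ∀ h : H, ¬ p ∣ orderOf h → (h : G) ∈ N := by
    intro h hh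
    have hg : (h : G) ∈ ((N : Set G) * ((P : Subgroup G) : Set G) : Set G) := by
      rw [← Subgroup.normal_mul]; exact h.2
    obtain ⟨n, hn, u, hu, hnu⟩ := hg
    obtain ⟨j, hj⟩ := P.2 ⟨u, hu⟩
    rw [← QuotientGroup.eq_one_iff]
    have h1 : ((h : G) : G ⧸ N) ^ p ^ j = 1 := by
      rw [← hnu, QuotientGroup.mk_mul, (QuotientGroup.eq_one_iff n).2 hn, one_mul,
        ← QuotientGroup.mk_pow, show u ^ p ^ j = 1 by
          simpa using congrArg (fun x : (P : Subgroup G) => (x : G)) hj, QuotientGroup.mk_one]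
    have h2 : ((h : G) : G ⧸ N) ^ orderOf h = 1 := by
      rw [← QuotientGroup.mk_pow, ← Subgroup.orderOf_coe, pow_orderOf_eq_one, QuotientGroup.mk_one]
    have := pow_gcd_eq_one.2 ⟨h1, h2⟩
    rwa [show Nat.gcd (p ^ j) (orderOf h) = 1 from
      Nat.Coprime.pow_left _ (hp.coprime_iff_not_dvd.2 hh), pow_one] at this
  have hregH : regSum p (η : H → ℂ) = regSum p (θ : N → ℂ) := by
    unfold regSum
    refine (Finset.sum_bij (fun (n : N) _ => Subgroup.inclusion (le_sup_left : N ≤ H) n)
      (fun n hn => ?_) (fun a _ b _ h => ?_) (fun h hh => ?_) (fun n _ => (hη n).symm)).symm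
    · simp only [Finset.mem_filter, Finset.mem_univ, true_and] at hn ⊢
      rwa [← Subgroup.orderOf_coe, Subgroup.coe_inclusion, Subgroup.orderOf_coe]
    · exact Subgroup.inclusion_injective le_sup_left h
    · simp only [Finset.mem_filter, Finset.mem_univ, true_and] at hh
      refine ⟨⟨h, hregN h hh⟩, ?_, Subtype.ext rfl⟩
      simp only [Finset.mem_filter, Finset.mem_univ, true_and]
      rwa [Subgroup.orderOf_mk, Subgroup.orderOf_coe]
  set F := Cfsg.indFun H (η : H → ℂ) with hF
  have hFsum : regSum p F = (H.index : ℂ) * regSum p (η : H → ℂ) := by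
    have hx : ∀ x : G, (∑ g ∈ Finset.univ.filter (fun g : G => ¬ p ∣ orderOf g),
        extendByZero H (η : H → ℂ) (x⁻¹ * g * x)) = regSum p (η : H → ℂ) := by
      intro x
      have h1 : (∑ g ∈ Finset.univ.filter (fun g : G => ¬ p ∣ orderOf g),
          extendByZero H (η : H → ℂ) (x⁻¹ * g * x)) =
          ∑ g ∈ Finset.univ.filter (fun g : G => ¬ p ∣ orderOf g), extendByZero H (η : H → ℂ) g := by
        refine Finset.sum_equiv (MulAut.conj x⁻¹).toEquiv (fun g => ?_) (fun g _ => ?_)
        · simp only [Finset.mem_filter, Finset.mem_univ, true_and]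
          rw [show orderOf ((MulAut.conj x⁻¹).toEquiv g) = orderOf g from
            MulEquiv.orderOf_eq (MulAut.conj x⁻¹) g]
        · simp [mul_assoc]
      rw [h1, Finset.sum_filter]
      have h2 := Char.sum_extendByZero_mul H (η : H → ℂ)
        (fun g => if ¬ p ∣ orderOf g then (1 : ℂ) else 0)
      simp only [mul_ite, mul_one, mul_zero] at h2
      rw [h2, regSum, Finset.sum_filter]
      refine Finset.sum_congr rfl fun h _ => if_congr (by rw [Subgroup.orderOf_coe]) rfl rfl
    unfold regSum
    simp only [hF, Char.indFun_apply]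
    rw [← Finset.mul_sum, Finset.sum_comm, Finset.sum_congr rfl fun x _ => hx x, Finset.sum_const,
      Finset.card_univ, nsmul_eq_mul, ← mul_assoc, ← Nat.card_eq_fintype_card,
      ← H.card_mul_index, Nat.cast_mul, ← mul_assoc, inv_mul_cancel₀ (by
        exact_mod_cast Nat.card_pos.ne'), one_mul]
    rfl
  have hθreg : ¬ MemLocalIdeal M (regSum p (θ : N → ℂ)) :=
    (mem_principal_iff_of_not_dvd hM θ hdeg).1 hθ
  have hFreg : ¬ MemLocalIdeal M (regSum p F) := by
    rw [hFsum, hregH]
    exact not_memIdeal_mul hM (memRing_natCast hM _)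
      (memRing_sum hM _ fun n _ => memRing_char hM θ n) (not_memIdeal_natCast hM hindex) hθreg
  by_contra hno
  push Not at hno
  apply hFreg
  have hclF : IsClassFunction G F := Char.isClassFunction_indFun H _
  have hexp : regSum p F = ∑ χ : IrrCharacter G, classInner F (χ : G → ℂ) * regSum p (χ : G → ℂ) := by
    conv_lhs => rw [Char.IsClassFunction.eq_sum_classInner hclF]
    simp only [regSum, Finset.sum_apply, Pi.smul_apply, smul_eq_mul]
    rw [Finset.sum_comm]
    simp only [Finset.mul_sum]
  rw [hexp]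
  refine memIdeal_sum hM _ fun χ _ => ?_
  by_cases hm : classInner F (χ : G → ℂ) = 0
  · rw [hm, zero_mul]; exact memIdeal_zero hM
  obtain ⟨m, hm'⟩ := Char.IsCharacter.exists_nat_classInner
    (Char.IsCharacter.indFun H (Char.IsIrrCharacter.isCharacter η.2)) χ.2
  rw [hm']
  refine memIdeal_mul_left hM (memRing_natCast hM m) ?_
  have hsplit : regSum p (χ : G → ℂ) =
      (charDegree (χ : G → ℂ) : ℂ) * (regSum p (χ : G → ℂ) / (χ : G → ℂ) 1) := by
    rw [deg_cast, mul_div_cancel₀ _ (deg_ne_zero χ)]
  rw [hsplit]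
  by_cases hd : p ∣ charDegree (χ : G → ℂ)
  · exact memIdeal_mul_right hM ((memIdeal_natCast_iff hM _).2 hd) (memRing_regSum_div hM χ)
  refine memIdeal_mul_left hM (memRing_natCast hM _) ?_
  by_contra hI
  refine constituent_trans H N le_sup_left χ η θ ?_ hη (hno χ ((mem_principal_iff hM χ).2 hI) hd)
  intro h0
  apply hm
  rw [hF, Char.classInner_indFun H _ _ (Char.IsIrrCharacter.isClassFunction χ.2)]
  rw [← Char.classInner_conj_symm, h0, map_zero]

end Cfsg.Agent.S4583
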