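import Cfsg.Statements.S4565
import Cfsg.Agent.S0886
import Cfsg.Agent.S4583
import Cfsg.Agent.Lib.CharDeep.Gallagher


set_option autoImplicit false
open Cfsg

namespace Cfsg.Agent.S4565

open Cfsg CfsgLib
open scoped ComplexConjugate

universe u

/-- An irreducible extension cannot vanish on a whole coset. -/
theorem exists_ne_zero_coset {K : Type u} [Group K] [Fintype K] (N : Subgroup K) [N.Normal]
    [Fintype N] {ψ : K → ℂ} (hψ : IsIrrCharacter K ψ)
    (hN : IsIrrCharacter N (fun n : N => ψ n)) (g : K) : ∃ n : N, ψ ((n : K) * g) ≠ 0 := by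
  classical
  let _ := Fintype.ofFinite (K ⧸ N)
  obtain ⟨h1, h2, -⟩ := CharDeep.Gal.quotient_bijection N hψ hN
  let F : K → ℂ := fun x => ψ x * conj (ψ x)
  have hF : IsClassFunction K F := fun x y => by
    simp only [F, Char.IsIrrCharacter.isClassFunction hψ x y]
  have hone : IsIrrCharacter (K ⧸ N) (fun _ => (1 : ℂ)) := Char.isIrrCharacter_principal
  have hval : ∀ β : IrrCharacter (K ⧸ N),
      classInner (CharDeep.Gal.cosetAvg N F) (β : K ⧸ N → ℂ) =
        classInner (fun _ : K ⧸ N => (1 : ℂ)) (β : K ⧸ N → ℂ) := by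
    intro β
    rw [CharDeep.Gal.classInner_cosetAvg]
    have heq : classInner F ((β : K ⧸ N → ℂ) ∘ QuotientGroup.mk' N) =
        classInner ψ (((β : K ⧸ N → ℂ) ∘ QuotientGroup.mk' N) * ψ) := by
      simp only [classInner, F, Pi.mul_apply, Function.comp_apply, map_mul]
      congr 1
      exact Finset.sum_congr rfl fun x _ => by ring
    rw [heq]
    by_cases hβ : (β : K ⧸ N → ℂ) = fun _ => 1
    · rw [hβ, Char.classInner_irr_self hone]
      rw [show ((fun _ : K ⧸ N => (1 : ℂ)) ∘ QuotientGroup.mk' N) * ψ = ψ from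
        funext fun x => one_mul _, Char.classInner_irr_self hψ]
    · have hirr := (h1 _ β.2).1
      have hne : ψ ≠ ((β : K ⧸ N → ℂ) ∘ QuotientGroup.mk' N) * ψ := fun h =>
        hβ (h2 _ _ β.2 hone (h.symm.trans (funext fun x => (one_mul _).symm)))
      rw [show classInner ψ (((β : K ⧸ N → ℂ) ∘ QuotientGroup.mk' N) * ψ) = 0 from
        by_contra fun hc => hne (Char.eq_of_classInner_ne_zero hψ hirr hc)]
      exact (by_contra fun hc => hβ (Char.eq_of_classInner_ne_zero hone β.2 (Ne.symm hc)).symm)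
  have havg : CharDeep.Gal.cosetAvg N F = fun _ => (1 : ℂ) := by
    rw [Char.IsClassFunction.eq_sum_classInner (CharDeep.Gal.isClassFunction_cosetAvg N hF),
      Char.IsClassFunction.eq_sum_classInner (Char.IsIrrCharacter.isClassFunction hone)]
    simp only [hval]
  by_contra hno
  push Not at hno
  have := congrFun havg (g : K ⧸ N)
  rw [CharDeep.Gal.cosetAvg_mk] at this
  simp [F, hno] at this


/-- Let χ be an irreducible character of the finite group H that is fully ramified over the normal subgroup Z: the restriction of χ to Z is e times an irreducible character of Z with e ^ 2 equal to the index of Z. If Z ≠ H, then H/Z has no cyclic subgroup that is its own centralizer. -/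
theorem result {H : Type*} [Group H] [Finite H] (Z : Subgroup H) [Z.Normal] (χ : Cfsg.IrrCharacter H) (hfr : ∃ (θ : Cfsg.IrrCharacter ↥Z) (e : ℕ), e ^ 2 = Z.index ∧ ∀ z : ↥Z, (χ : H → ℂ) z = (e : ℂ) * (θ : ↥Z → ℂ) z) (hZ : Z ≠ ⊤) (C : Subgroup (H ⧸ Z)) (hC : IsCyclic C) : Subgroup.centralizer (C : Set (H ⧸ Z)) ≠ C := by
  classical
  intro hcent
  let _ := Fintype.ofFinite H
  let _ := Fintype.ofFinite Z
  obtain ⟨θ, e, he, hres⟩ := hfr
  have hind : Z.index ≠ 0 := Subgroup.index_ne_zero_of_finite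
  have he0 : (e : ℂ) ≠ 0 := by
    refine Nat.cast_ne_zero.2 fun h => hind ?_
    rw [← he, h]; norm_num
  have hθinv : ∀ (g : H) (n : Z),
      (θ : Z → ℂ) ⟨g * n * g⁻¹, ‹Z.Normal›.conj_mem n n.2 g⟩ = (θ : Z → ℂ) n := by
    intro g n
    have h1 := hres ⟨g * n * g⁻¹, ‹Z.Normal›.conj_mem n n.2 g⟩
    rw [Char.IsIrrCharacter.isClassFunction χ.2 (n : H) g, hres n] at h1
    exact (mul_left_cancel₀ he0 h1).symm
  have hZcard : (Nat.card Z : ℂ) ≠ 0 := Nat.cast_ne_zero.2 Nat.card_pos.ne'
  have hoff : ∀ g : H, g ∉ Z → (χ : H → ℂ) g = 0 := by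
    intro g hg
    have h1 := Char.classInner_irr_self χ.2
    have hH : (Nat.card H : ℂ) ≠ 0 := Nat.cast_ne_zero.2 Nat.card_pos.ne'
    rw [classInner, inv_mul_eq_iff_eq_mul₀ hH, mul_one] at h1
    have h2 := Char.classInner_irr_self θ.2
    rw [classInner, inv_mul_eq_iff_eq_mul₀ hZcard, mul_one] at h2
    simp only [Complex.mul_conj] at h1 h2
    have hZ' : ∑ x ∈ Finset.univ.filter (fun x : H => x ∈ Z),
        (Complex.normSq ((χ : H → ℂ) x) : ℂ) = (Nat.card H : ℂ) := by
      rw [Finset.sum_subtype (p := fun x : H => x ∈ Z) _ (fun x => by simp)]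
      simp only [hres, Complex.normSq_mul, Complex.normSq_natCast, Complex.ofReal_mul,
        Complex.ofReal_natCast]
      rw [← Finset.mul_sum, h2, ← Subgroup.card_mul_index Z, ← he]
      push_cast
      ring
    have h3 : ∑ x ∈ Finset.univ.filter (fun x : H => ¬ x ∈ Z),
        (Complex.normSq ((χ : H → ℂ) x) : ℂ) = 0 := by
      rw [← Finset.sum_filter_add_sum_filter_not Finset.univ (fun x : H => x ∈ Z), hZ'] at h1
      simpa using h1
    rw [← Complex.ofReal_sum, Complex.ofReal_eq_zero] at h3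
    exact Complex.normSq_eq_zero.1
      ((Finset.sum_eq_zero_iff_of_nonneg fun x _ => Complex.normSq_nonneg _).1 h3 g (by simp [hg]))
  set K := C.comap (QuotientGroup.mk' Z) with hKdef
  let _ := Fintype.ofFinite K
  have hZK : Z ≤ K := fun z hz => by
    rw [hKdef, Subgroup.mem_comap, QuotientGroup.mk'_apply, (QuotientGroup.eq_one_iff z).2 hz]
    exact C.one_mem
  set Z' := Z.subgroupOf K
  let _ := Fintype.ofFinite Z'
  let _ := Fintype.ofFinite (K ⧸ Z')
  let eZ : Z' ≃* Z := Subgroup.subgroupOfEquivOfLe hZK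
  let toC : K ⧸ Z' →* C := QuotientGroup.lift Z'
    (((QuotientGroup.mk' Z).comp K.subtype).codRestrict C fun k => k.2)
    (fun k hk => MonoidHom.mem_ker.2 (Subtype.ext ((QuotientGroup.eq_one_iff (k : H)).2 hk)))
  have htoC : Function.Injective toC := by
    rw [injective_iff_map_eq_one]
    intro q hq
    obtain ⟨k, rfl⟩ := QuotientGroup.mk_surjective q
    refine (QuotientGroup.eq_one_iff k).2 ?_
    exact (QuotientGroup.eq_one_iff (k : H)).1 (congrArg Subtype.val hq)
  have hKcyc : IsCyclic (K ⧸ Z') := isCyclic_of_injective toC htoC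
  obtain ⟨ψ, hψ, hψZ⟩ := Cfsg.Agent.S0886.result Z' hKcyc ((θ : Z → ℂ) ∘ eZ)
    (CharTwist.isIrrCharacter_comp_equiv θ.2 eZ) (fun g n => hθinv g (eZ n))
  have hψZ' : IsIrrCharacter Z' (fun n : Z' => ψ n) := by
    rw [show (fun n : Z' => ψ n) = (θ : Z → ℂ) ∘ eZ from funext hψZ]
    exact CharTwist.isIrrCharacter_comp_equiv θ.2 eZ
  obtain ⟨hb1, -, -⟩ := CharDeep.Gal.quotient_bijection Z' hψ hψZ'
  have hover : ∀ φ : IrrCharacter H, φ ≠ χ →
      classInner (fun n : Z => (φ : H → ℂ) n) (θ : Z → ℂ) = 0 := by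
    intro φ hne
    have hsum : classInner (φ : H → ℂ) (χ : H → ℂ) = 0 :=
      by_contra fun hc => hne (Subtype.ext (Char.eq_of_classInner_ne_zero φ.2 χ.2 hc))
    rw [classInner] at hsum ⊢
    have hH : (Nat.card H : ℂ) ≠ 0 := Nat.cast_ne_zero.2 Nat.card_pos.ne'
    have h1 := (mul_eq_zero.1 hsum).resolve_left (inv_ne_zero hH)
    rw [← Finset.sum_filter_add_sum_filter_not Finset.univ (fun x : H => x ∈ Z),
      Finset.sum_eq_zero (s := Finset.univ.filter fun x : H => ¬ x ∈ Z) (fun x hx => by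
        rw [hoff x (Finset.mem_filter.1 hx).2, map_zero, mul_zero]), add_zero,
      Finset.sum_subtype (p := fun x : H => x ∈ Z) _ (fun x => by simp)] at h1
    simp only [hres, map_mul, Complex.conj_natCast] at h1
    have h2 : (e : ℂ) * ∑ z : Z, (φ : H → ℂ) z * conj ((θ : Z → ℂ) z) = 0 := by
      rw [← h1, Finset.mul_sum]
      exact Finset.sum_congr rfl fun z _ => by ring
    rw [(mul_eq_zero.1 h2).resolve_left he0, mul_zero]
  -- induced characters of twisted extensions vanish off `Z`
  have hvanish : ∀ β : IrrCharacter (K ⧸ Z'), ∀ g : H, g ∉ Z →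
      Cfsg.indFun K (((β : K ⧸ Z' → ℂ) ∘ QuotientGroup.mk' Z') * ψ) g = 0 := by
    intro β g hg
    set η : IrrCharacter K := ⟨_, (hb1 _ β.2).1⟩
    have hcl := Char.isClassFunction_indFun K (η : K → ℂ)
    have := congrFun (Char.IsClassFunction.eq_sum_classInner hcl) g
    refine this.trans ?_
    rw [Finset.sum_apply]
    refine Finset.sum_eq_zero fun φ _ => ?_
    rw [Pi.smul_apply, smul_eq_mul]
    by_cases hφ : φ = χ
    · rw [hφ, hoff g hg, mul_zero]
    convert zero_mul _
    rw [Char.classInner_indFun K _ _ (Char.IsIrrCharacter.isClassFunction φ.2),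
      ← Char.classInner_conj_symm, map_eq_zero]
    by_contra hc
    obtain ⟨m, hm⟩ := Char.IsCharacter.exists_nat_classInner
      (Clifford.isCharacter_res (Char.IsIrrCharacter.isCharacter η.2) Z') hψZ'
    refine (hb1 _ β.2).2 ?_
    have hmul : (fun n : Z' => (η : K → ℂ) n) = fun n : Z' => (β : K ⧸ Z' → ℂ) 1 * ψ n := by
      funext n
      show (β : K ⧸ Z' → ℂ) (QuotientGroup.mk' Z' (n : K)) * ψ n = _
      rw [show QuotientGroup.mk' Z' (n : K) = 1 from (QuotientGroup.eq_one_iff _).2 n.2]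
    -- a constituent of `φ` on `K` lying over `θ` would put `φ` over `θ`
    exfalso
    obtain ⟨c, hc'⟩ : ∃ c : IrrCharacter K → ℕ, ∀ ξ : IrrCharacter K,
        classInner (fun k : K => (φ : H → ℂ) k) (ξ : K → ℂ) = c ξ :=
      ⟨fun ξ => (Char.IsCharacter.exists_nat_classInner
          (Clifford.isCharacter_res (Char.IsIrrCharacter.isCharacter φ.2) K) ξ.2).choose,
        fun ξ => (Char.IsCharacter.exists_nat_classInner
          (Clifford.isCharacter_res (Char.IsIrrCharacter.isCharacter φ.2) K) ξ.2).choose_spec⟩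
    have hd : ∀ ξ : IrrCharacter K, ∃ d : ℕ,
        classInner (fun n : Z => (ξ : K → ℂ) (Subgroup.inclusion hZK n)) (θ : Z → ℂ) = d := fun ξ =>
      Char.IsCharacter.exists_nat_classInner
        (CharTwist.isCharacter_comp (Char.IsIrrCharacter.isCharacter ξ.2) (Subgroup.inclusion hZK)) θ.2
    choose d hd using hd
    have h0 := hover φ hφ
    have heq : (fun n : Z => (φ : H → ℂ) n) =
        ∑ ξ : IrrCharacter K, (c ξ : ℂ) • fun n : Z => (ξ : K → ℂ) (Subgroup.inclusion hZK n) := by
      funext n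
      have := congrFun (Char.IsClassFunction.eq_sum_classInner (Char.IsCharacter.isClassFunction
        (Clifford.isCharacter_res (Char.IsIrrCharacter.isCharacter φ.2) K)))
        (Subgroup.inclusion hZK n)
      simp only [Finset.sum_apply, Pi.smul_apply, hc'] at this ⊢
      exact this
    rw [heq, Char.classInner_sum_left] at h0
    simp only [Char.classInner_smul_left, hd] at h0
    norm_cast at h0
    have h4 := (Finset.sum_eq_zero_iff.1 h0) η (Finset.mem_univ _)
    have hdη : (d η : ℂ) = (β : K ⧸ Z' → ℂ) 1 := by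
      rw [← hd]
      have : (fun n : Z => (η : K → ℂ) (Subgroup.inclusion hZK n)) =
          (β : K ⧸ Z' → ℂ) 1 • (θ : Z → ℂ) := by
        funext n
        refine (congrFun hmul (eZ.symm n)).trans ?_
        rw [Pi.smul_apply, smul_eq_mul, hψZ, Function.comp_apply, MulEquiv.apply_symm_apply]
      rw [this, Char.classInner_smul_left, Char.classInner_irr_self θ.2, mul_one]
    rcases Nat.mul_eq_zero.1 h4 with h4 | h4
    · exact hc (by rw [hc', h4, Nat.cast_zero])
    · exact Char.IsIrrCharacter.apply_one_ne_zero β.2 (by rw [← hdη, h4, Nat.cast_zero])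
  -- the generator
  obtain ⟨⟨γ, hγC⟩, hgen⟩ := hC.exists_generator
  obtain ⟨g₀, hg₀⟩ := QuotientGroup.mk_surjective γ
  have hKcomm : ∀ a b : K ⧸ Z', a * b = b * a := by
    let _ : CommGroup C := hC.commGroup
    intro a b
    exact htoC (by rw [map_mul, map_mul, mul_comm])
  have hzero : ∀ g : K, ((g : H) : H ⧸ Z) = γ → (g : H) ∉ Z → ψ g = 0 := by
    intro g hgγ hgZ
    let f : K ⧸ Z' → ℂ := fun q => if q = (g : K ⧸ Z') then 1 else 0
    have hf : IsClassFunction (K ⧸ Z') f := fun a b => by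
      rw [hKcomm b a, mul_inv_cancel_right]
    have hexp := Char.IsClassFunction.eq_sum_classInner hf
    have hE : ∀ x : H, extendByZero K (((f ∘ QuotientGroup.mk' Z') * ψ)) (x⁻¹ * (g : H) * x) =
        if x ∈ K then ψ g else 0 := by
      intro x
      by_cases hx : x⁻¹ * (g : H) * x ∈ K
      · rw [Char.extendByZero_apply_mem K _ hx, Pi.mul_apply, Function.comp_apply]
        set k : K := ⟨_, hx⟩
        have hiff : QuotientGroup.mk' Z' k = (g : K ⧸ Z') ↔ x ∈ K := by
          rw [← htoC.eq_iff, Subtype.ext_iff]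
          show ((x⁻¹ * (g : H) * x : H) : H ⧸ Z) = ((g : H) : H ⧸ Z) ↔ _
          rw [QuotientGroup.mk_mul, QuotientGroup.mk_mul, QuotientGroup.mk_inv, hgγ]
          constructor
          · intro h
            show (x : H ⧸ Z) ∈ C
            rw [← hcent, Subgroup.mem_centralizer_iff]
            intro y hy
            obtain ⟨i, hi⟩ := hgen ⟨y, hy⟩
            rw [show y = γ ^ i from (congrArg Subtype.val hi).symm]
            refine (Commute.zpow_left (?_ : Commute γ (x : H ⧸ Z)) i).eq
            rw [mul_assoc, inv_mul_eq_iff_eq_mul] at h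
            exact h
          · intro h
            let _ : CommGroup C := hC.commGroup
            have := congrArg Subtype.val (mul_comm (⟨γ, hγC⟩ : C) ⟨(x : H ⧸ Z), h⟩)
            simp only [Subgroup.coe_mul] at this
            rw [mul_assoc, this, inv_mul_cancel_left]
        simp only [f, hiff]
        split_ifs with h
        · rw [one_mul]
          exact (Char.IsIrrCharacter.isClassFunction hψ g (⟨x, h⟩ : K)⁻¹).symm.trans
            (congrArg ψ (Subtype.ext (by simp [k]))) |>.symm
        · rw [zero_mul]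
      · rw [Char.extendByZero_of_notMem K _ hx, if_neg]
        exact fun h => hx (K.mul_mem (K.mul_mem (K.inv_mem h) g.2) h)
    have h0 : Cfsg.indFun K ((f ∘ QuotientGroup.mk' Z') * ψ) (g : H) = 0 := by
      have : (f ∘ QuotientGroup.mk' Z') * ψ = ∑ β : IrrCharacter (K ⧸ Z'),
          classInner f (β : K ⧸ Z' → ℂ) • (((β : K ⧸ Z' → ℂ) ∘ QuotientGroup.mk' Z') * ψ) := by
        funext k
        have := congrFun hexp (QuotientGroup.mk' Z' k)
        simp only [Pi.mul_apply, Function.comp_apply, Finset.sum_apply, Pi.smul_apply,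
          smul_eq_mul] at this ⊢
        rw [this, Finset.sum_mul]
        exact Finset.sum_congr rfl fun β _ => by ring
      rw [this, Char.indFun_sum, Finset.sum_apply]
      exact Finset.sum_eq_zero fun β _ => by
        rw [Char.indFun_smul, Pi.smul_apply, hvanish β _ hgZ, smul_zero]
    rw [Char.indFun_apply, Finset.sum_congr rfl fun x _ => hE x, ← Finset.sum_filter,
      Finset.sum_const, nsmul_eq_mul] at h0
    refine (mul_eq_zero.1 ((mul_eq_zero.1 h0).resolve_left ?_)).resolve_left ?_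
    · exact inv_ne_zero (Nat.cast_ne_zero.2 Nat.card_pos.ne')
    · exact Nat.cast_ne_zero.2 (Finset.card_ne_zero_of_mem
        (Finset.mem_filter.2 ⟨Finset.mem_univ _, K.one_mem⟩))
  by_cases hg₀Z : g₀ ∈ Z
  · have hγ1 : γ = 1 := by rw [← hg₀]; exact (QuotientGroup.eq_one_iff g₀).2 hg₀Z
    have hCbot : C = ⊥ := eq_bot_iff.2 fun y hy => by
      obtain ⟨i, hi⟩ := hgen ⟨y, hy⟩
      rw [show y = γ ^ i from (congrArg Subtype.val hi).symm, hγ1, one_zpow]
      exact Subgroup.one_mem _
    rw [hCbot] at hcent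
    apply hZ
    rw [eq_top_iff]
    intro x _
    rw [← QuotientGroup.eq_one_iff, ← Subgroup.mem_bot, ← hcent, Subgroup.mem_centralizer_iff]
    intro y hy
    rw [SetLike.mem_coe, Subgroup.mem_bot] at hy
    rw [hy, one_mul, mul_one]
  · have hgK : g₀ ∈ K := by
      show (g₀ : H ⧸ Z) ∈ C
      rw [hg₀]; exact hγC
    obtain ⟨n, hn⟩ := exists_ne_zero_coset Z' hψ hψZ' ⟨g₀, hgK⟩
    refine hn (hzero _ ?_ ?_)
    · rw [Subgroup.coe_mul, QuotientGroup.mk_mul, (QuotientGroup.eq_one_iff ((n : K) : H)).2 n.2,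
        one_mul, hg₀]
    · exact fun h => hg₀Z ((Z.mul_mem_cancel_left n.2).1 h)

end Cfsg.Agent.S4565
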