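import Cfsg.Statements.S4567
import Cfsg.Agent.Lib.Char.CentralOver

set_option autoImplicit false
open Cfsg

namespace Cfsg.Agent.S4567

open CfsgLib.CharOver

/-- The shifting class functions. -/
def V {G : Type*} [Group G] (N : Subgroup G) (ψ : N → ℂ) : Submodule ℂ (G → ℂ) where
  carrier := {f | Cfsg.IsClassFunction G f ∧ Shifts N ψ f}
  add_mem' {a b} ha hb := ⟨fun g h => by simp [ha.1 g h, hb.1 g h],
    fun g n => by simp [ha.2 g n, hb.2 g n, mul_add]⟩
  zero_mem' := ⟨fun _ _ => rfl, fun _ _ => by simp⟩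
  smul_mem' c a ha := ⟨fun g h => by simp [ha.1 g h], fun g n => by simp [ha.2 g n]; ring⟩

theorem finrank_V {G : Type*} [Group G] [Fintype G] (N : Subgroup G) [N.Normal] [Fintype N]
    (hN : N ≤ Subgroup.center G) (ψ : Cfsg.IrrCharacter N)
    (hfaith : ∀ n : N, (ψ : N → ℂ) n = (ψ : N → ℂ) 1 → n = 1) :
    Module.finrank ℂ (V N (ψ : N → ℂ)) = Nat.card {C : ConjClasses (G ⧸ N) //
      ∃ g : G, ConjClasses.mk (g : G ⧸ N) = C ∧ ∀ x : G, x⁻¹ * g⁻¹ * x * g ∈ N → x * g = g * x} := by
  classical
  obtain ⟨h1, hm, -⟩ := abelian_irr (central_comm N hN) ψ.2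
  set S := {C : ConjClasses (G ⧸ N) //
    ∃ g : G, ConjClasses.mk (g : G ⧸ N) = C ∧ ∀ x : G, x⁻¹ * g⁻¹ * x * g ∈ N → x * g = g * x}
  let r : S → G := fun C => C.2.choose
  have hr1 : ∀ C : S, ConjClasses.mk ((r C : G) : G ⧸ N) = C.1 := fun C => C.2.choose_spec.1
  have hr2 : ∀ C : S, ∀ x : G, x⁻¹ * (r C)⁻¹ * x * r C ∈ N → x * r C = r C * x :=
    fun C => C.2.choose_spec.2
  let L : V N (ψ : N → ℂ) →ₗ[ℂ] (S → ℂ) :=
    { toFun := fun f C => (f : G → ℂ) (r C)
      map_add' := fun _ _ => rfl
      map_smul' := fun _ _ => rfl }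
  have hinj : Function.Injective L := by
    rw [injective_iff_map_eq_zero]
    rintro ⟨f, hfc, hfs⟩ hf
    have hf' : ∀ C : S, f (r C) = 0 := fun C => congrFun hf C
    apply Subtype.ext
    funext g
    show f g = 0
    by_cases hg : ∀ x : G, x⁻¹ * g⁻¹ * x * g ∈ N → x * g = g * x
    · let C : S := ⟨ConjClasses.mk (g : G ⧸ N), g, rfl, hg⟩
      obtain ⟨c, hc⟩ := isConj_iff.1 (ConjClasses.mk_eq_mk_iff_isConj.1 (hr1 C))
      obtain ⟨y, rfl⟩ := QuotientGroup.mk_surjective c
      rw [← QuotientGroup.mk_inv, ← QuotientGroup.mk_mul, ← QuotientGroup.mk_mul,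
        QuotientGroup.eq] at hc
      have : g = (y * r C * y⁻¹) * ((⟨_, hc⟩ : N) : G) := by
        show g = y * r C * y⁻¹ * ((y * r C * y⁻¹)⁻¹ * g)
        group
      rw [this, hfs, hfc, hf' C, mul_zero]
    · push Not at hg
      obtain ⟨x, hx, hne⟩ := hg
      refine Shifts.eq_zero N hN ψ hfaith hfc hfs g x hx fun h => hne ?_
      calc x * g = g * x * (x⁻¹ * g⁻¹ * x * g) := by group
        _ = g * x := by rw [h, mul_one]
  have hsurj : Function.Surjective L := by
    let δ : S → G → ℂ := fun C g =>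
      if h : (r C)⁻¹ * g ∈ N then (ψ : N → ℂ) ⟨(r C)⁻¹ * g, h⟩ else 0
    have hδ : ∀ C g (n : N), δ C (g * n) = (ψ : N → ℂ) n * δ C g := by
      intro C g n
      simp only [δ]
      by_cases h : (r C)⁻¹ * g ∈ N
      · have h' : (r C)⁻¹ * (g * n) ∈ N := by rw [← mul_assoc]; exact N.mul_mem h n.2
        rw [dif_pos h, dif_pos h', mul_comm ((ψ : N → ℂ) n), ← hm]
        refine congrArg (ψ : N → ℂ) ?_
        apply Subtype.ext
        show _ = _
        simp [mul_assoc]
      · have h' : ¬ (r C)⁻¹ * (g * n) ∈ N := by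
          rw [← mul_assoc]; exact fun h' => h ((N.mul_mem_cancel_right n.2).1 h')
        rw [dif_neg h, dif_neg h', mul_zero]
    let F : S → V N (ψ : N → ℂ) := fun C => ⟨fun g => ∑ x : G, δ C (x * g * x⁻¹),
      fun g h => Fintype.sum_equiv (Equiv.mulRight h) _ _ (fun x => by
        simp only [Equiv.coe_mulRight]; congr 1; group),
      fun g n => by
        rw [Finset.mul_sum]
        refine Finset.sum_congr rfl fun x _ => ?_
        rw [← hδ]
        congr 1
        have : (n : G) * x⁻¹ = x⁻¹ * n := ((Subgroup.mem_center_iff.1 (hN n.2)) x⁻¹).symm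
        calc x * (g * n) * x⁻¹ = x * g * ((n : G) * x⁻¹) := by group
          _ = x * g * x⁻¹ * n := by rw [this]; group⟩
    have hF : ∀ C D : S, C ≠ D → L (F C) D = 0 := by
      intro C D hne
      refine Finset.sum_eq_zero fun x _ => ?_
      simp only [δ]
      rw [dif_neg]
      intro h
      apply hne
      apply Subtype.ext
      rw [← hr1 C, ← hr1 D, ConjClasses.mk_eq_mk_iff_isConj, isConj_comm, isConj_iff]
      exact ⟨(x : G ⧸ N), by
        rw [← QuotientGroup.mk_inv, ← QuotientGroup.mk_mul, ← QuotientGroup.mk_mul, eq_comm,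
          QuotientGroup.eq]
        exact h⟩
    have hFC : ∀ C : S, L (F C) C ≠ 0 := by
      intro C
      have h : L (F C) C =
          ((Finset.univ.filter fun x : G => x * r C = r C * x).card : ℂ) := by
        rw [← Finset.sum_boole]
        refine Finset.sum_congr rfl fun x _ => ?_
        simp only [δ]
        by_cases hx : x * r C = r C * x
        · have he : (r C)⁻¹ * (x * r C * x⁻¹) = 1 := by rw [hx]; group
          rw [if_pos hx, dif_pos (by rw [he]; exact N.one_mem), ← h1]
          refine congrArg (ψ : N → ℂ) ?_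
          apply Subtype.ext
          exact he
        · rw [if_neg hx, dif_neg]
          intro hmem
          apply hx
          apply hr2 C
          have h2 := Subgroup.Normal.conj_mem inferInstance _ hmem x⁻¹
          convert h2 using 1
          group
      rw [h, Nat.cast_ne_zero, Finset.card_ne_zero]
      exact ⟨1, by simp⟩
    intro v
    refine ⟨∑ C : S, (v C / L (F C) C) • F C, ?_⟩
    funext D
    rw [map_sum, Finset.sum_apply, Finset.sum_eq_single D]
    · rw [map_smul, Pi.smul_apply, smul_eq_mul, div_mul_cancel₀ _ (hFC D)]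
    · intro C _ hne
      rw [map_smul, Pi.smul_apply, hF C D hne, smul_zero]
    · exact fun h => absurd (Finset.mem_univ D) h
  rw [(LinearEquiv.ofBijective L ⟨hinj, hsurj⟩).finrank_eq, Module.finrank_pi,
    Nat.card_eq_fintype_card]

/-- Let N be a central subgroup of the finite group G and ψ a faithful irreducible (hence degree-one) character of N. Call a coset g N special when every x ∈ G whose commutator x⁻¹ g⁻¹ x g lies in N actually commutes with g (this depends only on the coset). Then the number of irreducible characters of G whose restriction to N contains ψ equals the number of conjugacy classes of G/N consisting of special cosets. -/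
theorem result {G : Type*} [Group G] [Fintype G] (N : Subgroup G) [N.Normal] [Fintype N] (hN : N ≤ Subgroup.center G) (ψ : Cfsg.IrrCharacter ↥N) (hfaith : ∀ n : ↥N, (ψ : ↥N → ℂ) n = (ψ : ↥N → ℂ) 1 → n = 1) : Nat.card {χ : Cfsg.IrrCharacter G // Cfsg.classInner (fun n : ↥N => (χ : G → ℂ) n) (ψ : ↥N → ℂ) ≠ 0} = Nat.card {C : ConjClasses (G ⧸ N) // ∃ g : G, ConjClasses.mk (g : G ⧸ N) = C ∧ ∀ x : G, x⁻¹ * g⁻¹ * x * g ∈ N → x * g = g * x} := by
  classical
  rw [← finrank_V N hN ψ hfaith]
  set p : Cfsg.IrrCharacter G → Prop :=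
    fun χ => Cfsg.classInner (fun n : ↥N => (χ : G → ℂ) n) (ψ : ↥N → ℂ) ≠ 0
  let v : {χ // p χ} → V N (ψ : N → ℂ) := fun χ =>
    ⟨(χ.1 : G → ℂ), CfsgLib.Char.IsIrrCharacter.isClassFunction χ.1.2,
      (classInner_ne_zero_iff N hN ψ χ.1).1 χ.2⟩
  have hli : LinearIndependent ℂ v := by
    apply LinearIndependent.of_comp (V N (ψ : N → ℂ)).subtype
    exact CfsgLib.Char.linearIndependent_irrCharacter.comp
      (fun χ : {χ // p χ} => χ.1) Subtype.val_injective
  have hsp : ⊤ ≤ Submodule.span ℂ (Set.range v) := by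
    rintro ⟨f, hfc, hfs⟩ -
    have he := CfsgLib.Char.IsClassFunction.eq_sum_classInner hfc
    have hmem : (⟨f, hfc, hfs⟩ : V N (ψ : N → ℂ)) =
        ∑ χ : {χ // p χ}, Cfsg.classInner f (χ.1 : G → ℂ) • v χ := by
      apply Subtype.ext
      rw [Submodule.coe_sum]
      show f = ∑ χ : {χ // p χ}, Cfsg.classInner f (χ.1 : G → ℂ) • (χ.1 : G → ℂ)
      conv_lhs => rw [he]
      rw [← Finset.sum_subtype (Finset.univ.filter p) (fun χ => by simp)
        (fun χ : Cfsg.IrrCharacter G => Cfsg.classInner f (χ : G → ℂ) • (χ : G → ℂ)),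
        Finset.sum_filter]
      refine Finset.sum_congr rfl fun χ _ => ?_
      split_ifs with h
      · rfl
      · rw [Shifts.expand N hN ψ hfs χ (mt (classInner_ne_zero_iff N hN ψ χ).2 h), zero_smul]
    rw [hmem]
    exact Submodule.sum_mem _ fun χ _ =>
      Submodule.smul_mem _ _ (Submodule.subset_span ⟨χ, rfl⟩)
  rw [Module.finrank_eq_card_basis (Module.Basis.mk hli hsp), Nat.card_eq_fintype_card]

end Cfsg.Agent.S4567
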