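import Cfsg.Statements.S4571
import Cfsg.Agent.Lib.BlockPrincipal.Criterion
import Cfsg.Agent.Lib.BlockRank.Basic
import Cfsg.Agent.Lib.Char.Twist
import Cfsg.Agent.Lib.Char.Complete


set_option autoImplicit false
open Cfsg

namespace Cfsg.Agent.S4571

open Cfsg CfsgLib CfsgLib.BlockReg CfsgLib.BlockPrincipal
open scoped Pointwise

variable {G : Type*} [Group G] [Finite G] {p : ℕ} [Fact p.Prime]

/-- If `G = Q·C(Q)` for a normal `p`-subgroup `Q`, every coset of `Q` holds at most one regular element. -/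
theorem regular_inj (Q : Subgroup G) [Q.Normal] (hQ : IsPGroup p Q)
    (hsup : Q ⊔ Subgroup.centralizer (Q : Set G) = ⊤) {g g' : G} (hg : ¬ p ∣ orderOf g)
    (hg' : ¬ p ∣ orderOf g') (h : (g : G ⧸ Q) = g') : g = g' := by
  have hp : p.Prime := Fact.out
  have hnorm : (Subgroup.centralizer (Q : Set G)).Normal := inferInstance
  have hcent : g ∈ Subgroup.centralizer (Q : Set G) := by
    set C := Subgroup.centralizer (Q : Set G)
    have hmap : ∀ x : G, ∃ q : Q, ((q : G) : G ⧸ C) = x := by
      intro x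
      have hx : x ∈ ((Q : Set G) * (C : Set G) : Set G) := by
        rw [← Subgroup.mul_normal, hsup]; trivial
      obtain ⟨q, hq, c, hc, rfl⟩ := hx
      exact ⟨⟨q, hq⟩, QuotientGroup.eq.2 (by simpa using hc)⟩
    obtain ⟨q, hq⟩ := hmap g
    obtain ⟨j, hj⟩ := hQ q
    rw [← QuotientGroup.eq_one_iff (N := C)]
    have h1 : (g : G ⧸ C) ^ p ^ j = 1 := by
      rw [← hq, ← QuotientGroup.mk_pow, ← Subgroup.coe_pow, hj, Subgroup.coe_one,
        QuotientGroup.mk_one]
    have h2 : (g : G ⧸ C) ^ orderOf g = 1 := by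
      rw [← QuotientGroup.mk_pow, pow_orderOf_eq_one, QuotientGroup.mk_one]
    have hco : Nat.gcd (p ^ j) (orderOf g) = 1 :=
      Nat.Coprime.pow_left _ (hp.coprime_iff_not_dvd.2 hg)
    have := pow_gcd_eq_one.2 ⟨h1, h2⟩
    rwa [hco, pow_one] at this
  set w := g⁻¹ * g' with hw
  have hwQ : w ∈ Q := QuotientGroup.eq.1 h
  obtain ⟨j, hj⟩ := hQ ⟨w, hwQ⟩
  have hj' : w ^ p ^ j = 1 := by simpa using congrArg (fun x : Q => (x : G)) hj
  have hw1 : w = 1 := eq_one_of_regular_mul (Subgroup.mem_centralizer_iff.1 hcent w hwQ).symm hg hj'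
    (by rw [hw, mul_inv_cancel_left]; exact hg')
  rw [hw, inv_mul_eq_one] at hw1
  exact hw1

/-- Every regular element of a quotient has a regular preimage. -/
theorem exists_regular_lift (Q : Subgroup G) [Q.Normal] (x : G ⧸ Q) (hx : ¬ p ∣ orderOf x) :
    ∃ g : G, ¬ p ∣ orderOf g ∧ (g : G ⧸ Q) = x := by
  have hp : p.Prime := Fact.out
  obtain ⟨g, rfl⟩ := QuotientGroup.mk_surjective x
  obtain ⟨a, n', hn', hcard⟩ := Nat.exists_eq_pow_mul_and_not_dvd
    (Nat.card_pos (α := G)).ne' p hp.ne_one
  have hco : Nat.Coprime (p ^ a) n' := Nat.Coprime.pow_left _ (hp.coprime_iff_not_dvd.2 hn')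
  obtain ⟨m, hm0, hm1⟩ := Nat.chineseRemainder hco 0 1
  refine ⟨g ^ m, fun hd => hn' (hd.trans (orderOf_dvd_of_pow_eq_one ?_)), ?_⟩
  · obtain ⟨c, hc⟩ := Nat.modEq_zero_iff_dvd.1 hm0
    rw [← pow_mul, hc, show p ^ a * c * n' = Nat.card G * c by rw [hcard]; ring, pow_mul,
      pow_card_eq_one', one_pow]
  · rw [QuotientGroup.mk_pow]
    conv_rhs => rw [← pow_one (g : G ⧸ Q)]
    refine pow_eq_pow_iff_modEq.2 (hm1.of_dvd ?_)
    refine (Nat.Coprime.dvd_mul_left (Nat.Coprime.pow_right a
      ((hp.coprime_iff_not_dvd.2 hx).symm))).1 ?_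
    rw [← hcard]
    exact (orderOf_dvd_natCard _).trans (Subgroup.card_quotient_dvd_card Q)

theorem regular_mk (Q : Subgroup G) [Q.Normal] {g : G} (hg : ¬ p ∣ orderOf g) :
    ¬ p ∣ orderOf (g : G ⧸ Q) :=
  fun h => hg (h.trans (orderOf_map_dvd (QuotientGroup.mk' Q) g))


/-- Let Q be a normal p-subgroup of the finite group G with G = Q·C_G(Q), and M a maximal ideal of the algebraic integers containing p. Then the principal p-blocks of G and of G/Q have the same p-regular rank (the same number of irreducible Brauer characters). -/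
theorem result {G : Type*} [Group G] [Finite G] (p : ℕ) [Fact p.Prime] (M : Ideal Cfsg.AlgInt) (hM : Cfsg.IsPModular p M) (Q : Subgroup G) [Q.Normal] (hQ : IsPGroup p Q) (hsup : Q ⊔ Subgroup.centralizer (Q : Set G) = ⊤) : Cfsg.blockRank p (Cfsg.principalBlock M G) = Cfsg.blockRank p (Cfsg.principalBlock M (G ⧸ Q)) := by
  classical
  let _ := Fintype.ofFinite G
  let _ := Fintype.ofFinite (G ⧸ Q)
  let infl : IrrCharacter (G ⧸ Q) → IrrCharacter G := fun χ =>
    ⟨(χ : G ⧸ Q → ℂ) ∘ QuotientGroup.mk' Q,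
      CharTwist.isIrrCharacter_comp χ.2 _ (QuotientGroup.mk'_surjective Q)⟩
  have hinj : Function.Injective infl := fun a b h => Subtype.ext (funext fun x => by
    obtain ⟨g, rfl⟩ := QuotientGroup.mk_surjective x
    exact congrFun (congrArg Subtype.val h) g)
  have hblock : ∀ χ : IrrCharacter (G ⧸ Q),
      infl χ ∈ principalBlock M G ↔ χ ∈ principalBlock M (G ⧸ Q) := by
    intro χ
    rw [mem_principal_iff hM, mem_principal_iff hM]
    have h1 : (infl χ : G → ℂ) 1 = (χ : G ⧸ Q → ℂ) 1 := rfl
    have h2 : regSum p (infl χ : G → ℂ) = regSum p (χ : G ⧸ Q → ℂ) := by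
      refine Finset.sum_bij (fun (g : G) _ => (g : G ⧸ Q)) (fun g hg => ?_) (fun a ha b hb h => ?_)
        (fun x hx => ?_) (fun g _ => rfl)
      · simp only [Finset.mem_filter, Finset.mem_univ, true_and] at hg ⊢
        exact regular_mk Q hg
      · simp only [Finset.mem_filter, Finset.mem_univ, true_and] at ha hb
        exact regular_inj Q hQ hsup ha hb h
      · simp only [Finset.mem_filter, Finset.mem_univ, true_and] at hx
        obtain ⟨g, hg, rfl⟩ := exists_regular_lift Q x hx
        exact ⟨g, by simpa using hg, rfl⟩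
    rw [h1, h2]
  let L : (G ⧸ Q → ℂ) →ₗ[ℂ] (G → ℂ) :=
    (BlockRank.regLin p).comp (LinearMap.funLeft ℂ ℂ (QuotientGroup.mk' Q))
  have hL : ∀ χ : IrrCharacter (G ⧸ Q),
      L (pRegularPart p (χ : G ⧸ Q → ℂ)) = pRegularPart p (infl χ : G → ℂ) := by
    intro χ
    funext g
    simp only [L, LinearMap.comp_apply, BlockRank.regLin_apply, BlockRank.pRegularPart_apply,
      LinearMap.funLeft_apply]
    split_ifs with h1 h2
    · rfl
    · exact absurd (regular_mk Q h1) h2
    · rfl
  set W := Submodule.span ℂ ((fun χ : IrrCharacter (G ⧸ Q) =>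
    pRegularPart p (χ : G ⧸ Q → ℂ)) '' principalBlock M (G ⧸ Q)) with hW
  have hmap : W.map L = Submodule.span ℂ ((fun χ : IrrCharacter G =>
      pRegularPart p (χ : G → ℂ)) '' principalBlock M G) := by
    apply le_antisymm
    · rw [hW, Submodule.map_span, Submodule.span_le]
      rintro _ ⟨_, ⟨χ, hχ, rfl⟩, rfl⟩
      exact Submodule.subset_span ⟨infl χ, (hblock χ).2 hχ, (hL χ).symm⟩
    · rw [Submodule.span_le]
      rintro _ ⟨ξ, hξ, rfl⟩
      choose lift hlift1 hlift2 using exists_regular_lift (p := p) Q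
      let f : G ⧸ Q → ℂ := fun x => if h : p ∣ orderOf x then 0 else (ξ : G → ℂ) (lift x h)
      have hf : IsClassFunction (G ⧸ Q) f := by
        intro x y
        obtain ⟨c, rfl⟩ := QuotientGroup.mk_surjective y
        have ho : orderOf ((c : G ⧸ Q) * x * (c : G ⧸ Q)⁻¹) = orderOf x :=
          MulEquiv.orderOf_eq (MulAut.conj (c : G ⧸ Q)) x
        by_cases hx : p ∣ orderOf x
        · simp only [f, dif_pos hx, dif_pos (ho.symm ▸ hx : p ∣ orderOf ((c : G ⧸ Q) * x * (c : G ⧸ Q)⁻¹))]
        · have hx' : ¬ p ∣ orderOf ((c : G ⧸ Q) * x * (c : G ⧸ Q)⁻¹) := ho.symm ▸ hx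
          simp only [f, dif_neg hx, dif_neg hx']
          refine (char_conj_invariant ξ _ _ (isConj_iff.2 ⟨c, ?_⟩)).symm
          refine regular_inj Q hQ hsup ?_ (hlift1 _ hx') ?_
          · rw [show orderOf (c * lift x hx * c⁻¹) = orderOf (lift x hx) from
              MulEquiv.orderOf_eq (MulAut.conj c) _]
            exact hlift1 _ _
          · rw [QuotientGroup.mk_mul, QuotientGroup.mk_mul, QuotientGroup.mk_inv, hlift2, hlift2]
      set a : IrrCharacter (G ⧸ Q) → ℂ := fun χ => classInner f (χ : G ⧸ Q → ℂ)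
      have hexp : ∀ g : G, ¬ p ∣ orderOf g →
          ∑ χ, a χ * (infl χ : G → ℂ) g = (ξ : G → ℂ) g := by
        intro g hg
        have := congrFun (Char.IsClassFunction.eq_sum_classInner hf) (g : G ⧸ Q)
        simp only [Finset.sum_apply, Pi.smul_apply, smul_eq_mul] at this
        refine this.symm.trans ?_
        simp only [f, dif_neg (regular_mk Q hg)]
        exact congrArg _ (regular_inj Q hQ hsup (hlift1 _ _) hg (hlift2 _ _))
      let c : IrrCharacter G → ℂ := fun η => ∑ χ, if infl χ = η then a χ else 0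
      have hc : ∀ (S : Finset (IrrCharacter G)) (g : G), ∑ η ∈ S, c η * (η : G → ℂ) g =
          ∑ χ, if infl χ ∈ S then a χ * (infl χ : G → ℂ) g else 0 := by
        intro S g
        simp only [c, Finset.sum_mul, ite_mul, zero_mul]
        rw [Finset.sum_comm]
        refine Finset.sum_congr rfl fun χ _ => ?_
        rw [Finset.sum_ite_eq]
      have hproj := proj_regular hM (B := principalBlock M G) ⟨Char.principalIrr, rfl⟩
        (fun η => if η = ξ then 1 else 0) c (fun g hg => by
          rw [finsum_mem_eq_toFinset_sum, finsum_eq_sum_of_fintype, hc Finset.univ g]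
          simp only [Finset.mem_univ, if_true, ite_mul, one_mul, zero_mul]
          rw [Finset.sum_ite_eq', if_pos (Set.mem_toFinset.2 hξ), hexp g hg])
      refine ⟨∑ χ, (if χ ∈ principalBlock M (G ⧸ Q) then a χ else 0) •
        pRegularPart p (χ : G ⧸ Q → ℂ), Submodule.sum_mem _ fun χ _ => ?_, ?_⟩
      · split_ifs with h
        · exact Submodule.smul_mem _ _ (Submodule.subset_span ⟨χ, h, rfl⟩)
        · rw [zero_smul]; exact Submodule.zero_mem _
      · simp only [map_sum, map_smul, hL]
        funext g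
        simp only [Finset.sum_apply, Pi.smul_apply, smul_eq_mul, BlockRank.pRegularPart_apply]
        by_cases hg : IsPRegular p g
        · have hp' := hproj g hg
          rw [finsum_mem_eq_toFinset_sum, finsum_mem_eq_toFinset_sum, hc] at hp'
          simp only [ite_mul, one_mul, zero_mul] at hp'
          rw [Finset.sum_ite_eq', if_pos (Set.mem_toFinset.2 hξ)] at hp'
          simp only [if_pos hg, hp', Set.mem_toFinset, hblock, ite_mul, zero_mul]
        · simp [hg]
  have hdisj : W ≤ LinearMap.range (BlockRank.regLin p) := by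
    rw [hW, Submodule.span_le]
    rintro _ ⟨χ, _, rfl⟩
    exact ⟨_, rfl⟩
  have hLinj : Function.Injective (L.domRestrict W) := by
    rw [← LinearMap.ker_eq_bot, eq_bot_iff]
    rintro ⟨w, hw⟩ hw0
    simp only [LinearMap.mem_ker, LinearMap.domRestrict_apply] at hw0
    rw [Submodule.mem_bot]
    refine Subtype.ext (funext fun x => ?_)
    obtain ⟨w', rfl⟩ := hdisj hw
    simp only [BlockRank.regLin_apply, BlockRank.pRegularPart_apply, ZeroMemClass.coe_zero,
      Pi.zero_apply]
    split_ifs with hx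
    · obtain ⟨g, hg, rfl⟩ := exists_regular_lift Q x hx
      have := congrFun hw0 g
      simp only [L, LinearMap.comp_apply, BlockRank.regLin_apply, BlockRank.pRegularPart_apply,
        LinearMap.funLeft_apply, Pi.zero_apply] at this
      rw [if_pos (show IsPRegular p g from hg)] at this
      simpa [hx] using this
    · rfl
  unfold blockRank
  rw [← hmap, ← hW, ← LinearMap.range_domRestrict]
  exact (LinearMap.finrank_range_of_inj hLinj)

end Cfsg.Agent.S4571
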