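import Cfsg.Statements.S4573
import Cfsg.Agent.Lib.BlockPrincipal.MGroupWreath
import Cfsg.Agent.Lib.WreathEmbed.Basic

set_option autoImplicit false
universe u
open Cfsg

namespace Cfsg.Agent.S4573

open CfsgLib

/-- `G` embeds in an M-group. -/
def EmbedsMono (G : Type u) [Group G] [Finite G] : Prop :=
  ∃ (M : Type u) (_ : Group M) (_ : Fintype M), MWreath.IsMono M ∧ ∃ f : G →* M, Function.Injective f


/-- Every finite solvable group is isomorphic to a subgroup of a finite M-group, a group each of whose irreducible characters is induced from a homomorphism of some subgroup into ℂˣ. -/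
theorem result {G : Type u} [Group G] [Finite G] (hsolv : Group.IsSolvable G) : ∃ (M : Type u) (_ : Group M) (_ : Fintype M), (∀ χ : M → ℂ, Cfsg.IsIrrCharacter M χ → (∃ (H : Subgroup M) (lam : ↥H →* ℂˣ), χ = Cfsg.indFun H (fun h => (lam h : ℂ)))) ∧ ∃ f : G →* M, Function.Injective f := by
  classical
  suffices h : EmbedsMono G by
    obtain ⟨M, i1, i2, hM, hf⟩ := h
    exact ⟨M, i1, i2, hM, hf⟩
  refine WreathEmbed.solvable_induction (P := fun G _ _ => EmbedsMono G) ?_ ?_ G hsolv
  · intro G _ _ _
    haveI : Fintype G := Fintype.ofFinite G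
    refine ⟨G, inferInstance, inferInstance, fun χ hχ => ⟨⊤, 1, funext fun g => ?_⟩,
      MonoidHom.id G, Function.injective_id⟩
    rw [Subsingleton.elim g 1, Char.indFun_apply_one, Subgroup.index_top,
      PrincipalCover.irr_apply_one_of_comm (fun a b => Subsingleton.elim _ _) hχ]
    simp
  · intro G _ _ N _ p _ e f hf _ hN
    obtain ⟨M, _, _, hM, g, hg⟩ := hN
    haveI : Fintype (RegularWreathProduct M (Multiplicative (ZMod p))) := Fintype.ofFinite _
    exact ⟨RegularWreathProduct M (Multiplicative (ZMod p)), inferInstance, inferInstance,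
      MWreath.isMono_wreath hM, (WreathEmbed.mapLeft _ g).comp f,
      (WreathEmbed.mapLeft_injective _ g hg).comp hf⟩

end Cfsg.Agent.S4573
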