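import Cfsg.Statements.S4574
import Cfsg.Agent.Lib.Char.PowerMap
import Cfsg.Agent.Lib.Char.Orth
import Mathlib.Analysis.SpecialFunctions.Log.Basic

set_option autoImplicit false
open Cfsg

namespace Cfsg.Agent.S4574

open Polynomial

/-- The coprime residues. -/
def units' (n : ℕ) : Finset ℕ := (Finset.range n).filter fun m => m.Coprime n

/-- `‖χ g‖ = χ 1` passes to the powers of `g`. -/
theorem norm_pow {G : Type*} [Group G] [Finite G] {d : ℕ}
    (ρ : Representation ℂ G (Fin d → ℂ)) (g : G) (h : ‖ρ.character g‖ = (d : ℝ)) (k : ℕ) :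
    ‖ρ.character (g ^ k)‖ = (d : ℝ) := by
  obtain ⟨μ, hμ, hn, -, hpow⟩ := CfsgLib.Char.exists_eigenvalues ρ g
  have hd : Module.finrank ℂ (Fin d → ℂ) = d := by simp
  have h1 := hpow 1
  simp only [pow_one] at h1
  obtain ⟨ω, hω⟩ := CfsgLib.Char.eq_of_norm_sum_eq_card (Finset.univ.val.map μ)
    (fun z hz => by
      obtain ⟨i, -, rfl⟩ := Multiset.mem_map.1 hz
      exact hn i)
    (by
      rw [show (Finset.univ.val.map μ).sum = ∑ i, μ i from rfl, ← h1, h]
      simp)
  rw [hpow k]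
  have he : ∀ i, μ i = ω := fun i => hω _ (Multiset.mem_map.2 ⟨i, Finset.mem_univ_val i, rfl⟩)
  rcases Nat.eq_zero_or_pos d with hd0 | hd0
  · have : IsEmpty (Fin (Module.finrank ℂ (Fin d → ℂ))) := by rw [hd, hd0]; infer_instance
    simp [hd0]
  · have i₀ : Fin (Module.finrank ℂ (Fin d → ℂ)) := ⟨0, hd.symm ▸ hd0⟩
    have hω1 : ‖ω‖ = 1 := he i₀ ▸ hn i₀
    simp [he, hω1]

/-- The product over the coprime powers of a nonzero value has norm at least one. -/
theorem one_le_prod {G : Type*} [Group G] [Finite G] {d : ℕ}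
    (ρ : Representation ℂ G (Fin d → ℂ)) (g : G)
    (hne : ∀ m ∈ units' (Nat.card G), ρ.character (g ^ m) ≠ 0) :
    1 ≤ ‖∏ m ∈ units' (Nat.card G), ρ.character (g ^ m)‖ := by
  classical
  set n := Nat.card G with hn
  have hn0 : 0 < n := Nat.card_pos
  have : NeZero n := ⟨hn0.ne'⟩
  let ζ := Complex.exp (2 * Real.pi * Complex.I / n)
  have hζ : IsPrimitiveRoot ζ n := Complex.isPrimitiveRoot_exp n hn0.ne'
  have hg : g ^ n = 1 := pow_card_eq_one'
  obtain ⟨P, hP⟩ := CfsgLib.CharPower.exists_poly ρ g hn0 hg hζ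
  let R : ℤ[X] := ∏ m ∈ units' n, P.comp (X ^ m)
  have hR : ∀ i : ℕ, aeval (ζ ^ i) R = ∏ m ∈ units' n, ρ.character (g ^ (i * m)) := by
    intro i
    rw [map_prod]
    refine Finset.prod_congr rfl fun m _ => ?_
    rw [aeval_comp, map_pow, aeval_X, ← pow_mul, hP]
  have hconst : ∀ η : ℂ, IsPrimitiveRoot η n → aeval η R = aeval ζ R := by
    intro η hη
    obtain ⟨i, -, rfl⟩ := hζ.eq_pow_of_pow_eq_one hη.pow_eq_one
    have hi : i.Coprime n := (hζ.pow_iff_coprime hn0 i).mp hη
    conv_rhs => rw [← pow_one ζ, hR 1]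
    rw [hR i]
    have hmem : ∀ m ∈ units' n, i * m % n ∈ units' n := by
      intro m hm
      rw [units', Finset.mem_filter, Finset.mem_range] at hm ⊢
      refine ⟨Nat.mod_lt _ hn0, ?_⟩
      rw [Nat.Coprime, ← Nat.gcd_rec, Nat.gcd_comm]
      exact Nat.Coprime.mul_left hi hm.2
    refine Finset.prod_bij (fun m _ => i * m % n) hmem ?_ ?_ ?_
    · intro a ha b hb h
      rw [units', Finset.mem_filter, Finset.mem_range] at ha hb
      have h' : a ≡ b [MOD n] :=
        Nat.ModEq.cancel_left_of_coprime (by rw [Nat.gcd_comm]; exact hi) h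
      exact h'.eq_of_lt_of_lt ha.1 hb.1
    · intro b hb
      have hinj : Set.InjOn (fun m => i * m % n) (units' n : Set ℕ) := by
        intro a ha b hb h
        simp only [units', Finset.coe_filter, Finset.mem_range, Set.mem_setOf_eq] at ha hb
        have h' : a ≡ b [MOD n] :=
          Nat.ModEq.cancel_left_of_coprime (by rw [Nat.gcd_comm]; exact hi) h
        exact h'.eq_of_lt_of_lt ha.1 hb.1
      have himg : (units' n).image (fun m => i * m % n) = units' n :=
        Finset.eq_of_subset_of_card_le (Finset.image_subset_iff.2 hmem)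
          (by rw [Finset.card_image_of_injOn hinj])
      rw [← himg, Finset.mem_image] at hb
      obtain ⟨a, ha, rfl⟩ := hb
      exact ⟨a, ha, rfl⟩
    · intro m _
      rw [one_mul, ← pow_eq_pow_mod (i * m) hg]
  obtain ⟨q, hq⟩ := CfsgLib.CharPower.exists_rat_of_aeval_const hn0 hζ R hconst
  have hprod : ∏ m ∈ units' n, ρ.character (g ^ m) = (q : ℂ) := by
    rw [← hq]
    conv_rhs => rw [← pow_one ζ, hR 1]
    exact Finset.prod_congr rfl fun m _ => by rw [one_mul]
  have hint : IsIntegral ℤ (q : ℂ) :=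
    hprod ▸ IsIntegral.prod _ fun m _ => CfsgLib.Char.isIntegral_character ρ _
  obtain ⟨z, hz⟩ := CfsgLib.Char.exists_int_of_isIntegral_ratCast hint
  have hz0 : z ≠ 0 := by
    rintro rfl
    rw [← hz] at hprod
    simp only [Int.cast_zero, Rat.cast_zero, Finset.prod_eq_zero_iff] at hprod
    obtain ⟨m, hm, h⟩ := hprod
    exact hne m hm h
  rw [hprod, ← hz, Rat.cast_intCast, Complex.norm_intCast]
  exact_mod_cast Int.one_le_abs hz0

/-- Counting: the values of norm neither `0` nor `χ 1` have square norm `≥ 1` on average. -/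
theorem card_le_sum {G : Type*} [Group G] [Fintype G] [DecidableEq G] {d : ℕ}
    (ρ : Representation ℂ G (Fin d → ℂ)) :
    ((Finset.univ.filter fun g : G => ρ.character g ≠ 0 ∧ ‖ρ.character g‖ ≠ (d : ℝ)).card : ℝ) ≤
      ∑ g ∈ Finset.univ.filter fun g : G => ρ.character g ≠ 0 ∧ ‖ρ.character g‖ ≠ (d : ℝ),
        ‖ρ.character g‖ ^ 2 := by
  classical
  set R := Finset.univ.filter fun g : G => ρ.character g ≠ 0 ∧ ‖ρ.character g‖ ≠ (d : ℝ)
  set n := Nat.card G
  have hn0 : 0 < n := Nat.card_pos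
  have hback : ∀ m ∈ units' n, ∃ k : ℕ, ∀ g : G, (g ^ m) ^ k = g := by
    intro m hm
    rw [units', Finset.mem_filter] at hm
    obtain ⟨k, -, hk⟩ := Nat.exists_mul_mod_eq_of_coprime 1 hm.2 hn0.ne'
    refine ⟨k, fun g => ?_⟩
    rw [← pow_mul, pow_eq_pow_mod (m * k) (pow_card_eq_one' : g ^ n = 1), hk,
      ← pow_eq_pow_mod 1 (pow_card_eq_one' : g ^ n = 1), pow_one]
  have hzero : ∀ (g : G) (k : ℕ), k.Coprime n → ρ.character g = 0 → ρ.character (g ^ k) = 0 := by
    intro g k hk h0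
    have hg : g ^ n = 1 := pow_card_eq_one'
    have h := (CfsgLib.CharPower.exists_rat_iff (χ := ρ.character) ⟨d, ρ, rfl⟩ g hn0 hg).1
      ⟨0, by simp [h0]⟩ k hk
    rw [h, h0]
  have hsum : ∀ m ∈ units' n, ∑ g ∈ R, ‖ρ.character g‖ ^ 2 = ∑ g ∈ R, ‖ρ.character (g ^ m)‖ ^ 2 := by
    intro m hm
    obtain ⟨k, hk⟩ := hback m hm
    have hkc : k.Coprime n ∨ n = 1 := by
      by_cases h1 : n = 1
      · exact Or.inr h1
      refine Or.inl (Nat.coprime_of_dvd fun p hp hpk hpn => ?_)
      obtain ⟨x, hx⟩ := exists_prime_orderOf_dvd_card' (hp := ⟨hp⟩) p hpn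
      have h2 : x ^ (m * k) = x := by rw [pow_mul, hk]
      have h3 : x ^ (m * k) = 1 := orderOf_dvd_iff_pow_eq_one.1 (hx ▸ Dvd.dvd.mul_left hpk m)
      rw [h3] at h2
      rw [← h2, orderOf_one] at hx
      exact hp.ne_one hx.symm
    have hkc' : k.Coprime n := hkc.elim id fun h => by rw [h]; exact Nat.coprime_one_right k
    have hmap : ∀ g ∈ R, g ^ m ∈ R := by
      intro g hg
      simp only [R, Finset.mem_filter, Finset.mem_univ, true_and] at hg ⊢
      refine ⟨fun h => hg.1 ?_, fun h => hg.2 ?_⟩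
      · rw [← hk g]; exact hzero _ k hkc' h
      · rw [← hk g]; exact norm_pow ρ _ h k
    have hinj : Set.InjOn (fun g : G => g ^ m) (R : Set G) := fun a _ b _ h => by
      rw [← hk a, ← hk b]
      exact congrArg (· ^ k) h
    have himg : R.image (fun g => g ^ m) = R :=
      Finset.eq_of_subset_of_card_le (Finset.image_subset_iff.2 hmap)
        (by rw [Finset.card_image_of_injOn hinj])
    conv_lhs => rw [← himg, Finset.sum_image hinj]
  have hU : 0 < (units' n).card := Finset.card_pos.2 ⟨1 % n, by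
    rw [units', Finset.mem_filter, Finset.mem_range]
    exact ⟨Nat.mod_lt _ hn0, by
      rw [Nat.Coprime, ← Nat.gcd_rec, Nat.gcd_one_right]⟩⟩
  have key : ∀ g ∈ R, ((units' n).card : ℝ) ≤ ∑ m ∈ units' n, ‖ρ.character (g ^ m)‖ ^ 2 := by
    intro g hg
    simp only [R, Finset.mem_filter, Finset.mem_univ, true_and] at hg
    have hne : ∀ m ∈ units' n, ρ.character (g ^ m) ≠ 0 := by
      intro m hm h
      obtain ⟨k, hk⟩ := hback m hm
      rw [units', Finset.mem_filter] at hm
      have hh := (CfsgLib.CharPower.exists_rat_iff (χ := ρ.character) ⟨d, ρ, rfl⟩ (g ^ m) hn0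
        (pow_card_eq_one' : (g ^ m) ^ n = 1)).1 ⟨0, by simp [h]⟩
      apply hg.1
      have hg2 : g = (g ^ m) ^ k := (hk g).symm
      have hkc : k.Coprime n ∨ ∀ x : G, x = 1 := by
        by_cases h1 : ∀ x : G, x = 1
        · exact Or.inr h1
        refine Or.inl (Nat.coprime_of_dvd fun p hp hpk hpn => ?_)
        obtain ⟨x, hx⟩ := exists_prime_orderOf_dvd_card' (hp := ⟨hp⟩) p hpn
        have h3 : x ^ (m * k) = 1 := orderOf_dvd_iff_pow_eq_one.1 (hx ▸ Dvd.dvd.mul_left hpk m)
        rw [pow_mul, hk] at h3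
        rw [h3, orderOf_one] at hx
        exact hp.ne_one hx.symm
      rcases hkc with hkc | hkc
      · rw [hg2, hh k hkc, h]
      · rw [hkc g, ← hkc (g ^ m), h]
    have hp := one_le_prod ρ g hne
    rw [norm_prod] at hp
    have hpos : ∀ m ∈ units' n, (0 : ℝ) < ‖ρ.character (g ^ m)‖ ^ 2 := fun m hm =>
      pow_pos (norm_pos_iff.2 (hne m hm)) 2
    have hlog : 0 ≤ ∑ m ∈ units' n, Real.log (‖ρ.character (g ^ m)‖ ^ 2) := by
      rw [← Real.log_prod fun m hm => (hpos m hm).ne', Finset.prod_pow]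
      exact Real.log_nonneg (one_le_pow₀ hp)
    have hle : ∑ m ∈ units' n, Real.log (‖ρ.character (g ^ m)‖ ^ 2) ≤
        ∑ m ∈ units' n, (‖ρ.character (g ^ m)‖ ^ 2 - 1) :=
      Finset.sum_le_sum fun m hm => Real.log_le_sub_one_of_pos (hpos m hm)
    rw [Finset.sum_sub_distrib, Finset.sum_const, nsmul_one] at hle
    linarith
  have h2 := Finset.sum_le_sum key
  rw [Finset.sum_const, nsmul_eq_mul, Finset.sum_comm, ← Finset.sum_congr rfl hsum,
    Finset.sum_const, nsmul_eq_mul] at h2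
  refine le_of_mul_le_mul_left ?_ (show (0 : ℝ) < (units' n).card by exact_mod_cast hU)
  rw [mul_comm]
  exact h2

theorem core {G : Type*} [Group G] [Fintype G] [DecidableEq G] {d : ℕ}
    (ρ : Representation ℂ G (Fin d → ℂ)) (hirr : ρ.IsIrreducible) (hd : 1 ≤ d) :
    (d ^ 2 - 1) * (Finset.univ.filter (fun g : G => ‖ρ.character g‖ = (d : ℝ))).card ≤
        (Finset.univ.filter (fun g : G => ρ.character g = 0)).card ∧
      ((∀ g : G, ‖ρ.character g‖ = 0 ∨ ‖ρ.character g‖ = 1 ∨ ‖ρ.character g‖ = (d : ℝ)) →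
        (d ^ 2 - 1) * (Finset.univ.filter (fun g : G => ‖ρ.character g‖ = (d : ℝ))).card =
          (Finset.univ.filter (fun g : G => ρ.character g = 0)).card) := by
  classical
  set f : G → ℂ := ρ.character
  set A := Finset.univ.filter (fun g : G => ‖f g‖ = (d : ℝ))
  set Z := Finset.univ.filter (fun g : G => f g = 0)
  set R := Finset.univ.filter fun g : G => f g ≠ 0 ∧ ‖f g‖ ≠ (d : ℝ)
  have htot : ∑ g : G, ‖f g‖ ^ 2 = (Fintype.card G : ℝ) := by
    have h := CfsgLib.Char.classInner_irr_self (χ := f) ⟨d, ρ, hirr, rfl⟩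
    rw [Cfsg.classInner, inv_mul_eq_one₀ (Nat.cast_ne_zero.2 Nat.card_pos.ne')] at h
    rw [Nat.card_eq_fintype_card] at h
    have h2 := congrArg Complex.re h
    simp only [Complex.natCast_re, Complex.re_sum, Complex.mul_conj', ← Complex.ofReal_pow,
      Complex.ofReal_re] at h2
    exact h2.symm
  have hsplit : ∀ F : G → ℝ, ∑ g : G, F g = (∑ g ∈ A, F g) + (∑ g ∈ Z, F g) + ∑ g ∈ R, F g := by
    intro F
    simp only [A, Z, R, Finset.sum_filter, ← Finset.sum_add_distrib]
    refine Finset.sum_congr rfl fun g _ => ?_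
    by_cases h0 : f g = 0
    · have hd' : ‖f g‖ ≠ (d : ℝ) := by
        rw [h0, norm_zero]
        exact_mod_cast (show 0 ≠ d by omega)
      simp [h0, hd']
      exact fun h => absurd (by rw [h0]; simpa using h) hd'
    · by_cases h1 : ‖f g‖ = (d : ℝ) <;> simp [h0, h1]
  have hcardG : (Fintype.card G : ℝ) = A.card + Z.card + R.card := by
    have h := hsplit fun _ => (1 : ℝ)
    simpa using h
  have hA : ∑ g ∈ A, ‖f g‖ ^ 2 = (A.card : ℝ) * (d : ℝ) ^ 2 := by
    rw [Finset.sum_congr rfl fun g hg => by rw [(Finset.mem_filter.1 hg).2], Finset.sum_const,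
      nsmul_eq_mul]
  have hZ : ∑ g ∈ Z, ‖f g‖ ^ 2 = 0 :=
    Finset.sum_eq_zero fun g hg => by simp [(Finset.mem_filter.1 hg).2]
  have h := hsplit fun g => ‖f g‖ ^ 2
  rw [htot, hcardG, hA, hZ, add_zero] at h
  have hd2 : 1 ≤ d ^ 2 := Nat.one_le_pow _ _ hd
  constructor
  · have hR := card_le_sum ρ
    have : (((d ^ 2 - 1) * A.card : ℕ) : ℝ) ≤ (Z.card : ℝ) := by
      push_cast [Nat.cast_sub hd2]
      linarith
    exact_mod_cast this
  · intro hall
    have hR : ∑ g ∈ R, ‖f g‖ ^ 2 = (R.card : ℝ) := by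
      rw [Finset.card_eq_sum_ones, Nat.cast_sum]
      refine Finset.sum_congr rfl fun g hg => ?_
      obtain ⟨-, h0, h1⟩ := Finset.mem_filter.1 hg
      rcases hall g with hh | hh | hh
      · exact absurd (norm_eq_zero.1 hh) h0
      · simp [hh]
      · exact absurd hh h1
    have : (((d ^ 2 - 1) * A.card : ℕ) : ℝ) = (Z.card : ℝ) := by
      push_cast [Nat.cast_sub hd2]
      linarith
    exact_mod_cast this

/-- Let χ be an irreducible character of the finite group G, of degree d, and let Z(χ) be the set of elements g with |χ g| = d (the centre of χ). Then χ vanishes on at least (d ^ 2 - 1) · |Z(χ)| elements of G, with equality when every value |χ g| is 0, 1 or d. -/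
theorem result {G : Type*} [Group G] [Fintype G] [DecidableEq G] (χ : G → ℂ) (hχ : Cfsg.IsIrrCharacter G χ) : (Cfsg.charDegree χ ^ 2 - 1) * (Finset.univ.filter (fun g : G => ‖χ g‖ = (Cfsg.charDegree χ : ℝ))).card ≤ (Finset.univ.filter (fun g : G => χ g = 0)).card ∧ ((∀ g : G, ‖χ g‖ = 0 ∨ ‖χ g‖ = 1 ∨ ‖χ g‖ = (Cfsg.charDegree χ : ℝ)) → (Cfsg.charDegree χ ^ 2 - 1) * (Finset.univ.filter (fun g : G => ‖χ g‖ = (Cfsg.charDegree χ : ℝ))).card = (Finset.univ.filter (fun g : G => χ g = 0)).card) := by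
  obtain ⟨n, ρ, hirr, rfl⟩ := hχ
  have hdeg : Cfsg.charDegree ρ.character = n := by
    unfold Cfsg.charDegree
    rw [Representation.char_one, Module.finrank_fintype_fun_eq_card, Fintype.card_fin]
    simp
  rw [hdeg]
  exact core ρ hirr (by
    have := CfsgLib.Char.finrank_pos_of_irreducible ρ
    rw [Module.finrank_fintype_fun_eq_card, Fintype.card_fin] at this
    exact this)

end Cfsg.Agent.S4574
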