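import Cfsg.Statements.S4575
import Cfsg.Agent.Lib.BlockRank.TwoComplement
import Cfsg.Agent.Lib.Blocks.Defect

set_option autoImplicit false
open Cfsg

namespace Cfsg.Agent.S4575

/-- Let B be a 2-block of the finite group G (relative to a maximal ideal M of the algebraic integers containing 2) of defect d with defect group D. Let z be an element of D commuting with every element of D, and let b be a block of the centralizer of z with defect group D that induces B (a major subsection (z, b)). If the number of irreducible characters in B exceeds the 2-regular rank of b by at most three, then B contains at most 2 ^ d irreducible characters. -/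
theorem result {G : Type*} [Group G] [Finite G] (M : Ideal Cfsg.AlgInt) (hM : Cfsg.IsPModular 2 M) (B : Set (Cfsg.IrrCharacter G)) (hB : Cfsg.IsPBlock M B) (D : Subgroup G) (hD : Cfsg.IsDefectGroup 2 M B D) (z : G) (hzD : z ∈ D) (hzc : ∀ d ∈ D, d * z = z * d) (b : Set (Cfsg.IrrCharacter ↥(Subgroup.centralizer ({z} : Set G)))) (hb : Cfsg.IsInducedBlock M (Subgroup.centralizer ({z} : Set G)) b B) (hbD : Cfsg.IsDefectGroup 2 M b (D.subgroupOf (Subgroup.centralizer ({z} : Set G)))) (h : Nat.card B ≤ Cfsg.blockRank 2 b + 3) : Nat.card B ≤ 2 ^ Cfsg.blockDefect 2 B := by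
  classical
  cases nonempty_fintype G
  have : Fact (Nat.Prime 2) := ⟨Nat.prime_two⟩
  have : M.IsMaximal := hM.2.1
  have := Fintype.ofFinite B
  have := Fintype.ofFinite (Subgroup.centralizer ({z} : Set G))
  have hDp := CfsgLib.Blocks.isPGroup_defectGroup hD
  obtain ⟨k, hk⟩ := IsPGroup.iff_orderOf.1 hDp ⟨z, hzD⟩
  rw [Subgroup.orderOf_mk] at hk
  have hDC : D ≤ Subgroup.centralizer ({z} : Set G) := fun d hd =>
    Subgroup.mem_centralizer_singleton_iff.mpr (hzc d hd)
  have hcard := CfsgLib.Blocks.card_defectGroup hM hb.1 hbD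
  rw [Nat.card_congr (Subgroup.subgroupOfEquivOfLe hDC).toEquiv,
    CfsgLib.Blocks.card_defectGroup hM hB hD] at hcard
  have hdd : Cfsg.blockDefect 2 B = Cfsg.blockDefect 2 b :=
    Nat.pow_right_injective le_rfl hcard
  obtain ⟨θ, hθ, hθm⟩ := CfsgLib.BlockReg.exists_minExp (p := 2)
    (CfsgLib.BlockReg.block_nonempty hM hb.1)
  obtain ⟨χ₀, hχ₀, hχ₀m⟩ := CfsgLib.BlockReg.exists_minExp (p := 2)
    (CfsgLib.BlockReg.block_nonempty hM hB)
  have hle := CfsgLib.BlockReg.factorization_deg_le (p := 2) θ
  have hle' := CfsgLib.BlockReg.factorization_deg_le (p := 2) χ₀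
  have hq : Cfsg.blockDefect 2 B + CfsgLib.BlockReg.minExp 2 b =
      (Nat.card (Subgroup.centralizer ({z} : Set G))).factorization 2 := by
    rw [hdd, CfsgLib.BlockReg.blockDefect_eq]
    omega
  have hqB : Cfsg.blockDefect 2 B + CfsgLib.BlockReg.minExp 2 B =
      (Nat.card G).factorization 2 := by
    rw [CfsgLib.BlockReg.blockDefect_eq]
    omega
  rw [Nat.card_eq_fintype_card, ← Set.toFinset_card] at h ⊢
  exact CfsgLib.BlockRank.card_le_two_pow_of_le_rank_add_three hM rfl hk hB hb hq hqB h

end Cfsg.Agent.S4575
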