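import Cfsg.Statements.S4580
import Cfsg.Agent.Lib.BlockPrincipal.Criterion
import Cfsg.Agent.Lib.BlockPrincipal.Parity
import Cfsg.Agent.Lib.CharDeep.Gallagher


set_option autoImplicit false
open Cfsg

namespace Cfsg.Agent.S4580

open Cfsg CfsgLib CfsgLib.BlockReg CfsgLib.BlockPrincipal
open scoped ComplexConjugate


/-- Let N be a normal subgroup of the finite group G, M a maximal ideal of the algebraic integers containing 2, and θ a real-valued irreducible character of N of odd degree that extends to G (some irreducible character of G restricts to θ). Then θ has an extension to G lying in the principal 2-block of G. -/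
theorem result {G : Type*} [Group G] [Finite G] (N : Subgroup G) [N.Normal] (M : Ideal Cfsg.AlgInt) (hM : Cfsg.IsPModular 2 M) (θ : Cfsg.IrrCharacter N) (hreal : ∀ n : N, ((θ : N → ℂ) n).im = 0) (hodd : Odd (Cfsg.charDegree (θ : N → ℂ))) (hext : ∃ η : Cfsg.IrrCharacter G, ∀ n : N, (η : G → ℂ) n = (θ : N → ℂ) n) :
    ∃ η : Cfsg.IrrCharacter G, (∀ n : N, (η : G → ℂ) n = (θ : N → ℂ) n) ∧ η ∈ Cfsg.principalBlock M G := by
  classical
  let _ := Fintype.ofFinite G
  let _ := Fintype.ofFinite N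
  obtain ⟨η, hη⟩ := hext
  have hres : (fun n : N => (η : G → ℂ) n) = (θ : N → ℂ) := funext hη
  obtain ⟨l, hlN, hl⟩ := CharDeep.Gal.exists_linear_of_res_eq N η.2 (conjIrr η).2
    (hres ▸ θ.2) (fun n => by
      rw [conjIrr_apply, ← Subgroup.coe_inv, hη, hη, BlockReg.char_inv]
      exact Complex.conj_eq_iff_im.2 (hreal n))
  obtain ⟨a, n', hn', hcard⟩ := Nat.exists_eq_pow_mul_and_not_dvd
    (Nat.card_pos (α := G)).ne' 2 (by norm_num)
  set j := (n' + 1) / 2 with hj
  have hj2 : 2 * j = n' + 1 := by omega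
  let η' : IrrCharacter G :=
    ⟨fun g => ((l ^ j) g : ℂ) * (η : G → ℂ) g, Char.IsIrrCharacter.linear_mul η.2 (l ^ j)⟩
  have hext' : ∀ n : N, (η' : G → ℂ) n = (θ : N → ℂ) n := fun n => by
    show ((l ^ j) (n : G) : ℂ) * (η : G → ℂ) n = _
    rw [MonoidHom.pow_apply, hlN, one_pow, Units.val_one, one_mul, hη]
  have hdegN : charDegree (η' : G → ℂ) = charDegree (θ : N → ℂ) := by
    apply Nat.cast_injective (R := ℂ)
    rw [BlockReg.deg_cast, BlockReg.deg_cast, ← hext' 1, Subgroup.coe_one]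
  have hinv : ∀ g : G, ¬ 2 ∣ orderOf g → (η' : G → ℂ) g⁻¹ = (η' : G → ℂ) g := by
    intro g hg
    have hpow : l g ^ n' = 1 := by
      rw [← map_pow]
      have hdvd : orderOf g ∣ n' := by
        refine (Nat.Coprime.dvd_mul_left (Nat.Coprime.pow_right a
          ((Nat.prime_two.coprime_iff_not_dvd.2 hg).symm))).1 ?_
        rw [← hcard]
        exact orderOf_dvd_natCard _
      rw [orderOf_dvd_iff_pow_eq_one.1 hdvd, map_one]
    have hsq : (l g : ℂˣ) = (l g ^ j) ^ 2 := by
      rw [← pow_mul, mul_comm, hj2, pow_succ, hpow, one_mul]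
    show ((l ^ j) g⁻¹ : ℂ) * (η : G → ℂ) g⁻¹ = ((l ^ j) g : ℂ) * (η : G → ℂ) g
    rw [← conjIrr_apply, congrFun hl g, ← mul_assoc, map_inv, MonoidHom.pow_apply]
    congr 1
    rw [← Units.val_mul]
    congr 1
    calc (l g ^ j)⁻¹ * l g = (l g ^ j)⁻¹ * (l g ^ j) ^ 2 := congrArg _ hsq
      _ = l g ^ j := by rw [pow_two, inv_mul_cancel_left]
  refine ⟨η', hext', (mem_principal_iff_of_not_dvd hM η' ?_).2 fun hI => ?_⟩
  · rw [hdegN]; exact Nat.odd_iff.1 hodd |> Nat.two_dvd_ne_zero.2
  · have key := sum_involution_memIdeal hM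
      (fun g : {g : G // ¬ 2 ∣ orderOf g} => (η' : G → ℂ) g.1)
      (fun g => memRing_char hM η' g.1) (fun g => ⟨g.1⁻¹, by rw [orderOf_inv]; exact g.2⟩)
      (fun g => Subtype.ext (inv_inv g.1))
      (fun g => by rw [hinv g.1 g.2, sub_self]; exact memIdeal_zero hM)
      ⟨1, by simp⟩ (Subtype.ext inv_one)
      (fun g hg hne => by
        refine absurd (Subtype.ext ?_) hne
        have h2 : g.1 ^ 2 = 1 := by
          have := congrArg Subtype.val hg
          simp only at this
          rw [pow_two]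
          exact inv_eq_iff_mul_eq_one.1 this
        by_contra h1
        exact g.2 (by
          rw [show orderOf g.1 = 2 from orderOf_eq_prime h2 h1]))
    have hsum : ∑ g : {g : G // ¬ 2 ∣ orderOf g}, (η' : G → ℂ) g.1 = regSum 2 (η' : G → ℂ) :=
      (Finset.sum_subtype _ (fun x => by simp) _).symm
    rw [hsum] at key
    have h1 := (memIdeal_iff_of_sub hM key).1 hI
    rw [← BlockReg.deg_cast, memIdeal_natCast_iff hM, hdegN] at h1
    exact Nat.not_even_iff_odd.2 hodd (even_iff_two_dvd.2 h1)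

end Cfsg.Agent.S4580
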