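import Cfsg.Statements.S4581
import Cfsg.Agent.Lib.BlockPrincipal.RealOddSolvable
import Cfsg.Agent.Lib.Transfer.PGroup

set_option autoImplicit false
open Cfsg

namespace Cfsg.Agent.S4581
open CfsgLib CfsgLib.RealOdd2

universe u

theorem q2_iff {P : Type u} [Group P] [Finite P] (hP : IsPGroup 2 P) :
    Q2 P ↔ commutator P = frattini P := by
  have : Fact (Nat.Prime 2) := ⟨Nat.prime_two⟩
  rw [Transfer.frattini_eq_commutator_sup_pow hP, left_eq_sup, Subgroup.closure_le]
  constructor
  · rintro h _ ⟨x, rfl⟩
    by_contra hx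
    have hne : Abelianization.of (x ^ 2) ≠ 1 := fun h => hx ((QuotientGroup.eq_one_iff _).mp h)
    obtain ⟨φ, hφ⟩ :=
      CommGroup.exists_apply_ne_one_of_hasEnoughRootsOfUnity (Abelianization P) ℂ hne
    refine hφ ?_
    have h' := h (φ.comp Abelianization.of) x
    rwa [← map_mul, ← sq] at h'
  · intro h δ x
    rw [← map_mul, ← sq]
    exact (Abelianization.commutator_subset_ker δ) (h ⟨x, rfl⟩)

theorem card_normalizer {G : Type u} [Group G] [Finite G] [Group.IsSolvable G] (P : Sylow 2 G) :
    Nat.card (RealOdd (Subgroup.normalizer ((P : Subgroup G) : Set G))) =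
      Nat.card (Orb (P : Subgroup G) fun _ => True) := by
  rw [(claim _ (P.subtype Subgroup.le_normalizer)).count]
  exact (card_orb_subgroupOf (P : Subgroup G) _ Subgroup.le_normalizer _ _
    (fun _ _ _ => Iff.rfl) (fun _ _ _ _ n _ => n.2)).symm

/-- Let G be a finite solvable group, P a Sylow 2-subgroup and N its normalizer. Then G and N have the same number of real-valued irreducible characters of odd degree; and every odd-degree irreducible character of G is real-valued exactly when the derived subgroup of P equals the Frattini subgroup of P and P is its own normalizer in G. -/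
theorem result {G : Type*} [Group G] [Finite G] [Group.IsSolvable G] (P : Sylow 2 G) :
    Nat.card {χ : Cfsg.IrrCharacter G // (∀ g : G, ((χ : G → ℂ) g).im = 0) ∧ Odd (Cfsg.charDegree (χ : G → ℂ))} =
      Nat.card {ψ : Cfsg.IrrCharacter (Subgroup.normalizer ((P : Subgroup G) : Set G)) // (∀ g, ((ψ : Subgroup.normalizer ((P : Subgroup G) : Set G) → ℂ) g).im = 0) ∧ Odd (Cfsg.charDegree (ψ : Subgroup.normalizer ((P : Subgroup G) : Set G) → ℂ))} ∧
    ((∀ χ : Cfsg.IrrCharacter G, Odd (Cfsg.charDegree (χ : G → ℂ)) → ∀ g : G, ((χ : G → ℂ) g).im = 0) ↔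
      (commutator (P : Subgroup G) = frattini (P : Subgroup G) ∧ Subgroup.normalizer ((P : Subgroup G) : Set G) = (P : Subgroup G))) := by
  have h := claim G P
  refine ⟨h.count.trans (card_normalizer P).symm, ⟨fun hall => ?_, fun hc => ?_⟩⟩
  · obtain ⟨hN, hQ⟩ := h.conv hall
    exact ⟨(q2_iff P.2).1 hQ, le_antisymm hN Subgroup.le_normalizer⟩
  · exact h.all_real hc.2 ((q2_iff P.2).2 hc.1)

end Cfsg.Agent.S4581
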