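import Cfsg.Statements.S4582
import Cfsg.Agent.S0867
import Cfsg.Agent.S4553
import Cfsg.Agent.Lib.BlockPrincipal.Parity
import Cfsg.Agent.Lib.Char.Induced
import Cfsg.Agent.Lib.PNilpotent.Basic


set_option autoImplicit false
open Cfsg

namespace Cfsg.Agent.S4582

open Cfsg CfsgLib CfsgLib.BlockReg CfsgLib.BlockPrincipal
open scoped Pointwise ComplexConjugate

universe u

/-- A real irreducible character of odd degree and odd determinantal order has a real extension. -/
theorem exists_real_extension {G : Type u} [Group G] [Finite G] (N : Subgroup G) [hN : N.Normal]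
    (P : Subgroup G) (hP : IsPGroup 2 P) (hNP : N ⊔ P = ⊤) (b : ℕ) (hb : N.index = 2 ^ b)
    (hodd : Odd (Nat.card (Abelianization N))) (θ : IrrCharacter N)
    (hθ : ∀ n : N, (θ : N → ℂ) n⁻¹ = (θ : N → ℂ) n) (hθd : Odd (charDegree (θ : N → ℂ)))
    (hinv : ∀ g : G, ∀ n : N, (θ : N → ℂ) ⟨g * n * g⁻¹, hN.conj_mem n n.2 g⟩ = (θ : N → ℂ) n) :
    ∃ η : IrrCharacter G, (∀ n : N, (η : G → ℂ) n = (θ : N → ℂ) n) ∧
      ∀ g : G, (η : G → ℂ) g⁻¹ = (η : G → ℂ) g := by
  classical
  let _ := Fintype.ofFinite G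
  let _ := Fintype.ofFinite N
  obtain ⟨δ, hδ⟩ := CharDeep.Extend.exists_det_hom N (θ : N → ℂ) θ.2
  have hδodd : Odd (detOrder (θ : N → ℂ)) := by
    rw [detOrder, hδ, CharDeep.Lin.orderOf_coe]
    refine hodd.of_dvd_nat (orderOf_dvd_of_pow_eq_one (MonoidHom.ext fun x => ?_))
    rw [MonoidHom.pow_apply, ← Abelianization.lift_apply_of δ, ← map_pow, pow_card_eq_one', map_one,
      MonoidHom.one_apply]
  have hco : Nat.Coprime 2 (detOrder (θ : N → ℂ) * charDegree (θ : N → ℂ)) :=
    Nat.coprime_two_left.2 (hδodd.mul hθd)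
  obtain ⟨η, ⟨hη, hηN, hηd⟩, -⟩ := Cfsg.Agent.S0867.result N (θ : N → ℂ) θ.2 hinv
    (charDegree (θ : N → ℂ)) (deg_cast θ).symm (by rw [hb]; exact hco.pow_left b)
  refine ⟨⟨η, hη⟩, hηN, fun g => ?_⟩
  obtain ⟨l, hlN, hl⟩ := CharDeep.Gal.exists_linear_of_res_eq N hη (conjIrr ⟨η, hη⟩).2
    (by rw [show (fun n : N => η n) = (θ : N → ℂ) from funext hηN]; exact θ.2)
    (fun n => by
      rw [conjIrr_apply]
      show η (n : G)⁻¹ = η n
      rw [← Subgroup.coe_inv, hηN, hηN, hθ])
  obtain ⟨m, ρ, hρ, hρc⟩ := id hη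
  have hm : m = charDegree (θ : N → ℂ) := by
    have h1 := deg_cast θ
    rw [← hηN 1, Subgroup.coe_one, ← hρc, Representation.char_one] at h1
    exact_mod_cast (show (m : ℂ) = (charDegree (θ : N → ℂ) : ℂ) by simpa using h1.symm)
  let D : G →* ℂˣ := MonoidHom.toHomUnits ((LinearMap.det).comp ρ)
  have hD : orderOf D = detOrder (θ : N → ℂ) := by
    rw [← hηd, detOrder, ← hρc, CharDeep.Cover.detChar_eq, ← CharDeep.Lin.orderOf_coe]
    rfl
  have hlP : ∀ v ∈ P, l v = 1 := by
    intro v hv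
    obtain ⟨j, hj⟩ := IsPGroup.iff_orderOf.1 hP ⟨v, hv⟩
    rw [Subgroup.orderOf_mk] at hj
    have hDv : D v = 1 := by
      have h1 : D v ^ orderOf v = 1 := by rw [← map_pow, pow_orderOf_eq_one, map_one]
      have h2 : D v ^ orderOf D = 1 := by
        rw [← MonoidHom.pow_apply, pow_orderOf_eq_one, MonoidHom.one_apply]
      have hco' : Nat.gcd (orderOf v) (orderOf D) = 1 := by
        rw [hj, hD]
        exact (Nat.coprime_two_left.2 hδodd).pow_left j
      have h3 := pow_gcd_eq_one.2 ⟨h1, h2⟩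
      rwa [hco', pow_one] at h3
    have hk : ∀ x : G, x ^ (Nat.card G - 1) = x⁻¹ := fun x => by
      rw [← mul_eq_one_iff_eq_inv, ← pow_succ, Nat.sub_add_cancel Nat.card_pos, pow_card_eq_one']
    have hdet := Cfsg.Agent.S4553.twist_pow_det ρ l (Nat.card G - 1)
      (fun g => by
        rw [hρc, hk]
        exact (conjIrr_apply ⟨η, hη⟩ g).symm.trans (congrFun hl g)) v
    have hDk : LinearMap.det (ρ (v ^ (Nat.card G - 1))) = 1 := by
      show ((D (v ^ (Nat.card G - 1)) : ℂˣ) : ℂ) = 1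
      rw [map_pow, hDv, one_pow, Units.val_one]
    rw [hDk, show LinearMap.det (ρ v) = ((D v : ℂˣ) : ℂ) from rfl, hDv, Units.val_one,
      mul_one] at hdet
    have h1 : l v ^ m = 1 := Units.ext (by rw [Units.val_pow_eq_pow_val, Units.val_one, ← hdet])
    have h2 : l v ^ orderOf v = 1 := by rw [← map_pow, pow_orderOf_eq_one, map_one]
    have hco' : Nat.gcd m (orderOf v) = 1 := by
      rw [hj, hm]
      exact (Nat.coprime_two_left.2 hθd).symm.pow_right j
    have h3 := pow_gcd_eq_one.2 ⟨h1, h2⟩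
    rwa [hco', pow_one] at h3
  have hl1 : l g = 1 := by
    have hle : N ⊔ P ≤ l.ker := sup_le (fun x hx => hlN ⟨x, hx⟩) fun x hx => hlP x hx
    exact hle (hNP ▸ Subgroup.mem_top g)
  show η g⁻¹ = η g
  rw [show η g⁻¹ = _ from (conjIrr_apply ⟨η, hη⟩ g).symm.trans (congrFun hl g), hl1, Units.val_one,
    one_mul]

/-- No real character of odd multiplicity over a linear `μ` of the normal `Q ≤ P` with only non-real
linear extensions, for a `2`-group `P`. -/
theorem even_mult {P : Type u} [Group P] [Fintype P] (hP : IsPGroup 2 P) (Q : Subgroup P)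
    [Q.Normal] [Fintype Q] (ν : Q →* ℂˣ) (hinv : ∀ (g : P) (q : Q), ν ⟨g * q * g⁻¹,
      Subgroup.Normal.conj_mem ‹Q.Normal› q q.2 g⟩ = ν q)
    (hνr : ∀ q : Q, ν q ^ 2 = 1)
    (hext : ∀ l : P →* ℂˣ, (∀ q : Q, l q = ν q) → ∃ x : P, l x ^ 2 ≠ 1)
    (χ : P → ℂ) (hχ : IsCharacter P χ) (hreal : ∀ x, χ x⁻¹ = χ x) (m : ℕ)
    (hm : classInner (fun q : Q => χ q) (fun q : Q => (ν q : ℂ)) = m) : Even m := by
  classical
  have hνirr : IsIrrCharacter Q (fun q : Q => (ν q : ℂ)) := Char.isIrrCharacter_linear ν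
  choose c hc using fun ψ : IrrCharacter P => Char.IsCharacter.exists_nat_classInner hχ ψ.2
  choose e he using fun ψ : IrrCharacter P => Char.IsCharacter.exists_nat_classInner
    (Clifford.isCharacter_res (Char.IsIrrCharacter.isCharacter ψ.2) Q) hνirr
  have hm2 : m = ∑ ψ, c ψ * e ψ := by
    apply Nat.cast_injective (R := ℂ)
    rw [← hm]
    have heq : (fun q : Q => χ q) = ∑ ψ : IrrCharacter P, (c ψ : ℂ) • fun q : Q => (ψ : P → ℂ) q := by
      funext q
      have := congrFun (Char.IsClassFunction.eq_sum_classInner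
        (Char.IsCharacter.isClassFunction hχ)) (q : P)
      simp only [Finset.sum_apply, Pi.smul_apply, hc] at this ⊢
      exact this
    rw [heq, Char.classInner_sum_left]
    simp only [Char.classInner_smul_left, he]
    push_cast
    rfl
  have hcong : ∀ ψ : IrrCharacter P, c (conjIrr ψ) = c ψ ∧ e (conjIrr ψ) = e ψ := by
    intro ψ
    constructor
    · apply Nat.cast_injective (R := ℂ)
      rw [← hc, ← hc, classInner, classInner]
      congr 1
      refine Fintype.sum_equiv (Equiv.inv P) _ _ fun x => ?_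
      simp [conjIrr_apply, hreal]
    · apply Nat.cast_injective (R := ℂ)
      rw [← he, ← he, classInner, classInner]
      congr 1
      refine Fintype.sum_equiv (Equiv.inv Q) _ _ fun q => ?_
      have hq : ν q⁻¹ = ν q := by
        rw [map_inv, inv_eq_iff_mul_eq_one, ← pow_two, hνr]
      simp [conjIrr_apply, hq]
  have hfix : ∀ ψ : IrrCharacter P, conjIrr ψ = ψ → Even (c ψ * e ψ) := by
    intro ψ hψ
    rcases eq_or_ne (e ψ) 0 with h0 | h0
    · simp [h0]
    have hne : classInner (fun q : Q => (ψ : P → ℂ) q) (fun q : Q => (ν q : ℂ)) ≠ 0 := by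
      rw [he]; exact_mod_cast h0
    have horb : Clifford.orbit Q (fun q : Q => (ν q : ℂ)) = {fun q : Q => (ν q : ℂ)} := by
      refine Finset.eq_singleton_iff_unique_mem.2 ⟨Clifford.self_mem_orbit Q _, fun φ hφ => ?_⟩
      obtain ⟨g, rfl⟩ := (Clifford.mem_orbit Q).1 hφ
      funext q
      exact congrArg Units.val (hinv g q)
    have hres := Clifford.res_eq Q ψ.2 hνirr hne
    rw [horb, Finset.sum_singleton, he] at hres
    have hdeg : e ψ = charDegree (ψ : P → ℂ) := by
      apply Nat.cast_injective (R := ℂ)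
      have := congrFun hres 1
      simp only [Pi.smul_apply, smul_eq_mul, map_one, Units.val_one, mul_one,
        Subgroup.coe_one] at this
      rw [BlockReg.deg_cast, ← this]
    obtain ⟨j, hj⟩ := (IsPGroup.iff_card).1 hP
    obtain ⟨i, -, hi⟩ := (Nat.dvd_prime_pow Nat.prime_two).1 (hj ▸ deg_dvd_card ψ)
    rcases i with - | i
    · exfalso
      rw [pow_zero] at hi
      obtain ⟨l, hl⟩ := Char.IsCharacter.exists_linear (Char.IsIrrCharacter.isCharacter ψ.2)
        (by rw [← BlockReg.deg_cast, hi, Nat.cast_one])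
      obtain ⟨x, hx⟩ := hext l fun q => Units.ext (by
        have := congrFun hres q
        simp only [Pi.smul_apply, smul_eq_mul, hdeg, hi, Nat.cast_one, one_mul] at this
        rw [← hl]; exact this)
      have hr := congrFun (congrArg Subtype.val hψ) x
      rw [conjIrr_apply, hl, hl, map_inv] at hr
      exact hx (by rw [pow_two]; exact (mul_eq_one_iff_eq_inv).2 (Units.ext hr.symm))
    · rw [hdeg, hi]
      exact ((even_two.pow_of_ne_zero i.succ_ne_zero)).mul_left _
  rw [hm2, ← ZMod.natCast_eq_zero_iff_even, Nat.cast_sum]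
  refine Finset.sum_involution (fun ψ _ => conjIrr ψ) (fun ψ _ => ?_) (fun ψ _ hne hψ => hne ?_)
    (fun ψ _ => Finset.mem_univ _) (fun ψ _ => conjIrr_involutive ψ)
  · rw [(hcong ψ).1, (hcong ψ).2]
    exact CharTwo.add_self_eq_zero _
  · exact ZMod.natCast_eq_zero_iff_even.2 (hfix ψ hψ)


/-- Let N be a normal subgroup of the finite group G, P a Sylow 2-subgroup of G and Q = P ∩ N. Suppose that P/QP' and Q/Q' are elementary abelian (every square of an element of P lies in the subgroup generated by Q and the derived subgroup of P, and every square of an element of Q lies in the derived subgroup of Q), and that the commutator factor group N/N' has odd order. Then P/P' is elementary abelian. -/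
theorem result {G : Type*} [Group G] [Finite G] (N : Subgroup G) [N.Normal] (P : Sylow 2 G)
    (hP : ∀ x ∈ (P : Subgroup G), x ^ 2 ∈ ((P : Subgroup G) ⊓ N) ⊔ ⁅(P : Subgroup G), (P : Subgroup G)⁆)
    (hQ : ∀ x ∈ (P : Subgroup G) ⊓ N, x ^ 2 ∈ ⁅(P : Subgroup G) ⊓ N, (P : Subgroup G) ⊓ N⁆)
    (hodd : Odd (Nat.card (Abelianization N))) :
    ∀ x ∈ (P : Subgroup G), x ^ 2 ∈ ⁅(P : Subgroup G), (P : Subgroup G)⁆ := by
  classical
  intro x₀ hx₀
  by_contra hcon
  let _ := Fintype.ofFinite G
  let _ := Fintype.ofFinite N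
  set P' := (P : Subgroup G) with hP'
  let _ := Fintype.ofFinite P'
  -- a linear character of `P` whose square is nontrivial
  obtain ⟨lam, hlam⟩ : ∃ lam : P' →* ℂˣ, lam (⟨x₀, hx₀⟩ ^ 2) ≠ 1 := by
    set X : P' := ⟨x₀, hx₀⟩
    have hX : Abelianization.of (X ^ 2) ≠ 1 := by
      intro h
      apply hcon
      have h' : (X ^ 2) ∈ commutator P' := (QuotientGroup.eq_one_iff (X ^ 2)).1 h
      rw [← Subgroup.map_subtype_commutator]
      exact ⟨X ^ 2, h', rfl⟩
    obtain ⟨f, hf⟩ := CommGroup.exists_apply_ne_one_of_hasEnoughRootsOfUnity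
      (Abelianization P') ℂ hX
    exact ⟨f.comp Abelianization.of, hf⟩
  set Q := (N.subgroupOf P') with hQdef
  have hQn : Q.Normal := Subgroup.normal_subgroupOf
  let _ := Fintype.ofFinite Q
  let ν : Q →* ℂˣ := lam.comp Q.subtype
  have hcomm : ∀ x : P', (x : G) ∈ ⁅P', P'⁆ → lam x = 1 := by
    intro x hx
    rw [← Subgroup.map_subtype_commutator] at hx
    obtain ⟨y, hy, hyx⟩ := hx
    rw [show x = y from Subtype.ext hyx.symm]
    exact Abelianization.commutator_subset_ker lam hy
  have hνr : ∀ q : Q, ν q ^ 2 = 1 := by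
    intro q
    have h := hQ (q : P') ⟨(q : P').2, q.2⟩
    have h2 : ((q : P') : G) ^ 2 ∈ ⁅P', P'⁆ :=
      Subgroup.commutator_mono inf_le_left inf_le_left h
    show lam (q : P') ^ 2 = 1
    rw [← map_pow]
    exact hcomm _ h2
  have hQsq : ∀ x : P', ∃ q : Q, ∀ l : P' →* ℂˣ, l (x ^ 2) = l (q : P') := by
    intro x
    have h := hP (x : G) x.2
    have hmem : x ^ 2 ∈ Q ⊔ commutator P' := by
      have h1 : (P' ⊓ N) ⊔ ⁅P', P'⁆ = (Q ⊔ commutator P').map P'.subtype := by
        rw [Subgroup.map_sup, Subgroup.map_subtype_commutator, hQdef,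
          Subgroup.subgroupOf_map_subtype, inf_comm]
      rw [h1] at h
      obtain ⟨y, hy, hyx⟩ := h
      rwa [show x ^ 2 = y from Subtype.ext hyx.symm]
    have hmem' : x ^ 2 ∈ ((Q : Set P') * (commutator P' : Set P') : Set P') := by
      rw [← Subgroup.mul_normal]; exact hmem
    obtain ⟨q, hq, c, hc, hqc⟩ := hmem'
    refine ⟨⟨q, hq⟩, fun l => ?_⟩
    rw [← hqc, map_mul, show l c = 1 from Abelianization.commutator_subset_ker l hc, mul_one]
  have hext : ∀ l : P' →* ℂˣ, (∀ q : Q, l q = ν q) → ∃ x : P', l x ^ 2 ≠ 1 := by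
    intro l hl
    refine ⟨⟨x₀, hx₀⟩, ?_⟩
    obtain ⟨q, hq⟩ := hQsq ⟨x₀, hx₀⟩
    rw [← map_pow, hq, hl]
    show lam (q : P') ≠ 1
    rw [← hq]; exact hlam
  -- the `P`-action on the characters of `N`
  let act : MulAction P' (IrrCharacter N) :=
    { smul := fun x θ => ⟨CharTwist.conjFun N (θ : N → ℂ) (x : G)⁻¹,
        CharTwist.isIrrCharacter_conjFun N θ.2 _⟩
      one_smul := fun θ => Subtype.ext (by
        show CharTwist.conjFun N (θ : N → ℂ) (1 : G)⁻¹ = _
        rw [inv_one, CharTwist.conjFun_one])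
      mul_smul := fun x y θ => Subtype.ext (by
        show CharTwist.conjFun N (θ : N → ℂ) ((x : G) * y)⁻¹ =
          CharTwist.conjFun N (CharTwist.conjFun N (θ : N → ℂ) (y : G)⁻¹) (x : G)⁻¹
        rw [mul_inv_rev, CharTwist.conjFun_mul]) }
  let ι : Q →* N :=
    { toFun := fun q => ⟨((q : P') : G), q.2⟩
      map_one' := rfl
      map_mul' := fun _ _ => rfl }
  have hνirr : IsIrrCharacter Q (fun q : Q => (ν q : ℂ)) := Char.isIrrCharacter_linear ν
  choose m hm using fun θ : IrrCharacter N => Char.IsCharacter.exists_nat_classInner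
    (CharTwist.isCharacter_comp (Char.IsIrrCharacter.isCharacter θ.2) ι) hνirr
  let f : IrrCharacter N → ZMod 2 := fun θ => ((m θ * charDegree (θ : N → ℂ) : ℕ) : ZMod 2)
  have hνinv : ∀ (g : P') (q : Q), ν ⟨g * q * g⁻¹, hQn.conj_mem q q.2 g⟩ = ν q := by
    intro g q
    show lam (g * q * g⁻¹) = lam (q : P')
    rw [map_mul, map_mul, map_inv, mul_comm (lam g), mul_inv_cancel_right]
  have hfP : ∀ (x : P') θ, f (x • θ) = f θ := by
    intro x θ
    have hdeg : charDegree ((x • θ : IrrCharacter N) : N → ℂ) = charDegree (θ : N → ℂ) := by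
      apply Nat.cast_injective (R := ℂ)
      rw [BlockReg.deg_cast, BlockReg.deg_cast]
      show CharTwist.conjFun N (θ : N → ℂ) (x : G)⁻¹ 1 = _
      rw [CharTwist.conjFun_eq_comp, Function.comp_apply, map_one]
    have hmm : m (x • θ) = m θ := by
      apply Nat.cast_injective (R := ℂ)
      rw [← hm, ← hm]
      let c : Q ≃* Q := MulAut.conjNormal (H := Q) x⁻¹
      rw [← Clifford.classInner_comp_equiv c ((θ : N → ℂ) ∘ ι) (fun q : Q => (ν q : ℂ))]
      have h2 : (fun q : Q => (ν q : ℂ)) ∘ c = fun q : Q => (ν q : ℂ) := by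
        funext q
        refine congrArg Units.val ?_
        rw [show c q = ⟨x⁻¹ * q * (x⁻¹)⁻¹, hQn.conj_mem q q.2 x⁻¹⟩ from
          Subtype.ext (MulAut.conjNormal_apply x⁻¹ q)]
        exact hνinv x⁻¹ q
      have h1 : ((θ : N → ℂ) ∘ ι) ∘ c = ((x • θ : IrrCharacter N) : N → ℂ) ∘ ι := by
        funext q
        refine congrArg (θ : N → ℂ) (Subtype.ext ?_)
        simp [ι, c, MulAut.conjNormal_apply]
      rw [h1, h2]
    simp only [f, hdeg, hmm]
  have hfc : ∀ θ, f (conjIrr θ) = f θ := by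
    intro θ
    have hdeg : charDegree (conjIrr θ : N → ℂ) = charDegree (θ : N → ℂ) := by
      apply Nat.cast_injective (R := ℂ)
      rw [BlockReg.deg_cast, BlockReg.deg_cast, conjIrr_apply, inv_one]
    have hmm : m (conjIrr θ) = m θ := by
      apply Nat.cast_injective (R := ℂ)
      rw [← hm, ← hm, classInner, classInner]
      congr 1
      refine Fintype.sum_equiv (Equiv.inv Q) _ _ fun q => ?_
      have hq : ν q⁻¹ = ν q := by
        rw [map_inv, inv_eq_iff_mul_eq_one, ← pow_two, hνr]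
      simp [conjIrr_apply, hq]
    simp only [f, hdeg, hmm]
  have hsum : ∑ θ, f θ = 1 := by
    obtain ⟨S, hS⟩ := PNilpotent.sylow_subgroupOf_card P N
    let _ := Fintype.ofFinite (S : Subgroup N)
    let e : (S : Subgroup N) ≃* Q :=
      { toFun := fun s => ⟨⟨((s : N) : G), (SetLike.ext_iff.1 hS (s : N)).1 s.2⟩, (s : N).2⟩
        invFun := fun q => ⟨ι q, (SetLike.ext_iff.1 hS (ι q)).2 (q : P').2⟩
        left_inv := fun s => rfl
        right_inv := fun q => rfl
        map_mul' := fun _ _ => rfl }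
    have hF := congrFun (Char.IsClassFunction.eq_sum_classInner
      (Char.isClassFunction_indFun (S : Subgroup N) (fun s => (ν (e s) : ℂ)))) 1
    rw [Char.indFun_apply_one] at hF
    have key : ((S : Subgroup N).index : ℂ) =
        ((∑ θ, m θ * charDegree (θ : N → ℂ) : ℕ) : ℂ) := by
      simp only [map_one, Units.val_one, mul_one] at hF
      rw [hF, Finset.sum_apply]
      push_cast
      refine Finset.sum_congr rfl fun θ _ => ?_
      rw [Pi.smul_apply, smul_eq_mul, BlockReg.deg_cast,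
        Char.classInner_indFun _ _ _ (Char.IsIrrCharacter.isClassFunction θ.2)]
      congr 1
      rw [← Char.classInner_conj_symm, ← Complex.conj_natCast (m θ), ← hm θ,
        ← Clifford.classInner_comp_equiv e]
      rfl
    have key' : (S : Subgroup N).index = ∑ θ, m θ * charDegree (θ : N → ℂ) :=
      Nat.cast_injective key
    simp only [f]
    rw [← Nat.cast_sum, ← key', ← Nat.cast_one, ZMod.natCast_eq_natCast_iff']
    have := S.not_dvd_index
    omega
  -- a fixed character
  have hreal : ∑ θ ∈ Finset.univ.filter (fun θ => conjIrr θ = θ), f θ = 1 := by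
    have h0 : ∑ θ ∈ Finset.univ.filter (fun θ => ¬ conjIrr θ = θ), f θ = 0 := by
      refine Finset.sum_involution (fun θ _ => conjIrr θ) (fun θ _ => ?_)
        (fun θ hθ _ => (Finset.mem_filter.1 hθ).2) (fun θ hθ => ?_)
        (fun θ _ => conjIrr_involutive θ)
      · rw [hfc, CharTwo.add_self_eq_zero]
      · rw [Finset.mem_filter]
        exact ⟨Finset.mem_univ _, fun h => (Finset.mem_filter.1 hθ).2
          (conjIrr_involutive.injective h)⟩
    rw [← hsum, ← Finset.sum_filter_add_sum_filter_not Finset.univ (fun θ => conjIrr θ = θ), h0,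
      add_zero]
  have hconj_smul : ∀ (x : P') θ, conjIrr (x • θ) = x • conjIrr θ := fun x θ =>
    Subtype.ext (funext fun n => by
      show (conjIrr (x • θ) : N → ℂ) n = (conjIrr θ : N → ℂ) _
      rw [conjIrr_apply, conjIrr_apply]
      exact congrArg (θ : N → ℂ) (Subtype.ext (by simp [mul_assoc])))
  let T := {θ : IrrCharacter N // conjIrr θ = θ ∧ f θ = 1}
  have hT : ¬ 2 ∣ Nat.card T := by
    intro h2
    have hsplit : ∑ θ ∈ Finset.univ.filter (fun θ => conjIrr θ = θ), f θ =
        ((Nat.card T : ℕ) : ZMod 2) := by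
      rw [Nat.card_eq_fintype_card, Fintype.card_subtype]
      rw [← Finset.sum_boole]
      rw [Finset.sum_filter]
      refine Finset.sum_congr rfl fun θ _ => ?_
      have h01 : ∀ z : ZMod 2, z = 0 ∨ z = 1 := by decide
      by_cases h : conjIrr θ = θ
      · rcases h01 (f θ) with h' | h' <;> simp [h, h']
      · simp [h]
    rw [hreal, (ZMod.natCast_eq_zero_iff_even).2 (even_iff_two_dvd.2 h2)] at hsplit
    exact one_ne_zero hsplit
  let actT : MulAction P' T :=
    { smul := fun x θ => ⟨x • θ.1, by rw [hconj_smul, θ.2.1], by rw [hfP, θ.2.2]⟩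
      one_smul := fun θ => Subtype.ext (one_smul P' θ.1)
      mul_smul := fun x y θ => Subtype.ext (mul_smul x y θ.1) }
  have := Fact.mk Nat.prime_two
  obtain ⟨⟨θ, hθc, hθf⟩, hfix⟩ := IsPGroup.nonempty_fixed_point_of_prime_not_dvd_card P.2 T hT
  have hθfix : ∀ x : P', ∀ n : N,
      (θ : N → ℂ) ⟨(x : G) * n * (x : G)⁻¹, ‹N.Normal›.conj_mem n n.2 x⟩ = (θ : N → ℂ) n := by
    intro x n
    have := congrFun (congrArg Subtype.val (congrArg Subtype.val (hfix x⁻¹))) n
    refine Eq.trans ?_ this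
    refine congrArg (θ : N → ℂ) (Subtype.ext ?_)
    simp
  have hθodd : Odd (m θ * charDegree (θ : N → ℂ)) := ZMod.natCast_eq_one_iff_odd.1 hθf
  obtain ⟨hmodd, hθd⟩ := Nat.odd_mul.1 hθodd
  -- extend to `NP`
  set H := N ⊔ P' with hH
  let _ := Fintype.ofFinite H
  let eN : N.subgroupOf H ≃* N := Subgroup.subgroupOfEquivOfLe le_sup_left
  let θH : IrrCharacter (N.subgroupOf H) :=
    ⟨(θ : N → ℂ) ∘ eN, CharTwist.isIrrCharacter_comp_equiv θ.2 eN⟩
  have hθreal : ∀ n : N, (θ : N → ℂ) n⁻¹ = (θ : N → ℂ) n := fun n => by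
    rw [← conjIrr_apply, hθc]
  have hsup : N.subgroupOf H ⊔ P'.subgroupOf H = ⊤ := by
    rw [← Subgroup.subgroupOf_sup le_sup_left le_sup_right]
    exact Subgroup.subgroupOf_self _
  have hPH : IsPGroup 2 (P'.subgroupOf H) :=
    P.2.comap_of_injective H.subtype H.subtype_injective
  obtain ⟨b, hb⟩ : ∃ b, (N.subgroupOf H).index = 2 ^ b := by
    obtain ⟨j, hj⟩ := IsPGroup.iff_card.1 hPH
    have hr : (N.subgroupOf H).relIndex (P'.subgroupOf H) = (N.subgroupOf H).index := by
      rw [← Subgroup.relIndex_top_right (N.subgroupOf H), ← hsup, sup_comm,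
        Subgroup.relIndex_sup_right]
    have hd : (N.subgroupOf H).index ∣ 2 ^ j := by
      rw [← hr, ← hj]; exact Subgroup.index_dvd_card _
    obtain ⟨i, -, hi⟩ := (Nat.dvd_prime_pow Nat.prime_two).1 hd
    exact ⟨i, hi⟩
  have hinvH : ∀ g : H, ∀ n : N.subgroupOf H, (θH : N.subgroupOf H → ℂ)
      ⟨g * n * g⁻¹, (inferInstance : (N.subgroupOf H).Normal).conj_mem n n.2 g⟩ = (θH : N.subgroupOf H → ℂ) n := by
    intro g n
    have hle : H ≤ CharTwist.inertia N (θ : N → ℂ) :=
      sup_le (CharTwist.le_inertia N (Char.IsIrrCharacter.isClassFunction θ.2))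
        fun x hx => funext fun n => hθfix ⟨x, hx⟩ n
    exact congrFun (hle g.2) (eN n)
  obtain ⟨η, hηN, hηr⟩ := exists_real_extension (N.subgroupOf H) (P'.subgroupOf H) hPH hsup b hb
    (by rwa [Nat.card_congr eN.abelianizationCongr.toEquiv]) θH
    (fun n => by
      show (θ : N → ℂ) (eN n⁻¹) = _
      rw [map_inv, hθreal]; rfl)
    (by
      have : charDegree (θH : N.subgroupOf H → ℂ) = charDegree (θ : N → ℂ) := by
        apply Nat.cast_injective (R := ℂ)
        rw [BlockReg.deg_cast, BlockReg.deg_cast]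
        show (θ : N → ℂ) (eN 1) = _
        rw [map_one]
      rwa [this]) hinvH
  let j : P' →* H := Subgroup.inclusion le_sup_right
  refine Nat.not_even_iff_odd.2 hmodd (even_mult P.2 Q ν hνinv hνr hext ((η : H → ℂ) ∘ j)
    (CharTwist.isCharacter_comp (Char.IsIrrCharacter.isCharacter η.2) j)
    (fun x => by rw [Function.comp_apply, map_inv, hηr]; rfl) (m θ) ?_)
  rw [← hm]
  congr 1
  funext q
  exact (hηN ⟨j (q : P'), q.2⟩).trans rfl

end Cfsg.Agent.S4582
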