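import Cfsg.Statements.S4584
import Cfsg.Agent.Lib.PGroup.AbelianMax

set_option autoImplicit false
open Cfsg

namespace Cfsg.Agent.S4584

/-- Let p be a prime and P a group of order p^4. Then the derived subgroup P' has order p if and only if the centre Z(P) has index p^2 in P. -/
theorem result {P : Type*} [Group P] [Finite P] (p : ℕ) [Fact p.Prime] (hP : Nat.card P = p ^ 4) :
    Nat.card (commutator P) = p ↔ (Subgroup.center P).index = p ^ 2 := by
  have hp : p.Prime := Fact.out
  have hci := (Subgroup.center P).card_mul_index
  by_cases hab : Subgroup.center P = ⊤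
  · have hc : Nat.card (commutator P) = 1 := by
      rw [Subgroup.card_eq_one, commutator_def, Subgroup.commutator_eq_bot_iff_le_centralizer]
      intro g _
      rw [Subgroup.mem_centralizer_iff]
      intro h _
      exact Subgroup.mem_center_iff.1 (hab ▸ Subgroup.mem_top g) h
    constructor
    · intro h
      rw [hc] at h
      exact absurd h.symm hp.ne_one
    · intro h
      rw [hab, Subgroup.index_top] at h
      exact absurd h.symm (Nat.one_lt_pow (by norm_num) hp.one_lt).ne'
  · have h := CfsgLib.PGroup.AbelianMax.card_commutator_mul_card_center_pow_four p hP hab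
    rw [hP] at hci
    constructor
    · intro hc
      rw [hc] at h
      have hz : Nat.card (Subgroup.center P) = p ^ 2 :=
        Nat.eq_of_mul_eq_mul_left hp.pos (by rw [h]; ring)
      rw [hz] at hci
      exact Nat.eq_of_mul_eq_mul_left (pow_pos hp.pos 2) (by rw [hci]; ring)
    · intro hi
      rw [hi] at hci
      have hz : Nat.card (Subgroup.center P) = p ^ 2 :=
        Nat.eq_of_mul_eq_mul_right (pow_pos hp.pos 2) (by rw [hci]; ring)
      rw [hz] at h
      exact Nat.eq_of_mul_eq_mul_right (pow_pos hp.pos 2) (by rw [h]; ring)

end Cfsg.Agent.S4584
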