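import Cfsg.Statements.S4585
import Cfsg.Agent.Lib.PGroup.AbelianMax
import Mathlib.GroupTheory.Nilpotent

set_option autoImplicit false
open Cfsg

namespace Cfsg.Agent.S4585

theorem class_le_three {P : Type*} [Group P] [Finite P] (p : ℕ) [hp : Fact p.Prime]
    (hP : Nat.card P = p ^ 4) (hz : Nat.card (Subgroup.center P) = p) :
    Group.nilpotencyClass P ≤ 3 := by
  have := (IsPGroup.of_card hP).isNilpotent
  have h3 : Nat.card (P ⧸ Subgroup.center P) = p ^ 3 := by
    have := Subgroup.card_eq_card_quotient_mul_card_subgroup (Subgroup.center P)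
    rw [hP, hz] at this
    exact Nat.eq_of_mul_eq_mul_right hp.out.pos (by rw [← this]; ring)
  have hQ : IsPGroup p (P ⧸ Subgroup.center P) := IsPGroup.of_card h3
  have := hQ.isNilpotent
  obtain ⟨k, hk0, hk⟩ := IsPGroup.card_center_eq_prime_pow h3 (by norm_num)
  set Q := P ⧸ Subgroup.center P
  have hcard := Subgroup.card_eq_card_quotient_mul_card_subgroup (Subgroup.center Q)
  rw [h3, hk] at hcard
  obtain ⟨j, hj, hj'⟩ := (Nat.dvd_prime_pow hp.out).1
    (Dvd.intro _ hcard.symm : Nat.card (Q ⧸ Subgroup.center Q) ∣ p ^ 3)
  rw [hj', ← pow_add] at hcard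
  have hjk := Nat.pow_right_injective hp.out.two_le hcard
  have hcomm : ∀ a b : Q ⧸ Subgroup.center Q, a * b = b * a := by
    rcases (show j = 0 ∨ j = 1 ∨ j = 2 by omega) with h0 | h0 | h0
    · rw [h0, pow_zero, Nat.card_eq_one_iff_unique] at hj'
      have := hj'.1
      exact fun a b => Subsingleton.elim _ _
    · rw [h0, pow_one] at hj'
      have := isCyclic_of_prime_card hj'
      exact fun a b => mul_comm' a b
    · rw [h0] at hj'
      exact IsPGroup.commutative_of_card_eq_prime_sq hj'
  have hq : Group.nilpotencyClass Q ≤ 2 := by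
    rw [← upperCentralSeries_eq_top_iff_nilpotencyClass_le, eq_top_iff]
    intro x _
    rw [Subgroup.mem_upperCentralSeries_succ_iff]
    intro y
    rw [Subgroup.upperCentralSeries_one, ← QuotientGroup.eq_one_iff]
    simp [commutatorElement_def, hcomm (x : Q ⧸ Subgroup.center Q) y]
  rw [Group.nilpotencyClass_quotient_center] at hq
  omega

theorem normal_prime_le_center {P : Type*} [Group P] [Finite P] (p : ℕ) [hp : Fact p.Prime]
    (hpg : IsPGroup p P) (N : Subgroup P) [hN : N.Normal] (h : Nat.card N = p) :
    N ≤ Subgroup.center P := by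
  intro n hn
  rw [Subgroup.mem_center_iff]
  intro g
  let φ : P →* MulAut N := MulAut.conjNormal
  have hq : IsPGroup p φ.range := hpg.of_surjective φ.rangeRestrict φ.rangeRestrict_surjective
  have : IsCyclic N := isCyclic_of_prime_card h
  have hca : Nat.card (MulAut N) = p - 1 := by
    rw [IsCyclic.card_mulAut, h, Nat.totient_prime hp.out]
  have h1 : Nat.card φ.range = 1 := by
    obtain ⟨k, hk⟩ := IsPGroup.iff_card.1 hq
    have hd : Nat.card φ.range ∣ p - 1 := hca ▸ Subgroup.card_subgroup_dvd_card φ.range
    rcases Nat.eq_zero_or_pos k with rfl | hk0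
    · simpa using hk
    · have := hp.out.two_le
      have := Nat.le_of_dvd (by have := hp.out.two_le; omega) ((dvd_pow_self p hk0.ne').trans (hk ▸ hd))
      omega
  have hg : φ g = 1 := by
    have : (φ.range) = ⊥ := Subgroup.card_eq_one.1 h1
    exact Subgroup.mem_bot.1 (this ▸ ⟨g, rfl⟩)
  have := congrArg (fun f : MulAut N => (f ⟨n, hn⟩ : P)) hg
  simp [φ] at this
  rw [mul_inv_eq_iff_eq_mul] at this
  exact this

/-- Let p be a prime and P a group of order p^4. Then P' has index p^2 in P if and only if P has maximal nilpotency class, that is, nilpotency class exactly 3. -/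
theorem result {P : Type*} [Group P] [Finite P] (p : ℕ) [Fact p.Prime] (hP : Nat.card P = p ^ 4) :
    (commutator P).index = p ^ 2 ↔ Group.nilpotencyClass P = 3 := by
  have hp : p.Prime := Fact.out
  have hpg : IsPGroup p P := IsPGroup.of_card hP
  have := hpg.isNilpotent
  by_cases hab : Subgroup.center P = ⊤
  · have hc : commutator P = ⊥ := by
      rw [commutator_def, Subgroup.commutator_eq_bot_iff_le_centralizer]
      intro g _
      rw [Subgroup.mem_centralizer_iff]
      intro h _
      exact Subgroup.mem_center_iff.1 (hab ▸ Subgroup.mem_top g) h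
    have h1 : Group.nilpotencyClass P ≤ 1 := by
      rw [← upperCentralSeries_eq_top_iff_nilpotencyClass_le, Subgroup.upperCentralSeries_one, hab]
    rw [hc, Subgroup.index_bot, hP]
    constructor
    · intro h
      exact absurd (Nat.pow_right_injective hp.two_le h) (by norm_num)
    · intro h
      omega
  · have h := CfsgLib.PGroup.AbelianMax.card_commutator_mul_card_center_pow_four p hP hab
    have hci := (commutator P).card_mul_index
    rw [hP] at hci
    obtain ⟨k, hk0, hk⟩ := IsPGroup.card_center_eq_prime_pow hP (by norm_num)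
    obtain ⟨c, _, hc⟩ := (Nat.dvd_prime_pow hp).1 (hP ▸ Subgroup.card_subgroup_dvd_card (commutator P))
    have hck : c + k = 3 := by
      rw [hc, hk, ← pow_add] at h
      exact Nat.pow_right_injective hp.two_le h
    have hsub : commutator P ≤ Subgroup.center P ↔ Group.nilpotencyClass P ≤ 2 := by
      rw [← lowerCentralSeries_eq_bot_iff_nilpotencyClass_le, Subgroup.lowerCentralSeries_succ,
        Subgroup.top_lowerCentralSeries_one, Subgroup.commutator_eq_bot_iff_le_centralizer,
        Subgroup.coe_top, Subgroup.centralizer_univ]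
    constructor
    · intro hi
      rw [hi] at hci
      have h2 : Nat.card (commutator P) = p ^ 2 :=
        Nat.eq_of_mul_eq_mul_right (pow_pos hp.pos 2) (by rw [hci]; ring)
      rw [hc] at h2
      have hc2 := Nat.pow_right_injective hp.two_le h2
      have hnle : ¬ commutator P ≤ Subgroup.center P := fun hle => by
        have hdd := Subgroup.card_dvd_of_le hle
        rw [hc, hk] at hdd
        have := (Nat.pow_dvd_pow_iff_le_right hp.one_lt).1 hdd
        omega
      have h3 := class_le_three p hP (by rw [hk, show k = 1 by omega, pow_one])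
      rw [hsub] at hnle
      omega
    · intro h3
      have hnle : ¬ commutator P ≤ Subgroup.center P := fun hle => by
        have := hsub.1 hle
        omega
      have hc2 : c = 2 := by
        rcases (show c = 0 ∨ c = 1 ∨ c = 2 by omega) with h0 | h0 | h0
        · exact absurd (by
            rw [h0, pow_zero, Subgroup.card_eq_one] at hc
            rw [hc]; exact bot_le) hnle
        · refine absurd (normal_prime_le_center p hpg _ ?_) hnle
          rw [hc, h0, pow_one]
        · exact h0
      rw [hc, hc2] at hci
      exact Nat.eq_of_mul_eq_mul_left (pow_pos hp.pos 2) (by rw [hci]; ring)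

end Cfsg.Agent.S4585
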