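import Cfsg.Statements.S4586
import Cfsg.Agent.Lib.PGroup.AbelianMax

set_option autoImplicit false
open Cfsg

namespace Cfsg.Agent.S4586

open scoped commutatorElement

theorem card_map_mul {P Q : Type*} [Group P] [Group Q] (π : P →* Q) (H : Subgroup P)
    (h : π.ker ≤ H) : Nat.card (H.map π) * Nat.card π.ker = Nat.card H := by
  have h1 := Subgroup.card_eq_card_quotient_mul_card_subgroup (π.comp H.subtype).ker
  rw [Nat.card_congr (QuotientGroup.quotientKerEquivRange _).toEquiv] at h1
  rw [h1, MonoidHom.range_comp, Subgroup.range_subtype]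
  congr 1
  exact Nat.card_congr ⟨fun k => ⟨⟨k, h k.2⟩, k.2⟩, fun k => ⟨k.1.1, k.2⟩,
    fun _ => rfl, fun _ => rfl⟩

theorem key {P : Type*} [Group P] [Finite P] (N : Subgroup P) [N.Normal] (hN : N.index.Prime)
    (x : P) (hx : x ∉ N) :
    Nat.card {n : N // x * n * x⁻¹ * (n : P)⁻¹ ∈ ⁅N, N⁆} * Nat.card (commutator P) =
      Nat.card (⁅N, N⁆ : Subgroup P) * Nat.card N := by
  set K : Subgroup P := ⁅N, N⁆
  have hKN : K ≤ N := Subgroup.commutator_le_right _ _
  let π := QuotientGroup.mk' K
  have hsurj : Function.Surjective π := QuotientGroup.mk'_surjective K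
  have hker : π.ker = K := QuotientGroup.ker_mk' K
  have hAn : (N.map π).Normal := Subgroup.Normal.map inferInstance π hsurj
  have hab : ∀ a ∈ N.map π, ∀ b ∈ N.map π, a * b = b * a := by
    rintro _ ⟨a, ha, rfl⟩ _ ⟨b, hb, rfl⟩
    rw [← commutatorElement_eq_one_iff_mul_comm, ← map_commutatorElement]
    exact (QuotientGroup.eq_one_iff _).2 (Subgroup.commutator_mem_commutator ha hb)
  have htop : N.map π ⊔ Subgroup.zpowers (π x) = ⊤ := by
    rw [← MonoidHom.map_zpowers, ← Subgroup.map_sup,
      CfsgLib.PGroup.AbelianMax.sup_zpowers_eq_top N hN x hx,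
      Subgroup.map_top_of_surjective π hsurj]
  have h := CfsgLib.PGroup.AbelianMax.card_eq_card_commutator_mul (N.map π) hab (π x) htop
  have hA : Nat.card (N.map π) * Nat.card K = Nat.card N := by
    have := card_map_mul π N (by rw [hker]; exact hKN)
    rwa [hker] at this
  have hC : Nat.card (commutator (P ⧸ K)) * Nat.card K = Nat.card (commutator P) := by
    have h1 := card_map_mul π (commutator P) (by
      rw [hker, commutator_def]; exact Subgroup.commutator_mono le_top le_top)
    rw [hker] at h1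
    rw [← h1, commutator_def, commutator_def, Subgroup.map_commutator,
      Subgroup.map_top_of_surjective π hsurj]
  let T : Subgroup P := (Subgroup.centralizer {π x}).comap π ⊓ N
  have hT : ∀ n : P, n ∈ N → (n ∈ T ↔ x * n * x⁻¹ * n⁻¹ ∈ K) := by
    intro n hn
    rw [← QuotientGroup.eq_one_iff (N := K) (x * n * x⁻¹ * n⁻¹)]
    simp only [T, Subgroup.mem_inf, Subgroup.mem_comap, hn, and_true,
      Subgroup.mem_centralizer_iff, Set.mem_singleton_iff, forall_eq]
    show π x * π n = π n * π x ↔ π (x * n * x⁻¹ * n⁻¹) = 1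
    simp only [map_mul, map_inv, mul_inv_eq_iff_eq_mul, one_mul]
  have hS : Nat.card T = Nat.card {n : N // x * n * x⁻¹ * (n : P)⁻¹ ∈ K} :=
    Nat.card_congr ⟨fun t => ⟨⟨t, t.2.2⟩, (hT _ t.2.2).1 t.2⟩,
      fun n => ⟨n.1, (hT _ n.1.2).2 n.2⟩, fun _ => rfl, fun _ => rfl⟩
  have hKT : K ≤ T := fun k hk => by
    refine ⟨?_, hKN hk⟩
    show π k ∈ Subgroup.centralizer {π x}
    rw [show π k = 1 from (QuotientGroup.eq_one_iff k).2 hk]
    exact Subgroup.one_mem _
  have hTm : Nat.card {a : N.map π // (a : P ⧸ K) * π x = π x * a} * Nat.card K = Nat.card T := by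
    have h1 := card_map_mul π T (by rw [hker]; exact hKT)
    rw [hker] at h1
    rw [← h1]
    congr 1
    refine Nat.card_congr ⟨fun a => ⟨a.1, ?_⟩, fun b => ⟨⟨b, ?_⟩, ?_⟩,
      fun _ => rfl, fun _ => rfl⟩
    · obtain ⟨n, hn, hn'⟩ := a.1.2
      refine ⟨n, ⟨?_, hn⟩, hn'⟩
      show π n ∈ Subgroup.centralizer {π x}
      rw [hn', Subgroup.mem_centralizer_iff]
      intro u hu
      rw [Set.mem_singleton_iff.1 hu]
      exact a.2.symm
    · obtain ⟨n, hn, hn'⟩ := b.2
      exact ⟨n, hn.2, hn'⟩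
    · obtain ⟨n, hn, hn'⟩ := b.2
      show (b : P ⧸ K) * π x = π x * b
      rw [← hn']
      exact (Subgroup.mem_centralizer_iff.1 hn.1 (π x) rfl).symm
  rw [← hS, ← hTm, ← hC, ← hA, h]
  ring

/-- Let p be a prime, P a finite p-group and N a normal subgroup of P of index p. For x ∈ P write c(x) for the number of elements n of N whose commutator x n x⁻¹ n⁻¹ lies in the derived subgroup N' (so c(x)/#N' is the order of the centralizer of x acting on N/N'). Then [P : P'] = p² if and only if c(x) = p·#N' for every x ∈ P outside N, and also if and only if c(x) = p·#N' for some x ∈ P outside N. -/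
theorem result {P : Type*} [Group P] [Finite P] (p : ℕ) [Fact p.Prime] (hP : IsPGroup p P) (N : Subgroup P) [N.Normal] (hN : N.index = p) :
    ((commutator P).index = p ^ 2 ↔ ∀ x : P, x ∉ N →
        Nat.card {n : N // x * n * x⁻¹ * (n : P)⁻¹ ∈ (commutator N).map N.subtype} = p * Nat.card (commutator N)) ∧
    ((commutator P).index = p ^ 2 ↔ ∃ x : P, x ∉ N ∧
        Nat.card {n : N // x * n * x⁻¹ * (n : P)⁻¹ ∈ (commutator N).map N.subtype} = p * Nat.card (commutator N)) := by
  have hp : p.Prime := Fact.out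
  have hcard : Nat.card (commutator N) = Nat.card (⁅N, N⁆ : Subgroup P) := by
    rw [← Subgroup.map_subtype_commutator, Subgroup.card_subtype]
  rw [Subgroup.map_subtype_commutator, hcard]
  have hi : ∀ x : P, x ∉ N →
      ((commutator P).index = p ^ 2 ↔
        Nat.card {n : N // x * n * x⁻¹ * (n : P)⁻¹ ∈ ⁅N, N⁆} = p * Nat.card (⁅N, N⁆ : Subgroup P)) := by
    intro x hx
    have h := key N (hN ▸ hp) x hx
    have h1 := (commutator P).card_mul_index
    have h2 := N.card_mul_index
    rw [hN] at h2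
    have hC : 0 < Nat.card (commutator P) := Nat.card_pos
    have hD : 0 < Nat.card (⁅N, N⁆ : Subgroup P) := Nat.card_pos
    constructor
    · intro he
      rw [he, ← h2] at h1
      have hn : Nat.card N = p * Nat.card (commutator P) :=
        Nat.eq_of_mul_eq_mul_right hp.pos (by rw [← h1]; ring)
      rw [hn] at h
      exact Nat.eq_of_mul_eq_mul_right hC (by rw [h]; ring)
    · intro he
      rw [he] at h
      have hn : Nat.card N = p * Nat.card (commutator P) :=
        Nat.eq_of_mul_eq_mul_left hD (by rw [← h]; ring)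
      rw [← h2, hn] at h1
      exact Nat.eq_of_mul_eq_mul_left hC (by rw [h1]; ring)
  obtain ⟨x₀, hx₀⟩ : ∃ x, x ∉ N := by
    by_contra hh
    have : N = ⊤ := eq_top_iff.2 fun x _ => not_not.1 fun hx => hh ⟨x, hx⟩
    rw [this, Subgroup.index_top] at hN
    exact hp.ne_one hN.symm
  exact ⟨⟨fun h x hx => (hi x hx).1 h, fun h => (hi x₀ hx₀).2 (h x₀ hx₀)⟩,
    ⟨fun h => ⟨x₀, hx₀, (hi x₀ hx₀).1 h⟩, fun ⟨x, hx, h⟩ => (hi x hx).2 h⟩⟩

end Cfsg.Agent.S4586
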