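import Cfsg.Statements.S4587
import Cfsg.Agent.Lib.BlockPrincipal.AbelianizationPSqStructure

set_option autoImplicit false
open Cfsg

namespace Cfsg.Agent.S4587

open Cfsg CfsgLib CfsgLib.AbPSq

universe u

variable {G : Type u} [Group G] [Finite G] {p : ℕ} [Fact p.Prime]

/-- Centralizers of a Sylow subgroup inject into centralizers of the group. -/
theorem card_centralizer_dvd (P : Sylow p G) (y : (P : Subgroup G)) :
    Nat.card (Subgroup.centralizer ({y} : Set (P : Subgroup G))) ∣
      Nat.card (Subgroup.centralizer ({(y : G)} : Set G)) := by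
  rw [← Subgroup.card_map_of_injective (P : Subgroup G).subtype_injective]
  refine Subgroup.card_dvd_of_le ?_
  rintro _ ⟨c, hc, rfl⟩
  exact Subgroup.mem_centralizer_singleton_iff.2
    (congrArg Subtype.val (Subgroup.mem_centralizer_singleton_iff.1 hc))

theorem card_centralizer_conj (x g : G) :
    Nat.card (Subgroup.centralizer ({g⁻¹ * x * g} : Set G)) =
      Nat.card (Subgroup.centralizer ({x} : Set G)) := by
  refine Nat.card_congr ((MulAut.conj g).toEquiv.subtypeEquiv fun c => ?_)
  show c ∈ Subgroup.centralizer {g⁻¹ * x * g} ↔ g * c * g⁻¹ ∈ Subgroup.centralizer {x}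
  rw [Subgroup.mem_centralizer_singleton_iff, Subgroup.mem_centralizer_singleton_iff]
  constructor
  · intro h
    calc g * c * g⁻¹ * x = g * (c * (g⁻¹ * x * g)) * g⁻¹ := by group
      _ = g * (g⁻¹ * x * g * c) * g⁻¹ := by rw [h]
      _ = x * (g * c * g⁻¹) := by group
  · intro h
    calc c * (g⁻¹ * x * g) = g⁻¹ * (g * c * g⁻¹ * x) * g := by group
      _ = g⁻¹ * (x * (g * c * g⁻¹)) * g := by rw [h]
      _ = g⁻¹ * x * g * c := by group

/-- Some conjugate of a `p`-element lies in `P` with a Sylow subgroup of its centralizer. -/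
theorem exists_conj_mem (P : Sylow p G) (x : G) (hx : ∃ k : ℕ, orderOf x = p ^ k) :
    ∃ (g : G) (y : (P : Subgroup G)), (y : G) = g⁻¹ * x * g ∧
      p ^ (Nat.card (Subgroup.centralizer ({x} : Set G))).factorization p ≤
        Nat.card (Subgroup.centralizer ({y} : Set (P : Subgroup G))) := by
  set C := Subgroup.centralizer ({x} : Set G) with hC
  have hxC : x ∈ C := Subgroup.mem_centralizer_singleton_iff.2 rfl
  obtain ⟨k, hk⟩ := hx
  let x' : C := ⟨x, hxC⟩
  have hzp : IsPGroup p (Subgroup.zpowers x') := IsPGroup.of_card (n := k)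
    (by rw [Nat.card_zpowers, ← Subgroup.orderOf_coe x']; exact hk)
  obtain ⟨R, hR⟩ := hzp.exists_le_sylow
  obtain ⟨P₁, hP₁⟩ := (R.isPGroup'.map C.subtype).exists_le_sylow
  obtain ⟨g, hg⟩ := MulAction.exists_smul_eq G P P₁
  have hmem : ∀ r ∈ (R : Subgroup C), g⁻¹ * (r : G) * g ∈ (P : Subgroup G) := by
    intro r hr
    have h1 := hP₁ (Subgroup.mem_map_of_mem _ hr)
    rw [← hg, Sylow.coe_subgroup_smul, Subgroup.mem_pointwise_smul_iff_inv_smul_mem] at h1
    simpa [MulAut.smul_def, MulAut.conj_inv_apply] using h1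
  refine ⟨g, ⟨g⁻¹ * x * g, hmem x' (hR (Subgroup.mem_zpowers x'))⟩, rfl, ?_⟩
  rw [← R.card_eq_multiplicity]
  refine Nat.card_le_card_of_injective
    (fun r : (R : Subgroup C) => (⟨⟨_, hmem r r.2⟩, ?_⟩ :
      Subgroup.centralizer ({⟨g⁻¹ * x * g, hmem x' (hR (Subgroup.mem_zpowers x'))⟩} :
        Set (P : Subgroup G)))) fun a b h => ?_
  · refine Subgroup.mem_centralizer_singleton_iff.2 (Subtype.ext ?_)
    show g⁻¹ * (r : C) * g * (g⁻¹ * x * g) = g⁻¹ * x * g * (g⁻¹ * (r : C) * g)
    calc g⁻¹ * (r : C) * g * (g⁻¹ * x * g) = g⁻¹ * (((r : C) : G) * x) * g := by group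
      _ = g⁻¹ * (x * ((r : C) : G)) * g := by
          rw [Subgroup.mem_centralizer_singleton_iff.1 (r : C).2]
      _ = g⁻¹ * x * g * (g⁻¹ * (r : C) * g) := by group
  · have h1 := congrArg (fun t => ((t.1 : (P : Subgroup G)) : G)) h
    exact Subtype.ext (Subtype.ext (mul_left_cancel (mul_right_cancel h1)))


/-- Let G be a finite group, p a prime and P a Sylow p-subgroup of order at least p². Assume that G has no nontrivial normal subgroup of order prime to p, that the derived subgroup P' of P contains no nontrivial normal subgroup of G, and that G is not almost simple (there is no non-abelian simple normal subgroup of G with trivial centralizer). Then [P : P'] = p² if and only if some p-element x of G has centralizer whose order has p-part exactly p². -/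
theorem result {G : Type*} [Group G] [Finite G] (p : ℕ) [Fact p.Prime] (P : Sylow p G) (hbig : p ^ 2 ∣ Nat.card G) (hcore : Cfsg.pPrimeCore p G = ⊥)
    (hcore' : (⁅(P : Subgroup G), (P : Subgroup G)⁆).normalCore = ⊥) (hnas : ¬ ∃ S : Subgroup G, S.Normal ∧ IsSimpleGroup S ∧ ¬ IsMulCommutative S ∧ Subgroup.centralizer (S : Set G) = ⊥) :
    (⁅(P : Subgroup G), (P : Subgroup G)⁆).relIndex (P : Subgroup G) = p ^ 2 ↔
      ∃ x : G, (∃ k : ℕ, orderOf x = p ^ k) ∧ (Nat.card (Subgroup.centralizer ({x} : Set G))).factorization p = 2 := by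
  have hp : p.Prime := Fact.out
  have hPcard : p ^ 2 ≤ Nat.card (P : Subgroup G) := by
    rw [P.card_eq_multiplicity]
    exact Nat.pow_le_pow_right hp.pos ((hp.pow_dvd_iff_le_factorization Nat.card_pos.ne').1 hbig)
  constructor
  · intro h2
    rcases structure_of_abelianization_p_sq P hcore hcore' hnas h2 with hc | ⟨N, hN, hidx, hab⟩
    · refine ⟨1, ⟨0, by simp⟩, ?_⟩
      have htop : Subgroup.centralizer ({(1 : G)} : Set G) = ⊤ :=
        eq_top_iff.2 fun g _ => Subgroup.mem_centralizer_singleton_iff.2 (by simp)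
      rw [htop, Subgroup.card_top]
      rw [P.card_eq_multiplicity] at hc
      exact Nat.pow_right_injective hp.two_le hc
    · rw [← index_commutator_sylow P] at h2
      set A := (N ⊓ (P : Subgroup G)).subgroupOf P with hA
      haveI : A.Normal := ⟨fun x hx g => ⟨hN.conj_mem x hx.1 g, (g * x * g⁻¹).2⟩⟩
      have hAi : A.index = p := by
        exact (Subgroup.inf_relIndex_right N (P : Subgroup G)).trans hidx
      have hcent : ∀ y : (P : Subgroup G), (y : G) ∉ N →
          Nat.card (Subgroup.centralizer ({y} : Set (P : Subgroup G))) = p ^ 2 := fun y hy =>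
        card_centralizer h2 A (fun a ha b hb => Subtype.ext (hab a ha b hb)) hAi y
          fun h => hy h.1
      obtain ⟨y, hyA⟩ : ∃ y, y ∉ A := by
        by_contra hh
        push Not at hh
        have ht : A = ⊤ := eq_top_iff.2 fun y _ => hh y
        rw [ht, Subgroup.index_top] at hAi
        exact hp.ne_one hAi.symm
      have hyN : (y : G) ∉ N := fun h => hyA ⟨h, y.2⟩
      have hpow : ∃ k : ℕ, orderOf (y : G) = p ^ k := by
        rw [Subgroup.orderOf_coe]; exact IsPGroup.iff_orderOf.1 P.isPGroup' y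
      refine ⟨y, hpow, le_antisymm ?_ ?_⟩
      · obtain ⟨g, z, hz, hle⟩ := exists_conj_mem P (y : G) hpow
        rw [hcent z fun h => hyN (by
          have := hN.conj_mem _ h g
          rw [hz] at this
          simpa [mul_assoc] using this)] at hle
        exact (Nat.pow_le_pow_iff_right hp.one_lt).1 hle
      · rw [← hp.pow_dvd_iff_le_factorization Nat.card_pos.ne', ← hcent y hyN]
        exact card_centralizer_dvd P y
  · rintro ⟨x, hx, hv⟩
    obtain ⟨g, y, hy, -⟩ := exists_conj_mem P x hx
    have hle : Nat.card (Subgroup.centralizer ({y} : Set (P : Subgroup G))) ≤ p ^ 2 := by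
      obtain ⟨n, hn⟩ := IsPGroup.iff_card.1
        (P.isPGroup'.to_subgroup (Subgroup.centralizer ({y} : Set (P : Subgroup G))))
      have h1 := card_centralizer_dvd P y
      rw [hn, hy, card_centralizer_conj, hp.pow_dvd_iff_le_factorization Nat.card_pos.ne', hv] at h1
      rw [hn]
      exact Nat.pow_le_pow_right hp.pos h1
    rw [← index_commutator_sylow P]
    refine le_antisymm ((index_commutator_le y).trans hle) ?_
    by_contra hlt
    obtain ⟨j, hj⟩ := IsPGroup.iff_card.1 (P.isPGroup'.to_quotient (commutator (P : Subgroup G)))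
    rw [← Subgroup.index_eq_card] at hj
    rw [hj, not_le] at hlt
    have hj1 : j < 2 := (Nat.pow_lt_pow_iff_right hp.one_lt).1 hlt
    have hbot := commutator_eq_bot_of_index_le P.isPGroup' (by
      rw [hj]
      exact le_trans (Nat.pow_le_pow_right hp.pos (show j ≤ 1 by omega)) (pow_one p).le)
    rw [hbot, Subgroup.index_bot] at hj
    rw [hj] at hPcard
    exact absurd hPcard (not_le.2 hlt)

end Cfsg.Agent.S4587
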