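import Cfsg.Statements.S4588
import Cfsg.Agent.Lib.BlockPrincipal.SmallDefectTwo

set_option autoImplicit false
open Cfsg

namespace Cfsg.Agent.S4588

open CfsgLib CfsgLib.SmallDefect

universe u

theorem bound_of_orderOf {G : Type u} [Group G] [Fintype G] {p : ℕ} [Fact p.Prime] {M : Ideal Cfsg.AlgInt}
    (hM : Cfsg.IsPModular p M) {x : G} {k : ℕ} (hk : 1 ≤ k) (hx : orderOf x = p ^ k)
    (hf : (Nat.card (Subgroup.centralizer ({x} : Set G))).factorization p ≤ 2) :
    Nat.card {χ : Cfsg.IrrCharacter G // χ ∈ Cfsg.principalBlock M G ∧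
      ¬ p ∣ Cfsg.charDegree (χ : G → ℂ)} ≤ p ^ 2 := by
  have hp : p.Prime := Fact.out
  let _ := Fintype.ofFinite (Subgroup.centralizer ({x} : Set G))
  have hxC : x ∈ Subgroup.centralizer ({x} : Set G) := Subgroup.mem_centralizer_singleton_iff.2 rfl
  have hkf : k ≤ (Nat.card (Subgroup.centralizer ({x} : Set G))).factorization p := by
    refine (hp.pow_dvd_iff_le_factorization Nat.card_pos.ne').1 ?_
    rw [← hx, ← Subgroup.orderOf_mk x hxC]
    exact orderOf_dvd_natCard _
  by_cases h : (Nat.card (Subgroup.centralizer ({x} : Set G))).factorization p = k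
  · exact (card_le_of_cyclic hM rfl hx h).trans (Nat.pow_le_pow_right hp.pos (by omega))
  · have hk1 : k = 1 := by omega
    exact card_le_of_order_prime hM rfl (by rw [hx, hk1, pow_one]) (by omega)

/-- Let G be a finite group, p a prime and M a maximal ideal of the algebraic integers containing p. If some p-element x of G (possibly x = 1) has centralizer whose order has p-part at most p², then the principal p-block of G contains at most p² irreducible characters of degree prime to p. -/
theorem result {G : Type*} [Group G] [Finite G] (p : ℕ) [Fact p.Prime] (M : Ideal Cfsg.AlgInt) (hM : Cfsg.IsPModular p M)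
    (hx : ∃ x : G, (∃ k : ℕ, orderOf x = p ^ k) ∧ (Nat.card (Subgroup.centralizer ({x} : Set G))).factorization p ≤ 2) :
    Nat.card {χ : Cfsg.IrrCharacter G // χ ∈ Cfsg.principalBlock M G ∧ ¬ p ∣ Cfsg.charDegree (χ : G → ℂ)} ≤ p ^ 2 := by
  obtain ⟨x, ⟨k, hk⟩, hf⟩ := hx
  cases nonempty_fintype G
  have hp : p.Prime := Fact.out
  rcases Nat.eq_zero_or_pos k with rfl | hpos
  swap
  · exact bound_of_orderOf hM hpos hk hf
  rw [pow_zero] at hk
  have hx1 : x = 1 := orderOf_eq_one_iff.1 hk
  subst hx1
  have htop : Subgroup.centralizer ({(1 : G)} : Set G) = ⊤ :=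
    eq_top_iff.2 fun g _ => Subgroup.mem_centralizer_singleton_iff.2 (by simp)
  rw [htop, Subgroup.card_top] at hf
  rcases Nat.eq_zero_or_pos ((Nat.card G).factorization p) with h0 | h0
  · have h1 := CfsgLib.Blk83.card_principalBlock_le (G := G) p M hM
    rw [h0, mul_zero, pow_zero] at h1
    refine le_trans (le_trans ?_ h1) (Nat.one_le_pow 2 p hp.pos)
    exact Nat.card_le_card_of_injective
      (fun χ : {χ : Cfsg.IrrCharacter G // χ ∈ Cfsg.principalBlock M G ∧
        ¬ p ∣ Cfsg.charDegree (χ : G → ℂ)} => (⟨χ.1, χ.2.1⟩ : Cfsg.principalBlock M G))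
      fun a b h => Subtype.ext (Subtype.mk.inj h)
  obtain ⟨y, hy⟩ := exists_prime_orderOf_dvd_card' (G := G) p
    (Nat.dvd_of_factorization_pos h0.ne')
  refine bound_of_orderOf hM le_rfl (by rw [hy, pow_one]) (le_trans ?_ hf)
  exact (Nat.factorization_le_iff_dvd Nat.card_pos.ne' Nat.card_pos.ne').2
    (Subgroup.card_subgroup_dvd_card _) p

end Cfsg.Agent.S4588
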