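import Cfsg.Statements.S4601
import Cfsg.Agent.Lib.Blocks82.HallHigman
import Cfsg.Agent.Lib.Solvable.CoprimeAction
import Mathlib.Data.Fintype.Card

set_option autoImplicit false
open scoped Pointwise
open Cfsg

namespace Cfsg.Agent.S4601

/-- The case in which `G` is `p`-soluble. -/
theorem pSolvable_case {G : Type*} [Group G] [Finite G] (p q : ℕ) [Fact p.Prime] [Fact q.Prime]
    (hpq : p ≠ q) (hsolv : Cfsg.IsPSolvable p G)
    (h : ∀ y : G, (∃ k : ℕ, orderOf y = q ^ k) → ¬ p ∣ (Subgroup.centralizer ({y} : Set G)).index) :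
    ∃ (P : Sylow p G) (Q : Sylow q G), (P : Subgroup G) ≤ Subgroup.normalizer ((Q : Subgroup G) : Set G) := by
  haveI := CfsgLib.Solvable.pPrimeCore_normal p G
  refine CfsgLib.Blocks82.exists_sylow_le_normalizer _ (CfsgLib.Solvable.pPrimeCore_card_coprime p G) ?_
  set K := Cfsg.pPrimeCore p G
  have hf := QuotientGroup.mk'_surjective K
  intro hq
  obtain ⟨Q⟩ := (inferInstance : Nonempty (Sylow q G))
  have hne := (Q.mapSurjective hf).ne_bot_of_dvd_card (by rw [← Subgroup.index_eq_card]; exact hq)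
  refine hne (eq_bot_iff.mpr ?_)
  rintro z hz
  rw [Sylow.coe_mapSurjective] at hz
  obtain ⟨y, hy, rfl⟩ := hz
  obtain ⟨k, hk⟩ := IsPGroup.iff_orderOf.mp Q.isPGroup' ⟨y, hy⟩
  rw [Subgroup.orderOf_mk] at hk
  set C := Subgroup.centralizer ({y} : Set G) with hC
  obtain ⟨S⟩ := (inferInstance : Nonempty (Sylow p C))
  obtain ⟨P, hP⟩ := (S.isPGroup'.map C.subtype).exists_le_sylow
  have hcard : Nat.card (P : Subgroup G) = Nat.card ((S : Subgroup C).map C.subtype) := by
    rw [Subgroup.card_map_of_injective C.subtype_injective, P.card_eq_multiplicity,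
      S.card_eq_multiplicity, ← C.card_mul_index,
      Nat.factorization_mul Nat.card_pos.ne' Subgroup.index_ne_zero_of_finite, Finsupp.add_apply,
      Nat.factorization_eq_zero_of_not_dvd (h y ⟨k, hk⟩), add_zero]
  have hPC : (P : Subgroup G) ≤ C := by
    rw [← Subgroup.eq_of_le_of_card_ge hP hcard.le]; exact Subgroup.map_subtype_le _
  have hU := CfsgLib.Solvable.pCore_le_sylow (P.mapSurjective hf)
  rw [Sylow.coe_mapSurjective] at hU
  have hcent : QuotientGroup.mk' K y ∈ Subgroup.centralizer (Cfsg.pCore p (G ⧸ K) : Set (G ⧸ K)) := by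
    rw [Subgroup.mem_centralizer_iff]
    intro u hu
    obtain ⟨v, hv, rfl⟩ := hU hu
    rw [← map_mul, ← map_mul, Subgroup.mem_centralizer_singleton_iff.mp (hPC hv)]
  have hmem := CfsgLib.Blocks82.centralizer_pCore_le (p := p)
    (CfsgLib.Blocks82.isPSolvable_quotient hsolv K)
    (CfsgLib.Solvable.pPrimeCore_quotient_eq_bot K rfl) hcent
  exact Subgroup.mem_bot.mpr (Subgroup.disjoint_def.mp (IsPGroup.disjoint_of_ne p q hpq _ _
    (CfsgLib.Solvable.pCore_isPGroup p _) (Q.isPGroup'.map (QuotientGroup.mk' K))) hmem ⟨y, hy, rfl⟩)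

/-- A Sylow subgroup contained in a subgroup of index prime to `p`. -/
theorem exists_sylow_le {G : Type*} [Group G] [Finite G] {p : ℕ} [Fact p.Prime] (H : Subgroup G)
    (h : ¬ p ∣ H.index) : ∃ P : Sylow p G, (P : Subgroup G) ≤ H := by
  obtain ⟨S⟩ := (inferInstance : Nonempty (Sylow p H))
  obtain ⟨P, hP⟩ := (S.isPGroup'.map H.subtype).exists_le_sylow
  have hcard : Nat.card (P : Subgroup G) = Nat.card ((S : Subgroup H).map H.subtype) := by
    rw [Subgroup.card_map_of_injective H.subtype_injective, P.card_eq_multiplicity,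
      S.card_eq_multiplicity, ← H.card_mul_index,
      Nat.factorization_mul Nat.card_pos.ne' Subgroup.index_ne_zero_of_finite, Finsupp.add_apply,
      Nat.factorization_eq_zero_of_not_dvd h, add_zero]
  exact ⟨P, by rw [← Subgroup.eq_of_le_of_card_ge hP hcard.le]; exact Subgroup.map_subtype_le _⟩

/-- For `M` normal, `|M : H ⊓ M|` divides `|G : H|`. -/
theorem relIndex_dvd_index' {G : Type*} [Group G] [Finite G] (H M : Subgroup G) [M.Normal] :
    H.relIndex M ∣ H.index := by
  refine dvd_trans ?_ (Subgroup.relIndex_dvd_index_of_le (le_sup_left : H ≤ H ⊔ M))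
  have h3 := Subgroup.relIndex_sup_right H M
  have h4 := Subgroup.relIndex_mul_relIndex (H ⊓ M) H (H ⊔ M) inf_le_left le_sup_left
  have h5 := Subgroup.relIndex_mul_relIndex (H ⊓ M) M (H ⊔ M) inf_le_right le_sup_right
  rw [inf_comm H M, Subgroup.inf_relIndex_right, ← h3, inf_comm M H] at h4
  rw [Subgroup.inf_relIndex_right, ← h4, mul_comm (H.relIndex M)] at h5
  have hpos : 0 < M.relIndex (H ⊔ M) := by
    rw [Subgroup.relIndex]
    exact Nat.pos_of_ne_zero Subgroup.index_ne_zero_of_finite
  exact ⟨1, by rw [mul_one]; exact (Nat.eq_of_mul_eq_mul_left hpos h5).symm⟩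

/-- A `q`-subgroup normalizing a normal `q'`-subgroup centralizes one of its Sylow `p`-subgroups. -/
theorem exists_centralized_sylow {G : Type*} [Group G] [Finite G] (p q : ℕ) [Fact p.Prime]
    [Fact q.Prime] (M : Subgroup G) [M.Normal] (hM : (Nat.card M).Coprime q) (Q : Sylow q G)
    (h : ∀ y : G, (∃ k : ℕ, orderOf y = q ^ k) → ¬ p ∣ (Subgroup.centralizer ({y} : Set G)).index) :
    ∃ S : Sylow p M, (Q : Subgroup G) ≤
      Subgroup.centralizer (((S : Subgroup M).map M.subtype : Subgroup G) : Set G) := by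
  have hn : ∀ A : Subgroup G, A ≤ Subgroup.normalizer (M : Set G) := fun A => by
    rw [Subgroup.normalizer_eq_top]; exact le_top
  obtain ⟨m, hm⟩ := IsPGroup.iff_card.mp Q.isPGroup'
  have hcop : (Nat.card (Q : Subgroup G)).Coprime (Nat.card M) := by
    rw [hm]; exact hM.symm.pow_left m
  haveI := Q.isPGroup'.isNilpotent
  obtain ⟨S, hS⟩ := CfsgLib.Solvable.exists_invariant_sylow (A := (Q : Subgroup G)) (hn _) hcop
    (Or.inl inferInstance) p
  refine ⟨S, fun y hy => ?_⟩
  obtain ⟨k, hk⟩ := IsPGroup.iff_orderOf.mp Q.isPGroup' ⟨y, hy⟩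
  rw [Subgroup.orderOf_mk] at hk
  set C := Subgroup.centralizer ({y} : Set G) with hC
  obtain ⟨S', hS'⟩ := exists_sylow_le (p := p) (C.subgroupOf M)
    (fun hd => h y ⟨k, hk⟩ (hd.trans (relIndex_dvd_index' C M)))
  set A := Subgroup.zpowers y with hA
  have hAQ : A ≤ (Q : Subgroup G) := Subgroup.zpowers_le.mpr hy
  have hcA : (Nat.card A).Coprime (Nat.card M) :=
    Nat.Coprime.coprime_dvd_left (Subgroup.card_dvd_of_le hAQ) hcop
  have hS'inv : A ≤ Subgroup.normalizer (((S' : Subgroup M).map M.subtype : Subgroup G) : Set G) := by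
    refine (Subgroup.zpowers_le.mpr ?_).trans (Subgroup.centralizer_le_normalizer (G := G) _)
    rw [Subgroup.mem_centralizer_iff]
    rintro _ ⟨s, hs, rfl⟩
    exact Subgroup.mem_centralizer_singleton_iff.mp (Subgroup.mem_subgroupOf.mp (hS' hs))
  obtain ⟨c, hc, hcS⟩ := CfsgLib.Solvable.exists_invariant_sylow_conj (A := A) (hn _) hcA
    (Or.inl inferInstance) S' S hS'inv (hAQ.trans hS)
  rw [Subgroup.mem_centralizer_iff]
  rintro _ ⟨s, hs, rfl⟩
  rw [← hcS] at hs
  change s ∈ MulAut.conj c • ((S' : Subgroup M)) at hs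
  rw [Subgroup.mem_pointwise_smul_iff_inv_smul_mem] at hs
  have hcy : y * (c : G) = c * y :=
    Subgroup.mem_centralizer_iff.mp hc y (Subgroup.mem_zpowers y)
  have hsy : ((c⁻¹ * s * c : M) : G) * y = y * ((c⁻¹ * s * c : M) : G) := by
    refine Subgroup.mem_centralizer_singleton_iff.mp (Subgroup.mem_subgroupOf.mp (hS' ?_))
    simpa [MulAut.smul_def] using hs
  simp only [Subgroup.coe_mul, Subgroup.coe_inv] at hsy
  show (s : G) * y = y * (s : G)
  calc (s : G) * y = (c : G) * (((c : G)⁻¹ * s * c) * y) * (c : G)⁻¹ := by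
        rw [mul_assoc ((c : G)⁻¹ * s) (c : G) y, ← hcy]; group
    _ = (c : G) * (y * ((c : G)⁻¹ * s * c)) * (c : G)⁻¹ := by rw [hsy]
    _ = y * (s : G) := by
        rw [← mul_assoc (c : G) y, ← hcy]; group

/-- The case in which `G` is `q`-soluble. -/
theorem qSolvable_case (p q : ℕ) [hp : Fact p.Prime] [hq : Fact q.Prime] (n : ℕ) :
    ∀ (G : Type*) [Group G] [Finite G], Nat.card G ≤ n → Cfsg.IsPSolvable q G →
    (∀ y : G, (∃ k : ℕ, orderOf y = q ^ k) → ¬ p ∣ (Subgroup.centralizer ({y} : Set G)).index) →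
    ∃ (P : Sylow p G) (Q : Sylow q G), (P : Subgroup G) ≤ Subgroup.normalizer ((Q : Subgroup G) : Set G) := by
  induction n with
  | zero =>
    intro G _ _ hn
    exact absurd hn (by have := Nat.card_pos (α := G); omega)
  | succ n ih =>
    intro G _ _ hn hsolv hyp
    by_cases hG : Subsingleton G
    · obtain ⟨P⟩ := (inferInstance : Nonempty (Sylow p G))
      obtain ⟨Q⟩ := (inferInstance : Nonempty (Sylow q G))
      refine ⟨P, Q, fun x _ => ?_⟩
      rw [Subsingleton.elim x 1]; exact Subgroup.one_mem _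
    -- a nontrivial normal `q`- or `q'`-subgroup
    obtain ⟨M, hMn, hMb, hMc⟩ : ∃ M : Subgroup G, M.Normal ∧ M ≠ ⊥ ∧
        (IsPGroup q M ∨ (Nat.card M).Coprime q) := by
      obtain ⟨m, H, h0, htop, hmono, hnor, hfac⟩ := hsolv
      by_contra hc
      push Not at hc
      have hall : ∀ i : Fin (m + 1), H i = ⊥ := by
        intro i
        induction i using Fin.induction with
        | zero => exact h0
        | succ i hi =>
          by_contra hb
          obtain ⟨h1, h2⟩ := hc _ (hnor i.succ) hb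
          have h3 := hfac i
          rw [hi, Subgroup.relIndex_bot_left] at h3
          exact h3.elim (fun ⟨k, hk⟩ => h1 (IsPGroup.iff_card.mpr ⟨k, hk⟩)) h2
      have : Nontrivial (Subgroup G) := by
        haveI : Nontrivial G := not_subsingleton_iff_nontrivial.mp hG
        infer_instance
      exact top_ne_bot (α := Subgroup G) (htop ▸ hall _)
    haveI := hMn
    have hlt : Nat.card (G ⧸ M) < Nat.card G := by
      rw [← Subgroup.index_eq_card, ← M.card_mul_index]
      exact lt_mul_left (Nat.pos_of_ne_zero Subgroup.index_ne_zero_of_finite)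
        (Subgroup.one_lt_card_iff_ne_bot M |>.mpr hMb)
    have hf := QuotientGroup.mk'_surjective M
    set f := QuotientGroup.mk' M with hfdef
    have hyp' : ∀ y : G ⧸ M, (∃ k : ℕ, orderOf y = q ^ k) →
        ¬ p ∣ (Subgroup.centralizer ({y} : Set (G ⧸ M))).index := by
      intro y hy hd
      obtain ⟨k, hk⟩ := hy
      obtain ⟨R, hR⟩ := (show IsPGroup q (Subgroup.zpowers y) from
        IsPGroup.iff_card.mpr ⟨k, by rw [Nat.card_zpowers, hk]⟩).exists_le_sylow
      obtain ⟨Q, rfl⟩ := Sylow.mapSurjective_surjective hf q R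
      have := hR (Subgroup.mem_zpowers y)
      rw [Sylow.coe_mapSurjective] at this
      obtain ⟨z, hz, rfl⟩ := this
      obtain ⟨j, hj⟩ := IsPGroup.iff_orderOf.mp Q.isPGroup' ⟨z, hz⟩
      rw [Subgroup.orderOf_mk] at hj
      refine hyp z ⟨j, hj⟩ (hd.trans ((Subgroup.index_dvd_of_le ?_).trans (Subgroup.index_map_dvd _ hf)))
      rintro _ ⟨c, hc, rfl⟩
      rw [Subgroup.mem_centralizer_singleton_iff, ← map_mul, ← map_mul,
        Subgroup.mem_centralizer_singleton_iff.mp hc]
    obtain ⟨P', Q', hPQ⟩ := ih (G ⧸ M) (by omega)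
      (CfsgLib.Blocks82.isPSolvable_quotient hsolv M) hyp'
    obtain ⟨Q, rfl⟩ := Sylow.mapSurjective_surjective hf q Q'
    obtain ⟨P, rfl⟩ := Sylow.mapSurjective_surjective hf p P'
    rw [Sylow.coe_mapSurjective, Sylow.coe_mapSurjective] at hPQ
    set L := (Q : Subgroup G) ⊔ M with hL
    have hPL : (P : Subgroup G) ≤ Subgroup.normalizer (L : Set G) := by
      have h1 : ((Q : Subgroup G).map f).comap f = L := by
        rw [Subgroup.comap_map_eq, hfdef, QuotientGroup.ker_mk']
      rw [← h1]
      refine le_trans ?_ (Subgroup.le_normalizer_comap f)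
      exact Subgroup.map_le_iff_le_comap.mp hPQ
    rcases hMc with hMq | hMco
    · have : M ≤ (Q : Subgroup G) := hMq.le_sylow_of_normal Q
      rw [hL, sup_eq_left.mpr this] at hPL
      exact ⟨P, Q, hPL⟩
    obtain ⟨S, hS⟩ := exists_centralized_sylow p q M hMco Q hyp
    set N := Subgroup.normalizer (L : Set G) with hNdef
    have hLN : L ≤ N := Subgroup.le_normalizer
    have hMN : M ≤ N := le_sup_right.trans hLN
    set R := Subgroup.normalizer ((Q : Subgroup G) : Set G) ⊓ N with hR
    -- `R` covers `N / M`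
    have hcov : R ⊔ M = N := by
      refine le_antisymm (sup_le inf_le_right hMN) fun g hg => ?_
      have hQL : (Q : Subgroup G) ≤ L := le_sup_left
      have hgQ : ((g • Q : Sylow q G) : Subgroup G) ≤ L := by
        rintro _ ⟨x, hx, rfl⟩
        exact ((Subgroup.mem_normalizer_iff.mp hg) x).mp (hQL hx)
      obtain ⟨l, hl⟩ := MulAction.exists_smul_eq L ((g • Q).subtype hgQ) (Q.subtype hQL)
      rw [Sylow.smul_subtype] at hl
      have hl' := Sylow.subtype_injective hl
      rw [Subgroup.smul_def, smul_smul] at hl'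
      have hlg : (l : G) * g ∈ Subgroup.normalizer ((Q : Subgroup G) : Set G) :=
        Sylow.smul_eq_iff_mem_normalizer.mp hl'
      have hlg' : (l : G) * g ∈ R := ⟨hlg, N.mul_mem (hLN l.2) hg⟩
      have hl2 : (l : G) ∈ R ⊔ M := by
        have : L ≤ R ⊔ M := sup_le ((le_inf Subgroup.le_normalizer (hQL.trans hLN)).trans le_sup_left)
          le_sup_right
        exact this l.2
      have := (R ⊔ M).mul_mem ((R ⊔ M).inv_mem hl2) ((le_sup_left : R ≤ R ⊔ M) hlg')
      simpa using this
    -- the index of `R` is prime to `p`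
    have hidx : ¬ p ∣ R.index := by
      have h3 := Subgroup.relIndex_mul_index (hcov ▸ (le_sup_left : R ≤ R ⊔ M))
      intro hd
      rw [← h3] at hd
      rcases (Nat.Prime.dvd_mul hp.out).mp hd with hd | hd
      · have h4 := Subgroup.relIndex_mul_relIndex (R ⊓ M) R N inf_le_left inf_le_right
        have h5 := Subgroup.relIndex_mul_relIndex (R ⊓ M) M N inf_le_right hMN
        have h6 := Subgroup.relIndex_sup_right R M
        rw [hcov] at h6
        rw [inf_comm R M, Subgroup.inf_relIndex_right, ← h6, inf_comm M R] at h4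
        rw [Subgroup.inf_relIndex_right, ← h4, mul_comm (R.relIndex M)] at h5
        have h7 : R.relIndex M = R.relIndex N := Nat.eq_of_mul_eq_mul_left
          (Nat.pos_of_ne_zero (Subgroup.index_ne_zero_of_finite (H := M.subgroupOf N))) h5
        rw [← h7] at hd
        -- but a Sylow subgroup of `M` lies in `R`
        have hSR : (S : Subgroup M) ≤ R.subgroupOf M := by
          intro s hs
          rw [Subgroup.mem_subgroupOf]
          refine ⟨?_, hMN s.2⟩
          refine (Subgroup.centralizer_le_normalizer (G := G) _) ?_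
          rw [Subgroup.mem_centralizer_iff]
          intro x hx
          exact ((Subgroup.mem_centralizer_iff.mp (hS hx)) _ ⟨s, hs, rfl⟩).symm
        exact S.not_dvd_index (hd.trans (Subgroup.index_dvd_of_le hSR))
      · refine P.not_dvd_index (hd.trans (Subgroup.index_dvd_of_le ?_))
        exact hPL
    obtain ⟨P₁, hP₁⟩ := exists_sylow_le (p := p) R hidx
    exact ⟨P₁, Q, hP₁.trans inf_le_left⟩

/-- Let p and q be primes and G a finite group that is p-solvable or q-solvable, in which no q-element has conjugacy class size divisible by p. Then some Sylow p-subgroup of G normalizes some Sylow q-subgroup of G. -/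
theorem result {G : Type*} [Group G] [Finite G] (p q : ℕ) [Fact p.Prime] [Fact q.Prime] (hsolv : Cfsg.IsPSolvable p G ∨ Cfsg.IsPSolvable q G)
    (h : ∀ y : G, (∃ k : ℕ, orderOf y = q ^ k) → ¬ p ∣ (Subgroup.centralizer ({y} : Set G)).index) :
    ∃ (P : Sylow p G) (Q : Sylow q G), (P : Subgroup G) ≤ Subgroup.normalizer ((Q : Subgroup G) : Set G) := by
  by_cases hpq : p = q
  · subst hpq
    obtain ⟨P⟩ := (inferInstance : Nonempty (Sylow p G))
    exact ⟨P, P, Subgroup.le_normalizer⟩
  rcases hsolv with hs | hs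
  · exact pSolvable_case p q hpq hs h
  · exact qSolvable_case p q (Nat.card G) G le_rfl hs h

end Cfsg.Agent.S4601
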