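import Cfsg.Statements.S4602
import Cfsg.Agent.Lib.Blocks82.HallHigman

set_option autoImplicit false
open Cfsg

namespace Cfsg.Agent.S4602

/-- Let G be a finite p-solvable group and q a prime different from p. Some Sylow p-subgroup of G normalizes some Sylow q-subgroup of G if and only if q does not divide the order of G/O_{p'}(G), the quotient by the largest normal subgroup of order prime to p. -/
theorem result {G : Type*} [Group G] [Finite G] (p q : ℕ) [Fact p.Prime] [Fact q.Prime] (hpq : p ≠ q) (hsolv : Cfsg.IsPSolvable p G) :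
    (∃ (P : Sylow p G) (Q : Sylow q G), (P : Subgroup G) ≤ Subgroup.normalizer ((Q : Subgroup G) : Set G)) ↔ ¬ q ∣ (Cfsg.pPrimeCore p G).index := by
  have hp := (Fact.out : p.Prime)
  haveI := CfsgLib.Solvable.pPrimeCore_normal p G
  set K := Cfsg.pPrimeCore p G with hK
  constructor
  · rintro ⟨P, Q, hPQ⟩ hq
    have hf := QuotientGroup.mk'_surjective K
    set f := QuotientGroup.mk' K
    haveI hUn : (Cfsg.pCore p (G ⧸ K)).Normal := CfsgLib.Solvable.pCore_normal p _
    let P' := P.mapSurjective hf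
    let Q' := Q.mapSurjective hf
    have hU : Cfsg.pCore p (G ⧸ K) ≤ (P' : Subgroup (G ⧸ K)) :=
      CfsgLib.Solvable.pCore_le_sylow P'
    have hnorm : (P' : Subgroup (G ⧸ K)) ≤ Subgroup.normalizer ((Q' : Subgroup (G ⧸ K)) : Set (G ⧸ K)) := by
      rw [Sylow.coe_mapSurjective, Sylow.coe_mapSurjective]
      exact (Subgroup.map_mono hPQ).trans (Subgroup.le_normalizer_map f)
    have hdisj : ∀ z : G ⧸ K, z ∈ Cfsg.pCore p (G ⧸ K) → z ∈ (Q' : Subgroup (G ⧸ K)) → z = 1 :=
      fun z hz hz' => Subgroup.disjoint_def.mp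
        (IsPGroup.disjoint_of_ne p q hpq _ _ (CfsgLib.Solvable.pCore_isPGroup p _) Q'.isPGroup') hz hz'
    have hQC : (Q' : Subgroup (G ⧸ K)) ≤ Subgroup.centralizer (Cfsg.pCore p (G ⧸ K) : Set (G ⧸ K)) := by
      intro x hx
      rw [Subgroup.mem_centralizer_iff]
      intro u hu
      have h1 : u * x * u⁻¹ * x⁻¹ = 1 := by
        refine hdisj _ ?_ ?_
        · have := Subgroup.mul_mem _ hu (hUn.conj_mem _ (Subgroup.inv_mem _ hu) x)
          simpa [mul_assoc] using this
        · exact Subgroup.mul_mem _ (((Subgroup.mem_normalizer_iff.mp (hnorm (hU hu))) x).mp hx)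
            (Subgroup.inv_mem _ hx)
      exact (mul_inv_eq_iff_eq_mul.mp (mul_inv_eq_one.mp h1))
    have hCU := CfsgLib.Blocks82.centralizer_pCore_le (p := p)
      (CfsgLib.Blocks82.isPSolvable_quotient hsolv K) (CfsgLib.Solvable.pPrimeCore_quotient_eq_bot K rfl)
    refine Q'.ne_bot_of_dvd_card (by rw [← Subgroup.index_eq_card]; exact hq) ?_
    rw [eq_bot_iff]
    exact fun x hx => hdisj x (hCU (hQC hx)) hx
  · exact CfsgLib.Blocks82.exists_sylow_le_normalizer K (CfsgLib.Solvable.pPrimeCore_card_coprime p G)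

end Cfsg.Agent.S4602
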