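import Cfsg.Statements.S4604
import Cfsg.Agent.Lib.BlockReg.Integral

set_option autoImplicit false
open Cfsg

namespace Cfsg.Agent.S4604

theorem exists_pow_sum_eq {ι : Type*} (p : ℕ) (hp : p.Prime) (n : ℕ) (s : Finset ι) (a : ι → Cfsg.AlgInt) :
    ∃ r : Cfsg.AlgInt, (∑ i ∈ s, a i) ^ p ^ n = (∑ i ∈ s, a i ^ p ^ n) + (p : Cfsg.AlgInt) * r := by
  classical
  induction s using Finset.induction with
  | empty => exact ⟨0, by simp [zero_pow (pow_pos hp.pos n).ne']⟩
  | @insert b t hb ih =>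
    obtain ⟨r, hr⟩ := ih
    obtain ⟨r', hr'⟩ := exists_add_pow_prime_pow_eq hp (a b) (∑ i ∈ t, a i) n
    rw [Finset.sum_insert hb, Finset.sum_insert hb, hr', hr]
    exact ⟨r + a b * (∑ i ∈ t, a i) * r', by ring⟩

theorem char_pow_congr {G : Type*} [Group G] [Finite G] (p : ℕ) (hp : p.Prime) (n : ℕ)
    (χ : Cfsg.IrrCharacter G) (g : G) :
    ∃ r : Cfsg.AlgInt, (χ : G → ℂ) g ^ p ^ n = (χ : G → ℂ) (g ^ p ^ n) + (p : ℂ) * (r : ℂ) := by
  obtain ⟨m, ρ, -, hρ⟩ := χ.2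
  obtain ⟨μ, hμ, -, -, hsum⟩ := CfsgLib.Char.exists_eigenvalues ρ g
  have hint : ∀ i, IsIntegral ℤ (μ i) := fun i =>
    IsIntegral.of_pow (orderOf_pos g) (by rw [hμ i]; exact isIntegral_one)
  let a : Fin (Module.finrank ℂ (Fin m → ℂ)) → Cfsg.AlgInt := fun i => ⟨μ i, hint i⟩
  obtain ⟨r, hr⟩ := exists_pow_sum_eq p hp n Finset.univ a
  refine ⟨r, ?_⟩
  have e := congrArg (Subalgebra.val Cfsg.AlgInt) hr
  simp only [map_pow, map_sum, map_add, map_mul, map_natCast] at e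
  have h1 := hsum 1
  have h2 := hsum (p ^ n)
  simp only [hρ, pow_one] at h1 h2
  rw [h1, h2]
  exact e

theorem pow_regularPart {G : Type*} [Group G] [Finite G] (p : ℕ) [Fact p.Prime] (x x' : G)
    (hx : (∃ k : ℕ, orderOf (x * x'⁻¹) = p ^ k) ∧ Commute (x * x'⁻¹) x') :
    x ^ p ^ (Nat.card G).factorization p = x' ^ p ^ (Nat.card G).factorization p := by
  obtain ⟨⟨k, hk⟩, hc⟩ := hx
  have h1 : (x * x'⁻¹) ^ p ^ (Nat.card G).factorization p = 1 := by
    rw [← orderOf_dvd_iff_pow_eq_one, hk]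
    exact pow_dvd_pow p ((Nat.Prime.pow_dvd_iff_le_factorization Fact.out Nat.card_pos.ne').1
      (hk ▸ orderOf_dvd_natCard _))
  have h2 : (x * x'⁻¹ * x') = x := by group
  conv_lhs => rw [← h2]
  rw [hc.mul_pow, h1, one_mul]

theorem exists_int_pow_eq {G : Type*} [Group G] (p : ℕ) (hp : p.Prime) (n : ℕ) (x y : G)
    (hx : ¬ p ∣ orderOf x) (hy : ¬ p ∣ orderOf y) :
    ∃ A : ℤ, (x ^ p ^ n) ^ A = x ∧ (y ^ p ^ n) ^ A = y := by
  have hco : Nat.Coprime (p ^ n) (orderOf x * orderOf y) := Nat.Coprime.pow_left _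
    (Nat.Coprime.mul_right ((Nat.Prime.coprime_iff_not_dvd hp).2 hx)
      ((Nat.Prime.coprime_iff_not_dvd hp).2 hy))
  have hb := Nat.gcd_eq_gcd_ab (p ^ n) (orderOf x * orderOf y)
  rw [hco] at hb
  have key : ∀ z : G, (orderOf z : ℤ) ∣ ((orderOf x * orderOf y : ℕ) : ℤ) →
      (z ^ p ^ n) ^ Nat.gcdA (p ^ n) (orderOf x * orderOf y) = z := by
    intro z hz
    rw [← zpow_natCast z, ← zpow_mul]
    conv_rhs => rw [← zpow_one z]
    rw [zpow_eq_zpow_iff_modEq]
    rw [Int.modEq_iff_dvd]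
    have h' : ((1 : ℕ) : ℤ) - (p ^ n : ℕ) * Nat.gcdA (p ^ n) (orderOf x * orderOf y) =
        ((orderOf x * orderOf y : ℕ) : ℤ) * Nat.gcdB (p ^ n) (orderOf x * orderOf y) := by
      linarith
    rw [show ((1 : ℤ)) = ((1 : ℕ) : ℤ) from rfl, h']
    exact dvd_mul_of_dvd_left hz _
  exact ⟨_, key x (by exact_mod_cast dvd_mul_right _ _), key y (by exact_mod_cast dvd_mul_left _ _)⟩


/-- Let G be a finite group, p a prime and p^a the p-part of the order of G. Let x, y ∈ G and let x′, y′ be their p-regular parts: x′ has order prime to p, commutes with x·x′⁻¹, and x·x′⁻¹ has p-power order (likewise for y). Then x′ and y′ are conjugate in G if and only if for every irreducible character χ of G the algebraic integer χ(x)^(p^a) − χ(y)^(p^a) is p times an algebraic integer. -/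
theorem result {G : Type*} [Group G] [Finite G] (p : ℕ) [Fact p.Prime] (x y x' y' : G)
    (hx : (∃ k : ℕ, orderOf (x * x'⁻¹) = p ^ k) ∧ Commute (x * x'⁻¹) x' ∧ ¬ p ∣ orderOf x')
    (hy : (∃ k : ℕ, orderOf (y * y'⁻¹) = p ^ k) ∧ Commute (y * y'⁻¹) y' ∧ ¬ p ∣ orderOf y') :
    IsConj x' y' ↔ ∀ χ : Cfsg.IrrCharacter G, ∃ γ : Cfsg.AlgInt,
      (χ : G → ℂ) x ^ (p ^ (Nat.card G).factorization p) - (χ : G → ℂ) y ^ (p ^ (Nat.card G).factorization p) = (p : ℂ) * (γ : ℂ) := by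
  classical
  cases nonempty_fintype G
  have hp : p.Prime := Fact.out
  have hxq := pow_regularPart p x x' ⟨hx.1, hx.2.1⟩
  have hyq := pow_regularPart p y y' ⟨hy.1, hy.2.1⟩
  constructor
  · intro h χ
    obtain ⟨r, hr⟩ := char_pow_congr p hp ((Nat.card G).factorization p) χ x
    obtain ⟨r', hr'⟩ := char_pow_congr p hp ((Nat.card G).factorization p) χ y
    refine ⟨r - r', ?_⟩
    rw [hr, hr', hxq, hyq, CfsgLib.BlockReg.char_conj_invariant χ _ _ (h.pow _),
      show ((r - r' : Cfsg.AlgInt) : ℂ) = (r : ℂ) - (r' : ℂ) from map_sub (Subalgebra.val Cfsg.AlgInt) r r']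
    ring
  · intro h
    obtain ⟨A, hA, hA'⟩ := exists_int_pow_eq p hp ((Nat.card G).factorization p) x' y' hx.2.2 hy.2.2
    set q := p ^ (Nat.card G).factorization p with hq
    suffices IsConj (x' ^ q) (y' ^ q) by
      obtain ⟨c, hc⟩ := isConj_iff.1 this
      refine isConj_iff.2 ⟨c, ?_⟩
      have := conj_zpow (i := A) (a := c) (b := x' ^ q)
      rw [hc, hA, hA'] at this
      exact this.symm
    by_contra hn
    obtain ⟨M, hM⟩ := CfsgLib.BlockReg.exists_isPModular hp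
    obtain ⟨c, hc, hcx⟩ := CfsgLib.BlockReg.exists_combination hM
      (fun g => if IsConj (x' ^ q) g then (1 : ℂ) else 0)
      (fun g g' hgg => by
        have : IsConj (x' ^ q) g ↔ IsConj (x' ^ q) g' := ⟨fun e => e.trans hgg, fun e => e.trans hgg.symm⟩
        simp only [this])
      (fun g => by split_ifs; exacts [CfsgLib.BlockReg.memRing_one hM, CfsgLib.BlockReg.memRing_zero hM])
    simp only [finsum_eq_sum_of_fintype] at hcx
    have e1 := hcx (x' ^ q) (fun h' => hx.2.2 (h'.trans (orderOf_pow_dvd _)))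
    have e2 := hcx (y' ^ q) (fun h' => hy.2.2 (h'.trans (orderOf_pow_dvd _)))
    rw [if_pos (IsConj.refl _)] at e1
    rw [if_neg hn] at e2
    apply CfsgLib.BlockReg.not_memIdeal_one hM
    rw [← sub_zero (1 : ℂ), ← e1, ← e2, ← Finset.sum_sub_distrib]
    refine CfsgLib.BlockReg.memIdeal_sum hM _ fun χ _ => ?_
    rw [← mul_sub]
    refine CfsgLib.BlockReg.memIdeal_mul_left hM (hc χ) ?_
    obtain ⟨γ, hγ⟩ := h χ
    obtain ⟨r, hr⟩ := char_pow_congr p hp ((Nat.card G).factorization p) χ x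
    obtain ⟨r', hr'⟩ := char_pow_congr p hp ((Nat.card G).factorization p) χ y
    rw [hr, hr', hxq, hyq] at hγ
    have : (χ : G → ℂ) (x' ^ q) - (χ : G → ℂ) (y' ^ q) = (p : ℂ) * ((γ : ℂ) - (r : ℂ) + (r' : ℂ)) := by
      linear_combination hγ
    rw [this]
    exact CfsgLib.BlockReg.memIdeal_mul_right hM
      ((CfsgLib.BlockReg.memIdeal_natCast_iff hM p).2 dvd_rfl)
      (CfsgLib.BlockReg.memRing_add hM (CfsgLib.BlockReg.memRing_sub hM
        (CfsgLib.BlockReg.memRing_algInt hM γ.2) (CfsgLib.BlockReg.memRing_algInt hM r.2))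
        (CfsgLib.BlockReg.memRing_algInt hM r'.2))

end Cfsg.Agent.S4604
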