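import Cfsg.Statements.S4607
import Cfsg.Agent.Lib.Blocks.Brandt.Reduce
import Cfsg.Agent.Lib.Blocks.Pairs.Bridge
import Cfsg.Agent.Lib.BlockRank.MajorAbelian
import Cfsg.Agent.Lib.Char.Clifford
import Cfsg.Agent.Lib.BlockReg.Bounds
import Cfsg.Agent.S4513

set_option autoImplicit false
open Cfsg

set_option maxHeartbeats 1000000
set_option synthInstance.maxHeartbeats 400000

namespace Cfsg.Agent.S4607

open Cfsg CfsgLib CfsgLib.Blocks CfsgLib.BlockReg
open scoped ComplexConjugate Classical

noncomputable local instance {M : Ideal AlgInt} [M.IsMaximal] : Field (ResField M) :=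
  Ideal.Quotient.field M

/-- Two characters of a block have equal degree, the dimension of its simple module. -/
theorem exists_common_degree {G : Type*} [Group G] [Finite G] {M : Ideal AlgInt} [M.IsMaximal]
    {B : Set (IrrCharacter G)} (hB : IsPBlock M B) (hcard : Nat.card B = 2) :
    ∃ N : ℕ, ∀ χ ∈ B, charDegree (χ : G → ℂ) = N := by
  have := Brandt.isAlgClosed_resField (M := M)
  have := Fintype.ofFinite G
  have := Fintype.ofFinite B
  set k := ResField M
  let τ : MonoidAlgebra k G →ₗ[k] k :=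
    { toFun := fun a => a.coeff 1
      map_add' := fun a b => by simp
      map_smul' := fun c a => by simp }
  have hfd : FiniteDimensional k (MonoidAlgebra k G) := Module.Finite.of_basis (MonoidAlgebra.basis G k)
  have hblk := Pairs.isBlockIdem_ebar hB
  have hc : ∀ a, (blockIdem hB : MonoidAlgebra k G) * a = a * blockIdem hB := fun a =>
    ((Subalgebra.mem_center_iff.1 (blockIdem hB).2) a).symm
  have hset : Brandt.Setup τ (blockIdem hB : MonoidAlgebra k G) := by
    refine ⟨fun a b => ?_, fun a ha => ?_, hblk.idem, hc, hblk.ne_zero, fun z hz hzi => ?_⟩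
    · show (a * b).coeff 1 = (b * a).coeff 1
      rw [coeff_mul_group, coeff_mul_group]
      refine Fintype.sum_equiv (Equiv.inv G) _ _ fun g => ?_
      simp [mul_comm]
    · refine MonoidAlgebra.ext (Finsupp.ext fun g => ?_)
      have h := ha (MonoidAlgebra.single g⁻¹ 1)
      show a.coeff g = 0
      rw [← h]
      show _ = (a * MonoidAlgebra.single g⁻¹ 1).coeff 1
      rw [coeff_mul_single_group]
      simp
    · exact hblk.prim z (Pairs.inCenter_top_iff.mpr (Subalgebra.mem_center_iff.2 fun a => (hz a).symm))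
        hzi
  obtain ⟨N, hN, hdim, hdvd⟩ := hset.exists_bound ((Brandt.finrank_centerPart_le hB).trans hcard.le)
  have hsum := (Brandt.sum_deg_sq_le hB).trans hdim
  refine ⟨N, fun χ hχ => ?_⟩
  have hall : ∀ ψ ∈ B, N ≤ charDegree (ψ : G → ℂ) := by
    intro ψ hψ
    obtain ⟨L, _, _, Φ, hΦ⟩ := Brandt.exists_reduction hB hψ
    exact Nat.le_of_dvd (deg_pos ψ) (hdvd L _ Φ hΦ)
  obtain ⟨a, b, hab, hB2⟩ := Finset.card_eq_two.1
    (show B.toFinset.card = 2 by rw [Set.toFinset_card, ← Nat.card_eq_fintype_card, hcard])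
  have hmem : χ = a ∨ χ = b := by
    have h : χ ∈ B.toFinset := Set.mem_toFinset.2 hχ
    simpa [hB2] using h
  have ha := hall a (Set.mem_toFinset.1 (by simp [hB2]))
  have hb := hall b (Set.mem_toFinset.1 (by simp [hB2]))
  rw [hB2, Finset.sum_pair hab] at hsum
  have ha2 : N ^ 2 ≤ charDegree (a : G → ℂ) ^ 2 := Nat.pow_le_pow_left ha 2
  have hb2 : N ^ 2 ≤ charDegree (b : G → ℂ) ^ 2 := Nat.pow_le_pow_left hb 2
  rcases hmem with rfl | rfl
  · exact le_antisymm ((Nat.pow_le_pow_iff_left two_ne_zero).1 (by omega)) ha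
  · exact le_antisymm ((Nat.pow_le_pow_iff_left two_ne_zero).1 (by omega)) hb

/-- If two characters are all of a block, the defect group has order two. -/
theorem forward {G : Type*} [Group G] [Finite G] {p : ℕ} [Fact p.Prime] {M : Ideal AlgInt}
    (hM : IsPModular p M) {B : Set (IrrCharacter G)} (hB : IsPBlock M B) (hcard : Nat.card B = 2) :
    p ^ blockDefect p B = 2 := by
  have hp : p.Prime := Fact.out
  have : M.IsMaximal := hM.2.1
  have := Fintype.ofFinite G
  have := Fintype.ofFinite B
  obtain ⟨N, hN⟩ := exists_common_degree hB hcard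
  have hd : 1 ≤ blockDefect p B := by
    by_contra h
    have h1 := BlockReg.brauer_feit hM hB
    rw [hcard, show blockDefect p B = 0 by omega] at h1
    norm_num at h1
  obtain ⟨ξ, hξ, hξm⟩ := exists_minExp (p := p) (block_nonempty hM hB)
  rw [hN ξ hξ] at hξm
  let P : Sylow p G := default
  have := Fintype.ofFinite (P : Subgroup G)
  have hPcard : Nat.card (P : Subgroup G) = p ^ (Nat.card G).factorization p := P.card_eq_multiplicity
  have hsing : ∀ x : (P : Subgroup G), x ≠ 1 → p ∣ orderOf (x : G) := by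
    intro x hx
    obtain ⟨j, hj⟩ := (IsPGroup.iff_orderOf.1 P.2) x
    rw [Subgroup.orderOf_coe, hj]
    refine dvd_pow_self p fun h0 => hx ?_
    rwa [h0, pow_zero, orderOf_eq_one_iff] at hj
  choose n hn using fun χ : IrrCharacter G => Char.IsCharacter.exists_nat_classInner
    (Clifford.isCharacter_res (Char.IsIrrCharacter.isCharacter χ.2) (P : Subgroup G))
    (Char.principalIrr (G := (P : Subgroup G))).2
  have hdeg : ∑ χ ∈ B.toFinset, n χ * Nat.card (P : Subgroup G) = 2 * N := by
    apply Nat.cast_injective (R := ℂ)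
    push_cast
    have hpr : ∀ χ : IrrCharacter G, (n χ : ℂ) * (Nat.card (P : Subgroup G) : ℂ) =
        ∑ x : (P : Subgroup G), (χ : G → ℂ) x := by
      intro χ
      rw [← hn χ, classInner, mul_comm, ← mul_assoc, mul_inv_cancel₀
        (Nat.cast_ne_zero.2 Nat.card_pos.ne'), one_mul]
      exact Finset.sum_congr rfl fun x _ => by simp [Char.principalIrr]
    rw [Finset.sum_congr rfl fun χ _ => hpr χ, Finset.sum_comm, Finset.sum_eq_single 1]
    · rw [Finset.sum_congr rfl fun (χ : IrrCharacter G) hχ => show (χ : G → ℂ) ((1 : (P : Subgroup G)) : G) = (N : ℂ) by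
        rw [OneMemClass.coe_one, ← BlockReg.deg_cast, hN χ (Set.mem_toFinset.1 hχ)], Finset.sum_const,
        Set.toFinset_card, ← Nat.card_eq_fintype_card, hcard, nsmul_eq_mul]
      norm_num
    · intro x _ hx
      have h := block_orthogonality hM hB 1 (x : G) (by simp [hp.ne_one]) (hsing x hx)
      rw [finsum_mem_eq_toFinset_sum, Finset.sum_congr rfl fun (χ : IrrCharacter G) hχ => show
        (χ : G → ℂ) 1 * conj ((χ : G → ℂ) x) = (N : ℂ) * conj ((χ : G → ℂ) x) by
          rw [← BlockReg.deg_cast, hN χ (Set.mem_toFinset.1 hχ)], ← Finset.mul_sum, ← map_sum] at h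
      have hN0 : (N : ℂ) ≠ 0 := Nat.cast_ne_zero.2 (hN ξ hξ ▸ (deg_pos ξ).ne')
      exact (starRingEnd ℂ).injective (by rw [(mul_eq_zero.1 h).resolve_left hN0, map_zero])
    · exact fun h => absurd (Finset.mem_univ _) h
  have hN0 : N ≠ 0 := hN ξ hξ ▸ (deg_pos ξ).ne'
  have hle : (Nat.card G).factorization p ≤ (2 * N).factorization p := by
    rw [← hp.pow_dvd_iff_le_factorization (by omega), ← hPcard, ← hdeg, ← Finset.sum_mul]
    exact dvd_mul_left _ _
  rw [Nat.factorization_mul two_ne_zero hN0, Finsupp.add_apply, hξm, Nat.prime_two.factorization,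
    Finsupp.single_apply] at hle
  have hdef := blockDefect_eq (G := G) p B
  split_ifs at hle with h2
  · rw [show blockDefect p B = 1 by omega, pow_one, h2]
  · omega


/-- Let G be a finite group, p a prime, M a maximal ideal of the algebraic integers containing p, and B a p-block of G with defect group D. Then B contains exactly two irreducible characters if and only if D has order 2. -/
theorem result {G : Type*} [Group G] [Finite G] (p : ℕ) [Fact p.Prime] (M : Ideal Cfsg.AlgInt) (hM : Cfsg.IsPModular p M) (B : Set (Cfsg.IrrCharacter G)) (hB : Cfsg.IsPBlock M B) (D : Subgroup G) (hD : Cfsg.IsDefectGroup p M B D) : Nat.card B = 2 ↔ Nat.card D = 2 := by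
  have hp : p.Prime := Fact.out
  have hMmax : M.IsMaximal := hM.2.1
  have hcardD : Nat.card D = p ^ blockDefect p B := card_defectGroup hM hB hD
  refine ⟨fun h => hcardD.trans (forward hM hB h), fun h => ?_⟩
  have hp2 : p = 2 ∧ blockDefect p B = 1 := by
    rw [hcardD] at h
    have hne : blockDefect p B ≠ 0 := fun h0 => by rw [h0, pow_zero] at h; omega
    have hp2 : p = 2 := (Nat.prime_dvd_prime_iff_eq hp Nat.prime_two).1 (h ▸ dvd_pow_self p hne)
    subst hp2
    exact ⟨rfl, (Nat.pow_right_injective le_rfl (h.trans (pow_one 2).symm))⟩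
  obtain ⟨rfl, -⟩ := hp2
  have := Fintype.ofFinite G
  have hcyc : IsCyclic D := isCyclic_of_prime_card (p := 2) h
  obtain ⟨x, hx⟩ := Subgroup.isCyclic_iff_exists_zpowers_eq_top D |>.1 hcyc
  subst hx
  rw [Nat.card_zpowers] at h
  have hchar : CharP (ResField M) 2 := charP_resField hp hM.2.2
  obtain ⟨b, hb, -⟩ := BlockRank.exists_major hM hB hD (fun u hu v hv => by
    obtain ⟨i, rfl⟩ := hu
    obtain ⟨j, rfl⟩ := hv
    exact (Commute.zpow_zpow (Commute.refl x) i j).eq) (Subgroup.mem_zpowers x)
  obtain ⟨C, hC, b, hb⟩ : ∃ C : Subgroup G, C = Subgroup.centralizer ({x} : Set G) ∧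
      ∃ b : Set (IrrCharacter C), IsInducedBlock M C b B := ⟨_, rfl, b, hb⟩
  have := Fintype.ofFinite C
  have := Fintype.ofFinite b
  have hxC : x ∈ C := hC ▸ Subgroup.mem_centralizer_singleton_iff.2 rfl
  let X : C := ⟨x, hxC⟩
  have hX2 : X ^ 2 = 1 := Subtype.ext (by rw [Subgroup.coe_pow, Subgroup.coe_one, ← h, pow_orderOf_eq_one])
  have hXc : X ∈ Subgroup.center C := Subgroup.mem_center_iff.2 fun c => Subtype.ext
    (Subgroup.mem_centralizer_singleton_iff.1 (hC.le c.2))
  -- a member of the local block with `x` in its kernel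
  obtain ⟨θ, hθ, hθX⟩ : ∃ θ ∈ b, (θ : C → ℂ) X = (θ : C → ℂ) 1 := by
    by_contra hcon
    push Not at hcon
    have hneg : ∀ ψ ∈ b, (ψ : C → ℂ) X = -(ψ : C → ℂ) 1 := by
      intro ψ hψ
      obtain ⟨i, hi⟩ := BlockRank.exists_central_root (n := 2) (by norm_num)
        (IsPrimitiveRoot.neg_one 0 (by norm_num) : IsPrimitiveRoot (-1 : ℂ) 2) hXc hX2 ψ
      have h1 := hi 1
      rw [mul_one] at h1
      rcases neg_one_pow_eq_or ℂ i with hs | hs
      · rw [hs, one_mul] at h1; exact absurd h1 (hcon ψ hψ)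
      · rw [hs, neg_one_mul] at h1; exact h1
    have h1 := block_orthogonality hM hb.1 1 X (by simp)
      (by rw [← Subgroup.orderOf_coe]; simp [X, h])
    obtain ⟨θ, hθ⟩ := block_nonempty hM hb.1
    rw [finsum_mem_eq_toFinset_sum] at h1
    have h2 : ∑ ψ ∈ b.toFinset, ((charDegree (ψ : C → ℂ) : ℝ) ^ 2) = 0 := by
      apply Complex.ofReal_injective
      push_cast
      rw [← neg_eq_zero, ← h1, ← Finset.sum_neg_distrib]
      exact Finset.sum_congr rfl fun ψ hψ => by
        rw [hneg ψ (Set.mem_toFinset.1 hψ), ← BlockReg.deg_cast, map_neg, Complex.conj_natCast]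
        ring
    have h3 := (Finset.sum_eq_zero_iff_of_nonneg fun ψ _ => sq_nonneg _).1 h2 θ (Set.mem_toFinset.2 hθ)
    simp [(deg_pos θ).ne'] at h3
  exact (S4513.main hM h hB hD hC hb hθ fun z hz => by rw [show z = X from Subtype.ext hz, hθX]).1

end Cfsg.Agent.S4607
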