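import Cfsg.Statements.S4609
import Cfsg.Agent.Lib.KThree.NormalAbelian
import Cfsg.Agent.Lib.PGroup.Basic
import Cfsg.Agent.Lib.Blocks.CyclicNilp.Criterion
import Cfsg.Agent.Lib.Blk83.CyclicStructure
import Cfsg.Agent.S4434
import Cfsg.Agent.S4607
import Cfsg.Agent.S4696
import Cfsg.Agent.S4733

set_option autoImplicit false
open Cfsg

namespace Cfsg.Agent.S4609
open CfsgLib CfsgLib.Char CfsgLib.Blocks CfsgLib.BlockReg CfsgLib.Blocks.Pairs
open scoped commutatorElement

universe u

theorem isCyclic_of_isCyclic_quotient {p : ℕ} [Fact p.Prime] {P : Type*} [Group P] [Finite P]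
    (hP : IsPGroup p P) {Q : Type*} [Group Q] (f : P →* Q) (hker : f.ker ≤ frattini P)
    (hc : IsCyclic f.range) : IsCyclic P := by
  obtain ⟨⟨y, x, rfl⟩, hgen⟩ := hc.exists_generator
  have htop : Subgroup.zpowers x ⊔ frattini P = ⊤ := by
    refine eq_top_iff.2 fun z _ => ?_
    obtain ⟨k, hk⟩ := Subgroup.mem_zpowers_iff.1 (hgen ⟨f z, z, rfl⟩)
    have hk' : f x ^ k = f z := congrArg Subtype.val hk
    have : (x ^ k)⁻¹ * z ∈ f.ker := by
      rw [MonoidHom.mem_ker, map_mul, map_inv, map_zpow, hk', inv_mul_cancel]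
    rw [show z = x ^ k * ((x ^ k)⁻¹ * z) by group]
    exact Subgroup.mul_mem_sup (Subgroup.zpow_mem_zpowers x k) (hker this)
  exact isCyclic_iff_exists_zpowers_eq_top.2 ⟨x, frattini_nongenerating htop⟩

theorem cyclic_of_normal {N : Type u} [Group N] [Finite N] {p : ℕ} [Fact p.Prime]
    {M : Ideal AlgInt} (hM : IsPModular p M) {b : Set (IrrCharacter N)} (hb : IsPBlock M b)
    {D : Subgroup N} [D.Normal] (hD : IsDefectGroup p M b D)
    (hk : Nat.card {ψ : IrrCharacter N // ψ ∈ b ∧ blockHeight p b (ψ : N → ℂ) = 0} ≤ 3) :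
    IsCyclic D := by
  classical
  haveI := hM.2.1
  letI := Fintype.ofFinite N
  have hPp : IsPGroup p D := isPGroup_defectGroup hD
  haveI : (⁅D, D⁆ : Subgroup N).Normal := Subgroup.commutator_normal D D
  have hle : ⁅D, D⁆ ≤ D := Subgroup.commutator_le_self D
  obtain ⟨Bbar, hBbar, hsub, hdef⟩ := Cfsg.Agent.S4434.result p M hM ⁅D, D⁆ (hPp.to_le hle) b hb
  set Dbar := D.map (QuotientGroup.mk' ⁅D, D⁆) with hDbar
  haveI : Dbar.Normal := Subgroup.Normal.map inferInstance _ (QuotientGroup.mk'_surjective _)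
  have hDd : IsDefectGroup p M Bbar Dbar := (hdef Dbar).2 ⟨D, hD, rfl⟩
  have hab : ∀ a ∈ Dbar, ∀ c ∈ Dbar, a * c = c * a := by
    rintro _ ⟨a, ha, rfl⟩ _ ⟨c, hc, rfl⟩
    rw [← map_mul, ← map_mul, QuotientGroup.mk'_apply, QuotientGroup.mk'_apply, QuotientGroup.eq]
    refine Subgroup.Normal.mem_comm inferInstance ?_
    rw [show c * a * (a * c)⁻¹ = ⁅c, a⁆ by group]
    exact Subgroup.commutator_mem_commutator hc ha
  have hidx : Dbar.index = D.index := by
    rw [hDbar, Subgroup.index_map, QuotientGroup.ker_mk', sup_of_le_left hle,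
      MonoidHom.range_eq_top.2 (QuotientGroup.mk'_surjective _), Subgroup.index_top, mul_one]
  have hk' : Nat.card Bbar ≤ 3 := by
    refine le_trans ?_ hk
    refine Nat.card_le_card_of_injective (fun η => ⟨infl ⁅D, D⁆ η.1,
      hsub η.1 η.2 _ (coe_infl _ _), ?_⟩) fun η η' h => ?_
    · have hmem := hsub η.1 η.2 (infl ⁅D, D⁆ η.1) (coe_infl _ _)
      rw [blockHeight_eq_zero_iff hmem, minExp_eq_index hM hb hD, ← hidx,
        ← minExp_eq_index hM hBbar hDd,
        ← (blockHeight_eq_zero_iff η.2).1 (height_zero_of_abelian_normal hM hBbar hDd hab η.2)]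
      simp [charDegree]
    · have h' := congrArg (fun x => (x.1 : N → ℂ)) h
      simp only [coe_infl] at h'
      refine Subtype.ext (Subtype.ext (funext fun q => ?_))
      obtain ⟨g, rfl⟩ := QuotientGroup.mk_surjective q
      exact congrFun h' g
  have hcyc : IsCyclic Dbar := by
    haveI : Finite Bbar := inferInstance
    haveI : Nonempty Bbar := let ⟨η, hη⟩ := IsPBlock.nonempty hBbar; ⟨⟨η, hη⟩⟩
    have hpos : 0 < Nat.card Bbar := Nat.card_pos
    rcases (show Nat.card Bbar = 1 ∨ Nat.card Bbar = 2 ∨ Nat.card Bbar = 3 by omega) with h | h | h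
    · obtain ⟨hle1, -, h0⟩ := Cfsg.Agent.S4733.result p M hM Bbar hBbar
      have hpos' := CfsgLib.BlockRank.blockRank_pos (Fact.out : p.Prime).ne_one
        (IsPBlock.nonempty hBbar)
      have hc := card_defectGroup hM hBbar hDd
      rw [h0.2 (by omega), pow_zero] at hc
      haveI : Subsingleton Dbar := (Nat.card_eq_one_iff_unique.1 hc).1
      infer_instance
    · haveI : Fact (Nat.Prime 2) := ⟨Nat.prime_two⟩
      exact isCyclic_of_prime_card ((Cfsg.Agent.S4607.result p M hM Bbar hBbar Dbar hDd).1 h)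
    · exact CfsgLib.KThree.isCyclic_of_three hM hBbar hDd hab h
  refine isCyclic_of_isCyclic_quotient hPp ((QuotientGroup.mk' ⁅D, D⁆).comp D.subtype) ?_ ?_
  · rw [← MonoidHom.comap_ker, QuotientGroup.ker_mk']
    refine le_trans ?_ (CfsgLib.PGroup.commutator_le_frattini hPp)
    intro x hx
    have h1 : Subgroup.map D.subtype (commutator D) = ⁅D, D⁆ := by
      rw [commutator_def, Subgroup.map_commutator, ← MonoidHom.range_eq_map, Subgroup.range_subtype]
    rw [Subgroup.mem_comap, ← h1] at hx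
    exact (Subgroup.mem_map_iff_mem D.subtype_injective).1 hx
  · rw [MonoidHom.range_comp, Subgroup.range_subtype]
    exact hcyc

theorem stabilizes_iff {G : Type u} [Group G] [Finite G] (D : Subgroup G)
    (b : Set (IrrCharacter (Subgroup.centralizer (D : Set G)))) {g : G}
    (hgN : g ∈ Subgroup.normalizer (D : Set G)) :
    Cfsg.StabilizesBlock (Subgroup.centralizer (D : Set G)) b g ↔
      ∀ θ ∈ b, ∀ θ' : IrrCharacter (Subgroup.centralizer (D : Set G)),
        (∀ h h' : Subgroup.centralizer (D : Set G), (h' : G) = g * h * g⁻¹ →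
          (θ' : Subgroup.centralizer (D : Set G) → ℂ) h' =
            (θ : Subgroup.centralizer (D : Set G) → ℂ) h) → θ' ∈ b := by
  classical
  have hx := normalizer_le_normalizer_centralizer D hgN
  constructor
  · intro hs θ hθ θ' hc
    obtain ⟨χ', hχ', hc'⟩ := hs.2 θ hθ
    have : θ' = χ' := Subtype.ext (funext fun k' => by
      have hk : g⁻¹ * (k' : G) * g ∈ Subgroup.centralizer (D : Set G) :=
        (Subgroup.mem_normalizer_iff''.mp hx k').mp k'.2
      rw [hc ⟨_, hk⟩ k' (by group), hc' ⟨_, hk⟩ k' (by group)])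
    rwa [this]
  · intro hs
    refine ⟨hx, fun θ hθ => ?_⟩
    let φ : Subgroup.centralizer (D : Set G) ≃* Subgroup.centralizer (D : Set G) :=
      { toFun := fun q => ⟨g⁻¹ * q * g, (Subgroup.mem_normalizer_iff''.mp hx q).mp q.2⟩
        invFun := fun q => ⟨g * q * g⁻¹, (Subgroup.mem_normalizer_iff.mp hx q).mp q.2⟩
        left_inv := fun q => Subtype.ext (by simp [mul_assoc])
        right_inv := fun q => Subtype.ext (by simp [mul_assoc])
        map_mul' := fun a b => Subtype.ext (by simp [mul_assoc]) }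
    have hconj : ∀ q q' : Subgroup.centralizer (D : Set G), (q' : G) = g * q * g⁻¹ →
        (CfsgLib.Blocks.Pairs.pull φ θ : Subgroup.centralizer (D : Set G) → ℂ) q' =
          (θ : Subgroup.centralizer (D : Set G) → ℂ) q := fun q q' hq => by
      rw [pull_apply]
      refine congrArg _ (Subtype.ext ?_)
      show g⁻¹ * (q' : G) * g = (q : G)
      rw [hq]; group
    exact ⟨CfsgLib.Blocks.Pairs.pull φ θ, hs θ hθ _ hconj, hconj⟩


/-- Let G be a finite group, p a prime, M a maximal ideal of the algebraic integers containing p, and B a p-block of G with defect group D containing exactly three irreducible characters. Suppose the number of height-zero characters of B equals the number of height-zero characters of its Brauer correspondent b, the block of N_G(D) with defect group D inducing B (as the Alperin–McKay conjecture predicts). Then D has order 3. -/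
theorem result {G : Type*} [Group G] [Finite G] (p : ℕ) [Fact p.Prime] (M : Ideal Cfsg.AlgInt) (hM : Cfsg.IsPModular p M) (B : Set (Cfsg.IrrCharacter G)) (hB : Cfsg.IsPBlock M B) (D : Subgroup G) (hD : Cfsg.IsDefectGroup p M B D) (hk : Nat.card B = 3)
    (b : Set (Cfsg.IrrCharacter (Subgroup.normalizer (D : Set G)))) (hbB : Cfsg.IsInducedBlock M (Subgroup.normalizer (D : Set G)) b B)
    (hbD : Cfsg.IsDefectGroup p M b (D.subgroupOf (Subgroup.normalizer (D : Set G))))
    (hAM : Nat.card {χ : Cfsg.IrrCharacter G // χ ∈ B ∧ Cfsg.blockHeight p B (χ : G → ℂ) = 0} =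
           Nat.card {ψ : Cfsg.IrrCharacter (Subgroup.normalizer (D : Set G)) // ψ ∈ b ∧ Cfsg.blockHeight p b (ψ : Subgroup.normalizer (D : Set G) → ℂ) = 0}) :
    Nat.card D = 3 := by
  classical
  haveI := hM.2.1
  letI := Fintype.ofFinite G
  haveI := CfsgLib.Blocks.charP_resField (M := M) hM.1 hM.2.2
  have hp : p.Prime := Fact.out
  haveI : Finite B := inferInstance
  have hk0 : Nat.card {ψ : IrrCharacter (Subgroup.normalizer (D : Set G)) //
      ψ ∈ b ∧ blockHeight p b (ψ : Subgroup.normalizer (D : Set G) → ℂ) = 0} ≤ 3 := by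
    rw [← hAM, ← hk]
    exact Nat.card_le_card_of_injective (fun χ => (⟨χ.1, χ.2.1⟩ : B)) fun χ χ' h =>
      Subtype.ext (congrArg Subtype.val h :)
  haveI : (D.subgroupOf (Subgroup.normalizer (D : Set G))).Normal := Subgroup.normal_in_normalizer
  have hcyc0 := cyclic_of_normal hM hbB.1 hbD hk0
  have hDle : D ≤ Subgroup.normalizer (D : Set G) := Subgroup.le_normalizer
  have hcyc : IsCyclic D := isCyclic_of_surjective
    (Subgroup.subgroupOfEquivOfLe hDle) (Subgroup.subgroupOfEquivOfLe hDle).surjective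
  obtain ⟨a, ha⟩ := IsPGroup.iff_card.1 (isPGroup_defectGroup hD)
  rcases Nat.eq_zero_or_pos a with ha0 | ha1
  · exfalso
    have hc := card_defectGroup hM hB hD
    rw [ha, ha0] at hc
    have hd0 : blockDefect p B = 0 := (Nat.pow_right_injective hp.two_le hc).symm
    have := ((Cfsg.Agent.S4733.result p M hM B hB).2.1.1 hd0).1
    omega
  have hmax : MaxR p (ebar hB) D := (isDefectGroup_iff_maxR hM hB).1 hD
  obtain ⟨e₀, hP⟩ := exists_pairOf (p := p) (isBlockIdem_ebar hB) hmax.pgroup hmax.ne_zero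
  obtain ⟨bC, hbC, rfl⟩ := exists_eIn_eq hP.pair.block
  have hind := (isInducedBlock_iff_pairOf hM hmax.pgroup hB hbC).2 hP
  obtain ⟨he, -, X, Y, hXY, hdis, hX, hY, -⟩ := Cfsg.Agent.S4696.result p M hM D hcyc a ha1 ha B hB hD
    bC hind (pairStab D (eIn hbC)) (fun g => (CfsgLib.Blk83.mem_pairStab_iff hbC).trans
      (and_congr_right fun hgN => stabilizes_iff D bC hgN)) _ rfl
  set e := (Subgroup.centralizer (D : Set G)).relIndex (pairStab D (eIn hbC))
  haveI : Finite X := Finite.Set.subset B (hXY ▸ Set.subset_union_left)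
  haveI : Finite Y := Finite.Set.subset B (hXY ▸ Set.subset_union_right)
  have hsum : 3 = e + (p ^ a - 1) / e := by
    rw [← hk, hXY, Nat.card_congr (Equiv.Set.union hdis), Nat.card_sum, hX, hY]
  have he0 : 0 < e := Nat.pos_of_ne_zero fun h => by
    rw [h, Nat.div_zero] at hsum
    omega
  obtain ⟨t, ht⟩ := he.trans (Nat.sub_one_dvd_pow_sub_one p a)
  rw [ht, Nat.mul_div_cancel_left _ he0] at hsum
  have hq : 1 < p ^ a := Nat.one_lt_pow (by omega) hp.one_lt
  rw [ha]
  rcases (show e = 1 ∨ e = 2 ∨ e = 3 by omega) with h | h | h <;> rw [h] at ht hsum <;> omega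

end Cfsg.Agent.S4609
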