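import Cfsg.Statements.S4611
import Cfsg.Agent.Lib.Blk83.FrobeniusLocal
import Cfsg.Agent.Lib.Blocks82.HallHigman
import Cfsg.Agent.Lib.Transfer.ThompsonFactor
import Cfsg.Agent.Lib.CharTools.Basic
import Cfsg.Agent.Lib.Blocks.Quotient

set_option autoImplicit false
open Cfsg

namespace Cfsg.Agent.S4611

/-- For solvable groups the principal block is the set of characters trivial on the core. -/
theorem mem_iff {G : Type*} [Group G] [Finite G] [Group.IsSolvable G] {p : ℕ} [Fact p.Prime]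
    {M : Ideal Cfsg.AlgInt} (hM : Cfsg.IsPModular p M) (χ : Cfsg.IrrCharacter G) :
    χ ∈ Cfsg.principalBlock M G ↔
      ∀ n ∈ Cfsg.pPrimeCore p G, (χ : G → ℂ) n = (χ : G → ℂ) 1 := by
  haveI : M.IsMaximal := CfsgLib.Blocks.isMaximal_of_isPModular hM
  haveI := CfsgLib.Solvable.pPrimeCore_normal p G
  refine ⟨fun h n hn => ?_, fun h => ?_⟩
  · simpa using CfsgLib.Invol.apply_mul_of_mem_principalBlock hM
      ((Nat.Prime.coprime_iff_not_dvd Fact.out).1
        (CfsgLib.Solvable.pPrimeCore_card_coprime p G).symm) h hn 1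
  · obtain ⟨η, rfl⟩ := CfsgLib.Blocks.exists_infl_eq (Cfsg.pPrimeCore p G) h
    have hq : Cfsg.pPrimeCore p (G ⧸ Cfsg.pPrimeCore p G) = ⊥ :=
      CfsgLib.Solvable.pPrimeCore_quotient_eq_bot _ rfl
    haveI : Group.IsSolvable (G ⧸ Cfsg.pPrimeCore p G) :=
      Group.isSolvable_of_surjective (QuotientGroup.mk'_surjective (Cfsg.pPrimeCore p G))
    have h1 : Cfsg.SameBlock M (fun _ : G ⧸ Cfsg.pPrimeCore p G => (1 : ℂ))
        (η : G ⧸ Cfsg.pPrimeCore p G → ℂ) :=
      CfsgLib.Blk83.mem_principalBlock_of_centralizer_pCore_le hM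
        (CfsgLib.Blocks82.centralizer_pCore_le
          (CfsgLib.ThompsonFactor.isPSolvable_of_isSolvable inferInstance) hq) η
    exact CfsgLib.Blocks.sameBlock_infl (N := Cfsg.pPrimeCore p G)
      (χ := (CfsgLib.Char.principalIrr : Cfsg.IrrCharacter (G ⧸ Cfsg.pPrimeCore p G))) (ψ := η) h1

/-- Let G be a finite solvable group and π a nonempty set of primes, each dividing the order of G; fix for each p in π a maximal ideal M p of the algebraic integers containing p. Then the only irreducible character lying in the principal p-block for every p in π is the principal character if and only if G is generated by the subgroups O_{p'}(G), p in π (the largest normal subgroups of order prime to p). -/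
theorem result {G : Type*} [Group G] [Finite G] [Group.IsSolvable G] (π : Set ℕ) (hπ : ∀ p ∈ π, p.Prime ∧ p ∣ Nat.card G) (hne : π.Nonempty) (M : ℕ → Ideal Cfsg.AlgInt) (hM : ∀ p ∈ π, Cfsg.IsPModular p (M p)) :
    (∀ χ : Cfsg.IrrCharacter G, (∀ p ∈ π, χ ∈ Cfsg.principalBlock (M p) G) → (χ : G → ℂ) = fun _ => 1) ↔
      ⨆ p ∈ π, Cfsg.pPrimeCore p G = ⊤ := by
  classical
  letI := Fintype.ofFinite G
  haveI := fun p => CfsgLib.Solvable.pPrimeCore_normal p G
  set K := ⨆ p ∈ π, Cfsg.pPrimeCore p G with hK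
  constructor
  · intro h
    haveI : K.Normal := by
      rw [hK, iSup_subtype']
      exact Subgroup.iSup_normal _
    by_contra hne
    letI := Fintype.ofFinite (G ⧸ K)
    obtain ⟨g, hg⟩ : ∃ g : G ⧸ K, g ≠ 1 := by
      haveI : Nontrivial (G ⧸ K) := QuotientGroup.nontrivial_iff.2 hne
      exact exists_ne 1
    obtain ⟨η, hη⟩ : ∃ η : Cfsg.IrrCharacter (G ⧸ K), (η : G ⧸ K → ℂ) g ≠ (η : G ⧸ K → ℂ) 1 := by
      by_contra hcon
      push Not at hcon
      exact hg (isConj_one_left.1 (CfsgLib.Char.isConj_of_forall_eq fun χ hχ => hcon ⟨χ, hχ⟩))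
    have hin := h (CfsgLib.Blocks.infl K η) fun p hp => by
      haveI := Fact.mk (hπ p hp).1
      exact (mem_iff (hM p hp) _).2 fun n hn => CfsgLib.Blocks.infl_apply_mem K η
        (show n ∈ K from (le_iSup₂ (f := fun p (_ : p ∈ π) => Cfsg.pPrimeCore p G) p hp) hn)
    obtain ⟨x, rfl⟩ := QuotientGroup.mk_surjective g
    apply hη
    have e1 : (η : G ⧸ K → ℂ) (QuotientGroup.mk x) = 1 := congrFun hin x
    have e2 : (η : G ⧸ K → ℂ) (QuotientGroup.mk 1) = 1 := congrFun hin 1
    rw [e1, ← QuotientGroup.mk_one, e2]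
  · intro htop χ h
    obtain ⟨N, hN, hmem, -⟩ :=
      CfsgLib.CharTools.exists_kernel (CfsgLib.Char.IsIrrCharacter.isCharacter χ.2)
    have hle : K ≤ N := iSup₂_le fun p hp n hn => by
      haveI := Fact.mk (hπ p hp).1
      exact (hmem n).2 ((mem_iff (hM p hp) χ).1 (h p hp) n hn)
    have hval : ∀ g, (χ : G → ℂ) g = (χ : G → ℂ) 1 :=
      fun g => (hmem g).1 (hle (htop ▸ Subgroup.mem_top g))
    refine CfsgLib.Char.eq_of_classInner_ne_zero χ.2 CfsgLib.Char.isIrrCharacter_principal ?_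
    unfold Cfsg.classInner
    simp only [map_one, mul_one, hval, Finset.sum_const, Finset.card_univ, nsmul_eq_mul,
      ← Nat.card_eq_fintype_card]
    rw [inv_mul_cancel_left₀ (Nat.cast_ne_zero.2 Nat.card_pos.ne')]
    exact CfsgLib.Char.IsIrrCharacter.apply_one_ne_zero χ.2

end Cfsg.Agent.S4611
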