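import Cfsg.Statements.S4613
import Cfsg.Agent.Lib.CoprimeFix.Linear
import Cfsg.Agent.Lib.CoprimeFix.LinearTwo
import Cfsg.Agent.Lib.CoprimeFix.Symp
import Cfsg.Agent.Lib.CoprimeFix.Unitary
import Cfsg.Agent.Lib.CoprimeFix.Orth
import Cfsg.Agent.Lib.CoprimeFix.Exceptional
import Cfsg.Agent.Lib.CoprimeFix.Suzuki
import Cfsg.Agent.Lib.SylowLieTwo.Twisted
import Cfsg.Agent.Lib.Chev.Comm
import Cfsg.Agent.Lib.ReeF4Out.BN

set_option autoImplicit false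
open Cfsg

namespace Cfsg.Agent.S4613

/-- Let G be a finite simple group of Lie type in characteristic p and α an automorphism of G of order prime to p that fixes some Sylow p-subgroup of G elementwise. Then α is the identity. -/
theorem result {G : Type*} [Group G] [Finite G] [IsSimpleGroup G] (p : ℕ) [Fact p.Prime] (hG : Cfsg.IsLieTypeChar p G) (α : MulAut G) (hα : ¬ p ∣ orderOf α) (U : Sylow p G) (hfix : ∀ x ∈ (U : Subgroup G), α x = x) : α = 1 := by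
  rcases hG with h | h | h | h | h | h | h | h | h | h | h
  · obtain ⟨F, _, _, _, n, hn, -, ⟨e⟩⟩ := h
    rcases Nat.lt_or_ge n 3 with hn3 | hn3
    · obtain rfl : n = 2 := by omega
      obtain ⟨S, hS⟩ := CfsgLib.CoprimeFix.exists_rigidAt_psl_two (F := F) (p := p)
      exact CfsgLib.CoprimeFix.eq_one_of_rigidAt e hS α hα U hfix
    · exact CfsgLib.CoprimeFix.eq_one_of_rigidAt e (CfsgLib.CoprimeFix.rigidAt_psl hn3) α hα U hfix
  · obtain ⟨F, _, _, _, m, hm, -, ⟨e⟩⟩ := h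
    obtain ⟨S, hS⟩ := CfsgLib.CoprimeFix.exists_rigidAt_psp (F := F) (p := p) hm
    exact CfsgLib.CoprimeFix.eq_one_of_rigidAt e hS α hα U hfix
  · obtain ⟨F, _, _, _, n, q, hF, hn, h32, ⟨e⟩⟩ := h
    exact CfsgLib.CoprimeFix.exists_rigidAt_psu hF hn h32 e α hα U hfix
  · obtain ⟨F, _, _, _, m, hm, hodd, ⟨e⟩⟩ := h
    exact CfsgLib.CoprimeFix.eq_one_pomega_odd (Nat.card_eq_fintype_card (α := F) ▸ hodd) hm e α hα U hfix
  · obtain ⟨F, _, _, _, m, hm, ⟨e⟩⟩ := h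
    exact CfsgLib.CoprimeFix.eq_one_pomega_plus (by omega) e α hα U hfix
  · obtain ⟨F, _, _, _, m, a, b, hm, hab, ⟨e⟩⟩ := h
    exact CfsgLib.CoprimeFix.eq_one_pomega_minus hab (by omega) e α hα U hfix
  · obtain ⟨F, _, _, _, h⟩ := h
    rcases h with ⟨-, ⟨e⟩⟩ | ⟨⟨e⟩⟩ | ⟨⟨e⟩⟩ | ⟨⟨e⟩⟩ | ⟨⟨e⟩⟩
    · obtain ⟨T, hc, hcomm⟩ := CfsgLib.Chev.exists_checked' (D := Cfsg.Lie.chevG2) (by simp)
      exact CfsgLib.CoprimeFix.eq_one_chev hc hcomm (by decide) e α hα U hfix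
    · obtain ⟨T, hc, hcomm⟩ := CfsgLib.Chev.exists_checked' (D := Cfsg.Lie.chevF4) (by simp)
      exact CfsgLib.CoprimeFix.eq_one_chev hc hcomm (by decide) e α hα U hfix
    · obtain ⟨T, hc, hcomm⟩ := CfsgLib.Chev.exists_checked' (D := Cfsg.Lie.chevE6) (by simp)
      exact CfsgLib.CoprimeFix.eq_one_chev hc hcomm (by decide) e α hα U hfix
    · obtain ⟨T, hc, hcomm⟩ := CfsgLib.Chev.exists_checked' (D := Cfsg.Lie.chevE7) (by simp)
      exact CfsgLib.CoprimeFix.eq_one_chev hc hcomm (by decide) e α hα U hfix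
    · obtain ⟨T, hc, hcomm⟩ := CfsgLib.Chev.exists_checked' (D := Cfsg.Lie.chevE8) (by simp)
      exact CfsgLib.CoprimeFix.eq_one_chev hc hcomm (by decide) e α hα U hfix
  · obtain ⟨K, _, _, _, q, hq, ⟨hK, ⟨e⟩⟩ | ⟨hK, ⟨e⟩⟩⟩ := h
    · obtain ⟨φ, hφ⟩ := CfsgLib.Twisted.exists_frob hq two_ne_zero hK
      exact CfsgLib.CoprimeFix.eq_one_twist CfsgLib.TwistOut.E6.ctx φ (by decide)
        (e.trans (MulEquiv.subgroupCongr (CfsgLib.Twisted.E6.twistedE6_eq hK φ hφ))) α hα U hfix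
    · obtain ⟨φ, hφ⟩ := CfsgLib.Twisted.exists_frob hq three_ne_zero hK
      exact CfsgLib.CoprimeFix.eq_one_twist CfsgLib.TwistOut.D4.ctx φ (by decide)
        (e.trans (MulEquiv.subgroupCongr (CfsgLib.Twisted.D4.twistedD4_eq hK φ hφ))) α hα U hfix
  · obtain ⟨rfl, F, _, _, m, hm, hF, ⟨e⟩⟩ := h
    exact CfsgLib.CoprimeFix.eq_one_suzuki ⟨hm, hF⟩ e α hα U hfix
  · obtain ⟨rfl, K, _, _, m, hm, hK, ⟨e⟩⟩ := h
    obtain ⟨σ, hσ⟩ := CfsgLib.ReeF4.exists_sigma hK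
    exact CfsgLib.CoprimeFix.eq_one_reeF4 hσ e α hα U hfix
  · obtain ⟨rfl, K, _, _, m, hm, hK, ⟨e⟩⟩ := h
    exact CfsgLib.CoprimeFix.eq_one_reeG2 hK e α hα U hfix

end Cfsg.Agent.S4613
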