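import Cfsg.Statements.S4614
import Cfsg.Agent.Lib.BlockOneSection.Column
import Cfsg.Agent.S4648
import Cfsg.Agent.S4607

set_option autoImplicit false
open Cfsg

set_option maxHeartbeats 800000
set_option synthInstance.maxHeartbeats 400000

namespace Cfsg.Agent.S4614

open CfsgLib.OneSection CfsgLib.Blocks
open scoped Classical ComplexConjugate

/-- The indicator of an irreducible character as an integer. -/
theorem fsInd_cases {G : Type*} [Group G] [Fintype G] (χ : IrrCharacter G) :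
    (∃ e : ℤ, (e = 0 ∨ e = 1 ∨ e = -1) ∧ CfsgLib.RealChar.fsInd (χ : G → ℂ) = (e : ℂ) ∧
      (e = 0 → ∃ g : G, conj ((χ : G → ℂ) g) ≠ (χ : G → ℂ) g)) := by
  obtain ⟨h, h0⟩ := CfsgLib.Char.fsIndicator_irr χ.2
  have e : CfsgLib.RealChar.fsInd (χ : G → ℂ) = CfsgLib.Char.fsIndicator (χ : G → ℂ) := rfl
  rcases h with h | h | h
  · exact ⟨0, Or.inl rfl, by rw [e, h, Int.cast_zero], fun _ => by
      obtain ⟨g, hg⟩ := h0.1 h
      exact ⟨g, fun hc => hg (Complex.conj_eq_iff_im.1 hc)⟩⟩
  · exact ⟨1, Or.inr (Or.inl rfl), by rw [e, h, Int.cast_one], fun h' => absurd h' one_ne_zero⟩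
  · exact ⟨-1, Or.inr (Or.inr rfl), by rw [e, h, Int.cast_neg, Int.cast_one],
      fun h' => absurd h' (by norm_num)⟩

/-- Let G be a finite group, p a prime and M a maximal ideal of the algebraic integers containing p. If the principal p-block of G contains exactly three irreducible characters, then a Sylow p-subgroup of G has order 3 (so p = 3). -/
theorem result {G : Type*} [Group G] [Finite G] (p : ℕ) [Fact p.Prime] (M : Ideal Cfsg.AlgInt) (hM : Cfsg.IsPModular p M) (hk : Nat.card (Cfsg.principalBlock M G) = 3) (D : Sylow p G) : Nat.card (D : Subgroup G) = 3 := by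
  have := Fintype.ofFinite G
  have : M.IsMaximal := hM.2.1
  have hp : p.Prime := Fact.out
  have hB := isPBlock_principalBlock (G := G) (M := M)
  have hD := isDefectGroup_sylow hM D
  have hlpos := CfsgLib.BlockRank.blockRank_pos (p := p) hp.ne_one
    (CfsgLib.BlockReg.block_nonempty hM hB)
  have h33 := Cfsg.Agent.S4733.result p M hM _ hB
  have hDne : (D : Subgroup G) ≠ ⊥ := by
    intro h
    have h1 := card_le_of_defect_bot hM hB hD h
    have h2 := h33.2.1.1 (h33.2.2.2 h1)
    omega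
  have hlne : blockRank p (principalBlock M G) ≠ 3 := fun h => by
    have := h33.2.1.1 (h33.2.2.2 (hk.trans h.symm))
    omega
  have hle := h33.1
  rcases (by omega : blockRank p (principalBlock M G) = 1 ∨
      blockRank p (principalBlock M G) = 2) with hl | hl
  · exact (Cfsg.Agent.S4648.result p M hM _ hB _ hD hDne hl (by omega)).2.1.trans hk
  have hk1 : Nat.card (principalBlock M G) = blockRank p (principalBlock M G) + 1 := by omega
  obtain ⟨x, hx, hx1⟩ := (D : Subgroup G).bot_or_exists_ne_one.resolve_left hDne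
  obtain ⟨d, hd, hsq, hdeg, hfs⟩ := exists_column hM hk1 D hx hx1
  have h0 : CfsgLib.Char.principalIrr ∈ (principalBlock M G).toFinset :=
    Set.mem_toFinset.2 principalIrr_mem_principalBlock
  have hcard : (principalBlock M G).toFinset.card = 3 := by
    rw [Set.toFinset_card, ← Nat.card_eq_fintype_card, hk]
  obtain ⟨χ₁, χ₂, h12, hpair⟩ := Finset.card_eq_two.1
    ((Finset.card_erase_of_mem h0).trans (by rw [hcard]))
  have hsum : ∀ {β : Type} [AddCommMonoid β] (f : IrrCharacter G → β),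
      ∑ χ ∈ (principalBlock M G).toFinset, f χ =
        f CfsgLib.Char.principalIrr + (f χ₁ + f χ₂) := fun f => by
    rw [← Finset.add_sum_erase _ f h0, hpair, Finset.sum_pair h12]
  have hmem : ∀ ψ ∈ principalBlock M G,
      ψ = CfsgLib.Char.principalIrr ∨ ψ = χ₁ ∨ ψ = χ₂ := fun ψ hψ => by
    by_cases h : ψ = CfsgLib.Char.principalIrr
    · exact Or.inl h
    · have := Finset.mem_erase.2 ⟨h, Set.mem_toFinset.2 hψ⟩
      rw [hpair, Finset.mem_insert, Finset.mem_singleton] at this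
      exact Or.inr this
  have hsub : ∀ ψ, ψ = χ₁ ∨ ψ = χ₂ → ψ ∈ principalBlock M G ∧ ψ ≠ CfsgLib.Char.principalIrr := by
    intro ψ hψ
    have : ψ ∈ (principalBlock M G).toFinset.erase CfsgLib.Char.principalIrr := by
      rw [hpair, Finset.mem_insert, Finset.mem_singleton]; exact hψ
    rw [Finset.mem_erase, Set.mem_toFinset] at this
    exact ⟨this.2, this.1⟩
  have hd0 : d CfsgLib.Char.principalIrr = 1 := by
    have := hd _ principalIrr_mem_principalBlock
    rw [CfsgLib.Char.principalIrr_apply] at this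
    exact_mod_cast this.symm
  have hdeg0 : charDegree ((CfsgLib.Char.principalIrr : IrrCharacter G) : G → ℂ) = 1 := by
    have h := CfsgLib.BlockReg.deg_cast (CfsgLib.Char.principalIrr : IrrCharacter G)
    rw [CfsgLib.Char.principalIrr_apply] at h
    exact_mod_cast h
  rw [hsum, hd0] at hsq hdeg
  rw [hdeg0, Nat.cast_one] at hdeg
  obtain ⟨n, hn⟩ := IsPGroup.iff_card.1 D.2
  have hn0 : n ≠ 0 := fun h => hDne (Subgroup.eq_bot_of_card_eq _ (by rw [hn, h, pow_zero]))
  rcases eq_or_ne p 2 with rfl | hp2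
  · exfalso
    rcases (by omega : n = 1 ∨ 2 ≤ n) with rfl | hn2
    · have := (Cfsg.Agent.S4607.result 2 M hM _ hB _ hD).2 (by rw [hn, pow_one])
      omega
    · rw [hn] at hsq
      obtain ⟨m, rfl⟩ := Nat.exists_eq_add_of_le hn2
      have h4 := congrArg (Int.cast : ℤ → ZMod 4) hsq
      push_cast at h4
      rw [pow_add, show ((2 : ZMod 4) ^ 2) = 0 by decide, zero_mul] at h4
      revert h4
      generalize (d χ₁ : ZMod 4) = a
      generalize (d χ₂ : ZMod 4) = b
      revert a b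
      decide
  have hfs' := hfs hp2
  rw [hsum, hd0] at hfs'
  obtain ⟨e₁, he₁, hf₁, hz₁⟩ := fsInd_cases χ₁
  obtain ⟨e₂, he₂, hf₂, hz₂⟩ := fsInd_cases χ₂
  have hf0 : CfsgLib.RealChar.fsInd ((CfsgLib.Char.principalIrr : IrrCharacter G) : G → ℂ) = 1 :=
    CfsgLib.RealChar.fsInd_principal
  rw [hf0, hf₁, hf₂] at hfs'
  have hfz : e₁ * d χ₁ + e₂ * d χ₂ = 0 := by
    have : ((e₁ * d χ₁ + e₂ * d χ₂ : ℤ) : ℂ) = ((0 : ℤ) : ℂ) := by
      push_cast at hfs' ⊢
      linear_combination hfs'
    exact_mod_cast this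
  -- a non-real character gives a parity contradiction
  have hreal : ∀ φ φ' : IrrCharacter G, (φ = χ₁ ∧ φ' = χ₂ ∨ φ = χ₂ ∧ φ' = χ₁) →
      (∃ g : G, conj ((φ : G → ℂ) g) ≠ (φ : G → ℂ) g) → False := by
    intro φ φ' hφ ⟨g, hg⟩
    have hφB := hsub φ (by rcases hφ with h | h; exacts [Or.inl h.1, Or.inr h.1])
    obtain ⟨ψ, hψ, hψv⟩ := exists_conj_mem hφB.1
    have hψφ : ψ = φ' := by
      rcases hmem ψ hψ with rfl | h | h
      · refine absurd ?_ hg
        have h' := hψv g
        rw [CfsgLib.Char.principalIrr_apply] at h'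
        rw [← h']
        exact ((Complex.conj_conj ((φ : G → ℂ) g)).symm.trans (by rw [← h', map_one])).symm
      all_goals
        rcases hφ with ⟨rfl, rfl⟩ | ⟨rfl, rfl⟩
      all_goals first
        | exact h
        | exact absurd (by rw [← hψv g, h]) hg
    subst hψφ
    have e1 : d ψ = d φ := by
      have h1 := hψv x
      rw [hd ψ hψ, hd φ hφB.1, map_intCast] at h1
      exact_mod_cast h1
    have e2 : charDegree (ψ : G → ℂ) = charDegree (φ : G → ℂ) := by
      unfold charDegree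
      rw [hψv 1, Complex.conj_re]
    have h2 : (1 : ℤ) + 2 * (d φ * (charDegree (φ : G → ℂ) : ℤ)) = 0 := by
      rcases hφ with ⟨rfl, rfl⟩ | ⟨rfl, rfl⟩ <;> rw [e1, e2] at hdeg <;> linarith
    omega
  have hne1 : e₁ ≠ 0 := fun h => hreal χ₁ χ₂ (Or.inl ⟨rfl, rfl⟩) (hz₁ h)
  have hne2 : e₂ ≠ 0 := fun h => hreal χ₂ χ₁ (Or.inr ⟨rfl, rfl⟩) (hz₂ h)
  have hab : d χ₂ = d χ₁ ∨ d χ₂ = - d χ₁ := by
    rcases he₁ with rfl | rfl | rfl <;> rcases he₂ with rfl | rfl | rfl <;> omega
  have hdvd : d χ₁ ∣ 1 := by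
    rcases hab with h | h <;> rw [h] at hdeg
    · exact ⟨-((charDegree (χ₁ : G → ℂ) : ℤ) + (charDegree (χ₂ : G → ℂ) : ℤ)), by linarith⟩
    · exact ⟨(charDegree (χ₂ : G → ℂ) : ℤ) - (charDegree (χ₁ : G → ℂ) : ℤ), by linarith⟩
  have h3 : (Nat.card (D : Subgroup G) : ℤ) = 3 := by
    rcases Int.isUnit_iff.1 (isUnit_of_dvd_one hdvd) with h | h <;>
      rcases hab with h' | h' <;> rw [h', h] at hsq <;> linarith
  exact_mod_cast h3

end Cfsg.Agent.S4614
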