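import Cfsg.Statements.S4620
import Cfsg.Agent.Lib.Solvable.Core
import Mathlib.GroupTheory.Sylow

set_option autoImplicit false
open scoped Pointwise
open Cfsg

namespace Cfsg.Agent.S4620

/-- Let H be a finite group with no nontrivial normal p-subgroup and no nontrivial normal subgroup of order prime to p, whose Sylow p-subgroup P is nontrivial and a trivial-intersection set (P meets its conjugates by elements outside N_H(P) trivially). Then H has a unique minimal normal subgroup N; N is non-abelian simple with trivial centralizer in H (so H embeds in Aut(N)), and a Sylow p-subgroup of N is again a nontrivial trivial-intersection set in N. -/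
theorem result {H : Type*} [Group H] [Finite H] (p : ℕ) [Fact p.Prime] (hOp : Cfsg.pCore p H = ⊥) (hOp' : Cfsg.pPrimeCore p H = ⊥) (P : Sylow p H) (hP1 : (P : Subgroup H) ≠ ⊥)
    (hTI : ∀ g : H, g ∉ Subgroup.normalizer ((P : Subgroup H) : Set H) → (P : Subgroup H) ⊓ (MulAut.conj g • (P : Subgroup H)) = ⊥) :
    ∃ N : Subgroup H, N.Normal ∧ N ≠ ⊥ ∧ (∀ K : Subgroup H, K.Normal → K ≠ ⊥ → N ≤ K) ∧
      IsSimpleGroup N ∧ ¬ IsMulCommutative N ∧ Subgroup.centralizer (N : Set H) = ⊥ ∧
      ∀ Q : Sylow p N, (Q : Subgroup N) ≠ ⊥ ∧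
        ∀ n : N, n ∉ Subgroup.normalizer ((Q : Subgroup N) : Set N) → (Q : Subgroup N) ⊓ (MulAut.conj n • (Q : Subgroup N)) = ⊥ := by
  have hp := (Fact.out : p.Prime)
  have hdvd : ∀ K : Subgroup H, K.Normal → K ≠ ⊥ → p ∣ Nat.card K := by
    intro K hK hKb
    by_contra hd
    exact hKb (CfsgLib.Solvable.pPrimeCore_eq_bot_iff.mp hOp' K hK
      (hp.coprime_iff_not_dvd.mpr hd).symm)
  have hne : {K : Subgroup H | K.Normal ∧ K ≠ ⊥}.Nonempty :=
    ⟨⊤, inferInstance, fun h => hP1 (le_bot_iff.mp (h ▸ le_top))⟩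
  obtain ⟨N, ⟨hNn, hNb⟩, hNmin⟩ :=
    (Set.toFinite {K : Subgroup H | K.Normal ∧ K ≠ ⊥}).exists_minimal hne
  haveI := hNn
  have hmin : ∀ K : Subgroup H, K.Normal → K ≠ ⊥ → K ≤ N → K = N := fun K hK hKb hle =>
    le_antisymm hle (hNmin ⟨hK, hKb⟩ hle)
  have hTI' : ∀ x ∈ (P : Subgroup H), x ≠ 1 → ∀ g : H, g * x = x * g →
      g ∈ Subgroup.normalizer ((P : Subgroup H) : Set H) := by
    intro x hx hx1 g hg
    by_contra hgn
    have h2 : x ∈ MulAut.conj g • (P : Subgroup H) := by
      rw [Subgroup.mem_pointwise_smul_iff_inv_smul_mem]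
      have : g⁻¹ * x * g = x := by rw [mul_assoc, ← hg, inv_mul_cancel_left]
      simpa [MulAut.smul_def, this] using hx
    exact hx1 (Subgroup.mem_bot.mp (hTI g hgn ▸ Subgroup.mem_inf.mpr ⟨hx, h2⟩))
  have hsyl : ∀ S : Subgroup H, p ∣ Nat.card S →
      ∃ g : H, ∃ y ∈ S, y ≠ 1 ∧ g * y * g⁻¹ ∈ (P : Subgroup H) := by
    intro S hS
    obtain ⟨⟨y, hyS⟩, hy⟩ := exists_prime_orderOf_dvd_card' p hS
    rw [Subgroup.orderOf_mk] at hy
    have hyp : IsPGroup p (Subgroup.zpowers y) := by
      rw [IsPGroup.iff_card]; exact ⟨1, by rw [Nat.card_zpowers, hy, pow_one]⟩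
    obtain ⟨Q, hQ⟩ := hyp.exists_le_sylow
    obtain ⟨g, hg⟩ := MulAction.exists_smul_eq H Q P
    refine ⟨g, y, hyS, ?_, ?_⟩
    · intro h; rw [h, orderOf_one] at hy; exact hp.ne_one hy.symm
    · rw [← hg, Sylow.coe_subgroup_smul, ← MulAut.conj_apply]
      exact Subgroup.smul_mem_pointwise_smul _ _ _ (hQ (Subgroup.mem_zpowers y))
  have hOpN : Cfsg.pCore p N = ⊥ := by
    refine (Subgroup.map_eq_bot_iff_of_injective _ N.subtype_injective).mp ?_
    rw [CfsgLib.Solvable.map_subtype_pCore_eq, hOp, bot_inf_eq]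
  have hOpN' : Cfsg.pPrimeCore p N = ⊥ := by
    refine (Subgroup.map_eq_bot_iff_of_injective _ N.subtype_injective).mp ?_
    rw [CfsgLib.Solvable.map_subtype_pPrimeCore_eq, hOp', bot_inf_eq]
  -- no normal subgroup of `N` with order divisible by `p` centralizes a p-element of P
  have hkey : ∀ T : Subgroup N, T.Normal → p ∣ Nat.card T → ∀ x ∈ (P : Subgroup H), x ≠ 1 →
      (∀ t ∈ T, (t : H) * x = x * (t : H)) → False := by
    intro T hT hpT x hxP hx1 htx
    let PT : Subgroup T := ((P : Subgroup H).comap N.subtype).comap T.subtype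
    have hPTn : PT.Normal := ⟨fun a ha t => by
      simp only [PT, Subgroup.mem_comap, Subgroup.coe_subtype, Subgroup.coe_mul,
        Subgroup.coe_inv] at ha ⊢
      exact ((Subgroup.mem_normalizer_iff.mp (hTI' x hxP hx1 _ (htx t t.2))) _).mp ha⟩
    have hPTp : IsPGroup p PT :=
      (P.isPGroup'.comap_of_injective _ N.subtype_injective).comap_of_injective _
        T.subtype_injective
    haveI : (Cfsg.pCore p T).Characteristic := CfsgLib.Solvable.pCore_characteristic p T
    haveI := hT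
    have hbot : Cfsg.pCore p T = ⊥ := by
      refine (Subgroup.map_eq_bot_iff_of_injective _ T.subtype_injective).mp ?_
      rw [CfsgLib.Solvable.map_subtype_pCore_eq, hOpN, bot_inf_eq]
    have hPT : PT = ⊥ := CfsgLib.Solvable.pCore_eq_bot_iff.mp hbot _ hPTn hPTp
    obtain ⟨⟨y, hy'⟩, hy⟩ := exists_prime_orderOf_dvd_card' p hpT
    rw [Subgroup.orderOf_mk, ← Subgroup.orderOf_coe] at hy
    have hyN : (y : H) ∈ Subgroup.normalizer ((P : Subgroup H) : Set H) :=
      hTI' x hxP hx1 _ (htx y hy')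
    have hyp : IsPGroup p (Subgroup.zpowers (y : H)) := by
      rw [IsPGroup.iff_card]; exact ⟨1, by rw [Nat.card_zpowers, hy, pow_one]⟩
    have hyP : (y : H) ∈ (P : Subgroup H) := by
      have h1 : IsPGroup p (Subgroup.zpowers (y : H) ⊔ (P : Subgroup H) : Subgroup H) :=
        hyp.to_sup_of_normal_right' P.isPGroup' (Subgroup.zpowers_le.mpr hyN)
      have h2 := P.is_maximal' h1 le_sup_right
      rw [← h2]
      exact (le_sup_left : Subgroup.zpowers (y : H) ≤ _) (Subgroup.mem_zpowers _)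
    have hy2 : (⟨y, hy'⟩ : T) ∈ PT := hyP
    rw [hPT, Subgroup.mem_bot, Subtype.ext_iff] at hy2
    rw [show y = 1 from hy2, OneMemClass.coe_one, orderOf_one] at hy
    exact hp.ne_one hy.symm
  have htop : p ∣ Nat.card (⊤ : Subgroup N) := by
    rw [Subgroup.card_top]; exact hdvd N hNn hNb
  have hcomm : ∀ A : Subgroup H, (∀ a ∈ A, ∀ n ∈ N, a * n = n * a) → p ∣ Nat.card A → False := by
    intro A hA hpA
    obtain ⟨g, y, hyA, hy1, hyP⟩ := hsyl A hpA
    refine hkey ⊤ inferInstance htop _ hyP (by rwa [Ne, conj_eq_one_iff]) (fun t _ => ?_)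
    have h := hA y hyA _ (hNn.conj_mem t t.2 g⁻¹)
    calc (t : H) * (g * y * g⁻¹) = g * ((g⁻¹ * t * g⁻¹⁻¹) * y) * g⁻¹ := by group
      _ = g * (y * (g⁻¹ * t * g⁻¹⁻¹)) * g⁻¹ := by rw [h]
      _ = g * y * g⁻¹ * t := by group
  have hcent : Subgroup.centralizer (N : Set H) = ⊥ := by
    by_contra hC
    haveI hCn : (Subgroup.centralizer (N : Set H)).Normal := inferInstance
    exact hcomm _ (fun a ha n hn => (Subgroup.mem_centralizer_iff.mp ha n hn).symm) (hdvd _ hCn hC)
  have huniq : ∀ K : Subgroup H, K.Normal → K ≠ ⊥ → N ≤ K := by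
    intro K hK hKb
    haveI := hK
    by_contra hle
    have hNK : N ⊓ K = ⊥ := by
      by_contra h
      exact hle (inf_eq_left.mp (hmin _ inferInstance h inf_le_left))
    refine hcomm K (fun a ha n hn => ?_) (hdvd K hK hKb)
    exact Subgroup.commute_of_normal_of_disjoint K N hK hNn
      (disjoint_iff.mpr (inf_comm N K ▸ hNK)) a n ha hn
  have hncomm : ¬ IsMulCommutative N := by
    intro h
    refine hNb (le_bot_iff.mp (hcent ▸ fun x hx => Subgroup.mem_centralizer_iff.mpr fun n hn => ?_))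
    exact congrArg Subtype.val (h.is_comm.comm (⟨n, hn⟩ : N) ⟨x, hx⟩)
  haveI hNnt : Nontrivial N := (Subgroup.nontrivial_iff_ne_bot N).mpr hNb
  refine ⟨N, hNn, hNb, huniq, ?_, hncomm, hcent, fun Q => ⟨Q.ne_bot_of_dvd_card (hdvd N hNn hNb), ?_⟩⟩
  · -- simplicity
    have hne' : {K : Subgroup N | K.Normal ∧ K ≠ ⊥}.Nonempty := ⟨⊤, inferInstance, bot_ne_top.symm⟩
    obtain ⟨S, ⟨hSn, hSb⟩, hSmin⟩ :=
      (Set.toFinite {K : Subgroup N | K.Normal ∧ K ≠ ⊥}).exists_minimal hne'
    haveI := hSn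
    have hpd : ∀ T : Subgroup N, T.Normal → T ≠ ⊥ → p ∣ Nat.card T := by
      intro T hT hTb
      by_contra hd
      exact hTb (CfsgLib.Solvable.pPrimeCore_eq_bot_iff.mp hOpN' T hT
        (hp.coprime_iff_not_dvd.mpr hd).symm)
    have hSle : ∀ T : Subgroup N, T.Normal → T ≠ ⊥ → S ≤ T := by
      intro T hT hTb
      haveI := hT
      by_contra hle
      have hST : S ⊓ T = ⊥ := by
        by_contra h
        exact hle (inf_eq_left.mp (le_antisymm inf_le_left (hSmin ⟨inferInstance, h⟩ inf_le_left)))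
      obtain ⟨g, y, hyS, hy1, hyP⟩ :=
        hsyl (S.map N.subtype) (by rw [Subgroup.card_map_of_injective N.subtype_injective]; exact hpd S hSn hSb)
      obtain ⟨s, hs, rfl⟩ := hyS
      -- transport T by g
      let φ : N ≃* N := MulAut.conjNormal (H := N) g
      refine hkey (T.map φ.toMonoidHom) (hT.map _ φ.surjective)
        (by rw [Subgroup.card_map_of_injective (f := φ.toMonoidHom) φ.injective]; exact hpd T hT hTb)
        _ hyP (by rwa [Ne, conj_eq_one_iff]) ?_
      rintro _ ⟨t, ht, rfl⟩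
      have h := congrArg Subtype.val
        (Subgroup.commute_of_normal_of_disjoint S T hSn hT (disjoint_iff.mpr hST) s t hs ht).eq
      simp only [Subgroup.coe_mul] at h
      simp only [φ, MulEquiv.coe_toMonoidHom, MulAut.conjNormal_apply, Subgroup.coe_subtype]
      calc g * (t : H) * g⁻¹ * (g * (s : H) * g⁻¹) = g * ((t : H) * s) * g⁻¹ := by group
        _ = g * ((s : H) * t) * g⁻¹ := by rw [h]
        _ = g * (s : H) * g⁻¹ * (g * (t : H) * g⁻¹) := by group
    have hSH : (S.map N.subtype).Normal := by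
      refine ⟨fun a ha g => ?_⟩
      obtain ⟨s, hs, rfl⟩ := ha
      let φ : N ≃* N := MulAut.conjNormal (H := N) g
      have h1 : S ≤ S.map φ.toMonoidHom := hSle _ (hSn.map _ φ.surjective)
        (fun h => hSb ((Subgroup.map_eq_bot_iff_of_injective _ φ.injective).mp h))
      have h2 : S = S.map φ.toMonoidHom := Subgroup.eq_of_le_of_card_ge h1
        (Subgroup.card_map_of_injective φ.injective).le
      refine ⟨φ s, ?_, ?_⟩
      · rw [h2]; exact ⟨s, hs, rfl⟩
      · simp [φ, MulAut.conjNormal_apply]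
    have hStop : S = ⊤ := by
      have h := hmin _ hSH (fun h => hSb ((Subgroup.map_eq_bot_iff_of_injective _ N.subtype_injective).mp h))
        (Subgroup.map_subtype_le S)
      rw [eq_top_iff]
      intro x _
      obtain ⟨s, hs, he⟩ := (h.symm.le x.2 : (x : H) ∈ S.map N.subtype)
      rwa [← Subtype.ext he]
    exact ⟨fun K hK => (em (K = ⊥)).imp id fun h => eq_top_iff.mpr (hStop ▸ hSle K hK h)⟩
  · intro n hn
    by_contra hne
    obtain ⟨y, hy⟩ := ((Q : Subgroup N) ⊓ MulAut.conj n • (Q : Subgroup N)).ne_bot_iff_exists_ne_one.mp hne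
    obtain ⟨y, hyI⟩ := y
    obtain ⟨hyQ, hyn⟩ := Subgroup.mem_inf.mp hyI
    have hy1 : y ≠ 1 := fun h => hy (Subtype.ext h)
    rw [Subgroup.mem_pointwise_smul_iff_inv_smul_mem] at hyn
    have hyn' : n⁻¹ * y * n ∈ (Q : Subgroup N) := by simpa [MulAut.smul_def] using hyn
    obtain ⟨R, hR⟩ := Q.exists_comap_subtype_eq
    obtain ⟨g, hg⟩ := MulAction.exists_smul_eq H R P
    -- n normalizes R
    have hnR : (n : H) ∈ Subgroup.normalizer ((R : Subgroup H) : Set H) := by
      have hyR : (y : H) ∈ (R : Subgroup H) := by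
        rw [← hR] at hyQ; exact hyQ
      have hynR : (n : H)⁻¹ * y * n ∈ (R : Subgroup H) := by
        rw [← hR] at hyn'; exact hyn'
      have hP : ∀ z : H, z ∈ (R : Subgroup H) ↔ g * z * g⁻¹ ∈ (P : Subgroup H) := by
        intro z
        rw [← hg, Sylow.coe_subgroup_smul, ← MulAut.conj_apply, ← MulAut.smul_def,
          Subgroup.smul_mem_pointwise_smul_iff]
      have hgn : g * (n : H) * g⁻¹ ∈ Subgroup.normalizer ((P : Subgroup H) : Set H) := by
        by_contra hc
        have h1 : g * (y : H) * g⁻¹ ∈ MulAut.conj (g * (n : H) * g⁻¹) • (P : Subgroup H) := by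
          rw [Subgroup.mem_pointwise_smul_iff_inv_smul_mem]
          have : (g * (n : H) * g⁻¹)⁻¹ * (g * y * g⁻¹) * (g * n * g⁻¹) =
              g * ((n : H)⁻¹ * y * n) * g⁻¹ := by group
          have h' := (hP _).mp hynR
          rw [← this] at h'
          rw [MulAut.smul_def, MulAut.inv_apply, MulAut.conj_symm_apply]
          exact h'
        have h2 := hTI _ hc ▸ Subgroup.mem_inf.mpr ⟨(hP _).mp hyR, h1⟩
        rw [Subgroup.mem_bot, conj_eq_one_iff] at h2
        exact hy1 (Subtype.ext h2)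
      rw [Subgroup.mem_normalizer_iff]
      intro z
      rw [hP z, hP, Subgroup.mem_normalizer_iff.mp hgn (g * z * g⁻¹)]
      simp [mul_assoc]
    apply hn
    rw [Subgroup.mem_normalizer_iff]
    intro z
    rw [← hR]
    simpa [Subgroup.mem_subgroupOf] using (Subgroup.mem_normalizer_iff.mp hnR) (z : H)

end Cfsg.Agent.S4620
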