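import Cfsg.Statements.S4624
import Cfsg.Agent.Lib.SylowAbel.Sym
import Cfsg.Agent.Lib.SylowAbel.Pi
import Cfsg.Agent.Lib.SpSylowTwo.Main

set_option autoImplicit false
open Cfsg

namespace Cfsg.Agent.S4624

/-- Let F be a finite field of odd order and n ≥ 1. A Sylow 2-subgroup P of the symplectic group Sp_{2n}(F) has P/P' elementary abelian: the square of every element of P lies in the derived subgroup of P. -/
theorem result {F : Type*} [Field F] [Fintype F] (hF : Odd (Fintype.card F)) (n : ℕ) (hn : 1 ≤ n) (P : Sylow 2 (Matrix.symplecticGroup (Fin n) F)) :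
    ∀ x : (P : Subgroup (Matrix.symplecticGroup (Fin n) F)), x ^ 2 ∈ commutator (P : Subgroup (Matrix.symplecticGroup (Fin n) F)) := by
  classical
  haveI : Fact (Nat.Prime 2) := ⟨Nat.prime_two⟩
  let Q : Sylow 2 (Matrix.SpecialLinearGroup (Fin 2) F) := default
  let R : Sylow 2 (Equiv.Perm (Fin n)) := default
  let φ := (CfsgLib.SpSylowTwo.permAut (ι := Fin n) (Q : Subgroup (Matrix.SpecialLinearGroup (Fin 2) F))).comp
    (R : Subgroup (Equiv.Perm (Fin n))).subtype
  obtain ⟨k, hk, ⟨e⟩⟩ := CfsgLib.Linear.sylow_two_SL2_quaternion hF Q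
  intro x
  refine CfsgLib.SylowAbel.good_sylow_of_hom
    (H := (Fin n → (Q : Subgroup (Matrix.SpecialLinearGroup (Fin 2) F))) ⋊[φ] (R : Subgroup (Equiv.Perm (Fin n))))
    (CfsgLib.SpSylowTwo.wreathSp (Q : Subgroup (Matrix.SpecialLinearGroup (Fin 2) F)).subtype _)
    (CfsgLib.SpSylowTwo.wreathSp_injective _ Subtype.val_injective _) ?_ ?_ P x
  · rw [SemidirectProduct.card, Nat.card_fun, Sylow.card_eq_multiplicity, Sylow.card_eq_multiplicity,
      CfsgLib.SpSylowTwo.factorization_card_symplectic hF, pow_add, ← pow_mul, Nat.card_fin, mul_comm n,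
      Nat.card_perm, Nat.card_fin]
  · exact CfsgLib.SylowAbel.good_semidirect
      (fun f => CfsgLib.SylowAbel.good_pi
        (fun q => CfsgLib.SylowAbel.good_of_equiv e.symm (CfsgLib.SylowAbel.good_quaternion (by omega)) q) f)
      (fun r => CfsgLib.SylowAbel.good_perm n R r)

end Cfsg.Agent.S4624
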