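import Cfsg.Statements.S4625
import Cfsg.Agent.Lib.SylowLieTwo.Unitary
import Cfsg.Agent.Lib.SylowLieTwo.Orth
import Cfsg.Agent.Lib.SylowLieTwo.Chev
import Cfsg.Agent.Lib.SylowLieTwo.Twisted
import Cfsg.Agent.Lib.SylowLieTwo.Suzuki
import Cfsg.Agent.Lib.SylowLieTwo.ReeF4
import Cfsg.Agent.Lib.Chev.Comm

set_option autoImplicit false
open Cfsg

namespace Cfsg.Agent.S4625

/-- Let G be a finite simple group of Lie type in characteristic 2, not counting the Tits group ²F₄(2)′. Then a Sylow 2-subgroup P of G has P/P' elementary abelian: the square of every element of P lies in the derived subgroup of P. -/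
theorem result {G : Type*} [Group G] [Finite G] [IsSimpleGroup G] (hG : Cfsg.IsLieTypeChar 2 G) (P : Sylow 2 G) :
    ∀ x : (P : Subgroup G), x ^ 2 ∈ commutator (P : Subgroup G) := by
  haveI : Fact (Nat.Prime 2) := ⟨Nat.prime_two⟩
  intro x
  show CfsgLib.SylowAbel.Good 2 x
  rcases hG with h | h | h | h | h | h | h | h | h | h | h
  · obtain ⟨F, _, _, _, n, -, -, ⟨e⟩⟩ := h
    exact CfsgLib.SylowLieTwo.good_sylow_psl 2 e P x
  · obtain ⟨F, _, _, _, m, -, -, ⟨e⟩⟩ := h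
    exact CfsgLib.SylowLieTwo.good_sylow_psp 2 e P x
  · obtain ⟨F, _, _, _, n, q, hF, -, -, ⟨e⟩⟩ := h
    exact CfsgLib.SylowLieTwo.good_sylow_psu hF e P x
  · obtain ⟨F, _, _, _, m, -, hodd, -⟩ := h
    exact absurd CharTwo.two_eq_zero
      (CfsgLib.Classical.Quad.two_ne_zero_iff_odd.2 (Nat.card_eq_fintype_card (α := F) ▸ hodd))
  · obtain ⟨F, _, _, _, m, hm, ⟨e⟩⟩ := h
    exact CfsgLib.SylowLieTwo.good_sylow_pomega_plus (by omega) e P x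
  · obtain ⟨F, _, _, _, m, a, b, hm, hab, ⟨e⟩⟩ := h
    exact CfsgLib.SylowLieTwo.good_sylow_pomega_minus hab (by omega) e P x
  · obtain ⟨F, _, _, _, h⟩ := h
    rcases h with ⟨-, ⟨e⟩⟩ | ⟨⟨e⟩⟩ | ⟨⟨e⟩⟩ | ⟨⟨e⟩⟩ | ⟨⟨e⟩⟩
    · obtain ⟨T, hc, hcomm⟩ := CfsgLib.Chev.exists_checked' (D := Cfsg.Lie.chevG2) (by simp)
      exact CfsgLib.SylowLieTwo.good_sylow_chev 2 hc hcomm e P x
    · obtain ⟨T, hc, hcomm⟩ := CfsgLib.Chev.exists_checked' (D := Cfsg.Lie.chevF4) (by simp)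
      exact CfsgLib.SylowLieTwo.good_sylow_chev 2 hc hcomm e P x
    · obtain ⟨T, hc, hcomm⟩ := CfsgLib.Chev.exists_checked' (D := Cfsg.Lie.chevE6) (by simp)
      exact CfsgLib.SylowLieTwo.good_sylow_chev 2 hc hcomm e P x
    · obtain ⟨T, hc, hcomm⟩ := CfsgLib.Chev.exists_checked' (D := Cfsg.Lie.chevE7) (by simp)
      exact CfsgLib.SylowLieTwo.good_sylow_chev 2 hc hcomm e P x
    · obtain ⟨T, hc, hcomm⟩ := CfsgLib.Chev.exists_checked' (D := Cfsg.Lie.chevE8) (by simp)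
      exact CfsgLib.SylowLieTwo.good_sylow_chev 2 hc hcomm e P x
  · obtain ⟨K, _, _, _, q, hq, ⟨hK, ⟨e⟩⟩ | ⟨hK, ⟨e⟩⟩⟩ := h
    · exact CfsgLib.SylowLieTwo.good_sylow_twistedE6 hq hK e P x
    · exact CfsgLib.SylowLieTwo.good_sylow_twistedD4 hq hK e P x
  · obtain ⟨-, F, _, _, m, hm, hF, ⟨e⟩⟩ := h
    exact CfsgLib.SylowLieTwo.good_sylow_suzuki ⟨hm, hF⟩ e P x
  · obtain ⟨-, K, _, _, m, hm, hK, ⟨e⟩⟩ := h
    obtain ⟨σ, hσ⟩ := CfsgLib.ReeF4.exists_sigma hK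
    exact CfsgLib.SylowLieTwo.good_sylow_reeF4 hσ hm e P x
  · exact absurd h.1 (by decide)

end Cfsg.Agent.S4625
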