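import Cfsg.Statements.S4626
import Cfsg.Agent.Lib.BlockPrincipal.Criterion
import Cfsg.Agent.Lib.CharTools.Basic

set_option autoImplicit false
open Cfsg

namespace Cfsg.Agent.S4626

/-- Let G be a finite group, p a prime, M a maximal ideal of the algebraic integers containing p, P a Sylow p-subgroup of G and N a normal subgroup of index prime to p containing the centralizer C_G(P). Then every irreducible character of G whose kernel contains N lies in the principal p-block of G. -/
theorem result {G : Type*} [Group G] [Finite G] (p : ℕ) [Fact p.Prime] (M : Ideal Cfsg.AlgInt) (hM : Cfsg.IsPModular p M) (P : Sylow p G) (N : Subgroup G) [N.Normal] (hidx : ¬ p ∣ N.index)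
    (hC : Subgroup.centralizer ((P : Subgroup G) : Set G) ≤ N) (χ : Cfsg.IrrCharacter G) (hker : ∀ n ∈ N, (χ : G → ℂ) n = (χ : G → ℂ) 1) :
    χ ∈ Cfsg.principalBlock M G := by
  classical
  obtain ⟨φ, hφ⟩ := CfsgLib.CharTools.exists_descend N χ.2 hker
  have hdeg : Cfsg.charDegree (φ : G ⧸ N → ℂ) = Cfsg.charDegree (χ : G → ℂ) := by
    unfold Cfsg.charDegree
    rw [← hφ 1]
    rfl
  have hd : ¬ p ∣ Cfsg.charDegree (χ : G → ℂ) := fun h => hidx
    (h.trans (hdeg ▸ CfsgLib.CharTools.degree_dvd_card φ))
  intro g
  by_cases hg : g ∈ N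
  · have h0 : (χ : G → ℂ) 1 ≠ 0 := CfsgLib.BlockReg.deg_ne_zero χ
    have : Cfsg.centralChar (fun _ : G => (1 : ℂ)) g - Cfsg.centralChar (χ : G → ℂ) g = 0 := by
      unfold Cfsg.centralChar
      rw [hker g hg]; simp [h0]
    rw [this]
    exact CfsgLib.BlockReg.memIdeal_zero hM
  · have hp : p ∣ (Subgroup.centralizer ({g} : Set G)).index := by
      by_contra hnd
      obtain ⟨Q⟩ : Nonempty (Sylow p (Subgroup.centralizer ({g} : Set G))) := inferInstance
      obtain ⟨R, hR⟩ := (Q.2.map (Subgroup.centralizer ({g} : Set G)).subtype).exists_le_sylow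
      have hcard : Nat.card ((Q : Subgroup _).map (Subgroup.centralizer ({g} : Set G)).subtype) =
          Nat.card (R : Subgroup G) := by
        rw [Subgroup.card_map_of_injective (Subgroup.subtype_injective _), Q.card_eq_multiplicity,
          R.card_eq_multiplicity, ← Subgroup.card_mul_index (Subgroup.centralizer ({g} : Set G)),
          Nat.factorization_mul Nat.card_pos.ne' Subgroup.index_ne_zero_of_finite,
          Finsupp.add_apply, Nat.factorization_eq_zero_of_not_dvd hnd, add_zero]
      have hRle : (R : Subgroup G) ≤ Subgroup.centralizer ({g} : Set G) := by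
        rw [← Subgroup.eq_of_le_of_card_ge hR hcard.ge]
        exact Subgroup.map_subtype_le _
      obtain ⟨x, hx⟩ := MulAction.exists_smul_eq G P R
      have hmem : x⁻¹ * g * x ∈ Subgroup.centralizer ((P : Subgroup G) : Set G) := by
        rw [Subgroup.mem_centralizer_iff]
        intro u hu
        have hu' : MulAut.conj x u ∈ (R : Subgroup G) := by
          rw [← hx]
          exact Subgroup.smul_mem_pointwise_smul u (MulAut.conj x) (P : Subgroup G) hu
        have h1 := Subgroup.mem_centralizer_iff.1 (hRle hu') g rfl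
        simp only [MulAut.conj_apply] at h1
        calc u * (x⁻¹ * g * x) = x⁻¹ * ((x * u * x⁻¹) * g) * x := by group
          _ = x⁻¹ * (g * (x * u * x⁻¹)) * x := by rw [h1]
          _ = x⁻¹ * g * x * u := by group
      apply hg
      have := ‹N.Normal›.conj_mem _ (hC hmem) x
      simpa [mul_assoc] using this
    apply CfsgLib.BlockReg.memIdeal_sub hM
    · unfold Cfsg.centralChar
      simpa using (CfsgLib.BlockReg.memIdeal_natCast_iff hM _).2 hp
    · unfold Cfsg.centralChar
      rw [mul_div_assoc, div_eq_mul_inv, ← CfsgLib.BlockReg.deg_cast]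
      exact CfsgLib.BlockReg.memIdeal_mul_right hM ((CfsgLib.BlockReg.memIdeal_natCast_iff hM _).2 hp)
        (CfsgLib.BlockReg.memRing_mul hM (CfsgLib.BlockReg.memRing_char hM χ g)
          (CfsgLib.BlockReg.memRing_inv_natCast hM hd))

end Cfsg.Agent.S4626
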