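import Cfsg.Statements.S4633
import Cfsg.Agent.Lib.Blocks.Pairs.CyclicInertial

set_option autoImplicit false
open Cfsg CfsgLib.Blocks CfsgLib.Blocks.Pairs

namespace Cfsg.Agent.S4633

/-- Let B be a block of the finite group G relative to a maximal ideal M of the algebraic integers containing the prime p, with a nontrivial cyclic defect group P. Let c be a block of C_G(P) inducing B and T the stabilizer of c in N_G(P) (the elements of N_G(P) conjugating c to itself); T contains C_G(P). Then T/C_G(P) is cyclic of order dividing p − 1, and it acts freely on the non-identity elements of P: an element of T fixing some non-identity element of P under conjugation lies in C_G(P). -/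
theorem result {G : Type*} [Group G] [Finite G] (p : ℕ) [Fact p.Prime] (M : Ideal Cfsg.AlgInt) (hM : Cfsg.IsPModular p M) (B : Set (Cfsg.IrrCharacter G)) (hB : Cfsg.IsPBlock M B) (P : Subgroup G) (hPD : Cfsg.IsDefectGroup p M B P) (hP1 : P ≠ ⊥) (hcyc : IsCyclic P) (c : Set (Cfsg.IrrCharacter (Subgroup.centralizer (P : Set G)))) (hc : Cfsg.IsInducedBlock M (Subgroup.centralizer (P : Set G)) c B) (T : Subgroup G) (hT : ∀ g : G, g ∈ T ↔ (g ∈ Subgroup.normalizer (P : Set G) ∧ Cfsg.StabilizesBlock (Subgroup.centralizer (P : Set G)) c g)) [hn : ((Subgroup.centralizer (P : Set G)).subgroupOf T).Normal] : IsCyclic (T ⧸ (Subgroup.centralizer (P : Set G)).subgroupOf T) ∧ (Subgroup.centralizer (P : Set G)).relIndex T ∣ p - 1 ∧ ∀ g ∈ T, ∀ x ∈ P, x ≠ 1 → g * x * g⁻¹ = x → g ∈ Subgroup.centralizer (P : Set G) := by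
  classical
  haveI := isMaximal_of_isPModular hM
  haveI : CharP (ResField M) p := charP_resField hM.1 (natCast_mem_of_isPModular hM)
  obtain ⟨hB', hc', hP, hno, -, hPp⟩ := exists_root_pair hM hPD hc
  have hTeq : ∀ g : G, g ∈ T ↔ g ∈ pairStab P (eIn hc') := fun g =>
    (hT g).trans (CfsgLib.Blk83.mem_pairStab_iff hc').symm
  have hab : ∀ a ∈ P, ∀ b ∈ P, a * b = b * a := fun a ha b hb => by
    obtain ⟨z, hz⟩ := hcyc.exists_generator
    obtain ⟨i, hi⟩ := Subgroup.mem_zpowers_iff.1 (hz ⟨a, ha⟩)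
    obtain ⟨j, hj⟩ := Subgroup.mem_zpowers_iff.1 (hz ⟨b, hb⟩)
    exact congrArg Subtype.val (show (⟨a, ha⟩ : P) * ⟨b, hb⟩ = ⟨b, hb⟩ * ⟨a, ha⟩ by
      rw [← hi, ← hj, ← zpow_add, ← zpow_add, add_comm])
  have h := cyclic_inertial (T := T) hPp hP1 hcyc (fun g hg => ((hT g).1 hg).1) fun g hg =>
    exists_pow_mem_centralizer hM hP hno hab ((hTeq g).1 hg)
  exact ⟨h.1, h.2.1, h.2.2⟩

end Cfsg.Agent.S4633
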