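import Cfsg.Statements.S4634
import Cfsg.Agent.S4696
import Cfsg.Agent.Lib.PerfIso.Cyclic
-- import your own Cfsg.Agent.* helpers here

set_option autoImplicit false
open Cfsg

namespace Cfsg.Agent.S4634

open CfsgLib.Blocks CfsgLib.Blocks.Pairs CfsgLib.PerfIso

universe u

theorem relationAll {p : ℕ} [Fact p.Prime] {M : Ideal Cfsg.AlgInt} [M.IsMaximal]
    [CharP (ResField M) p] (hM : Cfsg.IsPModular p M) : RelationAll.{u} p M := by
  intro K _ _ B D c hc a e hB hBD hind hd
  obtain ⟨-, -, X, Y, hXY, hdis, hXc, hYc, -, δ, δ₀, hδ, hδ₀, hrel, -⟩ :=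
    Cfsg.Agent.S4696.result p M hM D hd.cyc a hd.pos hd.card B hB hBD c hind
      (pairStab D (eIn hc)) (fun g => mem_pairStab_iff_forall hc g) e hd.idx
  exact ⟨X, Y, hXY, hdis, hXc, hYc, δ, δ₀, hδ, hδ₀, hrel⟩


/-- Let B be a block of the finite group G relative to a maximal ideal M of the algebraic integers containing the prime p, with a nontrivial cyclic defect group P, let c be a block of C_G(P) inducing B, T the stabilizer of c in N_G(P) and e the index of C_G(P) in T. Let F be any finite group of order #P · e having a cyclic subgroup Q of order #P that is its own centralizer (F is then the semidirect product of Q by a cyclic group of order e acting faithfully). Then there is a perfect isometry from the set of all irreducible characters of F onto B whose signs agree on all the characters of F that do not contain Q in their kernel. -/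
theorem result {G : Type*} [Group G] [Finite G] (p : ℕ) [Fact p.Prime] (M : Ideal Cfsg.AlgInt) (hM : Cfsg.IsPModular p M) (B : Set (Cfsg.IrrCharacter G)) (hB : Cfsg.IsPBlock M B) (P : Subgroup G) (hPD : Cfsg.IsDefectGroup p M B P) (hP1 : P ≠ ⊥) (hcyc : IsCyclic P) (c : Set (Cfsg.IrrCharacter (Subgroup.centralizer (P : Set G)))) (hc : Cfsg.IsInducedBlock M (Subgroup.centralizer (P : Set G)) c B) (T : Subgroup G) (hT : ∀ g : G, g ∈ T ↔ (g ∈ Subgroup.normalizer (P : Set G) ∧ Cfsg.StabilizesBlock (Subgroup.centralizer (P : Set G)) c g)) (e : ℕ) (he : (Subgroup.centralizer (P : Set G)).relIndex T = e) (F : Type*) [Group F] [Finite F] (hF : Nat.card F = Nat.card P * e) (Q : Subgroup F) (hQ : IsCyclic Q) (hQcard : Nat.card Q = Nat.card P) (hQC : Subgroup.centralizer (Q : Set F) = Q) : ∃ (I : Cfsg.IrrCharacter F → Cfsg.IrrCharacter G) (ε : Cfsg.IrrCharacter F → ℤ), Cfsg.IsPerfectIsometry p M (Set.univ : Set (Cfsg.IrrCharacter F)) B I ε ∧ ∀ η η' : Cfsg.IrrCharacter F, (∃ x ∈ Q, (η : F → ℂ) x ≠ (η : F → ℂ) 1) →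 (∃ x ∈ Q, (η' : F → ℂ) x ≠ (η' : F → ℂ) 1) → ε η = ε η' := by
  haveI := isMaximal_of_isPModular hM
  haveI : CharP (ResField M) p := charP_resField hM.1 (natCast_mem_of_isPModular hM)
  obtain ⟨hB', a, hd⟩ := exists_cycData hM hPD hP1 hcyc hc.1 hc
  have hTe : T = pairStab P (eIn hc.1) :=
    SetLike.ext fun g => (hT g).trans (CfsgLib.Blk83.mem_pairStab_iff hc.1).symm
  rw [← hTe, he] at hd
  exact exists_perfectIsometry_cyc hd
    (relationAll hM G B P c hc.1 a e hB' hPD hc hd) hF Q hQ hQcard hQC

end Cfsg.Agent.S4634
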