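import Cfsg.Statements.S4635
import Cfsg.Agent.S4696
import Cfsg.Agent.Lib.PerfIso.Cyclic
-- import your own Cfsg.Agent.* helpers here

set_option autoImplicit false
open Cfsg

namespace Cfsg.Agent.S4635

open CfsgLib.Blocks CfsgLib.Blocks.Pairs CfsgLib.PerfIso

universe u

theorem relationAll {p : ℕ} [Fact p.Prime] {M : Ideal Cfsg.AlgInt} [M.IsMaximal]
    [CharP (ResField M) p] (hM : Cfsg.IsPModular p M) : RelationAll.{u} p M := by
  intro K _ _ B D c hc a e hB hBD hind hd
  obtain ⟨-, -, X, Y, hXY, hdis, hXc, hYc, -, δ, δ₀, hδ, hδ₀, hrel, -⟩ :=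
    Cfsg.Agent.S4696.result p M hM D hd.cyc a hd.pos hd.card B hB hBD c hind
      (pairStab D (eIn hc)) (fun g => mem_pairStab_iff_forall hc g) e hd.idx
  exact ⟨X, Y, hXY, hdis, hXc, hYc, δ, δ₀, hδ, hδ₀, hrel⟩


/-- Let B be a block of the finite group G relative to a maximal ideal M of the algebraic integers containing the prime p, with a nontrivial cyclic defect group P; let Z be the subgroup of order p of P and H = N_G(Z), which contains N_G(P). Let c be the block of H with defect group P that induces B. Then B and c contain the same number of irreducible characters, have the same p-regular rank, and there is a perfect isometry from c onto B. -/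
theorem result {G : Type*} [Group G] [Finite G] (p : ℕ) [Fact p.Prime] (M : Ideal Cfsg.AlgInt) (hM : Cfsg.IsPModular p M) (B : Set (Cfsg.IrrCharacter G)) (hB : Cfsg.IsPBlock M B) (P : Subgroup G) (hPD : Cfsg.IsDefectGroup p M B P) (hP1 : P ≠ ⊥) (hcyc : IsCyclic P) (Z : Subgroup G) (hZ : Z ≤ P) (hZcard : Nat.card Z = p) (H : Subgroup G) (hH : H = Subgroup.normalizer (Z : Set G)) (c : Set (Cfsg.IrrCharacter H)) (hcD : Cfsg.IsDefectGroup p M c (P.subgroupOf H)) (hc : Cfsg.IsInducedBlock M H c B) : Nat.card c = Nat.card B ∧ Cfsg.blockRank p c = Cfsg.blockRank p B ∧ ∃ (I : Cfsg.IrrCharacter H → Cfsg.IrrCharacter G) (ε : Cfsg.IrrCharacter H → ℤ), Cfsg.IsPerfectIsometry p M c B I ε := by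
  haveI := isMaximal_of_isPModular hM
  haveI : CharP (ResField M) p := charP_resField hM.1 (natCast_mem_of_isPModular hM)
  exact cyclic_correspondence (relationAll hM) hM hPD hP1 hcyc H
    (hH ▸ normalizer_le_normalizer_of_cyclic hcyc hZ) hcD hc

end Cfsg.Agent.S4635
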