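import Cfsg.Statements.S4636
-- import your own Cfsg.Agent.* helpers here

set_option autoImplicit false
open scoped Pointwise
open Cfsg

namespace Cfsg.Agent.S4636

/-- Let P be a nontrivial cyclic p-subgroup of the finite group G and Z its subgroup of order p. For every x outside N_G(Z), P meets its conjugate xPx⁻¹ trivially; consequently N_G(Q) ≤ N_G(Z) for every nontrivial subgroup Q of P. -/
theorem result {G : Type*} [Group G] [Finite G] (p : ℕ) [Fact p.Prime] (P : Subgroup G) (hP : IsPGroup p P) (hP1 : P ≠ ⊥) (hcyc : IsCyclic P) (Z : Subgroup G) (hZ : Z ≤ P) (hZcard : Nat.card Z = p) : (∀ x : G, x ∉ Subgroup.normalizer (Z : Set G) → P ⊓ MulAut.conj x • P = ⊥) ∧ ∀ Q : Subgroup G, Q ≤ P → Q ≠ ⊥ → Subgroup.normalizer (Q : Set G) ≤ Subgroup.normalizer (Z : Set G) := by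
  have hp := (Fact.out : p.Prime)
  have hZ1 : ∀ y ∈ P, y ^ p = 1 → y ∈ Z := by
    classical
    haveI := Fintype.ofFinite P
    intro y hy hyp
    let S : Finset P := Finset.univ.filter (fun a : P => a ^ p = 1)
    let T : Finset P := Finset.univ.filter (fun a : P => (a : G) ∈ Z)
    have hTS : T ⊆ S := by
      intro a ha
      simp only [T, S, Finset.mem_filter, Finset.mem_univ, true_and] at ha ⊢
      have : (⟨(a : G), ha⟩ : Z) ^ Nat.card Z = 1 := pow_card_eq_one'
      rw [hZcard] at this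
      exact Subtype.ext (by simpa using congrArg Subtype.val this)
    have hT : T.card = p := by
      rw [← hZcard, ← Nat.card_congr (Subgroup.subgroupOfEquivOfLe hZ).toEquiv,
        Nat.card_eq_fintype_card, Fintype.card_subtype]
      simp [T, Subgroup.mem_subgroupOf]
    have hS : S.card ≤ p := IsCyclic.card_pow_eq_one_le hp.pos
    have heq : T = S := Finset.eq_of_subset_of_card_le hTS (by omega)
    have hmem : (⟨y, hy⟩ : P) ∈ T := by
      rw [heq]; simp [S, Subtype.ext_iff, hyp]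
    simpa [T] using hmem
  have hgen : ∀ y ∈ Z, y ≠ 1 → Subgroup.zpowers y = Z := by
    intro y hy hy1
    refine Subgroup.eq_of_le_of_card_ge (Subgroup.zpowers_le.mpr hy) ?_
    rw [hZcard, Nat.card_zpowers]
    have h1 : orderOf (⟨y, hy⟩ : Z) ∣ p := hZcard ▸ orderOf_dvd_natCard _
    rw [Subgroup.orderOf_mk] at h1
    rcases (Nat.dvd_prime hp).mp h1 with h | h
    · exact absurd (orderOf_eq_one_iff.mp h) hy1
    · exact h.ge
  have key : ∀ x : G, ∀ y : G, y ≠ 1 → y ^ p = 1 → y ∈ P → x * y * x⁻¹ ∈ P →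
      x ∈ Subgroup.normalizer (Z : Set G) := by
    intro x y hy1 hyp hyP hxy
    have hy : y ∈ Z := hZ1 y hyP hyp
    have hyx : x * y * x⁻¹ ∈ Z := hZ1 _ hxy (by rw [conj_pow, hyp, mul_one, mul_inv_cancel])
    have hne : x * y * x⁻¹ ≠ 1 := by rwa [Ne, conj_eq_one_iff]
    have h : Z.map (MulAut.conj x).toMonoidHom = Z := by
      conv_lhs => rw [← hgen y hy hy1]
      rw [MonoidHom.map_zpowers]
      exact hgen _ hyx hne
    rw [Subgroup.mem_normalizer_iff]
    intro z
    constructor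
    · intro hz
      rw [← h]
      exact ⟨z, hz, rfl⟩
    · intro hz
      rw [← h] at hz
      obtain ⟨w, hw, hwe⟩ := hz
      have : w = z := by simpa using hwe
      rw [← this]; exact hw
  have hel : ∀ Q : Subgroup G, Q ≤ P → Q ≠ ⊥ → ∃ y ∈ Q, y ≠ 1 ∧ y ^ p = 1 := by
    intro Q hQ hQ1
    have hdvd : p ∣ Nat.card Q := by
      obtain ⟨n, hn⟩ := IsPGroup.iff_card.mp (hP.to_le hQ)
      rcases n with _ | n
      · exact absurd (Subgroup.eq_bot_of_card_eq _ (by simpa using hn)) hQ1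
      · exact hn ▸ dvd_pow_self p (by omega)
    obtain ⟨⟨y, hyQ⟩, hy⟩ := exists_prime_orderOf_dvd_card' p hdvd
    rw [Subgroup.orderOf_mk] at hy
    refine ⟨y, hyQ, ?_, hy ▸ pow_orderOf_eq_one y⟩
    intro h; rw [h, orderOf_one] at hy; exact hp.ne_one hy.symm
  refine ⟨fun x hx => ?_, fun Q hQ hQ1 x hx => ?_⟩
  · by_contra hne
    obtain ⟨y, hyPX, hy1, hyp⟩ := hel _ inf_le_left hne
    obtain ⟨hyP, hyX⟩ := Subgroup.mem_inf.mp hyPX
    rw [Subgroup.mem_pointwise_smul_iff_inv_smul_mem] at hyX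
    have hyX' : x⁻¹ * y * x ∈ P := by simpa [MulAut.smul_def] using hyX
    apply hx
    have := key x⁻¹ y hy1 hyp hyP (by simpa using hyX')
    simpa using Subgroup.inv_mem _ this
  · obtain ⟨y, hyQ, hy1, hyp⟩ := hel Q hQ hQ1
    exact key x y hy1 hyp (hQ hyQ) (hQ (((Subgroup.mem_normalizer_iff.mp hx) y).mp hyQ))

end Cfsg.Agent.S4636
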