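import Cfsg.Statements.S4638
import Cfsg.Agent.S4637
import Cfsg.Agent.Lib.PerfIso.Klein
import Cfsg.Agent.Lib.PerfIso.Transfer
-- import your own Cfsg.Agent.* helpers here

set_option autoImplicit false
open Cfsg

open CfsgLib.Blocks CfsgLib.Blocks.Pairs CfsgLib.PerfIso
open scoped IsMulCommutative

namespace Cfsg.Agent.S4638

set_option maxHeartbeats 1600000
set_option synthInstance.maxHeartbeats 400000

universe u

theorem klein_data {K : Type u} [Group K] [Finite K] {M : Ideal Cfsg.AlgInt} [M.IsMaximal]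
    [CharP (ResField M) 2] (hM : Cfsg.IsPModular 2 M) {B : Set (Cfsg.IrrCharacter K)}
    {P : Subgroup K} [IsMulCommutative P] (hPD : Cfsg.IsDefectGroup 2 M B P) (hV : IsKleinFour P)
    {c : Set (Cfsg.IrrCharacter (Subgroup.centralizer (P : Set K)))} (hc : Cfsg.IsPBlock M c)
    (hind : Cfsg.IsInducedBlock M (Subgroup.centralizer (P : Set K)) c B) :
    ∃ hB : Cfsg.IsPBlock M B, PairOf 2 (ebar hB) P (eIn hc) ∧ NoExt 2 P (eIn hc) ∧
      Free P (pairStab P (eIn hc)) ∧ (∀ a b : autP P (eIn hc), a * b = b * a) ∧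
      ∃ (X Y : Finset (Cfsg.IrrCharacter K)) (δ : Cfsg.IrrCharacter K → ℤ) (δ₀ : ℤ),
        RegularData 2 B X Y δ δ₀ ∧ X.card = Nat.card (autP P (eIn hc)) ∧
        Nat.card P = 1 + Nat.card (autP P (eIn hc)) * Y.card := by
  obtain ⟨hB, hc', hP, hno, -, -⟩ := exists_root_pair hM hPD hind
  have hab : ∀ x ∈ P, ∀ y ∈ P, x * y = y * x := fun x hx y hy =>
    congrArg Subtype.val (mul_comm (⟨x, hx⟩ : P) ⟨y, hy⟩)
  have hfree := free_of_klein hM hP hno hV hab
  obtain ⟨he, hk, hl⟩ := Cfsg.Agent.S4637.result M hM B hB P hPD hV c hind (pairStab P (eIn hc))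
    (fun g => CfsgLib.Blk83.mem_pairStab_iff hc) _ rfl
  rw [← card_autP] at he hl
  refine ⟨hB, hP, hno, hfree, ?_, exists_regularData_klein hM hB hP hno hfree hV hk hl⟩
  have hcyc : IsCyclic (autP P (eIn hc)) := by
    rcases he with h | h
    · haveI := (Nat.card_eq_one_iff_unique.1 h).1
      infer_instance
    · haveI : Fact (Nat.Prime 3) := ⟨Nat.prime_three⟩
      exact isCyclic_of_prime_card h
  exact fun a b => hcyc.commutative.1.1 a b

/-- Let B be a block of the finite group G relative to a maximal ideal M of the algebraic integers containing 2, with a Klein four defect group P, and let c be its Brauer correspondent: the block of N_G(P) with defect group P that induces B. Then there is a perfect isometry from c onto B. -/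
theorem result {G : Type*} [Group G] [Finite G] (M : Ideal Cfsg.AlgInt) (hM : Cfsg.IsPModular 2 M) (B : Set (Cfsg.IrrCharacter G)) (hB : Cfsg.IsPBlock M B) (P : Subgroup G) (hPD : Cfsg.IsDefectGroup 2 M B P) (hV : IsKleinFour P) (c : Set (Cfsg.IrrCharacter (Subgroup.normalizer (P : Set G)))) (hcD : Cfsg.IsDefectGroup 2 M c (P.subgroupOf (Subgroup.normalizer (P : Set G)))) (hc : Cfsg.IsInducedBlock M (Subgroup.normalizer (P : Set G)) c B) : ∃ (I : Cfsg.IrrCharacter (Subgroup.normalizer (P : Set G)) → Cfsg.IrrCharacter G) (ε : Cfsg.IrrCharacter (Subgroup.normalizer (P : Set G)) → ℤ), Cfsg.IsPerfectIsometry 2 M c B I ε := by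
  haveI := CfsgLib.Blocks.isMaximal_of_isPModular hM
  haveI : CharP (ResField M) 2 := charP_resField hM.1 (natCast_mem_of_isPModular hM)
  have hab : ∀ x ∈ P, ∀ y ∈ P, x * y = y * x := fun x hx y hy => by
    have hsq : ∀ x ∈ P, x * x = 1 := fun x hx =>
      congrArg Subtype.val (IsKleinFour.mul_self (⟨x, hx⟩ : P))
    calc x * y = x * (x * y * (x * y)) * y := by rw [hsq _ (mul_mem hx hy), mul_one]
      _ = (x * x) * (y * x) * (y * y) := by group
      _ = y * x := by rw [hsq x hx, hsq y hy, one_mul, mul_one]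
  haveI : IsMulCommutative P := ⟨⟨fun a b => Subtype.ext (hab a a.2 b b.2)⟩⟩
  set H := Subgroup.normalizer (P : Set G) with hH
  have hPH : P ≤ H := Subgroup.le_normalizer
  have hCH : Subgroup.centralizer (P : Set G) ≤ H := Subgroup.centralizer_le_normalizer _
  haveI : IsMulCommutative (P.subgroupOf H) :=
    ⟨⟨fun a b => Subtype.ext (Subtype.ext (hab _ a.2 _ b.2))⟩⟩
  have hV' : IsKleinFour (P.subgroupOf H) :=
    { card_four := (Nat.card_congr (Subgroup.subgroupOfEquivOfLe hPH).toEquiv).trans hV.card_four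
      exponent_two := (Monoid.exponent_eq_of_mulEquiv (Subgroup.subgroupOfEquivOfLe hPH)).trans
        hV.exponent_two }
  obtain ⟨c₀, hc₀, hc₀'⟩ := exists_local_root H hM hPH hCH hcD hc
  obtain ⟨hB', hP, hno, hfree, hcomm, X, Y, δ, δ₀, R, hX, hY⟩ := klein_data hM hPD hV hc₀.1 hc₀
  obtain ⟨hcB, hP', hno', hfree', -, X', Y', δ', δ₀', R', hX', hY'⟩ :=
    klein_data hM hcD hV' hc₀'.1 hc₀'
  have hP1 : P ≠ ⊥ := fun h => by
    have h4 := hV.card_four
    rw [h, Subgroup.card_bot] at h4
    omega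
  exact exists_perfectIsometry_local hM H hPH hCH le_rfl hc₀.1 hc₀'.1 hP hno hP' hno' hfree hfree'
    hP1 hcomm R hX hY R' hX' hY'

end Cfsg.Agent.S4638
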