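import Cfsg.Statements.S4640
import Cfsg.Agent.Lib.BlockRank.MajorAbelian
import Cfsg.Agent.Lib.Blocks.Pairs.PPowerIndex
import Mathlib.GroupTheory.FiniteAbelian.Duality
import Mathlib.Analysis.Complex.Polynomial.Basic
import Mathlib.RingTheory.RootsOfUnity.AlgebraicallyClosed

set_option autoImplicit false
open Cfsg CfsgLib.Blocks CfsgLib.Blocks.Pairs

namespace Cfsg.Agent.S4640

theorem exists_hom_ne_one {A : Type*} [Group A] [Finite A] (hA : ∀ a b : A, a * b = b * a) {a : A}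
    (ha : a ≠ 1) : ∃ f : A →* ℂˣ, f a ≠ 1 := by
  letI : CommGroup A := { ‹Group A› with mul_comm := hA }
  haveI : NeZero (Monoid.exponent A) := ⟨Monoid.exponent_ne_zero_of_finite⟩
  exact CommGroup.exists_apply_ne_one_of_hasEnoughRootsOfUnity A ℂ ha

theorem card_hom {A : Type*} [Group A] [Finite A] (hA : ∀ a b : A, a * b = b * a) :
    Nat.card (A →* ℂˣ) = Nat.card A := by
  letI : CommGroup A := { ‹Group A› with mul_comm := hA }
  haveI : NeZero (Monoid.exponent A) := ⟨Monoid.exponent_ne_zero_of_finite⟩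
  exact Nat.card_congr (CommGroup.monoidHom_mulEquiv_of_hasEnoughRootsOfUnity A ℂ).some.toEquiv

open scoped Classical in
theorem sum_hom {A : Type*} [Group A] [Finite A] (hA : ∀ a b : A, a * b = b * a)
    [Fintype (A →* ℂˣ)] (a : A) :
    ∑ f : A →* ℂˣ, ((f a : ℂˣ) : ℂ) = if a = 1 then (Nat.card A : ℂ) else 0 := by
  split_ifs with ha
  · subst ha
    simp [← card_hom hA]
  · obtain ⟨μ, hμ⟩ := exists_hom_ne_one hA ha
    have h : ((μ a : ℂˣ) : ℂ) * ∑ f : A →* ℂˣ, ((f a : ℂˣ) : ℂ) =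
        ∑ f : A →* ℂˣ, ((f a : ℂˣ) : ℂ) := by
      rw [Finset.mul_sum]
      exact Fintype.sum_equiv (Equiv.mulLeft μ) _ _ fun f => by simp
    by_contra hne
    exact hμ (Units.ext ((mul_left_eq_self₀.1 h).resolve_right hne))


/-- Let N be a normal subgroup of the finite group G of index a power of the prime p, M a maximal ideal of the algebraic integers containing p, b a block of N stabilized by every element of G, and B a block of G covering b (some member of B has a member of b as a constituent of its restriction to N). Suppose that B has a commutative defect group P. Then G = NP and P ∩ N is a defect group of b; every member of B restricts to a member of b; every member of b is the restriction of exactly [G : N] members of B; B contains exactly [G : N] times as many irreducible characters as b; and B and b have the same p-regular rank. -/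
theorem result {G : Type*} [Group G] [Fintype G] (p : ℕ) [Fact p.Prime] (M : Ideal Cfsg.AlgInt) (hM : Cfsg.IsPModular p M) (N : Subgroup G) [N.Normal] [Fintype N] (hNi : ∃ k : ℕ, N.index = p ^ k) (b : Set (Cfsg.IrrCharacter N)) (hb : Cfsg.IsPBlock M b) (hstab : ∀ g : G, Cfsg.StabilizesBlock N b g) (B : Set (Cfsg.IrrCharacter G)) (hB : Cfsg.IsPBlock M B) (hcov : ∃ χ ∈ B, ∃ θ ∈ b, Cfsg.classInner (fun n : N => (χ : G → ℂ) n) (θ : N → ℂ) ≠ 0) (P : Subgroup G) (hPD : Cfsg.IsDefectGroup p M B P) (hPab : ∀ x ∈ P, ∀ y ∈ P, x * y = y * x) : N ⊔ P = ⊤ ∧ Cfsg.IsDefectGroup p M b ((P ⊓ N).subgroupOf N) ∧ (∀ χ ∈ B, ∃ θ ∈ b, ∀ n : N, (χ : G → ℂ) n = (θ : N → ℂ) n) ∧ (∀ θ ∈ b, Nat.card {χ : Cfsg.IrrCharacter G // χ ∈ B ∧ ∀ n : N, (χ : G → ℂ) n = (θ : N → ℂ) n} = N.index) ∧ Nat.card B = N.index * Nat.card b ∧ Cfsg.blockRank p B = Cfsg.blockRank p b := by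
  classical
  haveI := isMaximal_of_isPModular hM
  haveI : CharP (ResField M) p := charP_resField hM.1 (natCast_mem_of_isPModular hM)
  obtain ⟨k, hk⟩ := hNi
  obtain ⟨B₀, hB₀, -, hcoef⟩ := exists_block_top hM hk hb hstab
  have hmem : ∀ {χ : Cfsg.IrrCharacter G} {θ : Cfsg.IrrCharacter N},
      Cfsg.classInner (fun n : N => (χ : G → ℂ) n) (θ : N → ℂ) ≠ 0 → (χ ∈ B₀ ↔ θ ∈ b) :=
    fun h => mem_of_constituent hM hB₀ hb hcoef h
  obtain rfl : B = B₀ := by
    obtain ⟨χ, hχ, θ, hθ, h⟩ := hcov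
    exact CfsgLib.Blocks.IsPBlock.eq_of_mem hB hB₀ hχ ((hmem h).2 hθ)
  have hsup := sup_defect_eq_top hM hk hb hstab hB hcoef hPD
  have hdef := isDefectGroup_inf hM hk hb hstab hB hcoef hPD
  have hPp := CfsgLib.Blocks.isPGroup_defectGroup hPD
  -- the quotient is commutative
  have hrep : ∀ g : G, ∃ u ∈ P, QuotientGroup.mk' N g = QuotientGroup.mk' N u := by
    intro g
    obtain ⟨n, hn, u, hu, rfl⟩ := Subgroup.mem_sup_of_normal_left.1
      (hsup ▸ Subgroup.mem_top g : g ∈ N ⊔ P)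
    refine ⟨u, hu, ?_⟩
    rw [map_mul, QuotientGroup.mk'_apply, (QuotientGroup.eq_one_iff n).2 hn, one_mul]
  have hA : ∀ a c : G ⧸ N, a * c = c * a := by
    intro a c
    obtain ⟨g, rfl⟩ := QuotientGroup.mk'_surjective N a
    obtain ⟨g', rfl⟩ := QuotientGroup.mk'_surjective N c
    obtain ⟨u, hu, hgu⟩ := hrep g
    obtain ⟨v, hv, hgv⟩ := hrep g'
    rw [hgu, hgv, ← map_mul, hPab u hu v hv, map_mul]
  haveI : Fintype ((G ⧸ N) →* ℂˣ) := by
    haveI : Finite ((G ⧸ N) →* ℂˣ) := Nat.finite_of_card_ne_zero (by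
      rw [card_hom hA]; exact Nat.card_pos.ne')
    exact Fintype.ofFinite _
  have hq : Nat.card (G ⧸ N) = N.index := rfl
  let tw : ((G ⧸ N) →* ℂˣ) → Cfsg.IrrCharacter G → Cfsg.IrrCharacter G := fun l χ =>
    ⟨fun g => ((l.comp (QuotientGroup.mk' N)) g : ℂ) * (χ : G → ℂ) g,
      CfsgLib.Char.IsIrrCharacter.linear_mul χ.2 _⟩
  have htwN : ∀ l χ (n : N), (tw l χ : G → ℂ) n = (χ : G → ℂ) n := by
    intro l χ n
    show ((l (QuotientGroup.mk' N n) : ℂˣ) : ℂ) * _ = _
    rw [QuotientGroup.mk'_apply, (QuotientGroup.eq_one_iff _).2 n.2, map_one, Units.val_one, one_mul]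
  have hres : ∀ χ : Cfsg.IrrCharacter G, ∃ θ : Cfsg.IrrCharacter N,
      Cfsg.classInner (fun n : N => (χ : G → ℂ) n) (θ : N → ℂ) ≠ 0 := fun χ => by
    obtain ⟨θ, hθ, hne⟩ := CfsgLib.Clifford.exists_constituent_res N χ.2
    exact ⟨⟨θ, hθ⟩, hne⟩
  have htwB : ∀ l, ∀ χ ∈ B, tw l χ ∈ B := by
    intro l χ hχ
    obtain ⟨θ, hθ⟩ := hres χ
    refine (hmem ?_).2 ((hmem hθ).1 hχ)
    rwa [funext (htwN l χ)]
  -- twisting is free
  have hfreeTw : ∀ χ ∈ B, ∀ l, tw l χ = χ → l = 1 := by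
    intro χ hχ l hl
    refine MonoidHom.ext fun a => ?_
    obtain ⟨g, rfl⟩ := QuotientGroup.mk'_surjective N a
    obtain ⟨u, hu, hgu⟩ := hrep g
    rw [hgu, MonoidHom.one_apply]
    obtain ⟨e, hind, hde⟩ := CfsgLib.BlockRank.exists_major hM hB hPD hPab hu
    obtain ⟨k', hk'⟩ := IsPGroup.iff_orderOf.1 hPp ⟨u, hu⟩
    obtain ⟨s, hs, hne⟩ := CfsgLib.BlockRank.exists_apply_ne_zero_of_major hM rfl
      ⟨k', by rw [← hk', Subgroup.orderOf_mk]⟩ hind hde hχ
    have hsN : (s : G) ∈ N := mem_of_regular_of_index N Fact.out hk (s : G) (by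
      rw [Subgroup.orderOf_coe]; exact hs)
    have h := congrArg (fun θ : Cfsg.IrrCharacter G => (θ : G → ℂ) (u * s)) hl
    simp only [tw, MonoidHom.comp_apply, map_mul, QuotientGroup.mk'_apply,
      (QuotientGroup.eq_one_iff _).2 hsN, map_one, mul_one] at h
    exact Units.ext ((mul_left_eq_self₀.1 h).resolve_right hne)
  -- inner products of restrictions
  have hnorm : ∀ χ' χ : Cfsg.IrrCharacter G,
      Cfsg.classInner (fun n : N => (χ' : G → ℂ) n) (fun n : N => (χ : G → ℂ) n) =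
        ∑ l, Cfsg.classInner (tw l χ' : G → ℂ) (χ : G → ℂ) := by
    intro χ' χ
    simp only [Cfsg.classInner, tw, MonoidHom.comp_apply, ← Finset.mul_sum]
    rw [Finset.sum_comm]
    simp only [mul_assoc, ← Finset.sum_mul, sum_hom hA, QuotientGroup.mk'_apply,
      QuotientGroup.eq_one_iff, ite_mul, zero_mul]
    rw [← Finset.sum_filter, ← Finset.mul_sum, hq, ← N.card_mul_index]
    rw [show (∑ n : N, (χ' : G → ℂ) n * starRingEnd ℂ ((χ : G → ℂ) n)) =
      ∑ g ∈ Finset.univ.filter (fun g : G => g ∈ N), (χ' : G → ℂ) g * starRingEnd ℂ ((χ : G → ℂ) g)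
      from (Finset.sum_subtype (Finset.univ.filter fun g : G => g ∈ N) (fun g => by simp)
        (fun g : G => (χ' : G → ℂ) g * starRingEnd ℂ ((χ : G → ℂ) g))).symm]
    push_cast
    have hi : (N.index : ℂ) ≠ 0 := Nat.cast_ne_zero.2 Subgroup.index_ne_zero_of_finite
    have hN0 : (Nat.card N : ℂ) ≠ 0 := Nat.cast_ne_zero.2 Nat.card_pos.ne'
    field_simp
  have horth : ∀ χ θ : Cfsg.IrrCharacter G, Cfsg.classInner (χ : G → ℂ) (θ : G → ℂ) =
      if χ = θ then 1 else 0 := CfsgLib.Char.classInner_irrCharacter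
  have hrest : ∀ χ ∈ B, ∃ θ ∈ b, ∀ n : N, (χ : G → ℂ) n = (θ : N → ℂ) n := by
    intro χ hχ
    have hone : Cfsg.classInner (fun n : N => (χ : G → ℂ) n) (fun n : N => (χ : G → ℂ) n) = 1 := by
      rw [hnorm, Finset.sum_eq_single 1, horth, if_pos]
      · exact Subtype.ext (funext fun g => by simp [tw])
      · exact fun l _ hl => by rw [horth, if_neg fun h => hl (hfreeTw χ hχ l h)]
      · simp
    have hirr := CfsgLib.Char.IsCharacter.isIrrCharacter_of_classInner_self
      (CfsgLib.Clifford.isCharacter_res (CfsgLib.Char.IsIrrCharacter.isCharacter χ.2) N) hone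
    refine ⟨⟨_, hirr⟩, (hmem (χ := χ) (θ := ⟨_, hirr⟩) ?_).1 hχ, fun n => rfl⟩
    simp [hone]
  have hfib : ∀ θ ∈ b, Nat.card {χ : Cfsg.IrrCharacter G //
      χ ∈ B ∧ ∀ n : N, (χ : G → ℂ) n = (θ : N → ℂ) n} = N.index := by
    intro θ hθ
    obtain ⟨χ₀, hχ₀⟩ := exists_over_constituent N θ
    have hχB := (hmem hχ₀).2 hθ
    obtain ⟨θ', hθ', hres'⟩ := hrest χ₀ hχB
    obtain rfl : θ' = θ := by
      rw [funext hres'] at hχ₀
      by_contra hne
      exact hχ₀ (by rw [CfsgLib.Char.classInner_irrCharacter, if_neg hne])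
    rw [← hq, ← card_hom hA]
    refine (Nat.card_eq_of_bijective (fun l => (⟨tw l χ₀, htwB l χ₀ hχB,
      fun n => (htwN l χ₀ n).trans (hres' n)⟩ : {χ : Cfsg.IrrCharacter G //
        χ ∈ B ∧ ∀ n : N, (χ : G → ℂ) n = (θ' : N → ℂ) n})) ⟨?_, ?_⟩).symm
    · intro l l' h
      have h' : tw l χ₀ = tw l' χ₀ := congrArg Subtype.val h
      have h1 : tw (l'⁻¹ * l) χ₀ = χ₀ := by
        refine Subtype.ext (funext fun g => ?_)
        have h2 := congrArg (fun ψ : Cfsg.IrrCharacter G => (ψ : G → ℂ) g) h'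
        simp only [tw, MonoidHom.comp_apply, MonoidHom.mul_apply, MonoidHom.inv_apply,
          Units.val_mul] at h2 ⊢
        rw [mul_assoc, h2, ← mul_assoc, Units.inv_mul, one_mul]
      exact (eq_of_inv_mul_eq_one (hfreeTw χ₀ hχB _ h1)).symm
    · rintro ⟨χ, hχB', hχ⟩
      have h1 : ∑ l, Cfsg.classInner (tw l χ₀ : G → ℂ) (χ : G → ℂ) = 1 := by
        rw [← hnorm, funext hres', funext hχ, CfsgLib.Char.classInner_irrCharacter, if_pos rfl]
      obtain ⟨l, -, hl⟩ := Finset.exists_ne_zero_of_sum_ne_zero (h1.trans_ne one_ne_zero)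
      rw [horth] at hl
      exact ⟨l, Subtype.ext (by by_contra hne; exact hl (if_neg hne))⟩
  choose res hresb hresv using hrest
  refine ⟨hsup, hdef, fun χ hχ => ⟨res χ hχ, hresb χ hχ, hresv χ hχ⟩, hfib, ?_, ?_⟩
  · let r : B → b := fun χ => ⟨res χ χ.2, hresb χ χ.2⟩
    have hfibr : ∀ θ : b, Nat.card {χ : B // r χ = θ} = N.index := by
      intro θ
      rw [← hfib θ θ.2]
      refine Nat.card_congr ⟨fun x => ⟨x.1.1, x.1.2, fun n => ?_⟩,
        fun y => ⟨⟨y.1, y.2.1⟩, Subtype.ext (Subtype.ext (funext fun n => ?_))⟩,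
        fun x => rfl, fun y => rfl⟩
      · exact (hresv x.1.1 x.1.2 n).trans
          (congrFun (congrArg (fun t : b => ((t : Cfsg.IrrCharacter N) : N → ℂ)) x.2) n)
      · rw [← hresv y.1 y.2.1 n, y.2.2 n]
    haveI := Fintype.ofFinite b
    rw [Nat.card_congr (Equiv.sigmaFiberEquiv r).symm, Nat.card_sigma,
      Finset.sum_congr rfl fun θ _ => hfibr θ, Finset.sum_const, smul_eq_mul, Finset.card_univ,
      ← Nat.card_eq_fintype_card, mul_comm]
  · unfold Cfsg.blockRank
    let L : (G → ℂ) →ₗ[ℂ] (N → ℂ) := LinearMap.funLeft ℂ ℂ (fun n : N => (n : G))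
    set W := Submodule.span ℂ
      ((fun χ : Cfsg.IrrCharacter G => Cfsg.pRegularPart p (χ : G → ℂ)) '' B) with hW
    have hvan : ∀ f ∈ W, ∀ g : G, g ∉ N → f g = 0 := by
      intro f hf g hg
      induction hf using Submodule.span_induction with
      | mem x hx =>
        obtain ⟨χ, -, rfl⟩ := hx
        simp only [Cfsg.pRegularPart]
        exact if_neg fun h => hg (mem_of_regular_of_index N Fact.out hk g h)
      | zero => rfl
      | add x y _ _ hx hy => rw [Pi.add_apply, hx, hy, add_zero]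
      | smul c x _ hx => rw [Pi.smul_apply, hx, smul_zero]
    have hpr : ∀ (χ : Cfsg.IrrCharacter G) (θ : Cfsg.IrrCharacter N),
        (∀ n : N, (χ : G → ℂ) n = (θ : N → ℂ) n) →
        L (Cfsg.pRegularPart p (χ : G → ℂ)) = Cfsg.pRegularPart p (θ : N → ℂ) := by
      intro χ θ h
      funext n
      simp only [L, LinearMap.funLeft_apply, Cfsg.pRegularPart, Cfsg.IsPRegular, h n,
        Subgroup.orderOf_coe]
      by_cases h2 : p ∣ orderOf n <;> simp [h2]
    have hmap : W.map L = Submodule.span ℂ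
        ((fun θ : Cfsg.IrrCharacter N => Cfsg.pRegularPart p (θ : N → ℂ)) '' b) := by
      rw [hW, Submodule.map_span, Set.image_image]
      congr 1
      ext f
      constructor
      · rintro ⟨χ, hχ, rfl⟩
        exact ⟨res χ hχ, hresb χ hχ, (hpr χ _ (hresv χ hχ)).symm⟩
      · rintro ⟨θ, hθ, rfl⟩
        obtain ⟨χ₀, hχ₀⟩ := exists_over_constituent N θ
        have hχB := (hmem hχ₀).2 hθ
        refine ⟨χ₀, hχB, hpr χ₀ θ fun n => ?_⟩
        have hres' := hresv χ₀ hχB
        rw [funext hres'] at hχ₀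
        rw [hres' n]
        by_cases heq : res χ₀ hχB = θ
        · rw [heq]
        · exact absurd (by rw [CfsgLib.Char.classInner_irrCharacter, if_neg heq]) hχ₀
    rw [← hmap, ← LinearMap.finrank_range_of_inj (f := L.comp W.subtype) ?_]
    · rw [LinearMap.range_comp, Submodule.range_subtype]
    · intro f f' hff
      refine Subtype.ext (funext fun g => ?_)
      by_cases hg : g ∈ N
      · exact congrFun hff ⟨g, hg⟩
      · rw [hvan _ f.2 g hg, hvan _ f'.2 g hg]

end Cfsg.Agent.S4640
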