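import Cfsg.Statements.S4642
import Cfsg.Agent.Lib.Blocks.Pairs.PPrimeKernel
import Cfsg.Agent.Lib.Blocks.Pairs.InducedPair
import Cfsg.Agent.Lib.Solvable.Core
import Cfsg.Agent.Lib.Components.Subnormal

set_option autoImplicit false
open Cfsg CfsgLib.Blocks CfsgLib.Blocks.Pairs

namespace Cfsg.Agent.S4642

/-- A character of a `p'`-group is alone in its block. -/
theorem blockOf_eq_singleton {K : Type*} [Group K] [Finite K] {p : ℕ} [Fact p.Prime] {M : Ideal AlgInt}
    [M.IsMaximal] (hM : IsPModular p M) (hK : ¬ p ∣ Nat.card K) (θ : IrrCharacter K) :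
    blockOf M (θ : K → ℂ) = {θ} := by
  classical
  haveI := Fintype.ofFinite K
  ext θ'
  refine ⟨fun h => ?_, fun h => ?_⟩
  swap
  · rw [Set.mem_singleton_iff] at h; rw [h]; exact mem_blockOf_self θ
  by_contra hne
  have hd : ¬ p ∣ charDegree (θ : K → ℂ) := fun hd => hK (hd.trans (CfsgLib.BlockReg.deg_dvd_card θ))
  have key : ∀ x : K, MemLocalIdeal M
      (((θ : K → ℂ) x / (θ : K → ℂ) 1 - (θ' : K → ℂ) x / (θ' : K → ℂ) 1) * (θ : K → ℂ) x⁻¹) := by
    intro x
    refine CfsgLib.BlockReg.memIdeal_mul_right hM ?_ (CfsgLib.BlockReg.memRing_char hM θ _)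
    set n := (Subgroup.centralizer ({x} : Set K)).index with hn
    have hnp : ¬ p ∣ n := fun h => hK (h.trans (Subgroup.index_dvd_card _))
    have hn0 : (n : ℂ) ≠ 0 := Nat.cast_ne_zero.2 Subgroup.index_ne_zero_of_finite
    have : (θ : K → ℂ) x / (θ : K → ℂ) 1 - (θ' : K → ℂ) x / (θ' : K → ℂ) 1 =
        (n : ℂ)⁻¹ * (centralChar (θ : K → ℂ) x - centralChar (θ' : K → ℂ) x) := by
      unfold centralChar
      rw [← hn]
      field_simp
    rw [this]
    exact CfsgLib.BlockReg.memIdeal_mul_left hM (CfsgLib.BlockReg.memRing_inv_natCast hM hnp) (h x)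
  have hsum := CfsgLib.BlockReg.memIdeal_sum hM Finset.univ fun x _ => key x
  have e1 : classInner (θ : K → ℂ) (θ : K → ℂ) = 1 := by
    rw [CfsgLib.Char.classInner_irrCharacter, if_pos rfl]
  have e2 : classInner (θ' : K → ℂ) (θ : K → ℂ) = 0 := by
    rw [CfsgLib.Char.classInner_irrCharacter, if_neg (fun h => hne (Set.mem_singleton_iff.2 h))]
  simp only [classInner, ← CfsgLib.BlockReg.char_inv] at e1 e2
  have hK0 : (Nat.card K : ℂ) ≠ 0 := Nat.cast_ne_zero.2 Nat.card_pos.ne'
  have s1 := (inv_mul_eq_iff_eq_mul₀ hK0).1 e1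
  have s2 := (inv_mul_eq_iff_eq_mul₀ hK0).1 e2
  rw [mul_one] at s1
  rw [mul_zero] at s2
  have : ∑ x, ((θ : K → ℂ) x / (θ : K → ℂ) 1 - (θ' : K → ℂ) x / (θ' : K → ℂ) 1) * (θ : K → ℂ) x⁻¹ =
      (Nat.card K : ℂ) * ((charDegree (θ : K → ℂ) : ℕ) : ℂ)⁻¹ := by
    simp only [sub_mul, Finset.sum_sub_distrib, div_mul_eq_mul_div, ← Finset.sum_div, s1, s2]
    rw [CfsgLib.BlockReg.deg_cast]
    simp [div_eq_mul_inv]
  rw [this] at hsum
  exact CfsgLib.BlockReg.not_memIdeal_mul hM (CfsgLib.BlockReg.memRing_natCast hM _)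
    (CfsgLib.BlockReg.memRing_inv_natCast hM hd) (CfsgLib.BlockReg.not_memIdeal_natCast hM hK)
    (CfsgLib.BlockReg.not_memIdeal_inv hM (CfsgLib.BlockReg.memRing_natCast hM _)
      (CfsgLib.BlockReg.not_memIdeal_natCast hM hd)) hsum


/-- Let G be a finite group, p a prime, M a maximal ideal of the algebraic integers containing p, K the largest normal subgroup of G of order prime to p, and L the preimage in G of the largest normal p-subgroup of G/K. Let Q be a Sylow p-subgroup of L and suppose C_G(Q) ≤ L. Let θ be an irreducible character of K invariant under conjugation by every element of G, and let B be the set of irreducible characters of G whose restriction to K contains θ. Then B is a block of G, every Sylow p-subgroup of G is a defect group of B, and B is of principal type: for every p-subgroup R of G exactly one block of C_G(R) induces B. -/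
theorem result {G : Type*} [Group G] [Fintype G] (p : ℕ) [Fact p.Prime] (M : Ideal Cfsg.AlgInt) (hM : Cfsg.IsPModular p M) (K : Subgroup G) (hK : K = Cfsg.pPrimeCore p G) [Fintype K] (L : Subgroup G) (hL : L = Cfsg.pPrimePCore p G) (Q : Subgroup G) (hQL : Q ≤ L) (hQp : IsPGroup p Q) (hQS : ¬ p ∣ Q.relIndex L) (hCQ : Subgroup.centralizer (Q : Set G) ≤ L) (θ : Cfsg.IrrCharacter K) (hθ : ∀ g : G, Cfsg.IsConjCharOf K g (θ : K → ℂ) (θ : K → ℂ)) (B : Set (Cfsg.IrrCharacter G)) (hBdef : ∀ χ : Cfsg.IrrCharacter G, χ ∈ B ↔ Cfsg.classInner (fun k : K => (χ : G → ℂ) k) (θ : K → ℂ) ≠ 0) : Cfsg.IsPBlock M B ∧ (∀ S : Sylow p G, Cfsg.IsDefectGroup p M B S) ∧ ∀ R : Subgroup G, IsPGroup p R → ∃! f : Set (Cfsg.IrrCharacter (Subgroup.centralizer (R : Set G))), Cfsg.IsInducedBlock M (Subgroup.centralizer (R : Set G)) f B := by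
  classical
  haveI := isMaximal_of_isPModular hM
  haveI : CharP (ResField M) p := charP_resField hM.1 (natCast_mem_of_isPModular hM)
  have hp : p.Prime := Fact.out
  haveI hKn : K.Normal := hK ▸ CfsgLib.Solvable.pPrimeCore_normal p G
  have hKcard : ¬ p ∣ Nat.card K := by
    rw [← hp.coprime_iff_not_dvd, hK]
    exact (CfsgLib.Solvable.pPrimeCore_card_coprime p G).symm
  haveI hLn : L.Normal := by
    haveI := CfsgLib.Solvable.pPrimeCore_normal p G
    haveI := CfsgLib.Solvable.pCore_normal p (G ⧸ Cfsg.pPrimeCore p G)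
    rw [hL]; exact Subgroup.Normal.comap inferInstance _
  -- `L` is `K` extended by `Q`
  obtain ⟨j, hj⟩ : ∃ j, K.relIndex L = p ^ j := by
    subst hK hL
    haveI := CfsgLib.Solvable.pPrimeCore_normal p G
    set φ := QuotientGroup.mk' (pPrimeCore p G) with hφ
    have e : (pPrimeCore p G).subgroupOf (pPrimePCore p G) = (φ.comp (pPrimePCore p G).subtype).ker := by
      rw [hφ, ← MonoidHom.comap_ker, QuotientGroup.ker_mk']; rfl
    rw [Subgroup.relIndex, e, Subgroup.index_ker, MonoidHom.range_comp, Subgroup.range_subtype,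
      pPrimePCore, Subgroup.map_comap_eq_self_of_surjective (QuotientGroup.mk'_surjective _)]
    exact IsPGroup.iff_card.1 (CfsgLib.Components.isPGroup_pCore p)
  have hKL : K ≤ L := by
    subst hK hL
    haveI := CfsgLib.Solvable.pPrimeCore_normal p G
    intro x hx
    show QuotientGroup.mk' (pPrimeCore p G) x ∈ pCore p _
    rw [show QuotientGroup.mk' (pPrimeCore p G) x = 1 from (QuotientGroup.eq_one_iff x).2 hx]
    exact one_mem _
  have hKQ : K ⊔ Q = L := by
    refine le_antisymm (sup_le hKL hQL) (Subgroup.relIndex_eq_one.1 ?_)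
    exact Nat.eq_one_of_dvd_coprimes (Nat.Coprime.pow_right j ((hp.coprime_iff_not_dvd.2 hQS).symm))
      (Subgroup.relIndex_dvd_of_le_left _ le_sup_right)
      (hj ▸ Subgroup.relIndex_dvd_of_le_left _ le_sup_left)
  -- the idempotent
  set c := blockOf M (θ : K → ℂ) with hc'
  have hc : IsPBlock M c := isPBlock_blockOf θ
  have hcs : c = {θ} := blockOf_eq_singleton hM hKcard θ
  set e := eIn hc with he'
  have he := isBlockIdem_eIn hc
  have hnorm : ∀ x : G, x ∈ Subgroup.normalizer (K : Set G) := fun x =>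
    Subgroup.normalizer_eq_top (H := K) ▸ Subgroup.mem_top x
  have hfix : ConjFixed (⊤ : Subgroup G) e := conjFixed_iff.2 fun x _ =>
    (stabilizesBlock_iff hc (hnorm x)).1 ⟨hnorm x, fun ψ hψ =>
      ⟨θ, mem_blockOf_self θ, by rw [hcs, Set.mem_singleton_iff] at hψ; rw [hψ]; exact hθ x⟩⟩
  have hreg : ∀ x ∈ Subgroup.centralizer (Q : Set G), ¬ p ∣ orderOf x → x ∈ K := fun x hx ho =>
    mem_of_regular hQp hKQ (hCQ hx) ho
  have hetop := isBlockIdem_top_of_constrained hM hKcard hQp hKQ hreg he hfix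
  obtain ⟨B₀, hB₀, hB₀e⟩ := exists_ebar_eq hetop
  have hBB : B = B₀ := by
    ext χ
    rw [hBdef]
    have hsup : SuppIn K e := he.mem.supp
    constructor
    · intro hcon
      have hχ := isPBlock_blockOf (M := M) χ
      have h1 := (mul_ebar_iff_constituent hχ (mem_blockOf_self χ) hcon hc (mem_blockOf_self θ)
        hetop.mem hetop.idem hsup).2 he.idem
      have h2 : ebar hχ = ebar hB₀ := by
        rw [hB₀e]
        refine ((hetop).eq_of_mul_ne_zero (isBlockIdem_ebar hχ) ?_).symm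
        rw [h1]
        exact (isBlockIdem_ebar hχ).ne_zero
      exact ebar_injective hχ hB₀ h2 ▸ mem_blockOf_self χ
    · intro hχ
      obtain ⟨θ₀, hθ₀, hcon⟩ := CfsgLib.Clifford.exists_constituent_res K χ.2
      set t : IrrCharacter K := ⟨θ₀, hθ₀⟩
      have ht := isPBlock_blockOf (M := M) t
      have h1 := (mul_ebar_iff_constituent hB₀ hχ (θ := t) hcon ht (mem_blockOf_self t)
        hetop.mem hetop.idem hsup).1 (by rw [hB₀e]; exact hetop.idem)
      have h2 : e = eIn ht := he.eq_of_mul_ne_zero (isBlockIdem_eIn ht) (by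
        rw [h1]; exact (isBlockIdem_eIn ht).ne_zero)
      have h3 : t ∈ c := by rw [eIn_injective hc ht h2]; exact mem_blockOf_self t
      rw [hcs, Set.mem_singleton_iff] at h3
      rw [← h3]
      exact hcon
  subst hBB
  refine ⟨hB₀, fun S => ?_, fun R hR => ?_⟩
  · rw [isDefectGroup_iff_maxR hM hB₀, hB₀e]
    refine ⟨S.2, trunc_ne_zero_of_pPrime hM hKcard S.2 he (hfix.mono le_top), fun T hT _ => ?_⟩
    obtain ⟨S', hS'⟩ := hT.exists_le_sylow
    obtain ⟨x, hx⟩ := MulAction.exists_smul_eq G S' S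
    exact ⟨x, (conjSub_mono x hS').trans (hx ▸ le_rfl)⟩
  · obtain ⟨P₀, hP₀⟩ := hQp.exists_le_sylow
    have hQeq : Q = (P₀ : Subgroup G) ⊓ L := by
      refine le_antisymm (le_inf hP₀ hQL) (Subgroup.relIndex_eq_one.1 ?_)
      obtain ⟨i, hi⟩ := IsPGroup.iff_card.1 (P₀.2.to_le (inf_le_left : (P₀ : Subgroup G) ⊓ L ≤ P₀))
      refine Nat.eq_one_of_dvd_coprimes (Nat.Coprime.pow_right i ((hp.coprime_iff_not_dvd.2 hQS).symm))
        ⟨((P₀ : Subgroup G) ⊓ L).relIndex L,
          (Subgroup.relIndex_mul_relIndex Q _ L (le_inf hP₀ hQL) inf_le_right).symm⟩ ?_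
      rw [← hi]
      exact Subgroup.index_dvd_card _
    obtain ⟨S', hS'⟩ := hR.exists_le_sylow
    obtain ⟨x, hx⟩ := MulAction.exists_smul_eq G S' P₀
    have hR' : conjSub x R ≤ (P₀ : Subgroup G) := (conjSub_mono x hS').trans (hx ▸ le_rfl)
    have hR'n : conjSub x R ≤ Subgroup.normalizer (Q : Set G) := by
      intro r hr
      rw [hQeq]
      exact Subgroup.inf_normalizer_le_normalizer_inf
        ⟨Subgroup.le_normalizer (hR' hr), Subgroup.normalizer_eq_top (H := L) ▸ Subgroup.mem_top r⟩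
    have hfR' := isBlockIdem_trunc_constrained hM hKcard hQp hKQ hCQ he hfix (hR.map _) hR'n
    have hfR : IsBlockIdem (Subgroup.centralizer (R : Set G)) (trunc R e) := by
      have h1 := hfR'.conj x⁻¹
      rwa [← trunc_conjA, conjFixed_iff.1 hfix x⁻¹ (Subgroup.mem_top _), centralizer_conjSub,
        conjSub_conjSub, inv_mul_cancel, conjSub_one, conjSub_conjSub, inv_mul_cancel, conjSub_one] at h1
    obtain ⟨f, hf, hfe⟩ := exists_eIn_eq hfR
    refine ⟨f, (isInducedBlock_iff_pairOf hM hR hB₀ hf).2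
      ⟨isBlockIdem_ebar hB₀, isPair_eIn hR hf, by rw [hB₀e, hfe]; exact hfR.idem⟩, fun g hg => ?_⟩
    have h1 := ((isInducedBlock_iff_pairOf hM hR hB₀ hg.1).1 hg).br
    rw [hB₀e] at h1
    refine (eIn_injective hf hg.1 ?_).symm
    rw [hfe]
    exact hfR.eq_of_mul_ne_zero (isBlockIdem_eIn hg.1) (by
      rw [h1]; exact (isBlockIdem_eIn hg.1).ne_zero)

end Cfsg.Agent.S4642
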