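import Cfsg.Statements.S4645
import Cfsg.Agent.Lib.BlockRank.NilpotentAbelian
import Cfsg.Agent.Lib.Blocks.Pairs.CyclicInertial

set_option autoImplicit false
open Cfsg CfsgLib.Blocks CfsgLib.Blocks.Pairs

namespace Cfsg.Agent.S4645

theorem relIndex_sup_of_le_normalizer {G : Type*} [Group G] {H K : Subgroup G}
    (h : H ≤ Subgroup.normalizer (K : Set G)) : K.relIndex (H ⊔ K) = K.relIndex H := by
  set L := H ⊔ K
  haveI : (K.subgroupOf L).Normal :=
    Subgroup.normal_subgroupOf_of_le_normalizer (sup_le h Subgroup.le_normalizer)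
  rw [← Subgroup.relIndex_subgroupOf (le_refl L), ← Subgroup.relIndex_subgroupOf
    (le_sup_left : H ≤ L), Subgroup.subgroupOf_sup le_sup_left le_sup_right,
    Subgroup.relIndex_sup_right]

open scoped Classical in
theorem cyclic_subgroup_eq {C : Type*} [Group C] [Finite C] [IsCyclic C] (A B : Subgroup C)
    (h : Nat.card A = Nat.card B) : A = B := by
  haveI := Fintype.ofFinite C
  set n := Nat.card A with hn
  have hn0 : 0 < n := Nat.card_pos
  have hS := IsCyclic.card_pow_eq_one_le (α := C) hn0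
  have hsub : ∀ D : Subgroup C, Nat.card D = n →
      (Finset.univ.filter fun a : C => a ∈ D) =
        Finset.univ.filter fun a : C => a ^ n = 1 := by
    intro D hD
    refine Finset.eq_of_subset_of_card_le (fun a ha => ?_) (hS.trans ?_)
    · rw [Finset.mem_filter] at ha ⊢
      refine ⟨ha.1, ?_⟩
      rw [← hD]
      exact congrArg Subtype.val (pow_card_eq_one' (x := (⟨a, ha.2⟩ : D)))
    · rw [← hD, Nat.card_eq_fintype_card, ← Fintype.card_subtype]
  ext a
  have := congrArg (fun s : Finset C => a ∈ s) ((hsub A rfl).trans (hsub B h.symm).symm)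
  simpa using this


/-- Let B be a block of the finite group G relative to a maximal ideal M of the algebraic integers containing the prime p, with a nontrivial cyclic defect group P; let c be a block of C_G(P) inducing B and T the stabilizer of c in N_G(P). Let Q be a nontrivial subgroup of P (so C_G(P) ≤ C_G(Q)), f the block of C_G(Q) induced by c inside C_G(Q), and T' the stabilizer of f in N_G(Q). Then T' = T·C_G(Q), the index of C_G(Q) in T' equals the index of C_G(P) in T, f has p-regular rank 1, and f is a nilpotent block of C_G(Q). -/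
theorem result {G : Type*} [Group G] [Finite G] (p : ℕ) [Fact p.Prime] (M : Ideal Cfsg.AlgInt) (hM : Cfsg.IsPModular p M) (B : Set (Cfsg.IrrCharacter G)) (hB : Cfsg.IsPBlock M B) (P : Subgroup G) (hPD : Cfsg.IsDefectGroup p M B P) (hP1 : P ≠ ⊥) (hcyc : IsCyclic P) (c : Set (Cfsg.IrrCharacter (Subgroup.centralizer (P : Set G)))) (hc : Cfsg.IsInducedBlock M (Subgroup.centralizer (P : Set G)) c B) (T : Subgroup G) (hT : ∀ g : G, g ∈ T ↔ (g ∈ Subgroup.normalizer (P : Set G) ∧ Cfsg.StabilizesBlock (Subgroup.centralizer (P : Set G)) c g)) (Q : Subgroup G) (hQP : Q ≤ P) (hQ1 : Q ≠ ⊥) (f : Set (Cfsg.IrrCharacter (Subgroup.centralizer (Q : Set G)))) (hf : Cfsg.IsInducedBlockIn M (Subgroup.centralizer (Q : Set G)) (Subgroup.centralizer (P : Set G)) c f) (T' : Subgroup G) (hT' : ∀ g : G, g ∈ T' ↔ (g ∈ Subgroup.normalizer (Q : Set G) ∧ Cfsg.StabilizesBlock (Subgroup.centralizer (Q : Set G)) f g)) : T' = T ⊔ Subgroup.centralizer (Q : Set G) ∧ (Subgroup.centralizer (Q : Set G)).relIndex T' = (Subgroup.centralizer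 (P : Set G)).relIndex T ∧ Cfsg.blockRank p f = 1 ∧ Cfsg.IsNilpotentBlock p M f := by
  haveI := isMaximal_of_isPModular hM
  haveI : CharP (ResField M) p := charP_resField hM.1 (natCast_mem_of_isPModular hM)
  obtain ⟨hB', hc', hP, hno, -, hpP⟩ := exists_root_pair hM hPD hc
  have hab : ∀ x ∈ P, ∀ y ∈ P, x * y = y * x := by
    intro x hx y hy
    letI := hcyc.commGroup
    exact congrArg Subtype.val (mul_comm (⟨x, hx⟩ : P) ⟨y, hy⟩)
  have hTeq : T = pairStab P (eIn hc') := by
    ext g; rw [hT, CfsgLib.Blk83.mem_pairStab_iff hc']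
  have hfP : Cfsg.IsPBlock M f := hf.2.1
  have hT'eq : T' = pairStab Q (eIn hfP) := by
    ext g; rw [hT', CfsgLib.Blk83.mem_pairStab_iff hfP]
  have hle := (isInducedBlockIn_iff_sle hM hpP hab hQP hc' hfP).1 hf
  subst hTeq hT'eq
  set CP := Subgroup.centralizer (P : Set G) with hCP
  set CQ := Subgroup.centralizer (Q : Set G) with hCQ
  have hTN : pairStab P (eIn hc') ≤ Subgroup.normalizer (P : Set G) := fun g hg => hg.1
  haveI : (CP.subgroupOf (pairStab P (eIn hc'))).Normal :=
    Subgroup.normal_subgroupOf_of_le_normalizer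
      (hTN.trans (normalizer_le_normalizer_centralizer P))
  have hfree : Free P (pairStab P (eIn hc')) :=
    (cyclic_inertial hpP hP1 hcyc hTN fun g hg => exists_pow_mem_centralizer hM hP hno hab hg).2.2
  have hTle : pairStab P (eIn hc') ≤ pairStab Q (eIn hfP) := by
    intro g hg
    haveI : IsCyclic P := hcyc
    have hgQ : conjSub g Q = Q := by
      have hle' : conjSub g Q ≤ P :=
        (conjSub_mono g hQP).trans (conjSub_eq_of_mem_normalizer hg.1).le
      have h1 : (conjSub g Q).subgroupOf P = Q.subgroupOf P :=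
        cyclic_subgroup_eq _ _ (by
          rw [Nat.card_congr (Subgroup.subgroupOfEquivOfLe hle').toEquiv,
            Nat.card_congr (Subgroup.subgroupOfEquivOfLe hQP).toEquiv, card_map_conj])
      have h2 := congrArg (Subgroup.map P.subtype) h1
      rwa [Subgroup.map_subgroupOf_eq_of_le hle', Subgroup.map_subgroupOf_eq_of_le hQP] at h2
    refine ⟨mem_normalizer_of_conjSub_eq hgQ, SLE.unique hP.pair ?_ hle⟩
    have h := hle.conj g
    rwa [hgQ, conjSub_eq_of_mem_normalizer hg.1, hg.2] at h
  have hsup : pairStab Q (eIn hfP) = pairStab P (eIn hc') ⊔ CQ := by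
    refine le_antisymm (fun x hx => ?_) (sup_le hTle (centralizer_le_pairStab (hle.pair_left hP.pair)))
    obtain ⟨y, hy, -, z, hz, rfl⟩ := CfsgLib.Blk83.exists_mul_of_comm hP hno hab hle
      (exists_maxIn_of_isBlockIdem hM (hle.pair_left hP.pair).block) hx
    exact Subgroup.mul_mem_sup hy hz
  obtain ⟨q, hq, hq1⟩ := (Subgroup.bot_or_exists_ne_one Q).resolve_left hQ1
  have hinf : ∀ g ∈ pairStab P (eIn hc'), g ∈ CQ → g ∈ CP := fun g hg hgQ =>
    hfree g hg q (hQP hq) hq1 (by rw [← Subgroup.mem_centralizer_iff.1 hgQ q hq]; group)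
  refine ⟨hsup, ?_, ?_, ?_⟩
  · rw [hsup, relIndex_sup_of_le_normalizer (hTle.trans fun g hg =>
      normalizer_le_normalizer_centralizer Q hg.1), ← Subgroup.inf_relIndex_right CQ,
      ← Subgroup.inf_relIndex_right CP]
    congr 1
    ext g
    exact ⟨fun h => ⟨hinf g h.2 h.1, h.2⟩, fun h => ⟨centralizer_anti hQP h.1, h.2⟩⟩
  · obtain ⟨hP', hno', hst⟩ := CfsgLib.BlockRank.local_pair rfl hP hno hab hle
    have hdown : down CQ (eIn hfP) = ebar hfP := by rw [eIn, down_up]
    rw [hdown] at hP'
    refine (CfsgLib.BlockRank.rankOne_of_trivial_inertial hM hfP hP' hno'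
      (fun a ha b hb => Subtype.ext (hab _ ha _ hb)) fun y hy => ?_).1
    refine Subgroup.mem_centralizer_iff.2 fun a ha => Subtype.ext ?_
    exact Subgroup.mem_centralizer_iff.1 (hinf _ (hst y hy) y.2) (a : G) ha
  · rw [CfsgLib.Blk83.isNilpotentBlock_iff hM hfP, show ebar hfP = down CQ (eIn hfP) by
      rw [eIn, down_up]]
    exact nilPairs_local hM hP hno hab hfree hQ1 hle

end Cfsg.Agent.S4645
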