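import Cfsg.Statements.S4647
import Cfsg.Agent.Lib.Blocks.MinimalDim
import Cfsg.Agent.Lib.Blocks.Brandt.Reduce
import Cfsg.Agent.Lib.Blocks.Pairs.Defect
import Cfsg.Agent.Lib.Blk83.PairFusion
-- import your own Cfsg.Agent.* helpers here

set_option autoImplicit false
open Cfsg

namespace Cfsg.Agent.S4647

set_option maxHeartbeats 800000
set_option synthInstance.maxHeartbeats 200000

open CfsgLib CfsgLib.Blocks CfsgLib.Blocks.Pairs Module
open scoped Classical

universe u

variable {G : Type u} [Group G] [Finite G] {M : Ideal AlgInt} [M.IsMaximal]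
  {B : Set (IrrCharacter G)}

noncomputable local instance : Field (ResField M) := Ideal.Quotient.field M

/-- A block algebra has dimension at most the sum of the squares of the degrees. -/
theorem finrank_le_sum_deg_sq (hB : IsPBlock M B) [Fintype B] :
    finrank (ResField M) (LinearMap.range
      (LinearMap.mulLeft (ResField M) (blockIdem hB : MonoidAlgebra (ResField M) G))) ≤
      ∑ χ ∈ B.toFinset, charDegree (χ : G → ℂ) ^ 2 := by
  have := Fintype.ofFinite G
  set k := ResField M
  let εR := (blockIdemR hB : MonoidAlgebra (locRing M) G)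
  let ε := (blockIdem hB : MonoidAlgebra (ResField M) G)
  let δ := (idemC B : MonoidAlgebra ℂ G)
  let S : Set (MonoidAlgebra (locRing M) G) :=
    Set.range fun g : G => εR * MonoidAlgebra.single g 1
  have hk : LinearMap.range (LinearMap.mulLeft k ε) ≤
      Submodule.span k (MonoidAlgebra.mapRingHom G (red M) '' S) := by
    rintro _ ⟨a, rfl⟩
    rw [LinearMap.mulLeft_apply, ← (MonoidAlgebra.basis G k).sum_repr a, Finset.mul_sum]
    refine Submodule.sum_mem _ fun g _ => ?_
    rw [mul_smul_comm]
    refine Submodule.smul_mem _ _ (Submodule.subset_span ⟨_, ⟨g, rfl⟩, ?_⟩)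
    rw [map_mul, Brandt.map_red_blockIdemR]
    simp [MonoidAlgebra.basis, ε]
  have hC : Submodule.span ℂ (MonoidAlgebra.mapRingHom G (locRing M).subtype '' S) ≤
      LinearMap.range (LinearMap.mulLeft ℂ δ) := by
    rw [Submodule.span_le]
    rintro _ ⟨_, ⟨g, rfl⟩, rfl⟩
    refine ⟨MonoidAlgebra.single g 1, ?_⟩
    rw [map_mul, Brandt.map_blockIdemR]
    simp [δ]
  refine (Submodule.finrank_mono hk).trans ((Brandt.finrank_span_map_red_le S).trans
    ((Submodule.finrank_mono hC).trans (le_of_eq ?_)))
  have hδ : δ * δ = δ := by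
    have h2 : idemC B * idemC B = idemC (G := G) B := omega_ext fun χ => by
      rw [map_mul, omega_idemC, blockInd]; split_ifs <;> simp
    exact congrArg Subtype.val h2
  have hproj : LinearMap.IsProj (LinearMap.range (LinearMap.mulLeft ℂ δ))
      (LinearMap.mulLeft ℂ δ) := by
    refine ⟨fun a => ⟨a, rfl⟩, ?_⟩
    rintro _ ⟨a, rfl⟩
    simp only [LinearMap.mulLeft_apply]
    rw [← mul_assoc, hδ]
  apply Nat.cast_injective (R := ℂ)
  rw [← hproj.trace, Brandt.trace_mulLeft_groupAlgebra]
  have hG : (Nat.card G : ℂ) ≠ 0 := Nat.cast_ne_zero.2 Nat.card_pos.ne'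
  simp only [δ, coe_idemC, coeff_ofFun, blockCoeff, finsum_mem_eq_toFinset_sum, ← mul_assoc,
    mul_inv_cancel₀ hG, one_mul]
  push_cast
  exact Finset.sum_congr rfl fun χ _ => by
    rw [← BlockReg.deg_cast, Complex.conj_natCast, sq]


/-- Let B be a block of the finite group G relative to a maximal ideal M of the algebraic integers containing the prime p, p^a the p-part of the order of G and p^d the order of a defect group D of B. If Σ_{χ ∈ B} χ(1)² = p^(2a−d) (the least possible value), then B is nilpotent. -/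
theorem result {G : Type*} [Group G] [Finite G] (p : ℕ) [Fact p.Prime] (M : Ideal Cfsg.AlgInt) (hM : Cfsg.IsPModular p M) (B : Set (Cfsg.IrrCharacter G)) (hB : Cfsg.IsPBlock M B) (D : Subgroup G) (hD : Cfsg.IsDefectGroup p M B D) (a d : ℕ) (ha : (Nat.card G).factorization p = a) (hd : Nat.card D = p ^ d) (hmin : ∑ᶠ χ ∈ B, Cfsg.charDegree (χ : G → ℂ) ^ 2 = p ^ (2 * a - d)) : Cfsg.IsNilpotentBlock p M B := by
  have : M.IsMaximal := hM.2.1
  have : CharP (ResField M) p := charP_resField hM.1 hM.2.2
  letI : Field (ResField M) := Ideal.Quotient.field M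
  have := Fintype.ofFinite B
  have hp : p.Prime := Fact.out
  have hmax := (isDefectGroup_iff_maxR hM hB).1 hD
  have hda : d ≤ a := by
    have hdvd : p ^ d ∣ Nat.card G := hd ▸ Subgroup.card_subgroup_dvd_card D
    rw [← ha]
    exact (hp.pow_dvd_iff_le_factorization Nat.card_pos.ne').1 hdvd
  rw [CfsgLib.Blk83.isNilpotentBlock_iff hM hB]
  intro Q f hQ x hx hreg
  obtain ⟨P, hQP⟩ := hQ.pair.pgroup.exists_le_sylow
  have hne : trunc Q (ebar hB) ≠ 0 := hQ.trunc_ne_zero
  have hcen : ∀ b, ebar hB * b = b * ebar hB := fun b =>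
    (Subalgebra.mem_center_iff.1 (blockIdem hB).2 b).symm
  have hid : ebar hB * ebar hB = ebar hB := (isBlockIdem_ebar hB).idem
  refine MinimalDim.mem_centralizer_of_finrank_le hid hcen P (n := p ^ d)
    (fun R hR hne' => ?_) ?_ hQP hne hx.1 hreg
  · obtain ⟨y, hy⟩ := hmax.max R hR hne'
    rw [← hd, ← card_map_conj y R]
    exact Subgroup.card_le_of_le hy
  · rw [P.card_eq_multiplicity, ha, ← pow_add]
    refine (Nat.mul_le_mul_right _ (finrank_le_sum_deg_sq hB)).trans (le_of_eq ?_)
    rw [← finsum_mem_eq_toFinset_sum, hmin, ← pow_add]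
    congr 1
    omega

end Cfsg.Agent.S4647
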