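import Cfsg.Statements.S4649
import Cfsg.Agent.Lib.Blocks.CyclicNilp.Criterion
import Cfsg.Agent.Lib.Blk83.CyclicStructure
-- import your own Cfsg.Agent.* helpers here

set_option autoImplicit false
open Cfsg CfsgLib.Blocks CfsgLib.Blocks.Pairs

namespace Cfsg.Agent.S4649

/-- A block with cyclic defect group, of a finite group relative to a maximal ideal M of the algebraic integers containing the prime p, is nilpotent if and only if its p-regular rank is 1 (it has a unique irreducible Brauer character). -/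
theorem result {G : Type*} [Group G] [Finite G] (p : ℕ) [Fact p.Prime] (M : Ideal Cfsg.AlgInt) (hM : Cfsg.IsPModular p M) (B : Set (Cfsg.IrrCharacter G)) (hB : Cfsg.IsPBlock M B) (P : Subgroup G) (hPD : Cfsg.IsDefectGroup p M B P) (hcyc : IsCyclic P) : Cfsg.IsNilpotentBlock p M B ↔ Cfsg.blockRank p B = 1 := by
  haveI := hM.2.1
  haveI := CfsgLib.Blocks.charP_resField (M := M) hM.1 hM.2.2
  refine CfsgLib.CyclicNilpotent.isNilpotentBlock_iff_rankOne hM hB hPD
    (fun x hx y hy => congrArg Subtype.val
      (hcyc.commutative.is_comm.comm (⟨x, hx⟩ : P) ⟨y, hy⟩)) fun hbot b hind T hT => ?_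
  obtain ⟨hB', hb, hP, hno, -, -⟩ := exists_root_pair hM hPD hind
  have hTeq : pairStab P (eIn hb) = T := by
    ext g
    rw [CfsgLib.Blk83.mem_pairStab_iff hb, hT]
  have hpg : IsPGroup p P := ((isDefectGroup_iff_maxR hM hB).1 hPD).pgroup
  obtain ⟨a, ha⟩ := IsPGroup.iff_card.1 hpg
  have ha1 : 1 ≤ a := by
    rcases a with _ | a
    · rw [pow_zero, Subgroup.card_eq_one] at ha
      exact absurd ha hbot
    · omega
  have h : CfsgLib.Blk83.Cyc.CycData p hind.2.1 P (eIn hb) a
      ((Subgroup.centralizer (P : Set G)).relIndex T) :=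
    ⟨hM, hP, hno, hcyc, ha, ha1, by rw [hTeq]⟩
  exact h.block_structure.1

end Cfsg.Agent.S4649
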