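import Cfsg.Statements.S4651
import Cfsg.Agent.Lib.BlockChains.Count

set_option autoImplicit false
open Cfsg CfsgLib.BlockChains
open scoped Classical

namespace Cfsg.Agent.S4651

/-- An alternating-sum identity over chains of p-subgroups (the character-count form behind the chain reformulation of Alperin's weight conjecture, which holds unconditionally for the difference k − l). Let b be a block of the finite group G relative to a maximal ideal M of the algebraic integers containing the prime p. Consider the nonempty chains s = {Q_0 < Q_1 < ⋯ < Q_m} of nontrivial p-subgroups of G in which every member is normal in the largest member; let N_G(s) be the intersection of the normalizers of the members (the stabilizer of the chain), and let b_s be the set of irreducible characters of N_G(s) lying in blocks of N_G(s) that induce b. Then #G · (k(b) − l(b)) equals the sum over all such chains s of (−1)^m · #N_G(s) · (k(b_s) − l(b_s)), where k counts irreducible characters and l is the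 p-regular rank; equivalently, k(b) − l(b) is the alternating sum of k(b_s) − l(b_s) over representatives of the conjugacy classes of such chains. -/
theorem result {G : Type*} [Group G] [Finite G] (p : ℕ) [Fact p.Prime] (M : Ideal Cfsg.AlgInt) (hM : Cfsg.IsPModular p M) (b : Set (Cfsg.IrrCharacter G)) (hb : Cfsg.IsPBlock M b) : (Nat.card G : ℤ) * ((Nat.card b : ℤ) - (Cfsg.blockRank p b : ℤ)) = ∑ᶠ s ∈ {s : Finset (Subgroup G) | s.Nonempty ∧ (∀ Q ∈ s, ∀ R ∈ s, Q ≤ R ∨ R ≤ Q) ∧ (∀ Q ∈ s, Q ≠ ⊥ ∧ IsPGroup p Q) ∧ ∃ T ∈ s, ∀ Q ∈ s, Q ≤ T ∧ T ≤ Subgroup.normalizer ((Q : Subgroup G) : Set G)}, (-1 : ℤ) ^ (s.card - 1) * (Nat.card (((⨅ Q ∈ s, Subgroup.normalizer ((Q : Subgroup G) : Set G) : Subgroup G))) : ℤ) * ((Nat.card {ψ : Cfsg.IrrCharacter (((⨅ Q ∈ s, Subgroup.normalizer ((Q : Subgroup G) : Set G) : Subgroup G))) | ∃ β : Set (Cfsg.IrrCharacter (((⨅ Q ∈ s, Subgroup.normalizer ((Q : Subgroup G) : Set G) : Subgroup G)))), ψ ∈ β ∧ Cfsg.IsInducedBlock M (((⨅ Q ∈ s, Subgroup.normalizer ((Q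 : Subgroup G) : Set G) : Subgroup G))) β b} : ℤ) - (Cfsg.blockRank p {ψ : Cfsg.IrrCharacter (((⨅ Q ∈ s, Subgroup.normalizer ((Q : Subgroup G) : Set G) : Subgroup G))) | ∃ β : Set (Cfsg.IrrCharacter (((⨅ Q ∈ s, Subgroup.normalizer ((Q : Subgroup G) : Set G) : Subgroup G)))), ψ ∈ β ∧ Cfsg.IsInducedBlock M (((⨅ Q ∈ s, Subgroup.normalizer ((Q : Subgroup G) : Set G) : Subgroup G))) β b} : ℤ)) := by
  haveI := Fintype.ofFinite G
  rw [count_top hM hb]
  show _ = ∑ᶠ s ∈ Chains p G, (-1 : ℤ) ^ (s.card - 1) * (Nat.card (chainNorm s) : ℤ) *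
    ((Nat.card (blocksOver M (chainNorm s) b) : ℤ) -
      (Cfsg.blockRank p (blocksOver M (chainNorm s) b) : ℤ))
  haveI : Finite (Finset (Subgroup G)) :=
    Finite.of_injective (fun s : Finset (Subgroup G) => (s : Set (Subgroup G))) Finset.coe_injective
  haveI := Fintype.ofFinite (Finset (Subgroup G))
  rw [finsum_mem_eq_toFinset_sum]
  have hterm : ∀ s ∈ (Chains p G).toFinset, (-1 : ℤ) ^ (s.card - 1) * (Nat.card (chainNorm s) : ℤ) *
      ((Nat.card (blocksOver M (chainNorm s) b) : ℤ) -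
        (Cfsg.blockRank p (blocksOver M (chainNorm s) b) : ℤ)) =
      ∑ x ∈ pEls p G, if x ∈ chainNorm s then (-1 : ℤ) ^ (s.card - 1) *
        weight p M b (Subgroup.centralizer ({x} : Set G) ⊓ chainNorm s) else 0 := by
    intro s hs
    obtain ⟨-, -, hnt, T, hT, hTQ⟩ := Set.mem_toFinset.1 hs
    rw [mul_assoc, count_local hM (hnt T hT).2
      (fun t ht => mem_chainNorm.2 fun Q hQ => (hTQ Q hQ).2 ht)
      (fun t ht => mem_chainNorm.2 fun Q hQ => Subgroup.centralizer_le_normalizer _
        (Subgroup.centralizer_le (hTQ Q hQ).1 ht))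
      (fun t ht => mem_chainNorm.1 ht T hT), Finset.mul_sum, Finset.sum_filter]
  rw [Finset.sum_congr rfl hterm, Finset.sum_comm]
  refine Finset.sum_congr rfl fun x hx => ?_
  obtain ⟨hxp, hx1⟩ := mem_pEls.1 hx
  rw [← sum_chains (p := p) hx1 (CfsgLib.BlockRank.isPGroup_zpowers hxp) (weight p M b),
    finsum_mem_eq_toFinset_sum, ← Finset.sum_filter]
  refine Finset.sum_congr ?_ fun s _ => rfl
  ext s
  rw [Finset.mem_filter, Set.mem_toFinset, Set.mem_toFinset]
  exact ⟨fun h => ⟨h.mem, h.fix⟩, fun h => ⟨h.1, h.2⟩⟩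

end Cfsg.Agent.S4651
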