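import Cfsg.Statements.S4657
import Cfsg.Agent.Lib.Blocks.Pairs.Principal

set_option autoImplicit false
open Cfsg CfsgLib.Blocks CfsgLib.Blocks.Pairs

namespace Cfsg.Agent.S4657

/-- Fix a prime p and a maximal ideal M of the algebraic integers containing p. Every Brauer pair (P, e) of the finite group G is a Brauer pair of exactly one p-block B of G. -/
theorem result {G : Type*} [Group G] [Fintype G] (p : ℕ) [Fact p.Prime] (M : Ideal Cfsg.AlgInt) (hM : Cfsg.IsPModular p M) (P : Subgroup G) (e : Set (Cfsg.IrrCharacter (Subgroup.centralizer (P : Set G)))) (hPe : Cfsg.IsBrauerPair p M P e) : ∃! B : Set (Cfsg.IrrCharacter G), Cfsg.IsBrauerPairOf p M B P e := by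
  haveI := isMaximal_of_isPModular hM
  haveI : CharP (ResField M) p := charP_resField hM.1 (natCast_mem_of_isPModular hM)
  have hpe := isPair_of_isBrauerPair hPe
  obtain ⟨b, hb, huniq⟩ := existsUnique_pairOf hpe
  obtain ⟨B, hB, rfl⟩ := exists_ebar_eq hb.blockB
  refine ⟨B, (isBrauerPairOf_iff hM hB hPe.2).mpr hb, fun B' h => ?_⟩
  exact ebar_injective h.2.1 hB (huniq _ ((isBrauerPairOf_iff hM h.2.1 hPe.2).mp h))

end Cfsg.Agent.S4657
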