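import Cfsg.Statements.S4662
import Cfsg.Agent.Lib.Blocks.Pairs.Local

set_option autoImplicit false
open Cfsg CfsgLib.Blocks CfsgLib.Blocks.Pairs

namespace Cfsg.Agent.S4662

/-- Fix a prime p and a maximal ideal M of the algebraic integers containing p. Let (P, e) be a maximal Brauer pair of the p-block B of the finite group G, Q ≤ P, and f the p-block of C_G(Q) with (Q, f) ≤ (P, e). Let T be the stabilizer of f in N_G(Q). Then the idempotent of f is a block idempotent of T, and N_P(Q) is contained in a defect group of that block of T; moreover for some x in G the conjugate pair (x Q x⁻¹, conjugate of f) again lies below (P, e) and, with T' the stabilizer of the conjugate of f in N_G(x Q x⁻¹), N_P(x Q x⁻¹) is a defect group of the block of T' whose idempotent is that of the conjugate of f. -/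
theorem result {G : Type*} [Group G] [Fintype G] (p : ℕ) [Fact p.Prime] (M : Ideal Cfsg.AlgInt) (hM : Cfsg.IsPModular p M) (B : Set (Cfsg.IrrCharacter G)) (P Q : Subgroup G) (e : Set (Cfsg.IrrCharacter (Subgroup.centralizer (P : Set G)))) (f : Set (Cfsg.IrrCharacter (Subgroup.centralizer (Q : Set G)))) (hmax : Cfsg.IsMaximalBrauerPair p M B P e) (hQP : Q ≤ P) (hf : Cfsg.IsPBlock M f) (hle : Cfsg.SubpairLE p M Q f P e) (T : Subgroup G) (hT : ∀ y : G, y ∈ T ↔ y ∈ Subgroup.normalizer (Q : Set G) ∧ Cfsg.StabilizesBlock (Subgroup.centralizer (Q : Set G)) f y) : (∃ F : Set (Cfsg.IrrCharacter T), Cfsg.IsPBlock M F ∧ (∀ t : T, Cfsg.blockCoeff F t = Cfsg.subgroupBlockCoeff (Subgroup.centralizer (Q : Set G)) f (t : G)) ∧ ∃ D : Subgroup T, Cfsg.IsDefectGroup p M F D ∧ (P ⊓ Subgroup.normalizer (Q : Set G)).subgroupOf T ≤ D) ∧ ∃ x : G, Cfsg.SubpairLE p M (Q.map (MulAut.conj x).toMonoidHom) (Cfsg.conjBlock Q x f) P e ∧ ∀ (T' : Subgroup G), (∀ y : G, y ∈ T' ↔ y ∈ Subgroup.normalizer ((Q.map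 (MulAut.conj x).toMonoidHom) : Set G) ∧ Cfsg.StabilizesBlock (Subgroup.centralizer ((Q.map (MulAut.conj x).toMonoidHom) : Set G)) (Cfsg.conjBlock Q x f) y) → ∃ F' : Set (Cfsg.IrrCharacter T'), Cfsg.IsPBlock M F' ∧ (∀ t : T', Cfsg.blockCoeff F' t = Cfsg.subgroupBlockCoeff (Subgroup.centralizer ((Q.map (MulAut.conj x).toMonoidHom) : Set G)) (Cfsg.conjBlock Q x f) (t : G)) ∧ Cfsg.IsDefectGroup p M F' ((P ⊓ Subgroup.normalizer ((Q.map (MulAut.conj x).toMonoidHom) : Set G)).subgroupOf T') := by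
  haveI := isMaximal_of_isPModular hM
  haveI : CharP (ResField M) p := charP_resField hM.1 (natCast_mem_of_isPModular hM)
  obtain ⟨hB, he, hP, hno⟩ := noExt_of_isMaximalBrauerPair hM hmax
  obtain ⟨_, hsle⟩ := sle_of_subpairLE hM hf hle
  have hQ : IsPGroup p Q := hP.pair.pgroup.to_le hQP
  obtain ⟨hTN, hCT, hfix, F, hF, hFe, hcoef⟩ := exists_block_stabilizer hM hf hQ hT
  have hPT : ∀ y ∈ P ⊓ Subgroup.normalizer (Q : Set G), y ∈ T := by
    intro y hy
    obtain ⟨g, hg⟩ := ns_of_sle hP.pair hsle (le_inf hQP Subgroup.le_normalizer) inf_le_left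
      inf_le_right
    exact (hT y).mpr ⟨hy.2, (stabilizesBlock_iff hf
      (normalizer_le_normalizer_centralizer Q hy.2)).mpr (conjFixed_iff.mp hg.fix y hy)⟩
  constructor
  · refine ⟨F, hF, hcoef, exists_defectGroup_ge hM hF hPT (hP.pair.pgroup.to_le inf_le_left) ?_⟩
    rw [hFe]
    exact trunc_inf_ne_zero hP.pair hsle le_rfl
  · obtain ⟨D, hD⟩ := exists_maxIn hM hF
    rw [hFe] at hD
    obtain ⟨x, hx, hmx⟩ := exists_conj_maxIn hP hno hsle hTN hCT hfix hD
    obtain ⟨hc, hce⟩ := conjBlock_spec Q x hf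
    rw [← hce] at hx hmx
    refine ⟨x, subpairLE_of_sle hM hc he hx, fun T' hT' => ?_⟩
    obtain ⟨hTN', -, hfix', F', hF', hFe', hcoef'⟩ :=
      exists_block_stabilizer hM hc (hQ.map _) hT'
    have hTT' : T' = conjSub x T := by
      ext y
      rw [hT' y, mem_conjSub, hT]
      constructor
      · rintro ⟨h1, h2⟩
        have h3 := mem_normalizer_conjSub.mp h1
        refine ⟨h3, (stabilizesBlock_iff hf (normalizer_le_normalizer_centralizer Q h3)).mpr ?_⟩
        have h4 := (stabilizesBlock_iff hc (normalizer_le_normalizer_centralizer _ h1)).mp h2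
        rw [hce, conjA_conjA] at h4
        rw [← conjA_conjA, ← conjA_conjA, conjA_conjA y, h4, conjA_inv_conjA]
      · rintro ⟨h1, h2⟩
        have h3 : y ∈ Subgroup.normalizer (conjSub x Q : Set G) := mem_normalizer_conjSub.mpr h1
        refine ⟨h3, (stabilizesBlock_iff hc (normalizer_le_normalizer_centralizer _ h3)).mpr ?_⟩
        have h4 := (stabilizesBlock_iff hf (normalizer_le_normalizer_centralizer Q h1)).mp h2
        rw [hce, conjA_conjA]
        conv_rhs => rw [← h4, conjA_conjA]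
        congr 1
        group
    refine ⟨F', hF', hcoef', isDefectGroup_subgroupOf hM hF' ?_⟩
    rw [hFe']
    have hle1 : P ⊓ conjSub x T ≤ P ⊓ Subgroup.normalizer (conjSub x Q : Set G) :=
      le_inf inf_le_left (inf_le_right.trans (hTT' ▸ hTN'))
    have hle2 : P ⊓ Subgroup.normalizer (conjSub x Q : Set G) ≤ P ⊓ conjSub x T := by
      refine le_inf inf_le_left fun y hy => ?_
      obtain ⟨g, hg⟩ := ns_of_sle hP.pair hx (le_inf hx.le Subgroup.le_normalizer) inf_le_left
        inf_le_right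
      rw [← hTT', hT' y]
      exact ⟨hy.2, (stabilizesBlock_iff hc (normalizer_le_normalizer_centralizer _ hy.2)).mpr
        (conjFixed_iff.mp hg.fix y hy)⟩
    rw [show P ⊓ Subgroup.normalizer (conjSub x Q : Set G) = P ⊓ conjSub x T from
      le_antisymm hle2 hle1, hTT']
    exact hmx

end Cfsg.Agent.S4662
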