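import Cfsg.Statements.S4664
import Cfsg.Agent.Lib.BlockReg.Regular
import Cfsg.Agent.Lib.Char.PowerMap

set_option autoImplicit false
open Cfsg

namespace Cfsg.Agent.S4664

/-- Fix a prime p and a maximal ideal M of the algebraic integers containing p, and let B be a p-block of the finite group G. Let m be the p'-part of the order of G and η = exp(2πi/m). Then every coefficient of the idempotent of B lies in the cyclotomic field ℚ(η). -/
theorem result {G : Type*} [Group G] [Fintype G] (p : ℕ) [Fact p.Prime] (M : Ideal Cfsg.AlgInt) (hM : Cfsg.IsPModular p M) (B : Set (Cfsg.IrrCharacter G)) (hB : Cfsg.IsPBlock M B) (g : G) : Cfsg.blockCoeff B g ∈ IntermediateField.adjoin ℚ ({Complex.exp (2 * Real.pi * Complex.I / ((Nat.card G / p ^ (Nat.card G).factorization p : ℕ) : ℂ))} : Set ℂ) := by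
  classical
  set m : ℕ := Nat.card G / p ^ (Nat.card G).factorization p with hm
  set K := IntermediateField.adjoin ℚ ({Complex.exp (2 * Real.pi * Complex.I / (m : ℂ))} : Set ℂ)
  by_cases hg : p ∣ orderOf g
  · rw [CfsgLib.BlockReg.blockCoeff_singular hM hB g hg]
    exact K.zero_mem
  have hm0 : 0 < m := Nat.ordCompl_pos p Nat.card_pos.ne'
  have hdvd : orderOf g ∣ m := by
    refine Nat.Coprime.dvd_of_dvd_mul_left (m := p ^ (Nat.card G).factorization p) ?_ ?_
    · exact (((Fact.out : p.Prime).coprime_iff_not_dvd.mpr hg).pow_left _).symm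
    · rw [hm, Nat.ordProj_mul_ordCompl_eq_self]
      exact orderOf_dvd_natCard g
  unfold Cfsg.blockCoeff
  refine K.mul_mem (K.inv_mem (natCast_mem K _)) ?_
  rw [finsum_mem_eq_toFinset_sum]
  refine sum_mem fun χ _ => K.mul_mem ?_ ?_
  · rw [← CfsgLib.BlockReg.deg_cast χ]
    exact natCast_mem K _
  · rw [← CfsgLib.BlockReg.char_inv]
    obtain ⟨P, hP⟩ := CfsgLib.CharPower.exists_poly_of_isCharacter
      (CfsgLib.Char.IsIrrCharacter.isCharacter χ.2) g⁻¹ hm0
      (orderOf_dvd_iff_pow_eq_one.mp (by rwa [orderOf_inv]))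
      (Complex.isPrimitiveRoot_exp m hm0.ne')
    have h1 := hP 1
    rw [pow_one, pow_one] at h1
    rw [h1, Polynomial.aeval_eq_sum_range]
    exact sum_mem fun i _ => zsmul_mem (pow_mem
      (IntermediateField.mem_adjoin_simple_self ℚ _) _) _

end Cfsg.Agent.S4664
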