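import Cfsg.Statements.S4665
import Cfsg.Agent.Lib.BlockRank.Basic
import Cfsg.Agent.Lib.Char.Virtual
import Cfsg.Agent.Lib.Char.Orth

set_option autoImplicit false
open Cfsg

namespace Cfsg.Agent.S4665

/-- Fix a prime p, a maximal ideal M of the algebraic integers containing p, and a p-block B of the finite group G, and let p^a be the p-part of the order of G. Let χ be an integer combination of the irreducible characters in B. If the function that agrees with χ on p-regular elements and vanishes on p-singular elements is again an integer combination of the irreducible characters in B, then p^a divides χ(1). -/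
theorem result {G : Type*} [Group G] [Fintype G] (p : ℕ) [Fact p.Prime] (M : Ideal Cfsg.AlgInt) (hM : Cfsg.IsPModular p M) (B : Set (Cfsg.IrrCharacter G)) (hB : Cfsg.IsPBlock M B) (χ : G → ℂ) (hχ : (∃ n : Cfsg.IrrCharacter G → ℤ, ∀ g : G, χ g = ∑ᶠ ψ ∈ B, (n ψ : ℂ) * (ψ : G → ℂ) g)) (h0 : (∃ n : Cfsg.IrrCharacter G → ℤ, ∀ g : G, Cfsg.pRegularPart p χ g = ∑ᶠ ψ ∈ B, (n ψ : ℂ) * (ψ : G → ℂ) g)) : ∃ k : ℤ, χ 1 = (p ^ (Nat.card G).factorization p : ℂ) * k := by
  classical
  haveI := Fintype.ofFinite B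
  obtain ⟨n, hn⟩ := h0
  obtain ⟨S⟩ : Nonempty (Sylow p G) := inferInstance
  have hterm : ∀ ψ : IrrCharacter G, ∃ k : ℕ,
      ∑ s : (S : Subgroup G), (ψ : G → ℂ) s = (Nat.card (S : Subgroup G) : ℂ) * k := by
    intro ψ
    obtain ⟨k, hk⟩ := CfsgLib.Char.IsCharacter.exists_nat_classInner'
      (CfsgLib.Char.IsCharacter.restrict
        (CfsgLib.Char.IsIrrCharacter.isCharacter ψ.2) (S : Subgroup G))
      (CfsgLib.Char.isCharacter_one (G := (S : Subgroup G)))
    refine ⟨k, ?_⟩
    rw [← hk, Cfsg.classInner, ← mul_assoc,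
      mul_inv_cancel₀ (Nat.cast_ne_zero.mpr Nat.card_pos.ne'), one_mul]
    exact Finset.sum_congr rfl fun s _ => by simp
  choose k hk using hterm
  refine ⟨∑ ψ ∈ B.toFinset, n ψ * (k ψ : ℤ), ?_⟩
  have hS : Nat.card (S : Subgroup G) = p ^ (Nat.card G).factorization p := S.card_eq_multiplicity
  have h1 : ∑ s : (S : Subgroup G), pRegularPart p χ (s : G) = χ 1 := by
    rw [Finset.sum_eq_single 1]
    · simp [pRegularPart, IsPRegular, (Fact.out : p.Prime).ne_one]
    · intro s _ hs
      obtain ⟨j, hj⟩ := IsPGroup.iff_orderOf.mp S.isPGroup' s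
      have hne : j ≠ 0 := fun h => hs (orderOf_eq_one_iff.mp (by rw [hj, h, pow_zero]))
      simp [pRegularPart, IsPRegular, Subgroup.orderOf_coe, hj, dvd_pow_self p hne]
    · simp
  rw [← h1]
  calc ∑ s : (S : Subgroup G), pRegularPart p χ (s : G)
      = ∑ ψ ∈ B.toFinset, (n ψ : ℂ) * ∑ s : (S : Subgroup G), (ψ : G → ℂ) s := by
        simp only [hn, finsum_mem_eq_toFinset_sum]
        rw [Finset.sum_comm]
        simp only [Finset.mul_sum]
    _ = _ := by
        simp only [hk, hS]
        push_cast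
        rw [Finset.mul_sum]
        exact Finset.sum_congr rfl fun ψ _ => by ring

end Cfsg.Agent.S4665
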