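import Cfsg.Statements.S4666
import Cfsg.Agent.Lib.BlockReg.Bounds

set_option autoImplicit false
open Cfsg

namespace Cfsg.Agent.S4666

/-- Fix a prime p and a maximal ideal M of the algebraic integers containing p, and a p-block B of the finite group G of defect d. For every integer combination χ of the irreducible characters in B, p^d times the function that agrees with χ on p-regular elements and vanishes elsewhere is again an integer combination of the irreducible characters in B. -/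
theorem result {G : Type*} [Group G] [Fintype G] (p : ℕ) [Fact p.Prime] (M : Ideal Cfsg.AlgInt) (hM : Cfsg.IsPModular p M) (B : Set (Cfsg.IrrCharacter G)) (hB : Cfsg.IsPBlock M B) (χ : G → ℂ) (hχ : (∃ n : Cfsg.IrrCharacter G → ℤ, ∀ g : G, χ g = ∑ᶠ ψ ∈ B, (n ψ : ℂ) * (ψ : G → ℂ) g)) : (∃ n : Cfsg.IrrCharacter G → ℤ, ∀ g : G, (p ^ Cfsg.blockDefect p B : ℂ) * Cfsg.pRegularPart p χ g = ∑ᶠ ψ ∈ B, (n ψ : ℂ) * (ψ : G → ℂ) g) := by
  classical
  haveI := Fintype.ofFinite B
  have hp : p.Prime := Fact.out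
  obtain ⟨n, hn⟩ := hχ
  set a := (Nat.card G).factorization p with ha
  set m := CfsgLib.BlockReg.minExp p B with hm
  choose c hc using fun ψ η : IrrCharacter G =>
    CfsgLib.BlockReg.exists_int_classInner_tilde (p := p) hp ψ η
  have hdvd : ∀ ψ ∈ B, ∀ η, ((p ^ m : ℕ) : ℤ) ∣ c ψ η := fun ψ hψ η =>
    (Int.natCast_dvd_natCast.mpr (Nat.pow_dvd_pow p (CfsgLib.BlockReg.minExp_le hψ))).trans
      (CfsgLib.BlockReg.dvd_coeff_iff hM ψ η _ (hc ψ η)).1
  have hd : a = blockDefect p B + m := by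
    obtain ⟨ψ, hψ, hψm⟩ :=
      CfsgLib.BlockReg.exists_minExp (p := p) (CfsgLib.BlockReg.block_nonempty hM hB)
    have h1 := CfsgLib.BlockReg.factorization_deg_le (p := p) ψ
    rw [CfsgLib.BlockReg.blockDefect_eq]
    omega
  have hpm : ((p ^ m : ℕ) : ℂ) ≠ 0 := Nat.cast_ne_zero.mpr (pow_ne_zero _ hp.ne_zero)
  refine ⟨fun η => ∑ ψ ∈ B.toFinset, n ψ * (c ψ η / ((p ^ m : ℕ) : ℤ)), fun g => ?_⟩
  have hψ : ∀ ψ ∈ B.toFinset, (p : ℂ) ^ blockDefect p B * pRegularPart p (ψ : G → ℂ) g =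
      ∑ η ∈ B.toFinset, ((c ψ η / ((p ^ m : ℕ) : ℤ) : ℤ) : ℂ) * (η : G → ℂ) g := by
    intro ψ hψB
    have hψB' := Set.mem_toFinset.mp hψB
    obtain ⟨e, he, hexp⟩ := CfsgLib.BlockReg.exists_coeff (p := p) hp ψ
    have htil : CfsgLib.BlockReg.tilde p (ψ : G → ℂ) g =
        ((p ^ a : ℕ) : ℂ) * pRegularPart p (ψ : G → ℂ) g := by
      by_cases hg : p ∣ orderOf g <;>
        simp [CfsgLib.BlockReg.tilde, pRegularPart, IsPRegular, hg, ha]
    refine mul_left_cancel₀ hpm ?_
    have e1 : ((p ^ m : ℕ) : ℂ) * ((p : ℂ) ^ blockDefect p B * pRegularPart p (ψ : G → ℂ) g) =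
        CfsgLib.BlockReg.tilde p (ψ : G → ℂ) g := by
      rw [htil, hd, pow_add]
      push_cast
      ring
    rw [e1, congrFun hexp g, Finset.mul_sum]
    rw [← Finset.sum_subset (Finset.subset_univ B.toFinset) fun η _ hη => ?_]
    · refine Finset.sum_congr rfl fun η _ => ?_
      have hce : e η = c ψ η := by exact_mod_cast (he η).symm.trans (hc ψ η)
      obtain ⟨q, hq⟩ := hdvd ψ hψB' η
      rw [hce, hq, Int.mul_ediv_cancel_left _ (by exact_mod_cast pow_ne_zero _ hp.ne_zero)]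
      push_cast
      ring
    · have h0 := CfsgLib.BlockReg.classInner_tilde_eq_zero hM hB hψB'
        (ψ := η) (fun h => hη (Set.mem_toFinset.mpr h))
      rw [he η] at h0
      simp [h0]
  have hlin : pRegularPart p χ g =
      ∑ ψ ∈ B.toFinset, (n ψ : ℂ) * pRegularPart p (ψ : G → ℂ) g := by
    by_cases hg : IsPRegular p g <;> simp [pRegularPart, hg, hn, finsum_mem_eq_toFinset_sum]
  rw [hlin, Finset.mul_sum, finsum_mem_eq_toFinset_sum]
  simp only [Int.cast_sum, Int.cast_mul, Finset.sum_mul]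
  rw [Finset.sum_comm]
  refine Finset.sum_congr rfl fun ψ hψB => ?_
  rw [mul_left_comm, hψ ψ hψB, Finset.mul_sum]
  exact Finset.sum_congr rfl fun η _ => by ring

end Cfsg.Agent.S4666
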