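import Cfsg.Statements.S4668
import Cfsg.Agent.Lib.Blocks.Pairs.NormalSub
import Cfsg.Agent.Lib.BlockReg.Regular
import Cfsg.Agent.Lib.Solvable.CoprimeAction

set_option autoImplicit false
open Cfsg CfsgLib.Blocks CfsgLib.Blocks.Pairs

namespace Cfsg.Agent.S4668

/-- Fix a prime p and a maximal ideal M of the algebraic integers containing p. Let Q₀ < Q₁ < ⋯ < Q_m be a strictly increasing chain of p-subgroups of the finite group G and N the intersection of their normalizers. Then every block idempotent of N is supported on C_G(Q_m): for every p-block E of N, the idempotent coefficient of E vanishes at every element of N outside C_G(Q_m). -/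
theorem result {G : Type*} [Group G] [Fintype G] (p : ℕ) [Fact p.Prime] (M : Ideal Cfsg.AlgInt) (hM : Cfsg.IsPModular p M) (m : ℕ) (Q : Fin (m + 1) → Subgroup G) (hQ : StrictMono Q) (hQp : ∀ i, IsPGroup p (Q i)) (N : Subgroup G) (hN : ∀ g : G, g ∈ N ↔ ∀ i, g ∈ Subgroup.normalizer (Q i : Set G)) (E : Set (Cfsg.IrrCharacter N)) (hE : Cfsg.IsPBlock M E) (n : N) (hn : (n : G) ∉ Subgroup.centralizer (Q (Fin.last m) : Set G)) : Cfsg.blockCoeff E n = 0 := by
  haveI := isMaximal_of_isPModular hM
  by_contra hne
  have hreg : ¬ p ∣ orderOf n := fun h => hne (CfsgLib.BlockReg.blockCoeff_singular hM hE n h)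
  set R : Subgroup N := (Q (Fin.last m)).subgroupOf N with hR
  have hRn : R.Normal := Subgroup.normal_subgroupOf_of_le_normalizer fun g hg =>
    (hN g).mp hg (Fin.last m)
  have hRp : IsPGroup p R := IsPGroup.comap_subtype (hQp _)
  have hcR : n ∈ Subgroup.centralizer (R : Set N) := by
    by_contra h
    exact hne (blockCoeff_eq_zero_of_not_mem_centralizer hM hRp hE h)
  have hnN : ∀ i, (n : G) ∈ Subgroup.normalizer (Q i : Set G) := (hN n).mp n.2
  -- elements of the last member lying in `N` commute with `n`
  have hfixed : ∀ y ∈ Q (Fin.last m), y ∈ N → y * (n : G) = (n : G) * y := fun y hy hyN =>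
    congrArg Subtype.val (Subgroup.mem_centralizer_iff.mp hcR ⟨y, hyN⟩ hy)
  apply hn
  suffices ∀ i, (n : G) ∈ Subgroup.centralizer (Q i : Set G) from this _
  intro i
  induction i using Fin.induction with
  | zero =>
    refine Subgroup.mem_centralizer_iff.mpr fun y hy => ?_
    refine hfixed y (hQ.monotone (Fin.le_last 0) hy) ((hN y).mpr fun i => ?_)
    exact Subgroup.le_normalizer (hQ.monotone (Fin.zero_le i) hy)
  | succ j ih =>
    have hle : Q j.castSucc ≤ Q j.succ := hQ.monotone (le_of_lt (Fin.castSucc_lt_succ))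
    have hcop : (Nat.card (Subgroup.zpowers (n : G))).Coprime p := by
      rw [Nat.card_zpowers, Subgroup.orderOf_coe]
      exact ((Nat.Prime.coprime_iff_not_dvd Fact.out).mpr hreg).symm
    have := CfsgLib.Solvable.thompson_pxq (hQp j.castSucc) hcop (hQp j.succ)
      (Q := Subgroup.zpowers (n : G))
      (fun x hx => Subgroup.mem_centralizer_iff.mpr fun z hz => by
        obtain ⟨k, rfl⟩ := Subgroup.mem_zpowers_iff.mp hz
        have hc : Commute (n : G) x := (Subgroup.mem_centralizer_iff.mp ih x hx).symm
        exact hc.zpow_left k)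
      (hle.trans Subgroup.le_normalizer)
      ((Subgroup.zpowers_le).mpr (hnN j.succ))
      (fun y hy => ?_)
    · exact this (Subgroup.mem_zpowers _)
    · have hyN : y ∈ N := (hN y).mpr fun i => by
        rcases le_or_gt i j.castSucc with hi | hi
        · exact Subgroup.centralizer_le_normalizer _ (centralizer_anti (hQ.monotone hi) hy.2)
        · exact Subgroup.le_normalizer (hQ.monotone (Fin.castSucc_lt_iff_succ_le.mp hi) hy.1)
      refine Subgroup.mem_centralizer_iff.mpr fun z hz => ?_
      obtain ⟨k, rfl⟩ := Subgroup.mem_zpowers_iff.mp hz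
      have hc : Commute (n : G) y := (hfixed y (hQ.monotone (Fin.le_last _) hy.1) hyN).symm
      exact hc.zpow_left k

end Cfsg.Agent.S4668
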