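import Cfsg.Statements.S4670
import Cfsg.Agent.Lib.Blocks.Pairs.Correspondence

set_option autoImplicit false
open Cfsg CfsgLib.Blocks CfsgLib.Blocks.Pairs

namespace Cfsg.Agent.S4670

/-- Fix a prime p and a maximal ideal M of the algebraic integers containing p. Let P be a p-subgroup of the finite group G and H a subgroup containing N_G(P). For every p-block B of G with defect group P there is exactly one p-block c of H with defect group P whose idempotent agrees with that of B, modulo the local ideal at M, at every element of C_G(P) (their Brauer-map images at P coincide); and every p-block c of H with defect group P arises in this way from exactly one such B. This is the Brauer correspondence over H. -/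
theorem result {G : Type*} [Group G] [Fintype G] (p : ℕ) [Fact p.Prime] (M : Ideal Cfsg.AlgInt) (hM : Cfsg.IsPModular p M) (P H : Subgroup G) (hP : IsPGroup p P) (hH : Subgroup.normalizer (P : Set G) ≤ H) : (∀ B : Set (Cfsg.IrrCharacter G), Cfsg.IsPBlock M B → Cfsg.IsDefectGroup p M B P → ∃! c : Set (Cfsg.IrrCharacter H), Cfsg.IsPBlock M c ∧ Cfsg.IsDefectGroup p M c (P.subgroupOf H) ∧ ∀ x : G, x ∈ Subgroup.centralizer (P : Set G) → Cfsg.MemLocalIdeal M (Cfsg.blockCoeff B x - Cfsg.subgroupBlockCoeff H c x)) ∧ (∀ c : Set (Cfsg.IrrCharacter H), Cfsg.IsPBlock M c → Cfsg.IsDefectGroup p M c (P.subgroupOf H) → ∃! B : Set (Cfsg.IrrCharacter G), Cfsg.IsPBlock M B ∧ Cfsg.IsDefectGroup p M B P ∧ ∀ x : G, x ∈ Subgroup.centralizer (P : Set G) → Cfsg.MemLocalIdeal M (Cfsg.blockCoeff B x - Cfsg.subgroupBlockCoeff H c x)) := by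
  haveI := isMaximal_of_isPModular hM
  haveI : CharP (ResField M) p := charP_resField hM.1 (natCast_mem_of_isPModular hM)
  have hPH : P ≤ H := Subgroup.le_normalizer.trans hH
  have hCH : Subgroup.centralizer (P : Set G) ≤ H :=
    (Subgroup.centralizer_le_normalizer _).trans hH
  have hmap : (P.subgroupOf H).map H.subtype = P := Subgroup.map_subgroupOf_eq_of_le hPH
  have hP' : IsPGroup p (P.subgroupOf H) :=
    hP.of_equiv (Subgroup.subgroupOfEquivOfLe hPH).symm
  -- the congruence condition says that the Brauer images agree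
  have hcongr : ∀ {B : Set (IrrCharacter G)} (hB : IsPBlock M B) {c : Set (IrrCharacter H)}
      (hc : IsPBlock M c),
      (∀ x : G, x ∈ Subgroup.centralizer (P : Set G) →
        MemLocalIdeal M (blockCoeff B x - subgroupBlockCoeff H c x)) ↔
      trunc P (ebar hB) = trunc P (eIn hc) := by
    intro B hB c hc
    have key : ∀ x, MemLocalIdeal M (blockCoeff B x - subgroupBlockCoeff H c x) ↔
        (ebar hB).coeff x = (eIn hc).coeff x := fun x => by
      rw [coeff_ebar, coeff_eIn]
      exact memLocalIdeal_sub_iff (x := ⟨_, blockCoeff_mem hB x⟩)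
        (y := ⟨_, subgroupBlockCoeff_mem hc x⟩)
    constructor
    · intro h
      ext x
      rw [coeff_trunc, coeff_trunc]
      by_cases hx : x ∈ Subgroup.centralizer (P : Set G)
      · rw [if_pos hx, if_pos hx, (key x).mp (h x hx)]
      · rw [if_neg hx, if_neg hx]
    · intro h x hx
      have h1 := congrArg (fun z => z.coeff x) h
      simp only [coeff_trunc, if_pos hx] at h1
      exact (key x).mpr h1
  -- pairs in the subgroup from pairs in the group
  have hdown : ∀ {c : Set (IrrCharacter H)} (hc : IsPBlock M c)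
      {e : MonoidAlgebra (ResField M) G}, IsPair p P e → trunc P (eIn hc) * e = e →
      PairOf p (ebar hc) (P.subgroupOf H) (down H e) := by
    intro c hc e he hbr
    refine ⟨isBlockIdem_ebar hc, he.down_of_le hPH hCH, up_injective H ?_⟩
    rw [up_mul, up_trunc, up_down (he.block.mem.supp.mono hCH), hmap]
    exact hbr
  constructor
  · intro B hB hBD
    have hmaxB := (isDefectGroup_iff_maxR hM hB).mp hBD
    obtain ⟨e, he⟩ := exists_pairOf (isBlockIdem_ebar hB) hP hmaxB.ne_zero
    have hno := hmaxB.noExt he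
    have hpe := he.pair.down_of_le hPH hCH
    obtain ⟨b, hb, hbuniq⟩ := existsUnique_pairOf hpe
    obtain ⟨c, hc, rfl⟩ := exists_ebar_eq hb.blockB
    have hcD : IsDefectGroup p M c (P.subgroupOf H) :=
      (isDefectGroup_iff_maxR hM hc).mpr (maxR_of_noExt hb (noExt_down he.pair hPH hCH hno))
    have hb' : PairOf p (down H (eIn hc)) (P.subgroupOf H) (down H e) := by
      rw [eIn, down_up]; exact hb
    refine ⟨c, ⟨hc, hcD, (hcongr hB hc).mpr
      (trunc_eq_of_common hH he hno (isBlockIdem_eIn hc).mem hb')⟩, ?_⟩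
    rintro c' ⟨hc', -, h'⟩
    have h1 := hdown hc' he.pair (by rw [← (hcongr hB hc').mp h']; exact he.br)
    exact ebar_injective hc' hc (hbuniq _ h1)
  · intro c hc hcD
    have hmaxc := (isDefectGroup_iff_maxR hM hc).mp hcD
    obtain ⟨e', he'⟩ := exists_pairOf (isBlockIdem_ebar hc) hP' hmaxc.ne_zero
    have hnoH := hmaxc.noExt he'
    obtain ⟨e, hedef⟩ : ∃ e, e = up H e' := ⟨_, rfl⟩
    have hpe : IsPair p P e := by
      have h := he'.pair.up_of_le (L := H) (by rwa [hmap])
      rwa [hmap, ← hedef] at h
    have hde : down H e = e' := by rw [hedef, down_up]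
    rw [← hde] at he' hnoH
    have hno : NoExt p P e := noExt_of_down hPH hH hnoH
    obtain ⟨b, hb, hbuniq⟩ := existsUnique_pairOf hpe
    obtain ⟨B, hB, rfl⟩ := exists_ebar_eq hb.blockB
    have hBD : IsDefectGroup p M B P :=
      (isDefectGroup_iff_maxR hM hB).mpr (maxR_of_noExt hb hno)
    have hc' : PairOf p (down H (eIn hc)) (P.subgroupOf H) (down H e) := by
      rw [eIn, down_up]; exact he'
    refine ⟨B, ⟨hB, hBD, (hcongr hB hc).mpr
      (trunc_eq_of_common hH hb hno (isBlockIdem_eIn hc).mem hc')⟩, ?_⟩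
    rintro B' ⟨hB', -, h'⟩
    refine ebar_injective hB' hB (hbuniq _ ⟨isBlockIdem_ebar hB', hpe, ?_⟩)
    rw [(hcongr hB' hc).mp h']
    have h := congrArg (up H) hc'.br
    rwa [up_mul, up_trunc, up_down (a := eIn hc) (up_suppIn H (ebar hc)),
      up_down (hpe.block.mem.supp.mono hCH), hmap] at h

end Cfsg.Agent.S4670
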