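import Cfsg.Statements.S4676
import Cfsg.Agent.Lib.BlockReg.Bounds
import Cfsg.Agent.Lib.Blocks.Defect

set_option autoImplicit false
open Cfsg

namespace Cfsg.Agent.S4676

/-- Fix a prime p and a maximal ideal M of the algebraic integers containing p. Let B be a p-block of the finite group G with defect group P. For χ in B, let the height of χ be the exponent of p in the degree of χ minus the least such exponent over the members of B. Then the sum over χ in B of p raised to twice the height of χ is at most the integer part of (order of P)²/4, plus 1; in particular B has at most that many irreducible characters. -/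
theorem result {G : Type*} [Group G] [Fintype G] (p : ℕ) [Fact p.Prime] (M : Ideal Cfsg.AlgInt) (hM : Cfsg.IsPModular p M) (B : Set (Cfsg.IrrCharacter G)) (hB : Cfsg.IsPBlock M B) (P : Subgroup G) (hP : Cfsg.IsDefectGroup p M B P) : ∑ᶠ χ ∈ B, p ^ (2 * Cfsg.blockHeight p B (χ : G → ℂ)) ≤ Nat.card P ^ 2 / 4 + 1 := by
  classical
  haveI := CfsgLib.Blocks.isMaximal_of_isPModular hM
  have hp : p.Prime := Fact.out
  rw [CfsgLib.Blocks.card_defectGroup hM hB hP, finsum_mem_eq_toFinset_sum]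
  obtain ⟨χ, hχ, hχm⟩ :=
    CfsgLib.BlockReg.exists_minExp (p := p) (CfsgLib.BlockReg.block_nonempty hM hB)
  obtain ⟨n, hn, -⟩ := CfsgLib.BlockReg.exists_coeff (p := p) hp χ
  set a := (Nat.card G).factorization p with ha
  set m := CfsgLib.BlockReg.minExp p B with hm
  have hma : m ≤ a := hχm ▸ CfsgLib.BlockReg.factorization_deg_le χ
  have hd : blockDefect p B = a - m := CfsgLib.BlockReg.blockDefect_eq p B
  -- the squares of the degrees' p-parts are bounded by the squares of the coefficients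
  have hlow : ∀ ψ ∈ B.toFinset,
      ((p ^ (2 * m) : ℕ) : ℤ) * ((p ^ (2 * blockHeight p B (ψ : G → ℂ)) : ℕ) : ℤ) ≤ n ψ ^ 2 := by
    intro ψ hψ
    set b := (charDegree (ψ : G → ℂ)).factorization p with hb
    have hmb : m ≤ b := CfsgLib.BlockReg.minExp_le (Set.mem_toFinset.mp hψ)
    have h' : classInner (CfsgLib.BlockReg.tilde p (ψ : G → ℂ)) (χ : G → ℂ) = (n ψ : ℂ) := by
      rw [CfsgLib.BlockReg.classInner_tilde_conj, hn ψ, map_intCast]
    obtain ⟨h1, h2⟩ := CfsgLib.BlockReg.dvd_coeff_iff hM ψ χ (n ψ) h'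
    have hne : n ψ ≠ 0 := fun h0 =>
      CfsgLib.BlockReg.rInner_not_memIdeal hM hB hχ (Set.mem_toFinset.mp hψ) hχm
        (h2.mp (h0 ▸ dvd_zero _))
    have h3 : ((p ^ b : ℕ) : ℤ) ^ 2 ≤ n ψ ^ 2 := by
      obtain ⟨c, hc⟩ := h1
      have hc0 : c ≠ 0 := fun h => hne (by rw [hc, h, mul_zero])
      rw [hc, mul_pow]
      exact le_mul_of_one_le_right (sq_nonneg _)
        (by have : 0 < c ^ 2 := by positivity
            omega)
    refine le_trans (le_of_eq ?_) h3
    rw [CfsgLib.BlockReg.blockHeight_eq, ← hb, ← hm, ← Nat.cast_mul, ← pow_add]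
    push_cast
    rw [← pow_mul]
    congr 1
    omega
  have hsq := CfsgLib.BlockReg.coeff_sum_sq hp χ n hn
  rw [← ha] at hsq
  have hχF : χ ∈ B.toFinset := Set.mem_toFinset.mpr hχ
  set S := ∑ ψ ∈ B.toFinset.erase χ, p ^ (2 * blockHeight p B (ψ : G → ℂ)) with hS
  have hh0 : blockHeight p B (χ : G → ℂ) = 0 := by
    rw [CfsgLib.BlockReg.blockHeight_eq, hχm, Nat.sub_self]
  have hsplit : ∑ ψ ∈ B.toFinset, p ^ (2 * blockHeight p B (ψ : G → ℂ)) = 1 + S := by
    rw [hS, ← Finset.add_sum_erase _ _ hχF, hh0, mul_zero, pow_zero]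
  have hbound : ((p ^ (2 * m) : ℕ) : ℤ) * (S : ℤ) + n χ ^ 2 ≤ ((p ^ a : ℕ) : ℤ) * n χ := by
    rw [← hsq, hS, Nat.cast_sum, Finset.mul_sum]
    calc (∑ ψ ∈ B.toFinset.erase χ,
          ((p ^ (2 * m) : ℕ) : ℤ) * ((p ^ (2 * blockHeight p B (ψ : G → ℂ)) : ℕ) : ℤ)) + n χ ^ 2
        ≤ (∑ ψ ∈ B.toFinset.erase χ, n ψ ^ 2) + n χ ^ 2 := Int.add_le_add_right
          (Finset.sum_le_sum fun ψ hψ => hlow ψ (Finset.mem_of_mem_erase hψ)) _
      _ = ∑ ψ ∈ B.toFinset, n ψ ^ 2 := Finset.sum_erase_add _ _ hχF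
      _ ≤ _ := Finset.sum_le_sum_of_subset_of_nonneg (Finset.subset_univ _)
          fun ψ _ _ => sq_nonneg _
  have h4 : (((p ^ (2 * m) : ℕ) : ℤ)) * (4 * (S : ℤ)) ≤ ((p ^ a : ℕ) : ℤ) ^ 2 := by
    nlinarith [sq_nonneg (((p ^ a : ℕ) : ℤ) - 2 * n χ)]
  have h5 : (p ^ (2 * m)) * (4 * S) ≤ (p ^ a) ^ 2 := by exact_mod_cast h4
  have h6 : (p ^ a) ^ 2 = p ^ (2 * m) * (p ^ (a - m)) ^ 2 := by
    rw [← pow_mul, ← pow_mul, ← pow_add]
    congr 1
    omega
  rw [h6] at h5
  have h7 := Nat.le_of_mul_le_mul_left h5 (pow_pos hp.pos _)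
  rw [hsplit, hd]
  omega

end Cfsg.Agent.S4676
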