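import Cfsg.Statements.S4677
import Cfsg.Agent.Lib.Blocks.Pairs.Saturation

set_option autoImplicit false
open Cfsg CfsgLib.Blocks CfsgLib.Blocks.Pairs

namespace Cfsg.Agent.S4677

/-- Fix a prime p and a maximal ideal M of the algebraic integers containing p, a p-block B of the finite group G and a maximal Brauer pair (P, e) of B. Then the fusion system of B on (P, e) exists and is saturated: there is a saturated fusion system over P, with ambient group G, whose maps with source a subgroup Q of P are exactly the conjugation maps by elements g of G that carry the Brauer pair (Q, e_Q) below (P, e) to a Brauer pair again below (P, e). -/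
theorem result {G : Type*} [Group G] [Fintype G] (p : ℕ) [Fact p.Prime] (M : Ideal Cfsg.AlgInt) (hM : Cfsg.IsPModular p M) (B : Set (Cfsg.IrrCharacter G)) (P : Subgroup G) (e : Set (Cfsg.IrrCharacter (Subgroup.centralizer (P : Set G)))) (hmax : Cfsg.IsMaximalBrauerPair p M B P e) : ∃ F : Cfsg.FusionSystem P, Cfsg.IsBlockFusionSystemOn p M B P e F ∧ F.IsSaturated p := by
  haveI := isMaximal_of_isPModular hM
  haveI : CharP (ResField M) p := charP_resField hM.1 (natCast_mem_of_isPModular hM)
  obtain ⟨hB, he, hP, hno⟩ := noExt_of_isMaximalBrauerPair hM hmax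
  refine ⟨pairFusion p P (eIn he) hP.pair, ⟨hmax, fun Q φ => ?_⟩,
    isSaturated_pairFusion hM hP hno⟩
  constructor
  · rintro ⟨g, hg, f, h1, h2⟩
    obtain ⟨f₀, hf₀, rfl⟩ := exists_eIn_eq (h1.pair_left hP.pair).block
    obtain ⟨hc, hce⟩ := conjBlock_spec Q g hf₀
    rw [← hce] at h2
    exact ⟨h1.le, g, hg, h2.le, f₀, subpairLE_of_sle hM hf₀ he h1,
      subpairLE_of_sle hM hc he h2⟩
  · rintro ⟨hQ, g, hg, hmap, f₀, h1, h2⟩
    have hf₀ : IsPBlock M f₀ := by
      rcases Relation.ReflTransGen.cases_head h1 with h | ⟨c, hc, -⟩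
      · obtain ⟨rfl, h⟩ := Sigma.mk.inj_iff.mp h
        exact eq_of_heq h ▸ he
      · exact hc.1.2
    obtain ⟨hc, hce⟩ := conjBlock_spec Q g hf₀
    obtain ⟨_, h1'⟩ := sle_of_subpairLE hM hf₀ h1
    obtain ⟨_, h2'⟩ := sle_of_subpairLE hM hc h2
    rw [hce] at h2'
    exact ⟨g, hg, eIn hf₀, h1', h2'⟩

end Cfsg.Agent.S4677
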