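import Cfsg.Statements.S4678
import Cfsg.Agent.Lib.Blk83.PairFusion

set_option autoImplicit false
open Cfsg CfsgLib.Blocks CfsgLib.Blocks.Pairs CfsgLib.Blk83

namespace Cfsg.Agent.S4678

/-- Fix a prime p and a maximal ideal M of the algebraic integers containing p, a p-block B of the finite group G with maximal Brauer pair (P, e), its fusion system F on P, and a Brauer pair (Q, f) ≤ (P, e). Then Q is fully centralized in F if and only if C_P(Q) is a defect group of f as a block of C_G(Q). -/
theorem result {G : Type*} [Group G] [Fintype G] (p : ℕ) [Fact p.Prime] (M : Ideal Cfsg.AlgInt) (hM : Cfsg.IsPModular p M) (B : Set (Cfsg.IrrCharacter G)) (P : Subgroup G) (e : Set (Cfsg.IrrCharacter (Subgroup.centralizer (P : Set G)))) (hmax : Cfsg.IsMaximalBrauerPair p M B P e) (F : Cfsg.FusionSystem P) (hF : Cfsg.IsBlockFusionSystemOn p M B P e F) (Q : Subgroup G) (f : Set (Cfsg.IrrCharacter (Subgroup.centralizer (Q : Set G)))) (hQP : Q ≤ P) (hf : Cfsg.IsPBlock M f) (hle : Cfsg.SubpairLE p M Q f P e) : F.IsFullyCentralized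 Q ↔ Cfsg.IsDefectGroup p M f ((P ⊓ Subgroup.centralizer (Q : Set G)).subgroupOf (Subgroup.centralizer (Q : Set G))) := by
  haveI := isMaximal_of_isPModular hM
  haveI : CharP (ResField M) p := charP_resField hM.1 (natCast_mem_of_isPModular hM)
  obtain ⟨hB, he, hP, hno, rfl⟩ := exists_pairFusion_eq hM hF
  obtain ⟨_, hsle⟩ := sle_of_subpairLE hM hf hle
  have hQp := hsle.pair_left hP.pair
  rw [isDefectGroup_iff_maxIn hM hf, Subgroup.map_subgroupOf_eq_of_le inf_le_right,
    maxIn_inf_iff hP hno hsle (Subgroup.centralizer_le_normalizer _) le_rfl hQp.block.mem.fixed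
      (exists_maxIn_of_isBlockIdem hM hQp.block)]
  constructor
  · rintro ⟨-, h⟩ g hg
    have := h _ ((pairFusion_isConj_iff hP hsle).2 ⟨g, rfl, hg⟩)
    unfold Cfsg.FusionSystem.centralizerIn at this
    rwa [centralizer_conjSub] at this
  · intro h
    refine ⟨hQP, fun R hR => ?_⟩
    obtain ⟨g, rfl, hg⟩ := (pairFusion_isConj_iff hP hsle).1 hR
    show Nat.card (P ⊓ Subgroup.centralizer (conjSub g Q : Set G) : Subgroup G) ≤ _
    rw [centralizer_conjSub]
    exact h g hg

end Cfsg.Agent.S4678
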