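import Cfsg.Statements.S4679
import Cfsg.Agent.Lib.Blk83.PairFusion

set_option autoImplicit false
open Cfsg CfsgLib.Blocks CfsgLib.Blocks.Pairs CfsgLib.Blk83

namespace Cfsg.Agent.S4679

/-- Fix a prime p and a maximal ideal M of the algebraic integers containing p, a p-block B of the finite group G with maximal Brauer pair (P, e), its fusion system F on P, a Brauer pair (Q, f) ≤ (P, e), and let T be the stabilizer of f in N_G(Q). Then Q is fully normalized in F if and only if N_P(Q) is a defect group of the block of T whose idempotent is that of f. -/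
theorem result {G : Type*} [Group G] [Fintype G] (p : ℕ) [Fact p.Prime] (M : Ideal Cfsg.AlgInt) (hM : Cfsg.IsPModular p M) (B : Set (Cfsg.IrrCharacter G)) (P : Subgroup G) (e : Set (Cfsg.IrrCharacter (Subgroup.centralizer (P : Set G)))) (hmax : Cfsg.IsMaximalBrauerPair p M B P e) (F : Cfsg.FusionSystem P) (hF : Cfsg.IsBlockFusionSystemOn p M B P e F) (Q : Subgroup G) (f : Set (Cfsg.IrrCharacter (Subgroup.centralizer (Q : Set G)))) (hQP : Q ≤ P) (hf : Cfsg.IsPBlock M f) (hle : Cfsg.SubpairLE p M Q f P e) (T : Subgroup G) (hT : ∀ y : G, y ∈ T ↔ y ∈ Subgroup.normalizer (Q : Set G) ∧ Cfsg.StabilizesBlock (Subgroup.centralizer (Q : Set G)) f y) : F.IsFullyNormalized Q ↔ ∃ F' : Set (Cfsg.IrrCharacter T), Cfsg.IsPBlock M F' ∧ (∀ t : T, Cfsg.blockCoeff F' t = Cfsg.subgroupBlockCoeff (Subgroup.centralizer (Q : Set G)) f (t : G)) ∧ Cfsg.IsDefectGroup p M F' ((P ⊓ Subgroup.normalizer (Q : Set G)).subgroupOf T) := by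
  haveI := isMaximal_of_isPModular hM
  haveI : CharP (ResField M) p := charP_resField hM.1 (natCast_mem_of_isPModular hM)
  obtain ⟨hB, he, hP, hno, rfl⟩ := exists_pairFusion_eq hM hF
  obtain ⟨_, hsle⟩ := sle_of_subpairLE hM hf hle
  have hQ : IsPGroup p Q := hP.pair.pgroup.to_le hQP
  obtain ⟨hTN, hCT, hfix, F₁, hF₁, hFe, hcoef⟩ := exists_block_stabilizer hM hf hQ hT
  have hTs : T = pairStab Q (eIn hf) := by
    ext y; rw [hT, mem_pairStab_iff hf]
  have hPT : ∀ g : G, SLE p (conjSub g Q) (conjA g (eIn hf)) P (eIn he) →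
      P ⊓ conjSub g T = P ⊓ Subgroup.normalizer (conjSub g Q : Set G) := fun g hg => by
    rw [hTs, conjSub_pairStab]
    exact le_antisymm (inf_le_inf_left _ fun y hy => hy.1)
      (le_inf inf_le_left (inf_normalizer_le_pairStab hP.pair hg))
  have hPT0 : P ⊓ T = P ⊓ Subgroup.normalizer (Q : Set G) :=
    le_antisymm (inf_le_inf_left _ hTN)
      (le_inf inf_le_left (hTs ▸ inf_normalizer_le_pairStab hP.pair hsle))
  have hmax : ∃ E, MaxIn p T (eIn hf) E := hFe ▸ exists_maxIn hM hF₁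
  have key : MaxIn p T (eIn hf) (P ⊓ Subgroup.normalizer (Q : Set G)) ↔
      (pairFusion p P (eIn he) hP.pair).IsFullyNormalized Q := by
    rw [← hPT0, maxIn_inf_iff hP hno hsle hTN hCT hfix hmax]
    constructor
    · intro h
      refine ⟨hQP, fun R hR => ?_⟩
      obtain ⟨g, rfl, hg⟩ := (pairFusion_isConj_iff hP hsle).1 hR
      show Nat.card (P ⊓ Subgroup.normalizer (conjSub g Q : Set G) : Subgroup G) ≤
        Nat.card (P ⊓ Subgroup.normalizer (Q : Set G) : Subgroup G)
      rw [← hPT g hg, ← hPT0]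
      exact h g hg
    · rintro ⟨-, h⟩ g hg
      rw [hPT g hg, hPT0]
      exact h _ ((pairFusion_isConj_iff hP hsle).2 ⟨g, rfl, hg⟩)
  rw [← key]
  have hNT : P ⊓ Subgroup.normalizer (Q : Set G) ≤ T := hPT0 ▸ inf_le_right
  constructor
  · intro h
    refine ⟨F₁, hF₁, hcoef, ?_⟩
    rw [isDefectGroup_iff_maxIn hM hF₁, Subgroup.map_subgroupOf_eq_of_le hNT, hFe]
    exact h
  · rintro ⟨F', hF', hcoef', hD⟩
    rw [isDefectGroup_iff_maxIn hM hF', Subgroup.map_subgroupOf_eq_of_le hNT,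
      eIn_eq_of_coeff hCT hf hF' hcoef'] at hD
    exact hD

end Cfsg.Agent.S4679
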