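import Cfsg.Statements.S4682
import Cfsg.Agent.Lib.Blk83.PairFusion
import Cfsg.Agent.Lib.Solvable.Basic

set_option autoImplicit false
open Cfsg CfsgLib.Blocks CfsgLib.Blocks.Pairs CfsgLib.Blk83

namespace Cfsg.Agent.S4682

/-- Fix a prime p and a maximal ideal M of the algebraic integers containing p, a p-block B of the finite group G with maximal Brauer pair (P, e), P abelian, and a Brauer pair (Q, f) ≤ (P, e). Let T_Q be the stabilizer of f in N_G(Q) and T_P the stabilizer of e in N_G(P). Then every element of T_Q is a product of an element of T_P and an element of C_G(Q); and the index of C_G(Q) in T_Q equals the index of T_P ∩ C_G(Q) in T_P ∩ N_G(Q). -/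
theorem result {G : Type*} [Group G] [Fintype G] (p : ℕ) [Fact p.Prime] (M : Ideal Cfsg.AlgInt) (hM : Cfsg.IsPModular p M) (B : Set (Cfsg.IrrCharacter G)) (P : Subgroup G) (e : Set (Cfsg.IrrCharacter (Subgroup.centralizer (P : Set G)))) (hmax : Cfsg.IsMaximalBrauerPair p M B P e) (hab : ∀ x ∈ P, ∀ y ∈ P, x * y = y * x) (Q : Subgroup G) (f : Set (Cfsg.IrrCharacter (Subgroup.centralizer (Q : Set G)))) (hQP : Q ≤ P) (hf : Cfsg.IsPBlock M f) (hle : Cfsg.SubpairLE p M Q f P e) (TQ : Subgroup G) (hTQ : ∀ y : G, y ∈ TQ ↔ y ∈ Subgroup.normalizer (Q : Set G) ∧ Cfsg.StabilizesBlock (Subgroup.centralizer (Q : Set G)) f y) (TP : Subgroup G) (hTP : ∀ y : G, y ∈ TP ↔ y ∈ Subgroup.normalizer (P : Set G) ∧ Cfsg.StabilizesBlock (Subgroup.centralizer (P : Set G)) e y) : (∀ x ∈ TQ, ∃ y ∈ TP, ∃ c ∈ Subgroup.centralizer (Q : Set G), x = y * c) ∧ ((Subgroup.centralizer (Q : Set G)).subgroupOf TQ).index = ((TP ⊓ Subgroup.centralizer (Q : Set G)).subgroupOf (TP ⊓ Subgroup.normalizer (Q :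 Set G))).index := by
  haveI := isMaximal_of_isPModular hM
  haveI : CharP (ResField M) p := charP_resField hM.1 (natCast_mem_of_isPModular hM)
  obtain ⟨hB, he, hP, hno⟩ := noExt_of_isMaximalBrauerPair hM hmax
  obtain ⟨_, hsle⟩ := sle_of_subpairLE hM hf hle
  have hQp := hsle.pair_left hP.pair
  have hTQ' : TQ = pairStab Q (eIn hf) := by ext y; rw [hTQ, mem_pairStab_iff hf]
  have hTP' : TP = pairStab P (eIn he) := by ext y; rw [hTP, mem_pairStab_iff he]
  subst hTQ' hTP'
  have key : ∀ x ∈ pairStab Q (eIn hf), ∃ y ∈ pairStab P (eIn he),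
      y ∈ Subgroup.normalizer (Q : Set G) ∧ ∃ c ∈ Subgroup.centralizer (Q : Set G), x = y * c :=
    fun x hx => exists_mul_of_comm hP hno hab hsle (exists_maxIn_of_isBlockIdem hM hQp.block) hx
  refine ⟨fun x hx => let ⟨y, hy, _, c, hc, h⟩ := key x hx; ⟨y, hy, c, hc, h⟩, ?_⟩
  set C := Subgroup.centralizer (Q : Set G)
  set X := pairStab P (eIn he) ⊓ Subgroup.normalizer (Q : Set G)
  have hXT : X ≤ pairStab Q (eIn hf) := by
    rintro y ⟨hy, hyN⟩
    refine ⟨hyN, ?_⟩
    have h1 := hsle.conj y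
    rw [conjSub_eq_of_mem_normalizer hyN, conjSub_eq_of_mem_normalizer hy.1, hy.2] at h1
    exact SLE.unique hP.pair h1 hsle
  have hXN : X ≤ Subgroup.normalizer (C : Set G) :=
    inf_le_right.trans (normalizer_le_normalizer_centralizer Q)
  have hsup : C ⊔ X = pairStab Q (eIn hf) := by
    refine le_antisymm (sup_le (centralizer_le_pairStab hQp) hXT) fun x hx => ?_
    obtain ⟨y, hy, hyN, c, hc, rfl⟩ := key x hx
    exact Subgroup.mul_mem _ (Subgroup.mem_sup_right ⟨hy, hyN⟩) (Subgroup.mem_sup_left hc)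
  show C.relIndex (pairStab Q (eIn hf)) = (pairStab P (eIn he) ⊓ C).relIndex X
  rw [← hsup, CfsgLib.Solvable.relIndex_sup_of_le_normalizer hXN,
    show pairStab P (eIn he) ⊓ C = C ⊓ X from le_antisymm
      (le_inf inf_le_right (le_inf inf_le_left
        (inf_le_right.trans (Subgroup.centralizer_le_normalizer _))))
      (le_inf (inf_le_right.trans inf_le_left) inf_le_left), Subgroup.inf_relIndex_right]

end Cfsg.Agent.S4682
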