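import Cfsg.Statements.S4687
import Cfsg.Agent.Lib.Blk83.PairFusion

set_option autoImplicit false
open Cfsg CfsgLib.Blocks CfsgLib.Blocks.Pairs CfsgLib.Blk83

namespace Cfsg.Agent.S4687

/-- Fix a prime p and a maximal ideal M of the algebraic integers containing p, and a p-block B of the finite group G with maximal Brauer pair (P, e), P abelian. Then B is nilpotent if and only if its inertial quotient is trivial: every element of N_G(P) stabilizing e centralizes P. -/
theorem result {G : Type*} [Group G] [Fintype G] (p : ℕ) [Fact p.Prime] (M : Ideal Cfsg.AlgInt) (hM : Cfsg.IsPModular p M) (B : Set (Cfsg.IrrCharacter G)) (P : Subgroup G) (e : Set (Cfsg.IrrCharacter (Subgroup.centralizer (P : Set G)))) (hmax : Cfsg.IsMaximalBrauerPair p M B P e) (hab : ∀ x ∈ P, ∀ y ∈ P, x * y = y * x) : Cfsg.IsNilpotentBlock p M B ↔ ∀ x : G, x ∈ Subgroup.normalizer (P : Set G) → Cfsg.StabilizesBlock (Subgroup.centralizer (P : Set G)) e x → x ∈ Subgroup.centralizer (P : Set G) := by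
  haveI := isMaximal_of_isPModular hM
  haveI : CharP (ResField M) p := charP_resField hM.1 (natCast_mem_of_isPModular hM)
  obtain ⟨hB, he, hP, hno⟩ := noExt_of_isMaximalBrauerPair hM hmax
  rw [isNilpotentBlock_iff hM hB]
  constructor
  · intro hnil x hxN hst
    have hx : x ∈ pairStab P (eIn he) := (mem_pairStab_iff he).mpr ⟨hxN, hst⟩
    obtain ⟨u, hu, hux⟩ := inner_of_nilPairs hM hP hno hnil (φ := Cfsg.conjHom P x)
      ⟨x, fun _ => rfl, eIn he, SLE.refl _ _, by
        rw [conjSub_eq_of_mem_normalizer hxN, hx.2]; exact SLE.refl _ _⟩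
    refine Subgroup.mem_centralizer_iff.mpr fun q hq => ?_
    have h1 : x * q * x⁻¹ = u * q * u⁻¹ := hux ⟨q, hq⟩
    rw [hab u hu q hq, mul_inv_cancel_right] at h1
    exact (mul_inv_eq_iff_eq_mul.mp h1).symm
  · intro h
    refine nilPairs_of_below hP hno fun Q f hle x hx _ => ?_
    obtain ⟨y, hy, -, c, hc, rfl⟩ := exists_mul_of_comm hP hno hab hle
      (exists_maxIn_of_isBlockIdem hM (hle.pair_left hP.pair).block) hx
    exact Subgroup.mul_mem _ (centralizer_anti hle.le
      (h y hy.1 ((mem_pairStab_iff he).mp hy).2)) hc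

end Cfsg.Agent.S4687
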