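import Cfsg.Statements.S4688
import Cfsg.Agent.Lib.Blk83.PairFusion
import Cfsg.Agent.Lib.Blocks.Pairs.SubTransport

set_option autoImplicit false
open Cfsg CfsgLib.Blocks CfsgLib.Blocks.Pairs CfsgLib.Blk83

namespace Cfsg.Agent.S4688

/-- Fix a prime p and a maximal ideal M of the algebraic integers containing p, and a nilpotent p-block B of the finite group G with maximal Brauer pair (P, e). Then for every Brauer pair (Q, f) of B, f is a nilpotent block of C_G(Q); and if moreover (Q, f) ≤ (P, e), then C_P(Q) is a defect group of f as a block of C_G(Q). -/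
theorem result {G : Type*} [Group G] [Fintype G] (p : ℕ) [Fact p.Prime] (M : Ideal Cfsg.AlgInt) (hM : Cfsg.IsPModular p M) (B : Set (Cfsg.IrrCharacter G)) (P : Subgroup G) (e : Set (Cfsg.IrrCharacter (Subgroup.centralizer (P : Set G)))) (hmax : Cfsg.IsMaximalBrauerPair p M B P e) (hnil : Cfsg.IsNilpotentBlock p M B) (Q : Subgroup G) (f : Set (Cfsg.IrrCharacter (Subgroup.centralizer (Q : Set G)))) (hQf : Cfsg.IsBrauerPairOf p M B Q f) : Cfsg.IsNilpotentBlock p M f ∧ (Cfsg.SubpairLE p M Q f P e → Cfsg.IsDefectGroup p M f ((P ⊓ Subgroup.centralizer (Q : Set G)).subgroupOf (Subgroup.centralizer (Q : Set G)))) := by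
  haveI := isMaximal_of_isPModular hM
  haveI : CharP (ResField M) p := charP_resField hM.1 (natCast_mem_of_isPModular hM)
  obtain ⟨hB, he, hP, hno⟩ := noExt_of_isMaximalBrauerPair hM hmax
  have hnil' := (isNilpotentBlock_iff hM hB).mp hnil
  have hf : IsPBlock M f := hQf.1.2
  have hQP' := (isBrauerPairOf_iff hM hB hf).mp hQf
  set C := Subgroup.centralizer (Q : Set G) with hC
  have hsupp : SuppIn C (eIn hf) := (isBlockIdem_eIn hf).mem.supp
  constructor
  · rw [isNilpotentBlock_iff hM hf]
    intro R a hRa x hx hreg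
    set R' := R.map C.subtype with hR'
    have hR'C : R' ≤ C := Subgroup.map_subtype_le R
    have hS : IsPGroup p (Q ⊔ R' : Subgroup G) := hQP'.pair.pgroup.to_sup_of_normal_left'
      (hRa.pair.pgroup.map _) (hR'C.trans (Subgroup.centralizer_le_normalizer _))
    have hblock : IsBlockIdem (Subgroup.centralizer ((Q ⊔ R' : Subgroup G) : Set G)) (up C a) := by
      have h1 := hRa.pair.block
      rw [centralizer_subgroupOf_map, ← isBlockIdem_up_iff, Subgroup.subgroupOf_map_subtype] at h1
      rwa [centralizer_sup]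
    have hns : NS p Q (eIn hf) (Q ⊔ R') (up C a) := by
      refine ⟨hQP'.pair, ⟨hS, hblock⟩, le_sup_left,
        sup_le Subgroup.le_normalizer (hR'C.trans (Subgroup.centralizer_le_normalizer _)),
        conjA_fixed_of_sup (suppIn_centralizer_conjFixed hsupp)
          ((isBlockIdem_eIn hf).mem.fixed.mono hR'C), ?_⟩
      rw [trunc_sup_of_supp hsupp]
      show trunc R' (up C (ebar hf)) * up C a = up C a
      rw [← up_trunc, ← up_mul, hRa.br]
    have hxG : (x : G) ∈ pairStab (Q ⊔ R') (up C a) := by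
      refine ⟨mem_normalizer_of_conjSub_eq ?_, ?_⟩
      · show (Q ⊔ R').map _ = _
        rw [Subgroup.map_sup]
        congr 1
        · exact conjSub_eq_of_mem_normalizer (Subgroup.centralizer_le_normalizer _ x.2)
        · show conjSub (x : G) (R.map C.subtype) = _
          rw [← map_conjSub, conjSub_eq_of_mem_normalizer hx.1]
      · rw [← up_conjA, hx.2]
    have h2 := hnil' _ _ (hns.pairOf_right hQP') _ hxG
      (by unfold Cfsg.IsPRegular at hreg ⊢; rwa [Subgroup.orderOf_coe])
    rw [centralizer_subgroupOf_map, Subgroup.mem_subgroupOf]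
    exact centralizer_anti le_sup_right h2
  · intro hle
    obtain ⟨_, hsle⟩ := sle_of_subpairLE hM hf hle
    rw [isDefectGroup_iff_maxIn hM hf, Subgroup.map_subgroupOf_eq_of_le inf_le_right,
      maxIn_inf_iff hP hno hsle (Subgroup.centralizer_le_normalizer _) le_rfl
        hQP'.pair.block.mem.fixed (exists_maxIn_of_isBlockIdem hM hQP'.pair.block)]
    intro g hg
    obtain ⟨u, hu, hux⟩ := inner_of_nilPairs hM hP hno hnil' (φ := Cfsg.conjHom Q g)
      ⟨g, fun _ => rfl, eIn hf, hsle, hg⟩
    have heq : conjSub g Q = conjSub u Q := by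
      ext y
      constructor
      · rintro ⟨q, hq, rfl⟩; exact ⟨q, hq, (hux ⟨q, hq⟩).symm⟩
      · rintro ⟨q, hq, rfl⟩; exact ⟨q, hq, hux ⟨q, hq⟩⟩
    rw [← centralizer_conjSub, heq, centralizer_conjSub, ← card_map_conj u⁻¹]
    refine Subgroup.card_le_of_le ?_
    rintro _ ⟨y, ⟨hyP, hyC⟩, rfl⟩
    refine Subgroup.mem_inf.mpr ⟨?_, ?_⟩
    · simpa using P.mul_mem (P.mul_mem (P.inv_mem hu) hyP) hu
    · simpa using mem_conjSub.mp hyC

end Cfsg.Agent.S4688
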