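import Cfsg.Statements.S4690
import Cfsg.Agent.Lib.BlockStar.Nilpotent

set_option autoImplicit false
open Cfsg CfsgLib.Blocks CfsgLib.Blocks.Pairs CfsgLib.BlockReg CfsgLib.BlockStar

namespace Cfsg.Agent.S4690

/-- Fix a prime p and a maximal ideal M of the algebraic integers containing p, and a nilpotent p-block B of the finite group G with defect group P. Then there is a bijection from B onto the irreducible characters of P carrying the height of each χ ∈ B to the exponent of p in the degree of its image. -/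
theorem result {G : Type*} [Group G] [Fintype G] (p : ℕ) [Fact p.Prime] (M : Ideal Cfsg.AlgInt) (hM : Cfsg.IsPModular p M) (B : Set (Cfsg.IrrCharacter G)) (hnil : Cfsg.IsNilpotentBlock p M B) (P : Subgroup G) (hP : Cfsg.IsDefectGroup p M B P) : ∃ Φ : B ≃ Cfsg.IrrCharacter P, ∀ χ : B, Cfsg.blockHeight p B ((χ : Cfsg.IrrCharacter G) : G → ℂ) = (Cfsg.charDegree ((Φ χ : Cfsg.IrrCharacter P) : P → ℂ)).factorization p := by
  haveI := hM.2.1
  haveI := charP_resField (M := M) hM.1 hM.2.2
  have hB : IsPBlock M B := hnil.1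
  have hmax := (isDefectGroup_iff_maxR hM hB).1 hP
  obtain ⟨e, he⟩ := exists_pairOf (isBlockIdem_ebar hB) hmax.pgroup hmax.ne_zero
  have hno := hmax.noExt he
  have hfus := innerFusion_of_nilPairs hM hB he hno
    ((CfsgLib.Blk83.isNilpotentBlock_iff hM hB).1 hnil)
  obtain ⟨χ₀, hχ₀, hmin⟩ := exists_minExp (p := p) (block_nonempty hM hB)
  obtain ⟨Φ, -, hΦ⟩ := exists_equiv_of_innerFusion hM hB he hno hfus hχ₀ hmin
  refine ⟨Φ.symm, fun χ => ?_⟩
  have h1 : IsPRegular p (1 : G) := by
    unfold IsPRegular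
    rw [orderOf_one, Nat.dvd_one]
    exact (Fact.out : p.Prime).ne_one
  have h2 := hΦ (Φ.symm χ) 1 h1
  rw [Equiv.apply_symm_apply] at h2
  have hdeg := charDegree_eq_mul (χ := χ₀) (ξ := (χ : IrrCharacter G)) (Φ.symm χ).2 h2
  rw [blockHeight_eq, hdeg, Nat.factorization_mul (deg_pos (Φ.symm χ)).ne' (deg_pos χ₀).ne',
    Finsupp.add_apply, hmin, Nat.add_sub_cancel]

end Cfsg.Agent.S4690
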