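import Cfsg.Statements.S4691
import Cfsg.Agent.Lib.Blk83.PrincipalPairs
import Cfsg.Agent.Lib.Blk83.PrincipalBound
import Cfsg.Agent.S0071

set_option autoImplicit false
open Cfsg

namespace Cfsg.Agent.S4691

/-- Fix a prime p and a maximal ideal M of the algebraic integers containing p. A finite group G has a normal p-complement if and only if its principal p-block is nilpotent. -/
theorem result {G : Type*} [Group G] [Fintype G] (p : ℕ) [Fact p.Prime] (M : Ideal Cfsg.AlgInt) (hM : Cfsg.IsPModular p M) : Cfsg.HasNormalPComplement p G ↔ Cfsg.IsNilpotentBlock p M (Cfsg.principalBlock M G) := by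
  constructor
  · rintro ⟨P, N, hN, hc⟩
    haveI := hN
    obtain ⟨l, hl⟩ := IsPGroup.iff_card.mp P.isPGroup'
    have hidx : N.index = p ^ l := hc.symm.index_eq_card.trans hl
    have hnd : ¬ p ∣ Nat.card N := hc.index_eq_card ▸ P.not_dvd_index
    refine ⟨CfsgLib.Blk83.principalBlock_isPBlock, fun Q e hQe x hxN _ hreg => ?_⟩
    have hxmem : x ∈ N := (CfsgLib.Blk83.isPRegular_iff_mem N hnd hidx x).mp hreg
    rw [Subgroup.mem_centralizer_iff]
    intro u hu
    have h1 : x * u * x⁻¹ * u⁻¹ ∈ Q :=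
      Q.mul_mem ((Subgroup.mem_normalizer_iff.mp hxN u).mp hu) (Q.inv_mem hu)
    have h2 : x * u * x⁻¹ * u⁻¹ ∈ N := by
      have h3 : x * (u * x⁻¹ * u⁻¹) ∈ N := N.mul_mem hxmem (hN.conj_mem _ (N.inv_mem hxmem) u)
      simpa [mul_assoc] using h3
    obtain ⟨k, hk⟩ := IsPGroup.iff_orderOf.mp hQe.1.1 ⟨_, h1⟩
    rw [← Subgroup.orderOf_coe] at hk
    have hdvd : orderOf (x * u * x⁻¹ * u⁻¹) ∣ Nat.card N := by
      have := orderOf_dvd_natCard (⟨_, h2⟩ : N)
      rwa [← Subgroup.orderOf_coe] at this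
    have hone : orderOf (x * u * x⁻¹ * u⁻¹) = 1 := by
      refine Nat.eq_one_of_dvd_coprimes
        (((Fact.out : p.Prime).coprime_iff_not_dvd.mpr hnd).pow_left k) (dvd_of_eq hk) hdvd
    rw [orderOf_eq_one_iff, mul_inv_eq_one, mul_inv_eq_iff_eq_mul] at hone
    exact hone.symm
  · intro hnil
    obtain ⟨P⟩ := (inferInstance : Nonempty (Sylow p G))
    obtain ⟨N, hN, hc⟩ := (Cfsg.Agent.S0071.result P).mpr fun Q hQ g hg hcop =>
      hnil.2 Q _ (CfsgLib.Blk83.isBrauerPairOf_principal hM Q (P.isPGroup'.to_le hQ)) g hg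
        (CfsgLib.Blk83.stabilizes_principal _ (CfsgLib.Blk83.centralizer_normalized Q hg))
        (fun h => (Fact.out : p.Prime).not_dvd_one (hcop ▸ Nat.dvd_gcd h dvd_rfl))
    exact ⟨P, N, hN, hc⟩

end Cfsg.Agent.S4691
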