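import Cfsg.Statements.S4692
import Cfsg.Agent.Lib.Blk83.PairFusion
import Cfsg.Agent.Lib.Blocks.Pairs.PPowerIndex
import Cfsg.Agent.Lib.Blocks.Pairs.PPrimeKernel
import Cfsg.Agent.Lib.Blocks.Pairs.SubTransport
import Mathlib.Data.Nat.Factorization.Induction
import Mathlib.GroupTheory.Perm.Cycle.Type
-- import your own Cfsg.Agent.* helpers here

set_option autoImplicit false
open Cfsg

namespace Cfsg.Agent.S4692

set_option maxHeartbeats 1000000
set_option synthInstance.maxHeartbeats 400000

open CfsgLib CfsgLib.Blocks CfsgLib.Blocks.Pairs CfsgLib.Blk83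
open scoped Classical

universe u

variable {G : Type u} [Group G] [Finite G] {p : ℕ} [Fact p.Prime] {M : Ideal AlgInt} [M.IsMaximal]
  {N : Subgroup G} [N.Normal]

/-- A block idempotent of `C` is central in the group algebra of `C ⊓ N`. -/
theorem inCenter_inf (hM : IsPModular p M) {k : ℕ} (hidx : N.index = p ^ k) {C : Subgroup G}
    {a : MonoidAlgebra (ResField M) G} (ha : IsBlockIdem C a) : InCenter (C ⊓ N) a := by
  refine ⟨fun g hg => ?_, ha.mem.fixed.mono inf_le_left⟩
  by_cases hgC : g ∈ C
  · refine coeff_eq_zero_of_singular hM ha.mem ha.idem (not_not.1 fun hp => hg ⟨hgC, ?_⟩)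
    exact mem_of_regular_of_index N Fact.out hidx g hp
  · exact ha.mem.supp g hgC

/-- A block of `C ⊓ N` meets just one block of `C`. -/
theorem unique_above (hM : IsPModular p M) {k : ℕ} (hidx : N.index = p ^ k) {C : Subgroup G}
    {f a b : MonoidAlgebra (ResField M) G} (hf : IsBlockIdem (C ⊓ N) f) (ha : IsBlockIdem C a)
    (hb : IsBlockIdem C b) (hfa : a * f ≠ 0) (hfb : b * f ≠ 0) : a = b := by
  by_contra hne
  have h1 := (hf.prim a (inCenter_inf hM hidx ha) ha.idem).resolve_right hfa
  have h2 := (hf.prim b (inCenter_inf hM hidx hb) hb.idem).resolve_right hfb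
  exact hf.ne_zero (by rw [← h1, ← h2, ← mul_assoc, ha.mul_eq_zero hb hne, zero_mul])

omit [M.IsMaximal] [Finite G] in
/-- An element whose prime-power parts lie in a subgroup lies in it. -/
theorem mem_of_primePow {C S : Subgroup G}
    (h : ∀ x ∈ S, ∀ q k : ℕ, q.Prime → q ≠ p → orderOf x = q ^ k → x ∈ C) :
    ∀ (n : ℕ) (x : G), x ∈ S → orderOf x = n → ¬ p ∣ n → n ≠ 0 → x ∈ C := by
  intro n
  induction n using Nat.recOnPrimeCoprime with
  | zero => exact fun x _ _ hn _ => absurd (dvd_zero p) hn
  | prime_pow q k hq =>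
    intro x hx hord hn _
    rcases eq_or_ne k 0 with rfl | hk
    · rw [pow_zero, orderOf_eq_one_iff] at hord
      exact hord ▸ C.one_mem
    · exact h x hx q k hq (fun he => hn (he ▸ dvd_pow_self q hk)) hord
  | coprime a b ha hb hab iha ihb =>
    intro x hx hord hn _
    have h1 : x ^ b ∈ C := iha _ (S.pow_mem hx b) (by
      rw [orderOf_pow_of_dvd (by omega) (hord ▸ dvd_mul_left b a), hord,
        Nat.mul_div_cancel _ (by omega)]) (fun h => hn (h.mul_right b)) (by omega)
    have h2 : x ^ a ∈ C := ihb _ (S.pow_mem hx a) (by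
      rw [orderOf_pow_of_dvd (by omega) (hord ▸ dvd_mul_right a b), hord,
        Nat.mul_div_cancel_left _ (by omega)]) (fun h => hn (h.mul_left a)) (by omega)
    have h3 : (x ^ (a : ℤ)) ^ a.gcdA b * (x ^ (b : ℤ)) ^ a.gcdB b = x := by
      rw [← zpow_mul, ← zpow_mul, ← zpow_add, ← Nat.gcd_eq_gcd_ab, hab.gcd_eq_one,
        Nat.cast_one, zpow_one]
    rw [zpow_natCast, zpow_natCast] at h3
    rw [← h3]
    exact C.mul_mem (C.zpow_mem h2 _) (C.zpow_mem h1 _)

variable [CharP (ResField M) p]

/-- Stabilizers of pairs of `G` at subgroups of `N` act trivially if the block of `N` is nilpotent. -/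
theorem trivial_of_nilpotent (hM : IsPModular p M) {k : ℕ} (hidx : N.index = p ^ k)
    {c : Set (IrrCharacter N)} (hc : IsPBlock M c) (hnil : NilPairs p (ebar hc))
    {R : Subgroup G} (hRN : R ≤ N) {b : MonoidAlgebra (ResField M) G}
    (hR : PairOf p (eIn hc) R b) {x : G} (hx : x ∈ pairStab R b) (hreg : IsPRegular p x) :
    x ∈ Subgroup.centralizer (R : Set G) := by
  have := Fintype.ofFinite G
  have hp : p.Prime := Fact.out
  refine mem_of_primePow (p := p) (S := pairStab R b) ?_ (orderOf x) x hx rfl hreg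
    (orderOf_pos x).ne'
  clear hreg hx x
  intro x hx q j hq hqp hord
  have hreg : ¬ p ∣ orderOf x := hord ▸ fun h =>
    hqp ((Nat.prime_dvd_prime_iff_eq hp hq).1 (hp.dvd_of_dvd_pow h)).symm
  set C := Subgroup.centralizer (R : Set G) with hC
  obtain ⟨f, hf, hbf⟩ : ∃ f, IsBlockIdem (C ⊓ N) f ∧ b * f ≠ 0 := by
    by_contra hcon
    push Not at hcon
    apply hR.pair.block.ne_zero
    rw [← mul_one b, ← sum_blks (F := ResField M) (C ⊓ N), Finset.mul_sum]
    exact Finset.sum_eq_zero fun f hf => hcon f (mem_blks.1 hf)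
  let O : Finset (MonoidAlgebra (ResField M) G) :=
    (Finset.univ.filter fun t : G => t ∈ C).image fun t => conjA t f
  have hO : ∀ g, g ∈ O ↔ ∃ t ∈ C, conjA t f = g := fun g => by simp [O]
  have hKn : C ≤ Subgroup.normalizer ((C ⊓ N : Subgroup G) : Set G) := fun t ht =>
    Subgroup.mem_normalizer_iff.2 fun w => by
      constructor
      · exact fun hw => ⟨C.mul_mem (C.mul_mem ht hw.1) (C.inv_mem ht),
          (inferInstance : N.Normal).conj_mem w hw.2 t⟩
      · intro hw
        refine ⟨?_, ?_⟩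
        · simpa [mul_assoc] using C.mul_mem (C.mul_mem (C.inv_mem ht) hw.1) ht
        · simpa [mul_assoc] using (inferInstance : N.Normal).conj_mem _ hw.2 t⁻¹
  have hOblk : ∀ g ∈ O, IsBlockIdem (C ⊓ N) g ∧ b * g ≠ 0 := fun g hg => by
    obtain ⟨t, ht, rfl⟩ := (hO g).1 hg
    refine ⟨hf.conj_of_normalizer (hKn ht), fun h0 => hbf ?_⟩
    rw [← conjFixed_iff.1 hR.pair.block.mem.fixed t ht, ← conjA_mul] at h0
    exact conjA_injective t (h0.trans (conjA_zero t).symm)
  have hself : f ∈ O := (hO f).2 ⟨1, C.one_mem, conjA_one f⟩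
  -- the orbit is everything under `b`
  have hall : ∀ g, IsBlockIdem (C ⊓ N) g → b * g ≠ 0 → g ∈ O := by
    intro g hg hbg
    by_contra hgO
    set S := ∑ e ∈ O, e with hS
    have hSc : InCenter C S := by
      refine ⟨fun y hy => ?_, conjFixed_iff.2 fun t ht => ?_⟩
      · rw [hS, MonoidAlgebra.coeff_sum, Finset.sum_apply']
        exact Finset.sum_eq_zero fun e he => (hOblk e he).1.mem.supp y fun h => hy h.1
      · rw [hS, conjA_sum]
        refine Finset.sum_bij (fun e _ => conjA t e) (fun e he => ?_)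
          (fun a _ c _ h => conjA_injective t h) (fun e he => ?_) (fun _ _ => rfl)
        · obtain ⟨s, hs, rfl⟩ := (hO e).1 he
          exact (hO _).2 ⟨t * s, C.mul_mem ht hs, (conjA_conjA t s f).symm⟩
        · obtain ⟨s, hs, rfl⟩ := (hO e).1 he
          exact ⟨conjA (t⁻¹ * s) f, (hO _).2 ⟨_, C.mul_mem (C.inv_mem ht) hs, rfl⟩, by
            rw [conjA_conjA, mul_inv_cancel_left]⟩
    have hSmul : ∀ e ∈ O, S * e = e := fun e he => by
      rw [hS, Finset.sum_mul, Finset.sum_eq_single e]
      · exact (hOblk e he).1.idem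
      · exact fun a ha hne => (hOblk a ha).1.mul_eq_zero (hOblk e he).1 hne
      · exact fun h => absurd he h
    have hSS : S * S = S := by
      conv_lhs => arg 2; rw [hS]
      rw [Finset.mul_sum, Finset.sum_congr rfl hSmul]
    have hSg : S * g = 0 := by
      rw [hS, Finset.sum_mul]
      exact Finset.sum_eq_zero fun e he =>
        (hOblk e he).1.mul_eq_zero hg fun h => hgO (h ▸ he)
    rcases hR.pair.block.prim S hSc hSS with h1 | h1
    · apply hbg
      rw [← h1, hR.pair.block.mem.mul_comm hSc |>.symm, mul_assoc, hSg, mul_zero]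
    · apply hbf
      rw [← hSmul f hself, ← mul_assoc, hR.pair.block.mem.mul_comm hSc, h1, zero_mul]
  -- its cardinality is a power of `p`
  obtain ⟨i, hi⟩ : ∃ i, O.card = p ^ i := by
    letI : MulAction C (MonoidAlgebra (ResField M) G) :=
      { smul := fun t a => conjA (t : G) a
        one_smul := fun a => conjA_one a
        mul_smul := fun s t a => (conjA_conjA (s : G) (t : G) a).symm }
    have horb : MulAction.orbit C f = (O : Set (MonoidAlgebra (ResField M) G)) := by
      ext g
      rw [Finset.mem_coe, hO]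
      exact ⟨fun ⟨t, ht⟩ => ⟨t, t.2, ht⟩, fun ⟨t, ht, h⟩ => ⟨⟨t, ht⟩, h⟩⟩
    have hst : (C ⊓ N).subgroupOf C ≤ MulAction.stabilizer C f := fun t ht =>
      conjFixed_iff.1 hf.mem.fixed (t : G) ht
    have hdvd : (MulAction.stabilizer C f).index ∣ N.index := by
      refine (Subgroup.index_dvd_of_le hst).trans ?_
      rw [← Subgroup.relIndex, Subgroup.inf_relIndex_left]
      exact Subgroup.relIndex_dvd_index_of_normal N C
    rw [hidx] at hdvd
    obtain ⟨i, -, hi⟩ := (Nat.dvd_prime_pow hp).1 hdvd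
    refine ⟨i, ?_⟩
    rw [← hi, MulAction.index_stabilizer, horb, Set.ncard_coe_finset]
  -- `x` fixes a member of the orbit
  have hxC : x ∈ Subgroup.normalizer (C : Set G) := normalizer_le_normalizer_centralizer R hx.1
  have hxO : ∀ g ∈ O, conjA x g ∈ O := fun g hg => by
    obtain ⟨hg1, hg2⟩ := hOblk g hg
    refine hall _ (hg1.conj_of_normalizer ?_) fun h0 => hg2 ?_
    · refine Subgroup.mem_normalizer_iff.2 fun w => ?_
      have hNw : w ∈ N ↔ x * w * x⁻¹ ∈ N :=
        ⟨fun h => (inferInstance : N.Normal).conj_mem w h x, fun h => by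
          simpa [mul_assoc] using (inferInstance : N.Normal).conj_mem _ h x⁻¹⟩
      simp only [Subgroup.mem_inf]
      exact and_congr (Subgroup.mem_normalizer_iff.1 hxC w) hNw
    · rw [← hx.2, ← conjA_mul] at h0
      exact conjA_injective x (h0.trans (conjA_zero x).symm)
  let π : Equiv.Perm O := Equiv.ofBijective (fun g => ⟨conjA x g.1, hxO g.1 g.2⟩)
    (Finite.injective_iff_bijective.1 fun a c h =>
      Subtype.ext (conjA_injective x (congrArg Subtype.val h)))
  have hπ : ∀ (m : ℕ) (g : O), ((π ^ m) g : MonoidAlgebra (ResField M) G) = conjA (x ^ m) g := by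
    intro m
    induction m with
    | zero => intro g; simp
    | succ m ih =>
      intro g
      rw [pow_succ', Equiv.Perm.mul_apply]
      show conjA x ((π ^ m) g : MonoidAlgebra (ResField M) G) = _
      rw [ih, conjA_conjA, pow_succ']
  have : Fact q.Prime := ⟨hq⟩
  have hπq : π ^ q ^ j = 1 := Equiv.ext fun g => Subtype.ext (by
    rw [hπ, ← hord, pow_orderOf_eq_one, conjA_one]; rfl)
  obtain ⟨⟨g, hgO⟩, hg⟩ := Equiv.Perm.exists_fixed_point_of_prime (p := q) (n := j)
    (σ := π) (by
      rw [Fintype.card_coe, hi]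
      exact fun h => hqp (Nat.prime_dvd_prime_iff_eq hq hp |>.1 (hq.dvd_of_dvd_pow h))) hπq
  have hgfix : conjA x g = g := congrArg Subtype.val hg
  obtain ⟨hg1, hg2⟩ := hOblk g hgO
  -- the pair of `N`
  have hxN : x ∈ N := mem_of_regular_of_index N hp hidx x hreg
  have hmap : (R.subgroupOf N).map N.subtype = R := Subgroup.map_subgroupOf_eq_of_le hRN
  have hsup : SuppIn N g := hg1.mem.supp.mono inf_le_right
  have hKmap : (Subgroup.centralizer ((R.subgroupOf N : Subgroup N) : Set N)).map N.subtype =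
      C ⊓ N := by
    rw [centralizer_subgroupOf_map, hmap, Subgroup.subgroupOf_map_subtype]
  have hdg : IsBlockIdem (Subgroup.centralizer ((R.subgroupOf N : Subgroup N) : Set N))
      (down N g) := by
    rw [← isBlockIdem_up_iff, up_down hsup, hKmap]
    exact hg1
  have hE : IsBlockIdem (⊤ : Subgroup G) (eIn hc) := hR.blockB
  have hTE : trunc R (eIn hc) * g = g := by
    refine (hg1.prim _ ⟨fun y hy => ?_, ?_⟩ (trunc_block_idem hE hR.pair.pgroup).2).resolve_right
      fun h0 => hg2 ?_
    · by_cases hyC : y ∈ C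
      · rw [coeff_trunc, if_pos hyC]
        exact (isBlockIdem_eIn hc).mem.supp y fun hyN => hy ⟨hyC, hyN⟩
      · rw [coeff_trunc, if_neg hyC]
    · exact (trunc_block_idem hE hR.pair.pgroup).1.fixed.mono inf_le_left
    · calc b * g = trunc R (eIn hc) * b * g := by rw [hR.br]
        _ = b * (trunc R (eIn hc) * g) := by
          rw [(trunc_block_idem hE hR.pair.pgroup).1.mul_comm hR.pair.block.mem, mul_assoc]
        _ = 0 := by rw [h0, mul_zero]
  have hpair : PairOf p (ebar hc) (R.subgroupOf N) (down N g) := by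
    refine ⟨isBlockIdem_ebar hc,
      ⟨hR.pair.pgroup.of_equiv (Subgroup.subgroupOfEquivOfLe hRN).symm, hdg⟩, up_injective N ?_⟩
    rw [up_mul, up_trunc, hmap, up_down hsup]
    exact hTE
  have hst : (⟨x, hxN⟩ : N) ∈ pairStab (R.subgroupOf N) (down N g) := by
    refine ⟨Subgroup.mem_normalizer_iff.2 fun w => ?_, up_injective N ?_⟩
    · exact Subgroup.mem_normalizer_iff.1 hx.1 (w : G)
    · rw [up_conjA, up_down hsup]
      exact hgfix
  have hfin := hnil _ _ hpair ⟨x, hxN⟩ hst (by
    unfold IsPRegular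
    rwa [Subgroup.orderOf_mk])
  exact Subgroup.mem_centralizer_iff.2 fun r hr =>
    congrArg Subtype.val (Subgroup.mem_centralizer_iff.1 hfin ⟨r, hRN hr⟩ hr)



/-- Fix a prime p and a maximal ideal M of the algebraic integers containing p. Let N be a normal subgroup of p-power index in the finite group G and c a p-block of N stable under conjugation by G, and let B be the p-block of G whose idempotent is that of c (it exists and is unique). Then c is nilpotent as a block of N if and only if B is nilpotent as a block of G. -/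
theorem result {G : Type*} [Group G] [Fintype G] (p : ℕ) [Fact p.Prime] (M : Ideal Cfsg.AlgInt) (hM : Cfsg.IsPModular p M) (N : Subgroup G) [N.Normal] (hN : ∃ k : ℕ, N.index = p ^ k) (c : Set (Cfsg.IrrCharacter N)) (hc : Cfsg.IsPBlock M c) (hst : ∀ x : G, Cfsg.StabilizesBlock N c x) (B : Set (Cfsg.IrrCharacter G)) (hB : Cfsg.IsPBlock M B) (hBc : ∀ g : G, Cfsg.blockCoeff B g = Cfsg.subgroupBlockCoeff N c g) : Cfsg.IsNilpotentBlock p M c ↔ Cfsg.IsNilpotentBlock p M B := by
  have : M.IsMaximal := hM.2.1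
  have : CharP (ResField M) p := charP_resField hM.1 hM.2.2
  have hp : p.Prime := Fact.out
  obtain ⟨k, hidx⟩ := hN
  have hE : ebar hB = eIn hc := ebar_eq_eIn_of_coeff hB hc hBc
  rw [isNilpotentBlock_iff hM hc, isNilpotentBlock_iff hM hB, hE]
  have hEb : IsBlockIdem (⊤ : Subgroup G) (eIn hc) := hE ▸ isBlockIdem_ebar hB
  constructor
  · intro hnil Q b hQ x hx hreg
    have hxN : x ∈ N := mem_of_regular_of_index N hp hidx x hreg
    obtain ⟨⟨f, hf⟩, -⟩ := existsUnique_sle hQ.pair (inf_le_left : Q ⊓ N ≤ Q)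
    have hxR : x ∈ Subgroup.normalizer ((Q ⊓ N : Subgroup G) : Set G) :=
      Subgroup.mem_normalizer_iff.2 fun w => by
        have hNw : w ∈ N ↔ x * w * x⁻¹ ∈ N :=
          ⟨fun h => (inferInstance : N.Normal).conj_mem w h x, fun h => by
            simpa [mul_assoc] using (inferInstance : N.Normal).conj_mem _ h x⁻¹⟩
        simp only [Subgroup.mem_inf]
        exact and_congr (Subgroup.mem_normalizer_iff.1 hx.1 w) hNw
    have hfx : x ∈ pairStab (Q ⊓ N) f := by
      refine ⟨hxR, ?_⟩
      have h1 := hf.conj x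
      rw [conjSub_eq_of_mem_normalizer hxR, conjSub_eq_of_mem_normalizer hx.1, hx.2] at h1
      exact SLE.unique hQ.pair h1 hf
    have hcR := trivial_of_nilpotent hM hidx hc hnil inf_le_right (hf.pairOf_iff.mp hQ) hfx hreg
    refine Subgroup.mem_centralizer_iff.2 fun q hq => ?_
    set r := q⁻¹ * (x * q * x⁻¹) with hr
    have hrR : r ∈ Q ⊓ N := by
      refine ⟨Q.mul_mem (Q.inv_mem hq) ((Subgroup.mem_normalizer_iff.1 hx.1 q).1 hq), ?_⟩
      rw [hr, show q⁻¹ * (x * q * x⁻¹) = q⁻¹ * x * q * x⁻¹ by group]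
      refine N.mul_mem ?_ (N.inv_mem hxN)
      simpa using (inferInstance : N.Normal).conj_mem x hxN q⁻¹
    have hxr : x * r = r * x := (Subgroup.mem_centralizer_iff.1 hcR r hrR).symm
    have hpow : ∀ m : ℕ, x ^ m * q * (x ^ m)⁻¹ = q * r ^ m := by
      intro m
      induction m with
      | zero => simp
      | succ m ih =>
        calc x ^ (m + 1) * q * (x ^ (m + 1))⁻¹ = x * (x ^ m * q * (x ^ m)⁻¹) * x⁻¹ := by
              rw [pow_succ']; group
          _ = x * (q * r ^ m) * x⁻¹ := by rw [ih]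
          _ = x * q * x⁻¹ * (x * r ^ m * x⁻¹) := by group
          _ = q * r * r ^ m := by
              rw [show x * r ^ m * x⁻¹ = r ^ m from mul_inv_eq_iff_eq_mul.2
                (Commute.pow_right hxr m), hr]
              group
          _ = q * r ^ (m + 1) := by rw [mul_assoc, ← pow_succ']
    have hrn : r ^ orderOf x = 1 := by
      have := hpow (orderOf x)
      rw [pow_orderOf_eq_one, one_mul, inv_one, mul_one] at this
      exact mul_left_cancel (a := q) (by rw [← this, mul_one])
    obtain ⟨i, hi⟩ := IsPGroup.iff_orderOf.1 (hQ.pair.pgroup.to_le (inf_le_left : Q ⊓ N ≤ Q)) ⟨r, hrR⟩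
    rw [Subgroup.orderOf_mk] at hi
    have h1 : r = 1 := orderOf_eq_one_iff.1 (Nat.eq_one_of_dvd_coprimes
      ((hp.coprime_iff_not_dvd.2 hreg).pow_left i) (hi ▸ dvd_rfl) (orderOf_dvd_of_pow_eq_one hrn))
    have := hpow 1
    rw [pow_one, h1, one_pow, mul_one] at this
    exact (mul_inv_eq_iff_eq_mul.1 this).symm
  · intro hnil R f hR x hx hreg
    have hmapC : (Subgroup.centralizer ((R : Subgroup N) : Set N)).map N.subtype =
        Subgroup.centralizer ((R.map N.subtype : Subgroup G) : Set G) ⊓ N := by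
      rw [centralizer_subgroupOf_map, Subgroup.subgroupOf_map_subtype]
    set C := Subgroup.centralizer ((R.map N.subtype : Subgroup G) : Set G) with hC
    have hf : IsBlockIdem (C ⊓ N) (up N f) := hmapC ▸ isBlockIdem_up_iff.2 hR.pair.block
    obtain ⟨b, hb, hbf⟩ : ∃ b, IsBlockIdem C b ∧ b * up N f ≠ 0 := by
      by_contra hcon
      push Not at hcon
      apply hf.ne_zero
      rw [← one_mul (up N f), ← sum_blks (F := ResField M) C, Finset.sum_mul]
      exact Finset.sum_eq_zero fun b hb => hcon b (mem_blks.1 hb)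
    have hpg : IsPGroup p (R.map N.subtype) := hR.pair.pgroup.map _
    obtain ⟨hT, hTi⟩ := trunc_block_idem hEb hpg
    have hTf : trunc (R.map N.subtype) (eIn hc) * up N f = up N f := by
      have := congrArg (up N) hR.br
      rwa [up_mul, up_trunc] at this
    have hpair : PairOf p (eIn hc) (R.map N.subtype) b := by
      refine ⟨hEb, ⟨hpg, hb⟩, (hb.prim _ hT hTi).resolve_right fun h0 => hbf ?_⟩
      rw [← hTf, ← mul_assoc, ← hT.mul_comm hb.mem, h0, zero_mul]
    have hxR : (x : G) ∈ Subgroup.normalizer ((R.map N.subtype : Subgroup G) : Set G) :=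
      Subgroup.le_normalizer_map _ ⟨x, hx.1, rfl⟩
    have hxf : conjA (x : G) (up N f) = up N f := by rw [← up_conjA, hx.2]
    have hxb : (x : G) ∈ pairStab (R.map N.subtype) b := by
      refine ⟨hxR, unique_above hM hidx hf
        (hb.conj_of_normalizer (normalizer_le_normalizer_centralizer _ hxR)) hb (fun h0 => hbf ?_) hbf⟩
      rw [← hxf, ← conjA_mul] at h0
      exact conjA_injective _ (h0.trans (conjA_zero _).symm)
    have hfin := hnil _ _ hpair (x : G) hxb (by
      unfold IsPRegular
      rwa [Subgroup.orderOf_coe])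
    exact Subgroup.mem_centralizer_iff.2 fun r hr =>
      Subtype.ext (Subgroup.mem_centralizer_iff.1 hfin (r : G) ⟨r, hr, rfl⟩)

end Cfsg.Agent.S4692
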