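import Cfsg.Statements.S4693
import Cfsg.Agent.Lib.Blk83.PairFusion

set_option autoImplicit false
open scoped Pointwise
open Cfsg CfsgLib.Blocks CfsgLib.Blocks.Pairs CfsgLib.Blk83

namespace Cfsg.Agent.S4693

/-- Fix a prime p and a maximal ideal M of the algebraic integers containing p, a p-block B of the finite group G with maximal Brauer pair (P, e) and fusion system F on P, and a Brauer pair (Q, f) ≤ (P, e) with Q centric in F. Suppose every element of G normalizes Q and stabilizes f. Then the idempotent of B agrees with that of f modulo M at every element of G, and f is the idempotent of a nilpotent block of Q·C_G(Q): some p-block of Q·C_G(Q) has the idempotent coefficients of f and is nilpotent. -/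
theorem result {G : Type*} [Group G] [Fintype G] (p : ℕ) [Fact p.Prime] (M : Ideal Cfsg.AlgInt) (hM : Cfsg.IsPModular p M) (B : Set (Cfsg.IrrCharacter G)) (P : Subgroup G) (e : Set (Cfsg.IrrCharacter (Subgroup.centralizer (P : Set G)))) (hmax : Cfsg.IsMaximalBrauerPair p M B P e) (F : Cfsg.FusionSystem P) (hF : Cfsg.IsBlockFusionSystemOn p M B P e F) (Q : Subgroup G) (f : Set (Cfsg.IrrCharacter (Subgroup.centralizer (Q : Set G)))) (hQP : Q ≤ P) (hf : Cfsg.IsPBlock M f) (hle : Cfsg.SubpairLE p M Q f P e) (hcen : F.IsCentric Q) (hG : ∀ x : G, x ∈ Subgroup.normalizer (Q : Set G) ∧ Cfsg.StabilizesBlock (Subgroup.centralizer (Q : Set G)) f x) : (∀ g : G, Cfsg.MemLocalIdeal M (Cfsg.blockCoeff B g - Cfsg.subgroupBlockCoeff (Subgroup.centralizer (Q : Set G)) f g)) ∧ ∃ F' : Set (Cfsg.IrrCharacter ↥(Q ⊔ Subgroup.centralizer (Q : Set G))), Cfsg.IsPBlock M F' ∧ (∀ t : ↥(Q ⊔ Subgroup.centralizer (Q : Set G)), Cfsg.blockCoeff F' t = Cfsg.subgroupBlockCoeff (Subgroup.centralizer (Q : Set G)) f (t : G))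 ∧ Cfsg.IsNilpotentBlock p M F' := by
  haveI := isMaximal_of_isPModular hM
  haveI : CharP (ResField M) p := charP_resField hM.1 (natCast_mem_of_isPModular hM)
  obtain ⟨hB, he, hP, hno, rfl⟩ := exists_pairFusion_eq hM hF
  obtain ⟨_, hsle⟩ := sle_of_subpairLE hM hf hle
  have hQp := hsle.pair_left hP.pair
  set C := Subgroup.centralizer (Q : Set G) with hC
  set f' := eIn hf
  have hfix : ∀ x : G, conjA x f' = f' := fun x =>
    (stabilizesBlock_iff hf (normalizer_le_normalizer_centralizer Q (hG x).1)).mp (hG x).2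
  have hN : (⊤ : Subgroup G) ≤ Subgroup.normalizer (Q : Set G) := fun x _ => (hG x).1
  have hblock : IsBlockIdem (⊤ : Subgroup G) f' :=
    isBlockIdem_of_stable hQp le_top hN le_top (conjFixed_iff.mpr fun x _ => hfix x)
  have heq : ebar hB = f' := by
    refine (isBlockIdem_ebar hB).eq_of_mul_ne_zero hblock fun h0 => hQp.block.ne_zero ?_
    have h1 := (hsle.pairOf_iff.mp hP).br
    rw [← trunc_eq_self hQp.block.mem.supp, ← trunc_mul hQp.pgroup
      ((isBlockIdem_ebar hB).mem.conjFixed_top _) (hblock.mem.conjFixed_top _), h0, trunc_zero,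
      trunc_eq_self hQp.block.mem.supp] at h1
    exact h1.symm
  refine ⟨fun g => ?_, ?_⟩
  · have h1 := congrArg (fun a => a.coeff g) heq
    simp only [f', coeff_ebar, coeff_eIn] at h1
    exact (memLocalIdeal_sub_iff (x := ⟨_, blockCoeff_mem hB g⟩)
      (y := ⟨_, subgroupBlockCoeff_mem hf g⟩)).mpr h1
  · set T := Q ⊔ C with hTdef
    have hTN : T ≤ Subgroup.normalizer (Q : Set G) := le_top.trans hN
    have hfixT : ConjFixed T f' := conjFixed_iff.mpr fun x _ => hfix x
    obtain ⟨F', hF', hFe⟩ :=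
      exists_eIn_eq (isBlockIdem_of_stable hQp le_sup_left hTN le_sup_right hfixT)
    refine ⟨F', hF', fun t => blockCoeff_eq_subgroupBlockCoeff hf le_sup_right
      (hTN.trans (normalizer_le_normalizer_centralizer Q)) hfixT hF' hFe t, ?_⟩
    rw [isNilpotentBlock_iff hM hF']
    intro R a hRa x hx hreg
    have hZ := (isCentric_iff hM hP hno hsle).mp hcen
    set R' := R.map T.subtype
    have hR'T : R' ≤ T := Subgroup.map_subtype_le R
    have hR'ne : trunc R' f' ≠ 0 := by
      intro h0
      refine hRa.trunc_ne_zero ?_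
      by_contra hne
      refine (trunc_down_ne_zero_iff (up_suppIn T (ebar hF')) R).mp (by rwa [down_up]) ?_
      show trunc R' (eIn hF') = 0
      rw [hFe]; exact h0
    set S := Q ⊔ R'
    have hS : IsPGroup p S := hQp.pgroup.to_sup_of_normal_left'
      (hRa.pair.pgroup.map _) (hR'T.trans hTN)
    have hne : trunc (S ⊓ C) f' ≠ 0 := trunc_ne_zero_of_le inf_le_left
      (by rw [trunc_sup_of_supp hQp.block.mem.supp]; exact hR'ne)
    have heqS : Q ⊓ C = S ⊓ C := Subgroup.eq_of_le_of_card_ge (inf_le_inf_right _ le_sup_left)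
      (maxIn_card_le hZ inf_le_right (hS.to_le inf_le_left) hne)
    haveI : (Q.subgroupOf T).Normal := Subgroup.normal_subgroupOf_of_le_normalizer hTN
    have hdec : ∀ y ∈ T, ∃ q ∈ Q, q⁻¹ * y ∈ C := by
      intro y hy
      have hy' : y ∈ (Q : Set G) * (C : Set G) := by
        rw [← Subgroup.coe_mul_of_left_le_normalizer_right Q C
          (Subgroup.le_normalizer.trans (normalizer_le_normalizer_centralizer Q))]
        exact hy
      obtain ⟨q, hq, c, hc, rfl⟩ := hy'
      exact ⟨q, hq, by simpa using hc⟩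
    have hRQ : R' ≤ Q := by
      intro y hy
      obtain ⟨q, hq, hc⟩ := hdec y (hR'T hy)
      have h1 : q⁻¹ * y ∈ Q ⊓ C := heqS ▸ Subgroup.mem_inf.mpr
        ⟨S.mul_mem (S.inv_mem (Subgroup.mem_sup_left hq)) (Subgroup.mem_sup_right hy), hc⟩
      simpa using Q.mul_mem hq h1.1
    obtain ⟨q, hq, hc⟩ := hdec x x.2
    obtain ⟨k, hk⟩ := hQp.pgroup ⟨q, hq⟩
    have hxC : (x : G) ∈ C := mem_centralizer_of_regular (hTN x.2) (Subgroup.le_normalizer hq)
      (by unfold Cfsg.IsPRegular at hreg ⊢; rwa [Subgroup.orderOf_coe])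
      (congrArg Subtype.val hk) hc
    rw [centralizer_subgroupOf_map, Subgroup.mem_subgroupOf]
    exact centralizer_anti hRQ hxC

end Cfsg.Agent.S4693
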