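import Cfsg.Statements.S4694
import Cfsg.Agent.Lib.Blk83.Weight
import Cfsg.Agent.Lib.Blk83.PairFusion
import Cfsg.Agent.Lib.Blocks.Defect

set_option autoImplicit false
open Cfsg CfsgLib.Blocks CfsgLib.Blocks.Pairs
open scoped ComplexConjugate

namespace Cfsg.Agent.S4694

/-- Fix a prime p and a maximal ideal M of the algebraic integers containing p, a p-block B of the finite group G and a Brauer pair (Q, e) of B. Let T be the stabilizer of e in N_G(Q) and suppose that (Q, e) carries a weight: the block of T whose idempotent is that of e contains an irreducible character χ that is constant on the cosets of Q and whose degree has p-part equal to the p-part of the index of Q in T. Then Z(Q) is a defect group of e as a block of C_G(Q), and Q is the largest normal p-subgroup of T: every p-subgroup of T normalized by T lies in Q. -/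
theorem result {G : Type*} [Group G] [Fintype G] (p : ℕ) [Fact p.Prime] (M : Ideal Cfsg.AlgInt) (hM : Cfsg.IsPModular p M) (B : Set (Cfsg.IrrCharacter G)) (Q : Subgroup G) (e : Set (Cfsg.IrrCharacter (Subgroup.centralizer (Q : Set G)))) (hQe : Cfsg.IsBrauerPairOf p M B Q e) (T : Subgroup G) (hT : ∀ y : G, y ∈ T ↔ y ∈ Subgroup.normalizer (Q : Set G) ∧ Cfsg.StabilizesBlock (Subgroup.centralizer (Q : Set G)) e y) (F' : Set (Cfsg.IrrCharacter T)) (hF' : Cfsg.IsPBlock M F') (hF'e : ∀ t : T, Cfsg.blockCoeff F' t = Cfsg.subgroupBlockCoeff (Subgroup.centralizer (Q : Set G)) e (t : G)) (χ : Cfsg.IrrCharacter T) (hχ : χ ∈ F') (hχQ : ∀ q : G, q ∈ Q → ∀ t : T, ∀ t' : T, (t' : G) = q * (t : G) → (χ : T → ℂ) t' = (χ : T → ℂ) t) (hdeg : (Cfsg.charDegree (χ : T → ℂ)).factorization p + (Nat.card Q).factorization p = (Nat.card T).factorization p) : Cfsg.IsDefectGroup p M e ((Q ⊓ Subgroup.centralizer (Q : Set G)).subgroupOf (Subgroup.centralizer (Q : Set G))) ∧ ∀ R : Subgroup G, R ≤ T → IsPGroup p R → (∀ t ∈ T,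 t ∈ Subgroup.normalizer (R : Set G)) → R ≤ Q := by
  classical
  haveI := isMaximal_of_isPModular hM
  have hp : p.Prime := Fact.out
  obtain ⟨⟨hQp, he⟩, -, -⟩ := hQe
  have hCN : (Subgroup.centralizer (Q : Set G)) ≤ Subgroup.normalizer (Q : Set G) := fun c hc => by
    rw [Subgroup.mem_normalizer_iff]
    intro q
    constructor
    · intro hq
      rwa [← Subgroup.mem_centralizer_iff.mp hc q hq, mul_inv_cancel_right]
    · intro hq
      have h2 : c * (c * q * c⁻¹) = c * q := by
        rw [← Subgroup.mem_centralizer_iff.mp hc _ hq]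
        group
      rwa [← mul_left_cancel h2]
  have hCT : (Subgroup.centralizer (Q : Set G)) ≤ T := fun c hc => (hT c).mpr ⟨hCN hc, Subgroup.le_normalizer hc, fun θ hθ =>
    ⟨θ, hθ, fun k k' hk => by
      have h1 : k' = (⟨c, hc⟩ : (Subgroup.centralizer (Q : Set G))) * k * (⟨c, hc⟩ : (Subgroup.centralizer (Q : Set G)))⁻¹ := Subtype.ext (by simpa using hk)
      rw [h1]
      exact CfsgLib.Char.IsIrrCharacter.isClassFunction θ.2 k ⟨c, hc⟩⟩⟩
  have hTN : T ≤ Subgroup.normalizer (Q : Set G) := fun t ht => ((hT t).mp ht).1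
  have hQT : Q ≤ T := fun q hq => by
    refine (hT q).mpr ⟨Subgroup.le_normalizer hq, ?_, fun θ hθ => ⟨θ, hθ, fun k k' hk => ?_⟩⟩
    · rw [Subgroup.mem_normalizer_iff]
      intro h
      have hfix : ∀ x ∈ (Subgroup.centralizer (Q : Set G)), q * x * q⁻¹ = x := fun x hx => by
        rw [Subgroup.mem_centralizer_iff.mp hx q hq, mul_inv_cancel_right]
      constructor
      · intro hh
        show q * h * q⁻¹ ∈ (Subgroup.centralizer (Q : Set G))
        rw [hfix h hh]; exact hh
      · intro hh
        have h2 : q * (q * h * q⁻¹) = q * h := by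
          rw [Subgroup.mem_centralizer_iff.mp hh q hq]
          group
        show h ∈ (Subgroup.centralizer (Q : Set G))
        rw [← mul_left_cancel h2]; exact hh
    · have h1 : k' = k := Subtype.ext (by
        rw [hk, Subgroup.mem_centralizer_iff.mp k.2 q hq, mul_inv_cancel_right])
      rw [h1]
  haveI hQn : (Q.subgroupOf T).Normal := Subgroup.normal_subgroupOf_of_le_normalizer hTN
  haveI hCn : ((Subgroup.centralizer (Q : Set G)).subgroupOf T).Normal := Subgroup.normal_subgroupOf_of_le_normalizer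
    (hTN.trans (normalizer_le_normalizer_centralizer Q))
  haveI : Fintype T := Fintype.ofFinite T
  have hinv : ∀ g : T, ∀ q ∈ Q.subgroupOf T, (χ : T → ℂ) (g * q) = (χ : T → ℂ) g := fun g q hq =>
    hχQ _ (Subgroup.mem_subgroupOf.mp (hQn.conj_mem q hq g)) g (g * q) (by simp [mul_assoc])
  have hcardQ : Nat.card (Q.subgroupOf T) = Nat.card Q :=
    Nat.card_congr (Subgroup.subgroupOfEquivOfLe hQT).toEquiv
  have hdeg' : (Cfsg.charDegree (χ : T → ℂ)).factorization p +
      (Nat.card (Q.subgroupOf T)).factorization p = (Nat.card T).factorization p := by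
    rw [hcardQ]; exact hdeg
  refine ⟨?_, fun R hRT hRp hRn => ?_⟩
  · haveI : Fintype (Subgroup.centralizer (Q : Set G)) := Fintype.ofFinite (Subgroup.centralizer (Q : Set G))
    haveI : Fintype ((Subgroup.centralizer (Q : Set G)).subgroupOf T) := Fintype.ofFinite _
    -- a constituent in the block e
    obtain ⟨θ, hθe, hθc⟩ : ∃ θ ∈ e,
        Cfsg.classInner (fun c : (Subgroup.centralizer (Q : Set G)) => (χ : T → ℂ) ⟨c, hCT c.2⟩) (θ : (Subgroup.centralizer (Q : Set G)) → ℂ) ≠ 0 := by
      by_contra hcon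
      push Not at hcon
      have h1 := (CfsgLib.BlockReg.sum_blockCoeff_mul_char F' χ).1 hχ
      have h2 : ∑ t : T, Cfsg.blockCoeff F' t * (χ : T → ℂ) t = 0 := by
        have h3 : ∑ t : T, Cfsg.blockCoeff F' t * (χ : T → ℂ) t =
            ∑ c : (Subgroup.centralizer (Q : Set G)), Cfsg.blockCoeff e c * (χ : T → ℂ) ⟨c, hCT c.2⟩ := by
          symm
          refine Finset.sum_of_injOn (fun c : (Subgroup.centralizer (Q : Set G)) => (⟨c, hCT c.2⟩ : T)) ?_ (by simp) ?_ ?_
          · intro a _ b _ h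
            exact Subtype.ext (congrArg (fun t : T => (t : G)) h)
          · intro t _ ht
            have hnot : (t : G) ∉ (Subgroup.centralizer (Q : Set G)) := fun h => ht ⟨⟨t, h⟩, by simp, Subtype.ext rfl⟩
            rw [hF'e, Cfsg.subgroupBlockCoeff, dif_neg hnot, zero_mul]
          · intro c _
            rw [hF'e, Cfsg.subgroupBlockCoeff, dif_pos c.2]
        rw [h3]
        simp only [Cfsg.blockCoeff, finsum_mem_eq_toFinset_sum, Finset.mul_sum, Finset.sum_mul]
        rw [Finset.sum_comm]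
        refine Finset.sum_eq_zero fun θ hθ => ?_
        have h4 := hcon θ (Set.mem_toFinset.mp hθ)
        rw [Cfsg.classInner] at h4
        have h5 : ∑ c : (Subgroup.centralizer (Q : Set G)), (Nat.card (Subgroup.centralizer (Q : Set G)) : ℂ)⁻¹ * ((θ : (Subgroup.centralizer (Q : Set G)) → ℂ) 1 * conj ((θ : (Subgroup.centralizer (Q : Set G)) → ℂ) c)) *
            (χ : T → ℂ) ⟨c, hCT c.2⟩ = (θ : (Subgroup.centralizer (Q : Set G)) → ℂ) 1 * ((Nat.card (Subgroup.centralizer (Q : Set G)) : ℂ)⁻¹ *
              ∑ c : (Subgroup.centralizer (Q : Set G)), (χ : T → ℂ) ⟨c, hCT c.2⟩ * conj ((θ : (Subgroup.centralizer (Q : Set G)) → ℂ) c)) := by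
          rw [Finset.mul_sum, Finset.mul_sum]
          exact Finset.sum_congr rfl fun c _ => by ring
        rw [h5, h4, mul_zero]
      rw [h2, zero_div] at h1
      exact zero_ne_one h1
    let ε := Subgroup.subgroupOfEquivOfLe hCT
    let θ' : Cfsg.IrrCharacter ((Subgroup.centralizer (Q : Set G)).subgroupOf T) :=
      ⟨(θ : (Subgroup.centralizer (Q : Set G)) → ℂ) ∘ ε, CfsgLib.CharTwist.isIrrCharacter_comp_equiv θ.2 ε⟩
    have hθ'c : Cfsg.classInner (fun n : (Subgroup.centralizer (Q : Set G)).subgroupOf T => (χ : T → ℂ) n)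
        (θ' : (Subgroup.centralizer (Q : Set G)).subgroupOf T → ℂ) ≠ 0 := by
      rw [show (fun n : (Subgroup.centralizer (Q : Set G)).subgroupOf T => (χ : T → ℂ) n) =
        (fun c : (Subgroup.centralizer (Q : Set G)) => (χ : T → ℂ) ⟨c, hCT c.2⟩) ∘ ε from rfl]
      show Cfsg.classInner _ ((θ : (Subgroup.centralizer (Q : Set G)) → ℂ) ∘ ε) ≠ 0
      rw [CfsgLib.Clifford.classInner_comp_equiv]
      exact hθc
    obtain ⟨htriv, hdθ⟩ := CfsgLib.Blk83.defectZero_constituent (p := p) (Q.subgroupOf T)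
      ((Subgroup.centralizer (Q : Set G)).subgroupOf T) (fun q hq c hc => Subtype.ext
        (Subgroup.mem_centralizer_iff.mp (Subgroup.mem_subgroupOf.mp hc) _
          (Subgroup.mem_subgroupOf.mp hq)))
      χ hinv hdeg' θ' hθ'c
    -- transport to (Subgroup.centralizer (Q : Set G))
    set Z := (Q ⊓ (Subgroup.centralizer (Q : Set G))).subgroupOf (Subgroup.centralizer (Q : Set G)) with hZ
    have hZc : Z ≤ Subgroup.center (Subgroup.centralizer (Q : Set G)) := fun z hz => by
      rw [Subgroup.mem_center_iff]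
      exact fun c => Subtype.ext (Subgroup.mem_centralizer_iff.mp c.2 _
        (Subgroup.mem_inf.mp (Subgroup.mem_subgroupOf.mp hz)).1).symm
    haveI hZn : Z.Normal := ⟨fun z hz c => by
      rwa [Subgroup.mem_center_iff.mp (hZc hz) c, mul_inv_cancel_right]⟩
    have hZp : IsPGroup p Z :=
      (hQp.to_le inf_le_left).comap_subtype
    have hmemZ : ∀ c : (Subgroup.centralizer (Q : Set G)).subgroupOf T, ε c ∈ Z ↔ c ∈ (Q.subgroupOf T).subgroupOf ((Subgroup.centralizer (Q : Set G)).subgroupOf T) :=
      fun c => by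
        simp only [hZ, Subgroup.mem_subgroupOf, Subgroup.mem_inf]
        exact ⟨fun h => h.1, fun h => ⟨h, (ε c).2⟩⟩
    have htrivC : ∀ z ∈ Z, (θ : (Subgroup.centralizer (Q : Set G)) → ℂ) z = (θ : (Subgroup.centralizer (Q : Set G)) → ℂ) 1 := fun z hz => by
      have h := htriv (ε.symm z) ((hmemZ _).mp (by rwa [ε.apply_symm_apply]))
      simpa [θ'] using h
    have hcardZ : Nat.card ((Q.subgroupOf T).subgroupOf ((Subgroup.centralizer (Q : Set G)).subgroupOf T)) = Nat.card Z :=
      Nat.card_congr (ε.toEquiv.subtypeEquiv fun c => (hmemZ c).symm)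
    have hdegC : (Cfsg.charDegree (θ : (Subgroup.centralizer (Q : Set G)) → ℂ)).factorization p + (Nat.card Z).factorization p =
        (Nat.card (Subgroup.centralizer (Q : Set G))).factorization p := by
      rw [← hcardZ, ← Nat.card_congr ε.toEquiv, ← hdθ]
      congr 3
    have hmin := CfsgLib.Blk83.minExp_eq_of_central hM Z hZc hZp he hθe htrivC hdegC
    obtain ⟨D, hD⟩ := exists_defectGroup hM he
    have hle : Z ≤ D := le_defectGroup_of_normal hM he hD hZp
    obtain ⟨k, hk⟩ := IsPGroup.iff_card.mp hZp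
    have hcard : Nat.card D = Nat.card Z := by
      rw [card_defectGroup hM he hD, CfsgLib.BlockReg.blockDefect_eq, hmin, ← hdegC,
        Nat.add_sub_cancel_left, hk, hp.factorization_pow, Finsupp.single_eq_same]
    rwa [← Subgroup.eq_of_le_of_card_ge hle hcard.le] at hD
  · haveI : (R.subgroupOf T).Normal := Subgroup.normal_subgroupOf_of_le_normalizer hRn
    have h := CfsgLib.Blk83.normal_pgroup_le_of_defectZero (p := p) (Q.subgroupOf T)
      (R.subgroupOf T) hRp.comap_subtype χ
      (fun q hq => by simpa using hinv 1 q hq) hdeg'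
    exact fun r hr => h (x := ⟨r, hRT hr⟩) hr

end Cfsg.Agent.S4694
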