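import Cfsg.Statements.S4708
import Cfsg.Agent.Lib.Blk83.PrincipalKernel
import Cfsg.Agent.Lib.BlockReg.Foundation
import Mathlib.Algebra.Order.Chebyshev

set_option autoImplicit false
open Cfsg

namespace Cfsg.Agent.S4708

open CfsgLib.BlockReg
open scoped ComplexConjugate

/-- Let p be a prime, M a maximal ideal of the algebraic integers containing p, G a finite group and H a normal subgroup. Write λ(X) for the sum of the squares of the degrees of the irreducible characters in the principal p-block of a group X. Then λ(H) ≤ λ(G) ≤ [G : H]·λ(H). -/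
theorem result {G : Type*} [Group G] [Finite G] (p : ℕ) [Fact p.Prime] (M : Ideal Cfsg.AlgInt) (hM : Cfsg.IsPModular p M) (H : Subgroup G) [H.Normal] : (∑ᶠ θ ∈ Cfsg.principalBlock M H, Cfsg.charDegree (θ : H → ℂ) ^ 2) ≤ (∑ᶠ χ ∈ Cfsg.principalBlock M G, Cfsg.charDegree (χ : G → ℂ) ^ 2) ∧ (∑ᶠ χ ∈ Cfsg.principalBlock M G, Cfsg.charDegree (χ : G → ℂ) ^ 2) ≤ H.index * ∑ᶠ θ ∈ Cfsg.principalBlock M H, Cfsg.charDegree (θ : H → ℂ) ^ 2 := by
  classical
  have := Fintype.ofFinite G
  have : Fintype (ConjClasses G) := Fintype.ofFinite _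
  set z : G → ℂ := Cfsg.subgroupBlockCoeff H (Cfsg.principalBlock M H) with hz
  have hzconj : ∀ g k : G, z (k * g * k⁻¹) = z g := fun g k =>
    CfsgLib.Blk83.subgroupBlockCoeff_principal_conj H (by rw [Subgroup.normalizer_eq_top H]; trivial) g
  have hzidem : ∀ g, ∑ y, z y * z (y⁻¹ * g) = z g := by
    intro g
    rw [← Finset.sum_filter_add_sum_filter_not Finset.univ (fun y => y ∈ H),
      Finset.sum_eq_zero (s := Finset.univ.filter fun y => y ∉ H) (fun y hy => by
        rw [hz, CfsgLib.Blk83.subgroupBlockCoeff_of_notMem H _ (Finset.mem_filter.mp hy).2, zero_mul]),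
      add_zero, Finset.sum_subtype (Finset.univ.filter fun y => y ∈ H) (p := fun y => y ∈ H) (by simp)]
    by_cases hg : g ∈ H
    · rw [hz, CfsgLib.Blk83.subgroupBlockCoeff_of_mem H _ hg, ← blockCoeff_conv _ (⟨g, hg⟩ : H)]
      refine Finset.sum_congr rfl fun y _ => ?_
      rw [CfsgLib.Blk83.subgroupBlockCoeff_of_mem H _ y.2,
        CfsgLib.Blk83.subgroupBlockCoeff_of_mem H _ (H.mul_mem (H.inv_mem y.2) hg)]
      rfl
    · rw [hz, CfsgLib.Blk83.subgroupBlockCoeff_of_notMem H _ hg]
      refine Finset.sum_eq_zero fun y _ => ?_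
      rw [CfsgLib.Blk83.subgroupBlockCoeff_of_notMem H _ (g := (y : G)⁻¹ * g)
        (fun h => hg (by simpa using H.mul_mem y.2 h)), mul_zero]
  have h01 : ∀ χ : Cfsg.IrrCharacter G, omegaFun χ z = 0 ∨ omegaFun χ z = 1 := by
    intro χ
    have h := omegaFun_conv χ z z hzconj
    simp only [hzidem] at h
    rcases eq_or_ne (omegaFun χ z) 0 with h0 | h0
    · exact Or.inl h0
    · exact Or.inr (mul_left_cancel₀ h0 (by rw [mul_one]; exact h.symm))
  have hzR : ∀ g, Cfsg.MemLocalRing M (z g) := fun g => by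
    by_cases hg : g ∈ H
    · rw [hz, CfsgLib.Blk83.subgroupBlockCoeff_of_mem H _ hg]
      exact memRing_blockCoeff hM CfsgLib.Blk83.principalBlock_isPBlock _
    · rw [hz, CfsgLib.Blk83.subgroupBlockCoeff_of_notMem H _ hg]
      exact memRing_zero hM
  have hzsum : ∑ g, z g = 1 := by
    rw [← Finset.sum_filter_add_sum_filter_not Finset.univ (fun y => y ∈ H),
      Finset.sum_eq_zero (s := Finset.univ.filter fun y => y ∉ H) (fun y hy => by
        rw [hz, CfsgLib.Blk83.subgroupBlockCoeff_of_notMem H _ (Finset.mem_filter.mp hy).2]),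
      add_zero, Finset.sum_subtype (Finset.univ.filter fun y => y ∈ H) (p := fun y => y ∈ H) (by simp),
      ← CfsgLib.Blk83.sum_blockCoeff_principal (G := H) hM]
    exact Finset.sum_congr rfl fun y _ => by rw [hz, CfsgLib.Blk83.subgroupBlockCoeff_of_mem H _ y.2]
  have hB1 : ∀ χ ∈ Cfsg.principalBlock M G, omegaFun χ z = 1 := by
    intro χ hχ
    refine (h01 χ).resolve_left fun h0 => not_memIdeal_one hM ?_
    have h1 : omegaFun (CfsgLib.Char.principalIrr : Cfsg.IrrCharacter G) z = 1 := by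
      simp [omegaFun, hzsum]
    have h2 : ∀ ξ : Cfsg.IrrCharacter G, omegaFun ξ z = ∑ C : ConjClasses G, z C.out *
        Cfsg.centralChar (ξ : G → ℂ) C.out := fun ξ =>
      sum_mul_char_div ξ z (fun g h hgh => by
        obtain ⟨k, rfl⟩ := isConj_iff.mp hgh
        exact (hzconj g k).symm)
    have h3 : Cfsg.MemLocalIdeal M (omegaFun (CfsgLib.Char.principalIrr : Cfsg.IrrCharacter G) z - omegaFun χ z) := by
      rw [h2, h2, ← Finset.sum_sub_distrib]
      refine memIdeal_sum hM _ fun C _ => ?_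
      rw [← mul_sub]
      exact memIdeal_mul_left hM (hzR _) (hχ C.out)
    rwa [h1, h0, sub_zero] at h3
  constructor
  · -- every character of `b₀` is covered
    have hcov : ∀ θ ∈ Cfsg.principalBlock M H, ∃ χ ∈ Cfsg.principalBlock M G,
        Cfsg.classInner (fun h : H => (χ : G → ℂ) h) (θ : H → ℂ) ≠ 0 := by
      intro θ hθ
      by_contra hcon
      push Not at hcon
      have hzero : Cfsg.classInner (Cfsg.indFun H (θ : H → ℂ)) (CfsgLib.Blk83.regFun (G := G) p) = 0 := by
        rw [CfsgLib.Char.classInner_eq_sum (CfsgLib.Char.isClassFunction_indFun _ _)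
          (CfsgLib.Blk83.isClassFunction_regFun p)]
        refine Finset.sum_eq_zero fun χ _ => ?_
        by_cases hχ : χ ∈ Cfsg.principalBlock M G
        · rw [CfsgLib.Char.classInner_indFun (hχ := CfsgLib.Char.IsIrrCharacter.isClassFunction χ.2),
            ← CfsgLib.Char.classInner_conj_symm (fun h : H => (χ : G → ℂ) h) (θ : H → ℂ), hcon χ hχ]
          simp
        · rw [CfsgLib.Blk83.classInner_eq_regMult p _ (fun g => CfsgLib.Blk83.conj_char χ g),
            not_not.mp fun h => hχ ((CfsgLib.Blk83.mem_principalBlock_iff p hM χ).mpr h)]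
          simp
      rw [CfsgLib.Char.classInner_indFun (hχ := CfsgLib.Blk83.isClassFunction_regFun p)] at hzero
      apply (CfsgLib.Blk83.mem_principalBlock_iff p hM θ).mp hθ
      rw [← CfsgLib.Blk83.classInner_eq_regMult p _ (fun g => CfsgLib.Blk83.conj_char θ g)]
      set c : ℂ := (p : ℂ) ^ (Nat.card G).factorization p / (p : ℂ) ^ (Nat.card H).factorization p
      have hp0 : (p : ℂ) ≠ 0 := by exact_mod_cast (Fact.out : p.Prime).ne_zero
      have hres : (fun h : H => CfsgLib.Blk83.regFun (G := G) p (h : G)) =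
          c • CfsgLib.Blk83.regFun (G := H) p := by
        funext h
        have hiff : Cfsg.IsPRegular p (h : G) ↔ Cfsg.IsPRegular p h := by
          rw [Cfsg.IsPRegular, Cfsg.IsPRegular, Subgroup.orderOf_coe]
        simp only [CfsgLib.Blk83.regFun, Cfsg.pRegularPart, Pi.smul_apply, smul_eq_mul, mul_ite, mul_zero]
        refine if_congr hiff ?_ rfl
        simp [c, hp0]
      rw [hres, CfsgLib.Char.classInner_smul_right, mul_eq_zero] at hzero
      rw [← CfsgLib.Char.classInner_conj_symm, map_eq_zero]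
      refine hzero.resolve_left ?_
      exact fun h => div_ne_zero (pow_ne_zero _ hp0) (pow_ne_zero _ hp0) ((map_eq_zero _).mp h)
    haveI : Nonempty (Cfsg.IrrCharacter G) := ⟨CfsgLib.Char.principalIrr⟩
    choose! F hF hFne using hcov
    rw [finsum_mem_eq_toFinset_sum, finsum_mem_eq_toFinset_sum,
      ← Finset.sum_fiberwise_of_maps_to (t := (Cfsg.principalBlock M G).toFinset) (g := F)
        (fun θ hθ => Set.mem_toFinset.mpr (hF θ (Set.mem_toFinset.mp hθ)))]
    refine Finset.sum_le_sum fun χ _ => ?_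
    refine (Finset.sum_sq_le_sq_sum_of_nonneg fun θ _ => Nat.zero_le _).trans (Nat.pow_le_pow_left ?_ 2)
    obtain ⟨m, hm⟩ : ∃ m : Cfsg.IrrCharacter H → ℕ, ∀ θ : Cfsg.IrrCharacter H,
        Cfsg.classInner (fun h : H => (χ : G → ℂ) h) (θ : H → ℂ) = (m θ : ℂ) :=
      ⟨_, fun θ => (CfsgLib.Char.IsCharacter.exists_nat_classInner
        (CfsgLib.Char.IsCharacter.restrict (hχ := CfsgLib.Char.IsIrrCharacter.isCharacter χ.2) H) θ.2).choose_spec⟩
    have hdec : Cfsg.charDegree (χ : G → ℂ) = ∑ θ, m θ * Cfsg.charDegree (θ : H → ℂ) := by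
      have h1 := congrFun (CfsgLib.Char.IsCharacter.eq_sum_classInner
        (CfsgLib.Char.IsCharacter.restrict (hχ := CfsgLib.Char.IsIrrCharacter.isCharacter χ.2) H)) 1
      simp only [Finset.sum_apply, Pi.smul_apply, smul_eq_mul, Subgroup.coe_one, hm,
        CfsgLib.Blk83.one_eq] at h1
      exact_mod_cast h1
    rw [hdec]
    refine le_trans (Finset.sum_le_sum fun θ hθ => ?_) (Finset.sum_le_sum_of_subset (Finset.subset_univ _))
    obtain ⟨hθb, rfl⟩ := Finset.mem_filter.mp hθ
    refine Nat.le_mul_of_pos_left _ (Nat.pos_of_ne_zero fun h0 => hFne θ (Set.mem_toFinset.mp hθb) ?_)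
    rw [hm θ, h0, Nat.cast_zero]
  · -- all of `B₀` lies over `b₀`
    have hreal : ∀ χ : Cfsg.IrrCharacter G, ∃ e : ℕ, (e = 0 ∨ e = 1) ∧ (e : ℂ) = omegaFun χ z := fun χ => by
      rcases h01 χ with h | h
      · exact ⟨0, Or.inl rfl, by simp [h]⟩
      · exact ⟨1, Or.inr rfl, by simp [h]⟩
    choose e he01 he using hreal
    have htot : ∑ χ : Cfsg.IrrCharacter G, (e χ : ℂ) * (Cfsg.charDegree (χ : G → ℂ) : ℂ) ^ 2 =
        (Nat.card G : ℂ) * z 1 := by
      simp only [he, omegaFun, ← CfsgLib.Blk83.one_eq]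
      calc ∑ χ : Cfsg.IrrCharacter G, (∑ g, z g * (χ : G → ℂ) g) / (χ : G → ℂ) 1 * (χ : G → ℂ) 1 ^ 2
          = ∑ g, z g * ∑ χ : Cfsg.IrrCharacter G, (χ : G → ℂ) g * conj ((χ : G → ℂ) 1) := by
            simp only [Finset.mul_sum]
            rw [Finset.sum_comm]
            refine Finset.sum_congr rfl fun χ _ => ?_
            rw [CfsgLib.Blk83.conj_char, inv_one, div_eq_mul_inv, Finset.sum_mul, Finset.sum_mul]
            exact Finset.sum_congr rfl fun g _ => by
              field_simp [CfsgLib.BlockReg.deg_ne_zero χ]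
        _ = (Nat.card G : ℂ) * z 1 := by
            simp only [CfsgLib.Char.sum_mul_conj]
            rw [Finset.sum_eq_single (1 : G)]
            · rw [if_pos (IsConj.refl _)]
              have : Subgroup.centralizer ({1} : Set G) = ⊤ := by
                ext y; simp [Subgroup.mem_centralizer_singleton_iff]
              rw [this, Subgroup.card_top, mul_comm]
            · intro g _ hg
              rw [if_neg (fun hc => hg ?_), mul_zero]
              obtain ⟨c, hc⟩ := isConj_iff.mp hc.symm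
              simpa using hc.symm
            · simp
    have hz1 : (Nat.card H : ℂ) * z 1 =
        ((∑ θ ∈ (Cfsg.principalBlock M H).toFinset, Cfsg.charDegree (θ : H → ℂ) ^ 2 : ℕ) : ℂ) := by
      rw [hz, CfsgLib.Blk83.subgroupBlockCoeff_of_mem H _ H.one_mem, Cfsg.blockCoeff,
        ← mul_assoc, mul_inv_cancel₀ (by exact_mod_cast Nat.card_pos.ne'), one_mul,
        finsum_mem_eq_toFinset_sum, Nat.cast_sum]
      refine Finset.sum_congr rfl fun θ _ => ?_
      change (θ : H → ℂ) 1 * conj ((θ : H → ℂ) 1) = _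
      rw [CfsgLib.Blk83.one_eq, Complex.conj_natCast, Nat.cast_pow, sq]
    have hnat : ∑ χ : Cfsg.IrrCharacter G, e χ * Cfsg.charDegree (χ : G → ℂ) ^ 2 =
        H.index * ∑ θ ∈ (Cfsg.principalBlock M H).toFinset, Cfsg.charDegree (θ : H → ℂ) ^ 2 := by
      have : ((∑ χ : Cfsg.IrrCharacter G, e χ * Cfsg.charDegree (χ : G → ℂ) ^ 2 : ℕ) : ℂ) =
          ((H.index * ∑ θ ∈ (Cfsg.principalBlock M H).toFinset, Cfsg.charDegree (θ : H → ℂ) ^ 2 : ℕ) : ℂ) := by
        rw [Nat.cast_mul, ← hz1]
        push_cast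
        rw [htot, ← mul_assoc]
        congr 1
        exact_mod_cast H.index_mul_card.symm
      exact_mod_cast this
    rw [finsum_mem_eq_toFinset_sum, finsum_mem_eq_toFinset_sum, ← hnat]
    refine le_trans (Finset.sum_le_sum fun χ hχ => ?_) (Finset.sum_le_sum_of_subset (Finset.subset_univ _))
    refine Nat.le_mul_of_pos_left _ ?_
    rcases he01 χ with h | h
    · exfalso
      have := he χ
      rw [h, Nat.cast_zero, hB1 χ (Set.mem_toFinset.mp hχ)] at this
      exact zero_ne_one this
    · omega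

end Cfsg.Agent.S4708
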