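import Cfsg.Statements.S4709
import Cfsg.Agent.Lib.Blk83.AbelianExceptionalApi

set_option autoImplicit false
open Cfsg
open scoped IsMulCommutative

namespace Cfsg.Agent.S4709

/-- Let p be a prime, M a maximal ideal of the algebraic integers containing p, and G a finite group with a nontrivial abelian Sylow p-subgroup P; put N = N_G(P), C = C_G(P). Suppose N/C is cyclic of order m with 1 < m < #P − 1 (C has index m in N and N is generated by C and one element), and C_G(y) ∩ N = C for every non-identity y ∈ P. Put r = (#P − 1)/m. Then there is s ≤ m such that the principal p-block is the disjoint union of a set X of s characters containing the principal character and a set Y of r characters, with integers a_χ ≠ 0 (χ ∈ X), d and a sign δ = ±1, such that: every χ ∈ X takes the value a_χ at every element whose p-part is a non-identity element of P; there is a map ζ from the non-principal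 linear characters ψ of P onto Y, constant on N-conjugacy classes, with ζ_ψ(z) = d + δ·Σ ψ'(y) for every z whose p-part y is a non-identity element of P, the sum running over the N-conjugates ψ' of ψ; (d − δ)^2 + (r − 1) d^2 + Σ_{χ ∈ X} a_χ^2 = m + 1; all members of Y agree on p-regular elements; and (r d − δ) η(g) + Σ_{χ ∈ X} a_χ χ(g) = 0 for every η ∈ Y and every p-regular g. -/
theorem result {G : Type*} [Group G] [Finite G] (p : ℕ) [Fact p.Prime] (M : Ideal Cfsg.AlgInt) (hM : Cfsg.IsPModular p M) (P : Sylow p G) (hab : IsMulCommutative P) (hP1 : Nat.card P ≠ 1) (m : ℕ) (hm1 : 1 < m) (hm2 : m + 1 < Nat.card P) (hCN : (Subgroup.centralizer ((P : Subgroup G) : Set G)).relIndex (Subgroup.normalizer ((P : Subgroup G) : Set G)) = m) (hcyc : ∃ g : G, g ∈ Subgroup.normalizer ((P : Subgroup G) : Set G) ∧ Subgroup.centralizer ((P : Subgroup G) : Set G) ⊔ Subgroup.zpowers g = Subgroup.normalizer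 ((P : Subgroup G) : Set G)) (hfrob : ∀ y : G, y ∈ (P : Subgroup G) → y ≠ 1 → Subgroup.centralizer ({y} : Set G) ⊓ Subgroup.normalizer ((P : Subgroup G) : Set G) = Subgroup.centralizer ((P : Subgroup G) : Set G)) : ∃ (s : ℕ) (X Y : Set (Cfsg.IrrCharacter G)), s ≤ m ∧ Cfsg.principalBlock M G = X ∪ Y ∧ Disjoint X Y ∧ Nat.card X = s ∧ Nat.card Y = (Nat.card P - 1) / m ∧ (∃ χ₁ ∈ X, (χ₁ : G → ℂ) = fun _ => 1) ∧ ∃ (a : Cfsg.IrrCharacter G → ℤ) (d δ : ℤ) (ζ : (↥(P : Subgroup G) →* ℂˣ) → Cfsg.IrrCharacter G), (δ = 1 ∨ δ = -1) ∧ (∀ χ ∈ X, a χ ≠ 0 ∧ ∀ z y : G, Cfsg.IsPPart p z y → y ∈ (P : Subgroup G) → y ≠ 1 → (χ : G → ℂ) z = (a χ : ℂ)) ∧ (∀ ψ : ↥(P : Subgroup G) →* ℂˣ, ψ ≠ 1 → ζ ψ ∈ Y) ∧ (∀ η ∈ Y, ∃ ψ : ↥(P : Subgroup G) →* ℂˣ, ψ ≠ 1 ∧ ζ ψ = η) ∧ (∀ ψ ψ' : ↥(P : Subgroup G) →* ℂˣ, ψ ≠ 1 → (∃ n : G, n ∈ Subgroup.normalizer ((P : Subgroup G) : Set G) ∧ ∀ w w' : ↥(P : Subgroup G), (w' : G) = n * w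 * n⁻¹ → ψ' w' = ψ w) → ζ ψ' = ζ ψ) ∧ (∀ ψ : ↥(P : Subgroup G) →* ℂˣ, ψ ≠ 1 → ∀ (z : G) (y : ↥(P : Subgroup G)), Cfsg.IsPPart p z (y : G) → (y : G) ≠ 1 → (ζ ψ : G → ℂ) z = (d : ℂ) + (δ : ℂ) * ∑ᶠ ψ' ∈ {ψ' : ↥(P : Subgroup G) →* ℂˣ | ∃ n : G, n ∈ Subgroup.normalizer ((P : Subgroup G) : Set G) ∧ ∀ w w' : ↥(P : Subgroup G), (w' : G) = n * w * n⁻¹ → ψ' w' = ψ w}, ((ψ' y : ℂˣ) : ℂ)) ∧ ((d - δ) ^ 2 + ((Nat.card P - 1) / m - 1 : ℤ) * d ^ 2 + ∑ᶠ χ ∈ X, a χ ^ 2 = (m : ℤ) + 1) ∧ (∀ η ∈ Y, ∀ η' ∈ Y, ∀ g : G, ¬ p ∣ orderOf g → (η : G → ℂ) g = (η' : G → ℂ) g) ∧ (∀ η ∈ Y, ∀ g : G, ¬ p ∣ orderOf g → ((((Nat.card P - 1) / m : ℕ) : ℂ) * d - δ) * (η : G → ℂ) g + ∑ᶠ χ ∈ X, (a χ : ℂ) * (χ : G → ℂ) g = 0) := by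
  classical
  haveI := hab
  haveI : Fintype (CfsgLib.Blk83.autGroup P) := Fintype.ofFinite _
  haveI := CfsgLib.Blk83.FreeOrbit.finite_orb (CfsgLib.Blk83.autGroup P)
  haveI : Fintype (CfsgLib.Blk83.FreeOrbit.Orb (CfsgLib.Blk83.autGroup P)) := Fintype.ofFinite _
  have hfix : ∀ y ∈ (P : Subgroup G), y ≠ 1 →
      Subgroup.centralizer ({y} : Set G) ⊓ Subgroup.normalizer ((P : Subgroup G) : Set G) ≤
        Subgroup.centralizer ((P : Subgroup G) : Set G) := fun y hy h1 => (hfrob y hy h1).le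
  have hT : Nat.card (CfsgLib.Blk83.autGroup P) = m :=
    (CfsgLib.Blk83.card_autGroup P).trans hCN
  obtain ⟨E⟩ := CfsgLib.Blk83.exists_exceptional (M := M) P hM hfix (by rw [hT]; exact hm2)
  have hr : Nat.card (CfsgLib.Blk83.FreeOrbit.Orb (CfsgLib.Blk83.autGroup P)) =
      (Nat.card P - 1) / m := by
    have h := CfsgLib.Blk83.FreeOrbit.card_orb_mul _ (CfsgLib.Blk83.autGroup_free P hfix)
    rw [hT] at h
    exact (Nat.div_eq_of_eq_mul_left (by omega) (Nat.sub_eq_of_eq_add h.symm)).symm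
  refine ⟨_, Cfsg.principalBlock M G \ Set.range E.μ, Set.range E.μ, E.card_le.trans hT.le,
    (Set.sdiff_union_of_subset (by rintro _ ⟨q, rfl⟩; exact E.μ_mem q)).symm,
    Set.disjoint_sdiff_left, rfl, (Nat.card_range_of_injective E.μ_injective).trans hr,
    ⟨CfsgLib.Char.principalIrr,
      ⟨CfsgLib.Blk83.principal_mem hM, fun ⟨q, hq⟩ => E.μ_ne_principal q hq⟩, rfl⟩,
    E.a, E.d, E.ε, E.zeta, E.hε,
    fun χ hχ => ⟨(E.apply_nonexc χ hχ).1, E.apply_nonexc_section hfix hM hχ⟩,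
    fun ψ hψ => E.zeta_mem hψ, fun η hη => E.exists_zeta_eq hη,
    fun ψ ψ' hψ h => E.zeta_const hψ h, fun ψ hψ z y => E.zeta_apply hfix hM hψ z y, ?_, ?_, ?_⟩
  · have h := E.norm_eq
    rw [hT, hr] at h
    have hcast : (((Nat.card P - 1) / m : ℕ) : ℤ) = ((Nat.card P : ℤ) - 1) / (m : ℤ) := by
      rw [Int.natCast_div, Nat.cast_sub (by omega), Nat.cast_one]
    rw [hcast] at h
    exact h
  · rintro _ ⟨q, rfl⟩ _ ⟨q', rfl⟩ g hg
    exact E.regular_eq q q' g hg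
  · rintro _ ⟨q, rfl⟩ g hg
    have h := E.relation q g hg
    rw [hr] at h
    exact h

end Cfsg.Agent.S4709
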