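import Cfsg.Statements.S4711
import Cfsg.Agent.Lib.BlockPrincipal.GroupAlgUnipotent
import Cfsg.Agent.Lib.Invol.PrincipalKernel
import Cfsg.Agent.Lib.FGS68.PLength
import Cfsg.Agent.S0938
import Mathlib.RepresentationTheory.Invariants

set_option autoImplicit false
open Cfsg

namespace Cfsg.Agent.S4711

open CfsgLib CfsgLib.Blocks CfsgLib.Char MonoidAlgebra
open scoped Classical ComplexConjugate

variable {G : Type*} [Group G] [Finite G]

theorem average_char {H : Type*} [Group H] [Fintype H] {V : Type*} [AddCommGroup V] [Module ℂ V]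
    [FiniteDimensional ℂ V] (τ : Representation ℂ H V) :
    (Nat.card H : ℂ)⁻¹ * ∑ h : H, τ.character h = Module.finrank ℂ τ.invariants := by
  haveI : Invertible (Fintype.card H : ℂ) := invertibleOfNonzero (Nat.cast_ne_zero.2 Fintype.card_ne_zero)
  rw [← (τ.isProj_averageMap).trace]
  simp [Representation.character, GroupAlgebra.average, map_sum, Nat.card_eq_fintype_card]

/-- If `χ` restricts irreducibly to a subgroup normalising `P`, the `P`-sums are invariant under
translation by the normal closure of `P`. -/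
theorem sum_char_invariant (P : Subgroup G) [Fintype P] (χ : IrrCharacter G)
    (hres : IsIrrCharacter ↥(Subgroup.normalizer (P : Set G))
      (fun n : ↥(Subgroup.normalizer (P : Set G)) => (χ : G → ℂ) n))
    {g : G} (hg : g ∈ Subgroup.normalClosure (P : Set G)) (x : G) :
    ∑ y : P, (χ : G → ℂ) (x * y * g) = ∑ y : P, (χ : G → ℂ) (x * y) := by
  obtain ⟨d, ρ, hρ, hχ⟩ := χ.2
  by_cases htriv : ∀ h ∈ (P : Set G), ρ h = 1
  · have hgk : ρ g = 1 :=
      (Subgroup.normalClosure_le_normal (N := MonoidHom.ker ρ) fun h hh =>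
        MonoidHom.mem_ker.2 (htriv h hh)) hg
    refine Finset.sum_congr rfl fun y _ => ?_
    rw [← hχ]
    show LinearMap.trace ℂ _ (ρ (x * y * g)) = LinearMap.trace ℂ _ (ρ (x * y))
    rw [map_mul ρ (x * y) g, hgk, mul_one]
  set N := Subgroup.normalizer (P : Set G) with hN
  obtain ⟨d', σ, hσ, hσχ⟩ := hres
  haveI := hσ
  haveI := Fintype.ofFinite (P.subgroupOf N)
  have hkey : ∀ n : N, LinearMap.trace ℂ _ (σ n) = LinearMap.trace ℂ _ (ρ (n : G)) := fun n =>
    (congrFun hσχ n).trans (congrFun hχ (n : G)).symm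
  have hker : ∃ h ∈ P.subgroupOf N, σ h ≠ 1 := by
    by_contra hno
    push Not at hno
    refine htriv fun h hh => ?_
    have h1 := hno ⟨h, Subgroup.le_normalizer hh⟩ hh
    have h2 := hkey ⟨h, Subgroup.le_normalizer hh⟩
    rw [h1, LinearMap.trace_one] at h2
    have h3 := hkey 1
    rw [map_one σ, LinearMap.trace_one, OneMemClass.coe_one, map_one ρ, LinearMap.trace_one] at h3
    exact (character_eq_degree_iff ρ h).1 (h2.symm.trans h3)
  have hbot : CharKernel.fixedSpace σ (P.subgroupOf N) = ⊥ := CharKernel.fixedSpace_eq_bot σ _ hker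
  have hinv : Representation.invariants (σ.comp (P.subgroupOf N).subtype : Representation ℂ _ _) = ⊥ :=
    hbot
  have h1 := average_char (σ.comp (P.subgroupOf N).subtype : Representation ℂ _ _)
  rw [hinv, finrank_bot, Nat.cast_zero, mul_eq_zero, or_iff_right
    (inv_ne_zero (Nat.cast_ne_zero.2 Nat.card_pos.ne'))] at h1
  have h2 := average_char (ρ.comp P.subtype : Representation ℂ _ _)
  have hsum : ∑ y : P, Representation.character (ρ.comp P.subtype : Representation ℂ P (Fin d → ℂ)) y = 0 := by
    rw [← h1]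
    exact (Fintype.sum_equiv (Subgroup.subgroupOfEquivOfLe Subgroup.le_normalizer).toEquiv _ _
      fun y => hkey y.1).symm
  rw [hsum, mul_zero, eq_comm, Nat.cast_eq_zero, Submodule.finrank_eq_zero] at h2
  have hT : ∑ y : P, ρ (y : G) = 0 := by
    refine LinearMap.ext fun v => ?_
    have hv : (∑ y : P, ρ (y : G)) v ∈
        Representation.invariants (ρ.comp P.subtype : Representation ℂ _ _) := by
      rw [Representation.mem_invariants]
      intro a
      show ρ (a : G) ((∑ y : P, ρ (y : G)) v) = _
      rw [← Module.End.mul_apply, Finset.mul_sum]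
      exact congrFun (congrArg DFunLike.coe (Fintype.sum_equiv (Equiv.mulLeft a)
        (fun y : P => ρ (a : G) * ρ (y : G)) (fun y : P => ρ (y : G)) fun y => by
          show ρ (a : G) * ρ (y : G) = ρ ((a : G) * (y : G))
          rw [map_mul])) v
    rw [h2, Submodule.mem_bot] at hv
    exact hv
  have hz : ∀ a b : G, ∑ y : P, (χ : G → ℂ) (a * y * b) = 0 := fun a b => by
    rw [← hχ]
    show ∑ y : P, LinearMap.trace ℂ _ (ρ (a * y * b)) = 0
    rw [← map_sum]
    simp only [map_mul, ← Finset.mul_sum, ← Finset.sum_mul, hT, mul_zero, zero_mul, map_zero]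
  rw [hz, ← hz x 1]
  simp

/-- The `p`-regular elements of the normal closure of `P` lie in the kernel of the block. -/
theorem mem_blockKer_of_regular (p : ℕ) [Fact p.Prime] {M : Ideal AlgInt} (hM : IsPModular p M)
    {B : Set (IrrCharacter G)} (hB : IsPBlock M B) (P : Sylow p G)
    (hres : ∀ χ ∈ B, IsIrrCharacter ↥(Subgroup.normalizer ((P : Subgroup G) : Set G))
      (fun n : ↥(Subgroup.normalizer ((P : Subgroup G) : Set G)) => (χ : G → ℂ) n))
    {g : G} (hg : g ∈ Subgroup.normalClosure ((P : Subgroup G) : Set G)) (hreg : ¬ p ∣ orderOf g) :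
    g ∈ blockKer B := by
  haveI := hM.2.1
  haveI := Fintype.ofFinite G
  haveI := Fintype.ofFinite (P : Subgroup G)
  haveI := charP_resField hM.1 hM.2.2
  set e : MonoidAlgebra (locRing M) G := (blockIdemR hB : MonoidAlgebra (locRing M) G) with he
  have hec : ∀ x : G, single x (1 : locRing M) * e = e * single x 1 := fun x =>
    Subalgebra.mem_center_iff.1 (blockIdemR hB).2 _
  have hidem : e * e = e := congrArg Subtype.val (isIdempotentElem_blockIdemR hB).eq
  have hsum : ∀ h ∈ Subgroup.normalClosure ((P : Subgroup G) : Set G), ∀ x : G,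
      ∑ y : (P : Subgroup G), e.coeff (x * y * h) = ∑ y : (P : Subgroup G), e.coeff (x * y) := by
    intro h hh x
    refine Subtype.ext ?_
    rw [AddSubmonoidClass.coe_finsetSum, AddSubmonoidClass.coe_finsetSum]
    simp only [he, coe_coeff_blockIdemR, blockCoeff_eq_sum, ← Finset.mul_sum]
    congr 1
    rw [Finset.sum_comm]
    conv_rhs => rw [Finset.sum_comm]
    refine Finset.sum_congr rfl fun χ _ => ?_
    simp only [← Finset.mul_sum, ← map_sum]
    by_cases hχ : χ ∈ B
    · rw [sum_char_invariant (P : Subgroup G) χ (hres χ hχ) hh x]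
    · simp [blockInd, hχ]
  set ek := MonoidAlgebra.mapRingHom G (red M) e with hek
  have hsingle : ∀ x : G, MonoidAlgebra.mapRingHom G (red M) (single x (1 : locRing M)) =
      single x (1 : ResField M) := fun x => by simp
  have hk : ek * single g (1 : ResField M) = ek := by
    refine BlockPrincipal.Unipotent.mul_single_eq (p := p) (fun x => ?_) ?_
      (Subgroup.normalClosure ((P : Subgroup G) : Set G)) (P : Subgroup G) P.2 ?_ hg hreg
    · rw [← hsingle, hek, ← map_mul, ← map_mul, hec]
    · rw [hek, ← map_mul, hidem]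
    · intro h hh x
      simp only [hek, Blocks.coeff_map, ← map_sum, hsum h hh x]
  have hR : e * single g (1 : locRing M) = e := by
    refine BlockPrincipal.Unipotent.lift_mul_single_eq (f := red M) (fun r hr => ?_) hec hidem
      ?_ (by rw [map_mul, hsingle]; exact hk)
    · rw [IsLocalRing.mem_maximalIdeal, mem_nonunits_iff, isUnit_iff_red_ne_zero, not_not]
      exact hr
    · rw [isUnit_iff_red_ne_zero, red_natCast, Ne, CharP.cast_eq_zero_iff (ResField M) p]
      exact hreg
  intro χ hχ
  obtain ⟨d, ρ, hρ, hρχ⟩ := χ.2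
  haveI := hρ
  have hC := congrArg (fun a => MonoidAlgebra.lift ℂ (Module.End ℂ (Fin d → ℂ)) G ρ
    (MonoidAlgebra.mapRingHom G (locRing M).subtype a)) hR
  simp only [map_mul] at hC
  have heC : MonoidAlgebra.mapRingHom G (locRing M).subtype e =
      (idemC B : MonoidAlgebra ℂ G) := by
    ext x
    rw [Blocks.coeff_map, he, coe_idemC, coeff_ofFun]
    exact coe_coeff_blockIdemR hB x
  have hone : MonoidAlgebra.lift ℂ (Module.End ℂ (Fin d → ℂ)) G ρ
      (idemC B : MonoidAlgebra ℂ G) = 1 := by
    have hf : Cfsg.IsClassFunction G (fun a => (idemC B : MonoidAlgebra ℂ G).coeff a) := fun a h =>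
      (coeff_eq_of_isConj (idemC B).2 (isConj_iff.2 ⟨h, rfl⟩ : IsConj a (h * a * h⁻¹))).symm
    have h1 := omega_idemC B χ
    rw [omega_eq_sum, blockInd, if_pos hχ, ← hρχ, Representation.char_one] at h1
    rw [lift_eq_opOfFun, opOfFun_irreducible ρ hf, h1, one_smul]
    rfl
  rw [heC, hone, one_mul] at hC
  have hg1 : ρ g = 1 := by simpa using hC
  rw [← hρχ]
  show LinearMap.trace ℂ _ (ρ g) = LinearMap.trace ℂ _ (ρ 1)
  rw [hg1, map_one ρ]


/-- Let p be a prime, M a maximal ideal of the algebraic integers containing p, G a finite group, P a Sylow p-subgroup and N = N_G(P). Then G has p-length 1 (G = O_{p',p,p'}(G)) if and only if every irreducible character in the principal p-block of G restricts to an irreducible character of N. -/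
theorem result {G : Type*} [Group G] [Finite G] (p : ℕ) [Fact p.Prime] (M : Ideal Cfsg.AlgInt) (hM : Cfsg.IsPModular p M) (P : Sylow p G) : Cfsg.PLengthLE p 1 G ↔ ∀ χ ∈ Cfsg.principalBlock M G, Cfsg.IsIrrCharacter ↥(Subgroup.normalizer ((P : Subgroup G) : Set G)) (fun n : ↥(Subgroup.normalizer ((P : Subgroup G) : Set G)) => (χ : G → ℂ) n) := by
  haveI := hM.2.1
  have hp : p.Prime := Fact.out
  have h3 : (upperPSeries p G 3).1 = (pPrimeCore p (G ⧸ (upperPSeries p G 2).1)).comap
      (QuotientGroup.mk' _) := PLoc.upperPSeries_odd 1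
  have hU1 : (upperPSeries p G 1).1 = pPrimeCore p G := FGS68.upperPSeries_one
  have hU2 : (upperPSeries p G 2).1 = (pCore p (G ⧸ (upperPSeries p G 1).1)).comap
      (QuotientGroup.mk' _) := PLoc.upperPSeries_even 0
  haveI hn1 : (upperPSeries p G 1).1.Normal := (upperPSeries p G 1).2
  haveI hn2 : (upperPSeries p G 2).1.Normal := (upperPSeries p G 2).2
  set q1 := QuotientGroup.mk' (upperPSeries p G 1).1 with hq1
  set q2 := QuotientGroup.mk' (upperPSeries p G 2).1 with hq2
  constructor
  · intro hlen χ hχ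
    have htop : pPrimeCore p (G ⧸ (upperPSeries p G 2).1) = ⊤ := by
      refine Subgroup.comap_injective (QuotientGroup.mk'_surjective _) ?_
      rw [← h3, Subgroup.comap_top]
      exact hlen
    have hcop : (Nat.card (G ⧸ (upperPSeries p G 2).1)).Coprime p := by
      have := Solvable.pPrimeCore_card_coprime p (G ⧸ (upperPSeries p G 2).1)
      rwa [htop, Subgroup.card_top] at this
    have hPle : (P : Subgroup G) ≤ (upperPSeries p G 2).1 := by
      intro x hx
      rw [← QuotientGroup.eq_one_iff, ← orderOf_eq_one_iff]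
      obtain ⟨j, hj⟩ := P.2 ⟨x, hx⟩
      have hd : orderOf (q2 x) ∣ p ^ j := orderOf_dvd_of_pow_eq_one (by
        rw [← map_pow, show x ^ p ^ j = 1 from congrArg Subtype.val hj, map_one])
      exact Nat.eq_one_of_dvd_coprimes ((hcop.pow_right j)) (orderOf_dvd_natCard _) hd
    have hfr := Sylow.normalizer_sup_eq_top' P hPle
    have hle2 : (upperPSeries p G 2).1 ≤ (P : Subgroup G) ⊔ (upperPSeries p G 1).1 := by
      rw [← QuotientGroup.ker_mk' (upperPSeries p G 1).1, ← Subgroup.comap_map_eq, hU2]
      refine Subgroup.comap_mono ?_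
      have hp' := IsPGroup.to_sup_of_normal_left (Solvable.pCore_isPGroup (p := p) _)
        (P.mapSurjective (QuotientGroup.mk'_surjective (upperPSeries p G 1).1)).2
      have := (P.mapSurjective (QuotientGroup.mk'_surjective (upperPSeries p G 1).1)).3 hp' le_sup_right
      rw [Sylow.coe_mapSurjective] at this
      exact le_sup_left.trans this.le
    have htop2 : (upperPSeries p G 1).1 ⊔ Subgroup.normalizer ((P : Subgroup G) : Set G) = ⊤ := by
      rw [eq_top_iff, ← hfr]
      exact sup_le le_sup_right (hle2.trans (sup_le (le_sup_of_le_right Subgroup.le_normalizer) le_sup_left))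
    obtain ⟨d, ρ, hρ, hρχ⟩ := χ.2
    haveI := hρ
    have hker : ∀ u ∈ (upperPSeries p G 1).1, ρ u = 1 := by
      intro u hu
      rw [hU1] at hu
      haveI : (pPrimeCore p G).Normal := hU1 ▸ hn1
      have h1 := Invol.apply_mul_of_mem_principalBlock hM
        (hp.coprime_iff_not_dvd.1 (Solvable.pPrimeCore_card_coprime p G).symm) hχ hu 1
      rw [one_mul, ← hρχ, Representation.char_one] at h1
      exact (character_eq_degree_iff ρ u).1 h1
    haveI : Nontrivial (Fin d → ℂ) := CharKernel.nontrivial_of_irreducible ρ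
    refine ⟨d, ρ.comp (Subgroup.normalizer ((P : Subgroup G) : Set G)).subtype, ?_, ?_⟩
    · refine CharKernel.isIrreducible_of_forall _ fun W hW => CharKernel.eq_bot_or_eq_top ρ W ?_
      intro g v hv
      obtain ⟨u, hu, n, hn, rfl⟩ := (Subgroup.mem_sup_of_normal_left
        (s := (upperPSeries p G 1).1)).1 (htop2 ▸ Subgroup.mem_top g)
      rw [map_mul, hker u hu, one_mul]
      exact hW ⟨n, hn⟩ v hv
    · rw [← hρχ]
      rfl
  · intro hres
    obtain ⟨K, hKn, hK, hKp, -, -⟩ := S0938.result p M hM (principalBlock M G)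
      isPBlock_principalBlock _ principalIrr_mem_principalBlock
    have hKU : K ≤ (upperPSeries p G 1).1 := hU1 ▸ Solvable.le_pPrimeCore hKn
      (hp.coprime_iff_not_dvd.2 hKp).symm
    set L := Subgroup.normalClosure ((P : Subgroup G) : Set G) with hL
    have hLp : IsPGroup p (L.map q1) := by
      rintro ⟨_, x, hx, rfl⟩
      refine ⟨(orderOf x).factorization p, Subtype.ext ?_⟩
      show (q1 x) ^ p ^ _ = 1
      rw [← map_pow, hq1, QuotientGroup.mk'_apply, QuotientGroup.eq_one_iff]
      refine hKU ?_
      rw [← SetLike.mem_coe, hK]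
      refine mem_blockKer_of_regular p hM isPBlock_principalBlock P hres
        (pow_mem hx _) ?_
      rw [orderOf_pow' x (pow_ne_zero _ hp.ne_zero), Nat.gcd_eq_right (Nat.ordProj_dvd _ p)]
      exact Nat.not_dvd_ordCompl hp (orderOf_pos x).ne'
    have hLle : L ≤ (upperPSeries p G 2).1 := by
      rw [hU2, ← Subgroup.map_le_iff_le_comap]
      exact Solvable.le_pCore (Subgroup.Normal.map inferInstance _ (QuotientGroup.mk'_surjective _)) hLp
    have hidx : (Nat.card (G ⧸ (upperPSeries p G 2).1)).Coprime p := by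
      rw [← Subgroup.index_eq_card]
      refine Nat.Coprime.coprime_dvd_left (Subgroup.index_dvd_of_le
        ((Subgroup.subset_normalClosure (s := ((P : Subgroup G) : Set G))).trans hLle)) ?_
      exact (hp.coprime_iff_not_dvd.2 P.not_dvd_index).symm
    show (upperPSeries p G 3).1 = ⊤
    rw [h3, eq_top_iff.2 (Solvable.le_pPrimeCore (N := ⊤) inferInstance (by rwa [Subgroup.card_top])),
      Subgroup.comap_top]

end Cfsg.Agent.S4711
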