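import Cfsg.Statements.S4712
import Cfsg.Agent.Lib.Blocks.PRational.Section
import Cfsg.Agent.Lib.Char.GaloisConj
import Mathlib.RingTheory.ZMod.UnitsCyclic

set_option autoImplicit false
set_option maxHeartbeats 1000000
open Cfsg

namespace Cfsg.Agent.S4712

open scoped ComplexConjugate

open CfsgLib.Char CfsgLib.BlockRank in
theorem card_fixed_ge {G : Type*} [Group G] [Fintype G] {p : ℕ} [Fact p.Prime]
    {M : Ideal Cfsg.AlgInt} (hM : Cfsg.IsPModular p M) {B : Set (Cfsg.IrrCharacter G)}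
    (hB : Cfsg.IsPBlock M B) {k : ℕ} (hk : Nat.Coprime k (Nat.card G))
    (hreg : ∀ y : G, Cfsg.IsPRegular p y → y ^ k = y) :
    Cfsg.blockRank p B ≤
      Nat.card {χ : Cfsg.IrrCharacter G // χ ∈ B ∧ CfsgLib.CharGalois.powIrr hk χ = χ} := by
  classical
  let f : G → ℂ := fun y => ∑ χ ∈ B.toFinset, (χ : G → ℂ) (y ^ k) * conj ((χ : G → ℂ) y)
  have hf : Cfsg.IsClassFunction G f := fun g h => Finset.sum_congr rfl fun χ _ => by
    rw [conj_pow, IsIrrCharacter.isClassFunction χ.2 (g ^ k) h,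
      IsIrrCharacter.isClassFunction χ.2 g h]
  have hn : (Nat.card G : ℂ) ≠ 0 := Nat.cast_ne_zero.mpr Nat.card_pos.ne'
  have hsum : ∑ g, f g = (Nat.card G : ℂ) *
      (Nat.card {χ : Cfsg.IrrCharacter G // χ ∈ B ∧ CfsgLib.CharGalois.powIrr hk χ = χ} : ℂ) := by
    rw [Finset.sum_comm]
    have h1 : ∀ χ : Cfsg.IrrCharacter G, ∑ g, (χ : G → ℂ) (g ^ k) * conj ((χ : G → ℂ) g) =
        (Nat.card G : ℂ) * if CfsgLib.CharGalois.powIrr hk χ = χ then 1 else 0 := fun χ => by
      rw [← classInner_irrCharacter (CfsgLib.CharGalois.powIrr hk χ) χ, Cfsg.classInner,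
        ← mul_assoc, mul_inv_cancel₀ hn, one_mul]
      rfl
    rw [Finset.sum_congr rfl fun χ _ => h1 χ, ← Finset.mul_sum, Finset.sum_boole,
      ← Nat.card_eq_finsetCard]
    congr 2
    exact Nat.card_congr (Equiv.subtypeEquivRight fun χ => by simp)
  -- representatives
  let rp : G → G := fun g => Quotient.out (ConjClasses.mk g)
  have hout : ∀ g : G, IsConj g (rp g) := fun g =>
    (ConjClasses.mk_eq_mk_iff_isConj.1 (Quotient.out_eq (ConjClasses.mk g))).symm
  let X : Finset G := (Finset.univ.image rp).filter fun x => ∃ k : ℕ, orderOf x = p ^ k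
  have hX : ∀ x ∈ X, ∃ k : ℕ, orderOf x = p ^ k := fun x hx => (Finset.mem_filter.1 hx).2
  have hXrep : ∀ g : G, (∃ k : ℕ, orderOf g = p ^ k) → ∃! x, x ∈ X ∧ IsConj g x := by
    intro g ⟨j, hj⟩
    refine ⟨rp g, ⟨Finset.mem_filter.2 ⟨Finset.mem_image.2 ⟨g, Finset.mem_univ _, rfl⟩, j, ?_⟩,
      hout g⟩, ?_⟩
    · obtain ⟨c, hc⟩ := isConj_iff.1 (hout g)
      rw [← hc, ← hj]
      exact MulEquiv.orderOf_eq (MulAut.conj c) g
    rintro y ⟨hy, hgy⟩
    obtain ⟨g', -, rfl⟩ := Finset.mem_image.1 (Finset.mem_filter.1 hy).1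
    show rp g' = rp g
    simp only [rp, show ConjClasses.mk g = ConjClasses.mk g' from
      ConjClasses.mk_eq_mk_iff_isConj.2 (hgy.trans (hout g').symm)]
  have h1X : (1 : G) ∈ X := by
    obtain ⟨x, ⟨hx, h⟩, -⟩ := hXrep 1 ⟨0, by simp⟩
    rwa [← isConj_one_right.1 h]
  choose m hm using fun x : X =>
    CfsgLib.PRational.exists_nat_section hM (hX x x.2) hB hk hreg
  rw [sum_eq_sum_sectionSum (p := p) hf X hX hXrep] at hsum
  have hterm : ∀ x : X, (Nat.card {y : G // IsConj (x : G) y} : ℂ) * sectionSum p f x =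
      (Nat.card G : ℂ) * m x := fun x => by
    rw [hm x, ← mul_assoc, ← Nat.cast_mul, card_isConj_mul_card_centralizer]
  rw [← Finset.sum_coe_sort X (fun x => (Nat.card {y : G // IsConj x y} : ℂ) * sectionSum p f x),
    Finset.sum_congr rfl fun x _ => hterm x, ← Finset.mul_sum, mul_right_inj' hn,
    ← Nat.cast_sum, Nat.cast_inj] at hsum
  rw [← hsum]
  refine le_trans (le_of_eq ?_) (Finset.single_le_sum (fun _ _ => Nat.zero_le _)
    (Finset.mem_univ (⟨1, h1X⟩ : X)))
  have h2 : sectionSum p f 1 = (Nat.card G : ℂ) * Cfsg.blockRank p B := by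
    rw [cast_blockRank_eq B (regClosed_of_isPBlock hM hB),
      ← Finset.sum_subtype B.toFinset (fun y => Set.mem_toFinset)
        (fun χ : Cfsg.IrrCharacter G => Cfsg.classInner (Cfsg.pRegularPart p (χ : G → ℂ)) (χ : G → ℂ)),
      Finset.mul_sum, sectionSum]
    rw [Finset.sum_comm]
    refine Finset.sum_congr rfl fun χ _ => ?_
    rw [Cfsg.classInner, ← mul_assoc, mul_inv_cancel₀ hn, one_mul, Finset.sum_filter]
    refine Finset.sum_congr rfl fun y _ => ?_
    rw [pRegularPart_apply]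
    by_cases hy : Cfsg.IsPRegular p y
    · simp [hy, hreg y hy]
    · simp [hy]
  have h3 := hm ⟨1, h1X⟩
  change sectionSum p f 1 = _ at h3
  have h4 : Nat.card (Subgroup.centralizer ({(1 : G)} : Set G)) = Nat.card G := by
    rw [show Subgroup.centralizer ({(1 : G)} : Set G) = ⊤ by
      ext z; simp [Subgroup.mem_centralizer_singleton_iff], Subgroup.card_top]
  rw [h2, h4, mul_right_inj' hn, Nat.cast_inj] at h3
  exact h3


/-- Let p be an odd prime, M a maximal ideal of the algebraic integers containing p, G a finite group of order n with p-part p^a, and B a p-block of G. Call an irreducible character χ p-rational when χ(g^k) = χ(g) for every g and every k coprime to n with k ≡ 1 modulo n/p^a (χ is fixed by the Galois automorphisms fixing the roots of unity of order prime to p). Then the number of p-rational irreducible characters in B is at least the p-regular rank of B (the number of irreducible Brauer characters in B). -/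
theorem result {G : Type*} [Group G] [Finite G] (p : ℕ) [Fact p.Prime] (hodd : p ≠ 2) (M : Ideal Cfsg.AlgInt) (hM : Cfsg.IsPModular p M) (B : Set (Cfsg.IrrCharacter G)) (hB : Cfsg.IsPBlock M B) : Cfsg.blockRank p B ≤ Nat.card {χ : Cfsg.IrrCharacter G // χ ∈ B ∧ ∀ k : ℕ, Nat.Coprime k (Nat.card G) → k ≡ 1 [MOD Nat.card G / p ^ (Nat.card G).factorization p] → ∀ g : G, (χ : G → ℂ) (g ^ k) = (χ : G → ℂ) g} := by
  classical
  haveI := Fintype.ofFinite G
  have hp : p.Prime := Fact.out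
  set n := Nat.card G with hn
  set a := n.factorization p with ha
  set m := n / p ^ a with hm
  have hnm : p ^ a * m = n := Nat.ordProj_mul_ordCompl_eq_self n p
  have hcop : (p ^ a).Coprime m :=
    Nat.Coprime.pow_left _ (hp.coprime_iff_not_dvd.2 (Nat.not_dvd_ordCompl hp Nat.card_pos.ne'))
  haveI : NeZero (p ^ a) := ⟨pow_ne_zero _ hp.ne_zero⟩
  haveI := ZMod.isCyclic_units_of_prime_pow p hp hodd a
  obtain ⟨u, hu⟩ := IsCyclic.exists_monoid_generator (α := (ZMod (p ^ a))ˣ)
  obtain ⟨k, hk1, hk2⟩ := Nat.chineseRemainder hcop (u : ZMod (p ^ a)).val 1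
  have hkc : Nat.Coprime k n := by
    rw [← hnm]
    refine Nat.Coprime.mul_right ?_ ?_
    · exact ((Nat.ModEq.gcd_eq hk1).trans (ZMod.val_coe_unit_coprime u) : _)
    · exact (Nat.ModEq.gcd_eq hk2).trans (Nat.gcd_one_left m)
  have hreg : ∀ y : G, Cfsg.IsPRegular p y → y ^ k = y := by
    intro y hy
    have h1 : orderOf y ∣ m := by
      refine Nat.Coprime.dvd_of_dvd_mul_left ?_ (by rw [hnm]; exact orderOf_dvd_natCard y)
      exact Nat.Coprime.pow_right _ (hp.coprime_iff_not_dvd.2 hy).symm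
    have h2 : y ^ k = y ^ 1 := pow_eq_pow_iff_modEq.2 (hk2.of_dvd h1)
    rwa [pow_one] at h2
  refine (card_fixed_ge hM hB hkc hreg).trans (Nat.card_le_card_of_injective
    (fun χ => ⟨χ.1, χ.2.1, fun k' hk' hk'1 g => ?_⟩)
    (fun a b h => Subtype.ext (congrArg (fun z => z.1) h)))
  have hiter : ∀ j : ℕ, ∀ g : G, (χ.1 : G → ℂ) (g ^ k ^ j) = (χ.1 : G → ℂ) g := by
    intro j
    induction j with
    | zero => simp
    | succ j ih =>
      intro g
      rw [pow_succ, pow_mul]
      exact (congrFun (congrArg Subtype.val χ.2.2) (g ^ k ^ j)).trans (ih g)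
  obtain ⟨j, hj⟩ : ∃ j : ℕ, u ^ j = ZMod.unitOfCoprime k'
      (Nat.Coprime.coprime_dvd_right (Dvd.intro _ hnm) hk') :=
    Submonoid.mem_powers_iff _ _ |>.1 (hu _)
  have hk'e : k' ≡ k ^ j [MOD n] := by
    rw [← hnm]
    refine (Nat.modEq_and_modEq_iff_modEq_mul hcop).1 ⟨?_, ?_⟩
    · rw [← ZMod.natCast_eq_natCast_iff, Nat.cast_pow]
      have h1 : (k : ZMod (p ^ a)) = (u : ZMod (p ^ a)) := by
        rw [← ZMod.natCast_zmod_val (u : ZMod (p ^ a)), ZMod.natCast_eq_natCast_iff]
        exact hk1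
      rw [h1, ← Units.val_pow_eq_pow_val, hj, ZMod.coe_unitOfCoprime]
    · refine hk'1.trans ?_
      have h := (hk2.pow j).symm
      rwa [one_pow] at h
  rw [show g ^ k' = g ^ k ^ j from pow_eq_pow_iff_modEq.2 (hk'e.of_dvd (orderOf_dvd_natCard g))]
  exact hiter j g

end Cfsg.Agent.S4712
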