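import Cfsg.Statements.S4713
import Cfsg.Agent.Lib.Blk83.ItoMichler
import Cfsg.Agent.S0169

set_option autoImplicit false
open Cfsg

namespace Cfsg.Agent.S4713

/-- Let p be a prime and G a finite p-solvable group. Then G has a normal abelian Sylow p-subgroup if and only if the degree of every irreducible character of G is prime to p. -/
theorem result {G : Type*} [Group G] [Finite G] (p : ℕ) [Fact p.Prime] (hsolv : Cfsg.IsPSolvable p G) (P : Sylow p G) : ((P : Subgroup G).Normal ∧ IsMulCommutative P) ↔ ∀ χ : Cfsg.IrrCharacter G, ¬ p ∣ Cfsg.charDegree (χ : G → ℂ) := by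
  constructor
  · rintro ⟨hn, hc⟩ χ hd
    haveI := hn
    haveI := hc
    obtain ⟨n, ρ, hρ, he⟩ := χ.2
    have h1 := Cfsg.Agent.S0169.result ρ (P : Subgroup G) fun a ha b hb => setLike_mul_comm ha hb
    have h2 : Cfsg.charDegree (χ : G → ℂ) = Module.finrank ℂ (Fin n → ℂ) := by
      apply Nat.cast_injective (R := ℂ)
      rw [← CfsgLib.Blk83.one_eq, ← he, Representation.char_one]
    exact P.not_dvd_index (hd.trans (h2 ▸ h1))
  · intro h
    exact CfsgLib.Blk83.normal_abelian_sylow_of_degrees hsolv h P

end Cfsg.Agent.S4713
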