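import Cfsg.Statements.S4714
import Cfsg.Agent.Lib.Blocks.CentralizingDefect
import Cfsg.Agent.Lib.Blocks.PPart

set_option autoImplicit false
open Cfsg

namespace Cfsg.Agent.S4714

/-- Let p be a prime, M a maximal ideal of the algebraic integers containing p, D a p-subgroup of the finite group G with G = D·C_G(D), and B a p-block with defect group D. Let χ be a member of B having D in its kernel (there is exactly one, the canonical character of B). Then the irreducible characters in B are exactly the functions θ on G for which there is an irreducible character ζ of D such that θ(yx) = ζ(y)χ(x) whenever y ∈ D, x has order prime to p and x commutes with y, and θ(z) = 0 whenever the p-part of z does not lie in D. -/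
theorem result {G : Type*} [Group G] [Finite G] (p : ℕ) [Fact p.Prime] (M : Ideal Cfsg.AlgInt) (hM : Cfsg.IsPModular p M) (D : Subgroup G) (hD : IsPGroup p D) (hG : D ⊔ Subgroup.centralizer (D : Set G) = ⊤) (B : Set (Cfsg.IrrCharacter G)) (hB : Cfsg.IsPBlock M B) (hBD : Cfsg.IsDefectGroup p M B D) (χ : Cfsg.IrrCharacter G) (hχ : χ ∈ B) (hχD : ∀ y ∈ D, (χ : G → ℂ) y = (χ : G → ℂ) 1) : (∀ θ : Cfsg.IrrCharacter G, θ ∈ B ↔ ∃ ζ : Cfsg.IrrCharacter D, (∀ (y : D) (x : G), ¬ p ∣ orderOf x → Commute (y : G) x → (θ : G → ℂ) ((y : G) * x) = (ζ : D → ℂ) y * (χ : G → ℂ) x) ∧ (∀ z : G, (∀ y : G, Cfsg.IsPPart p z y → y ∉ D) → (θ : G → ℂ) z = 0)) ∧ ∀ ζ : Cfsg.IrrCharacter D, ∃ θ ∈ B, (∀ (y : D) (x : G), ¬ p ∣ orderOf x → Commute (y : G) x → (θ : G → ℂ) ((y : G) * x) = (ζ : D → ℂ) y * (χ : G → ℂ) x) ∧ (∀ z : G, (∀ y : G, Cfsg.IsPPart p z y → y ∉ D) → (θ : G → ℂ) z = 0) := by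
  classical
  haveI := hM.2.1
  haveI := CfsgLib.Blocks.normal_of_sup_centralizer hG
  haveI := Fintype.ofFinite G
  haveI := Fintype.ofFinite D
  have hp : p.Prime := Fact.out
  obtain ⟨ψ, hψ⟩ := CfsgLib.Blocks.exists_infl_eq D hχD
  subst hψ
  let P : Cfsg.IrrCharacter G → Cfsg.IrrCharacter D → Prop := fun θ ζ =>
    (∀ (y : D) (x : G), ¬ p ∣ orderOf x → Commute (y : G) x →
      (θ : G → ℂ) ((y : G) * x) = (ζ : D → ℂ) y * (CfsgLib.Blocks.infl D ψ : G → ℂ) x) ∧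
    (∀ z : G, (∀ y : G, Cfsg.IsPPart p z y → y ∉ D) → (θ : G → ℂ) z = 0)
  have hcomm : ∀ (u : D) (y : G), ¬ p ∣ orderOf y → Commute (u : G) y := fun u y hy =>
    Subgroup.mem_centralizer_iff.1 (CfsgLib.Blocks.regular_mem_centralizer hD hG hy) _ u.2
  have hpart : ∀ (u : D) (y : G), ¬ p ∣ orderOf y → Cfsg.IsPPart p ((u : G) * y) u := by
    intro u y hy
    obtain ⟨k, hk⟩ := IsPGroup.iff_orderOf.1 hD u
    exact CfsgLib.Blocks.isPPart_of_commute (hcomm u y hy)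
      (by rw [Subgroup.orderOf_coe, hk]) hy
  have hfwd : ∀ φ ∈ B, ∀ ζ : Cfsg.IrrCharacter D,
      Cfsg.classInner (fun u : D => (φ : G → ℂ) u) (ζ : D → ℂ) ≠ 0 → P φ ζ := by
    intro φ hφ ζ hc
    have h := CfsgLib.Blocks.block_values hM hD hG hB hBD hχ hφ ζ hc
    exact ⟨fun y x hx _ => h.1 y x hx,
      fun z hz => h.2 z fun u y hy he => hz u (he ▸ hpart u y hy) u.2⟩
  have heq : ∀ (θ φ : Cfsg.IrrCharacter G) (ζ : Cfsg.IrrCharacter D), P θ ζ → P φ ζ → θ = φ := by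
    intro θ φ ζ h1 h2
    refine Subtype.ext (funext fun z => ?_)
    by_cases hz : ∃ u : G, Cfsg.IsPPart p z u ∧ u ∈ D
    · obtain ⟨u, ⟨y, rfl, hco, -, hy⟩, hu⟩ := hz
      rw [h1.1 ⟨u, hu⟩ y hy hco, h2.1 ⟨u, hu⟩ y hy hco]
    · push Not at hz
      rw [h1.2 z hz, h2.2 z hz]
  refine ⟨fun θ => ⟨fun hθ => ?_, fun ⟨ζ, h⟩ => ?_⟩, fun ζ => ?_⟩
  · obtain ⟨ζ, hζ, hc⟩ := CfsgLib.Clifford.exists_constituent_res D θ.2
    exact ⟨⟨ζ, hζ⟩, hfwd θ hθ ⟨ζ, hζ⟩ hc⟩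
  · obtain ⟨φ, hφ, hc⟩ := CfsgLib.Blocks.exists_mem_over hM hD hG hB hBD ζ
    rw [heq θ φ ζ h (hfwd φ hφ ζ hc)]
    exact hφ
  · obtain ⟨φ, hφ, hc⟩ := CfsgLib.Blocks.exists_mem_over hM hD hG hB hBD ζ
    exact ⟨φ, hφ, hfwd φ hφ ζ hc⟩

end Cfsg.Agent.S4714
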