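import Cfsg.Statements.S4717
import Cfsg.Agent.Lib.Blk83.PairFusion
import Cfsg.Agent.Lib.BlockRank.Subsection
import Cfsg.Agent.Lib.Blocks.Okuyama
import Cfsg.Agent.Lib.Blocks.Induced

set_option autoImplicit false
open Cfsg CfsgLib.Blocks CfsgLib.Blocks.Pairs

namespace Cfsg.Agent.S4717

theorem exists_block_ge {G : Type*} [Group G] [Finite G] {p : ℕ} [Fact p.Prime]
    {M : Ideal Cfsg.AlgInt} (hM : Cfsg.IsPModular p M) {B : Set (Cfsg.IrrCharacter G)}
    (hB : Cfsg.IsPBlock M B) {y : G} (hy : orderOf y = p) {D : Subgroup G}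
    (hD : Cfsg.IsDefectGroup p M B D) (hyD : y ∈ D) (hyc : ∀ u ∈ D, u * y = y * u) :
    ∀ C : Subgroup G, C = Subgroup.centralizer ((Subgroup.zpowers y : Subgroup G) : Set G) →
      C = Subgroup.centralizer {y} →
      ∃ b : Set (Cfsg.IrrCharacter C), Cfsg.IsInducedBlock M C b B ∧
        Cfsg.blockDefect p B ≤ Cfsg.blockDefect p b := by
  intro C hCP hCy
  haveI := Fintype.ofFinite G
  subst hCP
  haveI := isMaximal_of_isPModular hM
  haveI : CharP (ResField M) p := charP_resField hM.1 (natCast_mem_of_isPModular hM)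
  have hDp := isPGroup_defectGroup hD
  obtain ⟨eD, heD⟩ := exists_pairOf (isBlockIdem_ebar hB) hDp (maxR_of_isDefectGroup hM hB hD).ne_zero
  have hle : Subgroup.zpowers y ≤ D := Subgroup.zpowers_le.mpr hyD
  have hDC : D ≤ Subgroup.centralizer ((Subgroup.zpowers y : Subgroup G) : Set G) := fun u hu => by
    rw [hCy, Subgroup.mem_centralizer_singleton_iff]
    exact hyc u hu
  obtain ⟨f, hf⟩ := exists_ns heD.pair hle
    (hDC.trans (Subgroup.centralizer_le_normalizer _))
  have hPf : PairOf p (ebar hB) (Subgroup.zpowers y) f := hf.pairOf_iff.mp heD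
  obtain ⟨b, hb, rfl⟩ := exists_eIn_eq hPf.pair.block
  have hBb := (isBrauerPairOf_iff hM hB hb).mpr hPf
  refine ⟨b, CfsgLib.BlockRank.isInducedBlock_of_brauerOmega hM hCy ⟨1, by simpa using hy⟩ hB hb
    hBb.2.2, ?_⟩
  have hne : trunc D (eIn hb) ≠ 0 := fun h0 => heD.pair.block.ne_zero (by
    rw [← hf.br, h0, zero_mul])
  obtain ⟨E, hE, hDE⟩ := CfsgLib.Blocks.Pairs.exists_defectGroup_ge hM hb hDC hDp hne
  refine (Nat.pow_le_pow_iff_right (Fact.out : p.Prime).one_lt).mp ?_
  rw [← card_defectGroup hM hB hD, ← card_defectGroup hM hb hE,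
    ← Nat.card_congr (Subgroup.subgroupOfEquivOfLe hDC).toEquiv]
  exact Nat.card_le_card_of_injective _ (Subgroup.inclusion_injective hDE)

/-- Let p be a prime, M a maximal ideal of the algebraic integers containing p, and r a natural number; say that a finite group X has deficiency class r when X has no non-principal p-block of defect ≥ r. If G has deficiency class r then so does the centralizer of every p-element of G; conversely, if r > 0 and the centralizer of every element of order p has deficiency class r, then G has deficiency class r. -/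
theorem result {G : Type*} [Group G] [Finite G] (p : ℕ) [Fact p.Prime] (M : Ideal Cfsg.AlgInt) (hM : Cfsg.IsPModular p M) (r : ℕ) : ((∀ B' : Set (Cfsg.IrrCharacter G), Cfsg.IsPBlock M B' → B' ≠ Cfsg.principalBlock M G → Cfsg.blockDefect p B' < r) → ∀ y : G, (∃ k : ℕ, orderOf y = p ^ k) → (∀ B' : Set (Cfsg.IrrCharacter ↥(Subgroup.centralizer ({y} : Set G))), Cfsg.IsPBlock M B' → B' ≠ Cfsg.principalBlock M ↥(Subgroup.centralizer ({y} : Set G)) → Cfsg.blockDefect p B' < r)) ∧ (0 < r → (∀ y : G, orderOf y = p → (∀ B' : Set (Cfsg.IrrCharacter ↥(Subgroup.centralizer ({y} : Set G))), Cfsg.IsPBlock M B' → B' ≠ Cfsg.principalBlock M ↥(Subgroup.centralizer ({y} : Set G)) → Cfsg.blockDefect p B' < r)) → (∀ B' : Set (Cfsg.IrrCharacter G), Cfsg.IsPBlock M B' → B' ≠ Cfsg.principalBlock M G → Cfsg.blockDefect p B' < r)) := by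
  haveI := isMaximal_of_isPModular hM
  haveI : CharP (ResField M) p := charP_resField hM.1 (natCast_mem_of_isPModular hM)
  haveI := Fintype.ofFinite G
  have hp : p.Prime := Fact.out
  refine ⟨fun hG y hy b hb hbne => ?_, fun hr hloc B hB hBne => ?_⟩
  · obtain ⟨B, hind⟩ := CfsgLib.BlockRank.exists_isInducedBlock_centralizer hM rfl hy hb
    have hBne : B ≠ Cfsg.principalBlock M G := fun h =>
      hbne ((isInducedBlock_principal_iff hM ⟨B, hind⟩).mp (h ▸ hind))
    obtain ⟨D, hD⟩ := exists_defectGroup hM hb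
    obtain ⟨E, hE, hDE⟩ := CfsgLib.Blocks.exists_defectGroup_ge hM hind hD
    refine lt_of_le_of_lt ((Nat.pow_le_pow_iff_right hp.one_lt).mp ?_) (hG B hind.2.1 hBne)
    rw [← card_defectGroup hM hb hD, ← card_defectGroup hM hind.2.1 hE]
    exact le_of_eq_of_le (Subgroup.card_map_of_injective (Subgroup.subtype_injective _)).symm
      (Nat.card_le_card_of_injective _ (Subgroup.inclusion_injective hDE))
  · by_contra hlt
    obtain ⟨D, hD⟩ := exists_defectGroup hM hB
    have hDp := isPGroup_defectGroup hD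
    haveI : Nontrivial D := by
      rw [← Finite.one_lt_card_iff_nontrivial, card_defectGroup hM hB hD]
      exact Nat.one_lt_pow (by omega) hp.one_lt
    haveI := hDp.center_nontrivial
    obtain ⟨k, hk0, hk⟩ := (IsPGroup.nontrivial_iff_card
      (hDp.to_subgroup (Subgroup.center D))).mp inferInstance
    obtain ⟨z, hz⟩ := exists_prime_orderOf_dvd_card' (G := Subgroup.center D) p
      (hk ▸ dvd_pow_self p hk0.ne')
    have hy : orderOf ((z : D) : G) = p := by rw [Subgroup.orderOf_coe, Subgroup.orderOf_coe, hz]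
    obtain ⟨b, hind, hle⟩ := exists_block_ge hM hB hy hD (z : D).2
      (fun u hu => congrArg Subtype.val (Subgroup.mem_center_iff.mp z.2 ⟨u, hu⟩))
      (Subgroup.centralizer {((z : D) : G)})
      (by rw [Subgroup.zpowers_eq_closure, Subgroup.centralizer_closure]) rfl
    refine hlt (lt_of_le_of_lt hle (hloc _ hy b hind.1 fun h => hBne ?_))
    exact IsInducedBlock.unique hind
      ((isInducedBlock_principal_iff hM ⟨B, hind⟩).mpr h)

end Cfsg.Agent.S4717
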