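import Cfsg.Statements.S4718
import Cfsg.Agent.Lib.Blk83.PrincipalBound
import Cfsg.Agent.Lib.Blk83.Landau

set_option autoImplicit false
universe u
open Cfsg

namespace Cfsg.Agent.S4718

/-- Let p be a prime and a a natural number. There is a bound N such that every finite group whose Sylow p-subgroups have order p^a and whose only p-block (relative to a maximal ideal of the algebraic integers containing p) is the principal block has order at most N. -/
theorem result (p : ℕ) [Fact p.Prime] (a : ℕ) : ∃ N : ℕ, ∀ (G : Type u) [Group G] [Finite G] (M : Ideal Cfsg.AlgInt), Cfsg.IsPModular p M → (Nat.card G).factorization p = a → (∀ B : Set (Cfsg.IrrCharacter G), Cfsg.IsPBlock M B → B = Cfsg.principalBlock M G) → Nat.card G ≤ N := by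
  refine ⟨CfsgLib.Blk83.landauBound (p ^ (2 * a)) 1, fun G _ _ M hM ha honly => ?_⟩
  haveI := hM.2.1
  refine CfsgLib.Blk83.card_le_landauBound _ ?_
  rw [← CfsgLib.Char.card_irrCharacter, ← ha]
  refine le_trans (le_of_eq ?_) (CfsgLib.Blk83.card_principalBlock_le p M hM)
  have hall : Cfsg.principalBlock M G = Set.univ := by
    refine Set.eq_univ_of_forall fun χ => ?_
    rw [← honly _ ⟨χ, rfl⟩]
    intro g
    simp only [sub_self]
    exact CfsgLib.Blk83.li_zero
  rw [hall]
  exact (Nat.card_congr (Equiv.Set.univ _)).symm

end Cfsg.Agent.S4718
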