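import Cfsg.Statements.S4719
import Cfsg.Agent.S4717
import Cfsg.Agent.Lib.Blk83.FourGroupBound
import Cfsg.Agent.Lib.Blk83.Landau
import Cfsg.Agent.Lib.Blk83.PrincipalPairs
import Cfsg.Agent.Lib.Blk83.PrincipalBound
import Cfsg.Agent.Lib.Blocks.Quotient
import Cfsg.Agent.Lib.Char.Complete

set_option autoImplicit false
universe u
open Cfsg

namespace Cfsg.Agent.S4719

open CfsgLib.Blocks in
/-- The deficiency class drops by one in the quotient by a central involution. -/
theorem class_quotient {C : Type u} [Group C] [Finite C] {M : Ideal Cfsg.AlgInt}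
    (hM : Cfsg.IsPModular 2 M) (Z : Subgroup C) [Z.Normal] (hZ : Z ≤ Subgroup.center C)
    (hZ2 : Nat.card Z = 2) {r : ℕ}
    (h : ∀ B : Set (Cfsg.IrrCharacter C), Cfsg.IsPBlock M B → B ≠ Cfsg.principalBlock M C →
      Cfsg.blockDefect 2 B < r + 1) :
    ∀ B : Set (Cfsg.IrrCharacter (C ⧸ Z)), Cfsg.IsPBlock M B → B ≠ Cfsg.principalBlock M (C ⧸ Z) →
      Cfsg.blockDefect 2 B < r := by
  haveI := isMaximal_of_isPModular hM
  intro B hB hne
  set f := fun χ : Cfsg.IrrCharacter (C ⧸ Z) => (Cfsg.charDegree (χ : C ⧸ Z → ℂ)).factorization 2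
  obtain ⟨η, hη, hηmin⟩ := Nat.sInf_mem (IsPBlock.nonempty hB |>.image f)
  set b := Cfsg.blockOf M (infl Z η : C → ℂ) with hb
  have hbne : b ≠ Cfsg.principalBlock M C := fun he => hne (by
    rw [CfsgLib.Blk83.principalBlock_eq] at he ⊢
    have hinf : infl Z (CfsgLib.Char.principalIrr : Cfsg.IrrCharacter (C ⧸ Z)) =
        CfsgLib.Char.principalIrr := Subtype.ext rfl
    rw [IsPBlock.eq_blockOf hB hη, blockOf_eq_iff, ← sameBlock_iff_lam]
    refine sameBlock_of_infl_of_pCentral Z hM (IsPGroup.of_card (n := 1) (by rw [hZ2, pow_one]))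
      (k := 0) ?_ ?_
    · rw [pow_zero, Subgroup.index_eq_one, eq_top_iff]
      intro g _
      rw [Subgroup.mem_centralizer_iff]
      intro z hz
      exact (Subgroup.mem_center_iff.mp (hZ hz) g).symm
    · rw [sameBlock_iff_lam, ← blockOf_eq_iff, hinf]
      exact he)
  have hlt := h b (isPBlock_blockOf _) hbne
  have hle : sInf ((fun χ : Cfsg.IrrCharacter C => (Cfsg.charDegree (χ : C → ℂ)).factorization 2) '' b)
      ≤ f η := Nat.sInf_le ⟨infl Z η, mem_blockOf_self _, by simp [f, Cfsg.charDegree]⟩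
  have hdvd : f η ≤ (Nat.card (C ⧸ Z)).factorization 2 :=
    (Nat.factorization_le_iff_dvd (CfsgLib.BlockReg.deg_pos η).ne' Nat.card_pos.ne').mpr
      (CfsgLib.BlockReg.deg_dvd_card η) 2
  unfold Cfsg.blockDefect at hlt ⊢
  rw [Subgroup.card_eq_card_quotient_mul_card_subgroup Z, hZ2,
    Nat.factorization_mul Nat.card_pos.ne' two_ne_zero, Finsupp.add_apply,
    Nat.prime_two.factorization_self] at hlt
  rw [← hηmin]
  simp only [f] at *
  omega

open CfsgLib.Blocks in
/-- The bound, by induction on the class. -/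
theorem exists_bound (a : ℕ) : ∀ r : ℕ, ∃ N : ℕ, ∀ (G : Type u) [Group G] [Finite G] (M : Ideal Cfsg.AlgInt),
    Cfsg.IsPModular 2 M → (Nat.card G).factorization 2 ≤ a →
    (∀ B : Set (Cfsg.IrrCharacter G), Cfsg.IsPBlock M B → B ≠ Cfsg.principalBlock M G →
      Cfsg.blockDefect 2 B < r) →
    (∃ E : Subgroup G, (∀ x ∈ E, x * x = 1) ∧ Nat.card E = 2 ^ (r + 1)) → Nat.card G ≤ N := by
  haveI : Fact (Nat.Prime 2) := ⟨Nat.prime_two⟩
  intro r
  induction r with
  | zero =>
    refine ⟨CfsgLib.Blk83.landauBound (2 ^ (2 * a)) 1, fun G _ _ M hM ha hcl _ => ?_⟩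
    haveI := isMaximal_of_isPModular hM
    refine CfsgLib.Blk83.card_le_landauBound _ ?_
    rw [← CfsgLib.Char.card_irrCharacter]
    refine le_trans ?_ ((CfsgLib.Blk83.card_principalBlock_le 2 M hM).trans
      (Nat.pow_le_pow_right two_pos (Nat.mul_le_mul_left 2 ha)))
    refine Nat.card_le_card_of_injective (fun χ : Cfsg.IrrCharacter G =>
      (⟨χ, ?_⟩ : Cfsg.principalBlock M G)) fun χ ψ e => congrArg Subtype.val e
    by_contra hχ
    exact Nat.not_lt_zero _ (hcl _ (isPBlock_blockOf χ) fun e => hχ (e ▸ mem_blockOf_self χ))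
  | succ r ih =>
    obtain ⟨N, hN⟩ := ih
    refine ⟨CfsgLib.Blk83.Four.bound a (2 * N), fun G _ _ M hM ha hcl ⟨E, hE2, hEc⟩ => ?_⟩
    have hcomm : ∀ x ∈ E, ∀ y ∈ E, x * y = y * x := fun x hx y hy => by
      have h1 : ∀ z ∈ E, z⁻¹ = z := fun z hz => inv_eq_of_mul_eq_one_right (hE2 z hz)
      rw [← h1 _ (E.mul_mem hx hy), mul_inv_rev, h1 x hx, h1 y hy]
    have hcent : ∀ t ∈ E, t ≠ 1 → Nat.card ↥(Subgroup.centralizer ({t} : Set G)) ≤ 2 * N := by
      intro t ht ht1
      set C := Subgroup.centralizer ({t} : Set G) with hC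
      have htC : t ∈ C := Subgroup.mem_centralizer_singleton_iff.mpr rfl
      have hEC : E ≤ C := fun x hx => Subgroup.mem_centralizer_singleton_iff.mpr (hcomm x hx t ht)
      have hord : orderOf t = 2 := orderOf_eq_prime (by rw [sq]; exact hE2 t ht) ht1
      set Z := Subgroup.zpowers (⟨t, htC⟩ : C) with hZdef
      have hZc : Z ≤ Subgroup.center C := by
        rw [hZdef, Subgroup.zpowers_le, Subgroup.mem_center_iff]
        exact fun c => Subtype.ext (Subgroup.mem_centralizer_singleton_iff.mp c.2)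
      haveI : Z.Normal := ⟨fun z hz g => by
        rwa [Subgroup.mem_center_iff.mp (hZc hz) g, mul_inv_cancel_right]⟩
      have hZ2 : Nat.card Z = 2 := by
        rw [hZdef, Nat.card_zpowers, Subgroup.orderOf_mk, hord]
      have hclC := (Cfsg.Agent.S4717.result 2 M hM (r + 1)).1 hcl t ⟨1, by rw [hord, pow_one]⟩
      have hZE : Z ≤ E.subgroupOf C := by
        rw [hZdef, Subgroup.zpowers_le]
        exact ht
      have hEcard : Nat.card ((E.subgroupOf C).map (QuotientGroup.mk' Z)) = 2 ^ (r + 1) := by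
        have h1 := CfsgLib.Blk83.Four.card_eq_card_mul_map Z (E.subgroupOf C) hZE
        rw [Nat.card_congr (Subgroup.subgroupOfEquivOfLe hEC).toEquiv, hEc, hZ2] at h1
        have h2 : 2 ^ (r + 1 + 1) = 2 * 2 ^ (r + 1) := pow_succ' 2 _
        omega
      have hQ : Nat.card (C ⧸ Z) ≤ N := by
        refine hN (C ⧸ Z) M hM (le_trans ?_ ha) (class_quotient hM Z hZc hZ2 hclC)
          ⟨_, ?_, hEcard⟩
        · exact ((Nat.factorization_le_iff_dvd Nat.card_pos.ne' Nat.card_pos.ne').mpr
            ((Subgroup.card_quotient_dvd_card Z).trans C.card_subgroup_dvd_card)) 2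
        · rintro _ ⟨x, hx, rfl⟩
          rw [← map_mul, show x * x = 1 from Subtype.ext (hE2 _ hx), map_one]
      rw [Subgroup.card_eq_card_quotient_mul_card_subgroup Z, hZ2, mul_comm]
      exact Nat.mul_le_mul_left 2 hQ
    obtain ⟨s, hs, hs1⟩ : ∃ s ∈ E, s ≠ 1 := by
      by_contra hall
      push Not at hall
      have : Nat.card E = 1 := Subgroup.card_eq_one.mpr ((Subgroup.eq_bot_iff_forall _).mpr hall)
      rw [hEc] at this
      exact absurd this (Nat.one_lt_pow (by omega) one_lt_two).ne'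
    obtain ⟨t, ht, hts⟩ : ∃ t ∈ E, t ∉ ({1, s} : Set G) := by
      by_contra hall
      push Not at hall
      have h1 : Nat.card E ≤ Nat.card ({1, s} : Set G) := Nat.card_mono (Set.toFinite _) hall
      have h2 : Nat.card ({1, s} : Set G) ≤ 2 := by
        rw [Nat.card_coe_set_eq]
        exact (Set.ncard_insert_le _ _).trans (by rw [Set.ncard_singleton])
      have h3 : 2 ^ 2 ≤ 2 ^ (r + 1 + 1) := Nat.pow_le_pow_right two_pos (by omega)
      omega
    simp only [Set.mem_insert_iff, Set.mem_singleton_iff, not_or] at hts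
    have hst1 : s * t ≠ 1 := fun e => hts.2 (by
      rw [eq_inv_of_mul_eq_one_right e, inv_eq_of_mul_eq_one_right (hE2 s hs)])
    have hyp : CfsgLib.Blk83.Four.Hyp (2 * N) s t :=
      ⟨hE2 s hs, hE2 t ht, hcomm s hs t ht, hs1, hts.1, fun e => hts.2 e.symm, hcent s hs hs1,
        hcent t ht hts.1, hcent _ (E.mul_mem hs ht) hst1⟩
    have := CfsgLib.Blk83.Four.card_le_bound a hyp ⊤ (by rwa [Subgroup.card_top])
    rwa [Subgroup.card_top] at this

/-- For every natural number a there is a bound N with the following property. Let G be a finite group with Sylow 2-subgroups of order 2^a and r ≥ 0 such that G has no non-principal 2-block (relative to a maximal ideal of the algebraic integers containing 2) of defect ≥ r, and suppose a Sylow 2-subgroup of G contains an elementary abelian subgroup of order 2^(r+1). Then the order of G is at most N. -/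
theorem result (a : ℕ) : ∃ N : ℕ, ∀ (G : Type u) [Group G] [Finite G] (M : Ideal Cfsg.AlgInt) (r : ℕ) (P : Sylow 2 G), Cfsg.IsPModular 2 M → Nat.card P = 2 ^ a → (∀ B : Set (Cfsg.IrrCharacter G), Cfsg.IsPBlock M B → B ≠ Cfsg.principalBlock M G → Cfsg.blockDefect 2 B < r) → (∃ E : Subgroup G, E ≤ (P : Subgroup G) ∧ IsMulCommutative E ∧ (∀ x ∈ E, x * x = 1) ∧ Nat.card E = 2 ^ (r + 1)) → Nat.card G ≤ N := by
  haveI : Fact (Nat.Prime 2) := ⟨Nat.prime_two⟩
  choose N hN using exists_bound.{u} a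
  refine ⟨(Finset.range (a + 1)).sup N, fun G _ _ M r P hM hP hcl hE => ?_⟩
  obtain ⟨E, hEP, -, hE2, hEc⟩ := hE
  have hra : r + 1 ≤ a := by
    have h1 := Subgroup.card_dvd_of_le hEP
    rw [hEc, hP] at h1
    exact Nat.pow_dvd_pow_iff_le_right (by norm_num) |>.mp h1
  have hfa : (Nat.card G).factorization 2 = a := by
    have h1 := P.card_eq_multiplicity
    rw [hP] at h1
    exact (Nat.pow_right_injective le_rfl h1).symm
  exact (hN r G M hM hfa.le hcl ⟨E, hE2, hEc⟩).trans
    (Finset.le_sup (f := N) (Finset.mem_range.mpr (by omega)))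

end Cfsg.Agent.S4719
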