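import Cfsg.Statements.S4720
import Cfsg.Agent.Lib.BlockRank.Subsection
import Cfsg.Agent.Lib.Char.Induced
import Cfsg.Agent.Lib.Blocks.Okuyama

set_option autoImplicit false
open Cfsg CfsgLib.Blocks
open scoped ComplexConjugate

namespace Cfsg.Agent.S4720

/-- Column products of the principal block at `p`-elements. -/
theorem sum_principal_mul_conj {G : Type*} [Group G] [Fintype G] {p : ℕ} [Fact p.Prime]
    {M : Ideal Cfsg.AlgInt} (hM : Cfsg.IsPModular p M) {y z : G}
    (hy : ∃ k : ℕ, orderOf y = p ^ k) (hz : ∃ k : ℕ, orderOf z = p ^ k)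
    {C : Subgroup G} (hC : C = Subgroup.centralizer {y})
    [DecidablePred (· ∈ Cfsg.principalBlock M G)] [Decidable (IsConj y z)] :
    ∑ χ : Cfsg.IrrCharacter G, (if χ ∈ Cfsg.principalBlock M G then
        (χ : G → ℂ) y * conj ((χ : G → ℂ) z) else 0) =
      if IsConj y z then
        ((∑ᶠ ψ ∈ Cfsg.principalBlock M C, Cfsg.charDegree (ψ : C → ℂ) ^ 2 : ℕ) : ℂ) else 0 := by
  classical
  subst hC
  haveI := hM.2.1
  have hp : p.Prime := Fact.out
  set C := Subgroup.centralizer ({y} : Set G) with hC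
  haveI : Fintype C := Fintype.ofFinite C
  haveI : Fintype {B : Set (Cfsg.IrrCharacter C) // Cfsg.IsPBlock M B} := Fintype.ofFinite _
  set b₀ := Cfsg.principalBlock M C with hb₀
  have hb₀B : Cfsg.IsInducedBlock M C b₀ (Cfsg.principalBlock M G) :=
    (isInducedBlock_principal_iff hM
      (CfsgLib.BlockRank.exists_isInducedBlock_centralizer hM hC hy
        (isPBlock_principalBlock (M := M) (G := C)))).mpr rfl
  have hstep : ∀ χ : Cfsg.IrrCharacter G,
      (if χ ∈ Cfsg.principalBlock M G then (χ : G → ℂ) y else 0) =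
        ∑ c : C, Cfsg.blockCoeff b₀ c * (χ : G → ℂ) (y * c) := by
    intro χ
    have hcl := CfsgLib.BlockRank.isClassFunction_translate hC (x := y) χ
    have hbp : Cfsg.blockPart b₀ (fun c : C => (χ : G → ℂ) (y * c)) 1 =
        ∑ c : C, Cfsg.blockCoeff b₀ c * (χ : G → ℂ) (y * c) := by
      rw [Cfsg.Agent.S0923.blockPart_eq b₀ 1 hcl, finsum_eq_sum_of_fintype]
      exact Finset.sum_congr rfl fun c _ => by rw [mul_one]
    rw [← hbp]
    have h1 : ¬ p ∣ orderOf (1 : C) := by simp [hp.ne_one]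
    by_cases hχ : χ ∈ Cfsg.principalBlock M G
    · rw [if_pos hχ]
      have h2 := CfsgLib.BlockRank.sum_blockPart_blocks hM hcl 1
      rw [Finset.sum_eq_single (⟨b₀, isPBlock_principalBlock⟩ :
        {B : Set (Cfsg.IrrCharacter C) // Cfsg.IsPBlock M B})] at h2
      · simpa using h2
      · intro b _ hne
        refine Cfsg.Agent.S0923.result p M hM y hy _ isPBlock_principalBlock χ hχ b.1 b.2
          (fun h => hne (Subtype.ext ?_)) 1 h1
        exact (isInducedBlock_principal_iff hM ⟨_, h⟩).mp h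
      · exact fun h => absurd (Finset.mem_univ _) h
    · rw [if_neg hχ]
      refine (Cfsg.Agent.S0923.result p M hM y hy _ (isPBlock_blockOf χ) χ (mem_blockOf_self χ)
        b₀ isPBlock_principalBlock (fun h => hχ ?_) 1 h1).symm
      rw [IsInducedBlock.unique hb₀B h]
      exact mem_blockOf_self χ
  have horth : ∀ c : C, Cfsg.blockCoeff b₀ c *
      ∑ χ : Cfsg.IrrCharacter G, (χ : G → ℂ) (y * c) * conj ((χ : G → ℂ) z) =
      if c = 1 then Cfsg.blockCoeff b₀ c * (if IsConj y z then (Nat.card C : ℂ) else 0) else 0 := by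
    intro c
    rw [CfsgLib.Char.sum_mul_conj]
    by_cases hc1 : c = 1
    · subst hc1
      simp [hC]
    rw [if_neg hc1]
    by_cases hreg : p ∣ orderOf c
    · rw [CfsgLib.BlockReg.blockCoeff_singular hM (isPBlock_principalBlock (M := M) (G := C)) c hreg,
        zero_mul]
    rw [if_neg, mul_zero]
    intro hconj
    have hcomm : Commute y (c : G) :=
      ((Subgroup.mem_centralizer_singleton_iff.mp c.2).symm :)
    obtain ⟨k, hk⟩ := hy
    have h1 : Cfsg.IsPPart p (y * c) y :=
      isPPart_of_commute hcomm hk (by rwa [Subgroup.orderOf_coe])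
    have h2 : Cfsg.IsPPart p (y * c) (y * c) := by
      obtain ⟨l, hl⟩ := hz
      obtain ⟨u, hu⟩ := isConj_iff.mp hconj
      refine ⟨1, mul_one _, Commute.one_right _, ⟨l, ?_⟩, by simp [hp.ne_one]⟩
      rw [← hl, ← hu]
      exact (MulEquiv.orderOf_eq (MulAut.conj u) _).symm
    have h3 := CfsgLib.Blocks.IsPPart.unique hp h1 h2
    exact hc1 (Subtype.ext (by simpa using h3.symm))
  calc ∑ χ : Cfsg.IrrCharacter G, (if χ ∈ Cfsg.principalBlock M G then
        (χ : G → ℂ) y * conj ((χ : G → ℂ) z) else 0)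
      = ∑ χ : Cfsg.IrrCharacter G, (∑ c : C, Cfsg.blockCoeff b₀ c * (χ : G → ℂ) (y * c)) *
          conj ((χ : G → ℂ) z) := by
        refine Finset.sum_congr rfl fun χ _ => ?_
        rw [← hstep χ]
        split_ifs <;> simp
    _ = ∑ c : C, Cfsg.blockCoeff b₀ c *
          ∑ χ : Cfsg.IrrCharacter G, (χ : G → ℂ) (y * c) * conj ((χ : G → ℂ) z) := by
        simp only [Finset.sum_mul, Finset.mul_sum]
        rw [Finset.sum_comm]
        exact Finset.sum_congr rfl fun c _ => Finset.sum_congr rfl fun χ _ => by ring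
    _ = _ := by
        rw [Finset.sum_congr rfl fun c _ => horth c, Finset.sum_ite_eq', if_pos (Finset.mem_univ _)]
        split_ifs
        · rw [Cfsg.blockCoeff, finsum_mem_eq_toFinset_sum, finsum_mem_eq_toFinset_sum,
            mul_comm, ← mul_assoc, mul_inv_cancel₀ (by exact_mod_cast Nat.card_pos.ne'), one_mul,
            Nat.cast_sum]
          refine Finset.sum_congr rfl fun ψ _ => ?_
          rw [Nat.cast_pow, CfsgLib.BlockReg.deg_cast, sq,
            ← CfsgLib.BlockReg.deg_cast, Complex.conj_natCast]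
        · rw [mul_zero]

/-- Let p be a prime, M a maximal ideal of the algebraic integers containing p, P a p-subgroup of the finite group G, N a subgroup with P ≤ N ≤ N_G(P), and U a nonempty subset of P normalized by N such that an element of U and an element of P that are conjugate in G are already conjugate in N, and such that λ(C_G(y)) = w·#C_N(y) for every y ∈ U with one rational number w, where λ(X) denotes the sum of the squares of the degrees of the irreducible characters in the principal p-block of X. For a complex function θ on P and χ in the principal block of G put a_χ(θ) = #P⁻¹ Σ_{y ∈ P} χ(y) θ(y⁻¹). Then for generalized characters θ, η of P with θ vanishing outside U, Σ_χ a_χ(θ)·conj(a_χ(η)) = (w/#P²)·Σ_{y ∈ P} θ(y)·conj(Σ_{x ∈ N} η(x y x⁻¹)) (η extended by zero off P; the conjugates lie in P), the first sum over the principal p-block of G. -/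
theorem result {G : Type*} [Group G] [Finite G] (p : ℕ) [Fact p.Prime] (M : Ideal Cfsg.AlgInt) (hM : Cfsg.IsPModular p M) (P : Subgroup G) (hP : IsPGroup p P) (N : Subgroup G) (hPN : P ≤ N) (hNN : N ≤ Subgroup.normalizer (P : Set G)) (U : Set G) (hUne : U.Nonempty) (hUP : U ⊆ (P : Set G)) (hUN : ∀ n ∈ N, ∀ u ∈ U, n * u * n⁻¹ ∈ U) (hfus : ∀ u ∈ U, ∀ g : G, g * u * g⁻¹ ∈ (P : Set G) → ∃ n ∈ N, n * u * n⁻¹ = g * u * g⁻¹) (w : ℚ) (hw : ∀ y ∈ U, ((∑ᶠ ψ ∈ Cfsg.principalBlock M ↥(Subgroup.centralizer ({y} : Set G)), Cfsg.charDegree (ψ : ↥(Subgroup.centralizer ({y} : Set G)) → ℂ) ^ 2) : ℚ) = w * Nat.card ↥(N ⊓ Subgroup.centralizer ({y} : Set G))) (θ η : ↥P → ℂ) (hθ : Cfsg.IsGeneralizedCharacter ↥P θ) (hη : Cfsg.IsGeneralizedCharacter ↥P η) (hθU : ∀ y : ↥P, (y : G) ∉ U → θ y = 0) : ∑ᶠ χ ∈ Cfsg.principalBlock M G, ((Nat.card ↥P : ℂ)⁻¹ * ∑ᶠ y : ↥P, (χ : G → ℂ) (y : G) * θ y⁻¹) * (starRingEnd ℂ) ((Nat.card ↥P : ℂ)⁻¹ * ∑ᶠ y : ↥P, (χ : G → ℂ) (y : G) * η y⁻¹) = ((w : ℂ) / ((Nat.card ↥P : ℂ)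 ^ 2)) * ∑ᶠ y : ↥P, θ y * (starRingEnd ℂ) (∑ᶠ x : ↥N, Cfsg.extendByZero P η ((x : G) * (y : G) * (x : G)⁻¹)) := by
  classical
  haveI := Fintype.ofFinite G
  haveI := Fintype.ofFinite P
  haveI := Fintype.ofFinite N
  have hpe : ∀ y : P, ∃ k : ℕ, orderOf (y : G) = p ^ k := fun y => by
    obtain ⟨k, hk⟩ := hP y
    obtain ⟨j, -, hj⟩ := (Nat.dvd_prime_pow (Fact.out : p.Prime)).mp (orderOf_dvd_of_pow_eq_one hk)
    exact ⟨j, by rw [Subgroup.orderOf_coe, hj]⟩
  set S : P → P → ℂ := fun y z => ∑ χ : Cfsg.IrrCharacter G,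
    (if χ ∈ Cfsg.principalBlock M G then
      (χ : G → ℂ) ((y⁻¹ : P) : G) * conj ((χ : G → ℂ) ((z⁻¹ : P) : G)) else 0) with hS
  -- the inner sum
  have hinner : ∀ y : P, θ y * ∑ z : P, conj (η z) * S y z =
      θ y * ((w : ℂ) * conj (∑ x : N, Cfsg.extendByZero P η ((x : G) * (y : G) * (x : G)⁻¹))) := by
    intro y
    by_cases hyU : (y : G) ∈ U
    swap
    · rw [hθU y hyU, zero_mul, zero_mul]
    congr 1
    let π : N → P := fun n => ⟨(n : G) * y * (n : G)⁻¹,
      (Subgroup.mem_normalizer_iff.mp (hNN n.2) y).mp y.2⟩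
    have hcardw : ((∑ᶠ ψ ∈ Cfsg.principalBlock M ↥(Subgroup.centralizer ({(y : G)} : Set G)),
        Cfsg.charDegree (ψ : Subgroup.centralizer ({(y : G)} : Set G) → ℂ) ^ 2 : ℕ) : ℂ) =
        (w : ℂ) * (Nat.card ↥(N ⊓ Subgroup.centralizer ({(y : G)} : Set G)) : ℂ) := by
      have h0 := hw y hyU
      rw [finsum_mem_eq_toFinset_sum] at h0 ⊢
      have h := congrArg (fun q : ℚ => (q : ℂ)) h0
      push_cast at h ⊢
      exact h
    have hfib : ∀ z : P, conj (η z) * S y z = (w : ℂ) * (∑ n : N, if π n = z then conj (η z) else 0) := by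
      intro z
      have hconj : IsConj ((y⁻¹ : P) : G) ((z⁻¹ : P) : G) ↔ IsConj (y : G) (z : G) := by
        constructor <;> intro h <;> obtain ⟨c, hc⟩ := isConj_iff.mp h <;> refine isConj_iff.mpr ⟨c, ?_⟩
        · rw [Subgroup.coe_inv, Subgroup.coe_inv, ← conj_inv, inv_inj] at hc
          exact hc
        · rw [Subgroup.coe_inv, Subgroup.coe_inv, ← conj_inv, hc]
      simp only [hS]
      rw [sum_principal_mul_conj hM (hpe _) (hpe _) (C := Subgroup.centralizer {(y : G)}) (by
        ext c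
        simp only [Subgroup.mem_centralizer_singleton_iff, Subgroup.coe_inv]
        exact ⟨fun h => (Commute.inv_right (h : Commute c (y : G))), fun h =>
          (Commute.inv_right_iff.mp (h : Commute c (y : G)⁻¹))⟩)]
      by_cases hyz : IsConj (y : G) (z : G)
      · rw [if_pos (hconj.mpr hyz), hcardw, ← Finset.sum_filter, Finset.sum_const, nsmul_eq_mul]
        obtain ⟨g, hg⟩ := isConj_iff.mp hyz
        obtain ⟨n₀, hn₀, hn₀y⟩ := hfus y hyU g (hg ▸ z.2)
        rw [hg] at hn₀y
        have hcard : (Finset.univ.filter fun n : N => π n = z).card =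
            Nat.card ↥(N ⊓ Subgroup.centralizer ({(y : G)} : Set G)) := by
          rw [← Fintype.card_subtype, ← Nat.card_eq_fintype_card]
          refine Nat.card_congr
            { toFun := fun n => ⟨n₀⁻¹ * ((n.1 : N) : G), Subgroup.mem_inf.mpr
                ⟨N.mul_mem (N.inv_mem hn₀) n.1.2, Subgroup.mem_centralizer_singleton_iff.mpr ?_⟩⟩
              invFun := fun c => ⟨⟨n₀ * c, N.mul_mem hn₀ (Subgroup.mem_inf.mp c.2).1⟩,
                Subtype.ext ?_⟩
              left_inv := fun n => Subtype.ext (Subtype.ext (by simp))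
              right_inv := fun c => Subtype.ext (by simp) }
          · have h : ((n.1 : N) : G) * y * ((n.1 : N) : G)⁻¹ = n₀ * y * n₀⁻¹ := by
              rw [hn₀y]; exact congrArg Subtype.val n.2
            have h2 : ((n.1 : N) : G) * y = n₀ * y * n₀⁻¹ * ((n.1 : N) : G) := by
              rw [← h, inv_mul_cancel_right]
            rw [mul_assoc, h2]
            group
          · have h := Subgroup.mem_centralizer_singleton_iff.mp (Subgroup.mem_inf.mp c.2).2
            show n₀ * (c : G) * y * (n₀ * (c : G))⁻¹ = z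
            rw [mul_assoc n₀, h, ← hn₀y]
            group
        rw [hcard]
        ring
      · rw [if_neg (mt hconj.mp hyz), mul_zero, Finset.sum_eq_zero, mul_zero]
        intro n _
        refine if_neg fun h => hyz (isConj_iff.mpr ⟨n, ?_⟩)
        exact congrArg Subtype.val h
    rw [Finset.sum_congr rfl fun z _ => hfib z, ← Finset.mul_sum, Finset.sum_comm, map_sum]
    congr 1
    refine Finset.sum_congr rfl fun n _ => ?_
    rw [Finset.sum_ite_eq, if_pos (Finset.mem_univ _),
      CfsgLib.Char.extendByZero_apply_mem P η (π n).2]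
  rw [finsum_mem_eq_toFinset_sum]
  simp only [finsum_eq_sum_of_fintype]
  have hre : ∀ (f : P → ℂ) (χ : Cfsg.IrrCharacter G), ∑ y : P, (χ : G → ℂ) y * f y⁻¹ =
      ∑ y : P, f y * (χ : G → ℂ) ((y⁻¹ : P) : G) := fun f χ =>
    Fintype.sum_equiv (Equiv.inv P) _ _ fun y => by simp [mul_comm]
  calc _ = ((Nat.card P : ℂ)⁻¹) ^ 2 * ∑ y : P, θ y * ∑ z : P, conj (η z) * S y z := by
        simp only [hre, hS, map_mul, map_inv₀, Complex.conj_natCast, map_sum, Finset.mul_sum,
          Finset.sum_mul]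
        rw [Finset.sum_comm]
        conv_rhs => rw [Finset.sum_comm]
        refine Finset.sum_congr rfl fun y _ => ?_
        rw [Finset.sum_comm]
        refine Finset.sum_congr rfl fun z _ => ?_
        rw [← Finset.sum_subset (Finset.subset_univ (Cfsg.principalBlock M G).toFinset)]
        · refine Finset.sum_congr rfl fun χ hχ => ?_
          rw [if_pos (Set.mem_toFinset.mp hχ)]
          ring
        · intro χ _ hχ
          rw [if_neg (fun h => hχ (Set.mem_toFinset.mpr h))]
          simp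
    _ = _ := by
        rw [Finset.sum_congr rfl fun y _ => hinner y, Finset.mul_sum, Finset.mul_sum]
        exact Finset.sum_congr rfl fun y _ => by rw [div_eq_mul_inv]; ring

end Cfsg.Agent.S4720
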