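import Cfsg.Statements.S4721
import Cfsg.Agent.Lib.Blk83.AbelianExceptionalThree

set_option autoImplicit false
open Cfsg
open scoped IsMulCommutative

namespace Cfsg.Agent.S4721

/-- Let p be a prime, M a maximal ideal of the algebraic integers containing p, and G a finite group with a nontrivial abelian Sylow p-subgroup P, N = N_G(P), C = C_G(P), such that N/C is cyclic of order 3, #P > 4, and C_G(y) ∩ N = C for every non-identity y ∈ P. Then the principal p-block is the disjoint union of a set X of exactly 3 characters containing the principal character and a set Y of (#P − 1)/3 characters, with signs a_χ = ±1 (χ ∈ X, a = 1 at the principal character) and δ = ±1 such that every χ ∈ X takes the value a_χ at every element whose p-part is a non-identity element of P, and there is a map ζ from the non-principal linear characters of P onto Y, constant on N-conjugacy classes, with ζ_ψ(z) = δ·Σ ψ'(y) over the N-orbit of ψ,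 for z with p-part y ≠ 1 in P. If moreover G has an involution lying in no proper normal subgroup of G, then exactly two of the three numbers −δ and a_χ (χ ∈ X non-principal) equal −1, and the product of the degrees of the two non-principal members of X and of any member of Y is a perfect square. -/
theorem result {G : Type*} [Group G] [Finite G] (p : ℕ) [Fact p.Prime] (M : Ideal Cfsg.AlgInt) (hM : Cfsg.IsPModular p M) (P : Sylow p G) (hab : IsMulCommutative P) (hP1 : Nat.card P ≠ 1) (hCN : (Subgroup.centralizer ((P : Subgroup G) : Set G)).relIndex (Subgroup.normalizer ((P : Subgroup G) : Set G)) = 3) (hcyc : ∃ g : G, g ∈ Subgroup.normalizer ((P : Subgroup G) : Set G) ∧ Subgroup.centralizer ((P : Subgroup G) : Set G) ⊔ Subgroup.zpowers g = Subgroup.normalizer ((P : Subgroup G) : Set G)) (hm2 : 3 + 1 < Nat.card P) (hfrob : ∀ y : G, y ∈ (P : Subgroup G) → y ≠ 1 → Subgroup.centralizer ({y} : Set G) ⊓ Subgroup.normalizer ((P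 : Subgroup G) : Set G) = Subgroup.centralizer ((P : Subgroup G) : Set G)) : ∃ (X Y : Set (Cfsg.IrrCharacter G)), Cfsg.principalBlock M G = X ∪ Y ∧ Disjoint X Y ∧ Nat.card X = 3 ∧ Nat.card Y = (Nat.card P - 1) / 3 ∧ (∃ χ₁ ∈ X, (χ₁ : G → ℂ) = fun _ => 1) ∧ ∃ (a : Cfsg.IrrCharacter G → ℤ) (δ : ℤ) (ζ : (↥(P : Subgroup G) →* ℂˣ) → Cfsg.IrrCharacter G), (δ = 1 ∨ δ = -1) ∧ (∀ χ ∈ X, (a χ = 1 ∨ a χ = -1) ∧ ∀ z y : G, Cfsg.IsPPart p z y → y ∈ (P : Subgroup G) → y ≠ 1 → (χ : G → ℂ) z = (a χ : ℂ)) ∧ (∀ ψ : ↥(P : Subgroup G) →* ℂˣ, ψ ≠ 1 → ζ ψ ∈ Y) ∧ (∀ η ∈ Y, ∃ ψ : ↥(P : Subgroup G) →* ℂˣ, ψ ≠ 1 ∧ ζ ψ = η) ∧ (∀ ψ ψ' : ↥(P : Subgroup G) →* ℂˣ, ψ ≠ 1 → (∃ n : G, n ∈ Subgroup.normalizer ((P : Subgroup G) : Set G) ∧ ∀ w w' : ↥(P : Subgroup G), (w' : G) = n * w * n⁻¹ → ψ' w' = ψ w) → ζ ψ' = ζ ψ) ∧ (∀ ψ : ↥(P : Subgroup G) →* ℂˣ, ψ ≠ 1 → ∀ (z : G) (y : ↥(P : Subgroup G)), Cfsg.IsPPart p z (y : G) → (y : G) ≠ 1 → (ζ ψ : G → ℂ) z = (δ :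 ℂ) * ∑ᶠ ψ' ∈ {ψ' : ↥(P : Subgroup G) →* ℂˣ | ∃ n : G, n ∈ Subgroup.normalizer ((P : Subgroup G) : Set G) ∧ ∀ w w' : ↥(P : Subgroup G), (w' : G) = n * w * n⁻¹ → ψ' w' = ψ w}, ((ψ' y : ℂˣ) : ℂ)) ∧ ((∃ t : G, orderOf t = 2 ∧ ∀ K : Subgroup G, K.Normal → t ∈ K → K = ⊤) → Nat.card {χ : Cfsg.IrrCharacter G // χ ∈ X ∧ (χ : G → ℂ) ≠ (fun _ => 1) ∧ a χ = -1} + (if δ = 1 then 1 else 0) = 2 ∧ ∀ η ∈ Y, IsSquare (Cfsg.charDegree (η : G → ℂ) * ∏ᶠ χ ∈ {χ : Cfsg.IrrCharacter G | χ ∈ X ∧ (χ : G → ℂ) ≠ fun _ => 1}, Cfsg.charDegree (χ : G → ℂ))) := by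
  classical
  haveI := hab
  haveI : Fintype (CfsgLib.Blk83.autGroup P) := Fintype.ofFinite _
  haveI := CfsgLib.Blk83.FreeOrbit.finite_orb (CfsgLib.Blk83.autGroup P)
  haveI : Fintype (CfsgLib.Blk83.FreeOrbit.Orb (CfsgLib.Blk83.autGroup P)) := Fintype.ofFinite _
  have hfix : ∀ y ∈ (P : Subgroup G), y ≠ 1 →
      Subgroup.centralizer ({y} : Set G) ⊓ Subgroup.normalizer ((P : Subgroup G) : Set G) ≤
        Subgroup.centralizer ((P : Subgroup G) : Set G) := fun y hy h1 => (hfrob y hy h1).le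
  have hT : Nat.card (CfsgLib.Blk83.autGroup P) = 3 :=
    (CfsgLib.Blk83.card_autGroup P).trans hCN
  obtain ⟨E, hd, hX3, ha⟩ := CfsgLib.Blk83.exists_exceptional_three (M := M) hM hfix hT hm2
  have hr : Nat.card (CfsgLib.Blk83.FreeOrbit.Orb (CfsgLib.Blk83.autGroup P)) =
      (Nat.card P - 1) / 3 := by
    have h := CfsgLib.Blk83.FreeOrbit.card_orb_mul _ (CfsgLib.Blk83.autGroup_free P hfix)
    rw [hT] at h
    exact (Nat.div_eq_of_eq_mul_left (by omega) (Nat.sub_eq_of_eq_add h.symm)).symm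
  refine ⟨Cfsg.principalBlock M G \ Set.range E.μ, Set.range E.μ,
    (Set.sdiff_union_of_subset (by rintro _ ⟨q, rfl⟩; exact E.μ_mem q)).symm,
    Set.disjoint_sdiff_left, hX3, (Nat.card_range_of_injective E.μ_injective).trans hr,
    ⟨CfsgLib.Char.principalIrr,
      ⟨CfsgLib.Blk83.principal_mem hM, fun ⟨q, hq⟩ => E.μ_ne_principal q hq⟩, rfl⟩,
    E.a, E.ε, E.zeta, E.hε,
    fun χ hχ => ⟨ha χ hχ, E.apply_nonexc_section hfix hM hχ⟩,
    fun ψ hψ => E.zeta_mem hψ, fun η hη => E.exists_zeta_eq hη,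
    fun ψ ψ' hψ h => E.zeta_const hψ h, fun ψ hψ z y hzy hy => ?_, ?_⟩
  · rw [E.zeta_apply hfix hM hψ z y hzy hy, hd, Int.cast_zero, zero_add]
  rintro ⟨t, ht, hgen⟩
  obtain ⟨χ₂, χ₃, h23, hne2, hne3, hX, hsign, hsq⟩ :=
    CfsgLib.Blk83.exceptional_three_involution hM hfix hT hm2 E hd hX3 ha ht hgen
  have hP : ∀ χ : Cfsg.IrrCharacter G,
      (χ : G → ℂ) ≠ (fun _ => 1) ↔ χ ≠ CfsgLib.Char.principalIrr := fun χ =>
    ⟨fun h e => h (e ▸ rfl), fun h e => h (Subtype.ext e)⟩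
  constructor
  · have hset : Nat.card {χ : Cfsg.IrrCharacter G // χ ∈ Cfsg.principalBlock M G \ Set.range E.μ ∧
        (χ : G → ℂ) ≠ (fun _ => 1) ∧ E.a χ = -1} =
        (({χ₂, χ₃} : Finset (Cfsg.IrrCharacter G)).filter fun χ => E.a χ = -1).card := by
      rw [← Nat.card_eq_finsetCard]
      refine Nat.card_congr (Equiv.subtypeEquivRight fun χ => ?_)
      rw [hX, hP]
      simp only [Set.mem_insert_iff, Set.mem_singleton_iff, Finset.mem_filter, Finset.mem_insert,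
        Finset.mem_singleton]
      constructor
      · rintro ⟨h | h, hne, he⟩
        · exact absurd h hne
        · exact ⟨h, he⟩
      · rintro ⟨h, he⟩
        exact ⟨Or.inr h, by rcases h with rfl | rfl <;> assumption, he⟩
    rw [hset, Finset.card_filter, Finset.sum_pair h23, ← hsign]
    congr 1
    rcases E.hε with h | h <;> simp [h]
  · rintro _ ⟨q, rfl⟩
    have hset : {χ : Cfsg.IrrCharacter G | χ ∈ Cfsg.principalBlock M G \ Set.range E.μ ∧
        (χ : G → ℂ) ≠ fun _ => 1} = {χ₂, χ₃} := by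
      ext χ
      rw [Set.mem_setOf_eq, hX, hP]
      simp only [Set.mem_insert_iff, Set.mem_singleton_iff]
      constructor
      · rintro ⟨h | h, hne⟩
        · exact absurd h hne
        · exact h
      · intro h
        exact ⟨Or.inr h, by rcases h with rfl | rfl <;> assumption⟩
    rw [hset, finprod_mem_pair h23, mul_comm]
    exact hsq q

end Cfsg.Agent.S4721
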