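import Cfsg.Statements.S4722
import Cfsg.Agent.Lib.Blk83.PrincipalColumn
import Cfsg.Agent.Lib.Blocks.Quotient
import Cfsg.Agent.Lib.Blocks.PrincipalPPower
import Cfsg.Agent.Lib.CharTools.Basic
import Cfsg.Agent.Lib.Solvable.Core

set_option autoImplicit false
open Cfsg CfsgLib.Blocks
open scoped ComplexConjugate

namespace Cfsg.Agent.S4722

/-- If real weights with at most one positive member annihilate `1, r, r²`, then `r` is constant on
the support. -/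
theorem const_of_single_sign {ι : Type*} (S : Finset ι) (w r : ι → ℝ) (h0 : ∑ i ∈ S, w i = 0)
    (h1 : ∑ i ∈ S, w i * r i = 0) (h2 : ∑ i ∈ S, w i * r i ^ 2 = 0)
    (hpos : ∀ i ∈ S, ∀ j ∈ S, 0 < w i → 0 < w j → i = j) :
    ∀ i ∈ S, ∀ j ∈ S, w i ≠ 0 → w j ≠ 0 → r i = r j := by
  intro i hi j hj hwi hwj
  by_cases hex : ∃ k ∈ S, 0 < w k
  · obtain ⟨k, hk, hwk⟩ := hex
    have hz : ∑ l ∈ S, w l * (r l - r k) ^ 2 = 0 := by
      have : ∀ l, w l * (r l - r k) ^ 2 = w l * r l ^ 2 + (-2 * r k) * (w l * r l) + r k ^ 2 * w l :=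
        fun l => by ring
      simp only [this, Finset.sum_add_distrib, ← Finset.mul_sum, h0, h1, h2, mul_zero, add_zero]
    have hle : ∀ l ∈ S, w l * (r l - r k) ^ 2 ≤ 0 := fun l hl => by
      by_cases hlk : l = k
      · simp [hlk]
      · exact mul_nonpos_of_nonpos_of_nonneg (le_of_not_gt fun h => hlk (hpos l hl k hk h hwk))
          (sq_nonneg _)
    have hall := (Finset.sum_eq_zero_iff_of_nonpos hle).mp hz
    have hr : ∀ l ∈ S, w l ≠ 0 → r l = r k := fun l hl hwl =>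
      sub_eq_zero.mp (pow_eq_zero_iff two_ne_zero |>.mp ((mul_eq_zero.mp (hall l hl)).resolve_left hwl))
    rw [hr i hi hwi, hr j hj hwj]
  · push Not at hex
    exact absurd ((Finset.sum_eq_zero_iff_of_nonpos hex).mp h0 i hi) hwi

/-- Let M be a maximal ideal of the algebraic integers containing 2, P a 2-subgroup of the finite group G, U a subset of P, and t an involution of G such that no element of U is inverted by any conjugate of t. Let θ be a generalized character of P vanishing outside U, and for χ in the principal 2-block B₀ put a_χ = #P⁻¹ Σ_{y ∈ P} χ(y) θ(y⁻¹). Then Σ_{χ ∈ B₀} a_χ χ(t)^2/χ(1) = 0, Σ_{χ ∈ B₀} a_χ χ(1) = 0 and Σ_{χ ∈ B₀} a_χ χ(t) = 0. If moreover #P⁻¹ Σ_{y ∈ P} θ(y) ≠ 0, then either at least two of the a_χ have positive real part and at least two have negative real part, or G has a proper normal subgroup containing O_2'(G) and t. -/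
theorem result {G : Type*} [Group G] [Finite G] (M : Ideal Cfsg.AlgInt) (hM : Cfsg.IsPModular 2 M) (P : Subgroup G) (hP : IsPGroup 2 P) (U : Set G) (hUP : U ⊆ (P : Set G)) (t : G) (ht : orderOf t = 2) (hinv : ∀ u ∈ U, ∀ g : G, (g * t * g⁻¹) * u * (g * t * g⁻¹)⁻¹ ≠ u⁻¹) (θ : ↥P → ℂ) (hθ : Cfsg.IsGeneralizedCharacter ↥P θ) (hθU : ∀ y : ↥P, (y : G) ∉ U → θ y = 0) : (∑ᶠ χ ∈ Cfsg.principalBlock M G, ((Nat.card ↥P : ℂ)⁻¹ * ∑ᶠ y : ↥P, (χ : G → ℂ) (y : G) * θ y⁻¹) * (χ : G → ℂ) t ^ 2 / (χ : G → ℂ) 1 = 0) ∧ (∑ᶠ χ ∈ Cfsg.principalBlock M G, ((Nat.card ↥P : ℂ)⁻¹ * ∑ᶠ y : ↥P, (χ : G → ℂ) (y : G) * θ y⁻¹) * (χ : G → ℂ) 1 = 0) ∧ (∑ᶠ χ ∈ Cfsg.principalBlock M G, ((Nat.card ↥P : ℂ)⁻¹ * ∑ᶠ y : ↥P, (χ : G → ℂ) (y : G) * θ y⁻¹) * (χ : G → ℂ) t = 0) ∧ ((Nat.card ↥P : ℂ)⁻¹ * ∑ᶠ y : ↥P, θ y ≠ 0 → (2 ≤ Nat.card {χ : Cfsg.IrrCharacter G // χ ∈ Cfsg.principalBlock M G ∧ 0 < (((Nat.card ↥P : ℂ)⁻¹ * ∑ᶠ y :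 ↥P, (χ : G → ℂ) (y : G) * θ y⁻¹)).re} ∧ 2 ≤ Nat.card {χ : Cfsg.IrrCharacter G // χ ∈ Cfsg.principalBlock M G ∧ (((Nat.card ↥P : ℂ)⁻¹ * ∑ᶠ y : ↥P, (χ : G → ℂ) (y : G) * θ y⁻¹)).re < 0}) ∨ ∃ K : Subgroup G, K.Normal ∧ K ≠ ⊤ ∧ Cfsg.pPrimeCore 2 G ≤ K ∧ t ∈ K) := by
  classical
  haveI : Fact (Nat.Prime 2) := ⟨Nat.prime_two⟩
  haveI := hM.2.1
  haveI := Fintype.ofFinite G
  haveI := Fintype.ofFinite P
  have htinv : t⁻¹ = t := inv_eq_of_mul_eq_one_right (by rw [← sq, ← ht, pow_orderOf_eq_one])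
  -- no element of U's section is inverted by a conjugate of t
  have hnoinv : ∀ y : P, (y : G)⁻¹ ∈ U → ∀ c ∈ Subgroup.centralizer ({(y : G)} : Set G),
      ¬ 2 ∣ orderOf c → ∀ g : G,
        (g * t * g⁻¹) * ((y : G) * c) * (g * t * g⁻¹)⁻¹ ≠ ((y : G) * c)⁻¹ := by
    intro y hyU c hc hreg g heq
    obtain ⟨k, hk⟩ := hP y
    obtain ⟨l, -, hl⟩ := (Nat.dvd_prime_pow Nat.prime_two).mp (orderOf_dvd_of_pow_eq_one hk)
    have h1 : Cfsg.IsPPart 2 ((y : G) * c) (y : G) := isPPart_of_commute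
      ((Subgroup.mem_centralizer_singleton_iff.mp hc).symm :) (k := l)
      (by rw [Subgroup.orderOf_coe, hl]) hreg
    have h2 := CfsgLib.Blocks.IsPPart.conj h1 (g * t * g⁻¹)
    rw [heq] at h2
    refine hinv _ hyU g ?_
    rw [← conj_inv, CfsgLib.Blocks.IsPPart.unique Nat.prime_two h2 (CfsgLib.Blocks.IsPPart.inv h1), inv_inv]
  set a : Cfsg.IrrCharacter G → ℂ := fun χ =>
    (Nat.card P : ℂ)⁻¹ * ∑ᶠ y : P, (χ : G → ℂ) (y : G) * θ y⁻¹ with ha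
  have hpe : ∀ y : P, ∃ k : ℕ, orderOf (y : G) = 2 ^ k := fun y => by
    obtain ⟨k, hk⟩ := hP y
    obtain ⟨l, -, hl⟩ := (Nat.dvd_prime_pow Nat.prime_two).mp (orderOf_dvd_of_pow_eq_one hk)
    exact ⟨l, by rw [Subgroup.orderOf_coe, hl]⟩
  have hcomb : ∀ f : Cfsg.IrrCharacter G → ℂ, (∀ y : P, (y : G)⁻¹ ∈ U →
      ∀ c ∈ Subgroup.centralizer ({(y : G)} : Set G), ¬ 2 ∣ orderOf c →
        ∑ χ : Cfsg.IrrCharacter G, (χ : G → ℂ) ((y : G) * c) * f χ = 0) →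
      ∑ᶠ χ ∈ Cfsg.principalBlock M G, a χ * f χ = 0 := by
    intro f hf
    have hswap : ∑ᶠ χ ∈ Cfsg.principalBlock M G, a χ * f χ = (Nat.card P : ℂ)⁻¹ *
        ∑ y : P, θ y⁻¹ * ∑ᶠ χ ∈ Cfsg.principalBlock M G, (χ : G → ℂ) (y : G) * f χ := by
      rw [finsum_mem_eq_toFinset_sum]
      simp only [fun y : P => finsum_mem_eq_toFinset_sum (fun χ : Cfsg.IrrCharacter G => (χ : G → ℂ) (y : G) * f χ)
        (Cfsg.principalBlock M G), ha, finsum_eq_sum_of_fintype, Finset.mul_sum,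
        Finset.sum_mul]
      rw [Finset.sum_comm]
      exact Finset.sum_congr rfl fun y _ => Finset.sum_congr rfl fun χ _ => by ring
    rw [hswap, Finset.sum_eq_zero, mul_zero]
    intro y _
    by_cases hθy : θ y⁻¹ = 0
    · rw [hθy, zero_mul]
    have hyU : ((y⁻¹ : P) : G) ∈ U := not_not.mp fun h => hθy (hθU _ h)
    rw [CfsgLib.Blk83.principal_column_eq_zero hM (hpe y) f, mul_zero]
    exact hf y (Subgroup.coe_inv (H := P) y ▸ hyU)
  have hfun1 : ∀ y : P, (y : G)⁻¹ ∈ U → ∀ c ∈ Subgroup.centralizer ({(y : G)} : Set G),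
      ¬ 2 ∣ orderOf c → ∑ χ : Cfsg.IrrCharacter G, (χ : G → ℂ) ((y : G) * c) * (χ : G → ℂ) 1 = 0 := by
    intro y hyU c hc hreg
    rw [Finset.sum_congr rfl (g := fun χ : Cfsg.IrrCharacter G =>
      (χ : G → ℂ) ((y : G) * c) * conj ((χ : G → ℂ) 1)) fun χ _ => by
        rw [← CfsgLib.Char.IsIrrCharacter.apply_inv χ.2, inv_one],
      CfsgLib.Char.sum_mul_conj, if_neg]
    intro h
    obtain ⟨u, hu⟩ := isConj_iff.mp h.symm
    rw [mul_one, mul_inv_cancel] at hu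
    exact hnoinv y hyU c hc hreg 1 (by rw [← hu]; simp)
  have hfunt : ∀ y : P, (y : G)⁻¹ ∈ U → ∀ c ∈ Subgroup.centralizer ({(y : G)} : Set G),
      ¬ 2 ∣ orderOf c → ∑ χ : Cfsg.IrrCharacter G, (χ : G → ℂ) ((y : G) * c) * (χ : G → ℂ) t = 0 := by
    intro y hyU c hc hreg
    rw [Finset.sum_congr rfl (g := fun χ : Cfsg.IrrCharacter G =>
      (χ : G → ℂ) ((y : G) * c) * conj ((χ : G → ℂ) t)) fun χ _ => by
        rw [← CfsgLib.Char.IsIrrCharacter.apply_inv χ.2, htinv],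
      CfsgLib.Char.sum_mul_conj, if_neg]
    intro h
    obtain ⟨u, hu⟩ := isConj_iff.mp h.symm
    refine hnoinv y hyU c hc hreg u ?_
    rw [← hu, mul_inv_cancel_right, conj_inv, htinv]
  have hfunt2 : ∀ y : P, (y : G)⁻¹ ∈ U → ∀ c ∈ Subgroup.centralizer ({(y : G)} : Set G),
      ¬ 2 ∣ orderOf c → ∑ χ : Cfsg.IrrCharacter G,
        (χ : G → ℂ) ((y : G) * c) * ((χ : G → ℂ) t ^ 2 / (χ : G → ℂ) 1) = 0 := by
    intro y hyU c hc hreg
    have hexp : ∀ χ : Cfsg.IrrCharacter G, (χ : G → ℂ) t ^ 2 / (χ : G → ℂ) 1 =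
        (Nat.card G : ℂ)⁻¹ * ∑ g : G, conj ((χ : G → ℂ) (t * (g⁻¹ * t * g))⁻¹) := by
      intro χ
      simp only [← CfsgLib.Char.IsIrrCharacter.apply_inv χ.2, inv_inv,
        CfsgLib.BlockReg.sum_char_mul_conj]
      have : (Nat.card G : ℂ) ≠ 0 := by exact_mod_cast Nat.card_pos.ne'
      field_simp
    simp only [hexp, Finset.mul_sum]
    rw [Finset.sum_comm]
    refine Finset.sum_eq_zero fun g _ => ?_
    simp only [mul_left_comm _ (Nat.card G : ℂ)⁻¹, ← Finset.mul_sum]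
    rw [CfsgLib.Char.sum_mul_conj, if_neg, mul_zero]
    intro h
    obtain ⟨u, hu⟩ := isConj_iff.mp h
    have ht2 : t * t = 1 := by rw [← sq, ← ht, pow_orderOf_eq_one]
    have hu2 : (y : G) * c = u⁻¹ * (t * (g⁻¹ * t * g))⁻¹ * u := by rw [← hu]; group
    refine hnoinv y hyU c hc hreg u⁻¹ ?_
    rw [hu2]
    simp only [mul_inv_rev, inv_inv, htinv]
    calc _ = u⁻¹ * (t * (g⁻¹ * t * g) * (t * t)) * u := by group
      _ = _ := by rw [ht2]; group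
  have e1 : ∑ᶠ χ ∈ Cfsg.principalBlock M G, a χ * ((χ : G → ℂ) t ^ 2 / (χ : G → ℂ) 1) = 0 :=
    hcomb _ hfunt2
  have e2 : ∑ᶠ χ ∈ Cfsg.principalBlock M G, a χ * (χ : G → ℂ) 1 = 0 := hcomb _ hfun1
  have e3 : ∑ᶠ χ ∈ Cfsg.principalBlock M G, a χ * (χ : G → ℂ) t = 0 := hcomb _ hfunt
  refine ⟨?_, e2, e3, fun hθ0 => ?_⟩
  · rw [← e1]
    exact finsum_mem_congr rfl fun χ _ => by rw [mul_div_assoc]
  -- the weights are real
  have hconjθ : ∀ y : P, conj (θ y) = θ y⁻¹ := by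
    intro y
    obtain ⟨φ, ψ, hφ, hψ, rfl⟩ := hθ
    simp [CfsgLib.Char.IsCharacter.apply_inv hφ, CfsgLib.Char.IsCharacter.apply_inv hψ]
  have hreal : ∀ χ, conj (a χ) = a χ := by
    intro χ
    simp only [ha, finsum_eq_sum_of_fintype, map_mul, map_inv₀, Complex.conj_natCast, map_sum]
    congr 1
    refine Fintype.sum_equiv (Equiv.inv P) _ _ fun y => ?_
    simp [hconjθ, CfsgLib.Char.IsIrrCharacter.apply_inv χ.2]
  have hret : ∀ χ : Cfsg.IrrCharacter G, conj ((χ : G → ℂ) t) = (χ : G → ℂ) t := fun χ => by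
    rw [← CfsgLib.Char.IsIrrCharacter.apply_inv χ.2, htinv]
  have hval : ∀ χ, a χ = ((a χ).re : ℂ) := fun χ => (Complex.conj_eq_iff_re.mp (hreal χ)).symm
  set d : Cfsg.IrrCharacter G → ℝ := fun χ => (Cfsg.charDegree (χ : G → ℂ) : ℝ) with hd
  have hdC : ∀ χ : Cfsg.IrrCharacter G, (χ : G → ℂ) 1 = ((d χ : ℝ) : ℂ) := fun χ => by
    rw [hd, ← CfsgLib.BlockReg.deg_cast]; push_cast; rfl
  have hdpos : ∀ χ, 0 < d χ := fun χ => by
    rw [hd]
    exact Nat.cast_pos.mpr (CfsgLib.BlockReg.deg_pos χ)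
  set r : Cfsg.IrrCharacter G → ℝ := fun χ => ((χ : G → ℂ) t).re / d χ with hr
  have hrC : ∀ χ : Cfsg.IrrCharacter G, (χ : G → ℂ) t = ((r χ * d χ : ℝ) : ℂ) := fun χ => by
    rw [hr, div_mul_cancel₀ _ (hdpos χ).ne', Complex.conj_eq_iff_re.mp (hret χ)]
  set S := (Cfsg.principalBlock M G).toFinset with hS
  set w : Cfsg.IrrCharacter G → ℝ := fun χ => (a χ).re * d χ with hw
  have w0 : ∑ χ ∈ S, w χ = 0 := by
    apply Complex.ofReal_injective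
    rw [Complex.ofReal_sum, Complex.ofReal_zero, ← e2, finsum_mem_eq_toFinset_sum]
    refine Finset.sum_congr rfl fun χ _ => ?_
    rw [hdC, hw, hval χ]
    push_cast
    rfl
  have w1 : ∑ χ ∈ S, w χ * r χ = 0 := by
    apply Complex.ofReal_injective
    rw [Complex.ofReal_sum, Complex.ofReal_zero, ← e3, finsum_mem_eq_toFinset_sum]
    refine Finset.sum_congr rfl fun χ _ => ?_
    rw [hrC, hw, hval χ]
    push_cast
    ring
  have w2 : ∑ χ ∈ S, w χ * r χ ^ 2 = 0 := by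
    apply Complex.ofReal_injective
    rw [Complex.ofReal_sum, Complex.ofReal_zero, ← e1, finsum_mem_eq_toFinset_sum]
    refine Finset.sum_congr rfl fun χ _ => ?_
    have : ((d χ : ℝ) : ℂ) ≠ 0 := Complex.ofReal_ne_zero.mpr (hdpos χ).ne'
    rw [hdC, hrC, hw, hval χ]
    push_cast
    field_simp
  by_contra hcon
  push Not at hcon
  obtain ⟨hlt, hK⟩ := hcon
  -- r is constant on the support
  have hcard : ∀ (q : Cfsg.IrrCharacter G → Prop),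
      Nat.card {χ : Cfsg.IrrCharacter G // χ ∈ Cfsg.principalBlock M G ∧ q χ} < 2 →
      ∀ χ ∈ S, ∀ χ' ∈ S, q χ → q χ' → χ = χ' := by
    intro q hq χ hχ χ' hχ' h h'
    haveI : Subsingleton {χ : Cfsg.IrrCharacter G // χ ∈ Cfsg.principalBlock M G ∧ q χ} :=
      Finite.card_le_one_iff_subsingleton.mp (by omega)
    exact congrArg Subtype.val
      (Subsingleton.elim (α := {χ : Cfsg.IrrCharacter G // χ ∈ Cfsg.principalBlock M G ∧ q χ})
        ⟨χ, Set.mem_toFinset.mp hχ, h⟩ ⟨χ', Set.mem_toFinset.mp hχ', h'⟩)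
  have hconst : ∀ χ ∈ S, ∀ χ' ∈ S, w χ ≠ 0 → w χ' ≠ 0 → r χ = r χ' := by
    by_cases hA : 2 ≤ Nat.card {χ : Cfsg.IrrCharacter G //
        χ ∈ Cfsg.principalBlock M G ∧ 0 < (a χ).re}
    · have hB := hlt hA
      intro χ hχ χ' hχ' h h'
      refine const_of_single_sign S (fun χ => - w χ) r ?_ ?_ ?_ ?_ χ hχ χ' hχ'
        (neg_ne_zero.mpr h) (neg_ne_zero.mpr h')
      · simp [w0]
      · simp [w1]
      · simp [w2]
      · intro i hi j hj hwi hwj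
        refine hcard (fun χ => (a χ).re < 0) hB i hi j hj ?_ ?_
        · exact (neg_of_mul_neg_left (neg_pos.mp hwi) (hdpos i).le)
        · exact (neg_of_mul_neg_left (neg_pos.mp hwj) (hdpos j).le)
    · refine const_of_single_sign S w r w0 w1 w2 fun i hi j hj hwi hwj => ?_
      exact hcard (fun χ => 0 < (a χ).re) (not_le.mp hA) i hi j hj
        (pos_of_mul_pos_left hwi (hdpos i).le) (pos_of_mul_pos_left hwj (hdpos j).le)
  set χ₁ : Cfsg.IrrCharacter G := CfsgLib.Char.principalIrr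
  have hχ₁ : χ₁ ∈ S := Set.mem_toFinset.mpr (principalIrr_mem_principalBlock)
  have ha₁ : a χ₁ ≠ 0 := by
    have : a χ₁ = (Nat.card P : ℂ)⁻¹ * ∑ᶠ y : P, θ y := by
      simp only [ha, finsum_eq_sum_of_fintype]
      congr 1
      refine Fintype.sum_equiv (Equiv.inv P) _ _ fun y => ?_
      simp [χ₁, CfsgLib.Char.principalIrr]
    rw [this]
    exact hθ0
  have hw₁ : w χ₁ ≠ 0 := mul_ne_zero (fun h => ha₁ (by rw [hval χ₁, h, Complex.ofReal_zero]))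
    (hdpos χ₁).ne'
  obtain ⟨χ, hχ, hχne, hwχ⟩ : ∃ χ ∈ S, χ ≠ χ₁ ∧ w χ ≠ 0 := by
    by_contra h
    push Not at h
    exact hw₁ ((Finset.sum_eq_single χ₁ h (fun h' => absurd hχ₁ h')).symm.trans w0)
  have hr1 : r χ = 1 := by
    rw [hconst χ hχ χ₁ hχ₁ hwχ hw₁]
    simp [hr, hd, χ₁, CfsgLib.Char.principalIrr, Cfsg.charDegree]
  obtain ⟨K, hKn, hKmem, -⟩ :=
    CfsgLib.CharTools.exists_kernel (CfsgLib.Char.IsIrrCharacter.isCharacter χ.2)
  have hKtop : K ≠ ⊤ := fun h => hχne (Subtype.ext (by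
    rw [eq_one_of_const χ fun g => (hKmem g).mp (h ▸ Subgroup.mem_top g)]
    rfl))
  refine hK K hKn hKtop ?_ ((hKmem t).mpr (by rw [hrC, hdC, hr1, one_mul]))
  haveI := CfsgLib.Solvable.pPrimeCore_normal 2 G
  intro n hn
  rw [hKmem]
  refine trivialOn_of_sameBlock (p := 2) (Cfsg.pPrimeCore 2 G) hM ?_ (χ := χ₁)
    (fun _ _ => rfl) (Set.mem_toFinset.mp hχ) n hn
  exact Nat.prime_two.coprime_iff_not_dvd.mp (CfsgLib.Solvable.pPrimeCore_card_coprime 2 G).symm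

end Cfsg.Agent.S4722
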