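import Cfsg.Statements.S4723
import Cfsg.Agent.Lib.Blocks.DefectRank
import Cfsg.Agent.Lib.Blocks.Cover

set_option autoImplicit false
set_option maxHeartbeats 1000000
set_option synthInstance.maxHeartbeats 400000
open Cfsg

namespace Cfsg.Agent.S4723

open CfsgLib.Blocks CfsgLib.Char CfsgLib.BlockReg

/-- The weight of a character of a normal subgroup is invariant under conjugation. -/
theorem pairWeight_conjIrr {G : Type*} [Group G] [Finite G] {p : ℕ} [Fact p.Prime] (H : Subgroup G)
    [H.Normal] (P : Sylow p H) (θ : IrrCharacter H) (g : G) (c : ℕ) :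
    pairWeight (P : Subgroup H) c (conjIrr H θ g) = pairWeight (P : Subgroup H) c θ := by
  classical
  letI := Fintype.ofFinite H
  set φ : H ≃* H := MulAut.conjNormal (H := H) g
  let P' : Sylow p H := P.mapSurjective (f := φ.toMonoidHom) φ.surjective
  obtain ⟨h, hh⟩ := MulAction.exists_smul_eq H P P'
  have hP' : (P : Subgroup H).map (MulAut.conj h).toMonoidHom = (P : Subgroup H).map φ.toMonoidHom := by
    have := congrArg (fun Q : Sylow p H => (Q : Subgroup H)) hh
    exact this
  have hm1 : ∀ χ : IrrCharacter H, permMult (P : Subgroup H) χ =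
      (Nat.card (P : Subgroup H) : ℂ)⁻¹ *
        ∑ s : (P : Subgroup H), (starRingEnd ℂ) ((χ : H → ℂ) s) := fun χ => by
    unfold permMult
    rw [classInner_indFun _ _ _ (IsIrrCharacter.isClassFunction χ.2), classInner]
    simp
  have hdeg : charDegree (conjIrr H θ g : H → ℂ) = charDegree (θ : H → ℂ) := by
    rw [charDegree, charDegree, coe_conjIrr, CfsgLib.CharTwist.conjFun_eq_comp, Function.comp_apply,
      map_one]
  rw [pairWeight, pairWeight, hdeg, hm1, hm1]
  congr 2
  let e : (P : Subgroup H) ≃* (P : Subgroup H) :=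
    (((P : Subgroup H).equivMapOfInjective φ.toMonoidHom φ.injective).trans
      (MulEquiv.subgroupCongr hP'.symm)).trans
        ((P : Subgroup H).equivMapOfInjective (MulAut.conj h).toMonoidHom (MulAut.conj h).injective).symm
  have hcl := IsIrrCharacter.isClassFunction θ.2
  refine Fintype.sum_equiv e.toEquiv _ _ fun s => congrArg _ ?_
  have hes : h * ((e s : (P : Subgroup H)) : H) * h⁻¹ = φ (s : H) := by
    have h1 := congrArg Subtype.val (((P : Subgroup H).equivMapOfInjective
      (MulAut.conj h).toMonoidHom (MulAut.conj h).injective).apply_symm_apply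
        (((((P : Subgroup H).equivMapOfInjective φ.toMonoidHom φ.injective).trans
      (MulEquiv.subgroupCongr hP'.symm))) s))
    exact h1
  rw [coe_conjIrr, CfsgLib.CharTwist.conjFun_eq_comp, Function.comp_apply, ← hes]
  exact hcl (e s : H) h

/-- Let p be a prime, M a maximal ideal of the algebraic integers containing p, H a normal subgroup of the finite group G and b a p-block of H. Let T be the stabilizer of b in G. Then b contains a character θ of height zero whose own stabilizer in G (the elements g with θ(g h g⁻¹) = θ(h) for all h ∈ H) has index prime to p in T, i.e. contains a Sylow p-subgroup of T. -/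
theorem result {G : Type*} [Group G] [Finite G] (p : ℕ) [Fact p.Prime] (M : Ideal Cfsg.AlgInt) (hM : Cfsg.IsPModular p M) (H : Subgroup G) [H.Normal] (b : Set (Cfsg.IrrCharacter ↥H)) (hb : Cfsg.IsPBlock M b) (T : Subgroup G) (hT : (∀ g : G, g ∈ T ↔ ∀ θ ∈ b, ∀ θ' : Cfsg.IrrCharacter ↥H, (∀ h h' : ↥H, (h' : G) = g * h * g⁻¹ → (θ' : ↥H → ℂ) h' = (θ : ↥H → ℂ) h) → θ' ∈ b)) : ∃ θ ∈ b, Cfsg.blockHeight p b (θ : ↥H → ℂ) = 0 ∧ ∃ S : Subgroup G, S ≤ T ∧ (∀ g : G, g ∈ S ↔ (g ∈ T ∧ ∀ h h' : ↥H, (h' : G) = g * h * g⁻¹ → (θ : ↥H → ℂ) h' = (θ : ↥H → ℂ) h)) ∧ ¬ p ∣ S.relIndex T := by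
  classical
  haveI := hM.2.1
  haveI := Fintype.ofFinite G
  haveI := Fintype.ofFinite H
  set k := minExp p b with hk
  let X := {θ : IrrCharacter H // θ ∈ b ∧ (charDegree (θ : H → ℂ)).factorization p = k}
  have hconj : ∀ g ∈ T, ∀ θ ∈ b, conjIrr H θ g ∈ b := fun g hg θ hθ => by
    refine (hT g⁻¹).1 (T.inv_mem hg) θ hθ _ fun a a' e => ?_
    rw [coe_conjIrr]
    refine congrArg (θ : H → ℂ) (Subtype.ext ?_)
    simp [e, mul_assoc]
  have hdeg : ∀ (g : G) (θ : IrrCharacter H),
      charDegree (conjIrr H θ g : H → ℂ) = charDegree (θ : H → ℂ) := fun g θ => by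
    rw [charDegree, charDegree, coe_conjIrr, CfsgLib.CharTwist.conjFun_eq_comp, Function.comp_apply,
      map_one]
  letI : MulAction T X :=
    { smul := fun t θ => ⟨conjIrr H θ.1 (t : G)⁻¹,
        hconj _ (T.inv_mem t.2) _ θ.2.1, by rw [hdeg]; exact θ.2.2⟩
      one_smul := fun θ => Subtype.ext (by
        show conjIrr H θ.1 ((1 : T) : G)⁻¹ = _
        rw [OneMemClass.coe_one, inv_one, conjIrr_one])
      mul_smul := fun t u θ => Subtype.ext (by
        show conjIrr H θ.1 ((t * u : T) : G)⁻¹ = conjIrr H (conjIrr H θ.1 (u : G)⁻¹) (t : G)⁻¹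
        rw [Subgroup.coe_mul, mul_inv_rev, conjIrr_mul]) }
  haveI : Fintype X := Fintype.ofFinite X
  obtain ⟨P⟩ : Nonempty (Sylow p H) := inferInstance
  have hex : ∃ θ : X, ¬ p ∣ (MulAction.stabilizer T θ).index := by
    by_contra hall
    push Not at hall
    apply sum_pairWeight_not_memIdeal hM P hb (k := k) rfl
    rw [← Finset.sum_filter, Finset.sum_subtype (p := fun θ => θ ∈ b ∧
      (charDegree (θ : H → ℂ)).factorization p = k) _ (fun θ => by simp) _]
    let orb : X → Set X := fun θ => MulAction.orbit T θ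
    rw [← Finset.sum_fiberwise_of_maps_to (t := Finset.univ.image orb) (g := orb)
      (fun θ _ => Finset.mem_image_of_mem orb (Finset.mem_univ θ))]
    refine memIdeal_sum hM _ fun O hO => ?_
    obtain ⟨θ₀, -, rfl⟩ := Finset.mem_image.1 hO
    rw [Finset.sum_congr rfl (g := fun _ => pairWeight (P : Subgroup H) (p ^ k) θ₀.1)]
    · rw [Finset.sum_const, nsmul_eq_mul]
      refine memIdeal_mul_right hM ?_ (memRing_pairWeight hM P (le_of_eq θ₀.2.2.symm))
      obtain ⟨c, hc⟩ := hall θ₀
      rw [MulAction.index_stabilizer, Set.ncard_eq_toFinset_card'] at hc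
      have hcard : (Finset.univ.filter fun θ : X => orb θ = orb θ₀).card =
          (MulAction.orbit T θ₀).toFinset.card := congrArg Finset.card (by
        ext θ
        simp [orb, MulAction.orbit_eq_iff])
      rw [hcard, hc, Nat.cast_mul]
      exact memIdeal_mul_right hM (((memIdeal_natCast_iff hM p).2 dvd_rfl)) (memRing_natCast hM c)
    · intro θ hθ
      rw [Finset.mem_filter, MulAction.orbit_eq_iff] at hθ
      obtain ⟨t, rfl⟩ := hθ.2
      exact pairWeight_conjIrr H P θ₀.1 _ _
  obtain ⟨θ, hθ⟩ := hex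
  refine ⟨θ.1, θ.2.1, ?_, (MulAction.stabilizer T θ).map T.subtype, Subgroup.map_subtype_le _,
    fun g => ?_, ?_⟩
  · rw [blockHeight, θ.2.2, hk]
    exact Nat.sub_self _
  · constructor
    · rintro ⟨t, ht, rfl⟩
      refine ⟨t.2, fun a a' e => ?_⟩
      have h1 : conjIrr H θ.1 (t : G)⁻¹ = θ.1 := congrArg Subtype.val ht
      have h2 := congrFun (congrArg (fun x : IrrCharacter H => (x : H → ℂ)) h1) a'
      rw [← h2, coe_conjIrr, CfsgLib.CharTwist.conjFun]
      refine congrArg (θ.1 : H → ℂ) (Subtype.ext ?_)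
      simp [e, mul_assoc]
    · rintro ⟨hg, h⟩
      refine ⟨⟨g, hg⟩, Subtype.ext (Subtype.ext (funext fun n => ?_)), rfl⟩
      show (conjIrr H θ.1 g⁻¹ : H → ℂ) n = _
      rw [coe_conjIrr, CfsgLib.CharTwist.conjFun]
      exact (h _ n (by simp [mul_assoc])).symm
  · rwa [Subgroup.relIndex, Subgroup.subgroupOf,
      Subgroup.comap_map_eq_self_of_injective T.subtype_injective]

end Cfsg.Agent.S4723
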