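import Cfsg.Statements.S4725
import Cfsg.Agent.Lib.BlockReg.Height
import Cfsg.Agent.Lib.Char.Induced
import Cfsg.Agent.Lib.Char.Complete
import Cfsg.Agent.Lib.Char.Virtual

set_option autoImplicit false
open Cfsg

namespace Cfsg.Agent.S4725

open CfsgLib.BlockReg
open scoped ComplexConjugate

/-- Let p be a prime, M a maximal ideal of the algebraic integers containing p, H a subgroup of the finite group G, and b a p-block of H inducing the p-block B of G, with b and B of the same defect. Then for every height-zero ζ ∈ b there is a height-zero χ ∈ B whose multiplicity in the character induced from ζ is not divisible by p. -/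
theorem result {G : Type*} [Group G] [Fintype G] (p : ℕ) [Fact p.Prime] (M : Ideal Cfsg.AlgInt) (hM : Cfsg.IsPModular p M) (H : Subgroup G) (b : Set (Cfsg.IrrCharacter ↥H)) (B : Set (Cfsg.IrrCharacter G)) (hind : Cfsg.IsInducedBlock M H b B) (hdef : Cfsg.blockDefect p b = Cfsg.blockDefect p B) (ζ : Cfsg.IrrCharacter ↥H) (hζ : ζ ∈ b) (hζ0 : Cfsg.blockHeight p b (ζ : ↥H → ℂ) = 0) : ∃ χ ∈ B, Cfsg.blockHeight p B (χ : G → ℂ) = 0 ∧ ∃ a : ℕ, Cfsg.classInner (Cfsg.indFun H (ζ : ↥H → ℂ)) (χ : G → ℂ) = (a : ℂ) ∧ ¬ p ∣ a := by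
  classical
  have : Fintype (ConjClasses G) := Fintype.ofFinite _
  obtain ⟨hb, hB, hind⟩ := hind
  set mb := minExp p b with hmb
  set mB := minExp p B with hmB
  have hζm : (Cfsg.charDegree (ζ : ↥H → ℂ)).factorization p = mb := by
    rw [blockHeight_eq] at hζ0
    have := minExp_le (p := p) hζ
    omega
  have hmult : ∀ χ : Cfsg.IrrCharacter G, ∃ a : ℕ,
      Cfsg.classInner (Cfsg.indFun H (ζ : ↥H → ℂ)) (χ : G → ℂ) = (a : ℂ) := fun χ =>
    CfsgLib.Char.IsCharacter.exists_nat_classInner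
      (CfsgLib.Char.IsCharacter.indFun (hθ := CfsgLib.Char.IsIrrCharacter.isCharacter ζ.2)) χ.2
  choose n hn using hmult
  by_contra hcon
  push Not at hcon
  -- the weighted degree of the projection
  obtain ⟨χ₀, hχ₀, hχ₀m⟩ := exists_minExp (p := p) (block_nonempty hM hB)
  have hHG : (Nat.card G : ℂ) = (H.index : ℂ) * Nat.card H := by exact_mod_cast H.index_mul_card.symm
  have hS : ∑ χ ∈ B.toFinset, (n χ : ℂ) * (χ : G → ℂ) 1 =
      (H.index : ℂ) * ∑ h : H, (ζ : ↥H → ℂ) h * Cfsg.blockCoeff B (h : G) := by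
    have h1 : ∀ χ : Cfsg.IrrCharacter G, (n χ : ℂ) =
        (Nat.card H : ℂ)⁻¹ * ∑ h : H, (ζ : ↥H → ℂ) h * conj ((χ : G → ℂ) (h : G)) := fun χ => by
      rw [← hn χ, CfsgLib.Char.classInner_indFun (hχ := CfsgLib.Char.IsIrrCharacter.isClassFunction χ.2)]
      rfl
    simp only [h1, Cfsg.blockCoeff, finsum_mem_eq_toFinset_sum, Finset.mul_sum, Finset.sum_mul]
    rw [Finset.sum_comm]
    refine Finset.sum_congr rfl fun h _ => Finset.sum_congr rfl fun χ _ => ?_
    have hH0 : (Nat.card H : ℂ) ≠ 0 := by exact_mod_cast Nat.card_pos.ne'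
    have hi0 : (H.index : ℂ) ≠ 0 := by exact_mod_cast Subgroup.index_ne_zero_of_finite
    rw [hHG]
    field_simp
  have hu : MemLocalIdeal M ((∑ h : H, (ζ : ↥H → ℂ) h * Cfsg.blockCoeff B (h : G)) / (ζ : ↥H → ℂ) 1 - 1) := by
    have h1 := (sum_blockCoeff_mul_char B χ₀).1 hχ₀
    rw [sum_mul_char_div χ₀ (Cfsg.blockCoeff B) (fun g g' hg => blockCoeff_congr B hg)] at h1
    have h2 : (∑ h : H, (ζ : ↥H → ℂ) h * Cfsg.blockCoeff B (h : G)) / (ζ : ↥H → ℂ) 1 =
        ∑ C : ConjClasses G, Cfsg.blockCoeff B C.out *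
          Cfsg.inducedCentralChar H (ζ : ↥H → ℂ) C.out := by
      rw [Finset.sum_div, ← Finset.sum_fiberwise Finset.univ (fun h : H => ConjClasses.mk (h : G))]
      refine Finset.sum_congr rfl fun C _ => ?_
      rw [Cfsg.inducedCentralChar, finsum_mem_eq_toFinset_sum, Finset.mul_sum]
      have hout : ConjClasses.mk C.out = C := Quotient.out_eq C
      refine Finset.sum_congr ?_ fun h hh => ?_
      · ext h
        rw [Finset.mem_filter, Set.mem_toFinset, Set.mem_setOf_eq, ← ConjClasses.mk_eq_mk_iff_isConj, hout]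
        simp [eq_comm]
      · rw [Set.mem_toFinset, Set.mem_setOf_eq] at hh
        rw [blockCoeff_congr B hh.symm]
        ring
    rw [h2, ← h1, ← Finset.sum_sub_distrib]
    refine memIdeal_sum hM _ fun C _ => ?_
    rw [← mul_sub]
    exact memIdeal_mul_left hM (memRing_blockCoeff hM hB _) (hind ζ hζ χ₀ hχ₀ C.out)
  set N := H.index * Cfsg.charDegree (ζ : ↥H → ℂ) with hN
  have hN0 : N ≠ 0 := mul_ne_zero Subgroup.index_ne_zero_of_finite (deg_pos ζ).ne'
  have hdiv : MemLocalIdeal M ((∑ χ ∈ B.toFinset, (n χ : ℂ) * (χ : G → ℂ) 1) / (N : ℂ)) := by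
    rw [Finset.sum_div]
    refine memIdeal_sum hM _ fun χ hχ => ?_
    rw [Set.mem_toFinset] at hχ
    rcases Nat.eq_zero_or_pos (n χ) with h0 | h0
    · simp [h0, memIdeal_zero hM]
    rw [← deg_cast, ← Nat.cast_mul]
    refine natCast_div_memIdeal hM hN0 ?_
    rw [hN, Nat.factorization_mul Subgroup.index_ne_zero_of_finite (deg_pos ζ).ne',
      Nat.factorization_mul h0.ne' (deg_pos χ).ne']
    simp only [Finsupp.add_apply, hζm]
    have hidx : H.index.factorization p + (Nat.card H).factorization p = (Nat.card G).factorization p := by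
      rw [← H.index_mul_card, Nat.factorization_mul Subgroup.index_ne_zero_of_finite Nat.card_pos.ne',
        Finsupp.add_apply]
    have hmbH : mb ≤ (Nat.card H).factorization p := hζm ▸ factorization_deg_le ζ
    have hmBG : mB ≤ (Nat.card G).factorization p := hχ₀m.symm.trans_le (factorization_deg_le χ₀)
    rw [blockDefect_eq, blockDefect_eq] at hdef
    have hge := minExp_le (p := p) hχ
    by_cases hh : Cfsg.blockHeight p B (χ : G → ℂ) = 0
    · have hp : 1 ≤ (n χ).factorization p :=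
        (Fact.out : p.Prime).factorization_pos_of_dvd h0.ne' (hcon χ hχ hh (n χ) (hn χ))
      omega
    · rw [blockHeight_eq] at hh
      omega
  rw [hS, hN, Nat.cast_mul, deg_cast,
    mul_div_mul_left _ _ (show (H.index : ℂ) ≠ 0 by exact_mod_cast Subgroup.index_ne_zero_of_finite)] at hdiv
  exact not_memIdeal_one hM (by simpa using memIdeal_sub hM hdiv hu)

end Cfsg.Agent.S4725
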