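import Cfsg.Statements.S4726
import Cfsg.Agent.Lib.Blocks.Pairs.InducedIn
import Cfsg.Agent.Lib.Blocks.Pairs.Local
import Cfsg.Agent.Lib.Blocks.Pairs.Correspondence
import Cfsg.Agent.Lib.Blocks.Pairs.Defect
import Cfsg.Agent.Lib.Blocks.EquivDefect
import Cfsg.Agent.Lib.Blocks.Induced

set_option autoImplicit false
open Cfsg

namespace Cfsg.Agent.S4726

open CfsgLib.Blocks CfsgLib.Blocks.Pairs in
/-- A defect group of the induced block with centre inside the smaller defect group. -/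
theorem main {G : Type*} [Group G] [Finite G] {p : ℕ} [Fact p.Prime] {M : Ideal Cfsg.AlgInt}
    (hM : Cfsg.IsPModular p M) {H : Subgroup G} {b : Set (Cfsg.IrrCharacter H)}
    (hb : Cfsg.IsPBlock M b) {D₀ : Subgroup H} (hD₀ : Cfsg.IsDefectGroup p M b D₀)
    (hC : Subgroup.centralizer ((D₀.map H.subtype : Subgroup G) : Set G) ≤ H) :
    ∃ B, Cfsg.IsInducedBlock M H b B ∧ ∃ D : Subgroup G, Cfsg.IsDefectGroup p M B D ∧
      (Subgroup.center D).map D.subtype ≤ D₀.map H.subtype ∧ D₀.map H.subtype ≤ D := by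
  haveI := isMaximal_of_isPModular hM
  haveI : CharP (ResField M) p := charP_resField hM.1 (natCast_mem_of_isPModular hM)
  set P := D₀.map H.subtype with hPdef
  have hPH : P ≤ H := Subgroup.map_subtype_le _
  have hDp := isPGroup_defectGroup hD₀
  have hPp : IsPGroup p P := hDp.map _
  have hmax := maxR_of_isDefectGroup hM hb hD₀
  set L := Subgroup.centralizer (P : Set G) with hL
  set L' := Subgroup.centralizer (D₀ : Set H) with hL'
  obtain ⟨e, he⟩ := exists_pairOf (isBlockIdem_ebar hb) hDp hmax.ne_zero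
  have hno : NoExt p D₀ e := hmax.noExt he
  obtain ⟨β, hβ, rfl⟩ := exists_eIn_eq he.pair.block
  have hL'eq : L' = L.subgroupOf H := centralizer_subgroupOf_map D₀
  let φ : L' ≃* L := (MulEquiv.subgroupCongr hL'eq).trans (Subgroup.subgroupOfEquivOfLe hC)
  have hφ : ∀ k : L', (φ k : G) = ((k : H) : G) := fun k => rfl
  set c := pullSet φ.symm β with hcdef
  have hc : Cfsg.IsPBlock M c := isPBlock_pullSet φ.symm hβ
  have hcβ : pullSet φ c = β := by
    rw [hcdef, pullSet, pullSet, Set.image_image]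
    simp only [pull_pull_symm, Set.image_id']
  have hup : up H (eIn hβ) = eIn hc := by
    ext g
    by_cases hg : g ∈ L
    · have hgH := hC hg
      have hg' : (⟨g, hgH⟩ : H) ∈ Subgroup.centralizer (D₀ : Set H) := by
        show _ ∈ L'
        rw [hL'eq]; exact hg
      simp only [up, eIn, coeff_ofFun, dif_pos hgH, dif_pos hg', dif_pos hg, coeff_ebar]
      congr 1
      apply Subtype.ext
      show blockCoeff β _ = blockCoeff (pullSet φ.symm β) _
      rw [blockCoeff_pullSet]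
      rfl
    · conv_rhs => rw [eIn, up_suppIn _ _ g hg]
      by_cases hgH : g ∈ H
      · have hg' : (⟨g, hgH⟩ : H) ∉ Subgroup.centralizer (D₀ : Set H) := by
          show _ ∉ L'
          rw [hL'eq]; exact hg
        simp [up, hgH, eIn, hg']
      · rw [up_suppIn H _ g hgH]
  have hβb : Cfsg.IsInducedBlock M L' β b := (isInducedBlock_iff_pairOf hM hDp hb hβ).mpr he
  obtain ⟨B, hcB⟩ := exists_isInducedBlock_pcentralizer hM hPp hc
  have hbB : Cfsg.IsInducedBlock M H b B := isInducedBlock_trans H φ hφ (hcβ.symm ▸ hβb) hcB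
  refine ⟨B, hbB, ?_⟩
  have hpair : PairOf p (ebar hcB.2.1) P (eIn hc) :=
    (isInducedBlock_iff_pairOf hM hPp hcB.2.1 hc).mp hcB
  obtain ⟨R, g, hle, hR, hRno⟩ := exists_noExt_sle hpair
  refine ⟨R, (isDefectGroup_iff_maxR hM hcB.2.1).mpr (maxR_of_noExt hR hRno), ?_, hle.le⟩
  set Z := (Subgroup.center R).map R.subtype with hZ
  have hZR : Z ≤ R := Subgroup.map_subtype_le _
  have hZC : Z ≤ L := by
    rintro _ ⟨z, hz, rfl⟩
    rw [hL, Subgroup.mem_centralizer_iff]
    intro x hx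
    exact congrArg Subtype.val (Subgroup.mem_center_iff.mp hz ⟨x, hle.le hx⟩)
  obtain ⟨g', hns⟩ := ns_of_sle hR.pair hle (le_sup_left (b := Z)) (sup_le hle.le hZR)
    (sup_le Subgroup.le_normalizer (hZC.trans (Subgroup.centralizer_le_normalizer _)))
  have hdown := hns.down_of_le (L := H) (sup_le hPH (hZC.trans hC)) hC
  rw [← hup, down_up, show P.subgroupOf H = D₀ from
    Subgroup.comap_map_eq_self_of_injective H.subtype_injective D₀] at hdown
  have hSD := hno _ _ hdown
  intro z hz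
  have hz' : (⟨z, hC (hZC hz)⟩ : H) ∈ (P ⊔ Z).subgroupOf H := Subgroup.mem_sup_right hz
  rw [hSD] at hz'
  exact ⟨_, hz', rfl⟩

/-- Let p be a prime, M a maximal ideal of the algebraic integers containing p, H a subgroup of the finite group G and b a p-block of H with defect group D₀ such that C_G(D₀) ≤ H. Then b induces a block of G, and for every block B of G induced by b there is a defect group D of B with Z(D) ≤ Z(D₀) ≤ D₀ ≤ D (as subgroups of G). In particular, if the defect groups of B are abelian then D₀ is a defect group of B. -/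
theorem result {G : Type*} [Group G] [Finite G] (p : ℕ) [Fact p.Prime] (M : Ideal Cfsg.AlgInt) (hM : Cfsg.IsPModular p M) (H : Subgroup G) (b : Set (Cfsg.IrrCharacter ↥H)) (hb : Cfsg.IsPBlock M b) (D₀ : Subgroup ↥H) (hD₀ : Cfsg.IsDefectGroup p M b D₀) (hC : Subgroup.centralizer ((D₀.map H.subtype : Subgroup G) : Set G) ≤ H) : Cfsg.InducedBlockDefined M H b ∧ ∀ B : Set (Cfsg.IrrCharacter G), Cfsg.IsInducedBlock M H b B → (∃ D : Subgroup G, Cfsg.IsDefectGroup p M B D ∧ (Subgroup.center ↥D).map D.subtype ≤ ((Subgroup.center ↥D₀).map D₀.subtype).map H.subtype ∧ ((Subgroup.center ↥D₀).map D₀.subtype).map H.subtype ≤ D₀.map H.subtype ∧ D₀.map H.subtype ≤ D) ∧ (∀ D : Subgroup G, Cfsg.IsDefectGroup p M B D → IsMulCommutative ↥D → Cfsg.IsDefectGroup p M B (D₀.map H.subtype)) := by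
  obtain ⟨B₀, hbB₀, D, hD, hZ, hle⟩ := main hM hb hD₀ hC
  haveI := CfsgLib.Blocks.isMaximal_of_isPModular hM
  refine ⟨⟨B₀, hbB₀⟩, fun B hB => ?_⟩
  obtain rfl : B₀ = B := CfsgLib.Blocks.IsInducedBlock.unique hbB₀ hB
  refine ⟨⟨D, hD, ?_, Subgroup.map_mono (Subgroup.map_subtype_le _), hle⟩, fun E hE habE => ?_⟩
  · rintro _ ⟨z, hz, rfl⟩
    obtain ⟨w, hw, hwz⟩ := hZ ⟨z, hz, rfl⟩
    refine ⟨w, ⟨⟨w, hw⟩, ?_, rfl⟩, hwz⟩
    rw [SetLike.mem_coe, Subgroup.mem_center_iff]
    intro y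
    have h1 := congrArg Subtype.val (Subgroup.mem_center_iff.mp hz ⟨_, hle ⟨y, y.2, rfl⟩⟩)
    refine Subtype.ext (Subtype.ext ?_)
    show ((y : H) : G) * (w : G) = (w : G) * ((y : H) : G)
    rw [show (w : G) = (z : G) from hwz]
    exact h1
  · obtain ⟨x, hx⟩ := (CfsgLib.Blocks.Pairs.maxR_of_isDefectGroup hM hB.2.1 hE).exists_conj
      (CfsgLib.Blocks.Pairs.maxR_of_isDefectGroup hM hB.2.1 hD)
    have hDE : D ≤ D₀.map H.subtype := by
      intro d hd
      refine hZ ⟨⟨d, hd⟩, ?_, rfl⟩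
      rw [SetLike.mem_coe, Subgroup.mem_center_iff]
      intro y
      refine Subtype.ext ?_
      have hd' := CfsgLib.Blocks.Pairs.mem_conjSub.mp (hx.ge hd)
      have hy' := CfsgLib.Blocks.Pairs.mem_conjSub.mp (hx.ge y.2)
      have h2 : (⟨_, hy'⟩ : E) * ⟨_, hd'⟩ = ⟨_, hd'⟩ * ⟨_, hy'⟩ := mul_comm' _ _
      have h3 := congrArg Subtype.val h2
      simp only [Subgroup.coe_mul] at h3
      show (y : G) * d = d * (y : G)
      calc (y : G) * d = x * ((x⁻¹ * y * x) * (x⁻¹ * d * x)) * x⁻¹ := by group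
        _ = x * ((x⁻¹ * d * x) * (x⁻¹ * y * x)) * x⁻¹ := by rw [h3]
        _ = d * (y : G) := by group
    rw [le_antisymm hle hDE]
    exact hD

end Cfsg.Agent.S4726
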