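import Cfsg.Statements.S4727
import Cfsg.Agent.Lib.Blk83.PiKernelBlocks
import Cfsg.Agent.Lib.Blocks.Section

set_option autoImplicit false
open Cfsg

namespace Cfsg.Agent.S4727

open CfsgLib.Blocks in
/-- The blocks separate the identity. -/
theorem sum_blocks_blockCoeff {C : Type*} [Group C] [Finite C] {M : Ideal Cfsg.AlgInt} [M.IsMaximal]
    [DecidableEq C] [Fintype (Cfsg.IrrCharacter C)]
    (S : Finset (Set (Cfsg.IrrCharacter C))) (hS : ∀ b, b ∈ S ↔ Cfsg.IsPBlock M b) (c : C) :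
    ∑ b ∈ S, Cfsg.blockCoeff b c = if c = 1 then 1 else 0 := by
  classical
  have h1 : ∀ χ : Cfsg.IrrCharacter C, ∑ b ∈ S, (blockInd b χ : ℂ) = 1 := by
    intro χ
    rw [Finset.sum_eq_single (Cfsg.blockOf M (χ : C → ℂ))]
    · rw [blockInd, if_pos (mem_blockOf_self χ)]
    · intro b hb hne
      rw [blockInd, if_neg fun h => hne (IsPBlock.eq_blockOf ((hS b).mp hb) h)]
    · intro h
      exact absurd ((hS _).mpr (isPBlock_blockOf χ)) h
  simp only [blockCoeff_eq_sum, ← Finset.mul_sum]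
  rw [Finset.sum_comm]
  simp only [← Finset.sum_mul, h1, one_mul]
  have h2 : ∀ χ : Cfsg.IrrCharacter C, (starRingEnd ℂ) ((χ : C → ℂ) c) = (χ : C → ℂ) c⁻¹ := fun χ =>
    (CfsgLib.Char.IsIrrCharacter.apply_inv χ.2 c).symm
  simp only [h2, CfsgLib.Char.sum_apply_one_mul, inv_eq_one]
  split_ifs with h
  · exact inv_mul_cancel₀ (Nat.cast_ne_zero.mpr Nat.card_pos.ne')
  · exact mul_zero _

/-- Let p be a prime, π a set of primes containing p, M a maximal ideal of the algebraic integers containing p, and B a p-block of the finite group G with defect group D; let B₁ be the block of N_G(D) with defect group D that induces B (the Brauer correspondent of B). Suppose every element of O_π'(N_G(D)), the largest normal subgroup of N_G(D) whose order has no prime divisor in π, lies in the kernel of every member of B₁. If y is a p-element whose centralizer C has a normal Hall π'-subgroup (every element of C whose order has no prime divisor in π lies in O_π'(C)),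 then χ(y x) = χ(y) for every χ ∈ B and every x ∈ C whose order has no prime divisor in π. -/
theorem result {G : Type*} [Group G] [Finite G] (p : ℕ) [Fact p.Prime] (M : Ideal Cfsg.AlgInt) (hM : Cfsg.IsPModular p M) (π : Set ℕ) (hpπ : p ∈ π) (B : Set (Cfsg.IrrCharacter G)) (hB : Cfsg.IsPBlock M B) (D : Subgroup G) (hBD : Cfsg.IsDefectGroup p M B D) (B₁ : Set (Cfsg.IrrCharacter ↥(Subgroup.normalizer (D : Set G)))) (hB₁ : Cfsg.IsInducedBlock M (Subgroup.normalizer (D : Set G)) B₁ B) (hB₁D : Cfsg.IsDefectGroup p M B₁ (D.subgroupOf (Subgroup.normalizer (D : Set G)))) (hker : ∀ n : ↥(Subgroup.normalizer (D : Set G)), n ∈ Cfsg.piCore {q | q ∉ π} ↥(Subgroup.normalizer (D : Set G)) → n ∈ Cfsg.blockKer B₁) (y : G) (hy : ∃ k : ℕ, orderOf y = p ^ k) (hC : ∀ x : ↥(Subgroup.centralizer ({y} : Set G)), (∀ q : ℕ, q.Prime → q ∣ orderOf x → q ∉ π) → x ∈ Cfsg.piCore {q | q ∉ π} ↥(Subgroup.centralizer ({y} : Set G))) : ∀ χ ∈ B, ∀ x : G, x ∈ Subgroup.centralizer ({y} :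 Set G) → (∀ q : ℕ, q.Prime → q ∣ orderOf x → q ∉ π) → (χ : G → ℂ) (y * x) = (χ : G → ℂ) y := by
  classical
  haveI := CfsgLib.Blocks.isMaximal_of_isPModular hM
  haveI : CharP (CfsgLib.Blocks.ResField M) p :=
    CfsgLib.Blocks.charP_resField hM.1 (CfsgLib.Blocks.natCast_mem_of_isPModular hM)
  haveI := Fintype.ofFinite G
  obtain ⟨e, he, hno, hiff⟩ := CfsgLib.Blk83.PiKer.normalizer_data hM hpπ hB hBD hB₁
  have hTe := hiff.mpr hker
  intro χ hχ x hxC hxpi
  obtain ⟨k₀, hk₀⟩ := hy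
  set Y := Subgroup.zpowers y with hYdef
  have hYp : IsPGroup p Y := CfsgLib.Blocks.isPGroup_zpowers hk₀
  set C := Subgroup.centralizer ({y} : Set G) with hCdef
  have hCY : Subgroup.centralizer (Y : Set G) = C := by
    rw [hYdef, Subgroup.zpowers_eq_closure, Subgroup.centralizer_closure]
  haveI := Fintype.ofFinite C
  haveI : Fintype (Cfsg.IrrCharacter C) := Fintype.ofFinite _
  have hyC : y ∈ C := Subgroup.mem_centralizer_singleton_iff.mpr rfl
  have hYC : Y ≤ C := Subgroup.zpowers_le.mpr hyC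
  have hCN : C ≤ Subgroup.normalizer (Y : Set G) := hCY ▸ Subgroup.centralizer_le_normalizer _
  set S : Finset (Set (Cfsg.IrrCharacter C)) :=
    Finset.univ.image fun θ : Cfsg.IrrCharacter C => Cfsg.blockOf M (θ : C → ℂ) with hSdef
  have hS : ∀ b, b ∈ S ↔ Cfsg.IsPBlock M b := fun b => by
    simp only [hSdef, Finset.mem_image, Finset.mem_univ, true_and, Cfsg.IsPBlock, eq_comm]
  -- the function attached to a block of the centralizer
  set f : Set (Cfsg.IrrCharacter C) → C → ℂ := fun b h =>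
    ∑ k : C, Cfsg.blockCoeff b k * (χ : G → ℂ) ((k : G) * (h : G)) with hfdef
  have hsum : ∀ h : C, (χ : G → ℂ) h = ∑ b ∈ S, f b h := fun h => by
    simp only [hfdef]
    rw [Finset.sum_comm]
    simp [← Finset.sum_mul, sum_blocks_blockCoeff S hS]
  have hpart : ∀ z : C, ¬ p ∣ orderOf (z : G) → Cfsg.IsPPart p (y * (z : G)) y := by
    intro z hz
    exact ⟨z, rfl, (Subgroup.mem_centralizer_singleton_iff.mp z.2).symm, ⟨k₀, hk₀⟩, hz⟩
  have hx : ¬ p ∣ orderOf x := fun hd => hxpi p Fact.out hd hpπ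
  have hkey : ∀ b ∈ S, f b ⟨y * x, C.mul_mem hyC hxC⟩ = f b ⟨y, hyC⟩ := by
    intro b hb
    obtain ⟨B', hind⟩ := CfsgLib.Blocks.exists_isInducedBlock hM hYp hYC hCY.le hCN ((hS b).mp hb)
    by_cases hBB : B' = B
    · subst hBB
      obtain ⟨g, hg, hbg⟩ := CfsgLib.Blk83.PiKer.exists_pair_below hM hYp hYC hCY.le hCN hind
      have hTg : CfsgLib.Blk83.PiKer.Triv π Y g := CfsgLib.Blk83.PiKer.triv_of_maximal hpπ he hno hTe hg
      unfold CfsgLib.Blk83.PiKer.Triv at hTg
      rw [hCY] at hTg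
      have hKC := CfsgLib.OddOrder.le_normalizer_piCoreOf (G := G) {q | q ∉ π} C
      have hKp := CfsgLib.Blk83.PiKer.not_dvd_card_of_pi hpπ
        (CfsgLib.OddOrder.piCoreOf_isPiSubgroup (G := G) {q | q ∉ π} C)
      have hKb : CfsgLib.Blk83.PiKer.avgA (CfsgLib.Blk83.PiKer.piO π C) *
          CfsgLib.Blocks.Pairs.eIn hind.1 = CfsgLib.Blocks.Pairs.eIn hind.1 := by
        refine CfsgLib.Blk83.PiKer.mul_eq_of_ne_zero (CfsgLib.Blocks.Pairs.isBlockIdem_eIn hind.1)
          (CfsgLib.Blk83.PiKer.inCenter_avgA (CfsgLib.OddOrder.piCoreOf_le _ _) hKC)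
          (CfsgLib.Blk83.PiKer.avgA_idem (CfsgLib.Blk83.PiKer.natCast_ne_zero' hKp))
          fun h0 => hg.pair.block.ne_zero ?_
        rw [← hTg, ← hbg, ← mul_assoc, h0, zero_mul]
      have hker' := (CfsgLib.Blk83.PiKer.avgA_mul_eIn_iff (CfsgLib.OddOrder.piCoreOf_le _ _) hKC hM
        hKp hind.1).mp hKb
      set xC : C := ⟨x, hxC⟩ with hxCdef
      have hxK : xC ∈ Cfsg.piCore {q | q ∉ π} C :=
        hC xC (by simpa [hxCdef, Subgroup.orderOf_mk] using hxpi)
      have hmul : ∀ θ ∈ b, ∀ a : C, (θ : C → ℂ) (a * xC⁻¹) = (θ : C → ℂ) a := by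
        intro θ hθ a
        obtain ⟨η, hη⟩ := CfsgLib.Blocks.exists_infl_eq (Cfsg.piCore {q | q ∉ π} C) (ψ := θ)
          fun n hn => hker' θ hθ n ⟨n, hn, rfl⟩
        rw [← hη]
        simp [(QuotientGroup.eq_one_iff xC).mpr hxK]
      have hcoef : ∀ a : C, Cfsg.blockCoeff b (a * xC⁻¹) = Cfsg.blockCoeff b a := by
        intro a
        unfold Cfsg.blockCoeff
        congr 1
        exact finsum_mem_congr rfl fun θ hθ => by rw [hmul θ hθ a]
      simp only [hfdef]
      rw [← Equiv.sum_comp (Equiv.mulRight xC⁻¹)]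
      refine Finset.sum_congr rfl fun k _ => ?_
      rw [Equiv.coe_mulRight, hcoef]
      show Cfsg.blockCoeff b k * (χ : G → ℂ) ((k : G) * x⁻¹ * (y * x)) = _
      rw [show (k : G) * x⁻¹ * (y * x) = (k : G) * y by
        rw [← Subgroup.mem_centralizer_singleton_iff.mp hxC]; group]
    · have hz : ∀ (z : C), ¬ p ∣ orderOf (z : G) → f b ⟨y * z, C.mul_mem hyC z.2⟩ = 0 := by
        intro z hz
        have h1 := CfsgLib.Blocks.sum_blockCoeff_mul_char_eq_zero (Fact.out : p.Prime)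
          (CfsgLib.Blocks.natCast_mem_of_isPModular hM) hind
          (h := (⟨y * z, C.mul_mem hyC z.2⟩ : C)) (hpart z hz) le_rfl
          (χ := χ) fun hmem => hBB (CfsgLib.Blocks.IsPBlock.eq_of_mem hind.2.1 hB hmem hχ)
        rwa [finsum_eq_sum_of_fintype] at h1
      have h1 := hz 1 (by simp [(Fact.out : p.Prime).not_dvd_one])
      simp only [OneMemClass.coe_one, mul_one] at h1
      rw [hz ⟨x, hxC⟩ hx, h1]
  rw [show y * x = ((⟨y * x, C.mul_mem hyC hxC⟩ : C) : G) from rfl, hsum,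
    Finset.sum_congr rfl hkey, ← hsum]

end Cfsg.Agent.S4727
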