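import Cfsg.Statements.S4728
import Cfsg.Agent.Lib.Blk83.PiKernelBlocks

set_option autoImplicit false
open Cfsg

namespace Cfsg.Agent.S4728

/-- Let p be a prime, π a set of primes containing p, M a maximal ideal of the algebraic integers containing p, B a p-block of the finite group G with defect group D, and B₁ the block of N_G(D) with defect group D inducing B. Let D₀ be a p-subgroup, H₀ = D₀·C_G(D₀), and b a block of H₀ inducing B. Write O_π'(X) for the largest normal subgroup of X whose order has no prime divisor in π. Suppose that O_π'(C_G(D₀)) is a normal Hall π'-subgroup of C_G(D₀) (it contains every element of C_G(D₀) whose order has no prime divisor in π) and that every element of it lies in the kernel of every member of b. Then every element of O_π'(N_G(D)) lies in the kernel of every member of B₁. -/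
theorem result {G : Type*} [Group G] [Finite G] (p : ℕ) [Fact p.Prime] (M : Ideal Cfsg.AlgInt) (hM : Cfsg.IsPModular p M) (π : Set ℕ) (hpπ : p ∈ π) (B : Set (Cfsg.IrrCharacter G)) (hB : Cfsg.IsPBlock M B) (D : Subgroup G) (hBD : Cfsg.IsDefectGroup p M B D) (B₁ : Set (Cfsg.IrrCharacter ↥(Subgroup.normalizer (D : Set G)))) (hB₁ : Cfsg.IsInducedBlock M (Subgroup.normalizer (D : Set G)) B₁ B) (hB₁D : Cfsg.IsDefectGroup p M B₁ (D.subgroupOf (Subgroup.normalizer (D : Set G)))) (D₀ : Subgroup G) (hD₀ : IsPGroup p D₀) (H₀ : Subgroup G) (hH₀ : H₀ = D₀ ⊔ Subgroup.centralizer (D₀ : Set G)) (b : Set (Cfsg.IrrCharacter ↥H₀)) (hb : Cfsg.IsInducedBlock M H₀ b B) (hcompl : ∀ x : ↥(Subgroup.centralizer (D₀ : Set G)), (∀ q : ℕ, q.Prime → q ∣ orderOf x → q ∉ π) → x ∈ Cfsg.piCore {q | q ∉ π} ↥(Subgroup.centralizer (D₀ : Set G))) (hkerb : ∀ x : ↥(Subgroup.centralizer (D₀ : Set G)), x ∈ Cfsg.piCore {q | q ∉ π} ↥(Subgroup.centralizer (D₀ : Set G))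 → ∀ θ ∈ b, ∀ h : ↥H₀, (h : G) = (x : G) → (θ : ↥H₀ → ℂ) h = (θ : ↥H₀ → ℂ) 1) : ∀ n : ↥(Subgroup.normalizer (D : Set G)), n ∈ Cfsg.piCore {q | q ∉ π} ↥(Subgroup.normalizer (D : Set G)) → n ∈ Cfsg.blockKer B₁ := by
  haveI := CfsgLib.Blocks.isMaximal_of_isPModular hM
  haveI : CharP (CfsgLib.Blocks.ResField M) p :=
    CfsgLib.Blocks.charP_resField hM.1 (CfsgLib.Blocks.natCast_mem_of_isPModular hM)
  obtain ⟨e, he, hno, hiff⟩ := CfsgLib.Blk83.PiKer.normalizer_data hM hpπ hB hBD hB₁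
  refine hiff.mp ?_
  have hDH : D₀ ≤ H₀ := hH₀ ▸ le_sup_left
  have hCH : Subgroup.centralizer (D₀ : Set G) ≤ H₀ := hH₀ ▸ le_sup_right
  have hHN : H₀ ≤ Subgroup.normalizer (D₀ : Set G) :=
    hH₀ ▸ sup_le Subgroup.le_normalizer (Subgroup.centralizer_le_normalizer _)
  obtain ⟨f, hf, hbf⟩ := CfsgLib.Blk83.PiKer.exists_pair_below hM hD₀ hDH hCH hHN hb
  refine CfsgLib.Blk83.PiKer.triv_maximal_of he hno hf (CfsgLib.Blk83.PiKer.hall_of_subtype hcompl) ?_
  show CfsgLib.Blk83.PiKer.avgA _ * f = f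
  have hK : CfsgLib.Blk83.PiKer.avgA
      (CfsgLib.Blk83.PiKer.piO π (Subgroup.centralizer (D₀ : Set G))) *
      CfsgLib.Blocks.Pairs.eIn hb.1 = CfsgLib.Blocks.Pairs.eIn hb.1 := by
    rw [CfsgLib.Blk83.PiKer.avgA_mul_eIn_iff ((CfsgLib.OddOrder.piCoreOf_le _ _).trans hCH)
      (hHN.trans ((CfsgLib.Blocks.Pairs.normalizer_le_normalizer_centralizer D₀).trans
        (CfsgLib.OddOrder.normalizer_le_normalizer_piCoreOf _ _))) hM
      (CfsgLib.Blk83.PiKer.not_dvd_card_of_pi hpπ (CfsgLib.OddOrder.piCoreOf_isPiSubgroup _ _)) hb.1]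
    intro θ hθ h hh
    obtain ⟨x, hx, hxh⟩ := hh
    exact hkerb x hx θ hθ h hxh.symm
  rw [← hbf, ← mul_assoc, hK]

end Cfsg.Agent.S4728
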