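import Cfsg.Statements.S4729
import Cfsg.Agent.Lib.Blk83.LocalFacts
import Cfsg.Agent.Lib.Blk83.PairCount
import Cfsg.Agent.Lib.Char.Basic
import Cfsg.Agent.Lib.Char.Integral
import Mathlib.LinearAlgebra.Determinant
import Mathlib.GroupTheory.Abelianization.Defs
import Mathlib.Algebra.Field.GeomSum

set_option autoImplicit false
open Cfsg

namespace Cfsg.Agent.S4729

open CfsgLib.Blk83

/-- A `p`-regular element centralizing a Sylow `p`-subgroup is trivial. -/
theorem small_core {G : Type*} [Group G] [Finite G] {p : ℕ} [Fact p.Prime] {M : Ideal Cfsg.AlgInt}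
    (hM : Cfsg.IsPModular p M) (hperf : commutator G = ⊤) (P : Sylow p G) {d : ℕ}
    (ρ : Representation ℂ G (Fin d → ℂ)) [ρ.IsIrreducible]
    (hfaith : ∀ g : G, ρ.character g = ρ.character 1 → g = 1) (hdeg : d < 2 * p)
    (hB : Cfsg.SameBlock M (fun _ : G => (1 : ℂ)) ρ.character)
    (x : G) (hxo : ¬ p ∣ orderOf x) (hxC : x ∈ Subgroup.centralizer ((P : Subgroup G) : Set G)) : x = 1 := by
  classical
  haveI := hM.2.1
  have hp : p.Prime := Fact.out
  set D := Module.finrank ℂ (Fin d → ℂ) with hD
  have hDd : D = d := Module.finrank_fin_fun ℂ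
  have hd0 : d ≠ 0 := hDd ▸ (CfsgLib.Char.finrank_pos_of_irreducible ρ).ne'
  have hd1 : ρ.character 1 = (d : ℂ) := by simp
  -- congruence at every power of `x`
  have hcong : ∀ j : ℕ, MemLocalIdeal M (1 - ρ.character (x ^ j) / d) := by
    intro j
    have hidx : ¬ p ∣ (Subgroup.centralizer ({x ^ j} : Set G)).index := by
      refine fun h => P.not_dvd_index (h.trans (Subgroup.index_dvd_of_le fun w hw => ?_))
      rw [Subgroup.mem_centralizer_singleton_iff]
      exact Subgroup.mem_centralizer_iff.mp (Subgroup.pow_mem _ hxC j) w hw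
    refine li_of_natCast_mul hM hidx ?_
    have := hB (x ^ j)
    simp only [Cfsg.centralChar, hd1, div_one, mul_one] at this
    rw [mul_sub, mul_one, ← mul_div_assoc]
    exact this
  obtain ⟨b, μ, hμ, hb⟩ := CfsgLib.Char.exists_eigenbasis ρ x
  have hpow : ∀ (k : ℕ), ρ.character (x ^ k) = ∑ i, μ i ^ k := by
    intro k
    refine CfsgLib.Char.trace_eq_sum_of_eigenbasis _ b _ fun i => ?_
    induction k with
    | zero => simp
    | succ k ih =>
      rw [map_pow] at ih ⊢
      rw [pow_succ', Module.End.mul_apply, ih, map_smul, hb, smul_smul, pow_succ]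
  set n := orderOf x
  have hn0 : n ≠ 0 := (orderOf_pos x).ne'
  set v := d.factorization p with hv
  have hmult : ∀ ω : ℂ, ω ≠ 1 → ω ^ n = 1 → p ^ (v + 1) ∣ (Finset.univ.filter fun i => μ i = ω).card := by
    intro ω hω1 hωn
    set m := (Finset.univ.filter fun i => μ i = ω).card
    have hω0 : ω ≠ 0 := fun h => by rw [h, zero_pow hn0] at hωn; exact one_ne_zero hωn.symm
    have hgeom : ∀ z : ℂ, z ^ n = 1 → z ≠ 1 → ∑ j ∈ Finset.range n, z ^ j = 0 := fun z hz h1 => by
      rw [geom_sum_eq h1, hz, sub_self, zero_div]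
    have hsum : ∑ j ∈ Finset.range n, ρ.character (x ^ j) * ω⁻¹ ^ j = (n : ℂ) * m := by
      simp only [hpow, Finset.sum_mul, ← mul_pow]
      rw [Finset.sum_comm]
      have : ∀ i, ∑ j ∈ Finset.range n, (μ i * ω⁻¹) ^ j = if μ i = ω then (n : ℂ) else 0 := by
        intro i
        split_ifs with h
        · simp [h, hω0]
        · refine hgeom _ (by rw [mul_pow, inv_pow, hμ i, hωn]; simp) fun h' => h ?_
          rw [mul_inv_eq_one₀ hω0] at h'
          exact h'
      simp only [this]
      rw [Finset.sum_ite, Finset.sum_const_zero, add_zero, Finset.sum_const, nsmul_eq_mul, mul_comm]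
    have hli : MemLocalIdeal M ((n : ℂ) * ((m : ℂ) / d)) := by
      have h0 : ∑ j ∈ Finset.range n, ω⁻¹ ^ j = 0 := hgeom _ (by rw [inv_pow, hωn, inv_one]) (by simpa using hω1)
      have h1 : MemLocalIdeal M (∑ j ∈ Finset.range n, ω⁻¹ ^ j * (1 - ρ.character (x ^ j) / d)) := by
        refine li_sum _ fun j _ => li_mul_int ?_ (hcong j)
        refine IsIntegral.pow (IsIntegral.of_pow (n := n) (Nat.pos_of_ne_zero hn0) ?_) j
        rw [inv_pow, hωn, inv_one]; exact isIntegral_one
      have h2 : ∑ j ∈ Finset.range n, ω⁻¹ ^ j * (1 - ρ.character (x ^ j) / d) = -((n : ℂ) * ((m : ℂ) / d)) := by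
        simp only [mul_sub, mul_one, Finset.sum_sub_distrib, h0, zero_sub]
        rw [← mul_div_assoc, ← hsum, Finset.sum_div]
        congr 1
        exact Finset.sum_congr rfl fun j _ => by ring
      rw [h2] at h1
      simpa using li_neg h1
    have hli' := li_of_natCast_mul hM hxo hli
    rcases Nat.eq_zero_or_pos m with h | h
    · exact h ▸ dvd_zero _
    · exact (hp.pow_dvd_iff_le_factorization h.ne').mpr ((natCast_div_li_iff hM h.ne' hd0).mp hli')
  have hall : ∀ i, μ i = 1 := by
    intro i
    by_contra hne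
    have hle : ∀ ω : ℂ, (Finset.univ.filter fun i => μ i = ω).card ≤ d := fun ω =>
      (Finset.card_filter_le _ _).trans_eq (by rw [Finset.card_univ, Fintype.card_fin]; exact hDd)
    have hpos : 0 < (Finset.univ.filter fun j => μ j = μ i).card := Finset.card_pos.mpr ⟨i, by simp⟩
    have hdvd := hmult (μ i) hne (hμ i)
    have hge := Nat.le_of_dvd hpos hdvd
    have hv0 : v = 0 := by
      by_contra hv0
      have h1 : p ^ 2 ≤ p ^ (v + 1) := Nat.pow_le_pow_right hp.pos (by omega)
      have h2 := hle (μ i)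
      nlinarith [hp.two_le]
    have hcard : (Finset.univ.filter fun j => μ j = μ i).card = p := by
      rw [hv0, zero_add, pow_one] at hdvd
      obtain ⟨c, hc⟩ := hdvd
      have h2 := hle (μ i)
      have h3 : c < 2 := by nlinarith
      interval_cases c <;> omega
    have hother : ∀ j, μ j ≠ μ i → μ j = 1 := by
      intro j hj
      by_contra hj1
      have hpos' : 0 < (Finset.univ.filter fun l => μ l = μ j).card := Finset.card_pos.mpr ⟨j, by simp⟩
      have h1 := Nat.le_of_dvd hpos' (hmult (μ j) hj1 (hμ j))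
      rw [hv0, zero_add, pow_one] at h1
      have hdisj : Disjoint (Finset.univ.filter fun l => μ l = μ i) (Finset.univ.filter fun l => μ l = μ j) :=
        Finset.disjoint_filter.mpr fun l _ h h' => hj (h'.symm.trans h)
      have h2 := (Finset.card_union_of_disjoint hdisj) ▸ Finset.card_le_univ _
      rw [Fintype.card_fin] at h2
      omega
    have hdet : LinearMap.det (ρ x) = μ i ^ p := by
      rw [← LinearMap.det_toMatrix b, show LinearMap.toMatrix b b (ρ x) = Matrix.diagonal μ from ?_,
        Matrix.det_diagonal, ← Finset.prod_filter_mul_prod_filter_not Finset.univ (fun j => μ j = μ i),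
        Finset.prod_congr rfl (fun j hj => (Finset.mem_filter.mp hj).2), Finset.prod_const, hcard,
        Finset.prod_eq_one (fun j hj => hother j (Finset.mem_filter.mp hj).2), mul_one]
      ext r c
      rw [LinearMap.toMatrix_apply, hb]
      simp [Finsupp.single_apply, Matrix.diagonal_apply, eq_comm]
      aesop
    have hx1 : LinearMap.det (ρ x) = 1 := by
      let δ : G →* ℂ := (LinearMap.det : ((Fin d → ℂ) →ₗ[ℂ] (Fin d → ℂ)) →* ℂ).comp ρ
      have hker : x ∈ δ.toHomUnits.ker :=
        Abelianization.commutator_subset_ker _ (hperf.symm ▸ Subgroup.mem_top x)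
      exact congrArg Units.val (MonoidHom.mem_ker.mp hker)
    have hωp : μ i ^ p = 1 := hdet.symm.trans hx1
    have := pow_gcd_eq_one.mpr ⟨hωp, hμ i⟩
    rw [(hp.coprime_iff_not_dvd.mpr hxo).gcd_eq_one, pow_one] at this
    exact hne this
  apply hfaith
  have h := hpow 1
  simp only [pow_one] at h
  rw [h, hd1]
  simp [hall, hDd]

/-- Let p be a prime, M a maximal ideal of the algebraic integers containing p, G a finite perfect group and P a Sylow p-subgroup. If the principal p-block of G contains a faithful irreducible character of degree less than 2p, then the centralizer of P is a p-group. -/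
theorem result {G : Type*} [Group G] [Finite G] (p : ℕ) [Fact p.Prime] (M : Ideal Cfsg.AlgInt) (hM : Cfsg.IsPModular p M) (hperf : commutator G = ⊤) (P : Sylow p G) (χ : Cfsg.IrrCharacter G) (hχ : χ ∈ Cfsg.principalBlock M G) (hfaith : ∀ g : G, (χ : G → ℂ) g = (χ : G → ℂ) 1 → g = 1) (hdeg : Cfsg.charDegree (χ : G → ℂ) < 2 * p) : IsPGroup p ↥(Subgroup.centralizer ((P : Subgroup G) : Set G)) := by
  classical
  intro x
  have hp : p.Prime := Fact.out
  have ho : orderOf x ≠ 0 := (orderOf_pos x).ne'
  refine ⟨(orderOf x).factorization p, ?_⟩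
  set u := x ^ p ^ (orderOf x).factorization p with hu
  have huo : ¬ p ∣ orderOf u := by
    rw [hu, orderOf_pow_of_dvd (pow_ne_zero _ hp.ne_zero) (Nat.ordProj_dvd _ p)]
    exact Nat.not_dvd_ordCompl hp ho
  obtain ⟨f, d, ρ, hirr, rfl⟩ := χ
  haveI := hirr
  have hd : Cfsg.charDegree (ρ.character) = d := by simp [Cfsg.charDegree]
  rw [hd] at hdeg
  refine Subtype.ext (small_core hM hperf P ρ hfaith hdeg hχ u.1 ?_ u.2)
  rw [Subgroup.orderOf_coe]
  exact huo

end Cfsg.Agent.S4729
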