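import Cfsg.Statements.S4730
import Cfsg.Agent.Lib.Blk83.LocalFacts
import Cfsg.Agent.Lib.Blk83.PairCount
import Cfsg.Agent.Lib.Char.Basic
import Cfsg.Agent.Lib.Char.Integral

set_option autoImplicit false
open Cfsg

namespace Cfsg.Agent.S4730

open CfsgLib.Blk83

theorem central_value {G : Type*} [Group G] [Finite G] {p : ℕ} [Fact p.Prime] (χ : Cfsg.IrrCharacter G)
    (hfaith : ∀ g : G, (χ : G → ℂ) g = (χ : G → ℂ) 1 → g = 1) (hZ : Subgroup.center G = ⊥) (n : ℕ)
    (hdeg : Cfsg.charDegree (χ : G → ℂ) = p ^ n) (y : G) (hy : y ≠ 1)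
    (hidx : ¬ p ∣ (Subgroup.centralizer ({y} : Set G)).index) : (χ : G → ℂ) y = 0 := by
  obtain ⟨f, k, ρ, hirr, rfl⟩ := χ
  haveI := hirr
  have hk : k = p ^ n := by
    rw [← hdeg]; simp [Cfsg.charDegree]
  have hcop : Nat.Coprime (Module.finrank ℂ (Fin k → ℂ)) (Subgroup.centralizer ({y} : Set G)).index := by
    rw [Module.finrank_fin_fun, hk]
    exact ((Fact.out : p.Prime).coprime_iff_not_dvd.mpr hidx).pow_left n
  refine (CfsgLib.Char.char_eq_zero_or_norm_eq_finrank ρ y hcop).resolve_right fun h => ?_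
  obtain ⟨ω, hω⟩ := CfsgLib.Char.eq_smul_one_of_norm_character_eq ρ y h
  apply hy
  rw [← Subgroup.mem_bot, ← hZ, Subgroup.mem_center_iff]
  intro g
  have hc : ρ (g * y * g⁻¹ * y⁻¹) = 1 := by
    have h1 : ρ g * ρ y = ρ y * ρ g := by rw [hω, smul_one_mul, mul_smul_one]
    calc ρ (g * y * g⁻¹ * y⁻¹) = ρ g * ρ y * ρ g⁻¹ * ρ y⁻¹ := by simp only [map_mul]
      _ = ρ (y * g * g⁻¹ * y⁻¹) := by rw [h1]; simp only [map_mul]
      _ = 1 := by simp
  have h1 := hfaith (g * y * g⁻¹ * y⁻¹) (by
    change LinearMap.trace ℂ _ (ρ _) = LinearMap.trace ℂ _ (ρ 1)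
    rw [hc, map_one ρ])
  rw [mul_inv_eq_one, mul_inv_eq_iff_eq_mul] at h1
  exact h1

/-- Let p be a prime, M a maximal ideal of the algebraic integers containing p, and G a finite group with trivial centre, Sylow p-subgroup P of order p^a and centre Z(P) of order p^b. If χ is a faithful irreducible character of G whose degree is a power of p, then the p-block of χ has defect at most a − b; in particular, if P is abelian then χ lies in a block of defect zero. -/
theorem result {G : Type*} [Group G] [Finite G] (p : ℕ) [Fact p.Prime] (M : Ideal Cfsg.AlgInt) (hM : Cfsg.IsPModular p M) (hZ : Subgroup.center G = ⊥) (P : Sylow p G) (a b : ℕ) (ha : Nat.card P = p ^ a) (hb : Nat.card (Subgroup.center ↥(P : Subgroup G)) = p ^ b) (χ : Cfsg.IrrCharacter G) (hfaith : ∀ g : G, (χ : G → ℂ) g = (χ : G → ℂ) 1 → g = 1) (n : ℕ) (hdeg : Cfsg.charDegree (χ : G → ℂ) = p ^ n) : Cfsg.blockDefect p (Cfsg.blockOf M (χ : G → ℂ)) ≤ a - b ∧ (IsMulCommutative ↥(P : Subgroup G) → Cfsg.blockDefect p (Cfsg.blockOf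 M (χ : G → ℂ)) = 0) := by
  classical
  haveI := hM.2.1
  have hp : p.Prime := Fact.out
  have hG : (Nat.card G).factorization p = a :=
    Nat.pow_right_injective hp.two_le (show p ^ (Nat.card G).factorization p = p ^ a by
      rw [← ha]; exact P.card_eq_multiplicity.symm)
  have hsame : ∀ ψ : Cfsg.IrrCharacter G, Cfsg.SameBlock M (χ : G → ℂ) (ψ : G → ℂ) →
      b ≤ (Cfsg.charDegree (ψ : G → ℂ)).factorization p := by
    intro ψ hψ
    by_contra hlt
    set Z := (Subgroup.center ↥(P : Subgroup G)).map (P : Subgroup G).subtype with hZdef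
    have hZcard : Nat.card Z = p ^ b := by
      rw [← hb]
      exact Nat.card_congr ((Subgroup.equivMapOfInjective _ _ (Subgroup.subtype_injective _)).symm.toEquiv)
    haveI := Fintype.ofFinite Z
    have hli : ∀ y : Z, y ≠ 1 → MemLocalIdeal M ((ψ : G → ℂ) y / (ψ : G → ℂ) 1) := by
      intro y hy1
      have hidx : ¬ p ∣ (Subgroup.centralizer ({(y : G)} : Set G)).index := by
        have hle : (P : Subgroup G) ≤ Subgroup.centralizer ({(y : G)} : Set G) := by
          intro w hw
          obtain ⟨z, hz, hzy⟩ := Subgroup.mem_map.mp y.2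
          rw [Subgroup.mem_centralizer_singleton_iff, ← hzy]
          exact congrArg Subtype.val (Subgroup.mem_center_iff.mp hz ⟨w, hw⟩)
        exact fun h => P.not_dvd_index (h.trans (Subgroup.index_dvd_of_le hle))
      have h0 : (χ : G → ℂ) (y : G) = 0 := central_value χ hfaith hZ n hdeg (y : G)
        (fun h => hy1 (Subtype.ext h)) hidx
      have h1 := hψ (y : G)
      simp only [Cfsg.centralChar, h0, mul_zero, zero_div, zero_sub] at h1
      refine li_of_natCast_mul hM hidx ?_
      rw [← mul_div_assoc]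
      simpa using li_neg h1
    obtain ⟨m, hm⟩ := CfsgLib.Blk83.exists_nat_sum_eq ψ Z
    have hψ1 := CfsgLib.Blk83.one_eq ψ
    have hd0 : Cfsg.charDegree (ψ : G → ℂ) ≠ 0 := (CfsgLib.Blk83.deg_pos ψ).ne'
    have hd0' : (ψ : G → ℂ) 1 ≠ 0 := by rw [hψ1]; exact_mod_cast hd0
    have hsum : MemLocalIdeal M ((∑ w : Z, (ψ : G → ℂ) w) / (ψ : G → ℂ) 1 - 1) := by
      rw [← Finset.add_sum_erase _ _ (Finset.mem_univ (1 : Z)), add_div, Subgroup.coe_one, div_self hd0',
        add_sub_cancel_left, Finset.sum_div]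
      exact li_sum _ fun y hy => hli y (Finset.mem_erase.mp hy).1
    rw [hm, hψ1, hZcard] at hsum
    apply CfsgLib.Blocks.not_memLocalIdeal_one (M := M)
    rcases Nat.eq_zero_or_pos m with rfl | hm0
    · simpa using li_neg hsum
    · have h2 : MemLocalIdeal M (((p ^ b * m : ℕ) : ℂ) / (Cfsg.charDegree (ψ : G → ℂ) : ℂ)) := by
        refine (natCast_div_li_iff hM (mul_ne_zero (pow_ne_zero _ hp.ne_zero) hm0.ne') hd0).mpr ?_
        rw [Nat.factorization_mul (pow_ne_zero _ hp.ne_zero) hm0.ne', hp.factorization_pow]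
        simp only [Finsupp.add_apply, Finsupp.single_eq_same]
        omega
      have := li_sub h2 hsum
      simpa using this
  have hdef : Cfsg.blockDefect p (Cfsg.blockOf M (χ : G → ℂ)) ≤ a - b := by
    rw [Cfsg.blockDefect, hG]
    refine Nat.sub_le_sub_left (le_csInf (Set.Nonempty.image _ ⟨χ, ?_⟩) ?_) a
    · intro g
      simp only [sub_self]
      exact li_zero
    · rintro v ⟨ψ, hψ, rfl⟩
      exact hsame ψ hψ
  refine ⟨hdef, fun hab => ?_⟩
  have : b = a := by
    haveI := hab
    refine Nat.pow_right_injective hp.two_le (show p ^ b = p ^ a from ?_)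
    rw [← hb, ← ha]
    have : Subgroup.center ↥(P : Subgroup G) = ⊤ :=
      top_unique fun z _ => Subgroup.mem_center_iff.mpr fun w => mul_comm' w z
    rw [this, Subgroup.card_top]
  omega

end Cfsg.Agent.S4730
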