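import Cfsg.Statements.S4731
import Cfsg.Agent.Lib.BlockReg.Regular
import Cfsg.Agent.Lib.Blk83.PairCount
import Mathlib.Algebra.Order.BigOperators.Group.Finset

set_option autoImplicit false
open Cfsg

namespace Cfsg.Agent.S4731

open CfsgLib.BlockReg
open scoped ComplexConjugate

/-- Let p ≠ q be primes, M_p and M_q maximal ideals of the algebraic integers containing p and q respectively, and G a finite group with no element of order pq; let q^b be the q-part of the order of G. For a p-block B_p (relative to M_p), a q-block B_q (relative to M_q) and a p-singular element y, the sum of χ(1)χ(y) over the irreducible characters χ lying in both B_p and B_q is q^b times an algebraic integer. -/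
theorem result {G : Type*} [Group G] [Finite G] (p q : ℕ) [Fact p.Prime] [Fact q.Prime] (hpq : p ≠ q) (Mp Mq : Ideal Cfsg.AlgInt) (hMp : Cfsg.IsPModular p Mp) (hMq : Cfsg.IsPModular q Mq) (hno : ∀ g : G, orderOf g ≠ p * q) (b : ℕ) (hb : (Nat.card G).factorization q = b) (Bp : Set (Cfsg.IrrCharacter G)) (hBp : Cfsg.IsPBlock Mp Bp) (Bq : Set (Cfsg.IrrCharacter G)) (hBq : Cfsg.IsPBlock Mq Bq) (y : G) (hy : p ∣ orderOf y) : ∃ ω : Cfsg.AlgInt, ∑ᶠ χ ∈ Bp ∩ Bq, (Cfsg.charDegree (χ : G → ℂ) : ℂ) * (χ : G → ℂ) y = (q : ℂ) ^ b * (ω : ℂ) := by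
  classical
  have := Fintype.ofFinite G
  have hp : p.Prime := Fact.out
  have hq : q.Prime := Fact.out
  have hnoboth : ∀ z : G, p ∣ orderOf z → ¬ q ∣ orderOf z := by
    intro z hzp hzq
    have hdvd : p * q ∣ orderOf z := ((Nat.coprime_primes hp hq).mpr hpq).mul_dvd_of_dvd_of_dvd hzp hzq
    refine hno (z ^ (orderOf z / (p * q))) ?_
    rw [orderOf_pow_of_dvd (Nat.div_pos (Nat.le_of_dvd (orderOf_pos z) hdvd)
      (Nat.mul_pos hp.pos hq.pos)).ne' (Nat.div_dvd_of_dvd hdvd), Nat.div_div_self hdvd (orderOf_pos z).ne']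
  set f : G → ℂ := fun x => ∑ χ ∈ Bp.toFinset, (χ : G → ℂ) y * (χ : G → ℂ) x with hf
  set hfun : G → ℂ := fun x => ∑ χ ∈ (Bp ∩ Bq).toFinset, (χ : G → ℂ) y * (χ : G → ℂ) x with hh
  have hf0 : ∀ z : G, ¬ p ∣ orderOf z → f z = 0 := by
    intro z hz
    have := block_orthogonality hMp hBp z y⁻¹ hz (by rwa [orderOf_inv])
    rw [finsum_mem_eq_toFinset_sum] at this
    rw [hf, ← this]
    refine Finset.sum_congr rfl fun χ _ => ?_
    rw [CfsgLib.BlockReg.char_inv, Complex.conj_conj, mul_comm]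
  have hzero : ∀ x : G, q ∣ orderOf x → hfun x = 0 := by
    intro x hx
    have h1 : (Nat.card G : ℂ) * hfun x =
        ∑ z : G, f z * ∑ χ ∈ Bq.toFinset, (χ : G → ℂ) x * conj ((χ : G → ℂ) z) := by
      have hinner : ∀ χ ψ : Cfsg.IrrCharacter G, ∑ z : G, (χ : G → ℂ) z * conj ((ψ : G → ℂ) z) =
          if χ = ψ then (Nat.card G : ℂ) else 0 := by
        intro χ ψ
        have hG : (Nat.card G : ℂ) ≠ 0 := by exact_mod_cast Nat.card_pos.ne'
        have h2 := CfsgLib.Char.classInner_irrCharacter χ ψ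
        rw [Cfsg.classInner, inv_mul_eq_iff_eq_mul₀ hG] at h2
        rw [h2, mul_ite, mul_one, mul_zero]
      simp only [hf, hh, Finset.sum_mul, Finset.mul_sum]
      refine Eq.symm ?_
      calc ∑ z : G, ∑ ψ ∈ Bq.toFinset, ∑ χ ∈ Bp.toFinset,
            (χ : G → ℂ) y * (χ : G → ℂ) z * ((ψ : G → ℂ) x * conj ((ψ : G → ℂ) z))
          = ∑ χ ∈ Bp.toFinset, ∑ ψ ∈ Bq.toFinset, (χ : G → ℂ) y * (ψ : G → ℂ) x *
              ∑ z : G, (χ : G → ℂ) z * conj ((ψ : G → ℂ) z) := by
            rw [Finset.sum_comm, Finset.sum_congr rfl (fun ψ _ => Finset.sum_comm), Finset.sum_comm]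
            refine Finset.sum_congr rfl fun χ _ => ?_
            refine Finset.sum_congr rfl fun ψ _ => ?_
            rw [Finset.mul_sum]
            exact Finset.sum_congr rfl fun z _ => by ring
        _ = _ := by
            simp only [hinner, mul_ite, mul_zero, Finset.sum_ite_eq]
            rw [← Finset.sum_filter]
            refine Finset.sum_congr ?_ fun χ _ => by ring
            ext χ
            simp
    have h2 : ∑ z : G, f z * ∑ χ ∈ Bq.toFinset, (χ : G → ℂ) x * conj ((χ : G → ℂ) z) = 0 := by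
      refine Finset.sum_eq_zero fun z _ => ?_
      by_cases hz : p ∣ orderOf z
      · have := block_orth_swap hMq hBq z x (hnoboth z hz) hx
        rw [finsum_mem_eq_toFinset_sum] at this
        rw [this, mul_zero]
      · rw [hf0 z hz, zero_mul]
    rw [h2] at h1
    exact (mul_eq_zero.mp h1).resolve_left (by exact_mod_cast Nat.card_pos.ne')
  obtain ⟨Q⟩ := (inferInstance : Nonempty (Sylow q G))
  have : Fintype (Q : Subgroup G) := Fintype.ofFinite _
  have hQ : Nat.card (Q : Subgroup G) = q ^ b := hb ▸ Q.card_eq_multiplicity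
  choose m hm using fun χ : Cfsg.IrrCharacter G => CfsgLib.Blk83.exists_nat_sum_eq χ (Q : Subgroup G)
  refine ⟨⟨∑ χ ∈ (Bp ∩ Bq).toFinset, (χ : G → ℂ) y * (m χ : ℂ),
    IsIntegral.sum _ fun χ _ => (isIntegral_char χ y).mul (isIntegral_natCast _)⟩, ?_⟩
  have h1 : ∑ w : (Q : Subgroup G), hfun w = hfun 1 := by
    rw [Finset.sum_eq_single (1 : (Q : Subgroup G))]
    · rfl
    · intro w _ hw
      apply hzero
      obtain ⟨k, hk⟩ := IsPGroup.iff_orderOf.mp Q.isPGroup' w
      rw [Subgroup.orderOf_coe, hk]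
      refine dvd_pow_self q ?_
      rintro rfl
      rw [pow_zero, orderOf_eq_one_iff] at hk
      exact hw hk
    · simp
  rw [finsum_mem_eq_toFinset_sum]
  have h2 : hfun 1 = ∑ χ ∈ (Bp ∩ Bq).toFinset, (Cfsg.charDegree (χ : G → ℂ) : ℂ) * (χ : G → ℂ) y := by
    simp only [hh]
    exact Finset.sum_congr rfl fun χ _ => by rw [deg_cast, mul_comm]
  rw [← h2, ← h1]
  simp only [hh]
  rw [Finset.sum_comm, Finset.mul_sum]
  refine Finset.sum_congr rfl fun χ _ => ?_
  rw [← Finset.mul_sum, hm, hQ]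
  push_cast
  ring

end Cfsg.Agent.S4731
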