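import Cfsg.Statements.S4732
import Cfsg.Agent.Lib.ModularJordan.Main

set_option autoImplicit false
universe u v
open Cfsg

namespace Cfsg.Agent.S4732

/-- Let p be a prime. There is a function f of two natural-number arguments such that every finite group G admitting a faithful representation of degree n over a field of characteristic p, with Sylow p-subgroups of order p^m, has a normal abelian subgroup A with [G : A] < f(m, n). -/
theorem result (p : ℕ) [Fact p.Prime] : ∃ f : ℕ → ℕ → ℕ, ∀ (G : Type u) [Group G] [Finite G] (F : Type v) [Field F] [CharP F p] (n : ℕ) (ρ : Representation F G (Fin n → F)), Function.Injective ρ → ∀ m : ℕ, (Nat.card G).factorization p = m → ∃ A : Subgroup G, A.Normal ∧ IsMulCommutative A ∧ A.index < f m n := by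
  choose c hc using fun m n => CfsgLib.ModularJordan.exists_bound.{u, v} p m n
  refine ⟨fun m n => (c m n).factorial + 1, ?_⟩
  intro G _ _ F _ _ n ρ hinj m hm
  let K := AlgebraicClosure F
  haveI : CharP K p := charP_of_injective_algebraMap (algebraMap F K).injective p
  let toMat : Module.End F (Fin n → F) →* Matrix (Fin n) (Fin n) F :=
    (LinearMap.toMatrixAlgEquiv' (R := F) (n := Fin n)).toAlgHom.toRingHom.toMonoidHom
  let back : Matrix (Fin n) (Fin n) K →* Module.End K (Fin n → K) :=
    (Matrix.toLinAlgEquiv' (R := K) (n := Fin n)).toAlgHom.toRingHom.toMonoidHom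
  let σ : G →* Module.End K (Fin n → K) :=
    (back.comp ((algebraMap F K).mapMatrix.toMonoidHom.comp toMat)).comp ρ
  have hσ : Function.Injective σ :=
    (((Matrix.toLinAlgEquiv' (R := K) (n := Fin n)).injective.comp
      (Matrix.map_injective (algebraMap F K).injective)).comp
      (LinearMap.toMatrixAlgEquiv' (R := F) (n := Fin n)).injective).comp hinj
  obtain ⟨A, hA, -, hidx⟩ := hc m n G K (Fin n → K) σ hσ (by simp) hm.le
  refine ⟨A.normalCore, inferInstance,
    ⟨⟨fun a b => Subtype.ext (hA a (A.normalCore_le a.2) b (A.normalCore_le b.2))⟩⟩, ?_⟩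
  refine Nat.lt_succ_of_le ?_
  calc A.normalCore.index ≤ A.index.factorial := by
        refine Nat.le_of_dvd (Nat.factorial_pos _) ?_
        rw [Subgroup.normalCore_eq_ker, Subgroup.index_ker, Subgroup.index_eq_card,
          ← Nat.card_perm]
        exact Subgroup.card_subgroup_dvd_card _
    _ ≤ (c m n).factorial := Nat.factorial_le hidx

end Cfsg.Agent.S4732
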