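import Cfsg.Statements.S4734
import Cfsg.Agent.Lib.Blk83.PiKernelBlocks

set_option autoImplicit false
open Cfsg

namespace Cfsg.Agent.S4734

/-- Let p be a prime, π a set of primes containing p, M a maximal ideal of the algebraic integers containing p, B a p-block of the finite group G with defect group D, and B₁ the block of N_G(D) with defect group D inducing B. Write O_π'(X) for the largest normal subgroup of X whose order has no prime divisor in π, and suppose every element of O_π'(N_G(D)) lies in the kernel of every member of B₁. Let G₀ be a subgroup and B₀ a block of G₀ with defect group D₀ such that C_G(D₀) ≤ G₀ and B₀ induces B. Then every element of O_π'(G₀) lies in the kernel of every member of B₀. -/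
theorem result {G : Type*} [Group G] [Finite G] (p : ℕ) [Fact p.Prime] (M : Ideal Cfsg.AlgInt) (hM : Cfsg.IsPModular p M) (π : Set ℕ) (hpπ : p ∈ π) (B : Set (Cfsg.IrrCharacter G)) (hB : Cfsg.IsPBlock M B) (D : Subgroup G) (hBD : Cfsg.IsDefectGroup p M B D) (B₁ : Set (Cfsg.IrrCharacter ↥(Subgroup.normalizer (D : Set G)))) (hB₁ : Cfsg.IsInducedBlock M (Subgroup.normalizer (D : Set G)) B₁ B) (hB₁D : Cfsg.IsDefectGroup p M B₁ (D.subgroupOf (Subgroup.normalizer (D : Set G)))) (hker : ∀ n : ↥(Subgroup.normalizer (D : Set G)), n ∈ Cfsg.piCore {q | q ∉ π} ↥(Subgroup.normalizer (D : Set G)) → n ∈ Cfsg.blockKer B₁) (G₀ : Subgroup G) (B₀ : Set (Cfsg.IrrCharacter ↥G₀)) (hB₀ : Cfsg.IsInducedBlock M G₀ B₀ B) (D₀ : Subgroup ↥G₀) (hD₀ : Cfsg.IsDefectGroup p M B₀ D₀) (hC : Subgroup.centralizer ((D₀.map G₀.subtype : Subgroup G) : Set G) ≤ G₀) : ∀ x : ↥G₀, x ∈ Cfsg.piCore {q | q ∉ π} ↥G₀ → x ∈ Cfsg.blockKer B₀ := by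
  haveI := CfsgLib.Blocks.isMaximal_of_isPModular hM
  haveI : CharP (CfsgLib.Blocks.ResField M) p :=
    CfsgLib.Blocks.charP_resField hM.1 (CfsgLib.Blocks.natCast_mem_of_isPModular hM)
  obtain ⟨e, he, hno, hiff⟩ := CfsgLib.Blk83.PiKer.normalizer_data hM hpπ hB hBD hB₁
  have hTe := hiff.mpr hker
  obtain ⟨f, hf, hbf⟩ := CfsgLib.Blk83.PiKer.exists_pair_of_induced hM hB₀ hD₀ hC
  have hTf := CfsgLib.Blk83.PiKer.triv_of_maximal hpπ he hno hTe hf
  set P := D₀.map G₀.subtype with hP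
  have hPp : IsPGroup p P := hf.pair.pgroup
  have hPG : P ≤ G₀ := Subgroup.map_subtype_le _
  have hG₀K := CfsgLib.OddOrder.le_normalizer_piCoreOf (G := G) {q | q ∉ π} G₀
  have hKpi := CfsgLib.OddOrder.piCoreOf_isPiSubgroup (G := G) {q | q ∉ π} G₀
  have hKp := CfsgLib.Blk83.PiKer.not_dvd_card_of_pi hpπ hKpi
  have hPK := hPG.trans hG₀K
  have hb := CfsgLib.Blocks.Pairs.isBlockIdem_eIn hB₀.1
  have hK : CfsgLib.Blk83.PiKer.avgA (CfsgLib.Blk83.PiKer.piO π G₀) *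
      CfsgLib.Blocks.Pairs.eIn hB₀.1 = CfsgLib.Blocks.Pairs.eIn hB₀.1 := by
    refine CfsgLib.Blk83.PiKer.mul_eq_of_ne_zero hb
      (CfsgLib.Blk83.PiKer.inCenter_avgA (CfsgLib.OddOrder.piCoreOf_le _ _) hG₀K)
      (CfsgLib.Blk83.PiKer.avgA_idem (CfsgLib.Blk83.PiKer.natCast_ne_zero' hKp))
      fun h0 => hf.pair.block.ne_zero ?_
    have h1 := congrArg (fun a => CfsgLib.Blocks.Pairs.trunc P a * f) h0
    simp only [CfsgLib.Blocks.Pairs.trunc_zero, zero_mul] at h1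
    rw [CfsgLib.Blocks.Pairs.trunc_mul hPp (CfsgLib.Blk83.PiKer.conjFixed_avgA hPK)
      (hb.mem.fixed.mono hPG), mul_assoc, hbf, CfsgLib.Blk83.PiKer.trunc_avgA hPp hPK, ← hTf,
      ← mul_assoc, CfsgLib.Blk83.PiKer.avgA_mul (CfsgLib.OddOrder.piCoreOf_inf_le _ hC)
        (CfsgLib.Blk83.PiKer.natCast_ne_zero' (CfsgLib.Blk83.PiKer.not_dvd_card_of_pi hpπ
          (CfsgLib.OddOrder.IsPiSubgroup.anti hKpi inf_le_left))), hTf] at h1
    exact h1
  have hker' := (CfsgLib.Blk83.PiKer.avgA_mul_eIn_iff (CfsgLib.OddOrder.piCoreOf_le _ _) hG₀K hM hKp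
    hB₀.1).mp hK
  exact fun x hx θ hθ => hker' θ hθ x ⟨x, hx, rfl⟩

end Cfsg.Agent.S4734
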