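import Cfsg.Statements.S4735
import Cfsg.Agent.Lib.Blk83.PrincipalKernel
import Cfsg.Agent.Lib.Char.PowerMap
import Cfsg.Agent.Lib.Solvable.Core
import Mathlib.Analysis.Complex.Norm

set_option autoImplicit false
open Cfsg

namespace Cfsg.Agent.S4735

open scoped ComplexConjugate

/-- Let p be a prime, M a maximal ideal of the algebraic integers containing p, G a finite group, H = O_p'(G) and Ḡ = G/H. For x ∈ G write λ(G, x) for the sum of |χ(x)|^2 over the irreducible characters χ in the principal p-block of G. Then λ(G, x) is a positive integer, λ(G, x) = λ(Ḡ, x̄) where x̄ is the image of x, and λ(G, x) ≤ #C_Ḡ(x̄). Moreover λ(G, 1) = [G : H] if and only if the principal block is the only p-block of Ḡ. -/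
theorem result {G : Type*} [Group G] [Finite G] (p : ℕ) [Fact p.Prime] (M : Ideal Cfsg.AlgInt) (hM : Cfsg.IsPModular p M) (x : G) : (∃ n : ℕ, 0 < n ∧ ∑ᶠ χ ∈ Cfsg.principalBlock M G, Complex.normSq ((χ : G → ℂ) x) = n) ∧ ∑ᶠ χ ∈ Cfsg.principalBlock M G, Complex.normSq ((χ : G → ℂ) x) = ∑ᶠ ψ ∈ Cfsg.principalBlock M (G ⧸ Cfsg.pPrimeCore p G), Complex.normSq ((ψ : G ⧸ Cfsg.pPrimeCore p G → ℂ) (QuotientGroup.mk x)) ∧ ∑ᶠ χ ∈ Cfsg.principalBlock M G, Complex.normSq ((χ : G → ℂ) x) ≤ (Nat.card ↥(Subgroup.centralizer ({(QuotientGroup.mk x : G ⧸ Cfsg.pPrimeCore p G)} : Set (G ⧸ Cfsg.pPrimeCore p G))) : ℝ) ∧ ((∑ᶠ χ ∈ Cfsg.principalBlock M G, Cfsg.charDegree (χ : G → ℂ) ^ 2) = (Cfsg.pPrimeCore p G).index ↔ ∀ B : Set (Cfsg.IrrCharacter (G ⧸ Cfsg.pPrimeCore p G)), Cfsg.IsPBlock M B → B = Cfsg.principalBlock M (G ⧸ Cfsg.pPrimeCore p G)) := by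
  classical
  have := Fintype.ofFinite G
  set N := Cfsg.pPrimeCore p G with hNdef
  haveI : N.Normal := CfsgLib.Solvable.pPrimeCore_normal p G
  have hN : ¬ p ∣ Nat.card N :=
    (Fact.out : p.Prime).coprime_iff_not_dvd.mp (CfsgLib.Solvable.pPrimeCore_card_coprime p G).symm
  have := Fintype.ofFinite (G ⧸ N)
  have hbij := CfsgLib.Blk83.inflIrr_bijOn hM N hN
  have hsq : ∀ (χ : Cfsg.IrrCharacter G) (g : G), ((Complex.normSq ((χ : G → ℂ) g) : ℝ) : ℂ) =
      (χ : G → ℂ) g * (χ : G → ℂ) g⁻¹ := fun χ g => by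
    rw [← CfsgLib.Blk83.conj_char, Complex.mul_conj]
  -- equality with the quotient
  have heq : ∑ᶠ χ ∈ Cfsg.principalBlock M G, Complex.normSq ((χ : G → ℂ) x) =
      ∑ᶠ ψ ∈ Cfsg.principalBlock M (G ⧸ N), Complex.normSq ((ψ : G ⧸ N → ℂ) (QuotientGroup.mk x)) :=
    (finsum_mem_eq_of_bijOn (CfsgLib.Blk83.inflIrr N) hbij fun η _ => by simp).symm
  refine ⟨?_, heq, ?_, ?_⟩
  · -- a positive rational integer
    set F : G → ℂ := fun g => ∑ χ ∈ (Cfsg.principalBlock M G).toFinset, (χ : G → ℂ) g * (χ : G → ℂ) g⁻¹ with hF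
    have hFchar : Cfsg.IsCharacter G F := by
      have : F = ∑ χ ∈ (Cfsg.principalBlock M G).toFinset, fun g => (χ : G → ℂ) g * (χ : G → ℂ) g⁻¹ := by
        funext g; simp [hF]
      rw [this]
      refine CfsgLib.Char.IsCharacter.sum _ _ fun χ _ => ?_
      refine CfsgLib.Char.IsCharacter.mul (CfsgLib.Char.IsIrrCharacter.isCharacter χ.2) ?_
      obtain ⟨f, n, ρ, hirr, rfl⟩ := χ
      have h1 := CfsgLib.Char.isCharacter_character (G := G)
        (Representation.dual ρ : Representation ℂ G (Module.Dual ℂ (Fin n → ℂ)))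
      have h2 : (Representation.dual ρ : Representation ℂ G (Module.Dual ℂ (Fin n → ℂ))).character =
          fun g => ρ.character g⁻¹ := by
        funext g; rw [Representation.char_dual]
      rwa [h2] at h1
    have hrat : ∀ m : ℕ, m.Coprime (Nat.card G) → F (x ^ m) = F x := by
      intro m hm
      simp only [hF]
      have hbij' : Function.Bijective (CfsgLib.CharGalois.powIrr (G := G) hm) :=
        CfsgLib.CharGalois.powIrr_bijective hm
      refine Finset.sum_bij (fun χ _ => CfsgLib.CharGalois.powIrr hm χ) ?_ ?_ ?_ ?_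
      · intro χ hχ
        rw [Set.mem_toFinset] at hχ ⊢
        exact CfsgLib.Blk83.powIrr_mem hM hm hχ
      · intro a _ b _ h
        exact hbij'.1 h
      · intro ψ hψ
        obtain ⟨χ, rfl⟩ := hbij'.2 ψ
        refine ⟨χ, ?_, rfl⟩
        rw [Set.mem_toFinset] at hψ ⊢
        have hfin : Set.BijOn (CfsgLib.CharGalois.powIrr (G := G) hm) (Cfsg.principalBlock M G)
            (Cfsg.principalBlock M G) :=
          (Set.toFinite _).injOn_iff_bijOn_of_mapsTo (fun χ h => CfsgLib.Blk83.powIrr_mem hM hm h)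
            |>.mp hbij'.1.injOn
        obtain ⟨χ', hχ', he⟩ := hfin.surjOn hψ
        exact hbij'.1 he ▸ hχ'
      · intro χ _
        simp [CfsgLib.CharGalois.powIrr_apply, inv_pow]
    obtain ⟨q, hq⟩ := (CfsgLib.CharPower.exists_rat_iff hFchar x Nat.card_pos pow_card_eq_one').mpr hrat
    have hint : IsIntegral ℤ (q : ℂ) := by
      rw [← hq]
      exact IsIntegral.sum _ fun χ _ =>
        (CfsgLib.Blk83.isIntegral_apply χ x).mul (CfsgLib.Blk83.isIntegral_apply χ x⁻¹)
    obtain ⟨z, hz⟩ := CfsgLib.Char.exists_int_of_isIntegral_ratCast hint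
    have hsum : ∑ᶠ χ ∈ Cfsg.principalBlock M G, Complex.normSq ((χ : G → ℂ) x) = (z : ℝ) := by
      apply Complex.ofReal_injective
      rw [finsum_mem_eq_toFinset_sum]
      push_cast
      simp only [hsq]
      rw [show (∑ χ ∈ (Cfsg.principalBlock M G).toFinset, (χ : G → ℂ) x * (χ : G → ℂ) x⁻¹) = F x from rfl,
        hq, ← hz]
      simp
    have hpos : (1 : ℝ) ≤ z := by
      rw [← hsum, finsum_mem_eq_toFinset_sum]
      have h1 := Finset.single_le_sum (f := fun χ : Cfsg.IrrCharacter G => Complex.normSq ((χ : G → ℂ) x))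
        (fun χ _ => Complex.normSq_nonneg _)
        (Set.mem_toFinset.mpr (CfsgLib.Blk83.principal_mem (G := G) hM))
      simpa using h1
    have hz0 : (0 : ℤ) < z := by exact_mod_cast lt_of_lt_of_le one_pos hpos
    refine ⟨z.toNat, by omega, ?_⟩
    rw [hsum]
    exact_mod_cast (Int.toNat_of_nonneg hz0.le).symm
  · -- bounded by the centralizer in the quotient
    rw [heq, finsum_mem_eq_toFinset_sum]
    have h1 : ((∑ η : Cfsg.IrrCharacter (G ⧸ N), Complex.normSq ((η : G ⧸ N → ℂ) (QuotientGroup.mk x)) : ℝ) : ℂ) =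
        ((Nat.card ↥(Subgroup.centralizer ({(QuotientGroup.mk x : G ⧸ N)} : Set (G ⧸ N))) : ℝ) : ℂ) := by
      push_cast
      have h2 := CfsgLib.Char.sum_mul_conj (QuotientGroup.mk x : G ⧸ N) (QuotientGroup.mk x)
      rw [if_pos (IsConj.refl _)] at h2
      rw [← h2]
      exact Finset.sum_congr rfl fun η _ => (Complex.mul_conj _).symm
    exact (Finset.sum_le_sum_of_subset_of_nonneg (Finset.subset_univ _)
      fun η _ _ => Complex.normSq_nonneg _).trans_eq (Complex.ofReal_injective h1)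
  · -- the degree criterion
    have hdeg : ∀ η : Cfsg.IrrCharacter (G ⧸ N), Cfsg.charDegree (CfsgLib.Blk83.inflIrr N η : G → ℂ) =
        Cfsg.charDegree (η : G ⧸ N → ℂ) := fun η => by simp [Cfsg.charDegree]
    have hsumeq : ∑ᶠ χ ∈ Cfsg.principalBlock M G, Cfsg.charDegree (χ : G → ℂ) ^ 2 =
        ∑ η ∈ (Cfsg.principalBlock M (G ⧸ N)).toFinset, Cfsg.charDegree (η : G ⧸ N → ℂ) ^ 2 := by
      rw [← finsum_mem_eq_toFinset_sum]
      exact (finsum_mem_eq_of_bijOn (CfsgLib.Blk83.inflIrr N) hbij fun η _ => by rw [hdeg]).symm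
    have htot : ∑ η : Cfsg.IrrCharacter (G ⧸ N), Cfsg.charDegree (η : G ⧸ N → ℂ) ^ 2 = N.index := by
      rw [Subgroup.index, ← CfsgLib.Char.sum_degree_sq]
      rfl
    rw [hsumeq]
    constructor
    · intro h B hB
      obtain ⟨η, rfl⟩ := hB
      have hη : η ∈ Cfsg.principalBlock M (G ⧸ N) := by
        by_contra hη
        rw [← htot, ← Finset.sum_compl_add_sum (Cfsg.principalBlock M (G ⧸ N)).toFinset, eq_comm,
          Nat.add_eq_right, Finset.sum_eq_zero_iff] at h
        have := h η (by simp [hη])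
        exact (CfsgLib.Blk83.deg_pos η).ne' (pow_eq_zero_iff two_ne_zero |>.mp this)
      exact (CfsgLib.BlockReg.block_eq_blockOf hM CfsgLib.Blk83.principalBlock_isPBlock hη).symm
    · intro h
      rw [← htot]
      congr 1
      refine Finset.eq_univ_of_forall fun η => ?_
      rw [Set.mem_toFinset, ← h _ ⟨η, rfl⟩]
      exact CfsgLib.BlockReg.sameBlock_refl hM _

end Cfsg.Agent.S4735
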