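import Cfsg.Statements.S4736
import Cfsg.Agent.Lib.Blk83.ItoMichler
import Cfsg.Agent.Lib.Blk83.OneBlock
import Cfsg.Agent.Lib.Blk83.PrincipalKernel
import Cfsg.Agent.S4713

set_option autoImplicit false
open Cfsg

namespace Cfsg.Agent.S4736

/-- Let p be a prime, M a maximal ideal of the algebraic integers containing p, and G a finite p-solvable group with Sylow p-subgroup P. Then P is abelian if and only if every irreducible character in the principal p-block of G has height zero. -/
theorem result {G : Type*} [Group G] [Finite G] (p : ℕ) [Fact p.Prime] (M : Ideal Cfsg.AlgInt) (hM : Cfsg.IsPModular p M) (hsolv : Cfsg.IsPSolvable p G) (P : Sylow p G) : IsMulCommutative P ↔ ∀ χ ∈ Cfsg.principalBlock M G, Cfsg.blockHeight p (Cfsg.principalBlock M G) (χ : G → ℂ) = 0 := by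
  classical
  set N := Cfsg.pPrimeCore p G with hNdef
  haveI : N.Normal := CfsgLib.Solvable.pPrimeCore_normal p G
  have hcop := CfsgLib.Solvable.pPrimeCore_card_coprime p G
  have hN : ¬ p ∣ Nat.card N :=
    (Fact.out : p.Prime).coprime_iff_not_dvd.mp hcop.symm
  have hbij := CfsgLib.Blk83.inflIrr_bijOn hM N hN
  have hO : Cfsg.pPrimeCore p (G ⧸ N) = ⊥ :=
    CfsgLib.Solvable.pPrimeCore_quotient_eq_bot N hNdef
  have hs' := CfsgLib.Blocks82.isPSolvable_quotient hsolv N
  have hC := CfsgLib.PLoc.centralizer_pCore_le_self hs' hO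
  have hmin : CfsgLib.BlockReg.minExp p (Cfsg.principalBlock M G) = 0 := by
    refine Nat.le_zero.mp ((CfsgLib.BlockReg.minExp_le
      (CfsgLib.Blk83.principal_mem (G := G) hM)).trans ?_)
    simp [Cfsg.charDegree]
  have hiff : ∀ χ : Cfsg.IrrCharacter G, Cfsg.blockHeight p (Cfsg.principalBlock M G) (χ : G → ℂ) = 0 ↔
      ¬ p ∣ Cfsg.charDegree (χ : G → ℂ) := fun χ => by
    rw [CfsgLib.BlockReg.blockHeight_eq, hmin, Nat.sub_zero, Nat.factorization_eq_zero_iff]
    simp [(Fact.out : p.Prime), (CfsgLib.Blk83.deg_pos χ).ne']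
  set Pb := P.mapSurjective (QuotientGroup.mk'_surjective N) with hPb
  have hequiv : (P : Subgroup G) ≃* (Pb : Subgroup (G ⧸ N)) := by
    refine (MulEquiv.ofBijective ((QuotientGroup.mk' N).subgroupMap (P : Subgroup G))
      ⟨?_, MonoidHom.subgroupMap_surjective _ _⟩).trans
        (MulEquiv.subgroupCongr (Sylow.coe_mapSurjective _ _).symm)
    rw [injective_iff_map_eq_one]
    intro a ha
    have h1 : (a : G) ∈ (P : Subgroup G) ⊓ N :=
      Subgroup.mem_inf.mpr ⟨a.2, (QuotientGroup.eq_one_iff _).mp (congrArg Subtype.val ha)⟩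
    obtain ⟨k, hk⟩ := P.2.exists_card_eq
    rw [Subgroup.inf_eq_bot_of_coprime (by rw [hk]; exact (hcop.symm).pow_left k),
      Subgroup.mem_bot] at h1
    exact Subtype.ext h1
  have hab : IsMulCommutative P ↔ ((Pb : Subgroup (G ⧸ N)).Normal ∧ IsMulCommutative Pb) := by
    constructor
    · intro h
      haveI := h
      have hc : IsMulCommutative (Pb : Subgroup (G ⧸ N)) := ⟨⟨fun a b => by
        obtain ⟨a, rfl⟩ := hequiv.surjective a
        obtain ⟨b, rfl⟩ := hequiv.surjective b
        rw [← map_mul, ← map_mul, mul_comm']⟩⟩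
      refine ⟨?_, hc⟩
      have h1 : Cfsg.pCore p (G ⧸ N) = (Pb : Subgroup (G ⧸ N)) := by
        refine le_antisymm (CfsgLib.Solvable.pCore_le_sylow Pb) fun x hx => hC ?_
        rw [Subgroup.mem_centralizer_iff]
        intro y hy
        exact setLike_mul_comm (CfsgLib.Solvable.pCore_le_sylow Pb hy) hx
      rw [← h1]
      exact CfsgLib.Solvable.pCore_normal p _
    · rintro ⟨-, h⟩
      haveI := h
      exact ⟨⟨fun a b => hequiv.injective (by rw [map_mul, map_mul, mul_comm'])⟩⟩
  rw [hab, Cfsg.Agent.S4713.result p hs' Pb]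
  have hdeg : ∀ η : Cfsg.IrrCharacter (G ⧸ N), Cfsg.charDegree (CfsgLib.Blk83.inflIrr N η : G → ℂ) =
      Cfsg.charDegree (η : G ⧸ N → ℂ) := fun η => by simp [Cfsg.charDegree]
  constructor
  · intro h χ hχ
    obtain ⟨η, -, rfl⟩ := hbij.surjOn hχ
    rw [hiff, hdeg]
    exact h η
  · intro h η
    rw [← hdeg, ← hiff]
    exact h _ (hbij.mapsTo (CfsgLib.Blk83.mem_principalBlock_of_centralizer_pCore_le hM hC η))

end Cfsg.Agent.S4736
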