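import Cfsg.Statements.S4737
import Cfsg.Agent.Lib.BlockReg.Height
import Cfsg.Agent.Lib.BlockReg.Integral
import Cfsg.Agent.Lib.Blocks.Local
import Mathlib.LinearAlgebra.Matrix.Rank
import Mathlib.GroupTheory.Perm.Cycle.Type

set_option autoImplicit false
open Cfsg CfsgLib.Blocks CfsgLib.BlockReg
open scoped ComplexConjugate

namespace Cfsg.Agent.S4737

section Parity

variable {α : Type*} [DecidableEq α]

theorem card_eq_fixed (s : Finset α) (f : α → α) (hmem : ∀ a ∈ s, f a ∈ s)
    (hinv : ∀ a ∈ s, f (f a) = a) :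
    (s.card : ZMod 2) = ((s.filter fun a => f a = a).card : ZMod 2) := by
  rw [← Finset.card_filter_add_card_filter_not (s := s) (fun a => f a = a), Nat.cast_add,
    add_eq_left, Finset.cast_card]
  refine Finset.sum_involution (fun a _ => f a) (fun _ _ => CharTwo.add_self_eq_zero 1)
    (fun a ha _ => (Finset.mem_filter.mp ha).2) (fun a ha => ?_)
    (fun a ha => hinv a (Finset.mem_filter.mp ha).1)
  obtain ⟨h1, h2⟩ := Finset.mem_filter.mp ha
  exact Finset.mem_filter.mpr ⟨hmem a h1, fun h => h2 (h.symm.trans (hinv a h1))⟩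

end Parity

variable {G : Type*} [Group G] [Fintype G] [DecidableEq G]

/-- No nontrivial 2-subgroup is normalized. -/
def Good (g : G) : Prop :=
  orderOf g = 3 ∧ ∀ Q : Subgroup G, IsPGroup 2 ↥Q → g ∈ Subgroup.normalizer (Q : Set G) → Q = ⊥

theorem good_not_commute {g : G} (hg : Good g) {z : G} (hz : z * z = 1) (hc : Commute g z) :
    z = 1 := by
  have h := hg.2 (Subgroup.zpowers z) ?_ ?_
  · exact Subgroup.zpowers_eq_bot.mp h
  · rintro ⟨x, k, rfl⟩
    refine ⟨1, Subtype.ext ?_⟩
    show (z ^ k) ^ (2 ^ 1) = 1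
    rw [← zpow_natCast, ← zpow_mul, mul_comm, zpow_mul, pow_one, zpow_natCast, pow_two, hz, one_zpow]
  · rw [Subgroup.mem_normalizer_iff]
    intro x
    have key : ∀ y ∈ Subgroup.zpowers z, g * y * g⁻¹ = y := by
      rintro y ⟨k, rfl⟩
      show g * z ^ k * g⁻¹ = z ^ k
      rw [(hc.zpow_right k).eq, mul_inv_cancel_right]
    constructor
    · intro hx
      show g * x * g⁻¹ ∈ Subgroup.zpowers z
      rw [key x hx]; exact hx
    · intro hx
      have h2 : x = g * x * g⁻¹ := by
        have h3 := key _ hx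
        exact (mul_left_cancel (mul_right_cancel h3)).symm
      show x ∈ Subgroup.zpowers z
      rw [h2]; exact hx

theorem good_cube {g : G} (hg : Good g) : g * g * g = 1 := by
  have := pow_orderOf_eq_one g
  rwa [hg.1, pow_succ, pow_two] at this

theorem good_odd {g : G} (hg : Good g) :
    ¬ 2 ∣ Nat.card ↥(Subgroup.centralizer ({g} : Set G)) := by
  haveI : Fact (Nat.Prime 2) := ⟨Nat.prime_two⟩
  intro h
  obtain ⟨z, hz⟩ := exists_prime_orderOf_dvd_card' (G := Subgroup.centralizer ({g} : Set G)) 2 h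
  have hz1 : (z : G) = 1 := good_not_commute hg
    (by rw [← sq, ← SubmonoidClass.coe_pow, ← hz, pow_orderOf_eq_one]; rfl)
    ((Subgroup.mem_centralizer_singleton_iff.mp z.2).symm :)
  rw [← Subgroup.orderOf_coe, hz1, orderOf_one] at hz
  omega

/-- The elements squaring to one. -/
def inv2 : Finset G := Finset.univ.filter fun t => t * t = 1

theorem mem_inv2 {t : G} : t ∈ (inv2 : Finset G) ↔ t * t = 1 := by simp [inv2]

theorem conj_mem_inv2 {t : G} (g : G) : g * t * g⁻¹ ∈ (inv2 : Finset G) ↔ t ∈ (inv2 : Finset G) := by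
  rw [mem_inv2, mem_inv2, show g * t * g⁻¹ * (g * t * g⁻¹) = g * (t * t) * g⁻¹ by group]
  exact conj_eq_one_iff

/-- The parity of the number of products. -/
theorem parity [DecidableRel (IsConj : G → G → Prop)] {g g' : G} (hg : Good g) (hg' : Good g') :
    ((((inv2 : Finset G) ×ˢ (inv2 : Finset G)).filter fun q => IsConj (q.1 * q.2 * g) g').card :
      ZMod 2) = if IsConj g g' then 1 else 0 := by
  have hg3 : g * g * g = 1 := good_cube hg
  have hgi : g⁻¹ = g * g := inv_eq_of_mul_eq_one_left hg3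
  set f : G × G → G × G := fun q => (g * q.2 * g⁻¹, g⁻¹ * q.1 * g)
  rw [card_eq_fixed _ f ?_ ?_]
  rotate_left
  · rintro ⟨u, v⟩ hq
    simp only [Finset.mem_filter, Finset.mem_product] at hq ⊢
    refine ⟨⟨(conj_mem_inv2 g).mpr hq.1.2, by simpa using (conj_mem_inv2 g⁻¹).mpr hq.1.1⟩, ?_⟩
    refine IsConj.trans (isConj_iff.mpr ⟨u * g⁻¹, ?_⟩) hq.2
    show (u * g⁻¹) * (g * v * g⁻¹ * (g⁻¹ * u * g) * g) * (u * g⁻¹)⁻¹ = u * v * g
    calc _ = u * v * (g⁻¹ * g⁻¹) * u * (g * g * g) * u⁻¹ := by group
      _ = u * v * g := by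
        rw [hg3, show g⁻¹ * g⁻¹ = g by rw [← mul_inv_rev, ← hgi, inv_inv]]
        group
  · rintro ⟨u, v⟩ -
    simp [f, mul_assoc]
  -- fixed points
  have hbij : ((((inv2 : Finset G) ×ˢ (inv2 : Finset G)).filter
      fun q => IsConj (q.1 * q.2 * g) g').filter fun q => f q = q).card =
      ((inv2 : Finset G).filter fun u => IsConj (g * u) g').card := by
    have hkey : ∀ u ∈ (inv2 : Finset G),
        IsConj (u * (g⁻¹ * u * g) * g) g' ↔ IsConj (g * u) g' := by
      intro u hu
      have hu2 : u⁻¹ = u := inv_eq_of_mul_eq_one_right (mem_inv2.mp hu)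
      have hw : u * (g⁻¹ * u * g) * g = (u * g⁻¹) * (u * g⁻¹) := by
        rw [show u * (g⁻¹ * u * g) * g = u * g⁻¹ * u * (g * g) by group, ← hgi]
        group
      have hgu : g * u = (u * g⁻¹)⁻¹ := by rw [mul_inv_rev, inv_inv, hu2]
      rw [hw, hgu]
      set w := u * g⁻¹ with hwdef
      have h3 : ∀ x : G, IsConj x g' → x * x * x = 1 := by
        intro x hx
        obtain ⟨c, hc⟩ := isConj_iff.mp hx.symm
        rw [← hc, show c * g' * c⁻¹ * (c * g' * c⁻¹) * (c * g' * c⁻¹) = c * (g' * g' * g') * c⁻¹ by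
          group, good_cube hg']
        group
      constructor
      · intro h
        obtain ⟨c, hc⟩ := isConj_iff.mp h
        have hz : c * (w * w * w) * c⁻¹ = 1 := by
          refine good_not_commute hg' ?_ ?_
          · calc c * (w * w * w) * c⁻¹ * (c * (w * w * w) * c⁻¹)
                = c * ((w * w) * (w * w) * (w * w)) * c⁻¹ := by group
              _ = 1 := by rw [h3 _ h]; group
          · show g' * _ = _ * g'
            rw [← hc]
            group
        have hw3 : w * w * w = 1 := conj_eq_one_iff.mp hz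
        rwa [inv_eq_of_mul_eq_one_left hw3]
      · intro h
        have h4 := h3 _ h
        have h5 : w * w * w = 1 := by
          rw [← inv_eq_one, ← h4]
          group
        rwa [inv_eq_of_mul_eq_one_left h5] at h
    refine Finset.card_bij (fun q _ => q.1) ?_ ?_ ?_
    · rintro ⟨u, v⟩ hq
      simp only [Finset.mem_filter, Finset.mem_product, f, Prod.mk.injEq] at hq ⊢
      obtain ⟨⟨⟨hu, -⟩, hc⟩, -, hv⟩ := hq
      exact ⟨hu, (hkey u hu).mp (by rw [hv]; exact hc)⟩
    · rintro ⟨u, v⟩ hq ⟨u', v'⟩ hq' h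
      simp only [Finset.mem_filter, Finset.mem_product, f, Prod.mk.injEq] at hq hq' h ⊢
      exact ⟨h, by rw [← hq.2.2, ← hq'.2.2, h]⟩
    · intro u hu
      simp only [Finset.mem_filter] at hu
      refine ⟨(u, g⁻¹ * u * g), ?_, rfl⟩
      simp only [Finset.mem_filter, Finset.mem_product, f, Prod.mk.injEq]
      exact ⟨⟨⟨hu.1, by simpa using (conj_mem_inv2 g⁻¹).mpr hu.1⟩, (hkey u hu.1).mpr hu.2⟩,
        by group, trivial⟩
  rw [hbij]
  -- only the identity remains
  have hone : ∀ u ∈ (inv2 : Finset G), IsConj (g * u) g' → u = 1 := by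
    intro u hu hc
    by_contra hu1
    have hu2 : u * u = 1 := mem_inv2.mp hu
    set v := g * u * g⁻¹ with hv
    have hv2 : v * v = 1 := mem_inv2.mp ((conj_mem_inv2 g).mpr hu)
    obtain ⟨c, hc⟩ := isConj_iff.mp hc.symm
    have hprod : (g * u) * (g * u) * (g * u) = 1 := by
      rw [← hc, show c * g' * c⁻¹ * (c * g' * c⁻¹) * (c * g' * c⁻¹) = c * (g' * g' * g') * c⁻¹ by
        group, good_cube hg']
      group
    have hw : g⁻¹ * u * g = v * u := by
      have h1 : v * (g⁻¹ * u * g) * u = 1 := by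
        calc v * (g⁻¹ * u * g) * u = (g * u) * (g⁻¹ * g⁻¹) * u * (g * u) := by rw [hv]; group
          _ = (g * u) * g * u * (g * u) := by
            rw [show g⁻¹ * g⁻¹ = g by rw [← mul_inv_rev, ← hgi, inv_inv]]
          _ = 1 := by rw [mul_assoc (g * u) g u]; exact hprod
      calc g⁻¹ * u * g = v⁻¹ * (v * (g⁻¹ * u * g) * u) * u⁻¹ := by group
        _ = v * u := by
          rw [h1, inv_eq_of_mul_eq_one_right hv2, inv_eq_of_mul_eq_one_right hu2, mul_one]
    have hcomm : v * u = u * v := by
      have h2 : (v * u) * (v * u) = 1 := by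
        rw [← hw]; exact mem_inv2.mp (by simpa using (conj_mem_inv2 g⁻¹).mpr hu)
      have := inv_eq_of_mul_eq_one_right h2
      rwa [mul_inv_rev, inv_eq_of_mul_eq_one_right hv2, inv_eq_of_mul_eq_one_right hu2, eq_comm] at this
    have hcomm' : ∀ z : G, v * (u * z) = u * (v * z) := fun z => by
      rw [← mul_assoc, hcomm, mul_assoc]
    have huu : ∀ z : G, u * (u * z) = z := fun z => by rw [← mul_assoc, hu2, one_mul]
    have hvv : ∀ z : G, v * (v * z) = z := fun z => by rw [← mul_assoc, hv2, one_mul]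
    let Q : Subgroup G :=
      { carrier := {x | x = 1 ∨ x = u ∨ x = v ∨ x = u * v}
        one_mem' := Or.inl rfl
        mul_mem' := by
          rintro a b (rfl | rfl | rfl | rfl) (rfl | rfl | rfl | rfl) <;>
            simp [mul_assoc, hu2, hv2, hcomm, hcomm', huu, hvv]
        inv_mem' := by
          rintro a (rfl | rfl | rfl | rfl) <;>
            simp [mul_inv_rev, inv_eq_of_mul_eq_one_right hu2, inv_eq_of_mul_eq_one_right hv2, hcomm] }
    have hmem : ∀ x : G, x ∈ Q ↔ x = 1 ∨ x = u ∨ x = v ∨ x = u * v := fun x => Iff.rfl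
    have hQ : Q = ⊥ := by
      refine hg.2 Q ?_ ?_
      · rintro ⟨x, hx⟩
        refine ⟨1, Subtype.ext ?_⟩
        show x ^ (2 ^ 1) = 1
        rw [pow_one, sq]
        rcases (hmem x).mp hx with rfl | rfl | rfl | rfl <;>
          simp [mul_assoc, hu2, hv2, hcomm, hcomm', huu, hvv]
      · have hgu : g * v * g⁻¹ = u * v := by
          rw [← hcomm, ← hw, hv, hgi]
          have : g * (g * u * (g * g)) * (g * g) = g * g * u * g * (g * g * g) := by group
          rw [this, hg3, mul_one]
        have hguv : g * (u * v) * g⁻¹ = u := by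
          rw [show g * (u * v) * g⁻¹ = (g * u * g⁻¹) * (g * v * g⁻¹) by group, hgu, ← hv, hcomm', hv2,
            mul_one]
        have hfwd : ∀ x ∈ Q, g * x * g⁻¹ ∈ Q := by
          intro x hx
          rw [hmem] at hx ⊢
          rcases hx with rfl | rfl | rfl | rfl
          · simp
          · exact Or.inr (Or.inr (Or.inl rfl))
          · exact Or.inr (Or.inr (Or.inr hgu))
          · exact Or.inr (Or.inl hguv)
        rw [Subgroup.mem_normalizer_iff]
        intro x
        refine ⟨hfwd x, fun hx => ?_⟩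
        have h5 := hfwd _ (hfwd _ hx)
        rwa [show g * (g * (g * x * g⁻¹) * g⁻¹) * g⁻¹ = (g * g * g) * x * (g * g * g)⁻¹ by group,
          hg3, one_mul, inv_one, mul_one] at h5
    exact hu1 ((Subgroup.mem_bot).mp (hQ ▸ ((hmem u).mpr (Or.inr (Or.inl rfl)))))
  by_cases hgg : IsConj g g'
  · rw [if_pos hgg, show ((inv2 : Finset G).filter fun u => IsConj (g * u) g') = {1} from ?_]
    · simp
    ext u
    simp only [Finset.mem_filter, Finset.mem_singleton]
    exact ⟨fun h => hone u h.1 h.2, fun h => by subst h; exact ⟨mem_inv2.mpr (one_mul 1), by rwa [mul_one]⟩⟩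
  · rw [if_neg hgg, Finset.filter_false_of_mem, Finset.card_empty, Nat.cast_zero]
    intro u hu h
    rw [hone u hu h, mul_one] at h
    exact hgg h

/-- The weight. -/
noncomputable def weight (χ : Cfsg.IrrCharacter G) : ℂ :=
  (∑ q ∈ (inv2 : Finset G) ×ˢ (inv2 : Finset G), (χ : G → ℂ) (q.1 * q.2)) / (χ : G → ℂ) 1

theorem weight_spec {M : Ideal Cfsg.AlgInt} (hM : Cfsg.IsPModular 2 M) (χ : Cfsg.IrrCharacter G) :
    MemLocalRing M (weight χ) ∧
      ((Cfsg.charDegree (χ : G → ℂ)).factorization 2 ≠ (Nat.card G).factorization 2 →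
        MemLocalIdeal M (weight χ)) := by
  classical
  haveI : Fact (Nat.Prime 2) := ⟨Nat.prime_two⟩
  haveI := Fintype.ofFinite (ConjClasses G)
  set c : G → ℕ := fun x => ((inv2 : Finset G).filter fun t => t * x * (t * x) = 1).card with hc
  have hcconj : ∀ x y : G, IsConj x y → c x = c y := by
    intro x y h
    obtain ⟨u, rfl⟩ := isConj_iff.mp h
    refine Finset.card_bij (fun t _ => u * t * u⁻¹) ?_ ?_ ?_
    · intro t ht
      simp only [Finset.mem_filter] at ht ⊢
      refine ⟨(conj_mem_inv2 u).mpr ht.1, ?_⟩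
      calc _ = u * (t * x * (t * x)) * u⁻¹ := by group
        _ = 1 := by rw [ht.2]; group
    · intro a _ b _ hab
      exact mul_left_cancel (mul_right_cancel hab)
    · intro t ht
      simp only [Finset.mem_filter] at ht
      refine ⟨u⁻¹ * t * u, ?_, by group⟩
      simp only [Finset.mem_filter]
      refine ⟨by simpa using (conj_mem_inv2 u⁻¹).mpr ht.1, ?_⟩
      calc _ = u⁻¹ * (t * (u * x * u⁻¹) * (t * (u * x * u⁻¹))) * u := by group
        _ = 1 := by rw [ht.2]; group
  have hsum : ∑ q ∈ (inv2 : Finset G) ×ˢ (inv2 : Finset G), (χ : G → ℂ) (q.1 * q.2) =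
      ∑ x : G, (c x : ℂ) * (χ : G → ℂ) x := by
    rw [← Finset.sum_fiberwise _ (fun q : G × G => q.1 * q.2)]
    refine Finset.sum_congr rfl fun x _ => ?_
    rw [Finset.sum_congr rfl (g := fun _ => (χ : G → ℂ) x) (fun q hq => by
      rw [(Finset.mem_filter.mp hq).2]), Finset.sum_const, nsmul_eq_mul]
    congr 2
    refine Finset.card_bij (fun q _ => q.1) ?_ ?_ ?_
    · rintro ⟨t, s⟩ hq
      simp only [Finset.mem_filter, Finset.mem_product, mem_inv2] at hq ⊢
      obtain ⟨⟨h1, h2⟩, rfl⟩ := hq
      exact ⟨h1, by rw [← mul_assoc t t, h1, one_mul, h2]⟩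
    · rintro ⟨t, s⟩ hq ⟨t', s'⟩ hq' h
      simp only [Finset.mem_filter] at hq hq' h ⊢
      subst h
      exact Prod.ext rfl (mul_left_cancel (hq.2.trans hq'.2.symm))
    · intro t ht
      simp only [Finset.mem_filter, mem_inv2] at ht
      refine ⟨(t, t * x), ?_, rfl⟩
      simp only [Finset.mem_filter, Finset.mem_product, mem_inv2]
      exact ⟨ht, by rw [← mul_assoc, ht.1, one_mul]⟩
  have hw : weight χ = ∑ C : ConjClasses G, (c C.out : ℂ) * centralChar (χ : G → ℂ) C.out := by
    rw [weight, hsum, sum_eq_sum_classes (fun x => (c x : ℂ) * (χ : G → ℂ) x) (fun x y h => by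
      rw [hcconj x y h, char_conj_invariant χ x y h]), Finset.sum_div]
    refine Finset.sum_congr rfl fun C _ => ?_
    rw [centralChar_eq]
    ring
  rw [hw]
  refine ⟨memRing_sum hM _ fun C _ => memRing_mul hM (memRing_natCast hM _) (memRing_centralChar hM χ _),
    fun hne => memIdeal_sum hM _ fun C _ => ?_⟩
  by_cases heven : 2 ∣ Nat.card ↥(Subgroup.centralizer ({C.out} : Set G))
  · refine memIdeal_mul_right hM ((memIdeal_natCast_iff hM _).mpr ?_) (memRing_centralChar hM χ _)
    obtain ⟨z, hz⟩ := exists_prime_orderOf_dvd_card' (G := Subgroup.centralizer ({C.out} : Set G)) 2 heven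
    have hzx : Commute (z : G) C.out := Subgroup.mem_centralizer_singleton_iff.mp z.2
    have hz2 : (z : G) * z = 1 := by
      rw [← sq, ← SubmonoidClass.coe_pow, ← hz, pow_orderOf_eq_one]; rfl
    have hzi : (z : G)⁻¹ = z := inv_eq_of_mul_eq_one_right hz2
    have hz1 : (z : G) ≠ 1 := by
      rw [Ne, ← orderOf_eq_one_iff, Subgroup.orderOf_coe, hz]; norm_num
    rw [← ZMod.natCast_eq_zero_iff, hc,
      card_eq_fixed _ (fun t => if Commute t (z : G) then t * z else z * t * (z : G)⁻¹) ?_ ?_,
      Finset.filter_false_of_mem, Finset.card_empty, Nat.cast_zero]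
    · intro t _ h
      split_ifs at h with htz
      · exact hz1 (mul_eq_left.mp h)
      · exact htz (mul_inv_eq_iff_eq_mul.mp h).symm
    · intro t ht
      simp only [Finset.mem_filter, mem_inv2] at ht ⊢
      split_ifs with htz
      · refine ⟨?_, ?_⟩
        · rw [mul_assoc t, ← mul_assoc (z : G), ← htz.eq, mul_assoc t (z : G), hz2, mul_one, ht.1]
        · calc t * z * C.out * (t * z * C.out) = t * (z * C.out) * t * (z * C.out) := by group
            _ = t * C.out * (z * t) * (z * C.out) := by rw [hzx.eq]; group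
            _ = t * C.out * t * ((z : G) * z) * C.out := by rw [← htz.eq]; group
            _ = 1 := by rw [hz2, mul_one, mul_assoc]; exact ht.2
      · refine ⟨by rw [← mem_inv2, conj_mem_inv2, mem_inv2]; exact ht.1, ?_⟩
        calc z * t * (z : G)⁻¹ * C.out * (z * t * (z : G)⁻¹ * C.out)
            = z * t * ((z : G)⁻¹ * C.out) * z * t * ((z : G)⁻¹ * C.out) := by group
          _ = z * (t * C.out * (t * C.out)) * (z : G)⁻¹ := by rw [(hzx.inv_left).eq]; group
          _ = 1 := by rw [ht.2]; group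
    · intro t _
      by_cases htz : Commute t (z : G)
      · have : Commute (t * z) (z : G) := htz.mul_left (Commute.refl _)
        simp only [if_pos htz, if_pos this]
        rw [mul_assoc, hz2, mul_one]
      · have : ¬ Commute (z * t * (z : G)⁻¹) (z : G) := fun h => htz (by
          have h2 : z * t = z * t * (z : G)⁻¹ * z := by group
          have h3 : (z : G) * (z * t * (z : G)⁻¹) = z * t := by rw [← h.eq]; exact h2.symm
          have h4 := mul_left_cancel h3
          exact (mul_inv_eq_iff_eq_mul.mp h4).symm)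
        simp only [if_neg htz, if_neg this]
        rw [hzi, show (z : G) * (z * t * z) * z = (z * z) * t * (z * z) by group, hz2, one_mul, mul_one]
  · refine memIdeal_mul_left hM (memRing_natCast hM _) (centralChar_memIdeal hM χ _ ?_)
    have h1 := csize_mul_card (G := G) C.out
    have h2 := factorization_deg_le (p := 2) χ
    rw [← h1, Nat.factorization_mul Nat.card_pos.ne' (csize_ne_zero _), Finsupp.add_apply,
      Nat.factorization_eq_zero_of_not_dvd heven, zero_add] at hne h2
    omega

/-- Let G be a finite group of order divisible by 6. Then the number of irreducible characters of G whose degree has the same 2-part as the order of G (the characters of 2-defect zero, each forming a 2-block of defect zero on its own) is at least the number of conjugacy classes of elements of order 3 that normalize no nontrivial 2-subgroup of G. In particular G has a 2-block of defect zero as soon as some element of order 3 normalizes no nontrivial 2-subgroup. -/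
theorem result {G : Type*} [Group G] [Finite G] (h6 : 6 ∣ Nat.card G) : Nat.card {C : ConjClasses G // ∃ g ∈ C.carrier, orderOf g = 3 ∧ ∀ Q : Subgroup G, IsPGroup 2 ↥Q → g ∈ Subgroup.normalizer (Q : Set G) → Q = ⊥} ≤ Nat.card {χ : Cfsg.IrrCharacter G // (Cfsg.charDegree (χ : G → ℂ)).factorization 2 = (Nat.card G).factorization 2} := by
  classical
  haveI : Fact (Nat.Prime 2) := ⟨Nat.prime_two⟩
  haveI := Fintype.ofFinite G
  obtain ⟨M, hM⟩ := exists_isPModular (q := 2) Nat.prime_two
  haveI := hM.2.1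
  haveI : CharP (ResField M) 2 := charP_resField Nat.prime_two hM.2.2
  set ι := {C : ConjClasses G // ∃ g ∈ C.carrier, orderOf g = 3 ∧
    ∀ Q : Subgroup G, IsPGroup 2 ↥Q → g ∈ Subgroup.normalizer (Q : Set G) → Q = ⊥}
  set κ := {χ : Cfsg.IrrCharacter G //
    (Cfsg.charDegree (χ : G → ℂ)).factorization 2 = (Nat.card G).factorization 2}
  haveI := Fintype.ofFinite ι
  haveI := Fintype.ofFinite κ
  choose rep hmem hgood using fun C : ι => C.2
  have hrep : ∀ C D : ι, IsConj (rep C) (rep D) ↔ C = D := by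
    intro C D
    rw [← ConjClasses.mk_eq_mk_iff_isConj, ConjClasses.mem_carrier_iff_mk_eq.mp (hmem C),
      ConjClasses.mem_carrier_iff_mk_eq.mp (hmem D)]
    exact Subtype.ext_iff.symm
  have hWm : ∀ χ : Cfsg.IrrCharacter G, weight χ ∈ locRing M := fun χ => (weight_spec hM χ).1
  have hχm : ∀ (χ : Cfsg.IrrCharacter G) (g : G), (χ : G → ℂ) g ∈ locRing M :=
    fun χ g => memRing_char hM χ g
  have hχcm : ∀ (χ : Cfsg.IrrCharacter G) (g : G), conj ((χ : G → ℂ) g) ∈ locRing M :=
    fun χ g => by rw [← CfsgLib.Char.IsIrrCharacter.apply_inv χ.2]; exact hχm χ _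
  let U : Matrix ι κ (ResField M) := fun C χ =>
    red M ⟨weight χ.1, hWm _⟩ * red M ⟨(χ.1 : G → ℂ) (rep C), hχm _ _⟩
  let V : Matrix κ ι (ResField M) := fun χ D => red M ⟨conj ((χ.1 : G → ℂ) (rep D)), hχcm _ _⟩
  -- the exact count
  have hcount : ∀ C D : ι, ∑ χ : Cfsg.IrrCharacter G,
      weight χ * (χ : G → ℂ) (rep C) * conj ((χ : G → ℂ) (rep D)) =
      (Nat.card ↥(Subgroup.centralizer ({rep C} : Set G)) : ℂ) *
        ((((inv2 : Finset G) ×ˢ (inv2 : Finset G)).filter
          fun q => IsConj (q.1 * q.2 * rep D) (rep C)).card : ℂ) := by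
    intro C D
    set a := rep C
    set b := rep D
    have hfib : ∀ x y : G, ((Finset.univ.filter fun k : G => k * x * k⁻¹ = y).card : ℂ) =
        if IsConj x y then (Nat.card ↥(Subgroup.centralizer ({x} : Set G)) : ℂ) else 0 := by
      intro x y
      split_ifs with h
      · obtain ⟨k₀, hk₀⟩ := isConj_iff.mp h
        rw [← Fintype.card_subtype, ← Nat.card_eq_fintype_card]
        congr 1
        refine Nat.card_congr
          { toFun := fun k => ⟨k₀⁻¹ * k.1, Subgroup.mem_centralizer_singleton_iff.mpr ?_⟩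
            invFun := fun c => ⟨k₀ * c, ?_⟩
            left_inv := fun k => by simp
            right_inv := fun c => by simp }
        · have h2 : k.1 * x = k₀ * x * k₀⁻¹ * k.1 := by rw [hk₀]; exact mul_inv_eq_iff_eq_mul.mp k.2
          rw [mul_assoc, h2]; group
        · have h3 := Subgroup.mem_centralizer_singleton_iff.mp c.2
          rw [mul_assoc k₀, h3, ← hk₀]; group
      · rw [Finset.card_eq_zero.mpr (Finset.filter_false_of_mem fun k _ hk =>
          h (isConj_iff.mpr ⟨k, hk⟩)), Nat.cast_zero]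
    set J := (inv2 : Finset G) ×ˢ (inv2 : Finset G) with hJ
    have hG : (Nat.card G : ℂ) ≠ 0 := by exact_mod_cast Nat.card_pos.ne'
    have h1 : ∀ χ : Cfsg.IrrCharacter G, weight χ * (χ : G → ℂ) a * conj ((χ : G → ℂ) b) =
        (Nat.card G : ℂ)⁻¹ * ∑ q ∈ J, ∑ h : G,
          (χ : G → ℂ) (q.1 * q.2 * (h⁻¹ * a * h)) * conj ((χ : G → ℂ) b) := by
      intro χ
      simp only [← Finset.sum_mul, sum_char_mul_conj, weight]
      rw [← Finset.sum_div, ← Finset.sum_mul, ← Finset.mul_sum]
      field_simp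
      rw [hJ]
      ring
    simp only [h1, ← Finset.mul_sum]
    rw [Finset.sum_comm]
    rw [Finset.sum_congr rfl fun q _ => Finset.sum_comm]
    simp only [CfsgLib.Char.sum_mul_conj]
    -- each summand counts the conjugating elements
    have h2 : ∀ x : G, (if IsConj x b then (Nat.card ↥(Subgroup.centralizer ({x} : Set G)) : ℂ)
        else 0) = ∑ k : G, if k * x * k⁻¹ = b then (1 : ℂ) else 0 := by
      intro x
      rw [← hfib, Finset.sum_boole]
    simp only [h2]
    have hswap : ∑ q ∈ J, ∑ h : G, ∑ k : G,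
        (if k * (q.1 * q.2 * (h⁻¹ * a * h)) * k⁻¹ = b then (1 : ℂ) else 0) =
        ∑ k : G, ∑ q ∈ J, ∑ h : G, (if q.1 * q.2 * (h⁻¹ * a * h) = b then (1 : ℂ) else 0) := by
      rw [Finset.sum_congr rfl fun q _ => Finset.sum_comm, Finset.sum_comm]
      refine Finset.sum_congr rfl fun k _ => ?_
      refine Finset.sum_bij' (fun q _ => (k * q.1 * k⁻¹, k * q.2 * k⁻¹))
        (fun q _ => (k⁻¹ * q.1 * k, k⁻¹ * q.2 * k)) ?_ ?_ ?_ ?_ ?_
      · intro q hq
        simp only [hJ, Finset.mem_product] at hq ⊢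
        exact ⟨(conj_mem_inv2 k).mpr hq.1, (conj_mem_inv2 k).mpr hq.2⟩
      · intro q hq
        simp only [hJ, Finset.mem_product] at hq ⊢
        exact ⟨by simpa using (conj_mem_inv2 k⁻¹).mpr hq.1, by simpa using (conj_mem_inv2 k⁻¹).mpr hq.2⟩
      · intro q _; simp [mul_assoc]
      · intro q _; simp [mul_assoc]
      · intro q _
        refine Fintype.sum_equiv (Equiv.mulRight k⁻¹) _ _ fun h => ?_
        refine if_congr (Iff.of_eq ?_) rfl rfl
        congr 1
        simp [mul_assoc]
    rw [hswap, Finset.sum_const, Finset.card_univ, nsmul_eq_mul, ← Nat.card_eq_fintype_card,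
      ← mul_assoc, inv_mul_cancel₀ hG, one_mul, Finset.card_filter, Nat.cast_sum, Finset.mul_sum]
    refine Finset.sum_nbij' (fun q => (q.2, q.1)) (fun q => (q.2, q.1)) ?_ ?_ ?_ ?_ ?_
    · intro q hq; simpa [hJ, and_comm] using hq
    · intro q hq; simpa [hJ, and_comm] using hq
    · intro q _; rfl
    · intro q _; rfl
    intro q hq
    simp only [hJ, Finset.mem_product, mem_inv2] at hq
    have e1 : q.1⁻¹ = q.1 := inv_eq_of_mul_eq_one_right hq.1
    have e2 : q.2⁻¹ = q.2 := inv_eq_of_mul_eq_one_right hq.2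
    rw [Nat.cast_ite, Nat.cast_one, Nat.cast_zero, mul_ite, mul_one, mul_zero,
      if_congr isConj_comm rfl rfl, ← hfib, Finset.sum_boole]
    refine congrArg Nat.cast (Finset.card_equiv (Equiv.inv G) fun h => ?_)
    simp only [Finset.mem_filter, Finset.mem_univ, true_and, Equiv.inv_apply, inv_inv]
    constructor
    · intro h'
      rw [← h', ← mul_assoc, show q.2 * q.1 * (q.1 * q.2) = q.2 * (q.1 * q.1) * q.2 by group, hq.1,
        mul_one, hq.2, one_mul]
    · intro h'
      rw [h', ← mul_assoc, show q.1 * q.2 * (q.2 * q.1) = q.1 * (q.2 * q.2) * q.1 by group, hq.2,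
        mul_one, hq.1, one_mul]
  have hmat : U * V = 1 := by
    ext C D
    have hpar := parity (g := rep D) (g' := rep C) (hgood D) (hgood C)
    let T : Cfsg.IrrCharacter G → locRing M := fun χ =>
      ⟨weight χ, hWm χ⟩ * ⟨(χ : G → ℂ) (rep C), hχm _ _⟩ * ⟨conj ((χ : G → ℂ) (rep D)), hχcm _ _⟩
    have e : ∑ χ, T χ = ((Nat.card ↥(Subgroup.centralizer ({rep C} : Set G)) *
        (((inv2 : Finset G) ×ˢ (inv2 : Finset G)).filter
          fun q => IsConj (q.1 * q.2 * rep D) (rep C)).card : ℕ) : locRing M) := by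
      refine Subtype.ext ?_
      push_cast
      simpa [T] using hcount C D
    have e' := congrArg (red M) e
    rw [map_sum, map_natCast] at e'
    rw [Matrix.mul_apply]
    have hzero : ∀ χ : Cfsg.IrrCharacter G,
        (Cfsg.charDegree (χ : G → ℂ)).factorization 2 ≠ (Nat.card G).factorization 2 →
        red M (T χ) = 0 := fun χ hne => by
      simp only [T, map_mul]
      rw [(red_mk_eq_zero (hWm χ)).mpr ((weight_spec hM χ).2 hne), zero_mul, zero_mul]
    calc ∑ χ : κ, U C χ * V χ D = ∑ χ : κ, red M (T χ.1) := by simp only [U, V, T, map_mul]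
      _ = ∑ χ : Cfsg.IrrCharacter G, red M (T χ) := by
        rw [← Finset.sum_subtype (p := fun χ : Cfsg.IrrCharacter G =>
          (Cfsg.charDegree (χ : G → ℂ)).factorization 2 = (Nat.card G).factorization 2)
          (Finset.univ.filter fun χ : Cfsg.IrrCharacter G =>
            (Cfsg.charDegree (χ : G → ℂ)).factorization 2 = (Nat.card G).factorization 2) (fun x => by simp) (fun χ => red M (T χ))]
        refine Finset.sum_subset (Finset.subset_univ _) fun χ _ hχ => hzero χ (by simpa using hχ)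
      _ = _ := e'.trans ?_
    have hz : ∀ n : ℕ, (n : ResField M) = ((n : ZMod 2).cast : ResField M) := fun n =>
      (ZMod.cast_natCast' n).symm
    have hodd : ((Nat.card ↥(Subgroup.centralizer ({rep C} : Set G)) : ℕ) : ZMod 2) = 1 :=
      ZMod.natCast_eq_one_iff_odd.mpr (Nat.odd_iff.mpr (by have := good_odd (hgood C); omega))
    rw [hz, Nat.cast_mul, hodd, one_mul, hpar, Matrix.one_apply]
    simp only [hrep D C, eq_comm (a := C)]
    split_ifs <;> simp
  rw [Nat.card_eq_fintype_card, Nat.card_eq_fintype_card]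
  calc Fintype.card ι = (U * V).rank := by rw [hmat, Matrix.rank_one]
    _ ≤ U.rank := Matrix.rank_mul_le_left U V
    _ ≤ Fintype.card κ := Matrix.rank_le_card_width U

end Cfsg.Agent.S4737
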