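import Cfsg.Statements.S4740
import Cfsg.Agent.Lib.Blk83.PairCount

set_option autoImplicit false
open Cfsg

namespace Cfsg.Agent.S4740

/-- Let p be an odd prime, G a finite group of even order, x an involution of G and P a subgroup of G of order p ^ c such that no conjugate of x inverts a non-identity element of P. If p ^ a is the p-part of the order of C_G(x), then some irreducible character of G has degree divisible by p ^ (c - a). -/
theorem result {G : Type*} [Group G] [Finite G] (p : ℕ) [Fact p.Prime] (hp2 : p ≠ 2) (hG : Even (Nat.card G)) (x : G) (hx : orderOf x = 2) (P : Subgroup G) (c : ℕ) (hP : Nat.card ↥P = p ^ c) (hinv : ∀ g : G, IsConj x g → ∀ z ∈ P, z ≠ 1 → g * z * g⁻¹ ≠ z⁻¹) (a : ℕ) (ha : (Nat.card ↥(Subgroup.centralizer ({x} : Set G))).factorization p = a) : ∃ χ : Cfsg.IrrCharacter G, p ^ (c - a) ∣ Cfsg.charDegree (χ : G → ℂ) := by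
  obtain ⟨χ, hχ⟩ := CfsgLib.Blk83.exists_pow_dvd_degree p x P c a hP ha (by
    intro b w hw hconj
    by_contra hw1
    have hsq : x * x = 1 := by
      have := pow_orderOf_eq_one x
      rwa [hx, pow_two] at this
    have hg : (b * x * b⁻¹) * (b * x * b⁻¹) = 1 := by
      rw [show (b * x * b⁻¹) * (b * x * b⁻¹) = b * (x * x) * b⁻¹ by group, hsq]; group
    have hh : (b * x * b⁻¹ * w) * (b * x * b⁻¹ * w) = 1 := by
      obtain ⟨d, hd⟩ := isConj_iff.mp hconj
      rw [← hd, show (d * x * d⁻¹) * (d * x * d⁻¹) = d * (x * x) * d⁻¹ by group, hsq]; group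
    refine hinv (b * x * b⁻¹) (isConj_iff.mpr ⟨b, rfl⟩) w hw hw1 ?_
    set u := b * x * b⁻¹ with hu
    rw [inv_eq_of_mul_eq_one_right hg]
    refine eq_inv_of_mul_eq_one_left ?_
    rw [← hh]
    group)
  exact ⟨χ, hχ⟩

end Cfsg.Agent.S4740
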