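import Cfsg.Statements.S4743
import Cfsg.Agent.S4742

set_option autoImplicit false
open Cfsg

namespace Cfsg.Agent.S4743

/-- A normal subgroup with an element of order `q` has one of order `p`, when `q`-elements have conjugates
differing by `p`-elements. -/
theorem dvd_normal {G : Type*} [Group G] [Finite G] (p q : ℕ) [Fact p.Prime] [Fact q.Prime]
    (H : ∀ z : G, z ≠ 1 → (∃ k : ℕ, orderOf z = q ^ k) →
      ∃ g h : G, IsConj z g ∧ IsConj z h ∧ g * h⁻¹ ≠ 1 ∧ ∃ k : ℕ, orderOf (g * h⁻¹) = p ^ k)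
    (N : Subgroup G) [hN : N.Normal] (hq : q ∣ Nat.card N) : p ∣ Nat.card N := by
  obtain ⟨⟨z, hz⟩, hzo⟩ := exists_prime_orderOf_dvd_card' q hq
  rw [← Subgroup.orderOf_coe] at hzo
  obtain ⟨g, h, hg, hh, hne, k, hk⟩ := H z (by
    rintro rfl
    rw [orderOf_one] at hzo
    exact (Fact.out : q.Prime).one_lt.ne hzo) ⟨1, by simpa using hzo⟩
  obtain ⟨a, rfl⟩ := isConj_iff.mp hg
  obtain ⟨b, rfl⟩ := isConj_iff.mp hh
  have hmem : a * z * a⁻¹ * (b * z * b⁻¹)⁻¹ ∈ N :=
    N.mul_mem (hN.conj_mem z hz a) (N.inv_mem (hN.conj_mem z hz b))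
  have h1 : p ^ k ∣ Nat.card N := by
    rw [← hk]
    have := orderOf_dvd_natCard (⟨_, hmem⟩ : N)
    rwa [← Subgroup.orderOf_coe] at this
  refine dvd_trans (dvd_pow_self p ?_) h1
  rintro rfl
  rw [pow_zero, orderOf_eq_one_iff] at hk
  exact hne hk

theorem not_solvable {G : Type*} [Group G] [Finite G] (p q : ℕ) [Fact p.Prime] [Fact q.Prime] (hpq : p ≠ q)
    (hpG : p ∣ Nat.card G) (hqG : q ∣ Nat.card G) (hs : Cfsg.IsPSolvable p G)
    (H1 : ∀ z : G, z ≠ 1 → (∃ k : ℕ, orderOf z = q ^ k) →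
      ∃ g h : G, IsConj z g ∧ IsConj z h ∧ g * h⁻¹ ≠ 1 ∧ ∃ k : ℕ, orderOf (g * h⁻¹) = p ^ k)
    (H2 : ∀ z : G, z ≠ 1 → (∃ k : ℕ, orderOf z = p ^ k) →
      ∃ g h : G, IsConj z g ∧ IsConj z h ∧ g * h⁻¹ ≠ 1 ∧ ∃ k : ℕ, orderOf (g * h⁻¹) = q ^ k) : False := by
  obtain ⟨n, H, h0, hn, hmono, hnorm, hstep⟩ := hs
  have key : ∀ i : Fin (n + 1), ¬ p ∣ Nat.card (H i) ∧ ¬ q ∣ Nat.card (H i) := by
    intro i
    induction i using Fin.induction with
    | zero =>
      rw [h0, Subgroup.card_bot]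
      exact ⟨(Fact.out : p.Prime).not_dvd_one, (Fact.out : q.Prime).not_dvd_one⟩
    | succ i ih =>
      haveI := hnorm i.succ
      have hc : Nat.card (H i.castSucc) * (H i.castSucc).relIndex (H i.succ) = Nat.card (H i.succ) := by
        rw [← Subgroup.relIndex_bot_left, ← Subgroup.relIndex_bot_left]
        exact Subgroup.relIndex_mul_relIndex _ _ _ bot_le (hmono (Fin.castSucc_le_succ i))
      rcases hstep i with ⟨m, hm⟩ | hcop
      · have hnq : ¬ q ∣ Nat.card (H i.succ) := by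
          rw [← hc, hm, (Fact.out : q.Prime).dvd_mul]
          rintro (h | h)
          · exact ih.2 h
          · exact hpq ((Nat.prime_dvd_prime_iff_eq Fact.out Fact.out).mp
              ((Fact.out : q.Prime).dvd_of_dvd_pow h)).symm
        exact ⟨fun h => hnq (dvd_normal q p H2 _ h), hnq⟩
      · have hnp : ¬ p ∣ Nat.card (H i.succ) := by
          rw [← hc, (Fact.out : p.Prime).dvd_mul]
          rintro (h | h)
          · exact ih.1 h
          · exact ((Fact.out : p.Prime).coprime_iff_not_dvd.mp hcop.symm) h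
        exact ⟨hnp, fun h => hnp (dvd_normal p q H1 _ h)⟩
  have := (key (Fin.last n)).1
  rw [hn, Subgroup.card_top] at this
  exact this hpG

/-- Let p ≠ q be primes dividing the order of the finite group G, suppose the centralizer of every non-identity p-element has order prime to q, and suppose G is p-solvable or q-solvable. Then G has an irreducible character of p-defect zero or an irreducible character of q-defect zero. -/
theorem result {G : Type*} [Group G] [Finite G] (p q : ℕ) [Fact p.Prime] [Fact q.Prime] (hppq : p ≠ q) (hpG : p ∣ Nat.card G) (hqG : q ∣ Nat.card G) (hC : ∀ g : G, g ≠ 1 → (∃ k : ℕ, orderOf g = p ^ k) → ¬ q ∣ Nat.card ↥(Subgroup.centralizer ({g} : Set G))) (hsolv : Cfsg.IsPSolvable p G ∨ Cfsg.IsPSolvable q G) : (∃ χ : Cfsg.IrrCharacter G, (Cfsg.charDegree (χ : G → ℂ)).factorization p = (Nat.card G).factorization p) ∨ (∃ χ : Cfsg.IrrCharacter G, (Cfsg.charDegree (χ : G → ℂ)).factorization q = (Nat.card G).factorization q) := by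
  by_contra hcon
  obtain ⟨hp', hq'⟩ := not_or.mp hcon
  have hC' : ∀ g : G, g ≠ 1 → (∃ k : ℕ, orderOf g = q ^ k) →
      ¬ p ∣ Nat.card ↥(Subgroup.centralizer ({g} : Set G)) := by
    intro z hz1 ⟨k, hk⟩ hdvd
    obtain ⟨⟨g, hg⟩, hgo⟩ := exists_prime_orderOf_dvd_card' p hdvd
    rw [← Subgroup.orderOf_coe] at hgo
    refine hC g ?_ ⟨1, by simpa using hgo⟩ ?_
    · rintro rfl
      rw [orderOf_one] at hgo
      exact (Fact.out : p.Prime).one_lt.ne hgo
    · have hzmem : z ∈ Subgroup.centralizer ({g} : Set G) :=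
        Subgroup.mem_centralizer_singleton_iff.mpr (Subgroup.mem_centralizer_singleton_iff.mp hg).symm
      have h1 : orderOf z ∣ Nat.card ↥(Subgroup.centralizer ({g} : Set G)) := by
        have := orderOf_dvd_natCard (⟨z, hzmem⟩ : ↥(Subgroup.centralizer ({g} : Set G)))
        rwa [← Subgroup.orderOf_coe] at this
      refine dvd_trans ?_ h1
      rw [hk]
      refine dvd_pow_self q ?_
      rintro rfl
      rw [pow_zero, orderOf_eq_one_iff] at hk
      exact hz1 hk
  have H1 := (Cfsg.Agent.S4742.result p q hppq hpG hqG hC).resolve_left hp'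
  have H2 := (Cfsg.Agent.S4742.result q p hppq.symm hqG hpG hC').resolve_left hq'
  rcases hsolv with hs | hs
  · exact not_solvable p q hppq hpG hqG hs H1 H2
  · exact not_solvable q p hppq.symm hqG hpG hs H2 H1

end Cfsg.Agent.S4743
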