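import Cfsg.Statements.S4746
import Cfsg.Agent.S4744
import Cfsg.Agent.Lib.Char.Complete
import Cfsg.Agent.Lib.Char.Virtual

set_option autoImplicit false
open Cfsg

namespace Cfsg.Agent.S4746

open CfsgLib.Char

theorem exists_sq_sum {ι : Type*} (s : Finset ι) (f : ι → ℂ) (hf : ∀ i, IsIntegral ℤ (f i)) :
    ∃ β : ℂ, IsIntegral ℤ β ∧ (∑ i ∈ s, f i) ^ 2 = ∑ i ∈ s, f i ^ 2 + 2 * β := by
  classical
  induction s using Finset.induction with
  | empty => exact ⟨0, isIntegral_zero, by simp⟩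
  | insert a s ha ih =>
    obtain ⟨β, hβ, h⟩ := ih
    refine ⟨β + f a * ∑ i ∈ s, f i, hβ.add ((hf a).mul (IsIntegral.sum _ fun i _ => hf i)), ?_⟩
    rw [Finset.sum_insert ha, Finset.sum_insert ha, add_sq, h]
    ring


/-- Let p be an odd prime and G a finite group of even order divisible by p in which the centralizer of every non-identity p-element has odd order. Then G has an irreducible character of p-defect zero or an irreducible character of even degree. -/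
theorem result {G : Type*} [Group G] [Finite G] (p : ℕ) [Fact p.Prime] (hp2 : p ≠ 2) (hpG : p ∣ Nat.card G) (h2G : 2 ∣ Nat.card G) (hC : ∀ g : G, g ≠ 1 → (∃ k : ℕ, orderOf g = p ^ k) → Odd (Nat.card ↥(Subgroup.centralizer ({g} : Set G)))) : (∃ χ : Cfsg.IrrCharacter G, (Cfsg.charDegree (χ : G → ℂ)).factorization p = (Nat.card G).factorization p) ∨ ∃ χ : Cfsg.IrrCharacter G, Even (Cfsg.charDegree (χ : G → ℂ)) := by
  classical
  rcases S4744.result p hp2 hpG h2G hC with hd | hP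
  · exact Or.inl hd
  refine Or.inr ?_
  have hp : p.Prime := Fact.out
  obtain ⟨P⟩ := (inferInstance : Nonempty (Sylow p G))
  obtain ⟨hN, hab⟩ := hP P
  -- an involution of the normaliser inverts a nontrivial `p`-element
  haveI : Fact (Nat.Prime 2) := ⟨Nat.prime_two⟩
  obtain ⟨⟨z, hzN⟩, hzo⟩ := exists_prime_orderOf_dvd_card' 2 (even_iff_two_dvd.1 hN)
  rw [Subgroup.orderOf_mk] at hzo
  obtain ⟨y, hyP, hy1⟩ := (P : Subgroup G).bot_or_exists_ne_one.resolve_left
    (Sylow.ne_bot_of_dvd_card P hpG)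
  have hyP' : z * y * z⁻¹ ∈ (P : Subgroup G) := (Subgroup.mem_normalizer_iff.1 hzN y).1 hyP
  have hcomm : y * (z * y * z⁻¹) = z * y * z⁻¹ * y :=
    congrArg Subtype.val (hab.is_comm.comm (⟨y, hyP⟩ : (P : Subgroup G)) ⟨_, hyP'⟩)
  have hw : y * (z * y * z⁻¹) = 1 := by
    by_contra hw
    have hzz : z * z = 1 := by simpa [pow_two, hzo] using pow_orderOf_eq_one z
    have hfix : z * (y * (z * y * z⁻¹)) = y * (z * y * z⁻¹) * z := by
      calc z * (y * (z * y * z⁻¹)) = (z * y * z⁻¹) * ((z * z) * y * (z * z)⁻¹) * z := by group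
        _ = y * (z * y * z⁻¹) * z := by rw [hzz, inv_one, one_mul, mul_one, ← hcomm]
    obtain ⟨k, hk⟩ := P.2 ⟨_, mul_mem hyP hyP'⟩
    obtain ⟨i, -, hi⟩ := (Nat.dvd_prime_pow hp).1
      (orderOf_dvd_of_pow_eq_one (by simpa using congrArg Subtype.val hk :
        (y * (z * y * z⁻¹)) ^ p ^ k = 1))
    have hodd := hC _ hw ⟨i, hi⟩
    have hmem : z ∈ Subgroup.centralizer ({y * (z * y * z⁻¹)} : Set G) :=
      Subgroup.mem_centralizer_singleton_iff.2 hfix
    have h2 := orderOf_dvd_natCard (⟨z, hmem⟩ : ↥(Subgroup.centralizer ({y * (z * y * z⁻¹)} : Set G)))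
    rw [Subgroup.orderOf_mk, hzo] at h2
    exact Nat.not_even_iff_odd.2 hodd (even_iff_two_dvd.2 h2)
  have hconj : IsConj y y⁻¹ := isConj_iff.2 ⟨z, eq_inv_of_mul_eq_one_right hw⟩
  obtain ⟨k, hk⟩ := P.2 ⟨y, hyP⟩
  obtain ⟨i, -, hi⟩ := (Nat.dvd_prime_pow hp).1
    (orderOf_dvd_of_pow_eq_one (by simpa using congrArg Subtype.val hk : y ^ p ^ k = 1))
  obtain ⟨n, hn⟩ := hC y hy1 ⟨i, hi⟩
  by_contra hall
  push Not at hall
  -- column orthogonality modulo two
  have hint : ∀ χ : Cfsg.IrrCharacter G, IsIntegral ℤ ((χ : G → ℂ) y) := fun χ =>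
    IsGeneralizedCharacter.isIntegral_apply (IsIrrCharacter.isGeneralizedCharacter χ.2) y
  have hreal : ∀ χ : Cfsg.IrrCharacter G, starRingEnd ℂ ((χ : G → ℂ) y) = (χ : G → ℂ) y := fun χ => by
    rw [← IsIrrCharacter.apply_inv χ.2]
    exact (IsClassFunction.eq_of_isConj (IsIrrCharacter.isClassFunction χ.2) hconj).symm
  have h1 := sum_mul_conj y y
  rw [if_pos (IsConj.refl y), hn] at h1
  simp only [hreal, ← sq] at h1
  have h2 := sum_apply_one_mul (G := G) y
  rw [if_neg hy1] at h2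
  have hd : ∀ χ : Cfsg.IrrCharacter G, ∃ m : ℕ, (χ : G → ℂ) 1 = 2 * (m : ℂ) + 1 := fun χ => by
    obtain ⟨m, hm⟩ := Nat.not_even_iff_odd.1 (hall χ)
    refine ⟨m, ?_⟩
    rw [← IsCharacter.degree_cast (IsIrrCharacter.isCharacter χ.2),
      show degree (χ : G → ℂ) = 2 * m + 1 from hm]
    push_cast; ring
  choose m hm using hd
  simp only [hm, add_mul, one_mul, Finset.sum_add_distrib, mul_assoc, ← Finset.mul_sum] at h2
  obtain ⟨β, hβ, hsq⟩ := exists_sq_sum Finset.univ (fun χ : Cfsg.IrrCharacter G => (χ : G → ℂ) y) hint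
  set α := ∑ χ : Cfsg.IrrCharacter G, (m χ : ℂ) * (χ : G → ℂ) y with hα
  have hαi : IsIntegral ℤ α := IsIntegral.sum _ fun χ _ =>
    ((isIntegral_algebraMap (R := ℤ) (A := ℂ) (x := (m χ : ℤ))).mul (hint χ))
  rw [eq_neg_of_add_eq_zero_right h2, h1] at hsq
  have hhalf : IsIntegral ℤ (((1 : ℕ) : ℂ) / (2 : ℕ)) := by
    have e : (((1 : ℕ) : ℂ) / (2 : ℕ)) = 2 * (α * α) - β - (n : ℂ) := by
      push_cast at hsq ⊢
      linear_combination (-1 / 2 : ℂ) * hsq
    rw [e]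
    refine (((isIntegral_algebraMap (R := ℤ) (A := ℂ) (x := (2 : ℤ))).mul (hαi.mul hαi)).sub hβ).sub ?_
    exact isIntegral_algebraMap (R := ℤ) (A := ℂ) (x := (n : ℤ))
  exact absurd (Nat.le_of_dvd one_pos (dvd_of_isIntegral_natCast_div two_ne_zero hhalf)) (by norm_num)

end Cfsg.Agent.S4746
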