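import Cfsg.Statements.S4748
import Cfsg.Agent.Lib.TILinear.Main
import Cfsg.Agent.Lib.Solvable.CoprimeAction
import Cfsg.Agent.Lib.Solvable.Core

set_option autoImplicit false
open scoped Pointwise
open Cfsg

namespace Cfsg.Agent.S4748

open scoped Pointwise
open CfsgLib

/-- If `O_p(G) = 1` in a `p`-solvable group, the centralizer of `O_{p'}(G)` has order prime to `p`. -/
theorem card_centralizer_coprime {G : Type*} [Group G] [Finite G] {p : ℕ} [Fact p.Prime]
    (hs : Cfsg.IsPSolvable p G) (hO : Cfsg.pCore p G = ⊥) :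
    (Nat.card (Subgroup.centralizer (Cfsg.pPrimeCore p G : Set G))).Coprime p := by
  obtain ⟨n, H, h0, htop, hmono, hnor, hfac⟩ := hs
  set K₀ := Cfsg.pPrimeCore p G
  haveI hKn : K₀.Normal := Solvable.pPrimeCore_normal p G
  set C := Subgroup.centralizer (K₀ : Set G) with hC
  suffices h : ∀ i, (Nat.card (C ⊓ H i : Subgroup G)).Coprime p by
    have := h (Fin.last n)
    rwa [htop, inf_top_eq] at this
  intro i
  induction i using Fin.induction with
  | zero => rw [h0, inf_bot_eq, Subgroup.card_bot]; exact Nat.coprime_one_left p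
  | succ i ih =>
    haveI := hnor i.castSucc
    haveI := hnor i.succ
    set A := C ⊓ H i.castSucc with hA
    set D := C ⊓ H i.succ with hD
    have hAD : A ≤ D := inf_le_inf_left _ (hmono (Fin.castSucc_le_succ i))
    have hcard : Nat.card A * A.relIndex D = Nat.card D := by
      have := Subgroup.relIndex_mul_relIndex ⊥ A D bot_le hAD
      rwa [Subgroup.relIndex_bot_left, Subgroup.relIndex_bot_left] at this
    have hrel : A.relIndex D ∣ (H i.castSucc).relIndex (H i.succ) := by
      have h2 : A.relIndex D = (H i.castSucc).relIndex D := by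
        rw [hA, ← Subgroup.inf_relIndex_right (C ⊓ H i.castSucc) D,
          ← Subgroup.inf_relIndex_right (H i.castSucc) D]
        congr 1
        rw [hD]
        ext x
        simp only [Subgroup.mem_inf]
        tauto
      rw [h2, ← Subgroup.relIndex_subgroupOf (H := H i.castSucc) (inf_le_right : D ≤ H i.succ)]
      exact Subgroup.relIndex_dvd_index_of_normal _ _
    rw [← hcard]
    refine ih.mul_left ?_
    rcases hfac i with ⟨m, hm⟩ | hco
    swap
    · exact hco.coprime_dvd_left hrel
    have hAK : A ≤ K₀ := Solvable.le_pPrimeCore inferInstance ih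
    haveI : (A.subgroupOf D).Normal := Subgroup.Normal.subgroupOf inferInstance D
    obtain ⟨j, -, hj⟩ := (Nat.dvd_prime_pow Fact.out).mp (hm ▸ hrel)
    haveI : Group.IsNilpotent (↥D ⧸ A.subgroupOf D) :=
      (IsPGroup.of_card (n := j) (show Nat.card (↥D ⧸ A.subgroupOf D) = p ^ j from hj)).isNilpotent
    haveI : Group.IsNilpotent D := Subgroup.isNilpotent_of_ker_le_center
      (QuotientGroup.mk' (A.subgroupOf D)) (by
        rw [QuotientGroup.ker_mk']
        intro a ha
        rw [Subgroup.mem_center_iff]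
        intro x
        exact Subtype.ext (Subgroup.mem_centralizer_iff.mp x.2.1 (a : G) (hAK ha)).symm)
    have hDcore : Cfsg.pCore p D = ⊥ := by
      have h1 := Solvable.map_subtype_pCore_le (p := p) D
      rw [hO, le_bot_iff, Subgroup.map_eq_bot_iff_of_injective _ D.subtype_injective] at h1
      exact h1
    obtain ⟨R⟩ : Nonempty (Sylow p D) := inferInstance
    have hRn : (R : Subgroup D).Normal :=
      Sylow.normal_of_normalizerCondition Group.normalizerCondition_of_isNilpotent R
    have hR : (R : Subgroup D) = ⊥ := le_bot_iff.mp (hDcore ▸ Solvable.le_pCore hRn R.2)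
    have hnd : ¬ p ∣ Nat.card D := by
      have := R.not_dvd_index
      rwa [hR, Subgroup.index_bot] at this
    exact ((Fact.out (p := p.Prime)).coprime_iff_not_dvd.mpr fun h =>
      hnd (h.trans ⟨Nat.card A, by rw [← hcard, mul_comm]⟩)).symm

/-- Let G be a finite p-solvable group whose Sylow p-subgroup P meets each conjugate g P g⁻¹ with g outside N_G(P) trivially, and let χ be a faithful character of G (χ g = χ 1 only for g = 1) whose degree d satisfies d² ≤ |P|. Then P is normal in G. -/
theorem result {G : Type*} [Group G] [Finite G] (p : ℕ) [Fact p.Prime] (hsolv : Cfsg.IsPSolvable p G) (P : Sylow p G) (hTI : ∀ g : G, g ∉ Subgroup.normalizer ((P : Subgroup G) : Set G) → (P : Subgroup G) ⊓ (MulAut.conj g • (P : Subgroup G)) = ⊥) (χ : G → ℂ) (hχ : Cfsg.IsCharacter G χ) (hfaith : ∀ g : G, χ g = χ 1 → g = 1) (hdeg : Cfsg.charDegree χ ^ 2 ≤ Nat.card ↥(P : Subgroup G)) : (P : Subgroup G).Normal := by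
  by_contra hPn
  by_cases hO : Cfsg.pCore p G = ⊥
  swap
  · refine hPn (Subgroup.normalizer_eq_top_iff.mp (eq_top_iff.mpr fun g _ => ?_))
    by_contra hg
    refine hO (le_bot_iff.mp (hTI g hg ▸ le_inf (Solvable.pCore_le_sylow P) ?_))
    haveI := Solvable.pCore_normal (p := p) G
    rw [← Subgroup.Normal.conj_smul_eq_self g (Cfsg.pCore p G)]
    exact Subgroup.pointwise_smul_le_pointwise_smul_iff.mpr (Solvable.pCore_le_sylow P)
  set K₀ := Cfsg.pPrimeCore p G with hK₀
  haveI hKn : K₀.Normal := Solvable.pPrimeCore_normal p G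
  obtain ⟨i, hi⟩ := IsPGroup.iff_card.mp P.2
  have hcop : (Nat.card (P : Subgroup G)).Coprime (Nat.card K₀) := by
    rw [hi]
    exact ((Solvable.pPrimeCore_card_coprime p G).pow_right i).symm
  have hPne : (P : Subgroup G) ≠ ⊥ := fun h => hPn (by rw [h]; infer_instance)
  have hnc : ¬ K₀ ≤ Subgroup.centralizer ((P : Subgroup G) : Set G) := by
    intro h
    have h1 : Nat.card (P : Subgroup G) ∣
        Nat.card (Subgroup.centralizer (K₀ : Set G)) :=
      Subgroup.card_dvd_of_le (Subgroup.le_centralizer_iff.mp h)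
    have h2 : i ≠ 0 := fun h => hPne (Subgroup.eq_bot_of_card_eq _ (by rw [hi, h, pow_zero]))
    have h3 := (card_centralizer_coprime hsolv hO).coprime_dvd_left
      ((dvd_pow_self p h2).trans (hi ▸ h1))
    exact (Fact.out : p.Prime).one_lt.ne' ((Nat.coprime_self p).mp h3)
  have hPK : (P : Subgroup G) ≤ Subgroup.normalizer (K₀ : Set G) := by
    rw [Subgroup.normalizer_eq_top]
    exact le_top
  haveI : Group.IsNilpotent (P : Subgroup G) := P.2.isNilpotent
  obtain ⟨K, hKK₀, hKnorm, hKnil, hKc⟩ : ∃ K : Subgroup G, K ≤ K₀ ∧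
      (P : Subgroup G) ≤ Subgroup.normalizer (K : Set G) ∧ Group.IsNilpotent K ∧
      ¬ K ≤ Subgroup.centralizer ((P : Subgroup G) : Set G) := by
    by_contra hno
    push Not at hno
    refine hnc ?_
    set Z := (Subgroup.centralizer ((P : Subgroup G) : Set G)).subgroupOf K₀ with hZ
    suffices hZ1 : Z.index = 1 from Subgroup.subgroupOf_eq_top.mp (Subgroup.index_eq_one.mp hZ1)
    by_contra h1
    obtain ⟨r, hr, hrZ⟩ := Nat.exists_prime_and_dvd h1
    haveI := Fact.mk hr
    obtain ⟨R, hR⟩ := Solvable.exists_invariant_sylow hPK hcop (Or.inl inferInstance) r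
    haveI : Group.IsNilpotent ((R : Subgroup K₀).map K₀.subtype) := (R.2.map _).isNilpotent
    have hle := hno _ (Subgroup.map_subtype_le _) hR inferInstance
    have hRZ : (R : Subgroup K₀) ≤ Z := fun x hx => hle (Subgroup.mem_map_of_mem _ hx)
    exact R.not_dvd_index (hrZ.trans (Subgroup.index_dvd_of_le hRZ))
  have hsemi : ∀ y ∈ (P : Subgroup G), y ≠ 1 → ∀ k ∈ K, y * k = k * y →
      ∀ z ∈ (P : Subgroup G), z * k = k * z := by
    intro y hy hy1 k hk hyk z hz
    have hkN : k ∈ Subgroup.normalizer ((P : Subgroup G) : Set G) := by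
      by_contra hkN
      refine hy1 ((Subgroup.eq_bot_iff_forall _).mp (hTI k hkN) y ⟨hy, ?_⟩)
      show y ∈ MulAut.conj k • (P : Subgroup G)
      rw [Subgroup.mem_pointwise_smul_iff_inv_smul_mem]
      have : (MulAut.conj k)⁻¹ • y = y := by
        simp [mul_assoc, hyk]
      rw [this]
      exact hy
    have h1 : z * k * z⁻¹ * k⁻¹ ∈ (P : Subgroup G) ⊓ K₀ := by
      refine ⟨?_, K₀.mul_mem (hKn.conj_mem k (hKK₀ hk) z) (K₀.inv_mem (hKK₀ hk))⟩
      rw [show z * k * z⁻¹ * k⁻¹ = z * (k * z⁻¹ * k⁻¹) by simp [mul_assoc]]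
      exact mul_mem hz ((Subgroup.mem_normalizer_iff.mp hkN _).mp (inv_mem hz))
    rw [Subgroup.inf_eq_bot_of_coprime hcop, Subgroup.mem_bot, mul_inv_eq_one] at h1
    conv_rhs => rw [← h1]
    simp [mul_assoc]
  obtain ⟨d', ρ, rfl⟩ := hχ
  have hd : ρ.character 1 = (d' : ℂ) := by rw [Representation.char_one, Module.finrank_fin_fun]
  have hd' : Cfsg.charDegree ρ.character = d' := by
    rw [Cfsg.charDegree, hd]
    simp
  have hlt := TILinear.card_lt_sq ⟨d', ρ, rfl⟩ hfaith hd K hKnorm
    (hcop.coprime_dvd_right (Subgroup.card_dvd_of_le hKK₀)) hsemi hKnil hKc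
  rw [hd'] at hdeg
  omega

end Cfsg.Agent.S4748
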