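import Cfsg.Statements.S4750
import Cfsg.Agent.Lib.Blk83.LatticeFix
import Cfsg.Agent.Lib.CharExt.HomSpace

set_option autoImplicit false
open scoped Pointwise
open Cfsg

namespace Cfsg.Agent.S4750

/-- Let P be a Sylow p-subgroup of the finite group G that meets each conjugate g P g⁻¹ with g outside N_G(P) trivially, χ a character of G with χ(1)² ≤ |P|, and H a subgroup of G containing N_G(P). Then the inner product of χ with itself over G equals the inner product over H of the restriction of χ to H. -/
theorem result {G : Type*} [Group G] [Fintype G] [DecidableEq G] (p : ℕ) [Fact p.Prime] (P : Sylow p G) (hTI : ∀ g : G, g ∉ Subgroup.normalizer ((P : Subgroup G) : Set G) → (P : Subgroup G) ⊓ (MulAut.conj g • (P : Subgroup G)) = ⊥) (χ : G → ℂ) (hχ : Cfsg.IsCharacter G χ) (hdeg : Cfsg.charDegree χ ^ 2 ≤ Nat.card ↥(P : Subgroup G)) (H : Subgroup G) [Fintype ↥H] (hH : Subgroup.normalizer ((P : Subgroup G) : Set G) ≤ H) : Cfsg.classInner χ χ = Cfsg.classInner (fun h : ↥H => χ h) (fun h : ↥H => χ h) := by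
  obtain ⟨n, ρ, rfl⟩ := hχ
  have hn : Cfsg.charDegree ρ.character = n := by
    simp [Cfsg.charDegree, Representation.char_one]
  rw [hn] at hdeg
  let ρH : Representation ℂ H (Fin n → ℂ) := ρ.comp H.subtype
  suffices key : ∀ w, w ∈ CfsgLib.CharExt.homSpace ρH ρH → w ∈ CfsgLib.CharExt.homSpace ρ ρ by
    have heq : CfsgLib.CharExt.homSpace ρ ρ = CfsgLib.CharExt.homSpace ρH ρH :=
      le_antisymm (fun w hw x => hw x) key
    rw [show (fun h : H => ρ.character h) = ρH.character from rfl,
      ← CfsgLib.CharExt.finrank_homSpace ρ ρ, ← CfsgLib.CharExt.finrank_homSpace ρH ρH, heq]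
  intro w hw
  by_cases hP1 : Nat.card (P : Subgroup G) = 1
  · have hHtop : H = ⊤ := by
      rw [eq_top_iff]
      refine le_trans ?_ hH
      rw [Subgroup.card_eq_one.mp hP1]
      intro g _
      rw [Subgroup.mem_normalizer_iff]
      intro x
      simp [Subgroup.mem_bot]
    intro g
    exact hw ⟨g, hHtop ▸ Subgroup.mem_top g⟩
  have hP1' : 1 < Nat.card (P : Subgroup G) := by
    have := Nat.card_pos (α := (P : Subgroup G))
    omega
  obtain ⟨A, hA⟩ := CfsgLib.Blk83.Lattice.exists_valuation p
  obtain ⟨m, b, hb⟩ := CfsgLib.Blk83.Lattice.exists_integral_basis A ρ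
  have hmn : m = n := by
    have h1 := Module.finrank_eq_card_basis b
    simpa using h1.symm
  have hinj : Function.Injective fun M : Matrix (Fin m) (Fin m) A => M.map A.subtype :=
    Matrix.map_injective Subtype.val_injective
  let σ : G →* Matrix (Fin m) (Fin m) A :=
    { toFun := fun g i j => ⟨LinearMap.toMatrix b b (ρ g) i j, hb g i j⟩
      map_one' := hinj (by
        show LinearMap.toMatrix b b (ρ 1) = (1 : Matrix (Fin m) (Fin m) A).map A.subtype
        rw [map_one, LinearMap.toMatrix_one, Matrix.map_one _ (map_zero _) (map_one _)])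
      map_mul' := fun g h => hinj (by
        refine Eq.trans ?_ (Matrix.map_mul (f := A.subtype)).symm
        show LinearMap.toMatrix b b (ρ (g * h)) =
          LinearMap.toMatrix b b (ρ g) * LinearMap.toMatrix b b (ρ h)
        rw [map_mul, LinearMap.toMatrix_mul]) }
  have hσ : ∀ g, (σ g).map A.subtype = LinearMap.toMatrix b b (ρ g) := fun g => rfl
  have hkey := CfsgLib.Blk83.Lattice.commute_of_commute P
    (fun g hg => by
      have h1 := hTI g hg
      rwa [Subgroup.pointwise_smul_def] at h1)
    H hH hP1' A hA (by rw [hmn, ← sq]; exact hdeg) σ (LinearMap.toMatrix b b w) fun h hh => by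
      rw [hσ, ← LinearMap.toMatrix_mul, ← LinearMap.toMatrix_mul]
      exact congrArg _ (hw ⟨h, hh⟩).symm
  intro g
  have h1 := hkey g
  rw [hσ, ← LinearMap.toMatrix_mul, ← LinearMap.toMatrix_mul] at h1
  exact ((LinearMap.toMatrix b b).injective h1).symm

end Cfsg.Agent.S4750
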