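import Cfsg.Statements.S4751
import Cfsg.Agent.Lib.Char.UnitPSingularSym

set_option autoImplicit false
open Cfsg

namespace Cfsg.Agent.S4751

/-- Let χ be a faithful, non-linear irreducible character of the finite group G (χ g = χ 1 only for g = 1, χ 1 ≠ 1) whose value at every element of order divisible by p is a root of unity, and suppose P = O_p(G) ≠ 1. Then either P is an elementary abelian Sylow p-subgroup of G, C_G(P) is the internal direct product of P and Z(G), G acts transitively by conjugation on the non-principal linear characters of P, and χ 1 = |P| − 1; or p = 2 and G is the internal direct product of a subgroup isomorphic to the symmetric group S₄ and the centre Z(G), which has odd order. -/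
theorem result {G : Type*} [Group G] [Finite G] (p : ℕ) [Fact p.Prime] (χ : Cfsg.IrrCharacter G) (hfaith : ∀ g : G, (χ : G → ℂ) g = (χ : G → ℂ) 1 → g = 1) (hnl : (χ : G → ℂ) 1 ≠ 1) (hroot : ∀ g : G, p ∣ orderOf g → ∃ n : ℕ, 0 < n ∧ ((χ : G → ℂ) g) ^ n = 1) (hP : Cfsg.pCore p G ≠ ⊥) : ((Nat.card ↥(Cfsg.pCore p G)).factorization p = (Nat.card G).factorization p ∧ Cfsg.IsElementaryAbelian p (Cfsg.pCore p G) ∧ Subgroup.centralizer ((Cfsg.pCore p G : Subgroup G) : Set G) = Cfsg.pCore p G ⊔ Subgroup.center G ∧ Cfsg.pCore p G ⊓ Subgroup.center G = ⊥ ∧ (∀ lam mu : ↥(Cfsg.pCore p G) → ℂ, Cfsg.IsCharacter ↥(Cfsg.pCore p G) lam → lam 1 = 1 → lam ≠ (fun _ => (1 : ℂ)) → Cfsg.IsCharacter ↥(Cfsg.pCore p G) mu → mu 1 = 1 → mu ≠ (fun _ => (1 : ℂ)) → ∃ g : G, ∀ (x : G) (hx : x ∈ Cfsg.pCore p G) (hgx : g * x * g⁻¹ ∈ Cfsg.pCore p G), mu ⟨x, hx⟩ = lam ⟨g * x * g⁻¹, hgx⟩) ∧ (χ : G → ℂ) 1 = (Nat.card ↥(Cfsg.pCore p G) : ℂ) - 1) ∨ (p = 2 ∧ Odd (Nat.card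 ↥(Subgroup.center G)) ∧ ∃ H : Subgroup G, Nonempty (↥H ≃* Equiv.Perm (Fin 4)) ∧ H ⊓ Subgroup.center G = ⊥ ∧ H ⊔ Subgroup.center G = ⊤) := by
  classical
  have := Fintype.ofFinite G
  set P := Cfsg.pCore p G with hPdef
  have hPn : P.Normal := CfsgLib.CharP.pCore_normal'
  have hPp : IsPGroup p P := CfsgLib.CharP.pCore_isPGroup'
  have := Fintype.ofFinite P
  have hmax : ∀ N : Subgroup G, N.Normal → IsPGroup p N → N ≤ P :=
    fun N hN hNp => CfsgLib.CharP.le_pCore' hN hNp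
  have hS : CfsgLib.UnitPSingular.Setup p (χ : G → ℂ) := ⟨Fact.out, χ.2, hfaith, hnl, fun g hg => by
    obtain ⟨n, hn, h⟩ := hroot g hg
    exact Complex.norm_eq_one_of_pow_eq_one h hn.ne'⟩
  by_cases hdvd : p ∣ P.index
  · exact Or.inr (CfsgLib.UnitPSingular.symmetric hS P hPp hP hmax hdvd)
  refine Or.inl ⟨?_, CfsgLib.UnitPSingular.elementary hS P hPp hP,
    CfsgLib.UnitPSingular.centralizer_eq hS P hPp hP hmax,
    (CfsgLib.UnitPSingular.center_coprime hS P hPp hP hmax).1, ?_, ?_⟩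
  · rw [← P.card_mul_index, Nat.factorization_mul Nat.card_pos.ne'
      Subgroup.index_ne_zero_of_finite, Finsupp.add_apply,
      Nat.factorization_eq_zero_of_not_dvd hdvd, add_zero]
  · obtain ⟨θ, -, -, -, -, -, hall, -, -⟩ := CfsgLib.UnitPSingular.restrict_core hS P hPp hP
    intro lam mu hlam hl1 hln hmu hm1 hmn
    have hirr : ∀ η : ↥P → ℂ, Cfsg.IsCharacter ↥P η → η 1 = 1 → Cfsg.IsIrrCharacter ↥P η := by
      intro η hη h1
      obtain ⟨f, hf⟩ := CfsgLib.Char.IsCharacter.exists_linear hη h1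
      rw [show η = fun x => (f x : ℂ) from funext hf]
      exact CfsgLib.Char.isIrrCharacter_linear f
    obtain ⟨g, hg⟩ := (hall lam (hirr lam hlam hl1)).resolve_left hln
    obtain ⟨g', hg'⟩ := (hall mu (hirr mu hmu hm1)).resolve_left hmn
    refine ⟨g⁻¹ * g', fun x hx hgx => ?_⟩
    have h : CfsgLib.CharTwist.conjFun P lam (g⁻¹ * g') = mu := by
      rw [← hg, ← CfsgLib.CharTwist.conjFun_mul, mul_inv_cancel_left, hg']
    exact (congrFun h ⟨x, hx⟩).symm
  · obtain ⟨θ, -, -, -, ht, hD, -, -, -⟩ := CfsgLib.UnitPSingular.restrict_core hS P hPp hP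
    rw [hD, eq_sub_iff_add_eq]
    exact_mod_cast ht

end Cfsg.Agent.S4751
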