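import Cfsg.Statements.S4755
import Cfsg.Agent.S4754
import Cfsg.Agent.Lib.Blk83.Separation

set_option autoImplicit false
open Cfsg
open scoped commutatorElement

namespace Cfsg.Agent.S4755

/-- Let x, y be non-identity elements of the finite group G such that χ(x' y') = χ(x') χ(y') for all conjugates x' of x, y' of y and every irreducible character χ. Then the conjugacy class of x y is the set of all products of a conjugate of x with a conjugate of y; every irreducible character of degree greater than 1 vanishes at x y; and the conjugacy class of x y is the coset of the commutator subgroup containing x y. -/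
theorem result {G : Type*} [Group G] [Finite G] (x y : G) (hx : x ≠ 1) (hy : y ≠ 1) (h : ∀ (a b : G) (χ : Cfsg.IrrCharacter G), (χ : G → ℂ) (a * x * a⁻¹ * (b * y * b⁻¹)) = (χ : G → ℂ) (a * x * a⁻¹) * (χ : G → ℂ) (b * y * b⁻¹)) : (∀ z : G, IsConj (x * y) z ↔ ∃ a b : G, z = a * x * a⁻¹ * (b * y * b⁻¹)) ∧ (∀ χ : Cfsg.IrrCharacter G, (χ : G → ℂ) 1 ≠ 1 → (χ : G → ℂ) (x * y) = 0) ∧ (∀ z : G, IsConj (x * y) z ↔ (x * y)⁻¹ * z ∈ commutator G) := by
  classical
  have := Fintype.ofFinite G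
  have hcl : ∀ (c g : G) (χ : Cfsg.IrrCharacter G), (χ : G → ℂ) (c * g * c⁻¹) = (χ : G → ℂ) g :=
    fun c g χ => (CfsgLib.Blk83.char_eq_of_isConj χ (isConj_iff.mpr ⟨c, rfl⟩)).symm
  have hval : ∀ (a b : G) (χ : Cfsg.IrrCharacter G),
      (χ : G → ℂ) (a * x * a⁻¹ * (b * y * b⁻¹)) = (χ : G → ℂ) x * (χ : G → ℂ) y := fun a b χ => by
    rw [h a b χ, hcl, hcl]
  have hzero : ∀ χ : Cfsg.IrrCharacter G, (χ : G → ℂ) 1 ≠ 1 → (χ : G → ℂ) x * (χ : G → ℂ) y = 0 := by
    intro χ hχ
    have hsum := CfsgLib.Blk83.sum_conj_mul χ x y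
    have hs : ∀ c : G, (χ : G → ℂ) (c * x * c⁻¹ * y) = (χ : G → ℂ) x * (χ : G → ℂ) y := fun c => by
      simpa using hval c 1 χ
    simp only [hs, Finset.sum_const, Finset.card_univ, nsmul_eq_mul] at hsum
    by_contra hne
    apply hχ
    have hG : (Fintype.card G : ℂ) ≠ 0 := by exact_mod_cast Fintype.card_ne_zero
    apply mul_left_cancel₀ (mul_ne_zero hG hne)
    rw [mul_one]
    exact hsum
  have hxy : ∀ χ : Cfsg.IrrCharacter G, (χ : G → ℂ) (x * y) = (χ : G → ℂ) x * (χ : G → ℂ) y := fun χ => by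
    simpa using hval 1 1 χ
  have hclass : ∀ z : G, IsConj (x * y) z ↔ ∃ a b : G, z = a * x * a⁻¹ * (b * y * b⁻¹) := by
    refine (Cfsg.Agent.S4754.result x y).mpr fun a b χ => ?_
    by_cases hχ : (χ : G → ℂ) 1 = 1
    · rw [hχ, one_mul, hval]
    · rw [hval, hzero χ hχ, mul_zero]
  refine ⟨hclass, fun χ hχ => by rw [hxy, hzero χ hχ], fun z => ⟨fun hz => ?_, fun hz => ?_⟩⟩
  · obtain ⟨c, rfl⟩ := isConj_iff.mp hz
    have : (x * y)⁻¹ * (c * (x * y) * c⁻¹) = ⁅(x * y)⁻¹, c⁆ := by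
      simp only [commutatorElement_def]; group
    rw [this]
    exact Subgroup.commutator_mem_commutator (Subgroup.mem_top _) (Subgroup.mem_top _)
  · refine CfsgLib.Blk83.isConj_of_sum_eq ?_
    intro χ
    by_cases hχ : (χ : G → ℂ) 1 = 1
    · left
      obtain ⟨l, hl⟩ := CfsgLib.Blk83.linear_hom χ hχ
      have hker : ((x * y)⁻¹ * z) ∈ l.ker := Abelianization.commutator_subset_ker l hz
      rw [MonoidHom.mem_ker, map_mul, map_inv, inv_mul_eq_one] at hker
      rw [← hl, ← hl, hker]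
    · right
      rw [hxy, hzero χ hχ]

end Cfsg.Agent.S4755
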