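import Cfsg.Statements.S4756
import Cfsg.Agent.Lib.CharTools.Basic
import Cfsg.Agent.Lib.CharExt.FeitDegrees
import Cfsg.Agent.Lib.Blk83.PairCount
import Cfsg.Agent.Lib.Solvable.CoprimeAction
import Cfsg.Agent.Lib.Solvable.CoprimeGeneration

set_option autoImplicit false
set_option maxHeartbeats 400000
open Cfsg

namespace Cfsg.Agent.S4756

open CfsgLib CfsgLib.Char
open scoped ComplexConjugate commutatorElement

variable {G : Type*} [Group G] [Finite G]

/-- A pair of nonidentity elements of prime power orders for two different primes. -/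
def Mixed (x y : G) : Prop :=
  x ≠ 1 ∧ y ≠ 1 ∧ ∃ p q a b : ℕ, p.Prime ∧ q.Prime ∧ p ≠ q ∧ orderOf x = p ^ a ∧ orderOf y = q ^ b

theorem linear_of_trivial (χ : IrrCharacter G)
    (hχ : ∀ n ∈ commutator G, (χ : G → ℂ) n = (χ : G → ℂ) 1) :
    ∃ f : G →* ℂˣ, ∀ g, (χ : G → ℂ) g = (f g : ℂ) := by
  cases nonempty_fintype G
  refine IsCharacter.exists_linear (IsIrrCharacter.isCharacter χ.2) ?_
  have h := FeitDeg.degree_eq_one_of_trivial hχ
  rw [← IsCharacter.degree_cast (IsIrrCharacter.isCharacter χ.2), h, Nat.cast_one]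

/-- The centralizer has order `|G : G'|` exactly when the nonlinear characters vanish. -/
theorem card_centralizer_eq_iff (g : G) :
    Nat.card (Subgroup.centralizer ({g} : Set G)) = (commutator G).index ↔
      ∀ χ : IrrCharacter G, ¬ (∀ n ∈ commutator G, (χ : G → ℂ) n = (χ : G → ℂ) 1) →
        (χ : G → ℂ) g = 0 := by
  classical
  cases nonempty_fintype G
  set p := fun χ : IrrCharacter G => ∀ n ∈ commutator G, (χ : G → ℂ) n = (χ : G → ℂ) 1 with hp
  have h1 := sum_mul_conj g g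
  rw [if_pos (IsConj.refl g), ← Fintype.sum_subtype_add_sum_subtype p] at h1
  have h2 : ∑ χ : {χ // p χ}, (χ.1 : G → ℂ) g * conj ((χ.1 : G → ℂ) g) =
      ((commutator G).index : ℂ) := by
    rw [CharTools.sum_quotient_mul_conj (commutator G) g g, if_pos (IsConj.refl _)]
    congr 1
    have : Subgroup.centralizer ({(g : G ⧸ commutator G)} : Set (G ⧸ commutator G)) = ⊤ := by
      refine eq_top_iff.mpr fun z _ => ?_
      rw [Subgroup.mem_centralizer_singleton_iff]
      exact mul_comm (G := Abelianization G) _ _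
    rw [this, Subgroup.card_top, Subgroup.index_eq_card]
  rw [h2] at h1
  have h3 : ∀ χ : IrrCharacter G, (χ : G → ℂ) g * conj ((χ : G → ℂ) g) =
      ((Complex.normSq ((χ : G → ℂ) g) : ℝ) : ℂ) := fun χ => Complex.mul_conj _
  simp only [h3] at h1
  constructor
  · intro he χ hχ
    rw [he, add_eq_left] at h1
    have h4 : ∑ χ : {χ // ¬ p χ}, Complex.normSq ((χ.1 : G → ℂ) g) = 0 := by exact_mod_cast h1
    exact Complex.normSq_eq_zero.mp
      ((Finset.sum_eq_zero_iff_of_nonneg fun i _ => Complex.normSq_nonneg _).mp h4 ⟨χ, hχ⟩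
        (Finset.mem_univ _))
  · intro h
    rw [Finset.sum_eq_zero (fun χ _ => by rw [h χ.1 χ.2]; simp), add_zero] at h1
    exact_mod_cast h1.symm

/-- The centralizer of a product of a mixed pair. -/
theorem card_centralizer_mul
    (h : ∀ (x y : G) (χ : IrrCharacter G), x ≠ 1 → y ≠ 1 →
      (∃ p q a b : ℕ, p.Prime ∧ q.Prime ∧ p ≠ q ∧ orderOf x = p ^ a ∧ orderOf y = q ^ b) →
      (χ : G → ℂ) (x * y) = (χ : G → ℂ) x * (χ : G → ℂ) y)
    {x y : G} (hxy : Mixed x y) :
    Nat.card (Subgroup.centralizer ({x * y} : Set G)) = (commutator G).index := by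
  obtain ⟨hx, hy, p, q, a, b, hp, hq, hpq, ha, hb⟩ := hxy
  refine (card_centralizer_eq_iff _).mpr fun χ hχ => ?_
  cases nonempty_fintype G
  have hd : (χ : G → ℂ) 1 ≠ 1 := fun h1 => hχ fun n hn => by
    obtain ⟨f, hf⟩ := IsCharacter.exists_linear (IsIrrCharacter.isCharacter χ.2) h1
    rw [h1, hf, MonoidHom.mem_ker.mp (Abelianization.commutator_subset_ker f hn), Units.val_one]
  have hsum := Blk83.sum_conj_mul χ x y
  have hconst : ∀ c : G, (χ : G → ℂ) (c * x * c⁻¹ * y) = (χ : G → ℂ) x * (χ : G → ℂ) y := by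
    intro c
    rw [h _ y χ (by simpa using hx) hy ⟨p, q, a, b, hp, hq, hpq, by
      rw [show c * x * c⁻¹ = MulAut.conj c x from rfl, MulEquiv.orderOf_eq, ha], hb⟩,
      IsIrrCharacter.isClassFunction χ.2 x c]
  simp only [hconst, Finset.sum_const, Finset.card_univ, nsmul_eq_mul] at hsum
  have h0 : ((Fintype.card G : ℂ) * ((χ : G → ℂ) x * (χ : G → ℂ) y)) * ((χ : G → ℂ) 1 - 1) = 0 := by
    linear_combination hsum
  rw [h x y χ hx hy ⟨p, q, a, b, hp, hq, hpq, ha, hb⟩]
  rcases mul_eq_zero.mp h0 with h1 | h1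
  · exact (mul_eq_zero.mp h1).resolve_left (Nat.cast_ne_zero.mpr Fintype.card_ne_zero)
  · exact absurd (sub_eq_zero.mp h1) hd

theorem dvd_of_orderOf {x : G} {p a : ℕ} (hx : x ≠ 1) (ha : orderOf x = p ^ a) :
    p ∣ Nat.card G := by
  refine (dvd_pow_self p ?_).trans (ha ▸ orderOf_dvd_natCard x)
  intro e
  exact hx (orderOf_eq_one_iff.mp (by rw [ha, e, pow_zero]))

theorem ne_one_of_prime {x : G} {p : ℕ} (hp : p.Prime) (hx : orderOf x = p) : x ≠ 1 := fun e =>
  hp.one_lt.ne' (by rw [← hx, e, orderOf_one])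

theorem mem_sup' {A B : Subgroup G} (h : A ≤ Subgroup.normalizer (B : Set G)) {z : G} :
    z ∈ A ⊔ B ↔ ∃ a ∈ A, ∃ b ∈ B, a * b = z := by
  rw [← SetLike.mem_coe, Subgroup.coe_mul_of_left_le_normalizer_right A B h, Set.mem_mul]
  simp only [SetLike.mem_coe]

theorem card_sup_le_mul (A B : Subgroup G) (h : A ≤ Subgroup.normalizer (B : Set G)) :
    Nat.card (A ⊔ B : Subgroup G) ≤ Nat.card A * Nat.card B := by
  rw [← Nat.card_prod]
  refine Nat.card_le_card_of_surjective (fun z : A × B => (⟨(z.1 : G) * z.2,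
    mul_mem (Subgroup.mem_sup_left z.1.2) (Subgroup.mem_sup_right z.2.2)⟩ : (A ⊔ B : Subgroup G))) ?_
  rintro ⟨z, hz⟩
  obtain ⟨a, ha, b, hb, rfl⟩ := (mem_sup' h).mp hz
  exact ⟨(⟨a, ha⟩, ⟨b, hb⟩), rfl⟩

theorem card_sup_eq_mul (A B : Subgroup G) (h : A ≤ Subgroup.normalizer (B : Set G))
    (hdis : A ⊓ B = ⊥) : Nat.card (A ⊔ B : Subgroup G) = Nat.card A * Nat.card B := by
  rw [← Nat.card_prod]
  refine (Nat.card_eq_of_bijective (fun z : A × B => (⟨(z.1 : G) * z.2,
    mul_mem (Subgroup.mem_sup_left z.1.2) (Subgroup.mem_sup_right z.2.2)⟩ : (A ⊔ B : Subgroup G)))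
    ⟨fun z w e => Subgroup.mul_injective_of_disjoint (disjoint_iff.mpr hdis) (congrArg Subtype.val e),
      ?_⟩).symm
  rintro ⟨z, hz⟩
  obtain ⟨a, ha, b, hb, rfl⟩ := (mem_sup' h).mp hz
  exact ⟨(⟨a, ha⟩, ⟨b, hb⟩), rfl⟩

/-- Structure from multiplicativity. -/
theorem structure_of_mult
    (h : ∀ (x y : G) (χ : IrrCharacter G), x ≠ 1 → y ≠ 1 →
      (∃ p q a b : ℕ, p.Prime ∧ q.Prime ∧ p ≠ q ∧ orderOf x = p ^ a ∧ orderOf y = q ^ b) →
      (χ : G → ℂ) (x * y) = (χ : G → ℂ) x * (χ : G → ℂ) y) :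
    (∃ p : ℕ, p.Prime ∧ IsPGroup p G) ∨ IsMulCommutative G ∨
      ∃ (p : ℕ) (_ : Fact p.Prime) (P : Sylow p G) (A : Subgroup G), (P : Subgroup G).Normal ∧
        IsCyclic ↥A ∧ A ≠ ⊥ ∧ (Nat.card ↥A).Coprime p ∧ A ⊔ (P : Subgroup G) = ⊤ ∧
        IsMulCommutative ↥((P : Subgroup G) ⊓ Subgroup.centralizer (A : Set G)) ∧
        (⁅A, (P : Subgroup G)⁆).Normal ∧
        ((P : Subgroup G) ⊓ Subgroup.centralizer (A : Set G)) ⊔ ⁅A, (P : Subgroup G)⁆ =
          (P : Subgroup G) ∧
        ((P : Subgroup G) ⊓ Subgroup.centralizer (A : Set G)) ⊓ ⁅A, (P : Subgroup G)⁆ = ⊥ ∧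
        ∀ a ∈ A, a ≠ 1 → ∀ d ∈ ⁅A, (P : Subgroup G)⁆, a * d = d * a → d = 1 := by
  classical
  have comm_of_derived : commutator G = ⊥ → IsMulCommutative G := fun e => ⟨⟨fun a b => by
    have h1 : ⁅a, b⁆ ∈ commutator G := by
      rw [commutator_def]
      exact Subgroup.commutator_mem_commutator (Subgroup.mem_top a) (Subgroup.mem_top b)
    rw [e, Subgroup.mem_bot, commutatorElement_eq_one_iff_mul_comm] at h1
    exact h1⟩⟩
  by_cases hab : commutator G = ⊥
  · exact Or.inr (Or.inl (comm_of_derived hab))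
  by_cases hpg : ∃ p : ℕ, p.Prime ∧ IsPGroup p G
  · exact Or.inl hpg
  refine Or.inr (Or.inr ?_)
  -- the derived group has prime power order
  have hone : ∀ p q : ℕ, p.Prime → q.Prime → p ∣ Nat.card (commutator G) →
      q ∣ Nat.card (commutator G) → p = q := by
    intro p q hp hq hdp hdq
    by_contra hpq
    have := Fact.mk hp
    have := Fact.mk hq
    obtain ⟨⟨x, hxm⟩, hx⟩ := exists_prime_orderOf_dvd_card' p hdp
    obtain ⟨⟨y, hym⟩, hy⟩ := exists_prime_orderOf_dvd_card' q hdq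
    rw [Subgroup.orderOf_mk] at hx hy
    have hc := card_centralizer_mul h (x := x) (y := y) ⟨ne_one_of_prime hp hx, ne_one_of_prime hq hy,
      p, q, 1, 1, hp, hq, hpq, by rw [hx, pow_one], by rw [hy, pow_one]⟩
    have hcl : Nat.card {z : G // IsConj (x * y) z} = Nat.card (commutator G) := by
      have h1 := card_isConj_mul_card_centralizer (x * y)
      rw [hc, ← (commutator G).card_mul_index] at h1
      exact Nat.eq_of_mul_eq_mul_right (Nat.pos_of_ne_zero Subgroup.index_ne_zero_of_finite) h1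
    have hmem : x * y ∈ commutator G := mul_mem hxm hym
    let ι : {z : G // IsConj (x * y) z} → commutator G := fun z => ⟨z.1, by
      obtain ⟨u, hu⟩ := isConj_iff.mp z.2
      rw [← hu]
      exact (inferInstance : (commutator G).Normal).conj_mem _ hmem u⟩
    obtain ⟨z, hz⟩ := (((Nat.bijective_iff_injective_and_card ι).mpr
      ⟨fun u v e => Subtype.ext (Subtype.mk.inj e), hcl⟩).2 1)
    have hz1 : z.1 = 1 := congrArg Subtype.val hz
    have hxy1 : x * y = 1 := isConj_one_left.mp (hz1 ▸ z.2)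
    rw [eq_inv_of_mul_eq_one_left hxy1, orderOf_inv, hy] at hx
    exact hpq hx.symm
  obtain ⟨p, hp, hpd⟩ := Nat.exists_prime_and_dvd
    (n := Nat.card (commutator G)) (fun e => hab (Subgroup.card_eq_one.mp e))
  have hfp := Fact.mk hp
  have hGp : IsPGroup p (commutator G) := IsPGroup.of_card
    (Nat.eq_prime_pow_of_unique_prime_dvd Nat.card_pos.ne' fun {d} hd hdd => hone d p hd hp hdd hpd)
  obtain ⟨P⟩ : Nonempty (Sylow p G) := inferInstance
  have hPn : (P : Subgroup G).Normal := by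
    obtain ⟨Q, hQ⟩ := hGp.exists_le_sylow
    obtain ⟨g, hg⟩ := MulAction.exists_smul_eq G Q P
    refine Subgroup.Normal.of_commutator_le _ ?_
    rw [← hg, Sylow.coe_subgroup_smul]
    intro x hx
    exact ⟨g⁻¹ * x * g, hQ (by simpa using (inferInstance : (commutator G).Normal).conj_mem x hx g⁻¹),
      by simp [mul_assoc]⟩
  have hcopP : Nat.Coprime (Nat.card (P : Subgroup G)) (P : Subgroup G).index := P.card_coprime_index
  obtain ⟨A, hA⟩ := Subgroup.exists_right_complement'_of_coprime hcopP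
  have hAP : A ⊔ (P : Subgroup G) = ⊤ := by rw [sup_comm]; exact hA.sup_eq_top
  have hdisAP : A ⊓ (P : Subgroup G) = ⊥ := by rw [inf_comm]; exact hA.disjoint.eq_bot
  have hAidx : Nat.card A = (P : Subgroup G).index := hA.symm.index_eq_card.symm
  have hAp : ¬ p ∣ Nat.card A := by rw [hAidx]; exact P.not_dvd_index
  have hAcop : (Nat.card A).Coprime p := (hp.coprime_iff_not_dvd.mpr hAp).symm
  have hAne : A ≠ ⊥ := by
    intro e
    rw [e, bot_sup_eq] at hAP
    exact hpg ⟨p, hp, IsPGroup.of_equiv (hAP ▸ P.isPGroup') Subgroup.topEquiv⟩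
  have hGP : commutator G ≤ (P : Subgroup G) := by
    obtain ⟨Q, hQ⟩ := hGp.exists_le_sylow
    have := Sylow.unique_of_normal P hPn
    rwa [Subsingleton.elim Q P] at hQ
  have hAN : A ≤ Subgroup.normalizer ((P : Subgroup G) : Set G) := by
    rw [Subgroup.normalizer_eq_top_iff.mpr hPn]; exact le_top
  have hcop : (Nat.card A).Coprime (Nat.card (P : Subgroup G)) := by rw [hAidx]; exact hcopP.symm
  have hAab : ∀ a ∈ A, ∀ b ∈ A, a * b = b * a := fun a ha b hb => by
    rw [← commutatorElement_eq_one_iff_mul_comm, ← Subgroup.mem_bot, ← hdisAP]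
    refine Subgroup.mem_inf.mpr ⟨?_, hGP ?_⟩
    · rw [commutatorElement_def]
      exact mul_mem (mul_mem (mul_mem ha hb) (inv_mem ha)) (inv_mem hb)
    · rw [commutator_def]
      exact Subgroup.commutator_mem_commutator (Subgroup.mem_top a) (Subgroup.mem_top b)
  have : IsMulCommutative A := ⟨⟨fun a b => Subtype.ext (hAab a a.2 b b.2)⟩⟩
  have hsolv : Group.IsSolvable A ∨ Group.IsSolvable (P : Subgroup G) :=
    Or.inr (have := P.isPGroup'.isNilpotent; inferInstance)
  set C := (P : Subgroup G) ⊓ Subgroup.centralizer (A : Set G) with hCdef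
  set D := ⁅A, (P : Subgroup G)⁆ with hDdef
  have hCP : C ≤ (P : Subgroup G) := inf_le_left
  have hDP : D ≤ (P : Subgroup G) := by
    rw [hDdef, Subgroup.commutator_comm]; exact Solvable.commutator_le_of_normalizes hAN
  have hDG : D ≤ commutator G := by
    rw [commutator_def]; exact Subgroup.commutator_mono le_top le_top
  have hDn : D.Normal := by
    rw [← Subgroup.normalizer_eq_top_iff, eq_top_iff, ← hAP, sup_le_iff]
    exact ⟨Solvable.le_normalizer_commutator_left _ _, Solvable.le_normalizer_commutator_right _ _⟩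
  have hCD : C ⊔ D = (P : Subgroup G) := by
    rw [sup_comm, hDdef, Subgroup.commutator_comm]
    exact Solvable.commutator_sup_centralizer hAN hcop hsolv
  have hAC : A ≤ Subgroup.normalizer (C : Set G) := fun a ha => Subgroup.mem_normalizer_fintype fun c hc => by
    have e : a * c * a⁻¹ = c := by rw [mul_inv_eq_iff_eq_mul]; exact hc.2 a ha
    rw [e]; exact hc
  have hACdis : A ⊓ C = ⊥ := eq_bot_iff.mpr fun x hx => hdisAP ▸ ⟨hx.1, hCP hx.2⟩
  have hSD : (A ⊔ C) ⊔ D = ⊤ := by rw [sup_assoc, hCD, hAP]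
  have hSn : A ⊔ C ≤ Subgroup.normalizer (D : Set G) := by
    rw [Subgroup.normalizer_eq_top_iff.mpr hDn]; exact le_top
  have hDidx : D.index ≤ Nat.card A * Nat.card C := by
    have h1 := card_sup_le_mul (A ⊔ C) D hSn
    rw [hSD, Subgroup.card_top, card_sup_eq_mul A C hAC hACdis] at h1
    rw [← D.index_mul_card] at h1
    exact Nat.le_of_mul_le_mul_right h1 Nat.card_pos
  have hidxle : (commutator G).index ≤ D.index :=
    Nat.le_of_dvd (Nat.pos_of_ne_zero Subgroup.index_ne_zero_of_finite) (Subgroup.index_dvd_of_le hDG)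
  have hPpow : ∀ x ∈ (P : Subgroup G), ∃ k, orderOf x = p ^ k := fun x hx => by
    obtain ⟨k, hk⟩ := IsPGroup.iff_orderOf.mp P.isPGroup' ⟨x, hx⟩
    exact ⟨k, by rwa [Subgroup.orderOf_mk] at hk⟩
  have hpair : ∀ x ∈ (P : Subgroup G), x ≠ 1 → ∀ a ∈ A, ∀ q : ℕ, q.Prime → orderOf a = q →
      Nat.card (Subgroup.centralizer ({x * a} : Set G)) = (commutator G).index := by
    intro x hx hx1 a ha q hq hoa
    obtain ⟨k, hk⟩ := hPpow x hx
    refine card_centralizer_mul h ⟨hx1, ne_one_of_prime hq hoa, p, q, k, 1, hp, hq, ?_, hk, by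
      rw [hoa, pow_one]⟩
    rintro rfl
    exact hAp (hoa ▸ Subgroup.orderOf_dvd_natCard A ha)
  obtain ⟨q, hq, hqd⟩ := Nat.exists_prime_and_dvd (n := Nat.card A)
    (fun e => hAne (Subgroup.card_eq_one.mp e))
  have hfq := Fact.mk hq
  obtain ⟨⟨a₀, ha₀⟩, hoa₀⟩ := exists_prime_orderOf_dvd_card' q hqd
  rw [Subgroup.orderOf_mk] at hoa₀
  have ha₀1 : a₀ ≠ 1 := ne_one_of_prime hq hoa₀
  have hcent : ∀ x ∈ C, ∀ a ∈ A, (∀ c ∈ C, c * x = x * c) →
      A ⊔ C ≤ Subgroup.centralizer ({x * a} : Set G) := by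
    intro x hx a ha hxC
    refine sup_le (fun b hb => ?_) fun c hc => ?_
    · rw [Subgroup.mem_centralizer_singleton_iff, ← mul_assoc, hx.2 b hb, mul_assoc, hAab b hb a ha,
        mul_assoc]
    · rw [Subgroup.mem_centralizer_singleton_iff, ← mul_assoc, hxC c hc, mul_assoc, ← hc.2 a ha,
        mul_assoc]
  -- `C ∩ D = 1` and `C` is commutative
  have hmain : C ⊓ D = ⊥ ∧ IsMulCommutative C ∧ D.index = Nat.card A * Nat.card C ∧
      (commutator G).index = D.index := by
    by_cases hC : C = ⊥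
    · have hDeq : D = (P : Subgroup G) := by rw [← hCD, hC, bot_sup_eq]
      refine ⟨by rw [hC, bot_inf_eq], ⟨⟨fun u v => Subtype.ext ?_⟩⟩, ?_, ?_⟩
      · show (u : G) * v = v * u
        rw [Subgroup.mem_bot.mp (hC ▸ u.2 : (u : G) ∈ (⊥ : Subgroup G)),
          Subgroup.mem_bot.mp (hC ▸ v.2 : (v : G) ∈ (⊥ : Subgroup G))]
      · rw [hDeq, hC, Subgroup.card_bot, mul_one, hAidx]
      · rw [le_antisymm (hDeq ▸ hGP : commutator G ≤ D) hDG]
    · have hCp : IsPGroup p C := P.isPGroup'.to_le hCP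
      have : Nontrivial C := (Subgroup.nontrivial_iff_ne_bot C).mpr hC
      have := hCp.center_nontrivial
      obtain ⟨⟨⟨x, hx⟩, hxc⟩, hx1⟩ := exists_ne (1 : Subgroup.center C)
      have hx1' : x ≠ 1 := fun e => hx1 (Subtype.ext (Subtype.ext e))
      have hxC : ∀ c ∈ C, c * x = x * c := fun c hc =>
        congrArg Subtype.val (Subgroup.mem_center_iff.mp hxc ⟨c, hc⟩)
      have h1 := Nat.le_of_dvd Nat.card_pos (Subgroup.card_dvd_of_le (hcent x hx a₀ ha₀ hxC))
      rw [card_sup_eq_mul A C hAC hACdis, hpair x (hCP hx) hx1' a₀ ha₀ q hq hoa₀] at h1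
      have e1 : D.index = Nat.card A * Nat.card C := le_antisymm hDidx (h1.trans hidxle)
      have e2 : (commutator G).index = D.index := le_antisymm hidxle (hDidx.trans h1)
      have hGD : commutator G = D := by
        refine (Subgroup.eq_of_le_of_card_ge hDG (le_of_eq ?_)).symm
        have h2 := (commutator G).card_mul_index
        rw [← D.card_mul_index, e2] at h2
        exact Nat.eq_of_mul_eq_mul_right (Nat.pos_of_ne_zero Subgroup.index_ne_zero_of_finite) h2
      have hdis : (A ⊔ C) ⊓ D = ⊥ := by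
        have h2 : Function.Surjective (fun z : (A ⊔ C : Subgroup G) × D => (z.1 : G) * z.2) := fun g => by
          obtain ⟨u, hu, v, hv, rfl⟩ := (mem_sup' hSn).mp
            (hSD ▸ Subgroup.mem_top g)
          exact ⟨(⟨u, hu⟩, ⟨v, hv⟩), rfl⟩
        have h3 := ((Nat.bijective_iff_surjective_and_card _).mpr ⟨h2, by
          rw [Nat.card_prod, card_sup_eq_mul A C hAC hACdis, ← e1, D.index_mul_card]⟩).1
        rw [eq_bot_iff]
        intro z hz
        have h4 := @h3 (⟨z, hz.1⟩, ⟨z⁻¹, inv_mem hz.2⟩) (1, 1) (by simp)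
        exact Subgroup.mem_bot.mpr (congrArg Subtype.val (congrArg Prod.fst h4) : z = 1)
      refine ⟨eq_bot_iff.mpr fun z hz => hdis ▸ ⟨Subgroup.mem_sup_right hz.1, hz.2⟩,
        ⟨⟨fun u v => Subtype.ext ?_⟩⟩, e1, e2⟩
      show (u : G) * v = v * u
      rw [← commutatorElement_eq_one_iff_mul_comm, ← Subgroup.mem_bot, ← hdis]
      refine Subgroup.mem_inf.mpr ⟨?_, hGD ▸ ?_⟩
      · rw [commutatorElement_def]
        exact Subgroup.mem_sup_right
          (mul_mem (mul_mem (mul_mem u.2 v.2) (inv_mem u.2)) (inv_mem v.2))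
      · rw [commutator_def]
        exact Subgroup.commutator_mem_commutator (Subgroup.mem_top _) (Subgroup.mem_top _)
  obtain ⟨hCDdis, hCab, hDcard, hidx⟩ := hmain
  -- fixed points of prime order elements
  have hfix : ∀ a ∈ A, ∀ r : ℕ, r.Prime → orderOf a = r →
      (P : Subgroup G) ⊓ Subgroup.centralizer {a} ≤ C := by
    intro a ha r hr hoa x hx
    obtain ⟨hxP, hxa'⟩ := hx
    have hxa : x * a = a * x := Subgroup.mem_centralizer_singleton_iff.mp hxa'
    by_contra hxC
    by_cases hC : C = ⊥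
    · have hx1 : x ≠ 1 := fun e => hxC (e ▸ one_mem C)
      have hmem : x ∈ Subgroup.centralizer ({x * a} : Set G) := by
        rw [Subgroup.mem_centralizer_singleton_iff, mul_assoc, hxa, ← mul_assoc]
      have h1 := Subgroup.orderOf_dvd_natCard _ hmem
      rw [hpair x hxP hx1 a ha r hr hoa, hidx, hDcard, hC, Subgroup.card_bot, mul_one] at h1
      obtain ⟨k, hk⟩ := hPpow x hxP
      rw [hk] at h1
      refine hAp ((dvd_pow_self p ?_).trans h1)
      intro e
      exact hx1 (orderOf_eq_one_iff.mp (by rw [hk, e, pow_zero]))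
    · set R := (P : Subgroup G) ⊓ Subgroup.centralizer {a}
      have hCR : C ≤ R := fun c hc => ⟨hCP hc,
        Subgroup.mem_centralizer_singleton_iff.mpr (hc.2 a ha).symm⟩
      have hlt : C.subgroupOf R < ⊤ := by
        refine lt_top_iff_ne_top.mpr fun e => hxC ?_
        exact Subgroup.subgroupOf_eq_top.mp e ⟨hxP, hxa'⟩
      have hRnil : Group.IsNilpotent R := (P.isPGroup'.to_le inf_le_left).isNilpotent
      obtain ⟨r', hr'N, hr'C⟩ := SetLike.exists_of_lt
        (Group.normalizerCondition_of_isNilpotent (C.subgroupOf R) hlt)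
      obtain ⟨rr, hrr⟩ := r'
      obtain ⟨c, hc, d, hd, e⟩ := (mem_sup'
        (fun _ _ => by rw [Subgroup.normalizer_eq_top_iff.mpr hDn]; exact Subgroup.mem_top _)).mp
          (hCD ▸ hrr.1 : rr ∈ C ⊔ D)
      have hdR : d ∈ R := by
        have : d = c⁻¹ * rr := by rw [← e, inv_mul_cancel_left]
        rw [this]; exact mul_mem (inv_mem (hCR hc)) hrr
      have hdC : ∀ z ∈ C, z * d = d * z := by
        intro z hz
        have hmem : d * z * d⁻¹ ∈ C := by
          have h1 := (Subgroup.mem_normalizer_iff.mp hr'N ⟨z, hCR hz⟩).mp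
            (Subgroup.mem_subgroupOf.mpr hz)
          rw [Subgroup.mem_subgroupOf] at h1
          have h2 : d * z * d⁻¹ = c⁻¹ * (rr * z * rr⁻¹) * c := by rw [← e]; group
          rw [h2]
          exact mul_mem (mul_mem (inv_mem hc) h1) hc
        have h3 : d * z * d⁻¹ * z⁻¹ ∈ C ⊓ D := by
          refine Subgroup.mem_inf.mpr ⟨mul_mem hmem (inv_mem hz), ?_⟩
          rw [show d * z * d⁻¹ * z⁻¹ = d * (z * d⁻¹ * z⁻¹) by group]
          exact mul_mem hd (hDn.conj_mem _ (inv_mem hd) z)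
        rw [hCDdis, Subgroup.mem_bot, mul_inv_eq_one, mul_inv_eq_iff_eq_mul] at h3
        exact h3.symm
      obtain ⟨z, hz, hz1⟩ := (Subgroup.bot_or_exists_ne_one C).resolve_left hC
      have hda : d * a = a * d := Subgroup.mem_centralizer_singleton_iff.mp hdR.2
      have hmem : d ∈ Subgroup.centralizer ({z * a} : Set G) := by
        rw [Subgroup.mem_centralizer_singleton_iff, ← mul_assoc, ← hdC z hz, mul_assoc, hda,
          mul_assoc]
      have hcz : A ⊔ C = Subgroup.centralizer ({z * a} : Set G) := by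
        refine Subgroup.eq_of_le_of_card_ge (hcent z hz a ha fun u hu =>
          congrArg Subtype.val (hCab.is_comm.comm (⟨u, hu⟩ : C) ⟨z, hz⟩)) (le_of_eq ?_)
        rw [hpair z (hCP hz) hz1 a ha r hr hoa, card_sup_eq_mul A C hAC hACdis, hidx, hDcard]
      obtain ⟨b, hb, c', hc', e'⟩ := (mem_sup' hAC).mp (hcz.symm ▸ hmem)
      have hb1 : b = 1 := by
        refine Subgroup.mem_bot.mp (hdisAP ▸ Subgroup.mem_inf.mpr ⟨hb, ?_⟩)
        have : b = d * c'⁻¹ := by rw [← e', mul_inv_cancel_right]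
        rw [this]; exact mul_mem (hDP hd) (inv_mem (hCP hc'))
      have hd1 : d = 1 := Subgroup.mem_bot.mp (hCDdis ▸ ⟨by rw [← e', hb1, one_mul]; exact hc', hd⟩)
      refine hr'C (Subgroup.mem_subgroupOf.mpr ?_)
      show rr ∈ C
      rw [← e, hd1, mul_one]; exact hc
  have hfpf : ∀ a ∈ A, a ≠ 1 → ∀ d ∈ D, a * d = d * a → d = 1 := by
    intro a ha ha1 d hd had
    obtain ⟨r, hr, hrd⟩ := Nat.exists_prime_and_dvd (n := orderOf a)
      (fun e => ha1 (orderOf_eq_one_iff.mp e))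
    have hord : orderOf (a ^ (orderOf a / r)) = r :=
      orderOf_pow_orderOf_div (orderOf_pos a).ne' hrd
    refine Subgroup.mem_bot.mp (hCDdis ▸ ⟨hfix _ (pow_mem ha _) r hr hord ⟨hDP hd, ?_⟩, hd⟩)
    exact Subgroup.mem_centralizer_singleton_iff.mpr ((Commute.symm had).pow_right _).eq
  refine ⟨p, hfp, P, A, hPn, ?_, hAne, hAcop, hAP, hCab, hDn, hCD, hCDdis, hfpf⟩
  by_contra hcyc
  have hDne : D ≠ ⊥ := by
    intro e
    have h1 := hidx
    rw [e, Subgroup.index_bot, Subgroup.index_eq_card] at h1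
    have h2 := (commutator G).card_mul_index
    rw [Subgroup.index_eq_card, h1] at h2
    exact hab (Subgroup.card_eq_one.mp
      (Nat.eq_of_mul_eq_mul_right (Nat.card_pos (α := G)) (by rw [one_mul]; exact h2)))
  refine hDne (eq_bot_iff.mpr (Solvable.le_of_centralizer_le hcyc
    (fun _ _ => by rw [Subgroup.normalizer_eq_top_iff.mpr hDn]; exact Subgroup.mem_top _)
    (hcop.coprime_dvd_right (Subgroup.card_dvd_of_le hDP)) fun a ha ha1 d hd => ?_))
  exact Subgroup.mem_bot.mpr (hfpf a ha ha1 d hd.1 (Subgroup.mem_centralizer_singleton_iff.mp hd.2).symm)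

/-- Multiplicativity from the structure. -/
theorem vanish_of_structure (p : ℕ) [Fact p.Prime] (P : Sylow p G) (A : Subgroup G)
    (hPn : (P : Subgroup G).Normal) (hAcyc : IsCyclic ↥A) (hcop : (Nat.card ↥A).Coprime p)
    (hAP : A ⊔ (P : Subgroup G) = ⊤)
    (hCab : IsMulCommutative ↥((P : Subgroup G) ⊓ Subgroup.centralizer (A : Set G)))
    (hDn : (⁅A, (P : Subgroup G)⁆).Normal)
    (hCD : ((P : Subgroup G) ⊓ Subgroup.centralizer (A : Set G)) ⊔ ⁅A, (P : Subgroup G)⁆ =
      (P : Subgroup G))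
    (hCDdis : ((P : Subgroup G) ⊓ Subgroup.centralizer (A : Set G)) ⊓ ⁅A, (P : Subgroup G)⁆ = ⊥)
    (hfpf : ∀ a ∈ A, a ≠ 1 → ∀ d ∈ ⁅A, (P : Subgroup G)⁆, a * d = d * a → d = 1)
    {g : G} (hg : g ∉ (P : Subgroup G)) :
    Nat.card (Subgroup.centralizer ({g} : Set G)) = (commutator G).index := by
  classical
  set C := (P : Subgroup G) ⊓ Subgroup.centralizer (A : Set G) with hCdef
  set D := ⁅A, (P : Subgroup G)⁆ with hDdef
  have hCP : C ≤ (P : Subgroup G) := inf_le_left
  have hDP : D ≤ (P : Subgroup G) := by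
    have h1 : D ≤ C ⊔ D := le_sup_right
    rwa [hCD] at h1
  have := hAcyc.commutative
  have hAab : ∀ a ∈ A, ∀ b ∈ A, a * b = b * a := fun a ha b hb =>
    congrArg Subtype.val (this.is_comm.comm (⟨a, ha⟩ : A) ⟨b, hb⟩)
  have hCab' : ∀ u ∈ C, ∀ v ∈ C, u * v = v * u := fun u hu v hv =>
    congrArg Subtype.val (hCab.is_comm.comm (⟨u, hu⟩ : C) ⟨v, hv⟩)
  have hAC : A ≤ Subgroup.normalizer (C : Set G) := fun a ha => Subgroup.mem_normalizer_fintype fun c hc => by
    have e : a * c * a⁻¹ = c := by rw [mul_inv_eq_iff_eq_mul]; exact hc.2 a ha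
    rw [e]; exact hc
  have hSab : ∀ s ∈ A ⊔ C, ∀ t ∈ A ⊔ C, s * t = t * s := by
    intro s hs t ht
    obtain ⟨a, ha, c, hc, rfl⟩ := (mem_sup' hAC).mp hs
    obtain ⟨b, hb, e, he, rfl⟩ := (mem_sup' hAC).mp ht
    have h1 := hc.2 b hb
    have h2 := he.2 a ha
    calc a * c * (b * e) = a * (c * b) * e := by group
      _ = a * (b * c) * e := by rw [← h1]
      _ = (a * b) * (c * e) := by group
      _ = (b * a) * (e * c) := by rw [hAab a ha b hb, hCab' c hc e he]
      _ = b * (a * e) * c := by group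
      _ = b * (e * a) * c := by rw [h2]
      _ = b * e * (a * c) := by group
  have hdecomp : ∀ x : G, ∃ a ∈ A, ∃ c ∈ C, ∃ d ∈ D, x = a * c * d := by
    intro x
    have h1 : x ∈ (A ⊔ C) ⊔ D := by rw [sup_assoc, hCD, hAP]; exact Subgroup.mem_top x
    obtain ⟨s, hs, d, hd, rfl⟩ := Subgroup.mem_sup_of_normal_right.mp h1
    obtain ⟨a, ha, c, hc, rfl⟩ := (mem_sup' hAC).mp hs
    exact ⟨a, ha, c, hc, d, hd, rfl⟩
  have hquot : ∀ u v : G ⧸ D, u * v = v * u := by
    intro u v
    obtain ⟨x, rfl⟩ := QuotientGroup.mk_surjective u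
    obtain ⟨y, rfl⟩ := QuotientGroup.mk_surjective v
    obtain ⟨a, ha, c, hc, d, hd, rfl⟩ := hdecomp x
    obtain ⟨a', ha', c', hc', d', hd', rfl⟩ := hdecomp y
    rw [QuotientGroup.mk_mul _ (a * c) d, QuotientGroup.mk_mul _ (a' * c') d',
      (QuotientGroup.eq_one_iff d).mpr hd, (QuotientGroup.eq_one_iff d').mpr hd', mul_one, mul_one,
      ← QuotientGroup.mk_mul, ← QuotientGroup.mk_mul,
      hSab _ (mul_mem (Subgroup.mem_sup_left ha) (Subgroup.mem_sup_right hc)) _
        (mul_mem (Subgroup.mem_sup_left ha') (Subgroup.mem_sup_right hc'))]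
  have hGD : commutator G = D := by
    refine le_antisymm ?_ (by rw [commutator_def]; exact Subgroup.commutator_mono le_top le_top)
    rw [commutator_def, Subgroup.commutator_le]
    intro x _ y _
    rw [← QuotientGroup.eq_one_iff, ← QuotientGroup.mk'_apply, map_commutatorElement,
      commutatorElement_eq_one_iff_mul_comm]
    exact hquot _ _
  -- conjugating an element outside `P` by `D`
  have key : ∀ a ∈ A, a ≠ 1 → ∀ c ∈ C, ∀ d ∈ D, IsConj (a * c) (a * c * d) := by
    intro a ha ha1 c hc d hd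
    let φ : D → D := fun e => ⟨(a * c)⁻¹ * ((e : G) * (a * c) * (e : G)⁻¹), by
      rw [show (a * c)⁻¹ * ((e : G) * (a * c) * (e : G)⁻¹) =
        ((a * c)⁻¹ * e * ((a * c)⁻¹)⁻¹) * (e : G)⁻¹ by group]
      exact mul_mem (hDn.conj_mem _ e.2 _) (inv_mem e.2)⟩
    have hinj : Function.Injective φ := by
      intro e f hef
      have h1 : (e : G) * (a * c) * (e : G)⁻¹ = (f : G) * (a * c) * (f : G)⁻¹ :=
        mul_left_cancel (congrArg Subtype.val hef)
      have h2 : Commute ((f : G)⁻¹ * e) (a * c) := by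
        show (f : G)⁻¹ * e * (a * c) = a * c * ((f : G)⁻¹ * e)
        calc (f : G)⁻¹ * e * (a * c) = (f : G)⁻¹ * ((e : G) * (a * c) * (e : G)⁻¹) * e := by group
          _ = _ := by rw [h1]; group
      have h3 := h2.pow_right (Nat.card (P : Subgroup G))
      have hac : Commute a c := hc.2 a ha
      have hcn : c ^ Nat.card (P : Subgroup G) = 1 :=
        orderOf_dvd_iff_pow_eq_one.mp (Subgroup.orderOf_dvd_natCard _ (hCP hc))
      rw [hac.mul_pow, hcn, mul_one] at h3
      have han : a ^ Nat.card (P : Subgroup G) ≠ 1 := by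
        intro e1
        obtain ⟨k, hk⟩ := IsPGroup.iff_card.mp P.isPGroup'
        exact ha1 (orderOf_eq_one_iff.mp (Nat.eq_one_of_dvd_coprimes
          (hk ▸ hcop.pow_right k : (Nat.card A).Coprime (Nat.card (P : Subgroup G)))
          (Subgroup.orderOf_dvd_natCard A ha) (orderOf_dvd_iff_pow_eq_one.mpr e1)))
      have h4 := hfpf _ (pow_mem ha _) han _ (mul_mem (inv_mem f.2) e.2) h3.eq.symm
      exact Subtype.ext (inv_mul_eq_one.mp h4).symm
    obtain ⟨e, he⟩ := (Finite.injective_iff_surjective.mp hinj) ⟨d, hd⟩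
    refine isConj_iff.mpr ⟨e, ?_⟩
    have h5 : (a * c)⁻¹ * ((e : G) * (a * c) * (e : G)⁻¹) = d := congrArg Subtype.val he
    rw [← h5, mul_inv_cancel_left]
  obtain ⟨a, ha, c, hc, d, hd, rfl⟩ := hdecomp g
  have ha1 : a ≠ 1 := by
    rintro rfl
    exact hg (mul_mem (mul_mem (one_mem _) (hCP hc)) (hDP hd))
  have hclass : Nat.card {x : G // IsConj (a * c * d) x} = Nat.card D := by
    refine Nat.card_congr
      { toFun := fun x => ⟨(a * c)⁻¹ * x.1, ?_⟩
        invFun := fun e => ⟨a * c * e, (key a ha ha1 c hc d hd).symm.trans (key a ha ha1 c hc e e.2)⟩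
        left_inv := fun x => Subtype.ext (mul_inv_cancel_left _ _)
        right_inv := fun e => Subtype.ext (inv_mul_cancel_left _ _) }
    obtain ⟨u, hu⟩ := isConj_iff.mp x.2
    rw [← QuotientGroup.eq, ← hu]
    simp only [QuotientGroup.mk_mul, QuotientGroup.mk_inv]
    rw [(QuotientGroup.eq_one_iff d).mpr hd, mul_one, hquot (u : G ⧸ D), mul_inv_cancel_right]
  have h1 := card_isConj_mul_card_centralizer (a * c * d)
  rw [hclass, ← D.card_mul_index] at h1
  rw [hGD]
  exact Nat.eq_of_mul_eq_mul_left Nat.card_pos h1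

/-- For a finite group G the following are equivalent. (1) χ(x y) = χ(x) χ(y) for every irreducible character χ and all non-identity elements x, y of prime power orders for two different primes. (2) G is a p-group for some prime p, or G is abelian, or for some prime p: G = A P with P a normal Sylow p-subgroup and A a nontrivial cyclic subgroup of order prime to p such that, with C = C_P(A) and D = [A, P], one has P = C D, C abelian, D normal in G, C ∩ D = 1, and A acts fixed-point-freely on D (no non-identity element of A centralizes a non-identity element of D). -/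
theorem result {G : Type*} [Group G] [Finite G] : (∀ (x y : G) (χ : Cfsg.IrrCharacter G), x ≠ 1 → y ≠ 1 → (∃ p q a b : ℕ, p.Prime ∧ q.Prime ∧ p ≠ q ∧ orderOf x = p ^ a ∧ orderOf y = q ^ b) → (χ : G → ℂ) (x * y) = (χ : G → ℂ) x * (χ : G → ℂ) y) ↔ ((∃ p : ℕ, p.Prime ∧ IsPGroup p G) ∨ IsMulCommutative G ∨ ∃ (p : ℕ) (_ : Fact p.Prime) (P : Sylow p G) (A : Subgroup G), (P : Subgroup G).Normal ∧ IsCyclic ↥A ∧ A ≠ ⊥ ∧ (Nat.card ↥A).Coprime p ∧ A ⊔ (P : Subgroup G) = ⊤ ∧ IsMulCommutative ↥((P : Subgroup G) ⊓ Subgroup.centralizer (A : Set G)) ∧ (⁅A, (P : Subgroup G)⁆).Normal ∧ ((P : Subgroup G) ⊓ Subgroup.centralizer (A : Set G)) ⊔ ⁅A, (P : Subgroup G)⁆ = (P : Subgroup G) ∧ ((P : Subgroup G) ⊓ Subgroup.centralizer (A : Set G)) ⊓ ⁅A, (P : Subgroup G)⁆ = ⊥ ∧ ∀ a ∈ A, a ≠ 1 → ∀ d ∈ ⁅A, (P : Subgroup G)⁆, a * d = d * a → d = 1) := by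
  refine ⟨structure_of_mult, ?_⟩
  intro hG x y χ hx hy hord
  by_cases hlin : ∀ n ∈ commutator G, (χ : G → ℂ) n = (χ : G → ℂ) 1
  · obtain ⟨f, hf⟩ := linear_of_trivial χ hlin
    rw [hf, hf, hf, map_mul, Units.val_mul]
  obtain ⟨p', q', a', b', hp', hq', hne, hox, hoy⟩ := hord
  rcases hG with ⟨p, hp, hG⟩ | hG | ⟨p, hfp, P, A, hPn, hAcyc, -, hcop, hAP, hCab, hDn, hCD, hCDdis, hfpf⟩
  · exfalso
    have := Fact.mk hp
    obtain ⟨i, hi⟩ := (IsPGroup.iff_orderOf (p := p)).mp hG x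
    obtain ⟨j, hj⟩ := (IsPGroup.iff_orderOf (p := p)).mp hG y
    have h1 : ∀ {z : G} {r k l : ℕ}, z ≠ 1 → r.Prime → orderOf z = r ^ k → orderOf z = p ^ l → r = p := by
      intro z r k l hz hr hk hl
      have hk0 : k ≠ 0 := fun e => hz (orderOf_eq_one_iff.mp (by rw [hk, e, pow_zero]))
      exact (Nat.prime_dvd_prime_iff_eq hr hp).mp (hr.dvd_of_dvd_pow (hl ▸ hk ▸ dvd_pow_self r hk0))
    exact hne ((h1 hx hp' hox hi).trans (h1 hy hq' hoy hj).symm)
  · exfalso
    refine hlin fun n hn => ?_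
    have : n = 1 := by
      rw [commutator_def] at hn
      have hb : ⁅(⊤ : Subgroup G), (⊤ : Subgroup G)⁆ = ⊥ := by
        rw [Subgroup.commutator_eq_bot_iff_le_centralizer]
        exact fun u _ => Subgroup.mem_centralizer_iff.mpr fun v _ => hG.is_comm.comm v u
      rw [hb, Subgroup.mem_bot] at hn
      exact hn
    rw [this]
  · have hzero : ∀ g, g ∉ (P : Subgroup G) → (χ : G → ℂ) g = 0 := fun g hg =>
      (card_centralizer_eq_iff g).mp
        (vanish_of_structure p P A hPn hAcyc hcop hAP hCab hDn hCD hCDdis hfpf hg) χ hlin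
    have hout : ∀ {z : G} {r k : ℕ}, z ≠ 1 → r.Prime → r ≠ p → orderOf z = r ^ k →
        z ∉ (P : Subgroup G) := by
      intro z r k hz hr hrp hk hzP
      obtain ⟨l, hl⟩ := IsPGroup.iff_orderOf.mp P.isPGroup' ⟨z, hzP⟩
      rw [Subgroup.orderOf_mk, hk] at hl
      have hk0 : k ≠ 0 := fun e => hz (orderOf_eq_one_iff.mp (by rw [hk, e, pow_zero]))
      exact hrp ((Nat.prime_dvd_prime_iff_eq hr hfp.out).mp
        (hr.dvd_of_dvd_pow (hl ▸ dvd_pow_self r hk0)))
    have hxy : x * y ∉ (P : Subgroup G) := by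
      intro hm
      have e : (x : G ⧸ (P : Subgroup G)) * (y : G ⧸ (P : Subgroup G)) = 1 := by
        rw [← QuotientGroup.mk_mul, QuotientGroup.eq_one_iff]; exact hm
      have h1 : orderOf (x : G ⧸ (P : Subgroup G)) ∣ p' ^ a' :=
        hox ▸ orderOf_map_dvd (QuotientGroup.mk' _) x
      have h2 : orderOf (y : G ⧸ (P : Subgroup G)) ∣ q' ^ b' :=
        hoy ▸ orderOf_map_dvd (QuotientGroup.mk' _) y
      rw [eq_inv_of_mul_eq_one_left e, orderOf_inv] at h1
      have hy1 : (y : G ⧸ (P : Subgroup G)) = 1 := orderOf_eq_one_iff.mp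
        (Nat.eq_one_of_dvd_coprimes (Nat.Coprime.pow a' b' ((Nat.coprime_primes hp' hq').mpr hne)) h1 h2)
      have hx1 : (x : G ⧸ (P : Subgroup G)) = 1 := by rwa [hy1, mul_one] at e
      rw [QuotientGroup.eq_one_iff] at hx1 hy1
      by_cases hpp : p' = p
      · exact hout hy hq' (fun h => hne (hpp.trans h.symm)) hoy hy1
      · exact hout hx hp' hpp hox hx1
    rw [hzero _ hxy]
    by_cases hpp : p' = p
    · rw [hzero y (hout hy hq' (fun h => hne (hpp.trans h.symm)) hoy), mul_zero]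
    · rw [hzero x (hout hx hp' hpp hox), zero_mul]

end Cfsg.Agent.S4756
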