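import Cfsg.Statements.S4757
import Cfsg.Agent.Lib.Char.Complete
import Cfsg.Agent.Lib.Char.Linear
import Cfsg.Agent.Lib.Solvable.Core
import Mathlib.GroupTheory.FiniteAbelian.Duality
import Mathlib.Analysis.Complex.Polynomial.Basic

set_option autoImplicit false
open Cfsg

namespace Cfsg.Agent.S4757

open CfsgLib.Char
open scoped ComplexConjugate

theorem exists_hom_ne_one {G : Type*} [Group G] [Finite G] (h : commutator G ≠ ⊤) :
    ∃ f : G →* ℂˣ, f ≠ 1 := by
  obtain ⟨g, hg⟩ : ∃ g : G, g ∉ commutator G := by
    by_contra hall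
    push Not at hall
    exact h (eq_top_iff.2 fun x _ => hall x)
  have hne : Abelianization.of g ≠ 1 := fun h1 => hg ((QuotientGroup.eq_one_iff g).1 h1)
  obtain ⟨φ, hφ⟩ := CommGroup.exists_apply_ne_one_of_hasEnoughRootsOfUnity (Abelianization G) ℂ hne
  exact ⟨φ.comp Abelianization.of, fun h1 => hφ (DFunLike.congr_fun h1 g)⟩

theorem sum_deg_value {G : Type*} [Group G] [Finite G] {u : G} (hu : u ≠ 1) :
    ∑ χ : Cfsg.IrrCharacter G, (χ : G → ℂ) 1 * (χ : G → ℂ) u = 0 := by
  classical
  have h := sum_mul_conj (G := G) u 1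
  rw [if_neg fun hc => hu (isConj_one_left.1 hc)] at h
  rw [← h]
  refine Finset.sum_congr rfl fun χ _ => ?_
  obtain ⟨n, ρ, hρ, e⟩ := χ.2
  rw [← e, Representation.char_one, Complex.conj_natCast, mul_comm]

/-- The consequences of the linear characters. -/
theorem linear_step {G : Type*} [Group G] [Finite G] {u : G} (hu : u ≠ 1) {c : ℂ}
    (hyp : ∀ χ : Cfsg.IrrCharacter G, (χ : G → ℂ) ≠ (fun _ => (1 : ℂ)) →
      ((χ : G → ℂ) 1 - (χ : G → ℂ) u = c ∨ (χ : G → ℂ) u = 0))
    {f : G →* ℂˣ} (hf : f ≠ 1) : c = 2 ∧ (f u : ℂ) = -1 ∧ ∀ f' : G →* ℂˣ, f' ≠ 1 → f' = f := by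
  classical
  have hlin : ∀ f' : G →* ℂˣ, f' ≠ 1 → (f' u : ℂ) = 1 - c := by
    intro f' hf'
    have hne : (fun g => (f' g : ℂ)) ≠ fun _ => (1 : ℂ) := fun h =>
      hf' (MonoidHom.ext fun g => Units.ext (congrFun h g))
    rcases hyp ⟨_, isIrrCharacter_linear f'⟩ hne with h | h
    · rw [← h]; simp
    · exact absurd h (Units.ne_zero _)
  have hc0 : c ≠ 0 := by
    intro hc
    have h := sum_deg_value hu
    have hterm : ∀ χ : Cfsg.IrrCharacter G,
        0 ≤ ((χ : G → ℂ) 1 * (χ : G → ℂ) u).re := by
      intro χ
      by_cases h1 : (χ : G → ℂ) = fun _ => 1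
      · simp [h1]
      · rcases hyp χ h1 with h2 | h2
        · rw [← sub_eq_zero.1 (h2.trans hc)]
          obtain ⟨n, ρ, hρ, e⟩ := χ.2
          rw [← e, Representation.char_one]
          simp only [Complex.mul_re, Complex.natCast_re, Complex.natCast_im, mul_zero, sub_zero]
          positivity
        · simp [h2]
    have hle := Finset.single_le_sum (fun χ _ => hterm χ) (Finset.mem_univ (principalIrr (G := G)))
    rw [← Complex.re_sum, h] at hle
    norm_num [principalIrr_apply] at hle
  have huniq : ∀ f' : G →* ℂˣ, f' ≠ 1 → f' = f := by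
    intro f' hf'
    by_contra hne
    have hd : f' * f⁻¹ ≠ 1 := fun h => hne (mul_inv_eq_one.1 h)
    have h1 := hlin _ hd
    rw [MonoidHom.mul_apply, MonoidHom.inv_apply, show f' u = f u from Units.ext
      ((hlin f' hf').trans (hlin f hf).symm), mul_inv_cancel, Units.val_one] at h1
    exact hc0 (by linear_combination h1)
  have hsq : (f u : ℂ) * (f u : ℂ) = 1 := by
    by_cases hff : f * f = 1
    · rw [← Units.val_mul, ← MonoidHom.mul_apply, hff]; simp
    · exact absurd (mul_left_cancel ((huniq _ hff).trans (mul_one f).symm)) hf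
  have hm1 : (f u : ℂ) = -1 := by
    rcases mul_self_eq_one_iff.1 hsq with h | h
    · exact absurd (by linear_combination (hlin f hf).symm.trans h * (-1) : c = 0) hc0
    · exact h
  exact ⟨by linear_combination (hlin f hf).symm.trans hm1 * (-1), hm1, huniq⟩

/-- Let u ≠ 1 be an element of the finite group G and c a complex number such that every non-principal irreducible character χ satisfies χ(1) − χ(u) = c or χ(u) = 0. Then the following are equivalent: (a) u has order 2, G is generated by u together with O(G), the largest normal subgroup of G of odd order, and the centralizer of u is {1, u}; (b) G is not perfect; (c) c = 2. -/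
theorem result {G : Type*} [Group G] [Finite G] (u : G) (hu : u ≠ 1) (c : ℂ) (hyp : ∀ χ : Cfsg.IrrCharacter G, (χ : G → ℂ) ≠ (fun _ => (1 : ℂ)) → ((χ : G → ℂ) 1 - (χ : G → ℂ) u = c ∨ (χ : G → ℂ) u = 0)) : ((orderOf u = 2 ∧ Subgroup.zpowers u ⊔ Cfsg.oddCore G = ⊤ ∧ Subgroup.centralizer ({u} : Set G) = Subgroup.zpowers u) ↔ commutator G ≠ ⊤) ∧ (commutator G ≠ ⊤ ↔ c = 2) := by
  classical
  have htwo : c = 2 → commutator G ≠ ⊤ := by
    intro hc htop
    have h := sum_deg_value hu
    have hterm : ∀ χ : Cfsg.IrrCharacter G,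
        0 ≤ ((χ : G → ℂ) 1 * (χ : G → ℂ) u).re := by
      intro χ
      by_cases h1 : (χ : G → ℂ) = fun _ => 1
      · simp [h1]
      · rcases hyp χ h1 with h2 | h2
        · obtain ⟨n, ρ, hρ, e⟩ := χ.2
          have hn : 2 ≤ n := by
            by_contra hn
            have hn0 : n ≠ 0 := fun h0 => IsIrrCharacter.apply_one_ne_zero χ.2 (by
              rw [← e, Representation.char_one, Module.finrank_fin_fun, h0, Nat.cast_zero])
            have hdeg : (χ : G → ℂ) 1 = 1 := by
              rw [← e, Representation.char_one, Module.finrank_fin_fun,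
                show n = 1 by omega, Nat.cast_one]
            obtain ⟨f, hf⟩ := IsCharacter.exists_linear (IsIrrCharacter.isCharacter χ.2) hdeg
            refine h1 (funext fun g => ?_)
            have hker : commutator G ≤ f.ker := Abelianization.commutator_subset_ker f
            rw [hf g, show f g = 1 from hker (htop ▸ Subgroup.mem_top g), Units.val_one]
          rw [show (χ : G → ℂ) u = (χ : G → ℂ) 1 - c by rw [← h2]; ring, hc, ← e,
            Representation.char_one, Module.finrank_fin_fun]
          simp only [Complex.mul_re, Complex.natCast_re, Complex.natCast_im, Complex.sub_re,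
            Complex.re_ofNat, Complex.sub_im, Complex.im_ofNat, sub_zero, mul_zero]
          have : (2 : ℝ) ≤ n := by exact_mod_cast hn
          nlinarith
        · simp [h2]
    have hle := Finset.single_le_sum (fun χ _ => hterm χ) (Finset.mem_univ (principalIrr (G := G)))
    rw [← Complex.re_sum, h] at hle
    norm_num [principalIrr_apply] at hle
  have hback : commutator G ≠ ⊤ → orderOf u = 2 ∧ Subgroup.zpowers u ⊔ Cfsg.oddCore G = ⊤ ∧
      Subgroup.centralizer ({u} : Set G) = Subgroup.zpowers u := by
    intro hperf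
    obtain ⟨f, hf⟩ := exists_hom_ne_one hperf
    obtain ⟨hc, hfu, huniq⟩ := linear_step hu hyp hf
    let L : Cfsg.IrrCharacter G := ⟨_, isIrrCharacter_linear f⟩
    have hLne : L ≠ principalIrr := fun h => hf (MonoidHom.ext fun g => Units.ext
      (congrFun (congrArg (fun χ : Cfsg.IrrCharacter G => (χ : G → ℂ)) h) g))
    -- all further characters vanish at `u`
    have hvan : ∀ χ : Cfsg.IrrCharacter G, χ ≠ principalIrr → χ ≠ L → (χ : G → ℂ) u = 0 := by
      have h := congrArg Complex.re (sum_deg_value hu)
      rw [Complex.re_sum, ← Finset.add_sum_erase _ _ (Finset.mem_univ (principalIrr (G := G))),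
        ← Finset.add_sum_erase _ _ (Finset.mem_erase.2 ⟨hLne, Finset.mem_univ L⟩)] at h
      have h1 : (principalIrr : Cfsg.IrrCharacter G).1 1 * (principalIrr : Cfsg.IrrCharacter G).1 u
          = 1 := by simp [principalIrr_apply]
      have h2 : (L : G → ℂ) 1 * (L : G → ℂ) u = -1 := by
        show (f 1 : ℂ) * (f u : ℂ) = -1
        rw [map_one, Units.val_one, one_mul, hfu]
      rw [h1, h2] at h
      simp only [Complex.one_re, Complex.neg_re, Complex.zero_re] at h
      have hnn : ∀ χ ∈ (Finset.univ.erase (principalIrr (G := G))).erase L,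
          (χ : G → ℂ) u ≠ 0 → ∃ n : ℕ, 2 ≤ n ∧ (χ : G → ℂ) 1 = n ∧ (χ : G → ℂ) u = (n : ℂ) - 2 := by
        intro χ hχ hne
        simp only [Finset.mem_erase] at hχ
        have h1' : (χ : G → ℂ) ≠ fun _ => 1 := fun e => hχ.2.1 (Subtype.ext e)
        rcases hyp χ h1' with h2' | h2'
        · obtain ⟨n, ρ, hρ, e⟩ := χ.2
          refine ⟨n, ?_, by rw [← e, Representation.char_one, Module.finrank_fin_fun], ?_⟩
          · by_contra hn
            have hn0 : n ≠ 0 := fun h0 => IsIrrCharacter.apply_one_ne_zero χ.2 (by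
              rw [← e, Representation.char_one, Module.finrank_fin_fun, h0, Nat.cast_zero])
            have hdeg : (χ : G → ℂ) 1 = 1 := by
              rw [← e, Representation.char_one, Module.finrank_fin_fun,
                show n = 1 by omega, Nat.cast_one]
            obtain ⟨f', hf'⟩ := IsCharacter.exists_linear (IsIrrCharacter.isCharacter χ.2) hdeg
            refine hχ.1 (Subtype.ext (funext fun g => ?_))
            rw [hf' g, huniq f' fun h0 => h1' (funext fun g => by rw [hf' g, h0]; simp)]
          · rw [show (χ : G → ℂ) u = (χ : G → ℂ) 1 - c by rw [← h2']; ring, hc, ← e,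
              Representation.char_one, Module.finrank_fin_fun]
        · exact absurd h2' hne
      have hterm : ∀ χ ∈ (Finset.univ.erase (principalIrr (G := G))).erase L,
          0 ≤ ((χ : G → ℂ) 1 * (χ : G → ℂ) u).re := by
        intro χ hχ
        by_cases hz : (χ : G → ℂ) u = 0
        · simp [hz]
        · obtain ⟨n, hn, e1, e2⟩ := hnn χ hχ hz
          have h2n : (2 : ℝ) ≤ n := by exact_mod_cast hn
          rw [e1, e2]
          simp only [Complex.mul_re, Complex.natCast_re, Complex.natCast_im, Complex.sub_re,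
            Complex.re_ofNat, Complex.sub_im, Complex.im_ofNat, sub_zero, mul_zero]
          nlinarith
      intro χ h1' h2'
      by_contra hz
      have hmem : χ ∈ (Finset.univ.erase (principalIrr (G := G))).erase L := by
        simp [h1', h2']
      obtain ⟨n, hn, e1, e2⟩ := hnn χ hmem hz
      have h0 := (Finset.sum_eq_zero_iff_of_nonneg hterm).1 (by linarith) χ hmem
      rw [e1, e2] at h0
      simp only [Complex.mul_re, Complex.natCast_re, Complex.natCast_im, Complex.sub_re,
        Complex.re_ofNat, Complex.sub_im, Complex.im_ofNat, sub_zero, mul_zero] at h0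
      refine hz ?_
      rw [e2]
      have h2n : (2 : ℝ) ≤ n := by exact_mod_cast hn
      have : (n : ℝ) = 2 := by nlinarith
      rw [show n = 2 by exact_mod_cast this]
      norm_num
    -- the centralizer
    have hC : Nat.card (Subgroup.centralizer ({u} : Set G)) = 2 := by
      have h := sum_mul_conj (G := G) u u
      rw [if_pos (IsConj.refl u), ← Finset.add_sum_erase _ _
          (Finset.mem_univ (principalIrr (G := G))),
        ← Finset.add_sum_erase _ _ (Finset.mem_erase.2 ⟨hLne, Finset.mem_univ L⟩),
        Finset.sum_eq_zero fun χ hχ => by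
          simp only [Finset.mem_erase] at hχ
          rw [hvan χ hχ.2.1 hχ.1, zero_mul]] at h
      rw [show (L : G → ℂ) u = -1 from hfu, principalIrr_apply] at h
      norm_num at h
      exact_mod_cast h.symm
    have hmem : u ∈ Subgroup.centralizer ({u} : Set G) :=
      Subgroup.mem_centralizer_singleton_iff.2 rfl
    have hord : orderOf u = 2 := by
      have h := hC ▸ orderOf_dvd_natCard (⟨u, hmem⟩ : Subgroup.centralizer ({u} : Set G))
      rw [← Subgroup.orderOf_coe] at h
      rcases (Nat.dvd_prime Nat.prime_two).1 h with h1 | h1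
      · exact absurd (orderOf_eq_one_iff.1 h1) hu
      · exact h1
    have hCz : Subgroup.centralizer ({u} : Set G) = Subgroup.zpowers u :=
      (Subgroup.eq_of_le_of_card_ge ((Subgroup.zpowers_le).2 hmem)
        (le_of_eq (by rw [Nat.card_zpowers, hord, hC]))).symm
    refine ⟨hord, ?_, hCz⟩
    haveI : Fact (Nat.Prime 2) := ⟨Nat.prime_two⟩
    obtain ⟨P, hP⟩ := (IsPGroup.of_card (n := 1)
      (by rw [Nat.card_zpowers, hord, pow_one]) : IsPGroup 2 (Subgroup.zpowers u)).exists_le_sylow
    have huP : u ∈ (P : Subgroup G) := hP (Subgroup.mem_zpowers u)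
    haveI : Nontrivial (P : Subgroup G) :=
      ⟨⟨⟨u, huP⟩, 1, fun h => hu (congrArg Subtype.val h)⟩⟩
    haveI := P.2.center_nontrivial
    obtain ⟨z, hz⟩ := exists_ne (1 : Subgroup.center (P : Subgroup G))
    have hzc : ((z : (P : Subgroup G)) : G) ∈ Subgroup.centralizer ({u} : Set G) := by
      refine Subgroup.mem_centralizer_singleton_iff.2 ?_
      exact (congrArg Subtype.val (Subgroup.mem_center_iff.1 z.2 ⟨u, huP⟩)).symm
    rw [hCz] at hzc
    have hzu : ((z : (P : Subgroup G)) : G) = u := by
      obtain ⟨i, hi, hi'⟩ := (IsOfFinOrder.mem_zpowers_iff_mem_range_orderOf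
        (isOfFinOrder_of_finite u)).1 hzc |> Finset.mem_image.1
      rw [hord, Finset.mem_range] at hi
      interval_cases i
      · exact absurd (Subtype.ext (Subtype.ext (by simpa using hi'.symm))) hz
      · simpa using hi'.symm
    have hPC : (P : Subgroup G) ≤ Subgroup.centralizer ({u} : Set G) := by
      intro x hx
      rw [Subgroup.mem_centralizer_singleton_iff, ← hzu]
      exact congrArg Subtype.val (Subgroup.mem_center_iff.1 z.2 ⟨x, hx⟩)
    -- the kernel of the linear character
    have hidx : f.ker.index = 2 := by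
      rw [Subgroup.index_ker]
      have hrange : ∀ g, (f g : ℂ) = 1 ∨ (f g : ℂ) = -1 := by
        intro g
        have hff : f * f = 1 := by
          by_contra hff
          exact hf (mul_left_cancel ((huniq _ hff).trans (mul_one f).symm))
        refine mul_self_eq_one_iff.1 ?_
        rw [← Units.val_mul, ← MonoidHom.mul_apply, hff]; simp
      have hr : (f.range : Set ℂˣ) = {1, -1} := by
        ext x
        simp only [SetLike.mem_coe, MonoidHom.mem_range, Set.mem_insert_iff, Set.mem_singleton_iff]
        refine ⟨?_, ?_⟩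
        · rintro ⟨g, rfl⟩
          exact (hrange g).imp (fun h => Units.ext h) (fun h => Units.ext (by simpa using h))
        · rintro (rfl | rfl)
          · exact ⟨1, map_one f⟩
          · exact ⟨u, Units.ext (by simpa using hfu)⟩
      rw [← SetLike.coe_sort_coe, hr, Nat.card_coe_set_eq, Set.ncard_pair fun h => by
        have := congrArg (fun x : ℂˣ => (x : ℂ)) h
        norm_num at this]
    have hodd : (Nat.card f.ker).Coprime 2 := by
      rw [Nat.coprime_two_right, ← Nat.not_even_iff_odd]
      intro hev
      have h4 : 2 ^ 2 ∣ Nat.card G := by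
        rw [← Subgroup.card_mul_index f.ker, hidx, pow_two]
        exact Nat.mul_dvd_mul_right (even_iff_two_dvd.1 hev) 2
      have hle := (Subgroup.card_le_of_le hPC).trans (le_of_eq hC)
      have hdvd := (Nat.prime_two.pow_dvd_iff_le_factorization Nat.card_pos.ne').1 h4
      rw [P.card_eq_multiplicity] at hle
      have := Nat.pow_le_pow_right (show 0 < 2 by norm_num) hdvd
      omega
    have hK : f.ker ≤ Cfsg.oddCore G := CfsgLib.Solvable.le_pPrimeCore inferInstance hodd
    rw [eq_top_iff]
    intro g _
    by_cases hg : g ∈ f.ker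
    · exact Subgroup.mem_sup_right (hK hg)
    · have hu' : u ∉ f.ker := fun h => by
        rw [MonoidHom.mem_ker] at h
        rw [h, Units.val_one] at hfu
        norm_num at hfu
      have h := (Subgroup.mul_mem_iff_of_index_two hidx (a := u⁻¹) (b := g)).2
        ⟨fun h => absurd (inv_mem_iff.1 h) hu', fun h => absurd h hg⟩
      rw [show g = u * (u⁻¹ * g) by group]
      exact Subgroup.mul_mem_sup (Subgroup.mem_zpowers u) (hK h)
  refine ⟨⟨?_, hback⟩, ⟨fun h => ?_, htwo⟩⟩
  · rintro ⟨hord, htop, -⟩ hperf
    haveI := CfsgLib.Solvable.pPrimeCore_normal 2 G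
    have hker : commutator G ≤ Cfsg.oddCore G := by
      rw [← Subgroup.Normal.quotient_commutative_iff_commutator_le]
      have hsurj : Function.Surjective ((QuotientGroup.mk' (Cfsg.oddCore G)).comp
          (Subgroup.zpowers u).subtype) := by
        intro q
        obtain ⟨g, rfl⟩ := QuotientGroup.mk'_surjective _ q
        obtain ⟨a, ha, b, hb, rfl⟩ := Subgroup.mem_sup_of_normal_right.1
          (show g ∈ Subgroup.zpowers u ⊔ Cfsg.oddCore G by rw [htop]; trivial)
        refine ⟨⟨a, ha⟩, ?_⟩
        simp [(QuotientGroup.eq_one_iff b).2 hb]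
      exact ⟨⟨fun a b => by
        obtain ⟨x, rfl⟩ := hsurj a
        obtain ⟨y, rfl⟩ := hsurj b
        rw [← map_mul, ← map_mul, Std.Commutative.comm (op := fun (a b : Subgroup.zpowers u) => a * b) x y]⟩⟩
    have huO : u ∈ Cfsg.oddCore G := hker (hperf ▸ Subgroup.mem_top u)
    have h2 := hord ▸ Subgroup.orderOf_dvd_natCard (Cfsg.oddCore G) huO
    have hco := CfsgLib.Solvable.pPrimeCore_card_coprime 2 G
    rw [Nat.coprime_two_right] at hco
    exact Nat.not_even_iff_odd.2 hco (even_iff_two_dvd.2 h2)
  · obtain ⟨f, hf⟩ := exists_hom_ne_one h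
    exact (linear_step hu hyp hf).1

end Cfsg.Agent.S4757
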