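import Cfsg.Statements.S4762
import Cfsg.Agent.S0188
import Cfsg.Agent.Lib.OddOrder.Fitting
import Cfsg.Agent.Lib.Solvable.Core
import Cfsg.Agent.Lib.Transfer.PGroup
import Cfsg.Agent.Lib.Blk83.Irr
import Cfsg.Agent.Lib.Char.Linear
import Cfsg.Agent.Lib.Char.Complete
import Mathlib.GroupTheory.FiniteAbelian.Duality
import Mathlib.GroupTheory.Abelianization.Defs
import Mathlib.Analysis.Complex.Polynomial.Basic
import Mathlib.GroupTheory.NoncommCoprod
import Mathlib.RingTheory.RootsOfUnity.AlgebraicallyClosed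
import Mathlib.Tactic.Group

set_option autoImplicit false
open Cfsg

namespace Cfsg.Agent.S4762

open scoped ComplexConjugate commutatorElement

variable {G : Type*} [Group G] [Finite G]

theorem exists_linear_ne_one {g : G} (hg : g ∉ commutator G) : ∃ f : G →* ℂˣ, f g ≠ 1 := by
  have hne : Abelianization.of g ≠ 1 := fun h => hg ((QuotientGroup.eq_one_iff g).mp h)
  obtain ⟨φ, hφ⟩ := CommGroup.exists_apply_ne_one_of_hasEnoughRootsOfUnity (Abelianization G) ℂ hne
  exact ⟨φ.comp Abelianization.of, hφ⟩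

theorem card_hom : Nat.card (G →* ℂˣ) = (commutator G).index := by
  rw [Nat.card_congr (Abelianization.lift (G := G) (A := ℂˣ))]
  obtain ⟨e⟩ := CommGroup.monoidHom_mulEquiv_of_hasEnoughRootsOfUnity (Abelianization G) ℂ
  rw [Nat.card_congr e.toEquiv]
  rfl

theorem card_linear : Nat.card {χ : Cfsg.IrrCharacter G // Cfsg.charDegree (χ : G → ℂ) = 1} =
    (commutator G).index := by
  rw [← card_hom, Nat.card_congr CfsgLib.Char.linearCharEquiv]
  refine Nat.card_congr (Equiv.subtypeEquivRight fun χ => ?_)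
  rw [CfsgLib.Blk83.one_eq, Nat.cast_eq_one]

/-- Column orthogonality with the linear characters split off. -/
theorem column_split [Fintype G] (g : G) :
    ((commutator G).index : ℝ) + ∑ χ ∈ Finset.univ.filter
      (fun χ : Cfsg.IrrCharacter G => Cfsg.charDegree (χ : G → ℂ) ≠ 1), Complex.normSq ((χ : G → ℂ) g) =
      Nat.card (Subgroup.centralizer ({g} : Set G)) := by
  classical
  have h1 : ∑ χ : Cfsg.IrrCharacter G, Complex.normSq ((χ : G → ℂ) g) =
      (Nat.card (Subgroup.centralizer ({g} : Set G)) : ℝ) := by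
    apply Complex.ofReal_injective
    push_cast
    have h2 := CfsgLib.Char.sum_mul_conj g g
    rw [if_pos (IsConj.refl _)] at h2
    rw [← h2]
    exact Finset.sum_congr rfl fun η _ => (Complex.mul_conj _).symm
  rw [← h1, ← Finset.sum_filter_add_sum_filter_not Finset.univ
    (fun χ : Cfsg.IrrCharacter G => Cfsg.charDegree (χ : G → ℂ) = 1)]
  congr 1
  have h3 : ∀ χ ∈ Finset.univ.filter
      (fun χ : Cfsg.IrrCharacter G => Cfsg.charDegree (χ : G → ℂ) = 1),
      Complex.normSq ((χ : G → ℂ) g) = 1 := by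
    intro χ hχ
    obtain ⟨f, hf⟩ := CfsgLib.Char.isIrrCharacter_degree_one_iff.mp
      ⟨χ.2, by rw [CfsgLib.Blk83.one_eq, (Finset.mem_filter.mp hχ).2, Nat.cast_one]⟩
    rw [hf]
    have : ‖((f g : ℂ))‖ = 1 := by
      refine Complex.norm_eq_one_of_pow_eq_one (n := orderOf g) ?_ (orderOf_pos g).ne'
      rw [← Units.val_pow_eq_pow_val, ← map_pow, pow_orderOf_eq_one, map_one, Units.val_one]
    rw [Complex.normSq_eq_norm_sq, this, one_pow]
  rw [Finset.sum_congr rfl h3, Finset.sum_const, nsmul_one, ← card_linear, Nat.card_eq_fintype_card,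
    Fintype.card_subtype]

theorem pow_add_pow {p m e n : ℕ} (hp : p.Prime) (h : p ^ n = p ^ m + p ^ e) :
    p = 2 ∧ m = e ∧ n = m + 1 := by
  rcases lt_trichotomy m e with hlt | rfl | hlt
  · exfalso
    obtain ⟨k, rfl⟩ := Nat.exists_eq_add_of_lt hlt
    have hmn : m ≤ n := (Nat.pow_le_pow_iff_right hp.one_lt).mp (by omega)
    obtain ⟨j, rfl⟩ := Nat.exists_eq_add_of_le hmn
    rw [pow_add, show m + k + 1 = m + (k + 1) by omega, pow_add] at h
    have h' : p ^ j = 1 + p ^ (k + 1) :=
      Nat.eq_of_mul_eq_mul_left (pow_pos hp.pos m) (by rw [h, mul_add, mul_one])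
    rcases j with _ | j
    · have := pow_pos hp.pos (k + 1); rw [pow_zero] at h'; omega
    · have : p ∣ 1 := (Nat.dvd_add_left (dvd_pow_self p k.succ_ne_zero)).mp
        (h' ▸ dvd_pow_self p j.succ_ne_zero)
      exact hp.not_dvd_one this
  · have h2 : p ^ n = 2 * p ^ m := by omega
    have hmn : m < n := (Nat.pow_lt_pow_iff_right hp.one_lt).mp (by have := pow_pos hp.pos m; omega)
    obtain ⟨j, rfl⟩ := Nat.exists_eq_add_of_lt hmn
    rw [show m + j + 1 = m + (j + 1) by omega, pow_add, mul_comm 2] at h2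
    have h' : p ^ (j + 1) = 2 := Nat.eq_of_mul_eq_mul_left (pow_pos hp.pos m) h2
    have hp2 : p = 2 := (Nat.prime_dvd_prime_iff_eq hp Nat.prime_two).mp
      (h' ▸ dvd_pow_self p j.succ_ne_zero)
    refine ⟨hp2, rfl, ?_⟩
    subst hp2
    have := Nat.pow_right_injective le_rfl (show 2 ^ (j + 1) = 2 ^ 1 by simpa using h')
    omega
  · exfalso
    obtain ⟨k, rfl⟩ := Nat.exists_eq_add_of_lt hlt
    have hmn : e ≤ n := (Nat.pow_le_pow_iff_right hp.one_lt).mp (by omega)
    obtain ⟨j, rfl⟩ := Nat.exists_eq_add_of_le hmn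
    rw [pow_add, show e + k + 1 = e + (k + 1) by omega, pow_add] at h
    have h' : p ^ j = p ^ (k + 1) + 1 :=
      Nat.eq_of_mul_eq_mul_left (pow_pos hp.pos e) (by rw [h, mul_add, mul_one])
    rcases j with _ | j
    · have := pow_pos hp.pos (k + 1); rw [pow_zero] at h'; omega
    · have : p ∣ 1 := (Nat.dvd_add_right (dvd_pow_self p k.succ_ne_zero)).mp
        (h' ▸ dvd_pow_self p j.succ_ne_zero)
      exact hp.not_dvd_one this

theorem dvd_degree_iff {p : ℕ} [hp : Fact p.Prime] (hG : IsPGroup p G) (χ : Cfsg.IrrCharacter G) :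
    p ∣ Cfsg.charDegree (χ : G → ℂ) ↔ Cfsg.charDegree (χ : G → ℂ) ≠ 1 := by
  obtain ⟨n, hn⟩ := IsPGroup.iff_card.mp hG
  obtain ⟨k, -, hk⟩ := (Nat.dvd_prime_pow hp.out).mp (hn ▸ CfsgLib.Blk83.deg_dvd χ)
  rw [hk]
  rcases k with _ | k
  · simp [hp.out.ne_one]
  · simp [dvd_pow_self p k.succ_ne_zero, hp.out.ne_one]

/-- A nilpotent group with a unique irreducible character of degree divisible by `p` is a
`p`-group. -/
theorem isPGroup_of_unique [Group.IsNilpotent G] {p : ℕ} [hp : Fact p.Prime]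
    (h : Nat.card {χ : Cfsg.IrrCharacter G // p ∣ Cfsg.charDegree (χ : G → ℂ)} = 1) :
    IsPGroup p G := by
  classical
  obtain ⟨hsub, ⟨χ, hχ⟩⟩ := Nat.card_eq_one_iff_unique.mp h
  set P := Cfsg.pCore p G
  set Q := Cfsg.pPrimeCore p G
  haveI : P.Normal := CfsgLib.Solvable.pCore_normal p G
  haveI : Q.Normal := CfsgLib.Solvable.pPrimeCore_normal p G
  have hPQ : P ⊔ Q = ⊤ := by
    refine eq_top_iff.mpr fun x _ => CfsgLib.OddOrder.mem_of_forall_exists_pow_mem (orderOf_pos x)
      fun s hs _ => ?_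
    haveI := Fact.mk hs
    set n := orderOf x
    refine ⟨n / s ^ n.factorization s, Nat.not_dvd_ordCompl hs (orderOf_pos x).ne', ?_⟩
    have hz : IsPGroup s (Subgroup.zpowers (x ^ (n / s ^ n.factorization s))) := by
      refine IsPGroup.of_card (n := n.factorization s) ?_
      rw [Nat.card_zpowers, orderOf_pow_orderOf_div (orderOf_pos x).ne' (Nat.ordProj_dvd n s)]
    obtain ⟨S, hS⟩ := hz.exists_le_sylow
    have hSn : (S : Subgroup G).Normal := inferInstance
    by_cases hsp : s = p
    · subst hsp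
      exact Subgroup.mem_sup_left (CfsgLib.Solvable.le_pCore hSn S.2 (hS (Subgroup.mem_zpowers _)))
    · refine Subgroup.mem_sup_right (CfsgLib.Solvable.le_pPrimeCore hSn ?_ (hS (Subgroup.mem_zpowers _)))
      obtain ⟨k, hk⟩ := S.2.exists_card_eq
      rw [hk]
      exact ((Nat.coprime_primes hs hp.out).mpr hsp).pow_left k
  have hdis : P ⊓ Q = ⊥ := CfsgLib.Solvable.pCore_inf_pPrimeCore_eq_bot
  have hcomm : ∀ (a : P) (b : Q), Commute (P.subtype a) (Q.subtype b) := fun a b =>
    Subgroup.commute_of_normal_of_disjoint P Q inferInstance inferInstance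
      (disjoint_iff.mpr hdis) a b a.2 b.2
  let f : P × Q →* G := P.subtype.noncommCoprod Q.subtype hcomm
  have hf : Function.Bijective f := by
    refine ⟨(injective_iff_map_eq_one f).mpr ?_, fun g => ?_⟩
    · rintro ⟨a, b⟩ hab
      have hab' : (a : G) * b = 1 := hab
      have ha : (a : G) ∈ P ⊓ Q :=
        ⟨a.2, by rw [eq_inv_of_mul_eq_one_left hab']; exact Q.inv_mem b.2⟩
      rw [hdis, Subgroup.mem_bot] at ha
      rw [ha, one_mul] at hab'
      exact Prod.ext (Subtype.ext ha) (Subtype.ext hab')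
    · obtain ⟨a, ha, b, hb, rfl⟩ := Subgroup.mem_sup_of_normal_left.mp (hPQ ▸ Subgroup.mem_top g)
      exact ⟨(⟨a, ha⟩, ⟨b, hb⟩), rfl⟩
  let e : P × Q ≃* G := MulEquiv.ofBijective f hf
  obtain ⟨φ, ψ, hφ, hψ, he⟩ := (Cfsg.Agent.S0188.result ((χ : G → ℂ) ∘ e)).mp
    (CfsgLib.CharTwist.isIrrCharacter_comp_equiv χ.2 e)
  have hdeg : ∀ η : Cfsg.IrrCharacter Q, ∃ ξ : Cfsg.IrrCharacter G,
      Cfsg.charDegree (ξ : G → ℂ) = Cfsg.charDegree φ * Cfsg.charDegree (η : Q → ℂ) ∧
        ∀ x : P × Q, (ξ : G → ℂ) (e x) = φ x.1 * (η : Q → ℂ) x.2 := by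
    intro η
    have h1 : Cfsg.IsIrrCharacter (P × Q) (fun x => φ x.1 * (η : Q → ℂ) x.2) :=
      (Cfsg.Agent.S0188.result _).mpr ⟨φ, η, hφ, η.2, rfl⟩
    have h2 : ∀ x : P × Q, ((fun x : P × Q => φ x.1 * (η : Q → ℂ) x.2) ∘ e.symm) (e x) =
        φ x.1 * (η : Q → ℂ) x.2 := fun x => by simp
    refine ⟨⟨_, CfsgLib.CharTwist.isIrrCharacter_comp_equiv h1 e.symm⟩, ?_, h2⟩
    apply Nat.cast_injective (R := ℂ)
    rw [← CfsgLib.Blk83.one_eq, Nat.cast_mul, ← CfsgLib.Blk83.one_eq η,
      ← CfsgLib.Blk83.one_eq ⟨φ, hφ⟩]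
    simpa using h2 1
  obtain ⟨ξ0, hξ0, -⟩ := hdeg ⟨ψ, hψ⟩
  have hχdeg : Cfsg.charDegree (χ : G → ℂ) = Cfsg.charDegree φ * Cfsg.charDegree ψ := by
    apply Nat.cast_injective (R := ℂ)
    rw [Nat.cast_mul, ← CfsgLib.Blk83.one_eq χ, ← CfsgLib.Blk83.one_eq ⟨φ, hφ⟩,
      ← CfsgLib.Blk83.one_eq ⟨ψ, hψ⟩]
    simpa using congrFun he 1
  have hpφ : p ∣ Cfsg.charDegree φ := by
    refine (hp.out.dvd_mul.mp (hχdeg ▸ hχ)).resolve_right fun hd => ?_
    exact hp.out.not_dvd_one ((CfsgLib.Solvable.pPrimeCore_card_coprime p G) ▸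
      Nat.dvd_gcd (hd.trans (CfsgLib.Blk83.deg_dvd ⟨ψ, hψ⟩)) dvd_rfl)
  choose Ξ hΞdeg hΞ using hdeg
  have hsubQ : Subsingleton (Cfsg.IrrCharacter Q) := by
    refine ⟨fun η η' => Subtype.ext (funext fun q => ?_)⟩
    have heq : Ξ η = Ξ η' := congrArg Subtype.val (hsub.elim
      ⟨Ξ η, hΞdeg η ▸ dvd_mul_of_dvd_left hpφ _⟩ ⟨Ξ η', hΞdeg η' ▸ dvd_mul_of_dvd_left hpφ _⟩)
    have := hΞ η (1, q)
    rw [heq, hΞ η' (1, q)] at this
    exact (mul_left_cancel₀ (CfsgLib.Char.IsIrrCharacter.apply_one_ne_zero hφ) this).symm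
  have hQ : Nat.card Q = 1 := by
    cases nonempty_fintype Q
    rw [← CfsgLib.Char.sum_degree_sq,
      Fintype.sum_subsingleton _ (CfsgLib.Char.principalIrr : Cfsg.IrrCharacter Q)]
    simp [CfsgLib.Char.degree]
  have hQbot : Q = ⊥ := Subgroup.eq_bot_of_card_eq Q hQ
  rw [hQbot, sup_bot_eq] at hPQ
  exact (hPQ ▸ CfsgLib.Solvable.pCore_isPGroup p G : IsPGroup p (⊤ : Subgroup G)).of_equiv
    Subgroup.topEquiv

/-- Let p be a prime and G a finite nilpotent group. Then G has exactly one irreducible complex character of degree divisible by p if and only if p = 2 and G is an extraspecial 2-group. -/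
theorem result {G : Type*} [Group G] [Finite G] [Group.IsNilpotent G] (p : ℕ) [Fact p.Prime] : Nat.card {χ : Cfsg.IrrCharacter G // p ∣ Cfsg.charDegree (χ : G → ℂ)} = 1 ↔ (p = 2 ∧ Cfsg.IsExtraspecial 2 G) := by
  classical
  have := Fintype.ofFinite G
  constructor
  · intro h
    have hG := isPGroup_of_unique h
    obtain ⟨hsub, ⟨χ, hχ⟩⟩ := Nat.card_eq_one_iff_unique.mp h
    have hd1 : Cfsg.charDegree (χ : G → ℂ) ≠ 1 := (dvd_degree_iff hG χ).mp hχ
    have hfil : Finset.univ.filter
        (fun ψ : Cfsg.IrrCharacter G => Cfsg.charDegree (ψ : G → ℂ) ≠ 1) = {χ} := by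
      ext ψ
      simp only [Finset.mem_filter, Finset.mem_univ, true_and, Finset.mem_singleton]
      exact ⟨fun hψ => congrArg Subtype.val
        (hsub.elim ⟨ψ, (dvd_degree_iff hG ψ).mpr hψ⟩ ⟨χ, hχ⟩), fun e => e ▸ hd1⟩
    have hvan : ∀ g : G, g ∉ commutator G → (χ : G → ℂ) g = 0 := by
      intro g hg
      obtain ⟨f, hf⟩ := exists_linear_ne_one hg
      let χ' : Cfsg.IrrCharacter G := ⟨_, CfsgLib.Char.IsIrrCharacter.linear_mul χ.2 f⟩
      have he : χ' = χ := by
        have : Cfsg.charDegree (χ' : G → ℂ) = Cfsg.charDegree (χ : G → ℂ) := by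
          simp [χ', Cfsg.charDegree]
        exact congrArg Subtype.val (hsub.elim ⟨χ', this ▸ hχ⟩ ⟨χ, hχ⟩)
      have h1 : ((f g : ℂ) - 1) * (χ : G → ℂ) g = 0 := by
        have := congrFun (congrArg Subtype.val he) g
        simp only [χ'] at this
        rw [sub_mul, one_mul, this, sub_self]
      exact (mul_eq_zero.mp h1).resolve_left
        (sub_ne_zero.mpr fun e => hf (Units.ext (by rw [e, Units.val_one])))
    have hcol : ∀ g : G, ((commutator G).index : ℝ) + Complex.normSq ((χ : G → ℂ) g) =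
        Nat.card (Subgroup.centralizer ({g} : Set G)) := fun g => by
      rw [← column_split g, hfil, Finset.sum_singleton]
    have hcard : Nat.card G = (commutator G).index + Cfsg.charDegree (χ : G → ℂ) ^ 2 := by
      have h1 := hcol 1
      rw [CfsgLib.Blk83.one_eq, Complex.normSq_natCast,
        show Subgroup.centralizer ({1} : Set G) = ⊤ by
          ext y; simp [Subgroup.mem_centralizer_singleton_iff],
        Subgroup.card_top] at h1
      rw [sq]
      exact_mod_cast h1.symm
    obtain ⟨n, hn⟩ := IsPGroup.iff_card.mp hG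
    obtain ⟨m, -, hm⟩ := (Nat.dvd_prime_pow (Fact.out : p.Prime)).mp
      (hn ▸ (commutator G).index_dvd_card)
    obtain ⟨k, -, hk⟩ := (Nat.dvd_prime_pow (Fact.out : p.Prime)).mp
      (hn ▸ CfsgLib.Blk83.deg_dvd χ)
    rw [hn, hm, hk, ← pow_mul] at hcard
    obtain ⟨rfl, -, hnm⟩ := pow_add_pow (Fact.out : p.Prime) hcard
    have hG' : Nat.card (commutator G) = 2 := by
      have h1 := (commutator G).card_mul_index
      rw [hn, hm, hnm, pow_succ, mul_comm _ 2] at h1
      exact Nat.eq_of_mul_eq_mul_right (pow_pos two_pos m) h1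
    have hne : commutator G ≠ ⊥ := fun e => by simp [e] at hG'
    have hle : commutator G ≤ Subgroup.center G := by
      have h1 := CfsgLib.Transfer.inf_center_ne_bot (N := commutator G) hne
      have h2 : Nat.card ↥(commutator G ⊓ Subgroup.center G) ∣ 2 :=
        hG' ▸ Subgroup.card_dvd_of_le inf_le_left
      rcases (Nat.dvd_prime Nat.prime_two).mp h2 with h3 | h3
      · exact absurd (Subgroup.eq_bot_of_card_eq _ h3) h1
      · exact inf_eq_left.mp (Subgroup.eq_of_le_of_card_ge inf_le_left (by rw [h3, hG']))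
    have hge : Subgroup.center G ≤ commutator G := by
      intro g hg
      by_contra hg'
      have h1 := hcol g
      rw [hvan g hg', map_zero, add_zero,
        show Subgroup.centralizer ({g} : Set G) = ⊤ by
          ext y; simp [Subgroup.mem_centralizer_singleton_iff, Subgroup.mem_center_iff.mp hg y],
        Subgroup.card_top, Nat.cast_inj, hn, hm, hnm] at h1
      have := Nat.pow_right_injective le_rfl h1
      omega
    have hZ : commutator G = Subgroup.center G := le_antisymm hle hge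
    refine ⟨rfl, ⟨hG, le_antisymm ?_ (hZ ▸ CfsgLib.Transfer.commutator_le_frattini), hZ⟩, hZ ▸ hG'⟩
    refine CfsgLib.Transfer.frattini_le_of_quotient_elementary (p := 2) _ hle fun x => ?_
    rw [Subgroup.mem_center_iff]
    intro y
    have hc : ⁅y, x⁆ ∈ Subgroup.center G :=
      hle (Subgroup.commutator_mem_commutator (Subgroup.mem_top _) (Subgroup.mem_top _))
    have hc2 : ⁅y, x⁆ ^ 2 = 1 := by
      have h1 : (⟨⁅y, x⁆, Subgroup.commutator_mem_commutator (Subgroup.mem_top _)
          (Subgroup.mem_top _)⟩ : commutator G) ^ 2 = 1 := hG' ▸ pow_card_eq_one'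
      exact congrArg Subtype.val h1
    have hyx : y * x = ⁅y, x⁆ * (x * y) := by simp only [commutatorElement_def]; group
    calc y * x ^ 2 = (y * x) * x := by rw [sq, mul_assoc]
      _ = ⁅y, x⁆ * (x * (y * x)) := by
          conv_lhs => rw [hyx]
          simp only [mul_assoc]
      _ = ⁅y, x⁆ * (⁅y, x⁆ * (x * (x * y))) := by
          rw [hyx, ← mul_assoc x ⁅y, x⁆, Subgroup.mem_center_iff.mp hc x, mul_assoc]
      _ = x ^ 2 * y := by rw [← mul_assoc, ← sq, hc2, one_mul, ← mul_assoc, ← sq]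
  · rintro ⟨rfl, ⟨hG, -, hcomm⟩, hcard⟩
    have hcardG : Nat.card G = 2 * (commutator G).index := by
      rw [← (commutator G).card_mul_index, hcomm, hcard]
    have hvan : ∀ g : G, g ∉ Subgroup.center G → ∀ χ : Cfsg.IrrCharacter G,
        Cfsg.charDegree (χ : G → ℂ) ≠ 1 → (χ : G → ℂ) g = 0 := by
      intro g hg χ hχ
      have hlt : 2 * Nat.card (Subgroup.centralizer ({g} : Set G)) ≤ Nat.card G := by
        rw [← (Subgroup.centralizer ({g} : Set G)).card_mul_index, mul_comm]
        refine Nat.mul_le_mul_left _ ((Nat.two_le_iff _).mpr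
          ⟨Subgroup.index_ne_zero_of_finite, fun h1 => hg ?_⟩)
        rw [Subgroup.index_eq_one] at h1
        rw [Subgroup.mem_center_iff]
        intro y
        exact Subgroup.mem_centralizer_singleton_iff.mp (h1 ▸ Subgroup.mem_top y)
      have h1 := column_split g
      have h2 : (Nat.card (Subgroup.centralizer ({g} : Set G)) : ℝ) ≤ (commutator G).index := by
        exact_mod_cast (by omega : Nat.card (Subgroup.centralizer ({g} : Set G)) ≤
          (commutator G).index)
      have h3 := Finset.single_le_sum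
        (s := Finset.univ.filter
          (fun χ : Cfsg.IrrCharacter G => Cfsg.charDegree (χ : G → ℂ) ≠ 1))
        (f := fun χ : Cfsg.IrrCharacter G => Complex.normSq ((χ : G → ℂ) g))
        (fun χ _ => Complex.normSq_nonneg _) (Finset.mem_filter.mpr ⟨Finset.mem_univ χ, hχ⟩)
      exact Complex.normSq_eq_zero.mp (le_antisymm (by linarith) (Complex.normSq_nonneg _))
    set S := Finset.univ.filter
      (fun χ : Cfsg.IrrCharacter G => Cfsg.charDegree (χ : G → ℂ) ≠ 1) with hS
    have hnorm : ∀ χ : Cfsg.IrrCharacter G,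
        ∑ g, Complex.normSq ((χ : G → ℂ) g) = (Nat.card G : ℝ) := fun χ => by
      apply Complex.ofReal_injective
      push_cast
      have h1 := CfsgLib.Char.classInner_irr_self χ.2
      rw [Cfsg.classInner, inv_mul_eq_one₀ (Nat.cast_ne_zero.mpr Nat.card_pos.ne')] at h1
      rw [h1]
      exact Finset.sum_congr rfl fun g _ => (Complex.mul_conj _).symm
    have htot : (S.card : ℝ) * Nat.card G = Nat.card G := by
      calc (S.card : ℝ) * Nat.card G
          = ∑ g, ∑ χ ∈ S, Complex.normSq ((χ : G → ℂ) g) := by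
            rw [Finset.sum_comm, Finset.sum_congr rfl (fun χ _ => hnorm χ), Finset.sum_const,
              nsmul_eq_mul]
        _ = ∑ g ∈ Finset.univ.filter (fun g => g ∈ Subgroup.center G),
              ∑ χ ∈ S, Complex.normSq ((χ : G → ℂ) g) := by
            refine (Finset.sum_subset (Finset.filter_subset _ _) fun g _ hg => ?_).symm
            refine Finset.sum_eq_zero fun χ hχ => ?_
            rw [hvan g (fun h => hg (Finset.mem_filter.mpr ⟨Finset.mem_univ g, h⟩)) χ
              (Finset.mem_filter.mp hχ).2, map_zero]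
        _ = ∑ g ∈ Finset.univ.filter (fun g => g ∈ Subgroup.center G),
              ((commutator G).index : ℝ) := by
            refine Finset.sum_congr rfl fun g hg => ?_
            have h1 := column_split g
            rw [show Subgroup.centralizer ({g} : Set G) = ⊤ by
                  ext y; simp [Subgroup.mem_centralizer_singleton_iff,
                    Subgroup.mem_center_iff.mp (Finset.mem_filter.mp hg).2 y],
              Subgroup.card_top, hcardG] at h1
            push_cast at h1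
            linarith
        _ = (Nat.card G : ℝ) := by
            rw [Finset.sum_const, nsmul_eq_mul,
              ← Fintype.card_subtype (fun g => g ∈ Subgroup.center G), ← Nat.card_eq_fintype_card,
              hcard, hcardG]
            push_cast
            rfl
    have hS1 : S.card = 1 := by
      have h0 : (Nat.card G : ℝ) ≠ 0 := Nat.cast_ne_zero.mpr Nat.card_pos.ne'
      exact_mod_cast (mul_eq_right₀ h0).mp htot
    rw [Nat.card_eq_fintype_card, Fintype.card_subtype, ← hS1, hS]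
    exact congrArg Finset.card (Finset.filter_congr fun χ _ => dvd_degree_iff hG χ)

end Cfsg.Agent.S4762
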