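import Cfsg.Statements.S4768
import Cfsg.Agent.Lib.CharTools.Basic
import Cfsg.Agent.Lib.CharTools.Indicator
import Cfsg.Agent.Lib.Char.Clifford
import Cfsg.Agent.Lib.Char.Conj
import Cfsg.Agent.Lib.PLocal.PSolvable
import Cfsg.Agent.Lib.Solvable.Core
import Cfsg.Agent.Lib.Solvable.CoprimeAction
import Cfsg.Agent.Lib.FGS73.Cover

set_option autoImplicit false
open Cfsg
open scoped ComplexConjugate commutatorElement

namespace Cfsg.Agent.S4768

universe u

open CfsgLib CfsgLib.Char

/-- A type copy on which `G` acts by conjugation. -/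
structure Cj (G : Type u) where
  /-- the element -/
  v : G

noncomputable instance (G : Type u) [Group G] : MulAction G (Cj G) where
  smul g x := ⟨g * x.v * g⁻¹⟩
  one_smul x := by show Cj.mk (1 * x.v * 1⁻¹) = x; simp
  mul_smul a b x := by
    show Cj.mk ((a * b) * x.v * (a * b)⁻¹) = Cj.mk (a * (b * x.v * b⁻¹) * a⁻¹)
    congr 1
    group

/-- Coprime action: fixing every irreducible character means centralising. -/
theorem mem_centralizer_of_forall_fixed {G : Type u} [Group G] [Finite G] (R : Subgroup G) [R.Normal]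
    {x : G} (hcop : (orderOf x).Coprime (Nat.card R))
    (hfix : ∀ θ : Cfsg.IrrCharacter R, CharTwist.conjFun R (θ : R → ℂ) x = θ) :
    x ∈ Subgroup.centralizer (R : Set G) := by
  classical
  cases nonempty_fintype G
  have := Fintype.ofFinite R
  let s : R → R := fun r => (MulAut.conjNormal x : MulAut R) r
  have hs : ∀ θ : R → ℂ, θ ∘ s = CharTwist.conjFun R θ x := fun θ => by
    funext r
    rfl
  have hirr : ∀ θ : R → ℂ, Cfsg.IsIrrCharacter R θ → Cfsg.IsIrrCharacter R (θ ∘ s) := fun θ hθ => by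
    rw [hs]; exact CharTwist.isIrrCharacter_conjFun R hθ x
  have hb := card_fixed_irr_eq_card_fixed_classes s hirr
  have h1 : Nat.card {θ : Cfsg.IrrCharacter R // (θ : R → ℂ) ∘ s = (θ : R → ℂ)} =
      Nat.card (Cfsg.IrrCharacter R) :=
    Nat.card_congr (Equiv.subtypeUnivEquiv fun θ => by rw [hs]; exact hfix θ)
  rw [h1, card_irrCharacter] at hb
  have : Finite (ConjClasses R) := Finite.of_surjective ConjClasses.mk Quotient.mk_surjective
  have hall : ∀ r : R, IsConj (s r) r := fun r => by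
    by_contra hr
    have hlt : Nat.card {C : ConjClasses R // ∀ g : R, ConjClasses.mk g = C → IsConj (s g) g} <
        Nat.card (ConjClasses R) := by
      refine lt_of_le_of_ne (Finite.card_subtype_le _) fun e => ?_
      have := ((Nat.bijective_iff_injective_and_card (Subtype.val (p := fun C : ConjClasses R =>
        ∀ g : R, ConjClasses.mk g = C → IsConj (s g) g))).mpr ⟨Subtype.val_injective, e⟩).2
        (ConjClasses.mk r)
      obtain ⟨⟨C, hC⟩, rfl⟩ := this
      exact hr (hC r rfl)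
    omega
  set C := Subgroup.centralizer ({x} : Set G) with hC
  suffices htop : C.subgroupOf R = ⊤ by
    rw [Subgroup.mem_centralizer_iff]
    intro r hr
    have : (⟨r, hr⟩ : R) ∈ C.subgroupOf R := htop ▸ Subgroup.mem_top _
    exact Subgroup.mem_centralizer_singleton_iff.mp this
  refine FGS73.eq_top_of_forall_conj_mem fun r => ?_
  obtain ⟨w, ⟨k, hk⟩, hwfix⟩ := CfsgLib.Solvable.exists_fixed_point_of_transitive (G := G)
    (A := Subgroup.zpowers x) (K := R)
    (le_trans le_top (Subgroup.normalizer_eq_top (H := R)).ge) (by rwa [Nat.card_zpowers])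
    (Or.inl inferInstance) (Ω := Cj G)
    (S := {w : Cj G | ∃ k : R, Cj.mk ((k : G) * r * (k : G)⁻¹) = w}) ⟨Cj.mk (r : G), 1, by simp⟩
    (by
      rintro a ⟨n, rfl⟩ w ⟨k, rfl⟩
      -- invariance under `x`
      have step : ∀ k' : R, ∃ k'' : R, ((k'' : G) * r * (k'' : G)⁻¹ : G) =
          x * ((k' : G) * r * (k' : G)⁻¹) * x⁻¹ := by
        intro k'
        obtain ⟨t, ht⟩ := isConj_iff.mp (hall r).symm
        refine ⟨⟨x * (k' : G) * x⁻¹, (inferInstance : R.Normal).conj_mem _ k'.2 x⟩ * t, ?_⟩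
        have ht' : (t : G) * r * (t : G)⁻¹ = x * r * x⁻¹ := congrArg Subtype.val ht
        simp only [Subgroup.coe_mul]
        calc x * (k' : G) * x⁻¹ * t * r * (x * (k' : G) * x⁻¹ * t)⁻¹
            = x * (k' : G) * x⁻¹ * (t * r * (t : G)⁻¹) * (x * (k' : G) * x⁻¹)⁻¹ := by group
          _ = x * ((k' : G) * r * (k' : G)⁻¹) * x⁻¹ := by rw [ht']; group
      have stepn : ∀ (m : ℕ) (k' : R), ∃ k'' : R, ((k'' : G) * r * (k'' : G)⁻¹ : G) =
          x ^ m * ((k' : G) * r * (k' : G)⁻¹) * (x ^ m)⁻¹ := by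
        intro m
        induction m with
        | zero => intro k'; exact ⟨k', by simp⟩
        | succ m ih =>
            intro k'
            obtain ⟨k1, h1⟩ := step k'
            obtain ⟨k2, h2⟩ := ih k1
            exact ⟨k2, by rw [h2, h1, pow_succ]; group⟩
      obtain ⟨m, hm⟩ := mem_powers_iff_mem_zpowers.mpr (Subgroup.zpow_mem_zpowers x n)
      have hm' : x ^ m = x ^ n := hm
      obtain ⟨k'', hk''⟩ := stepn m k
      exact ⟨k'', by rw [hk'', hm']; rfl⟩)
    (by
      rintro a ha w ⟨k, rfl⟩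
      exact ⟨⟨a, ha⟩ * k, by
        show _ = Cj.mk (a * ((k : G) * r * (k : G)⁻¹) * a⁻¹)
        congr 1
        simp only [Subgroup.coe_mul]; group⟩)
    (by
      rintro v ⟨k, rfl⟩ w ⟨k', rfl⟩
      refine ⟨(k' : G) * (k : G)⁻¹, mul_mem k'.2 (inv_mem k.2), ?_⟩
      show Cj.mk ((k' : G) * (k : G)⁻¹ * ((k : G) * r * (k : G)⁻¹) * ((k' : G) * (k : G)⁻¹)⁻¹) = _
      congr 1
      group)
  refine ⟨k⁻¹, ?_⟩
  rw [inv_inv, Subgroup.mem_subgroupOf, hC, Subgroup.mem_centralizer_singleton_iff]
  have h2 := hwfix x (Subgroup.mem_zpowers x)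
  rw [← hk] at h2
  have h3 : x * ((k : G) * r * (k : G)⁻¹) * x⁻¹ = (k : G) * r * (k : G)⁻¹ := congrArg Cj.v h2
  simp only [Subgroup.coe_mul, Subgroup.coe_inv]
  exact (mul_inv_eq_iff_eq_mul.mp h3).symm

/-- A character over a given one. -/
theorem exists_over {G : Type u} [Group G] [Finite G] (N : Subgroup G) [N.Normal]
    (θ : Cfsg.IrrCharacter N) :
    ∃ χ : Cfsg.IrrCharacter G,
      (CharTwist.inertia N (θ : N → ℂ)).index * Cfsg.charDegree (θ : N → ℂ) ∣
        Cfsg.charDegree (χ : G → ℂ) ∧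
      ∀ d : N, (θ : N → ℂ) d ≠ (θ : N → ℂ) 1 → (χ : G → ℂ) d ≠ (χ : G → ℂ) 1 := by
  classical
  cases nonempty_fintype G
  have := Fintype.ofFinite N
  have hind := IsCharacter.indFun (H := N) (IsIrrCharacter.isCharacter θ.2)
  obtain ⟨χ, hχ⟩ := CharTools.exists_constituent hind (fun e => by
    have h1 := congrFun e 1
    rw [indFun_apply_one, Pi.zero_apply, mul_eq_zero] at h1
    rcases h1 with h1 | h1
    · exact Subgroup.index_ne_zero_of_finite (Nat.cast_eq_zero.mp h1)
    · exact CharTools.irr_apply_one_ne_zero θ h1)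
  rw [classInner_indFun _ _ _ (IsIrrCharacter.isClassFunction χ.2)] at hχ
  have hne : Cfsg.classInner (fun n : N => (χ : G → ℂ) n) (θ : N → ℂ) ≠ 0 := fun e => hχ (by
    rw [← classInner_conj_symm, e, map_zero])
  have hres := Clifford.isCharacter_res (IsIrrCharacter.isCharacter χ.2) N
  refine ⟨χ, ?_, fun d hd e => hd (CharTools.eq_apply_one_of_constituent hres (k := d) e θ hne)⟩
  obtain ⟨m, hm⟩ := IsCharacter.exists_nat_classInner hres θ.2
  have h := Clifford.apply_one_eq N χ.2 θ.2 hne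
  rw [hm, ← CharTools.irr_degree_cast, ← CharTools.irr_degree_cast] at h
  exact ⟨m, by rw [mul_comm _ m, ← mul_assoc]; exact_mod_cast h⟩

/-- The number of characters of degree divisible by `p` drops in a proper quotient. -/
theorem card_quotient {G : Type u} [Group G] [Finite G] (p : ℕ) (K : Subgroup G) [K.Normal] :
    Nat.card {χ : Cfsg.IrrCharacter (G ⧸ K) // p ∣ Cfsg.charDegree (χ : G ⧸ K → ℂ)} ≤
      Nat.card {χ : Cfsg.IrrCharacter G // p ∣ Cfsg.charDegree (χ : G → ℂ)} ∧
    ((∃ χ : Cfsg.IrrCharacter G, p ∣ Cfsg.charDegree (χ : G → ℂ) ∧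
        ∃ d ∈ K, (χ : G → ℂ) d ≠ (χ : G → ℂ) 1) →
      Nat.card {χ : Cfsg.IrrCharacter (G ⧸ K) // p ∣ Cfsg.charDegree (χ : G ⧸ K → ℂ)} <
        Nat.card {χ : Cfsg.IrrCharacter G // p ∣ Cfsg.charDegree (χ : G → ℂ)}) := by
  cases nonempty_fintype G
  let infl : {χ : Cfsg.IrrCharacter (G ⧸ K) // p ∣ Cfsg.charDegree (χ : G ⧸ K → ℂ)} →
      {χ : Cfsg.IrrCharacter G // p ∣ Cfsg.charDegree (χ : G → ℂ)} := fun ψ =>
    ⟨⟨_, CharTools.isIrrCharacter_comp (QuotientGroup.mk' K) (QuotientGroup.mk'_surjective K) ψ.1.2⟩, by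
      have h1 := ψ.2
      have h2 : Cfsg.charDegree (fun g : G => (ψ.1 : G ⧸ K → ℂ) (QuotientGroup.mk' K g)) =
          Cfsg.charDegree (ψ.1 : G ⧸ K → ℂ) := by
        apply Nat.cast_injective (R := ℂ)
        rw [CharTools.degree_cast (IsIrrCharacter.isCharacter
          (CharTools.isIrrCharacter_comp (QuotientGroup.mk' K) (QuotientGroup.mk'_surjective K) ψ.1.2)),
          CharTools.irr_degree_cast, map_one]
      exact h2 ▸ h1⟩
  have hinj : Function.Injective infl := fun a b e => by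
    refine Subtype.ext (Subtype.ext (funext fun q => ?_))
    obtain ⟨g, rfl⟩ := QuotientGroup.mk_surjective q
    exact congrFun (congrArg (fun χ => ((χ.1 : Cfsg.IrrCharacter G) : G → ℂ)) e) g
  refine ⟨Nat.card_le_card_of_injective infl hinj, ?_⟩
  rintro ⟨χ, hχ, d, hd, hne⟩
  refine lt_of_le_of_ne (Nat.card_le_card_of_injective infl hinj) fun e => ?_
  obtain ⟨ψ, hψ⟩ := ((Nat.bijective_iff_injective_and_card infl).mpr ⟨hinj, e⟩).2 ⟨χ, hχ⟩
  apply hne
  have h1 : ∀ g : G, (ψ.1 : G ⧸ K → ℂ) g = (χ : G → ℂ) g := fun g =>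
    congrFun (congrArg (fun χ => ((χ.1 : Cfsg.IrrCharacter G) : G → ℂ)) hψ) g
  rw [← h1, ← h1, (QuotientGroup.eq_one_iff d).mpr hd, QuotientGroup.mk_one]

theorem aux (p : ℕ) [Fact p.Prime] : ∀ (n : ℕ) {G : Type u} [Group G] [Finite G],
    Nat.card G = n → Cfsg.IsPSolvable p G → ∀ P : Sylow p G,
      derivedSeries ↥(P : Subgroup G)
        (Nat.card {χ : Cfsg.IrrCharacter G // p ∣ Cfsg.charDegree (χ : G → ℂ)} + 1) = ⊥ := by
  intro n
  induction n using Nat.strong_induction_on with
  | _ n IH =>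
  intro G _ _ hn hG P
  classical
  cases nonempty_fintype G
  have hp : p.Prime := Fact.out
  set f := Nat.card {χ : Cfsg.IrrCharacter G // p ∣ Cfsg.charDegree (χ : G → ℂ)} with hf
  -- the inductive step through a normal subgroup
  have step : ∀ (K : Subgroup G) [K.Normal], K ≠ ⊥ →
      (((P : Subgroup G) ⊓ K = ⊥) ∨
        ((∀ a ∈ (P : Subgroup G) ⊓ K, ∀ b ∈ (P : Subgroup G) ⊓ K, a * b = b * a) ∧
          ∃ χ : Cfsg.IrrCharacter G, p ∣ Cfsg.charDegree (χ : G → ℂ) ∧
            ∃ d ∈ K, (χ : G → ℂ) d ≠ (χ : G → ℂ) 1)) →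
      derivedSeries ↥(P : Subgroup G) (f + 1) = ⊥ := by
    intro K _ hK hcase
    have hlt : Nat.card (G ⧸ K) < n := by
      rw [← hn, ← Subgroup.card_mul_index K, Subgroup.index]
      exact lt_mul_of_one_lt_left Nat.card_pos
        (Finite.one_lt_card_iff_nontrivial.mpr ((Subgroup.nontrivial_iff_ne_bot K).mpr hK))
    let Q : Sylow p (G ⧸ K) := P.mapSurjective (QuotientGroup.mk'_surjective K)
    have hQ := IH _ hlt rfl (CfsgLib.PLoc.isPSolvable_of_surjective (QuotientGroup.mk'_surjective K) hG) Q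
    set f' := Nat.card {χ : Cfsg.IrrCharacter (G ⧸ K) // p ∣ Cfsg.charDegree (χ : G ⧸ K → ℂ)}
    let π : (P : Subgroup G) →* (Q : Subgroup (G ⧸ K)) :=
      ((QuotientGroup.mk' K).comp (P : Subgroup G).subtype).codRestrict _ fun x =>
        ⟨x, x.2, rfl⟩
    have hle : derivedSeries ↥(P : Subgroup G) (f' + 1) ≤ K.subgroupOf (P : Subgroup G) := by
      intro x hx
      have := map_derivedSeries_le_derivedSeries π (f' + 1) ⟨x, hx, rfl⟩
      rw [hQ, Subgroup.mem_bot] at this
      exact (QuotientGroup.eq_one_iff (x : G)).mp (congrArg Subtype.val this)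
    rcases hcase with h0 | ⟨hab, hχ⟩
    · rw [eq_bot_iff]
      intro x hx
      have := hle (derivedSeries_antitone _ (Nat.succ_le_succ (card_quotient p K).1) hx)
      exact Subtype.ext (by simpa using h0.le ⟨x.2, this⟩)
    · have h2 : f' + 2 ≤ f + 1 := by have := (card_quotient p K).2 hχ; omega
      rw [eq_bot_iff]
      refine (derivedSeries_antitone _ h2).trans ?_
      rw [derivedSeries_succ, Subgroup.commutator_le]
      intro a ha b hb
      rw [Subgroup.mem_bot, commutatorElement_eq_one_iff_mul_comm]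
      exact Subtype.ext (hab a ⟨a.2, hle ha⟩ b ⟨b.2, hle hb⟩)
  have hOp' := CfsgLib.Solvable.pPrimeCore_normal p G
  by_cases hR : Cfsg.pPrimeCore p G = ⊥
  swap
  · refine step _ hR (Or.inl (Subgroup.inf_eq_bot_of_coprime ?_))
    obtain ⟨k, hk⟩ := IsPGroup.iff_card.mp P.2
    rw [hk]
    exact Nat.Coprime.pow_left k (CfsgLib.Solvable.pPrimeCore_card_coprime p G).symm
  have hOp := CfsgLib.Solvable.pCore_normal p G
  set M := Cfsg.pCore p G with hM
  have hMp : IsPGroup p M := CfsgLib.Solvable.pCore_isPGroup p G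
  have hMP : M ≤ (P : Subgroup G) := CfsgLib.Solvable.pCore_le_sylow P
  by_cases hM1 : M = ⊥
  · have h1 := CfsgLib.PLoc.centralizer_pCore_le_self hG hR
    rw [← hM, hM1] at h1
    rw [eq_bot_iff]
    intro x _
    exact Subgroup.mem_bot.mpr (Subtype.ext (Subgroup.mem_bot.mp (h1 (Subgroup.mem_centralizer_iff.mpr
      fun y hy => by rw [Subgroup.mem_bot.mp hy, one_mul, mul_one]))))
  by_cases hMc : ∀ a b : M, a * b = b * a
  · by_cases hPM : (P : Subgroup G) ≤ M
    · rw [eq_bot_iff]
      refine (derivedSeries_antitone _ (Nat.succ_le_succ (Nat.zero_le f))).trans ?_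
      rw [derivedSeries_succ, Subgroup.commutator_le]
      intro a _ b _
      rw [Subgroup.mem_bot, commutatorElement_eq_one_iff_mul_comm]
      exact Subtype.ext (congrArg (fun m : M => (m : G)) (hMc ⟨a, hPM a.2⟩ ⟨b, hPM b.2⟩))
    set Gb := G ⧸ M
    have hGb : Cfsg.IsPSolvable p Gb :=
      CfsgLib.PLoc.isPSolvable_of_surjective (QuotientGroup.mk'_surjective M) hG
    have hOb : Cfsg.pCore p Gb = ⊥ := CfsgLib.Solvable.pCore_quotient_eq_bot M hM
    have hRn := CfsgLib.Solvable.pPrimeCore_normal p Gb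
    set R := Cfsg.pPrimeCore p Gb with hRdef
    have hRc : (Nat.card R).Coprime p := CfsgLib.Solvable.pPrimeCore_card_coprime p Gb
    have hOb' : Cfsg.pPrimeCore p (Gb ⧸ R) = ⊥ := CfsgLib.Solvable.pPrimeCore_quotient_eq_bot R hRdef
    -- the next term of the upper series
    have hSn := CfsgLib.Solvable.pCore_normal p (Gb ⧸ R)
    set S := (Cfsg.pCore p (Gb ⧸ R)).comap (QuotientGroup.mk' R) with hS
    have hpGb : p ∣ Nat.card Gb := by
      by_contra hnd
      refine hPM fun x hx => (QuotientGroup.eq_one_iff x).mp ?_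
      obtain ⟨k, hk⟩ := P.2 ⟨x, hx⟩
      have hk' : x ^ p ^ k = 1 := congrArg Subtype.val hk
      rw [← orderOf_eq_one_iff]
      refine Nat.eq_one_of_dvd_coprimes (Nat.Coprime.pow_left k (hp.coprime_iff_not_dvd.mpr hnd))
        (orderOf_dvd_of_pow_eq_one ?_) (orderOf_dvd_natCard _)
      rw [← QuotientGroup.mk_pow, hk', QuotientGroup.mk_one]
    have hSp : p ∣ Nat.card S := by
      by_contra hnd
      have hbot : Cfsg.pCore p (Gb ⧸ R) = ⊥ := by
        refine Subgroup.eq_bot_of_card_eq _ ?_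
        obtain ⟨k, hk⟩ := CfsgLib.Solvable.card_pCore (p := p) (G := Gb ⧸ R)
        rcases Nat.eq_zero_or_pos k with rfl | hk0
        · simpa using hk
        · refine absurd ((dvd_pow_self p hk0.ne').trans (dvd_trans hk.symm.dvd ?_)) hnd
          rw [← Subgroup.map_comap_eq_self_of_surjective (QuotientGroup.mk'_surjective R)
            (Cfsg.pCore p (Gb ⧸ R))]
          exact Subgroup.card_map_dvd _ _
      have h1 := CfsgLib.PLoc.centralizer_pCore_le_self
        (CfsgLib.PLoc.isPSolvable_of_surjective (QuotientGroup.mk'_surjective R) hGb) hOb'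
      rw [hbot] at h1
      have htriv : ∀ g : Gb ⧸ R, g = 1 := fun g => Subgroup.mem_bot.mp (h1
        (Subgroup.mem_centralizer_iff.mpr fun y hy => by rw [Subgroup.mem_bot.mp hy, one_mul, mul_one]))
      have hRtop : R = ⊤ := eq_top_iff.mpr fun g _ => (QuotientGroup.eq_one_iff g).mp (htriv _)
      rw [hRtop, Subgroup.card_top] at hRc
      exact hp.coprime_iff_not_dvd.mp hRc.symm hpGb
    obtain ⟨⟨x, hxS⟩, hxo⟩ := exists_prime_orderOf_dvd_card' (G := S) p hSp
    rw [Subgroup.orderOf_mk] at hxo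
    obtain ⟨θ, hθ⟩ : ∃ θ : Cfsg.IrrCharacter R, x ∉ CharTwist.inertia R (θ : R → ℂ) := by
      by_contra hcon
      push Not at hcon
      have hxR : x ∈ R := CfsgLib.PLocal.centralizer_pPrimeCore_le_self hGb hOb
        (mem_centralizer_of_forall_fixed R (by rw [hxo]; exact hRc.symm) hcon)
      have := Subgroup.orderOf_dvd_natCard R hxR
      rw [hxo] at this
      exact hp.coprime_iff_not_dvd.mp hRc.symm this
    set T := CharTwist.inertia R (θ : R → ℂ) with hT
    have hRT : R ≤ T := CharTwist.le_inertia R (IsIrrCharacter.isClassFunction θ.2)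
    have hTp : p ∣ T.index := by
      by_contra hnd
      apply hθ
      have h1 : T.relIndex (S ⊔ T) = T.relIndex S := by
        have e1 := Subgroup.relIndex_mul_relIndex (S ⊓ T) T (S ⊔ T) inf_le_right le_sup_right
        have e2 := Subgroup.relIndex_mul_relIndex (S ⊓ T) S (S ⊔ T) inf_le_left le_sup_left
        rw [Subgroup.inf_relIndex_right] at e1
        rw [Subgroup.inf_relIndex_left, Subgroup.relIndex_sup_left, mul_comm] at e2
        rw [← e2] at e1
        exact Nat.eq_of_mul_eq_mul_left (Nat.pos_of_ne_zero Subgroup.index_ne_zero_of_finite) e1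
      have h2 : T.relIndex S ∣ T.index := h1 ▸ Subgroup.relIndex_dvd_index_of_le le_sup_right
      have h3 : T.relIndex S ∣ R.relIndex S := Subgroup.relIndex_dvd_of_le_left S hRT
      have h4 : R.relIndex S = Nat.card (Cfsg.pCore p (Gb ⧸ R)) := by
        conv_lhs => rw [← QuotientGroup.ker_mk' R, ← MonoidHom.comap_bot, Subgroup.relIndex_comap,
          hS, Subgroup.map_comap_eq_self_of_surjective (QuotientGroup.mk'_surjective R),
          Subgroup.relIndex_bot_left]
      obtain ⟨k, hk⟩ := CfsgLib.Solvable.card_pCore (p := p) (G := Gb ⧸ R)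
      rw [h4, hk] at h3
      have h5 : T.relIndex S = 1 := Nat.eq_one_of_dvd_coprimes
        (Nat.Coprime.pow_left k (hp.coprime_iff_not_dvd.mpr hnd)) h3 h2
      exact Subgroup.relIndex_eq_one.mp h5 hxS
    obtain ⟨χ, hdeg, hker⟩ := exists_over R θ
    have hd : ∃ d : R, (θ : R → ℂ) d ≠ (θ : R → ℂ) 1 := by
      by_contra hcon
      push Not at hcon
      refine hθ (CharTwist.mem_inertia.mpr (funext fun n => ?_))
      show (θ : R → ℂ) _ = _
      rw [hcon, hcon n]
    obtain ⟨⟨d, hdR⟩, hd⟩ := hd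
    let ψ : Cfsg.IrrCharacter G :=
      ⟨_, CharTools.isIrrCharacter_comp (QuotientGroup.mk' M) (QuotientGroup.mk'_surjective M) χ.2⟩
    have hψ : Cfsg.charDegree (ψ : G → ℂ) = Cfsg.charDegree (χ : Gb → ℂ) := by
      apply Nat.cast_injective (R := ℂ)
      rw [CharTools.irr_degree_cast, CharTools.irr_degree_cast]
      exact congrArg (χ : Gb → ℂ) (map_one (QuotientGroup.mk' M))
    refine step (R.comap (QuotientGroup.mk' M)) ?_ (Or.inr ⟨?_, ψ,
      hψ ▸ (hTp.trans ((Dvd.intro _ rfl).trans hdeg)), ?_⟩)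
    · intro e
      exact hM1 (le_bot_iff.mp (e ▸ (QuotientGroup.ker_mk' M).ge.trans (MonoidHom.ker_le_comap _ _)))
    · rintro a ⟨haP, haR⟩ b ⟨hbP, hbR⟩
      have hin : ∀ a ∈ (P : Subgroup G), a ∈ R.comap (QuotientGroup.mk' M) → a ∈ M := by
        intro a ha haR
        obtain ⟨k, hk⟩ := P.2 ⟨a, ha⟩
        have hk' : a ^ p ^ k = 1 := congrArg Subtype.val hk
        refine (QuotientGroup.eq_one_iff a).mp (orderOf_eq_one_iff.mp ?_)
        refine Nat.eq_one_of_dvd_coprimes (Nat.Coprime.pow_left k hRc.symm)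
          (orderOf_dvd_of_pow_eq_one ?_) (Subgroup.orderOf_dvd_natCard R haR)
        rw [← QuotientGroup.mk_pow, hk', QuotientGroup.mk_one]
      exact congrArg Subtype.val (hMc ⟨a, hin a haP haR⟩ ⟨b, hin b hbP hbR⟩)
    · obtain ⟨g, rfl⟩ := QuotientGroup.mk_surjective d
      exact ⟨g, hdR, hker ⟨_, hdR⟩ hd⟩
  · -- nonabelian core
    have hMs : Group.IsSolvable M := @IsNilpotent.to_isSolvable _ _ hMp.isNilpotent
    have hex : ∃ k, derivedSeries M k = ⊥ := Group.IsSolvable.solvable
    obtain ⟨k, hk, hk1⟩ : ∃ k, derivedSeries M (k + 1) ≠ ⊥ ∧ derivedSeries M (k + 2) = ⊥ := by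
      by_contra hcon
      push Not at hcon
      obtain ⟨m, hm⟩ := hex
      have : ∀ j, derivedSeries M (j + 1) ≠ ⊥ := by
        intro j
        induction j with
        | zero =>
            intro e
            apply hMc
            intro a b
            have hab : ⁅a, b⁆ ∈ derivedSeries M 1 := by
              rw [derivedSeries_succ, derivedSeries_zero]
              exact Subgroup.commutator_mem_commutator (Subgroup.mem_top a) (Subgroup.mem_top b)
            rw [show derivedSeries M 1 = ⊥ from e, Subgroup.mem_bot,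
              commutatorElement_eq_one_iff_mul_comm] at hab
            exact hab
        | succ j ih => exact hcon j ih
      exact this m (eq_bot_iff.mpr (hm ▸ derivedSeries_antitone _ (Nat.le_succ m)))
    set D := (derivedSeries M (k + 1)).map M.subtype with hD
    have hDn : D.Normal := inferInstance
    have hD1 : D ≠ ⊥ := by
      rw [hD, Ne, Subgroup.map_eq_bot_iff_of_injective _ M.subtype_injective]
      exact hk
    obtain ⟨⟨d, hdk⟩, hd1⟩ := (Subgroup.ne_bot_iff_exists_ne_one (H := derivedSeries M (k + 1))).mp hk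
    have := Fintype.ofFinite M
    obtain ⟨θ, hθ⟩ : ∃ θ : Cfsg.IrrCharacter M, (θ : M → ℂ) d ≠ (θ : M → ℂ) 1 := by
      by_contra hcon
      push Not at hcon
      exact hd1 (Subtype.ext (isConj_one_left.mp
        (isConj_of_forall_eq fun χ hχ => hcon ⟨χ, hχ⟩)))
    have hpθ : p ∣ Cfsg.charDegree (θ : M → ℂ) := by
      obtain ⟨m, hm⟩ := IsPGroup.iff_card.mp hMp
      obtain ⟨l, -, hl⟩ := (Nat.dvd_prime_pow hp).mp (hm ▸ CharTools.degree_dvd_card θ)
      rcases Nat.eq_zero_or_pos l with rfl | hl0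
      · exfalso
        have h1 : (θ : M → ℂ) 1 = 1 := by rw [← CharTools.irr_degree_cast, hl, pow_zero, Nat.cast_one]
        obtain ⟨lam, hlam⟩ := IsCharacter.exists_linear (IsIrrCharacter.isCharacter θ.2) h1
        have hle : derivedSeries M (k + 1) ≤ lam.ker := by
          refine (derivedSeries_antitone _ (Nat.le_add_left 1 k)).trans ?_
          rw [derivedSeries_one]
          exact Abelianization.commutator_subset_ker lam
        apply hθ
        rw [hlam, h1, MonoidHom.mem_ker.mp (hle hdk), Units.val_one]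
      · exact hl ▸ dvd_pow_self p hl0.ne'
    obtain ⟨χ, hdeg, hker⟩ := exists_over M θ
    refine step D hD1 (Or.inr ⟨?_, χ, hpθ.trans ((dvd_mul_left _ _).trans hdeg), (d : G),
      ⟨d, hdk, rfl⟩, hker d hθ⟩)
    rintro _ ⟨-, ⟨a, ha, rfl⟩⟩ _ ⟨-, ⟨b, hb, rfl⟩⟩
    have hab : ⁅a, b⁆ ∈ derivedSeries M (k + 2) := by
      rw [derivedSeries_succ]; exact Subgroup.commutator_mem_commutator ha hb
    rw [hk1, Subgroup.mem_bot, commutatorElement_eq_one_iff_mul_comm] at hab
    exact congrArg Subtype.val hab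

/-- Let p be a prime, G a finite p-solvable group and P a Sylow p-subgroup of G. If n is the number of irreducible complex characters of G whose degree is divisible by p, then the (n+1)-st term of the derived series of P is trivial. (The p-solvable case has a direct inductive proof.) -/
theorem result {G : Type*} [Group G] [Finite G] (p : ℕ) [Fact p.Prime] (hG : Cfsg.IsPSolvable p G) (P : Sylow p G) : derivedSeries ↥(P : Subgroup G) (Nat.card {χ : Cfsg.IrrCharacter G // p ∣ Cfsg.charDegree (χ : G → ℂ)} + 1) = ⊥ :=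
  aux p _ rfl hG P

end Cfsg.Agent.S4768
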