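import Cfsg.Statements.S4845
import Cfsg.Agent.Lib.CharTools.Basic
import Cfsg.Agent.Lib.Char.CentralOver
import Cfsg.Agent.Lib.Gagola.TransitiveSolvable
import Cfsg.Agent.Lib.PGroup.Basic

set_option autoImplicit false
open Cfsg
open scoped ComplexConjugate commutatorElement

namespace Cfsg.Agent.S4845

universe u

open CfsgLib CfsgLib.Char

/-- The property studied. -/
def EqGal (P : Type u) [Group P] : Prop :=
  ∀ χ ψ : Cfsg.IrrCharacter P, Cfsg.charDegree (χ : P → ℂ) ≠ 1 →
    Cfsg.charDegree (χ : P → ℂ) = Cfsg.charDegree (ψ : P → ℂ) →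
    ∃ k : ℕ, Nat.Coprime k (Nat.card P) ∧ ∀ g : P, (ψ : P → ℂ) g = (χ : P → ℂ) (g ^ k)

section

variable {P : Type u} [Group P] [Finite P] {p : ℕ}

theorem linear_ker (χ : Cfsg.IrrCharacter P) (h : Cfsg.charDegree (χ : P → ℂ) = 1) {c : P}
    (hc : c ∈ commutator P) : (χ : P → ℂ) c = (χ : P → ℂ) 1 := by
  have h1 : (χ : P → ℂ) 1 = 1 := by rw [← CharTools.irr_degree_cast, h, Nat.cast_one]
  obtain ⟨lam, hlam⟩ := IsCharacter.exists_linear (IsIrrCharacter.isCharacter χ.2) h1
  rw [hlam, hlam, MonoidHom.mem_ker.mp (Abelianization.commutator_subset_ker lam hc), map_one]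

theorem exists_nonker (χ : Cfsg.IrrCharacter P) (h : Cfsg.charDegree (χ : P → ℂ) ≠ 1) :
    ∃ c ∈ commutator P, (χ : P → ℂ) c ≠ (χ : P → ℂ) 1 := by
  by_contra hcon
  push Not at hcon
  cases nonempty_fintype P
  have := Fintype.ofFinite (P ⧸ commutator P)
  obtain ⟨ψ, hψ⟩ := CharTools.exists_descend (commutator P) χ.2 hcon
  have hab : ∀ a b : P ⧸ commutator P, a * b = b * a := by
    intro a b
    obtain ⟨a, rfl⟩ := QuotientGroup.mk_surjective a
    obtain ⟨b, rfl⟩ := QuotientGroup.mk_surjective b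
    rw [← QuotientGroup.mk_mul, ← QuotientGroup.mk_mul, QuotientGroup.eq,
      show (a * b)⁻¹ * (b * a) = ⁅b⁻¹, a⁻¹⁆ by rw [commutatorElement_def]; group]
    exact Subgroup.commutator_mem_commutator (Subgroup.mem_top _) (Subgroup.mem_top _)
  apply h
  apply Nat.cast_injective (R := ℂ)
  rw [CharTools.irr_degree_cast, ← hψ 1, QuotientGroup.mk_one,
    (CharOver.abelian_irr hab ψ.2).1, Nat.cast_one]

theorem exists_nonlinear (hna : commutator P ≠ ⊥) :
    ∃ χ : Cfsg.IrrCharacter P, Cfsg.charDegree (χ : P → ℂ) ≠ 1 := by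
  by_contra hcon
  push Not at hcon
  cases nonempty_fintype P
  obtain ⟨⟨c, hc⟩, hc1⟩ := (Subgroup.ne_bot_iff_exists_ne_one).mp hna
  exact hc1 (Subtype.ext (isConj_one_left.mp
    (isConj_of_forall_eq fun χ hχ => linear_ker ⟨χ, hχ⟩ (hcon _) hc)))

theorem ker_pow (χ : Cfsg.IrrCharacter P) {x : P} (hx : (χ : P → ℂ) x = (χ : P → ℂ) 1) (k : ℕ) :
    (χ : P → ℂ) (x ^ k) = (χ : P → ℂ) 1 := by
  induction k with
  | zero => rw [pow_zero]
  | succ k ih => rw [pow_succ, CharTools.mul_ker (IsIrrCharacter.isCharacter χ.2) hx, ih]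

/-- If all nonlinear characters have the same degree, a nonlinear one is faithful. -/
theorem faithful_of_same_degree (hE : EqGal P)
    (hdeg : ∀ χ ψ : Cfsg.IrrCharacter P, Cfsg.charDegree (χ : P → ℂ) ≠ 1 →
      Cfsg.charDegree (ψ : P → ℂ) ≠ 1 → Cfsg.charDegree (χ : P → ℂ) = Cfsg.charDegree (ψ : P → ℂ))
    (χ : Cfsg.IrrCharacter P) (hχ : Cfsg.charDegree (χ : P → ℂ) ≠ 1) {x : P}
    (hx : (χ : P → ℂ) x = (χ : P → ℂ) 1) : x = 1 := by
  cases nonempty_fintype P
  have hall : ∀ ψ : Cfsg.IrrCharacter P, Cfsg.charDegree (ψ : P → ℂ) ≠ 1 →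
      (ψ : P → ℂ) x = (ψ : P → ℂ) 1 := by
    intro ψ hψ
    obtain ⟨k, -, hk⟩ := hE χ ψ hχ (hdeg χ ψ hχ hψ)
    rw [hk, hk, one_pow, ker_pow χ hx]
  refine isConj_one_left.mp (isConj_of_forall_eq fun θ hθ => ?_)
  by_cases hlin : Cfsg.charDegree θ = 1
  · have h1 : θ 1 = 1 := by
      rw [← CharTools.degree_cast (IsIrrCharacter.isCharacter hθ), hlin, Nat.cast_one]
    obtain ⟨lam, hlam⟩ := IsCharacter.exists_linear (IsIrrCharacter.isCharacter hθ) h1
    let ψ : Cfsg.IrrCharacter P := ⟨_, IsIrrCharacter.linear_mul χ.2 lam⟩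
    have hψdeg : Cfsg.charDegree (ψ : P → ℂ) = Cfsg.charDegree (χ : P → ℂ) := by
      apply Nat.cast_injective (R := ℂ)
      rw [CharTools.irr_degree_cast, CharTools.irr_degree_cast]
      show (lam 1 : ℂ) * (χ : P → ℂ) 1 = _
      rw [map_one, Units.val_one, one_mul]
    have h2 : (lam x : ℂ) * (χ : P → ℂ) x = (lam 1 : ℂ) * (χ : P → ℂ) 1 := hall ψ (hψdeg ▸ hχ)
    rw [hx] at h2
    rw [hlam, hlam]
    exact mul_right_cancel₀ (CharTools.irr_apply_one_ne_zero χ) h2
  · exact hall ⟨θ, hθ⟩ hlin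

theorem apply_mul_div (χ : Cfsg.IrrCharacter P) {z : P} (hz : z ∈ Subgroup.center P) (g : P) :
    (χ : P → ℂ) (g * z) / (χ : P → ℂ) 1 =
      (χ : P → ℂ) g / (χ : P → ℂ) 1 * ((χ : P → ℂ) z / (χ : P → ℂ) 1) := by
  have h := CharOver.apply_mul_central χ.2 hz g
  have hd := CharTools.irr_apply_one_ne_zero χ
  field_simp
  exact h

theorem apply_pow_div (χ : Cfsg.IrrCharacter P) {z : P} (hz : z ∈ Subgroup.center P) (i : ℕ) :
    (χ : P → ℂ) (z ^ i) / (χ : P → ℂ) 1 = ((χ : P → ℂ) z / (χ : P → ℂ) 1) ^ i := by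
  induction i with
  | zero => rw [pow_zero, pow_zero, div_self (CharTools.irr_apply_one_ne_zero χ)]
  | succ i ih => rw [pow_succ, apply_mul_div χ hz, ih, ← pow_succ]

theorem isCyclic_center (χ : Cfsg.IrrCharacter P)
    (hf : ∀ x : P, (χ : P → ℂ) x = (χ : P → ℂ) 1 → x = 1) : IsCyclic (Subgroup.center P) := by
  let f : Subgroup.center P →* ℂ :=
    { toFun := fun z => (χ : P → ℂ) z / (χ : P → ℂ) 1
      map_one' := div_self (CharTools.irr_apply_one_ne_zero χ)
      map_mul' := fun a b => apply_mul_div χ b.2 a }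
  refine isCyclic_of_subgroup_isDomain f ?_
  rw [injective_iff_map_eq_one]
  intro z hz
  exact Subtype.ext (hf z (by
    have h : (χ : P → ℂ) z / (χ : P → ℂ) 1 = 1 := hz
    rwa [div_eq_one_iff_eq (CharTools.irr_apply_one_ne_zero χ)] at h))

variable [Fact p.Prime]

theorem central_of_prime_normal (hP : IsPGroup p P) {A : Subgroup P} [A.Normal]
    (hA : Nat.card A = p) : A ≤ Subgroup.center P := by
  obtain ⟨z, hzA, hzc, hzo⟩ := CfsgLib.PGroup.exists_central_orderOf_eq hP A (fun e => by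
    rw [e, Subgroup.card_bot] at hA
    exact (Fact.out : p.Prime).one_lt.ne hA)
  have h := Subgroup.eq_of_le_of_card_ge (H := Subgroup.zpowers z) (K := A)
    (Subgroup.zpowers_le.mpr hzA) (by rw [Nat.card_zpowers, hzo, hA])
  rw [← h]
  exact Subgroup.zpowers_le.mpr hzc

/-- With derived subgroup of order `p`, nonlinear characters vanish off the centre. -/
theorem vanish (hP : IsPGroup p P) (hder : Nat.card (commutator P) = p) (χ : Cfsg.IrrCharacter P)
    (hχ : Cfsg.charDegree (χ : P → ℂ) ≠ 1) {g : P} (hg : g ∉ Subgroup.center P) :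
    (χ : P → ℂ) g = 0 := by
  obtain ⟨K, hKn, hK, -⟩ := CharTools.exists_kernel (IsIrrCharacter.isCharacter χ.2)
  obtain ⟨c, hc, hcne⟩ := exists_nonker χ hχ
  have hinf : commutator P ⊓ K = ⊥ := by
    by_contra hne
    have hle : commutator P ≤ K := by
      have hdvd : Nat.card ↥(commutator P ⊓ K) ∣ p :=
        hder ▸ Subgroup.card_dvd_of_le inf_le_left
      rcases (Fact.out : p.Prime).eq_one_or_self_of_dvd _ hdvd with h | h
      · exact absurd (Subgroup.eq_bot_of_card_eq _ h) hne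
      · exact (Subgroup.eq_of_le_of_card_ge inf_le_left (by rw [hder, h])).ge.trans inf_le_right
    exact hcne ((hK c).mp (hle hc))
  rw [Subgroup.mem_center_iff] at hg
  push Not at hg
  obtain ⟨x, hx⟩ := hg
  set d := g⁻¹ * x * g * x⁻¹ with hd
  have hdm : d ∈ commutator P := by
    rw [show d = ⁅g⁻¹, x⁆ by rw [hd, commutatorElement_def]; group]
    exact Subgroup.commutator_mem_commutator (Subgroup.mem_top _) (Subgroup.mem_top _)
  have hd1 : d ≠ 1 := fun e => hx (by
    calc x * g = g * d * x := by rw [hd]; group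
      _ = g * x := by rw [e, mul_one])
  have h1 : (χ : P → ℂ) (g * d) = (χ : P → ℂ) g := by
    rw [show g * d = x * g * x⁻¹ by rw [hd]; group]
    exact IsIrrCharacter.isClassFunction χ.2 g x
  have hne : (χ : P → ℂ) d ≠ (χ : P → ℂ) 1 := fun e => hd1 (by
    have : d ∈ commutator P ⊓ K := ⟨hdm, (hK d).mpr e⟩
    rwa [hinf, Subgroup.mem_bot] at this)
  have h2 := CharOver.apply_mul_central χ.2 (central_of_prime_normal hP hder hdm) g
  rw [h1, mul_eq_mul_left_iff] at h2
  exact h2.resolve_left (Ne.symm hne)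

theorem degree_sq (hP : IsPGroup p P) (hder : Nat.card (commutator P) = p) (χ : Cfsg.IrrCharacter P)
    (hχ : Cfsg.charDegree (χ : P → ℂ) ≠ 1) :
    Cfsg.charDegree (χ : P → ℂ) ^ 2 * Nat.card (Subgroup.center P) = Nat.card P := by
  classical
  cases nonempty_fintype P
  have h1 := classInner_irr_self χ.2
  rw [CharTools.classInner_self_pos] at h1
  have h2 : ((Nat.card P : ℝ))⁻¹ * ∑ g, ‖(χ : P → ℂ) g‖ ^ 2 = 1 := by exact_mod_cast h1
  rw [inv_mul_eq_one₀ (Nat.cast_ne_zero.mpr Nat.card_pos.ne'),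
    ← Finset.sum_subset (Finset.filter_subset (· ∈ Subgroup.center P) Finset.univ) (fun g _ hg => by
      rw [vanish hP hder χ hχ (fun e => hg (Finset.mem_filter.mpr ⟨Finset.mem_univ _, e⟩))]
      simp),
    Finset.sum_congr rfl (fun g hg => by rw [CharTools.norm_apply_center χ (Finset.mem_filter.mp hg).2]),
    Finset.sum_const, nsmul_eq_mul, ← Fintype.card_subtype, ← Nat.card_eq_fintype_card,
    show Nat.card {g // g ∈ Subgroup.center P} = Nat.card (Subgroup.center P) from rfl, mul_comm] at h2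
  exact_mod_cast h2.symm

theorem faithful_of_card_commutator (hE : EqGal P) (hP : IsPGroup p P)
    (hder : Nat.card (commutator P) = p) (χ : Cfsg.IrrCharacter P)
    (hχ : Cfsg.charDegree (χ : P → ℂ) ≠ 1) {x : P} (hx : (χ : P → ℂ) x = (χ : P → ℂ) 1) : x = 1 :=
  faithful_of_same_degree hE (fun a b ha hb =>
    Nat.pow_left_injective two_ne_zero (Nat.eq_of_mul_eq_mul_right Nat.card_pos
      ((degree_sq hP hder a ha).trans (degree_sq hP hder b hb).symm))) χ hχ hx

theorem commutator_ne_bot (hder : Nat.card (commutator P) = p) : commutator P ≠ ⊥ := fun e => by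
  rw [e, Subgroup.card_bot] at hder
  exact (Fact.out : p.Prime).one_lt.ne hder

theorem center_cyclic (hE : EqGal P) (hP : IsPGroup p P) (hder : Nat.card (commutator P) = p) :
    IsCyclic (Subgroup.center P) := by
  obtain ⟨χ, hχ⟩ := exists_nonlinear (commutator_ne_bot hder)
  exact isCyclic_center χ fun x hx => faithful_of_card_commutator hE hP hder χ hχ hx

/-- In a cyclic subgroup the solutions of `x ^ p = 1` lie in any subgroup of order `p`. -/
theorem mem_of_pow_eq_one {Z N : Subgroup P} [IsCyclic Z] (hNZ : N ≤ Z) (hN : Nat.card N = p)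
    {x : P} (hx : x ∈ Z) (hxp : x ^ p = 1) : x ∈ N := by
  classical
  cases nonempty_fintype P
  by_contra hxN
  have h1 := IsCyclic.card_pow_eq_one_le (α := Z) (Fact.out : p.Prime).pos
  let f : Option N → {z : Z // z ^ p = 1} := fun o => match o with
    | none => ⟨⟨x, hx⟩, Subtype.ext hxp⟩
    | some n => ⟨⟨n, hNZ n.2⟩, Subtype.ext (by
        show (n : P) ^ p = 1
        rw [← Subgroup.coe_pow, ← hN, pow_card_eq_one', Subgroup.coe_one])⟩
  have hf : Function.Injective f := by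
    rintro (_ | a) (_ | b) e
    · rfl
    · have e' : x = (b : P) := congrArg (fun z : {z : Z // z ^ p = 1} => ((z.1 : Z) : P)) e
      exact absurd b.2 (e' ▸ hxN)
    · have e' : (a : P) = x := congrArg (fun z : {z : Z // z ^ p = 1} => ((z.1 : Z) : P)) e
      exact absurd a.2 (e' ▸ hxN)
    · have e' : (a : P) = (b : P) := congrArg (fun z : {z : Z // z ^ p = 1} => ((z.1 : Z) : P)) e
      rw [Subtype.ext e']
  have h2 := Nat.card_le_card_of_injective f hf
  rw [Finite.card_option, hN, Nat.card_eq_fintype_card, Fintype.card_subtype] at h2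
  omega

end

section Quotient

variable {P : Type u} [Group P] [Finite P] {p : ℕ} [Fact p.Prime]

theorem pow_eq_one_of_mem {Q : Type u} [Group Q] [Finite Q] {H : Subgroup Q} (hH : Nat.card H = p)
    {x : Q} (hx : x ∈ H) : x ^ p = 1 :=
  orderOf_dvd_iff_pow_eq_one.mp (hH ▸ Subgroup.orderOf_dvd_natCard H hx)

theorem eqGal_quotient (hE : EqGal P) (L : Subgroup P) [L.Normal] : EqGal (P ⧸ L) := by
  intro χ ψ hχ hd
  obtain ⟨k, hk, hg⟩ := hE (CharTools.quotientEquiv L χ).1 (CharTools.quotientEquiv L ψ).1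
    (by rwa [CharTools.charDegree_quotientEquiv])
    (by rwa [CharTools.charDegree_quotientEquiv, CharTools.charDegree_quotientEquiv])
  refine ⟨k, hk.coprime_dvd_right (Subgroup.card_quotient_dvd_card L), fun q => ?_⟩
  obtain ⟨g, rfl⟩ := QuotientGroup.mk_surjective q
  have := hg g
  rwa [CharTools.quotientEquiv_apply, CharTools.quotientEquiv_apply, QuotientGroup.mk_pow] at this

theorem commutator_quotient (L : Subgroup P) [L.Normal] :
    commutator (P ⧸ L) = (commutator P).map (QuotientGroup.mk' L) := by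
  rw [commutator_def, commutator_def, Subgroup.map_commutator,
    Subgroup.map_top_of_surjective _ (QuotientGroup.mk'_surjective L)]

theorem card_map_mk (L N : Subgroup P) [L.Normal] (hLN : L ≤ N) :
    Nat.card (N.map (QuotientGroup.mk' L)) * Nat.card L = Nat.card N := by
  have h1 := Subgroup.relIndex_mul_relIndex ⊥ L N bot_le hLN
  rw [Subgroup.relIndex_bot_left, Subgroup.relIndex_bot_left] at h1
  rw [← h1, mul_comm]
  congr 1
  conv_rhs => rw [← QuotientGroup.ker_mk' L, ← MonoidHom.comap_bot, Subgroup.relIndex_comap,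
    Subgroup.relIndex_bot_left]

/-- Everything about a quotient by a central subgroup of order `p` inside the derived group. -/
theorem quotient_data (hE : EqGal P) (hP : IsPGroup p P) (L : Subgroup P) [L.Normal]
    (hL : Nat.card L = p) (hLN : L ≤ commutator P) (hN : Nat.card (commutator P) = p ^ 2) :
    Nat.card (commutator (P ⧸ L)) = p ∧ IsCyclic (Subgroup.center (P ⧸ L)) ∧
      ∃ χ : Cfsg.IrrCharacter P, Cfsg.charDegree (χ : P → ℂ) ≠ 1 ∧
        (∀ x, (χ : P → ℂ) x = (χ : P → ℂ) 1 ↔ x ∈ L) ∧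
        Cfsg.charDegree (χ : P → ℂ) ^ 2 * Nat.card (Subgroup.center (P ⧸ L)) * p = Nat.card P := by
  have h1 : Nat.card (commutator (P ⧸ L)) = p := by
    have h := card_map_mk L (commutator P) hLN
    rw [← commutator_quotient, hL, hN, sq] at h
    exact Nat.eq_of_mul_eq_mul_right (Fact.out : p.Prime).pos h
  have hQE := eqGal_quotient hE L
  have hQP := hP.to_quotient L
  refine ⟨h1, center_cyclic hQE hQP h1, ?_⟩
  obtain ⟨χ, hχ⟩ := exists_nonlinear (commutator_ne_bot h1)
  refine ⟨(CharTools.quotientEquiv L χ).1, by rwa [CharTools.charDegree_quotientEquiv], fun x => ?_, ?_⟩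
  · rw [CharTools.quotientEquiv_apply, CharTools.quotientEquiv_apply, QuotientGroup.mk_one]
    refine ⟨fun e => (QuotientGroup.eq_one_iff x).mp (faithful_of_card_commutator hQE hQP h1 χ hχ e),
      fun e => by rw [(QuotientGroup.eq_one_iff x).mpr e]⟩
  · rw [CharTools.charDegree_quotientEquiv, degree_sq hQP h1 χ hχ, ← L.index_mul_card, hL,
      Subgroup.index]

theorem pow_p_mem (L : Subgroup P) [L.Normal] (h1 : Nat.card (commutator (P ⧸ L)) = p) {e : P}
    (he : e ∈ commutator P) : e ^ p ∈ L := by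
  rw [← QuotientGroup.eq_one_iff, QuotientGroup.mk_pow]
  have hm : (QuotientGroup.mk e : P ⧸ L) ∈ commutator (P ⧸ L) := by
    rw [commutator_quotient]
    exact ⟨e, he, rfl⟩
  exact orderOf_dvd_iff_pow_eq_one.mp (h1 ▸ Subgroup.orderOf_dvd_natCard _ hm)

omit [Finite P] in
theorem mem_center_quotient (L : Subgroup P) [L.Normal] {x : P} :
    (QuotientGroup.mk x : P ⧸ L) ∈ Subgroup.center (P ⧸ L) ↔ ∀ g : P, x * g * x⁻¹ * g⁻¹ ∈ L := by
  rw [Subgroup.mem_center_iff]
  constructor
  · intro h g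
    rw [← QuotientGroup.eq_one_iff]
    simp only [QuotientGroup.mk_mul, QuotientGroup.mk_inv]
    rw [← h g]; group
  · intro h q
    obtain ⟨g, rfl⟩ := QuotientGroup.mk_surjective q
    have h1 := (QuotientGroup.eq_one_iff _).mpr (h g)
    simp only [QuotientGroup.mk_mul, QuotientGroup.mk_inv] at h1
    exact (mul_inv_eq_iff_eq_mul.mp (mul_inv_eq_one.mp h1)).symm

theorem eq_or_of_le {A N B : Subgroup P} (hN : Nat.card N = p ^ 2) (hA : Nat.card A = p)
    (hAB : A ≤ B) (hBN : B ≤ N) : B = A ∨ B = N := by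
  obtain ⟨i, hi, hB⟩ := (Nat.dvd_prime_pow (Fact.out : p.Prime)).mp (hN ▸ Subgroup.card_dvd_of_le hBN)
  interval_cases i
  · exfalso
    have := Subgroup.card_dvd_of_le hAB
    rw [hA, hB, pow_zero, Nat.dvd_one] at this
    exact (Fact.out : p.Prime).one_lt.ne' this
  · exact Or.inl (Subgroup.eq_of_le_of_card_ge hAB (by rw [hA, hB, pow_one])).symm
  · exact Or.inr (Subgroup.eq_of_le_of_card_ge hBN (by rw [hN, hB]))

theorem not_central_case (hE : EqGal P) (hP : IsPGroup p P)
    (hN : Nat.card (commutator P) = p ^ 2) {a : P} (haN : a ∈ commutator P)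
    (hac : a ∈ Subgroup.center P) (hao : orderOf a = p)
    (hNZ : ¬ commutator P ≤ Subgroup.center P) : False := by
  classical
  cases nonempty_fintype P
  have hp : p.Prime := Fact.out
  set A := Subgroup.zpowers a with hAdef
  have hAZ : A ≤ Subgroup.center P := Subgroup.zpowers_le.mpr hac
  have hAN : A ≤ commutator P := Subgroup.zpowers_le.mpr haN
  have : A.Normal := ⟨fun x hx g => by
    rw [Subgroup.mem_center_iff.mp (hAZ hx) g, mul_inv_cancel_right]; exact hx⟩
  have hA : Nat.card A = p := by rw [hAdef, Nat.card_zpowers, hao]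
  obtain ⟨h1, hcyc, χ₀, hχ₀, hker₀, hdeg₀⟩ := quotient_data hE hP A hA hAN hN
  have hNA : commutator P ⊓ Subgroup.center P = A :=
    (eq_or_of_le hN hA (le_inf hAN hAZ) inf_le_left).resolve_right fun e => hNZ (e ▸ inf_le_right)
  have hQP := hP.to_quotient A
  have hNbar : commutator (P ⧸ A) ≤ Subgroup.center (P ⧸ A) := central_of_prime_normal hQP h1
  have hlift : ∀ e, (QuotientGroup.mk e : P ⧸ A) ∈ commutator (P ⧸ A) → e ∈ commutator P := by
    intro e he
    rw [commutator_quotient] at he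
    obtain ⟨f, hf, hfe⟩ := he
    have h : f⁻¹ * e ∈ A := (QuotientGroup.eq).mp hfe
    simpa using mul_mem hf (hAN h)
  -- the centre is `A`
  have hZA : Subgroup.center P = A := by
    refine le_antisymm (fun z hz => ?_) hAZ
    by_contra hzA
    have hq : (QuotientGroup.mk z : P ⧸ A) ≠ 1 := fun e => hzA ((QuotientGroup.eq_one_iff z).mp e)
    have ho := orderOf_pow_orderOf_div (orderOf_pos (QuotientGroup.mk z : P ⧸ A)).ne' (hQP.dvd_orderOf hq)
    rw [← QuotientGroup.mk_pow] at ho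
    set w := z ^ (orderOf (QuotientGroup.mk z : P ⧸ A) / p) with hw
    have hwc : w ∈ Subgroup.center P := pow_mem hz _
    have hwq : (QuotientGroup.mk w : P ⧸ A) ∈ Subgroup.center (P ⧸ A) :=
      (mem_center_quotient A).mpr fun g => by
        rw [← Subgroup.mem_center_iff.mp hwc g]; simp
    have hwN := mem_of_pow_eq_one hNbar h1 hwq (orderOf_dvd_iff_pow_eq_one.mp ho.dvd)
    have hwA : w ∈ A := hNA ▸ ⟨hlift w hwN, hwc⟩
    rw [(QuotientGroup.eq_one_iff w).mpr hwA, orderOf_one] at ho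
    exact hp.one_lt.ne ho
  -- the centre of the quotient has order `p`
  have hZQ : Subgroup.center (P ⧸ A) = commutator (P ⧸ A) := by
    refine le_antisymm (fun q hq => ?_) hNbar
    obtain ⟨z, rfl⟩ := QuotientGroup.mk_surjective q
    refine mem_of_pow_eq_one hNbar h1 hq ?_
    rw [← QuotientGroup.mk_pow, QuotientGroup.eq_one_iff, ← hZA, Subgroup.mem_center_iff]
    intro g
    have hc := (mem_center_quotient A).mp hq g
    have h2 := CfsgLib.Gagola.conj_pow_left (x := z) (y := g) (c := z * g * z⁻¹ * g⁻¹) (by group)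
      ((show Commute (z * g * z⁻¹ * g⁻¹) z from (Subgroup.mem_center_iff.mp (hAZ hc) z).symm)) p
    rw [pow_eq_one_of_mem hA hc, one_mul,
      mul_inv_eq_iff_eq_mul] at h2
    exact h2.symm
  rw [hZQ, h1] at hdeg₀
  -- exponent
  have hexp : ∀ x : P, x ^ p ^ 3 = 1 := by
    intro x
    have hq : (QuotientGroup.mk (x ^ p) : P ⧸ A) ∈ Subgroup.center (P ⧸ A) := by
      rw [Subgroup.mem_center_iff]
      intro q
      obtain ⟨g, rfl⟩ := QuotientGroup.mk_surjective q
      set X := (QuotientGroup.mk x : P ⧸ A)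
      set Y := (QuotientGroup.mk g : P ⧸ A)
      have hc : X * Y * X⁻¹ * Y⁻¹ ∈ commutator (P ⧸ A) := by
        rw [← commutatorElement_def]
        exact Subgroup.commutator_mem_commutator (Subgroup.mem_top _) (Subgroup.mem_top _)
      have h2 := CfsgLib.Gagola.conj_pow_left (x := X) (y := Y) (c := X * Y * X⁻¹ * Y⁻¹) (by group)
        ((show Commute (X * Y * X⁻¹ * Y⁻¹) X from (Subgroup.mem_center_iff.mp (hNbar hc) X).symm)) p
      rw [pow_eq_one_of_mem h1 hc, one_mul,
        mul_inv_eq_iff_eq_mul] at h2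
      rw [QuotientGroup.mk_pow]
      exact h2.symm
    rw [hZQ] at hq
    have h3 := pow_p_mem A h1 (hlift _ hq)
    have h4 := pow_eq_one_of_mem hA h3
    rw [← h4, ← pow_mul, ← pow_mul]
    ring_nf
  -- degrees
  obtain ⟨e, he⟩ := IsPGroup.iff_card.mp hP
  have hpow : ∀ χ : Cfsg.IrrCharacter P, ∃ m, Cfsg.charDegree (χ : P → ℂ) = p ^ m := fun χ => by
    obtain ⟨m, -, hm⟩ := (Nat.dvd_prime_pow hp).mp (he ▸ CharTools.degree_dvd_card χ)
    exact ⟨m, hm⟩
  choose m hm using hpow
  set n := m χ₀ with hn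
  have hcard : Nat.card P = p ^ (2 * n + 2) := by
    rw [← hdeg₀, hm χ₀, ← pow_mul]; ring
  set S := (Finset.univ : Finset (Cfsg.IrrCharacter P)).filter
    (fun χ : Cfsg.IrrCharacter P => (χ : P → ℂ) a ≠ (χ : P → ℂ) 1) with hS
  have hAker : ∀ χ : Cfsg.IrrCharacter P,
      (χ : P → ℂ) a = (χ : P → ℂ) 1 ↔ ∀ x ∈ A, (χ : P → ℂ) x = (χ : P → ℂ) 1 := by
    intro χ
    refine ⟨fun h x hx => ?_, fun h => h a (Subgroup.mem_zpowers a)⟩
    obtain ⟨k, hk⟩ := mem_powers_iff_mem_zpowers.mpr hx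
    rw [← show a ^ k = x from hk]
    exact ker_pow χ h k
  have hSnl : ∀ χ ∈ S, Cfsg.charDegree (χ : P → ℂ) ≠ 1 := fun χ hχ h =>
    (Finset.mem_filter.mp hχ).2 (linear_ker χ h haN)
  have hSm : ∀ χ ∈ S, m χ < n := by
    intro χ hχ
    have hd := CharTools.degree_sq_mul_le χ (Subgroup.center P) le_rfl
    rw [hZA, hA, hm, hcard, ← pow_mul, ← pow_succ, Nat.pow_le_pow_iff_right hp.one_lt] at hd
    refine lt_of_le_of_ne (by omega) fun e => ?_
    obtain ⟨k, -, hk⟩ := hE χ₀ χ hχ₀ (by rw [hm, hm, e])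
    refine (Finset.mem_filter.mp hχ).2 ?_
    rw [hk, hk, one_pow, ker_pow χ₀ ((hker₀ a).mpr (Subgroup.mem_zpowers a))]
  have hsum : ∑ χ ∈ S, Cfsg.charDegree (χ : P → ℂ) ^ 2 + p ^ (2 * n + 1) = p ^ (2 * n + 2) := by
    rw [← hcard, ← CharTools.sum_degree_sq' (G := P), ← Finset.sum_filter_add_sum_filter_not
      (Finset.univ : Finset (Cfsg.IrrCharacter P)) (fun χ : Cfsg.IrrCharacter P => (χ : P → ℂ) a ≠ (χ : P → ℂ) 1)]
    congr 1
    have hQ : Nat.card (P ⧸ A) = p ^ (2 * n + 1) := by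
      refine Nat.eq_of_mul_eq_mul_right hp.pos ?_
      rw [← pow_succ, ← hcard, ← A.index_mul_card, hA, Subgroup.index]
    rw [← hQ, ← CharTools.sum_degree_sq' (G := P ⧸ A), Finset.sum_subtype
      (p := fun χ : Cfsg.IrrCharacter P => ∀ x ∈ A, (χ : P → ℂ) x = (χ : P → ℂ) 1)
      (F := inferInstance) _ (fun χ => by
        rw [Finset.mem_filter, not_not, ← hAker]; simp)]
    exact Fintype.sum_equiv (CharTools.quotientEquiv A) _ _ fun ψ => by
      rw [CharTools.charDegree_quotientEquiv]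
  -- each degree occurs at most `φ (p ^ 3)` times
  have hfib : ∀ j, (S.filter fun χ => m χ = j).card ≤ p ^ 2 * (p - 1) := by
    intro j
    rcases (S.filter fun χ => m χ = j).eq_empty_or_nonempty with h0 | ⟨χ₁, hχ₁⟩
    · rw [h0]; simp
    have h11 := Finset.mem_filter.mp hχ₁
    have key : ∀ χ ∈ S.filter (fun χ => m χ = j), ∃ k : ℕ, k < p ^ 3 ∧ k.Coprime (p ^ 3) ∧
        ∀ g, (χ : P → ℂ) g = (χ₁ : P → ℂ) (g ^ k) := by
      intro χ hχ
      obtain ⟨k, hk, hg⟩ := hE χ₁ χ (hSnl χ₁ h11.1) (by rw [hm, hm, h11.2, (Finset.mem_filter.mp hχ).2])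
      refine ⟨k % p ^ 3, Nat.mod_lt _ (pow_pos hp.pos 3), ?_, fun g => ?_⟩
      · have h2 : k.Coprime (p ^ 3) := by
          refine Nat.Coprime.pow_right 3 (hk.coprime_dvd_right ?_)
          rw [hcard]
          exact dvd_pow_self p (by omega)
        have hg3 : Nat.gcd (k % p ^ 3) (p ^ 3) = 1 := by
          rw [← Nat.gcd_rec, Nat.gcd_comm]; exact h2
        exact hg3
      · rw [hg g]
        congr 1
        conv_lhs => rw [← Nat.mod_add_div k (p ^ 3), pow_add, pow_mul, hexp, one_pow, mul_one]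
    choose! k hk using key
    have hcardle := Finset.card_le_card_of_injOn k (s := S.filter fun χ => m χ = j)
      (t := (Finset.range (p ^ 3)).filter fun i => (p ^ 3).Coprime i)
      (fun χ hχ => Finset.mem_filter.mpr ⟨Finset.mem_range.mpr (hk χ hχ).1, (hk χ hχ).2.1.symm⟩)
      (fun χ hχ χ' hχ' e => Subtype.ext (funext fun g => by
        rw [(hk χ hχ).2.2, (hk χ' hχ').2.2, e]))
    rw [← Nat.totient_eq_card_coprime, Nat.totient_prime_pow hp (by norm_num)] at hcardle
    exact hcardle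
  have hle : ∑ χ ∈ S, Cfsg.charDegree (χ : P → ℂ) ^ 2 ≤
      (p - 1) * ∑ j ∈ Finset.range n, p ^ (2 * j + 2) := by
    rw [← Finset.sum_fiberwise_of_maps_to (fun χ hχ => Finset.mem_range.mpr (hSm χ hχ)), Finset.mul_sum]
    refine Finset.sum_le_sum fun j _ => ?_
    rw [Finset.sum_congr rfl (fun χ hχ => by rw [hm, (Finset.mem_filter.mp hχ).2]), Finset.sum_const,
      smul_eq_mul]
    calc (S.filter fun χ => m χ = j).card * (p ^ j) ^ 2 ≤ p ^ 2 * (p - 1) * (p ^ j) ^ 2 :=
          Nat.mul_le_mul_right _ (hfib j)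
      _ = (p - 1) * p ^ (2 * j + 2) := by ring
  have hgeom : ∀ n, ∑ j ∈ Finset.range n, p ^ (2 * j + 2) + 1 ≤ p ^ (2 * n + 1) := by
    intro n
    induction n with
    | zero => simpa using hp.one_lt.le
    | succ n ih =>
        rw [Finset.sum_range_succ]
        calc ∑ j ∈ Finset.range n, p ^ (2 * j + 2) + p ^ (2 * n + 2) + 1
            ≤ p ^ (2 * n + 1) + p ^ (2 * n + 2) := by omega
          _ ≤ p ^ (2 * (n + 1) + 1) := by
              rw [show 2 * (n + 1) + 1 = 2 * n + 1 + 2 by ring, show 2 * n + 2 = 2 * n + 1 + 1 by rfl,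
                pow_add _ (2 * n + 1) 1, pow_add _ (2 * n + 1) 2, ← mul_one_add]
              refine Nat.mul_le_mul_left _ ?_
              have := hp.two_le
              calc 1 + p ^ 1 ≤ 2 * p := by rw [pow_one]; omega
                _ ≤ p ^ 2 := by rw [sq]; exact Nat.mul_le_mul_right _ this
  have h2 := Nat.mul_le_mul_left (p - 1) (hgeom n)
  have h3 : (p - 1) * p ^ (2 * n + 1) + p ^ (2 * n + 1) = p ^ (2 * n + 2) := by
    rw [← Nat.succ_mul, show (p - 1).succ = p by have := hp.two_le; omega, ← pow_succ']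
  rw [Nat.mul_add, mul_one] at h2
  have := hp.two_le
  omega

theorem central_case (hE : EqGal P) (hP : IsPGroup p P)
    (hN : Nat.card (commutator P) = p ^ 2) {a : P} (haN : a ∈ commutator P)
    (hac : a ∈ Subgroup.center P) (hao : orderOf a = p)
    (hNZ : commutator P ≤ Subgroup.center P) : False := by
  classical
  cases nonempty_fintype P
  have hp : p.Prime := Fact.out
  have hn : ∀ b : P, b ∈ commutator P → (Subgroup.zpowers b).Normal := fun b hb => ⟨fun x hx g => by
    rw [Subgroup.mem_center_iff.mp (hNZ ((Subgroup.zpowers_le.mpr hb) hx)) g, mul_inv_cancel_right]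
    exact hx⟩
  have hcomm : ∀ x y : P, x * y * x⁻¹ * y⁻¹ ∈ commutator P := fun x y => by
    rw [← commutatorElement_def]
    exact Subgroup.commutator_mem_commutator (Subgroup.mem_top _) (Subgroup.mem_top _)
  -- `x ^ p` commutes modulo the `p`-th powers of the commutators
  have hpw : ∀ x y : P, x ^ p * y * (x ^ p)⁻¹ * y⁻¹ = (x * y * x⁻¹ * y⁻¹) ^ p := by
    intro x y
    rw [CfsgLib.Gagola.conj_pow_left (x := x) (y := y) (c := x * y * x⁻¹ * y⁻¹) (by group)
      (show Commute (x * y * x⁻¹ * y⁻¹) x from (Subgroup.mem_center_iff.mp (hNZ (hcomm x y)) x).symm) p,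
      mul_inv_cancel_right]
  set A := Subgroup.zpowers a with hAdef
  have := hn a haN
  have hAN : A ≤ commutator P := Subgroup.zpowers_le.mpr haN
  have hA : Nat.card A = p := by rw [hAdef, Nat.card_zpowers, hao]
  obtain ⟨h1, hcyc, χ₀, hχ₀, hker₀, hdeg₀⟩ := quotient_data hE hP A hA hAN hN
  have hAc : A ≤ Subgroup.center P := Subgroup.zpowers_le.mpr hac
  by_cases hbig : ∃ x y : P, (x * y * x⁻¹ * y⁻¹) ^ p ≠ 1
  · obtain ⟨x, y, hxy⟩ := hbig
    obtain ⟨⟨z, hz⟩, hgen⟩ := IsCyclic.exists_generator (α := Subgroup.center (P ⧸ A))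
    obtain ⟨z0, rfl⟩ := QuotientGroup.mk_surjective z
    have hrep : ∀ w : P, ∃ i : ℤ, ∃ l ∈ A, w ^ p = z0 ^ i * l := by
      intro w
      have hwq : (QuotientGroup.mk (w ^ p) : P ⧸ A) ∈ Subgroup.center (P ⧸ A) :=
        (mem_center_quotient A).mpr fun g => by rw [hpw]; exact pow_p_mem A h1 (hcomm w g)
      obtain ⟨i, hi⟩ := Subgroup.mem_zpowers_iff.mp (hgen ⟨_, hwq⟩)
      have hi' : ((z0 ^ i : P) : P ⧸ A) = ((w ^ p : P) : P ⧸ A) := by
        rw [QuotientGroup.mk_zpow]; exact congrArg Subtype.val hi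
      exact ⟨i, _, QuotientGroup.eq.mp hi', (mul_inv_cancel_left (z0 ^ i) (w ^ p)).symm⟩
    have hz0p : z0 ^ p ∈ Subgroup.center P := by
      rw [Subgroup.mem_center_iff]
      intro g
      have h2 := hpw z0 g
      rw [pow_eq_one_of_mem hA ((mem_center_quotient A).mp hz g), mul_inv_eq_one, mul_inv_eq_iff_eq_mul] at h2
      exact h2.symm
    obtain ⟨i, l, hl, hxi⟩ := hrep x
    obtain ⟨j, l', hl', hyj⟩ := hrep y
    have hne : ¬ Commute x (y ^ p) := fun hc => hxy (by
      rw [← inv_eq_one, ← inv_pow]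
      calc ((x * y * x⁻¹ * y⁻¹)⁻¹) ^ p = (y * x * y⁻¹ * x⁻¹) ^ p := by congr 1; group
        _ = y ^ p * x * (y ^ p)⁻¹ * x⁻¹ := (hpw y x).symm
        _ = 1 := by rw [← hc.eq]; group)
    have hxc : x ^ p ∉ Subgroup.center P := fun hc => hxy (by
      rw [← hpw x y, ← Subgroup.mem_center_iff.mp hc y]; group)
    have hi : ¬ (p : ℤ) ∣ i := by
      rintro ⟨t, rfl⟩
      apply hxc
      rw [hxi, zpow_mul, zpow_natCast]
      exact mul_mem (zpow_mem hz0p t) (hAc hl)
    have hxz : Commute x (z0 ^ i) := by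
      have h2 : z0 ^ i = x ^ p * l⁻¹ := by rw [hxi, mul_inv_cancel_right]
      rw [h2]
      exact ((Commute.refl x).pow_right p).mul_right
        (show Commute x l⁻¹ from Subgroup.mem_center_iff.mp (inv_mem (hAc hl)) x)
    have hxz0 : Commute x z0 := by
      obtain ⟨u, v, huv⟩ := ((Prime.coprime_iff_not_dvd (Nat.prime_iff_prime_int.mp hp)).mpr hi)
      have h2 : z0 = (z0 ^ p) ^ u * (z0 ^ i) ^ v := by
        rw [← zpow_natCast z0 p, ← zpow_mul, ← zpow_mul, ← zpow_add,
          show (p : ℤ) * u + i * v = 1 by rw [← huv]; ring, zpow_one]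
      rw [h2]
      exact ((show Commute x (z0 ^ p) from Subgroup.mem_center_iff.mp hz0p x).zpow_right u).mul_right
        (hxz.zpow_right v)
    apply hne
    rw [hyj]
    exact (hxz0.zpow_right j).mul_right (Subgroup.mem_center_iff.mp (hAc hl') x)
  push Not at hbig
  have hxp : ∀ x : P, x ^ p ∈ Subgroup.center P := fun x => Subgroup.mem_center_iff.mpr fun g => by
    have h2 := hpw x g
    rw [hbig, mul_inv_eq_one, mul_inv_eq_iff_eq_mul] at h2
    exact h2.symm
  have hNel : ∀ e ∈ commutator P, e ^ p = 1 := by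
    intro e he
    rw [commutator_eq_closure] at he
    have key : ∀ e ∈ Subgroup.closure (commutatorSet P), e ^ p = 1 := by
      intro e he
      induction he using Subgroup.closure_induction with
      | mem x hx =>
          obtain ⟨g, h, rfl⟩ := hx
          rw [commutatorElement_def]
          exact hbig g h
      | one => exact one_pow p
      | mul x y hx hy ihx ihy =>
          rw [(show Commute x y from (Subgroup.mem_center_iff.mp (hNZ
            (by rw [commutator_eq_closure]; exact hy)) x)).mul_pow, ihx, ihy, one_mul]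
      | inv x _ ih => rw [inv_pow, ih, inv_one]
    exact key e he
  obtain ⟨b, hbN, hbA⟩ : ∃ b ∈ commutator P, b ∉ A := by
    by_contra hcon
    push Not at hcon
    have := Subgroup.card_dvd_of_le (H := commutator P) (K := A) hcon
    rw [hN, hA] at this
    have := Nat.le_of_dvd hp.pos this
    have := hp.two_le
    nlinarith
  set B := Subgroup.zpowers b with hBdef
  have := hn b hbN
  have hB : Nat.card B = p := by
    rw [hBdef, Nat.card_zpowers]
    exact orderOf_eq_prime (hNel b hbN) fun e => hbA (e ▸ one_mem A)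
  have hBN : B ≤ commutator P := Subgroup.zpowers_le.mpr hbN
  obtain ⟨h1', hcyc', χ₁, hχ₁, hker₁, hdeg₁⟩ := quotient_data hE hP B hB hBN hN
  have hsize : ∀ (L : Subgroup P) [L.Normal], L ≤ Subgroup.center P → Nat.card L = p →
      IsCyclic (Subgroup.center (P ⧸ L)) →
      ∃ ε ≤ 1, Nat.card (Subgroup.center (P ⧸ L)) * p = p ^ ε * Nat.card (Subgroup.center P) := by
    intro L _ hLc hL hc
    set Z2 := (Subgroup.center (P ⧸ L)).comap (QuotientGroup.mk' L) with hZ2
    have hmem : ∀ x, x ∈ Z2 ↔ (QuotientGroup.mk x : P ⧸ L) ∈ Subgroup.center (P ⧸ L) := fun x => Iff.rfl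
    have hle : Subgroup.center P ≤ Z2 := fun x hx => (hmem x).mpr ((mem_center_quotient L).mpr fun g => by
      rw [← Subgroup.mem_center_iff.mp hx g]; simp)
    have hc2 : Nat.card Z2 = Nat.card (Subgroup.center (P ⧸ L)) * p := by
      rw [← card_map_mk L Z2 (fun x hx => (hmem x).mpr (by
        rw [(QuotientGroup.eq_one_iff x).mpr hx]; exact one_mem _)), hZ2,
        Subgroup.map_comap_eq_self_of_surjective (QuotientGroup.mk'_surjective L), hL]
    obtain ⟨⟨z, hz⟩, hgen⟩ := IsCyclic.exists_generator (α := Subgroup.center (P ⧸ L))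
    obtain ⟨z0, rfl⟩ := QuotientGroup.mk_surjective z
    let f : Fin p → Z2 ⧸ (Subgroup.center P).subgroupOf Z2 := fun i =>
      QuotientGroup.mk ⟨z0 ^ (i : ℕ), pow_mem ((hmem z0).mpr hz) _⟩
    have hf : Function.Surjective f := by
      intro q
      obtain ⟨⟨w, hw⟩, rfl⟩ := QuotientGroup.mk_surjective q
      obtain ⟨i, hi⟩ := mem_powers_iff_mem_zpowers.mpr (hgen ⟨_, (hmem w).mp hw⟩)
      have hi' : ((z0 ^ i : P) : P ⧸ L) = (w : P ⧸ L) := by
        rw [QuotientGroup.mk_pow]; exact congrArg Subtype.val hi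
      refine ⟨⟨i % p, Nat.mod_lt _ hp.pos⟩, QuotientGroup.eq.mpr ?_⟩
      rw [Subgroup.mem_subgroupOf]
      show (z0 ^ (i % p))⁻¹ * w ∈ Subgroup.center P
      have h2 : w = z0 ^ (i % p) * ((z0 ^ p) ^ (i / p) * ((z0 ^ i)⁻¹ * w)) := by
        rw [← mul_assoc, ← pow_mul, ← pow_add, Nat.mod_add_div, mul_inv_cancel_left]
      rw [h2, inv_mul_cancel_left]
      exact mul_mem (pow_mem (hxp z0) _) (hLc (QuotientGroup.eq.mp hi'))
    have hle' := Nat.card_le_card_of_surjective f hf
    rw [Nat.card_fin] at hle'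
    obtain ⟨k, hk⟩ := IsPGroup.iff_card.mp ((hP.to_subgroup Z2).to_quotient ((Subgroup.center P).subgroupOf Z2))
    rw [hk] at hle'
    have hk1 : k ≤ 1 := (Nat.pow_le_pow_iff_right hp.one_lt).mp (hle'.trans_eq (pow_one p).symm)
    refine ⟨k, hk1, ?_⟩
    rw [← hc2, ← ((Subgroup.center P).subgroupOf Z2).index_mul_card, Subgroup.index, hk,
      Nat.card_congr (Subgroup.subgroupOfEquivOfLe hle).toEquiv]
  obtain ⟨ε, hε, e0⟩ := hsize A hAc hA hcyc
  obtain ⟨ε', hε', e1⟩ := hsize B (Subgroup.zpowers_le.mpr (hNZ hbN)) hB hcyc'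
  rw [mul_assoc, e0] at hdeg₀
  rw [mul_assoc, e1, ← hdeg₀, ← mul_assoc, ← mul_assoc] at hdeg₁
  have h5 := Nat.eq_of_mul_eq_mul_right Nat.card_pos hdeg₁
  obtain ⟨e, he⟩ := IsPGroup.iff_card.mp hP
  obtain ⟨m0, -, hm0⟩ := (Nat.dvd_prime_pow hp).mp (he ▸ CharTools.degree_dvd_card χ₀)
  obtain ⟨m1, -, hm1⟩ := (Nat.dvd_prime_pow hp).mp (he ▸ CharTools.degree_dvd_card χ₁)
  rw [hm0, hm1, ← pow_mul, ← pow_mul, ← pow_add, ← pow_add] at h5
  have h6 := Nat.pow_right_injective hp.two_le h5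
  have hdeq : Cfsg.charDegree (χ₀ : P → ℂ) = Cfsg.charDegree (χ₁ : P → ℂ) := by
    rw [hm0, hm1, show m0 = m1 by omega]
  obtain ⟨k, -, hk⟩ := hE χ₀ χ₁ hχ₀ hdeq
  have haB : a ∈ B := (hker₁ a).mp (by
    rw [hk, hk, one_pow, ker_pow χ₀ ((hker₀ a).mpr (Subgroup.mem_zpowers a))])
  have hBA : A = B := Subgroup.eq_of_le_of_card_ge (Subgroup.zpowers_le.mpr haB) (by rw [hA, hB])
  exact hbA (hBA ▸ Subgroup.mem_zpowers b)

theorem card_commutator_eq : ∀ (n : ℕ) {P : Type u} [Group P] [Finite P], Nat.card P = n →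
    EqGal P → IsPGroup p P → commutator P ≠ ⊥ → Nat.card (commutator P) = p := by
  intro n
  induction n using Nat.strong_induction_on with
  | _ n IH =>
  intro P _ _ hn hE hP hna
  obtain ⟨a, haN, hac, hao⟩ := CfsgLib.PGroup.exists_central_orderOf_eq hP (commutator P) hna
  set A := Subgroup.zpowers a with hAdef
  have : A.Normal := ⟨fun x hx g => by
    rw [Subgroup.mem_center_iff.mp ((Subgroup.zpowers_le.mpr hac) hx) g, mul_inv_cancel_right]; exact hx⟩
  have hA : Nat.card A = p := by rw [hAdef, Nat.card_zpowers, hao]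
  have hAN : A ≤ commutator P := Subgroup.zpowers_le.mpr haN
  by_cases hle : commutator P ≤ A
  · rw [← hA, le_antisymm hle hAN]
  exfalso
  have hlt : Nat.card (P ⧸ A) < n := by
    rw [← hn, ← A.card_mul_index, Subgroup.index, hA]
    exact lt_mul_of_one_lt_left Nat.card_pos (Fact.out : p.Prime).one_lt
  have h1 := IH _ hlt rfl (eqGal_quotient hE A) (hP.to_quotient A) (fun e => hle (by
    rw [commutator_quotient, Subgroup.map_eq_bot_iff, QuotientGroup.ker_mk'] at e
    exact e))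
  have hN : Nat.card (commutator P) = p ^ 2 := by
    rw [← card_map_mk A (commutator P) hAN, ← commutator_quotient, h1, hA, sq]
  by_cases hNZ : commutator P ≤ Subgroup.center P
  · exact central_case hE hP hN haN hac hao hNZ
  · exact not_central_case hE hP hN haN hac hao hNZ

theorem converse (hP : IsPGroup p P) [IsCyclic (Subgroup.center P)]
    (hder : Nat.card (commutator P) = p) : EqGal P := by
  classical
  cases nonempty_fintype P
  have hp : p.Prime := Fact.out
  have hcz := central_of_prime_normal hP hder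
  have hfaith : ∀ χ : Cfsg.IrrCharacter P, Cfsg.charDegree (χ : P → ℂ) ≠ 1 →
      ∀ x, (χ : P → ℂ) x = (χ : P → ℂ) 1 → x = 1 := by
    intro χ hχ x hx
    by_contra hx1
    obtain ⟨K, hKn, hK, -⟩ := CharTools.exists_kernel (IsIrrCharacter.isCharacter χ.2)
    obtain ⟨z, hzK, hzc, hzo⟩ := CfsgLib.PGroup.exists_central_orderOf_eq hP K fun e => hx1 (by
      rw [← Subgroup.mem_bot, ← e, hK]; exact hx)
    have hzN := mem_of_pow_eq_one hcz hder hzc (hzo ▸ pow_orderOf_eq_one z)
    obtain ⟨c, hc, hcne⟩ := exists_nonker χ hχ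
    have he : Subgroup.zpowers z = commutator P :=
      Subgroup.eq_of_le_of_card_ge (Subgroup.zpowers_le.mpr hzN) (by rw [Nat.card_zpowers, hzo, hder])
    exact hcne ((hK c).mp ((Subgroup.zpowers_le.mpr hzK) (he ▸ hc)))
  intro χ ψ hχ hd
  obtain ⟨⟨z, hz⟩, hgen⟩ := IsCyclic.exists_generator (α := Subgroup.center P)
  have hrep : ∀ w ∈ Subgroup.center P, ∃ i : ℕ, z ^ i = w := fun w hw => by
    obtain ⟨i, hi⟩ := mem_powers_iff_mem_zpowers.mpr (hgen ⟨w, hw⟩)
    exact ⟨i, congrArg Subtype.val hi⟩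
  have hprim : ∀ θ : Cfsg.IrrCharacter P, Cfsg.charDegree (θ : P → ℂ) ≠ 1 →
      IsPrimitiveRoot ((θ : P → ℂ) z / (θ : P → ℂ) 1) (orderOf z) := by
    intro θ hθ
    refine IsPrimitiveRoot.iff_def _ _ |>.mpr ⟨?_, fun l hl => ?_⟩
    · rw [← apply_pow_div θ hz, pow_orderOf_eq_one, div_self (CharTools.irr_apply_one_ne_zero θ)]
    · rw [← apply_pow_div θ hz, div_eq_one_iff_eq (CharTools.irr_apply_one_ne_zero θ)] at hl
      exact orderOf_dvd_of_pow_eq_one (hfaith θ hθ _ hl)
  have hψ : Cfsg.charDegree (ψ : P → ℂ) ≠ 1 := hd ▸ hχ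
  have : NeZero (orderOf z) := ⟨(orderOf_pos z).ne'⟩
  obtain ⟨k, -, hkc, hk⟩ := (hprim χ hχ).isPrimitiveRoot_iff.mp (hprim ψ hψ)
  obtain ⟨e, he⟩ := IsPGroup.iff_card.mp hP
  have hkP : k.Coprime (Nat.card P) := by
    rw [he]
    refine Nat.Coprime.pow_right e (hkc.coprime_dvd_right (hP.dvd_orderOf ?_))
    intro h1
    obtain ⟨c, hc, hc1⟩ := exists_nonker χ hχ
    obtain ⟨i, hi⟩ := hrep c (hcz hc)
    exact hc1 (by rw [← hi, h1, one_pow])
  refine ⟨k, hkP, fun g => ?_⟩
  by_cases hg : g ∈ Subgroup.center P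
  · obtain ⟨i, rfl⟩ := hrep g hg
    have h1 := apply_pow_div ψ hz i
    have h2 := apply_pow_div χ hz (i * k)
    rw [← hk, ← pow_mul, mul_comm k i, ← h2] at h1
    rw [← pow_mul]
    have hd' : (χ : P → ℂ) 1 = (ψ : P → ℂ) 1 := by
      rw [← CharTools.irr_degree_cast, hd, CharTools.irr_degree_cast]
    rw [hd'] at h1
    exact (div_left_inj' (CharTools.irr_apply_one_ne_zero ψ)).mp h1
  · rw [vanish hP hder ψ hψ hg, vanish hP hder χ hχ]
    intro hgk
    obtain ⟨l, hl⟩ := exists_pow_eq_self_of_coprime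
      (hkP.coprime_dvd_right (orderOf_dvd_natCard g))
    exact hg (hl ▸ pow_mem hgk l)

end Quotient

/-- Let p be a prime and P a finite non-commutative p-group. Then every two irreducible characters of P of the same degree greater than 1 are Galois conjugate (one is obtained from the other by composing with g ↦ g^k for some k prime to the order of P) if and only if the centre of P is cyclic and the derived subgroup of P has order p. -/
theorem result {P : Type*} [Group P] [Finite P] (p : ℕ) [Fact p.Prime] (hP : IsPGroup p P) (hna : ¬ IsMulCommutative P) :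
    (∀ χ ψ : Cfsg.IrrCharacter P, Cfsg.charDegree (χ : P → ℂ) ≠ 1 → Cfsg.charDegree (χ : P → ℂ) = Cfsg.charDegree (ψ : P → ℂ) → ∃ k : ℕ, Nat.Coprime k (Nat.card P) ∧ ∀ g : P, (ψ : P → ℂ) g = (χ : P → ℂ) (g ^ k)) ↔
      (IsCyclic (Subgroup.center P) ∧ Nat.card (commutator P) = p) := by
  refine ⟨fun h => ?_, fun h => ?_⟩
  · have hne : commutator P ≠ ⊥ := fun e => hna ⟨⟨fun a b => by
      have hab : ⁅a, b⁆ ∈ commutator P :=
        Subgroup.commutator_mem_commutator (Subgroup.mem_top a) (Subgroup.mem_top b)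
      rw [e, Subgroup.mem_bot] at hab
      exact commutatorElement_eq_one_iff_mul_comm.mp hab⟩⟩
    have hd := card_commutator_eq _ rfl h hP hne
    exact ⟨center_cyclic h hP hd, hd⟩
  · have := h.1
    exact converse hP h.2

end Cfsg.Agent.S4845
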