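import Cfsg.Statements.S4763
import Cfsg.Agent.S4768
import Cfsg.Agent.S4845
import Cfsg.Agent.Lib.Glauberman.Correspondence
import Cfsg.Agent.Lib.CharDeep.Gallagher
import Cfsg.Agent.Lib.CharDeep.PermChar
import Cfsg.Agent.Lib.Char.Ito
import Cfsg.Agent.Lib.Case.Transvections

set_option autoImplicit false
open Cfsg

namespace Cfsg.Agent.S4763

universe u

open CfsgLib CfsgLib.Char
open scoped commutatorElement

variable {G : Type u} [Group G] [Finite G] {p : ℕ} [Fact p.Prime]

theorem pow_degree {Q : Type u} [Group Q] [Finite Q] {k : ℕ} (hQ : Nat.card Q = p ^ k)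
    (η : Cfsg.IrrCharacter Q) (h : ¬ p ∣ Cfsg.charDegree (η : Q → ℂ)) :
    Cfsg.charDegree (η : Q → ℂ) = 1 := by
  obtain ⟨l, -, hl⟩ := (Nat.dvd_prime_pow (Fact.out : p.Prime)).mp (hQ ▸ CharTools.degree_dvd_card η)
  rcases Nat.eq_zero_or_pos l with rfl | hl0
  · simpa using hl
  · exact absurd (hl ▸ dvd_pow_self p hl0.ne') h

theorem comm_of_linear {Q : Type u} [Group Q] [Finite Q]
    (h : ∀ η : Cfsg.IrrCharacter Q, Cfsg.charDegree (η : Q → ℂ) = 1) (a b : Q) : a * b = b * a := by
  rw [← commutatorElement_eq_one_iff_mul_comm]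
  by_contra hne
  have hbot : commutator Q ≠ ⊥ := fun e => hne (Subgroup.mem_bot.mp (e ▸
    Subgroup.commutator_mem_commutator (Subgroup.mem_top a) (Subgroup.mem_top b)))
  obtain ⟨η, hη⟩ := Cfsg.Agent.S4845.exists_nonlinear hbot
  exact hη (h η)

theorem exists_over' (N : Subgroup G) [N.Normal] [Fintype G] [Fintype N] (θ : Cfsg.IrrCharacter N) :
    ∃ χ : Cfsg.IrrCharacter G,
      (CharTwist.inertia N (θ : N → ℂ)).index ∣ Cfsg.charDegree (χ : G → ℂ) ∧
      Cfsg.classInner (fun n : N => (χ : G → ℂ) n) (θ : N → ℂ) ≠ 0 := by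
  classical
  have hind := IsCharacter.indFun (H := N) (IsIrrCharacter.isCharacter θ.2)
  obtain ⟨χ, hχ⟩ := CharTools.exists_constituent hind (fun e => by
    have h1 := congrFun e 1
    rw [indFun_apply_one, Pi.zero_apply, mul_eq_zero] at h1
    rcases h1 with h1 | h1
    · exact Subgroup.index_ne_zero_of_finite (Nat.cast_eq_zero.mp h1)
    · exact CharTools.irr_apply_one_ne_zero θ h1)
  rw [classInner_indFun _ _ _ (IsIrrCharacter.isClassFunction χ.2)] at hχ
  have hne : Cfsg.classInner (fun n : N => (χ : G → ℂ) n) (θ : N → ℂ) ≠ 0 := fun e => hχ (by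
    rw [← classInner_conj_symm, e, map_zero])
  have hres := Clifford.isCharacter_res (IsIrrCharacter.isCharacter χ.2) N
  obtain ⟨m, hm⟩ := IsCharacter.exists_nat_classInner hres θ.2
  have h := Clifford.apply_one_eq N χ.2 θ.2 hne
  rw [hm, ← CharTools.irr_degree_cast, ← CharTools.irr_degree_cast] at h
  refine ⟨χ, ⟨m * Cfsg.charDegree (θ : N → ℂ), ?_⟩, hne⟩
  rw [← mul_assoc, mul_comm _ m]
  exact_mod_cast h

/-- A group element centralised by a whole Sylow subgroup has class size prime to `p`. -/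
theorem not_dvd_of_le (P : Sylow p G) (g : G)
    (h : (P : Subgroup G) ≤ Subgroup.centralizer ({g} : Set G)) :
    ¬ p ∣ Nat.card (ConjClasses.mk g).carrier := by
  cases nonempty_fintype G
  have h1 : Nat.card (ConjClasses.mk g).carrier = (Subgroup.centralizer ({g} : Set G)).index := by
    rw [index_centralizer_eq_card_isConj]
    exact Nat.card_congr (Equiv.subtypeEquivRight fun x => by
      rw [ConjClasses.mem_carrier_iff_mk_eq, ConjClasses.mk_eq_mk_iff_isConj]
      exact ⟨IsConj.symm, IsConj.symm⟩)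
  rw [h1]
  exact fun hd => P.not_dvd_index (hd.trans (Subgroup.index_dvd_of_le h))

theorem exists_mul_decomp (N : Subgroup G) [N.Normal] (hN : (Nat.card N).Coprime p)
    (hidx : ∃ k : ℕ, N.index = p ^ k) (P : Sylow p G) (g : G) :
    ∃ n ∈ N, ∃ x ∈ (P : Subgroup G), g = n * x := by
  obtain ⟨e, he⟩ := hidx
  obtain ⟨k, hk⟩ := IsPGroup.iff_card.mp P.2
  have hcop : (Nat.card N).Coprime (Nat.card (P : Subgroup G)) := by
    rw [hk]; exact Nat.Coprime.pow_right k hN
  have hdvd : Nat.card N * Nat.card (P : Subgroup G) = Nat.card G := by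
    have h1 := P.card_eq_multiplicity
    rw [h1]
    have h2 : (Nat.card G).factorization p = e := by
      rw [← N.card_mul_index, he, Nat.factorization_mul Nat.card_pos.ne'
        (pow_ne_zero _ (Fact.out : p.Prime).ne_zero)]
      simp [Nat.factorization_eq_zero_of_not_dvd
        ((Fact.out : p.Prime).coprime_iff_not_dvd.mp hN.symm), (Fact.out : p.Prime).factorization_pow]
    rw [h2, ← he, N.card_mul_index]
  have hc := Subgroup.isComplement'_of_coprime hdvd hcop
  have hg : g ∈ N ⊔ (P : Subgroup G) := by rw [hc.sup_eq_top]; exact Subgroup.mem_top g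
  obtain ⟨n, hn, x, hx, rfl⟩ := Subgroup.mem_sup_of_normal_left.mp hg
  exact ⟨n, hn, x, hx, rfl⟩

theorem disjoint_sylow (N : Subgroup G) (hN : (Nat.card N).Coprime p) (P : Sylow p G) {x : G}
    (hx : x ∈ N) (hxP : x ∈ (P : Subgroup G)) : x = 1 := by
  obtain ⟨k, hk⟩ := IsPGroup.iff_card.mp P.2
  refine Subgroup.disjoint_def.mp (Subgroup.disjoint_of_coprime_natCard ?_) hx hxP
  rw [hk]; exact Nat.Coprime.pow_right k hN

/-- The situation in which the Sylow subgroup centralises the complement. -/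
theorem centralised_case (hnil : ¬ Group.IsNilpotent G) (N : Subgroup G) [N.Normal]
    (hN : (Nat.card N).Coprime p) (hidx : ∃ k : ℕ, N.index = p ^ k)
    (hone : Nat.card {χ : Cfsg.IrrCharacter G // p ∣ Cfsg.charDegree (χ : G → ℂ)} = 1)
    (P : Sylow p G) (hc : (P : Subgroup G) ≤ Subgroup.centralizer (N : Set G)) : False := by
  classical
  cases nonempty_fintype G
  have hp : p.Prime := Fact.out
  obtain ⟨k, hk⟩ := hidx
  by_cases hη : ∃ η : Cfsg.IrrCharacter (G ⧸ N), p ∣ Cfsg.charDegree (η : G ⧸ N → ℂ)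
  · obtain ⟨η, hη⟩ := hη
    have hcomm : ∀ n ∈ N, ∀ x ∈ (P : Subgroup G), n * x = x * n := fun n hn x hx =>
      Subgroup.mem_centralizer_iff.mp (hc hx) n hn
    let f : N × (P : Subgroup G) →* G :=
      { toFun := fun z => (z.1 : G) * z.2
        map_one' := by simp
        map_mul' := fun a b => by
          show ((a.1 * b.1 : N) : G) * ((a.2 * b.2 : (P : Subgroup G)) : G) = _
          rw [Subgroup.coe_mul, Subgroup.coe_mul,
            (show Commute (b.1 : G) a.2 from hcomm b.1 b.1.2 a.2 a.2.2).mul_mul_mul_comm] }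
    have hf : Function.Bijective f := by
      refine ⟨(injective_iff_map_eq_one f).mpr fun z hz => ?_, fun g => ?_⟩
      · have h1 : (z.1 : G) * z.2 = 1 := hz
        have h2 : (z.1 : G) = 1 := disjoint_sylow N hN P z.1.2
          (by rw [eq_inv_of_mul_eq_one_left h1]; exact inv_mem z.2.2)
        rw [h2, one_mul] at h1
        exact Prod.ext (Subtype.ext h2) (Subtype.ext h1)
      · obtain ⟨n, hn, x, hx, rfl⟩ := exists_mul_decomp N hN ⟨k, hk⟩ P g
        exact ⟨(⟨n, hn⟩, ⟨x, hx⟩), rfl⟩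
    let π : G →* N := (MonoidHom.fst N (P : Subgroup G)).comp (MulEquiv.ofBijective f hf).symm.toMonoidHom
    have hπ : ∀ n : N, π n = n := fun n => by
      show ((MulEquiv.ofBijective f hf).symm (n : G)).1 = n
      have e : (MulEquiv.ofBijective f hf).symm (n : G) = (n, 1) :=
        (MulEquiv.symm_apply_eq _).mpr (show (n : G) = (n : G) * ((1 : (P : Subgroup G)) : G) by simp)
      rw [e]
    by_cases hN1 : N = ⊥
    · refine hnil ((IsPGroup.iff_card.mpr ⟨k, ?_⟩ : IsPGroup p G).isNilpotent)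
      rw [← hk, hN1, Subgroup.index_bot]
    obtain ⟨⟨a, ha⟩, ha1⟩ := (Subgroup.ne_bot_iff_exists_ne_one).mp hN1
    obtain ⟨θ, hθ⟩ : ∃ θ : Cfsg.IrrCharacter N, (θ : N → ℂ) ⟨a, ha⟩ ≠ (θ : N → ℂ) 1 := by
      by_contra hcon
      push Not at hcon
      exact ha1 (isConj_one_left.mp (isConj_of_forall_eq fun χ hχ => hcon ⟨χ, hχ⟩))
    have hext : Cfsg.IsIrrCharacter G (fun g => (θ : N → ℂ) (π g)) :=
      CharTools.isIrrCharacter_comp π (fun n => ⟨n, hπ n⟩) θ.2
    have hres : (fun n : N => (θ : N → ℂ) (π n)) = (θ : N → ℂ) := funext fun n => by rw [hπ]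
    obtain ⟨hb, -, -⟩ := CharDeep.Gal.quotient_bijection N hext (by rw [hres]; exact θ.2)
    obtain ⟨hirr, -⟩ := hb _ η.2
    let χ₁ : Cfsg.IrrCharacter G := (CharTools.quotientEquiv N η).1
    let χ₂ : Cfsg.IrrCharacter G := ⟨_, hirr⟩
    have h1 : p ∣ Cfsg.charDegree (χ₁ : G → ℂ) := by
      rw [CharTools.charDegree_quotientEquiv]; exact hη
    have h2 : p ∣ Cfsg.charDegree (χ₂ : G → ℂ) := by
      have e : Cfsg.charDegree (χ₂ : G → ℂ) =
          Cfsg.charDegree (η : G ⧸ N → ℂ) * Cfsg.charDegree (θ : N → ℂ) := by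
        apply Nat.cast_injective (R := ℂ)
        rw [CharTools.irr_degree_cast, Nat.cast_mul, CharTools.irr_degree_cast, CharTools.irr_degree_cast]
        show (η : G ⧸ N → ℂ) (QuotientGroup.mk' N 1) * (θ : N → ℂ) (π 1) = _
        rw [map_one, map_one]
      rw [e]; exact dvd_mul_of_dvd_left hη _
    obtain ⟨hsub, -⟩ := Nat.card_eq_one_iff_unique.mp hone
    have he := congrArg (fun χ => ((χ.1 : Cfsg.IrrCharacter G) : G → ℂ))
      (hsub.elim ⟨χ₁, h1⟩ ⟨χ₂, h2⟩)
    have e1 := congrFun he a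
    have e2 := congrFun he 1
    have hq : (QuotientGroup.mk' N a : G ⧸ N) = 1 := (QuotientGroup.eq_one_iff a).mpr ha
    simp only [χ₁, χ₂, CharTools.quotientEquiv_apply, Pi.mul_apply, Function.comp_apply] at e1 e2
    rw [show ((a : G) : G ⧸ N) = 1 from hq, hq] at e1
    rw [QuotientGroup.mk_one, map_one, map_one] at e2
    rw [show π a = (⟨a, ha⟩ : N) from hπ ⟨a, ha⟩] at e1
    exact hθ (mul_left_cancel₀ (CharTools.irr_apply_one_ne_zero η) (e1.symm.trans e2))
  push Not at hη
  have hQ : Nat.card (G ⧸ N) = p ^ k := hk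
  have hab := comm_of_linear fun η => pow_degree hQ η (hη η)
  have hPab : ∀ x ∈ (P : Subgroup G), ∀ y ∈ (P : Subgroup G), x * y = y * x := by
    intro x hx y hy
    rw [← commutatorElement_eq_one_iff_mul_comm]
    refine disjoint_sylow N hN P ?_ (mul_mem (mul_mem (mul_mem hx hy) (inv_mem hx)) (inv_mem hy))
    rw [← QuotientGroup.eq_one_iff, commutatorElement_def]
    simp only [QuotientGroup.mk_mul, QuotientGroup.mk_inv]
    rw [hab (x : G ⧸ N) y]; group
  have hPc : (P : Subgroup G) ≤ Subgroup.center G := by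
    intro x hx
    rw [Subgroup.mem_center_iff]
    intro g
    obtain ⟨n, hn, y, hy, rfl⟩ := exists_mul_decomp N hN ⟨k, hk⟩ P g
    rw [mul_assoc, hPab y hy x hx, ← mul_assoc, Subgroup.mem_centralizer_iff.mp (hc hx) n hn, mul_assoc]
  have hPn : (P : Subgroup G).Normal := ⟨fun x hx g => by
    rw [Subgroup.mem_center_iff.mp (hPc hx) g, mul_inv_cancel_right]; exact hx⟩
  obtain ⟨⟨χ, hχ⟩⟩ := (Nat.card_eq_one_iff_unique.mp hone).2
  obtain ⟨d, ρ, hρ, he⟩ := χ.2
  have hd : Cfsg.charDegree (χ : G → ℂ) = d := by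
    apply Nat.cast_injective (R := ℂ)
    rw [CharTools.irr_degree_cast, ← he]; simp
  have h1 := finrank_dvd_index_of_abelian_normal ρ (P : Subgroup G)
    fun x hx y hy => hPab x hx y hy
  rw [Module.finrank_fin_fun, ← hd] at h1
  exact P.not_dvd_index (hχ.trans h1)

theorem fixes_comm (N : Subgroup G) [N.Normal] {x : G} {θ : N → ℂ} (hθ : Cfsg.IsClassFunction N θ)
    (hx : CharTwist.conjFun N θ x = θ) (hab : ∀ a b : G ⧸ N, a * b = b * a) (g : G) :
    CharTwist.conjFun N (CharTwist.conjFun N θ g) x = CharTwist.conjFun N θ g := by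
  have hmem : g * x * (x * g)⁻¹ ∈ N := by
    rw [← QuotientGroup.eq_one_iff]
    simp only [QuotientGroup.mk_mul, QuotientGroup.mk_inv]
    rw [hab (g : G ⧸ N) x, mul_inv_cancel]
  have h1 : CharTwist.conjFun N θ (g * x * (x * g)⁻¹) = θ :=
    CharTwist.mem_inertia.mp (CharTwist.le_inertia N hθ hmem)
  rw [← CharTwist.conjFun_mul, show g * x = g * x * (x * g)⁻¹ * x * g by group,
    CharTwist.conjFun_mul, CharTwist.conjFun_mul, h1, hx]

/-- The classes of `N` fixed by the action of a set. -/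
def FixedClass (N : Subgroup G) [N.Normal] (S : Set G) (C : ConjClasses N) : Prop :=
  ∀ s ∈ S, ∀ n : N, ConjClasses.mk n = C → IsConj ((MulAut.conjNormal s : MulAut N) n) n

theorem fixedClass_mk (N : Subgroup G) [N.Normal] (S : Set G) (n : N) :
    FixedClass N S (ConjClasses.mk n) ↔ ∀ s ∈ S, IsConj ((MulAut.conjNormal s : MulAut N) n) n := by
  refine ⟨fun h s hs => h s hs n rfl, fun h s hs m hm => ?_⟩
  have hmn : IsConj m n := ConjClasses.mk_eq_mk_iff_isConj.mp hm
  exact (MonoidHom.map_isConj (MulAut.conjNormal s : MulAut N).toMonoidHom hmn).trans ((h s hs).trans hmn.symm)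

set_option maxHeartbeats 1000000 in
/-- The main case. -/
theorem moved_case (N : Subgroup G) [N.Normal] [Fintype G] [Fintype N] (hN : (Nat.card N).Coprime p)
    (hidx : ∃ k : ℕ, N.index = p ^ k)
    (hone : Nat.card {χ : Cfsg.IrrCharacter G // p ∣ Cfsg.charDegree (χ : G → ℂ)} = 1)
    (P : Sylow p G) (θ₀ : Cfsg.IrrCharacter N) {x₀ : G} (hx₀ : x₀ ∈ (P : Subgroup G))
    (hmv : CharTwist.conjFun N (θ₀ : N → ℂ) x₀ ≠ θ₀) :
    Nat.card {C : ConjClasses G // p ∣ Nat.card C.carrier} = 1 := by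
  classical
  have hp : p.Prime := Fact.out
  obtain ⟨k, hk⟩ := hidx
  obtain ⟨⟨χ₀, hχ₀⟩⟩ := (Nat.card_eq_one_iff_unique.mp hone).2
  have huniq : ∀ χ : Cfsg.IrrCharacter G, p ∣ Cfsg.charDegree (χ : G → ℂ) → χ = χ₀ := fun χ hχ =>
    congrArg Subtype.val ((Nat.card_eq_one_iff_unique.mp hone).1.elim ⟨χ, hχ⟩ ⟨χ₀, hχ₀⟩)
  have hidxp : ∀ θ : Cfsg.IrrCharacter N, ∀ x ∈ (P : Subgroup G),
      CharTwist.conjFun N (θ : N → ℂ) x ≠ θ →
        p ∣ (CharTwist.inertia N (θ : N → ℂ)).index := by
    intro θ x hx hne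
    obtain ⟨l, -, hl⟩ := (Nat.dvd_prime_pow hp).mp (hk ▸ Subgroup.index_dvd_of_le
      (CharTwist.le_inertia N (IsIrrCharacter.isClassFunction θ.2)))
    rcases Nat.eq_zero_or_pos l with rfl | hl0
    · rw [pow_zero, Subgroup.index_eq_one] at hl
      exact absurd (CharTwist.mem_inertia.mp (hl ▸ Subgroup.mem_top x)) hne
    · exact hl ▸ dvd_pow_self p hl0.ne'
  have hmoved : ∀ θ : Cfsg.IrrCharacter N, ∀ x ∈ (P : Subgroup G),
      CharTwist.conjFun N (θ : N → ℂ) x ≠ θ →
        Cfsg.classInner (fun n : N => (χ₀ : G → ℂ) n) (θ : N → ℂ) ≠ 0 := by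
    intro θ x hx hne
    obtain ⟨χ, hd, hc⟩ := exists_over' N θ
    rwa [huniq χ ((hidxp θ x hx hne).trans hd)] at hc
  -- the quotient is abelian
  have hχ₀N : ∃ n ∈ N, (χ₀ : G → ℂ) n ≠ (χ₀ : G → ℂ) 1 := by
    by_contra hcon
    push Not at hcon
    apply hmv
    have hres := Clifford.isCharacter_res (IsIrrCharacter.isCharacter χ₀.2) N
    have hconst : ∀ n : N, (θ₀ : N → ℂ) n = (θ₀ : N → ℂ) 1 := fun n =>
      CharTools.eq_apply_one_of_constituent hres (k := n) (hcon n n.2) θ₀ (hmoved θ₀ x₀ hx₀ hmv)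
    funext n
    exact (hconst _).trans (hconst n).symm
  have hab : ∀ a b : G ⧸ N, a * b = b * a := comm_of_linear fun η => pow_degree hk η fun hd => by
    obtain ⟨n, hn, hne⟩ := hχ₀N
    have e := huniq (CharTools.quotientEquiv N η).1 (by rwa [CharTools.charDegree_quotientEquiv])
    rw [← e, CharTools.quotientEquiv_apply, CharTools.quotientEquiv_apply,
      (QuotientGroup.eq_one_iff n).mpr hn, QuotientGroup.mk_one] at hne
    exact hne rfl
  have hPab : ∀ x ∈ (P : Subgroup G), ∀ y ∈ (P : Subgroup G), x * y = y * x := by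
    intro x hx y hy
    rw [← commutatorElement_eq_one_iff_mul_comm]
    refine disjoint_sylow N hN P ?_ (mul_mem (mul_mem (mul_mem hx hy) (inv_mem hx)) (inv_mem hy))
    rw [← QuotientGroup.eq_one_iff, commutatorElement_def]
    simp only [QuotientGroup.mk_mul, QuotientGroup.mk_inv]
    rw [hab (x : G ⧸ N) y]; group
  obtain ⟨e, he⟩ := IsPGroup.iff_card.mp P.2
  have hcopP : ∀ x ∈ (P : Subgroup G), (orderOf x).Coprime (Nat.card N) := fun x hx =>
    (Nat.Coprime.pow_left e hN.symm).coprime_dvd_left (he ▸ Subgroup.orderOf_dvd_natCard _ hx)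
  -- a point stabiliser is trivial
  have hfree : ∀ x ∈ (P : Subgroup G), ∀ θ : Cfsg.IrrCharacter N, ∀ y ∈ (P : Subgroup G),
      CharTwist.conjFun N (θ : N → ℂ) y ≠ θ → CharTwist.conjFun N (θ : N → ℂ) x = θ → x = 1 := by
    intro x hx θ y hy hyθ hxθ
    have hall : ∀ μ : Cfsg.IrrCharacter N, CharTwist.conjFun N (μ : N → ℂ) x = μ := by
      intro μ
      by_contra hne
      obtain ⟨g, hg⟩ := Clifford.exists_conjFun_eq N χ₀.2 θ.2 μ.2 (hmoved θ y hy hyθ) (hmoved μ x hx hne)
      apply hne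
      rw [← hg]
      exact fixes_comm N (IsIrrCharacter.isClassFunction θ.2) hxθ hab g
    have hcx := Cfsg.Agent.S4768.mem_centralizer_of_forall_fixed N (hcopP x hx) hall
    have hxc : x ∈ Subgroup.center G := by
      rw [Subgroup.mem_center_iff]
      intro g
      obtain ⟨n, hn, z, hz, rfl⟩ := exists_mul_decomp N hN ⟨k, hk⟩ P g
      rw [mul_assoc, hPab z hz x hx, ← mul_assoc, Subgroup.mem_centralizer_iff.mp hcx n hn, mul_assoc]
    by_contra hx1
    obtain ⟨η, hη⟩ : ∃ η : Cfsg.IrrCharacter (G ⧸ N), (η : G ⧸ N → ℂ) x ≠ (η : G ⧸ N → ℂ) 1 := by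
      by_contra hcon
      push Not at hcon
      have := Fintype.ofFinite (G ⧸ N)
      exact hx1 (disjoint_sylow N hN P ((QuotientGroup.eq_one_iff x).mp
        (isConj_one_left.mp (isConj_of_forall_eq fun χ hχ => hcon ⟨χ, hχ⟩))) hx)
    have := Fintype.ofFinite (G ⧸ N)
    have hη1 := (CharOver.abelian_irr hab η.2).1
    obtain ⟨lam, hlam⟩ := IsCharacter.exists_linear (IsIrrCharacter.isCharacter η.2) hη1
    let ψ : Cfsg.IrrCharacter G :=
      ⟨_, IsIrrCharacter.linear_mul χ₀.2 (lam.comp (QuotientGroup.mk' N))⟩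
    have hψd : Cfsg.charDegree (ψ : G → ℂ) = Cfsg.charDegree (χ₀ : G → ℂ) := by
      apply Nat.cast_injective (R := ℂ)
      rw [CharTools.irr_degree_cast, CharTools.irr_degree_cast]
      show ((lam.comp (QuotientGroup.mk' N)) 1 : ℂ) * (χ₀ : G → ℂ) 1 = _
      rw [map_one, Units.val_one, one_mul]
    have hψ := congrFun (congrArg Subtype.val (huniq ψ (hψd ▸ hχ₀))) x
    have hne0 : (χ₀ : G → ℂ) x ≠ 0 := fun h0 => by
      have h1 := CharTools.norm_apply_center χ₀ hxc
      rw [h0, norm_zero] at h1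
      exact (CharTools.irr_degree_pos χ₀).ne' (by exact_mod_cast h1.symm)
    apply hη
    rw [hη1, hlam]
    exact mul_right_cancel₀ hne0 (hψ.trans (one_mul _).symm)
  -- the invariant characters
  let F := {θ : Cfsg.IrrCharacter N // ∀ y ∈ (P : Subgroup G), CharTwist.conjFun N (θ : N → ℂ) y = θ}
  let φ : (P : Subgroup G) →* MulAut N := (MulAut.conjNormal (H := N)).comp (P : Subgroup G).subtype
  have hpN : ¬ p ∣ Nat.card N := hp.coprime_iff_not_dvd.mp hN.symm
  have hkC : Nat.card F = Nat.card (ConjClasses (Glauberman.fixedSub φ)) := by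
    have := Fintype.ofFinite (Glauberman.fixedSub φ)
    rw [← card_irrCharacter, ← Glauberman.card_inv φ P.2 hpN]
    exact Nat.card_congr (Equiv.subtypeEquivRight fun θ =>
      ⟨fun h s n => congrFun (h s s.2) n, fun h y hy => funext fun n => h ⟨y, hy⟩ n⟩)
  have hxF : ∀ x ∈ (P : Subgroup G), x ≠ 1 →
      Nat.card {C : ConjClasses N // FixedClass N {x} C} = Nat.card F := by
    intro x hx hx1
    let s : N → N := fun n => (MulAut.conjNormal x : MulAut N) n
    have hs : ∀ θ : N → ℂ, θ ∘ s = CharTwist.conjFun N θ x := fun θ => rfl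
    have hb := card_fixed_irr_eq_card_fixed_classes s fun θ hθ => by
      rw [hs]; exact CharTwist.isIrrCharacter_conjFun N hθ x
    rw [show Nat.card {C : ConjClasses N // FixedClass N {x} C} =
        Nat.card {C : ConjClasses N // ∀ n : N, ConjClasses.mk n = C → IsConj (s n) n} from
      Nat.card_congr (Equiv.subtypeEquivRight fun C => by simp [FixedClass, s]), ← hb]
    refine Nat.card_congr (Equiv.subtypeEquivRight fun θ => ?_)
    rw [hs]
    refine ⟨fun h y hy => ?_, fun h => h x hx⟩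
    by_contra hne
    exact hx1 (hfree x hx θ y hy hne h)
  let tofix : ConjClasses (Glauberman.fixedSub φ) →
      {C : ConjClasses N // FixedClass N (P : Set G) C} :=
    Quotient.lift (fun c => ⟨ConjClasses.mk (c : N), (fixedClass_mk N _ _).mpr fun y hy => by
        rw [show (MulAut.conjNormal y : MulAut N) (c : N) = c from c.2 ⟨y, hy⟩]⟩)
      fun a b hab => Subtype.ext (ConjClasses.mk_eq_mk_iff_isConj.mpr
        (MonoidHom.map_isConj (Glauberman.fixedSub φ).subtype hab))
  have hinj : Function.Injective tofix := by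
    intro a b e
    induction a using Quotient.inductionOn
    induction b using Quotient.inductionOn
    exact Quotient.sound (Glauberman.isConj_of_isConj φ P.2 hpN
      (ConjClasses.mk_eq_mk_iff_isConj.mp (congrArg Subtype.val e)))
  have hx₀1 : x₀ ≠ 1 := fun e => hmv (by rw [e, CharTwist.conjFun_one])
  have hsub : ∀ x ∈ (P : Subgroup G), ∀ C, FixedClass N (P : Set G) C → FixedClass N {x} C :=
    fun x hx C hC s hs => hC s (by rw [Set.mem_singleton_iff.mp hs]; exact hx)
  have hle1 : ∀ x ∈ (P : Subgroup G), Nat.card {C : ConjClasses N // FixedClass N (P : Set G) C} ≤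
      Nat.card {C : ConjClasses N // FixedClass N {x} C} := fun x hx =>
    Nat.card_le_card_of_injective (fun C => ⟨C.1, hsub x hx C.1 C.2⟩)
      fun a b e => Subtype.ext (Subtype.mk_eq_mk.mp e)
  have hfP : Nat.card {C : ConjClasses N // FixedClass N (P : Set G) C} = Nat.card F :=
    le_antisymm ((hle1 x₀ hx₀).trans_eq (hxF x₀ hx₀ hx₀1))
      (hkC ▸ Nat.card_le_card_of_injective tofix hinj)
  have hsurj : Function.Surjective tofix :=
    ((Nat.bijective_iff_injective_and_card tofix).mpr ⟨hinj, hkC.symm.trans hfP.symm⟩).2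
  have hfixall : ∀ x ∈ (P : Subgroup G), x ≠ 1 → ∀ C, FixedClass N {x} C → FixedClass N (P : Set G) C := by
    intro x hx hx1 C hC
    have hbij := ((Nat.bijective_iff_injective_and_card
      (fun C : {C : ConjClasses N // FixedClass N (P : Set G) C} =>
        (⟨C.1, hsub x hx C.1 C.2⟩ : {C : ConjClasses N // FixedClass N {x} C}))).mpr
      ⟨fun a b e => Subtype.ext (Subtype.mk_eq_mk.mp e),
        hfP.trans (hxF x hx hx1).symm⟩).2 ⟨C, hC⟩
    obtain ⟨⟨C', hC'⟩, hC''⟩ := hbij
    obtain rfl : C' = C := congrArg Subtype.val hC''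
    exact hC'
  -- the moved classes
  have hidxP : N.index = Nat.card (P : Subgroup G) := by
    rw [P.card_eq_multiplicity, ← N.card_mul_index, Nat.factorization_mul Nat.card_pos.ne'
      Subgroup.index_ne_zero_of_finite, hk]
    rw [Finsupp.add_apply, Nat.factorization_eq_zero_of_not_dvd hpN]; simp [hp.factorization_pow]
  have hsplit : Nat.card (Cfsg.IrrCharacter N) = Nat.card F + Nat.card (P : Subgroup G) := by
    have h1 : Nat.card {θ : Cfsg.IrrCharacter N //
        ¬ ∀ y ∈ (P : Subgroup G), CharTwist.conjFun N (θ : N → ℂ) y = θ} = Nat.card (P : Subgroup G) := by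
      refine Eq.symm (Nat.card_congr (Equiv.ofBijective (fun x : (P : Subgroup G) =>
        ⟨⟨_, CharTwist.isIrrCharacter_conjFun N θ₀.2 x⟩, fun h => ?_⟩) ⟨fun x y e => ?_, ?_⟩))
      · apply hmv
        have h2 := h x₀ hx₀
        rw [← CharTwist.conjFun_mul, hPab x x.2 x₀ hx₀, CharTwist.conjFun_mul] at h2
        have h3 := congrArg (fun f => CharTwist.conjFun N f (x : G)⁻¹) h2
        simp only [← CharTwist.conjFun_mul, mul_inv_cancel_right, mul_inv_cancel,
          CharTwist.conjFun_one] at h3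
        exact h3
      · have e' : CharTwist.conjFun N (θ₀ : N → ℂ) x = CharTwist.conjFun N (θ₀ : N → ℂ) y :=
          congrArg (fun z => ((Subtype.val z : Cfsg.IrrCharacter N) : N → ℂ)) e
        have h2 := congrArg (fun f => CharTwist.conjFun N f (y : G)⁻¹) e'
        simp only [← CharTwist.conjFun_mul, mul_inv_cancel, CharTwist.conjFun_one] at h2
        exact Subtype.ext (mul_inv_eq_one.mp
          (hfree _ (mul_mem x.2 (inv_mem y.2)) θ₀ x₀ hx₀ hmv h2))
      · rintro ⟨μ, hμ⟩
        push Not at hμ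
        obtain ⟨y, hy, hyμ⟩ := hμ
        obtain ⟨g, hg⟩ := Clifford.exists_conjFun_eq N χ₀.2 θ₀.2 μ.2 (hmoved θ₀ x₀ hx₀ hmv)
          (hmoved μ y hy hyμ)
        obtain ⟨n, hn, x, hx, rfl⟩ := exists_mul_decomp N hN ⟨k, hk⟩ P g
        refine ⟨⟨x, hx⟩, Subtype.ext (Subtype.ext ?_)⟩
        rw [← hg, CharTwist.conjFun_mul, CharTwist.mem_inertia.mp
          (CharTwist.le_inertia N (IsIrrCharacter.isClassFunction θ₀.2) hn)]
    rw [← h1, ← Nat.card_sum]
    exact Nat.card_congr (Equiv.sumCompl _).symm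
  have hfinC : Finite (ConjClasses N) := Finite.of_surjective ConjClasses.mk Quotient.mk_surjective
  have hMv : Nat.card {C : ConjClasses N // ¬ FixedClass N (P : Set G) C} =
      Nat.card (P : Subgroup G) := by
    have h1 : Nat.card (ConjClasses N) = Nat.card {C : ConjClasses N // FixedClass N (P : Set G) C} +
        Nat.card {C : ConjClasses N // ¬ FixedClass N (P : Set G) C} := by
      rw [← Nat.card_sum]; exact Nat.card_congr (Equiv.sumCompl _).symm
    rw [← card_irrCharacter, hsplit, hfP] at h1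
    omega
  obtain ⟨⟨C₀, hC₀⟩⟩ : Nonempty {C : ConjClasses N // ¬ FixedClass N (P : Set G) C} :=
    (Nat.card_pos_iff.mp (hMv ▸ Nat.card_pos)).1
  obtain ⟨n₀, rfl⟩ := ConjClasses.mk_surjective C₀
  -- being fixed is invariant under `P`
  have hconjmul : ∀ (a b : G) (n : N), (MulAut.conjNormal (a * b) : MulAut N) n =
      (MulAut.conjNormal a : MulAut N) ((MulAut.conjNormal b : MulAut N) n) := fun a b n => by
    rw [map_mul]; rfl
  have hmvconj : ∀ x ∈ (P : Subgroup G),
      ¬ FixedClass N (P : Set G) (ConjClasses.mk ((MulAut.conjNormal x : MulAut N) n₀)) := by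
    intro x hx h
    refine hC₀ ((fixedClass_mk N _ _).mpr fun y hy => ?_)
    have h1 := (fixedClass_mk N _ _).mp h y hy
    rw [← hconjmul, hPab y hy x hx, hconjmul] at h1
    have h2 := MonoidHom.map_isConj (MulAut.conjNormal x⁻¹ : MulAut N).toMonoidHom h1
    simp only [MulEquiv.coe_toMonoidHom] at h2
    rwa [← hconjmul, ← hconjmul x⁻¹ x, inv_mul_cancel, map_one, MulAut.one_apply,
      MulAut.one_apply] at h2
  have horbit : ∀ n : N, ¬ FixedClass N (P : Set G) (ConjClasses.mk n) →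
      ∃ x ∈ (P : Subgroup G), IsConj ((MulAut.conjNormal x : MulAut N) n₀) n := by
    intro n hn
    let g : ↥(P : Subgroup G) → {C : ConjClasses N // ¬ FixedClass N (P : Set G) C} := fun x =>
      ⟨ConjClasses.mk ((MulAut.conjNormal (x : G) : MulAut N) n₀), hmvconj x x.2⟩
    have hg : Function.Injective g := by
      intro x y e
      have h1 : IsConj ((MulAut.conjNormal (x : G) : MulAut N) n₀) ((MulAut.conjNormal (y : G) : MulAut N) n₀) :=
        ConjClasses.mk_eq_mk_iff_isConj.mp (congrArg Subtype.val e)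
      have h2 := MonoidHom.map_isConj (MulAut.conjNormal (y : G)⁻¹ : MulAut N).toMonoidHom h1
      simp only [MulEquiv.coe_toMonoidHom] at h2
      rw [← hconjmul, ← hconjmul, inv_mul_cancel, map_one, MulAut.one_apply] at h2
      by_contra hne
      have hz : (y : G)⁻¹ * x ≠ 1 := fun e' => hne (Subtype.ext (inv_mul_eq_one.mp e').symm)
      exact hC₀ (hfixall _ (mul_mem (inv_mem y.2) x.2) hz _ ((fixedClass_mk N _ _).mpr
        (by intro s hs; rw [Set.mem_singleton_iff.mp hs]; exact h2)))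
    obtain ⟨x, hx⟩ := ((Nat.bijective_iff_injective_and_card g).mpr ⟨hg, hMv.symm⟩).2 ⟨_, hn⟩
    exact ⟨x, x.2, ConjClasses.mk_eq_mk_iff_isConj.mp (congrArg Subtype.val hx)⟩
  -- the class of `n₀` is `p`-singular
  have hC0p : p ∣ Nat.card (ConjClasses.mk (n₀ : G)).carrier := by
    have h1 : Nat.card (ConjClasses.mk (n₀ : G)).carrier =
        (Subgroup.centralizer ({(n₀ : G)} : Set G)).index := by
      rw [index_centralizer_eq_card_isConj]
      exact Nat.card_congr (Equiv.subtypeEquivRight fun x => by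
        rw [ConjClasses.mem_carrier_iff_mk_eq, ConjClasses.mk_eq_mk_iff_isConj]
        exact ⟨IsConj.symm, IsConj.symm⟩)
    rw [h1]
    by_contra hnd
    set T := Subgroup.centralizer ({(n₀ : G)} : Set G)
    have htop : N ⊔ T = ⊤ := by
      have h2 : (N ⊔ T).index ∣ N.index := Subgroup.index_dvd_of_le le_sup_left
      have h3 : (N ⊔ T).index ∣ T.index := Subgroup.index_dvd_of_le le_sup_right
      rw [hk] at h2
      exact Subgroup.index_eq_one.mp (Nat.eq_one_of_dvd_coprimes
        (Nat.Coprime.pow_left k (hp.coprime_iff_not_dvd.mpr hnd)) h2 h3)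
    refine hC₀ ((fixedClass_mk N _ _).mpr fun y hy => ?_)
    have hyT : y ∈ N ⊔ T := htop ▸ Subgroup.mem_top y
    obtain ⟨m, hm, t, ht, rfl⟩ := Subgroup.mem_sup_of_normal_left.mp hyT
    have ht' : (MulAut.conjNormal t : MulAut N) n₀ = n₀ := Subtype.ext (by
      rw [MulAut.conjNormal_apply, Subgroup.mem_centralizer_singleton_iff.mp ht, mul_inv_cancel_right])
    rw [hconjmul, ht']
    exact (isConj_iff.mpr ⟨⟨m, hm⟩, Subtype.ext rfl⟩ : IsConj n₀ ((MulAut.conjNormal m : MulAut N) n₀)).symm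
  -- fixed classes of `N`
  have hnotp : ∀ n : N, FixedClass N (P : Set G) (ConjClasses.mk n) →
      ∀ x ∈ (P : Subgroup G), x * n = n * x → ¬ p ∣ Nat.card (ConjClasses.mk ((n : G) * x)).carrier := by
    intro n hn x hx hxn
    obtain ⟨q, hq⟩ := hsurj ⟨_, hn⟩
    obtain ⟨c, rfl⟩ := Quotient.exists_rep q
    have hcn : IsConj (c : N) n := ConjClasses.mk_eq_mk_iff_isConj.mp (congrArg Subtype.val hq)
    let ψ : Subgroup.zpowers x →* MulAut N :=
      (MulAut.conjNormal (H := N)).comp (Subgroup.zpowers x).subtype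
    have hψp : IsPGroup p (Subgroup.zpowers x) := P.2.to_le (Subgroup.zpowers_le.mpr hx)
    have hcfix : (c : N) ∈ Glauberman.fixedSub ψ := fun s =>
      c.2 ⟨s, (Subgroup.zpowers_le.mpr hx) s.2⟩
    have hnfix : n ∈ Glauberman.fixedSub ψ := by
      intro s
      refine Subtype.ext ?_
      show (s : G) * (n : G) * (s : G)⁻¹ = n
      obtain ⟨i, hi⟩ := Subgroup.mem_zpowers_iff.mp s.2
      rw [← hi, ((show Commute x (n : G) from hxn).zpow_left i).eq, mul_inv_cancel_right]
    obtain ⟨t, ht⟩ := isConj_iff.mp (Glauberman.isConj_of_isConj ψ hψp hpN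
      (c := ⟨c, hcfix⟩) (c' := ⟨n, hnfix⟩) hcn)
    have ht' : ((t : N) : G) * ((c : N) : G) * ((t : N) : G)⁻¹ = (n : G) :=
      congrArg (fun z => ((z : N) : G)) (congrArg Subtype.val ht)
    have htx : x * ((t : N) : G) * x⁻¹ = ((t : N) : G) :=
      congrArg Subtype.val (t.2 ⟨x, Subgroup.mem_zpowers x⟩)
    have hconj : IsConj (((c : N) : G) * x) ((n : G) * x) := by
      refine isConj_iff.mpr ⟨((t : N) : G), ?_⟩
      have e : x * ((t : N) : G)⁻¹ = ((t : N) : G)⁻¹ * x :=
        (show Commute x ((t : N) : G) from mul_inv_eq_iff_eq_mul.mp htx).inv_right.eq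
      rw [← ht', mul_assoc, mul_assoc, e]; group
    rw [← ConjClasses.mk_eq_mk_iff_isConj.mpr hconj]
    refine not_dvd_of_le P _ fun y hy => Subgroup.mem_centralizer_singleton_iff.mpr ?_
    have hcy : y * ((c : N) : G) * y⁻¹ = ((c : N) : G) := congrArg Subtype.val (c.2 ⟨y, hy⟩)
    rw [← mul_assoc, mul_inv_eq_iff_eq_mul.mp hcy, mul_assoc, hPab y hy x hx, mul_assoc]
  -- uniqueness
  rw [Nat.card_eq_one_iff_unique]
  refine ⟨⟨fun A B => Subtype.ext ?_⟩, ⟨⟨_, hC0p⟩⟩⟩
  suffices h : ∀ C : ConjClasses G, p ∣ Nat.card C.carrier → C = ConjClasses.mk (n₀ : G) by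
    rw [h _ A.2, h _ B.2]
  intro C hC
  obtain ⟨g, rfl⟩ := ConjClasses.mk_surjective C
  obtain ⟨a, b, hg, hab', ⟨i, hi⟩, hb, -, -⟩ := CharDeep.Perm.exists_decomp g p hp
  have hbN : b ∈ N := by
    rw [← QuotientGroup.eq_one_iff, ← orderOf_eq_one_iff]
    refine Nat.eq_one_of_dvd_coprimes (Nat.Coprime.pow_right k hb)
      (orderOf_map_dvd (QuotientGroup.mk' N) b) ?_
    rw [← hk]; exact orderOf_dvd_natCard _
  obtain ⟨Q, hQ⟩ := (CfsgLib.Case.isPGroup_zpowers_of_pow hi).exists_le_sylow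
  obtain ⟨t, ht⟩ := MulAction.exists_smul_eq G Q P
  have hta : t * a * t⁻¹ ∈ (P : Subgroup G) := by
    have h1 := Subgroup.smul_mem_pointwise_smul a (MulAut.conj t) _ (hQ (Subgroup.mem_zpowers a))
    rw [← ht]
    exact h1
  set x := t * a * t⁻¹ with hx
  set b' : N := ⟨t * b * t⁻¹, ‹N.Normal›.conj_mem b hbN t⟩ with hb'
  have hcomm : x * (b' : G) = (b' : G) * x := by
    show t * a * t⁻¹ * (t * b * t⁻¹) = t * b * t⁻¹ * (t * a * t⁻¹)
    rw [conj_mul, conj_mul, hab'.eq]
  have hgc : ConjClasses.mk g = ConjClasses.mk ((b' : G) * x) := by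
    rw [ConjClasses.mk_eq_mk_iff_isConj]
    refine isConj_iff.mpr ⟨t, ?_⟩
    show t * g * t⁻¹ = t * b * t⁻¹ * (t * a * t⁻¹)
    rw [conj_mul, hg, hab'.eq]
  rw [hgc] at hC ⊢
  by_cases hF : FixedClass N (P : Set G) (ConjClasses.mk b')
  · exact absurd hC (hnotp b' hF x hta hcomm)
  · have hx1 : x = 1 := by
      by_contra hx1
      refine hF (hfixall x hta hx1 _ ((fixedClass_mk N _ _).mpr fun s hs => ?_))
      rw [Set.mem_singleton_iff.mp hs]
      rw [show (MulAut.conjNormal x : MulAut N) b' = b' from Subtype.ext (by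
        rw [MulAut.conjNormal_apply, hcomm, mul_inv_cancel_right])]
    rw [hx1, mul_one, ConjClasses.mk_eq_mk_iff_isConj]
    obtain ⟨y, -, hy⟩ := horbit b' hF
    refine (IsConj.trans (isConj_iff.mpr ⟨y, ?_⟩) (MonoidHom.map_isConj N.subtype hy)).symm
    exact (MulAut.conjNormal_apply _ _).symm

/-- Let p be a prime and G a finite group that is not nilpotent and has a normal p-complement (a normal subgroup of order prime to p and index a power of p). If G has exactly one irreducible complex character of degree divisible by p, then G has exactly one conjugacy class whose size is divisible by p. -/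
theorem result {G : Type*} [Group G] [Finite G] (p : ℕ) [Fact p.Prime] (hnil : ¬ Group.IsNilpotent G) (N : Subgroup G) [N.Normal] (hN : (Nat.card N).Coprime p) (hidx : ∃ k : ℕ, N.index = p ^ k) (hone : Nat.card {χ : Cfsg.IrrCharacter G // p ∣ Cfsg.charDegree (χ : G → ℂ)} = 1) : Nat.card {C : ConjClasses G // p ∣ Nat.card C.carrier} = 1 := by
  classical
  cases nonempty_fintype G
  have := Fintype.ofFinite N
  obtain ⟨P⟩ := (inferInstance : Nonempty (Sylow p G))
  by_cases hall : ∀ x ∈ (P : Subgroup G), ∀ θ : Cfsg.IrrCharacter N,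
      CfsgLib.CharTwist.conjFun N (θ : N → ℂ) x = θ
  · exfalso
    obtain ⟨e, he⟩ := IsPGroup.iff_card.mp P.2
    exact centralised_case hnil N hN hidx hone P fun x hx =>
      Cfsg.Agent.S4768.mem_centralizer_of_forall_fixed N
        ((Nat.Coprime.pow_left e hN.symm).coprime_dvd_left (he ▸ Subgroup.orderOf_dvd_natCard _ hx))
        (hall x hx)
  · push Not at hall
    obtain ⟨x, hx, θ, hθ⟩ := hall
    exact moved_case N hN hidx hone P θ hx hθ

end Cfsg.Agent.S4763
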