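import Cfsg.Statements.S4765
import Cfsg.Agent.Lib.SL2Deg.Degrees

set_option autoImplicit false
open Cfsg

namespace Cfsg.Agent.S4765

/-- Let F be a finite field of characteristic p with at least 4 elements. Then PSL(2,F) has exactly one irreducible complex character of degree divisible by p, and its degree is the order of F. -/
theorem result (p : ℕ) [Fact p.Prime] (F : Type*) [Field F] [Fintype F] [CharP F p] (hF : 4 ≤ Fintype.card F) : Nat.card {χ : Cfsg.IrrCharacter (Matrix.ProjectiveSpecialLinearGroup (Fin 2) F) // p ∣ Cfsg.charDegree (χ : Matrix.ProjectiveSpecialLinearGroup (Fin 2) F → ℂ)} = 1 ∧ ∀ χ : Cfsg.IrrCharacter (Matrix.ProjectiveSpecialLinearGroup (Fin 2) F), p ∣ Cfsg.charDegree (χ : Matrix.ProjectiveSpecialLinearGroup (Fin 2) F → ℂ) → Cfsg.charDegree (χ : Matrix.ProjectiveSpecialLinearGroup (Fin 2) F → ℂ) = Fintype.card F := by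
  classical
  obtain ⟨St, hSt1, hStz, hall⟩ := CfsgLib.SL2Deg.classification (F := F) hF
  obtain ⟨n, hp, hn⟩ := FiniteField.card F p
  have hpq : p ∣ Fintype.card F := by
    rw [hn]; exact dvd_pow_self p n.pos.ne'
  have huniq : ∀ χ : Cfsg.IrrCharacter (Matrix.ProjectiveSpecialLinearGroup (Fin 2) F),
      p ∣ Cfsg.charDegree (χ : Matrix.ProjectiveSpecialLinearGroup (Fin 2) F → ℂ) →
      Cfsg.charDegree (χ : Matrix.ProjectiveSpecialLinearGroup (Fin 2) F → ℂ) = Fintype.card F ∧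
        ∀ g : Matrix.SpecialLinearGroup (Fin 2) F,
          (χ : Matrix.ProjectiveSpecialLinearGroup (Fin 2) F → ℂ) (QuotientGroup.mk g) =
            (St : Matrix.SpecialLinearGroup (Fin 2) F → ℂ) g := by
    intro χ hχ
    obtain ⟨η, hη⟩ := CfsgLib.SL2Deg.exists_inflate χ
    obtain ⟨d, hd, h1, huni⟩ := hall η
    have h1' := h1
    rw [hη, QuotientGroup.mk_one] at h1'
    rw [CfsgLib.SL2Deg.charDegree_eq h1'] at hχ ⊢
    have key : d = Fintype.card F := by
      have hp2 := hp.two_le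
      have contra : ∀ m : ℕ, p ∣ m → (Fintype.card F + 1 = m ∨ m + 1 = Fintype.card F) → False := by
        intro m hm h
        refine hp.not_dvd_one ?_
        rcases h with h | h
        · exact (Nat.dvd_add_right hpq).1 (h ▸ hm)
        · exact (Nat.dvd_add_right hm).1 (h ▸ hpq)
      rcases hd with rfl | rfl | rfl | rfl | ⟨⟨k, hk⟩, rfl | rfl⟩
      · exact absurd hχ hp.not_dvd_one
      · rfl
      · exact (contra _ hχ (Or.inl rfl)).elim
      · exact (contra _ hχ (Or.inr (by omega))).elim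
      · exact (contra _ (hχ.trans (Dvd.intro_left 2 rfl)) (Or.inl (by omega))).elim
      · exact (contra _ (hχ.trans (Dvd.intro_left 2 rfl)) (Or.inr (by omega))).elim
    refine ⟨key, fun g => ?_⟩
    rw [← hη g, huni key]
  obtain ⟨⟨χ₀, hdeg⟩, -⟩ := CfsgLib.SL2Deg.mem_charDegrees_psl (d := Fintype.card F) hSt1 hStz
  refine ⟨?_, fun χ hχ => (huniq χ hχ).1⟩
  rw [Nat.card_eq_one_iff_unique]
  refine ⟨⟨fun a b => Subtype.ext (Subtype.ext (funext fun x => ?_))⟩, ⟨⟨χ₀, hdeg.symm ▸ hpq⟩⟩⟩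
  obtain ⟨g, rfl⟩ := QuotientGroup.mk_surjective x
  rw [(huniq a.1 a.2).2 g, (huniq b.1 b.2).2 g]

end Cfsg.Agent.S4765
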