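import Cfsg.Statements.S4775
import Cfsg.Agent.Lib.SuzukiChar.Table
import Cfsg.Agent.Lib.SuzukiMatrix.Bridge
import Cfsg.Agent.Lib.Char.Twist

set_option autoImplicit false
open Cfsg

namespace Cfsg.Agent.S4775

universe u v

private theorem charDegrees_congr {A : Type u} {B : Type v} [Group A] [Group B] (e : A ≃* B) :
    Cfsg.charDegrees A = Cfsg.charDegrees B := by
  ext d
  constructor
  · rintro ⟨χ, rfl⟩
    exact ⟨⟨_, CfsgLib.CharTwist.isIrrCharacter_comp_equiv χ.2 e.symm⟩, by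
      simp [Cfsg.charDegree]⟩
  · rintro ⟨χ, rfl⟩
    exact ⟨⟨_, CfsgLib.CharTwist.isIrrCharacter_comp_equiv χ.2 e⟩, by simp [Cfsg.charDegree]⟩

/-- The graph read off from the degree list. -/
private theorem graph_of_degrees (q h P M : ℕ) (hq : q = 2 * h ^ 2) (heven : 2 ∣ h)
    (hqp : ∃ k, q = 2 ^ k) (hhp : ∃ k, h = 2 ^ k) (hprod : P * M = q ^ 2 + 1) (S : Type*) [Group S]
    (hdeg : Cfsg.charDegrees S = {1, q ^ 2, q ^ 2 + 1, (q - 1) * P, (q - 1) * M, (q - 1) * h}) :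
    Cfsg.degreePrimes S = {r : ℕ | r.Prime ∧ (r = 2 ∨ r ∣ (q - 1) * (q ^ 2 + 1))} ∧
      ∀ r s : ℕ, (Cfsg.degreeGraph S).Adj r s ↔ (r ≠ s ∧ r.Prime ∧ s.Prime ∧
        ((r ∣ (q - 1) * (q ^ 2 + 1) ∧ s ∣ (q - 1) * (q ^ 2 + 1)) ∨ (r = 2 ∧ s ∣ q - 1) ∨
          (s = 2 ∧ r ∣ q - 1))) := by
  have h2q : 2 ∣ q := hq ▸ Dvd.intro _ rfl
  have hq0 : 0 < q := by obtain ⟨k, rfl⟩ := hqp; positivity
  have hone : ∀ r, r.Prime → r ∣ q → r = 2 := fun r hr hd => by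
    obtain ⟨k, rfl⟩ := hqp
    exact (Nat.prime_dvd_prime_iff_eq hr Nat.prime_two).1 (hr.dvd_of_dvd_pow hd)
  have honeh : ∀ r, r.Prime → r ∣ h → r = 2 := fun r hr hd => by
    obtain ⟨k, rfl⟩ := hhp
    exact (Nat.prime_dvd_prime_iff_eq hr Nat.prime_two).1 (hr.dvd_of_dvd_pow hd)
  have hodd : ¬ 2 ∣ q - 1 ∧ ¬ 2 ∣ q ^ 2 + 1 ∧ ¬ 2 ∣ P ∧ ¬ 2 ∣ M := by
    have h1 : 2 ∣ q ^ 2 := dvd_pow h2q two_ne_zero
    have h2 : ¬ 2 ∣ q ^ 2 + 1 := by omega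
    exact ⟨by omega, h2, fun hd => h2 (hprod ▸ dvd_mul_of_dvd_left hd M),
      fun hd => h2 (hprod ▸ dvd_mul_of_dvd_right hd P)⟩
  have hsplit : ∀ r, r.Prime → r ∣ (q - 1) * (q ^ 2 + 1) → r ∣ q - 1 ∨ r ∣ P ∨ r ∣ M :=
    fun r hr hd => (hr.dvd_mul.1 hd).imp_right fun hd' => hr.dvd_mul.1 (hprod ▸ hd')
  have hodd' : ∀ r, r.Prime → r ∣ (q - 1) * (q ^ 2 + 1) → r ≠ 2 := by
    intro r hr hd e
    subst e
    rcases hr.dvd_mul.1 hd with e | e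
    exacts [hodd.1 e, hodd.2.1 e]
  have hPQ : P ∣ q ^ 2 + 1 := hprod ▸ Dvd.intro M rfl
  have hMQ : M ∣ q ^ 2 + 1 := hprod ▸ Dvd.intro_left P rfl
  constructor
  · ext r
    simp only [Cfsg.degreePrimes, Set.mem_setOf_eq, hdeg, Set.mem_insert_iff, Set.mem_singleton_iff]
    refine and_congr_right fun hr => ⟨?_, ?_⟩
    · rintro ⟨d, (rfl | rfl | rfl | rfl | rfl | rfl), hd⟩
      · exact absurd (Nat.dvd_one.1 hd) hr.ne_one
      · exact Or.inl (hone r hr (hr.dvd_of_dvd_pow hd))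
      · exact Or.inr (dvd_mul_of_dvd_right hd _)
      · exact Or.inr (hd.trans (mul_dvd_mul_left _ hPQ))
      · exact Or.inr (hd.trans (mul_dvd_mul_left _ hMQ))
      · rcases hr.dvd_mul.1 hd with e | e
        · exact Or.inr (dvd_mul_of_dvd_left e _)
        · exact Or.inl (honeh r hr e)
    · rintro (rfl | hd)
      · exact ⟨q ^ 2, Or.inr (Or.inl rfl), dvd_pow h2q two_ne_zero⟩
      · rcases hr.dvd_mul.1 hd with e | e
        · exact ⟨(q - 1) * h, by tauto, dvd_mul_of_dvd_left e _⟩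
        · exact ⟨q ^ 2 + 1, by tauto, e⟩
  intro r s
  show (r ≠ s ∧ r.Prime ∧ s.Prime ∧ ∃ d ∈ Cfsg.charDegrees S, r * s ∣ d) ↔ _
  rw [hdeg]
  simp only [Set.mem_insert_iff, Set.mem_singleton_iff]
  refine and_congr_right fun hne => and_congr_right fun hr => and_congr_right fun hs => ?_
  have hco : Nat.Coprime r s := (Nat.coprime_primes hr hs).2 hne
  constructor
  · rintro ⟨d, hd, hdvd⟩
    have h1 : r ∣ d := (dvd_mul_right r s).trans hdvd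
    have h2 : s ∣ d := (dvd_mul_left s r).trans hdvd
    rcases hd with rfl | rfl | rfl | rfl | rfl | rfl
    · exact absurd (Nat.dvd_one.1 h1) hr.ne_one
    · exact absurd ((hone r hr (hr.dvd_of_dvd_pow h1)).trans
        (hone s hs (hs.dvd_of_dvd_pow h2)).symm) hne
    · exact Or.inl ⟨dvd_mul_of_dvd_right h1 _, dvd_mul_of_dvd_right h2 _⟩
    · exact Or.inl ⟨h1.trans (mul_dvd_mul_left _ hPQ), h2.trans (mul_dvd_mul_left _ hPQ)⟩
    · exact Or.inl ⟨h1.trans (mul_dvd_mul_left _ hMQ), h2.trans (mul_dvd_mul_left _ hMQ)⟩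
    · rcases hr.dvd_mul.1 h1 with a | a <;> rcases hs.dvd_mul.1 h2 with b | b
      · exact Or.inl ⟨dvd_mul_of_dvd_left a _, dvd_mul_of_dvd_left b _⟩
      · exact Or.inr (Or.inr ⟨honeh s hs b, a⟩)
      · exact Or.inr (Or.inl ⟨honeh r hr a, b⟩)
      · exact absurd ((honeh r hr a).trans (honeh s hs b).symm) hne
  · rintro (⟨a, b⟩ | ⟨rfl, b⟩ | ⟨rfl, a⟩)
    · rcases hr.dvd_mul.1 a with a' | a' <;> rcases hs.dvd_mul.1 b with b' | b'
      · exact ⟨(q - 1) * h, by tauto, dvd_mul_of_dvd_left (hco.mul_dvd_of_dvd_of_dvd a' b') _⟩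
      · rcases hs.dvd_mul.1 (hprod ▸ b' : s ∣ P * M) with e | e
        · exact ⟨(q - 1) * P, by tauto, mul_dvd_mul a' e⟩
        · exact ⟨(q - 1) * M, by tauto, mul_dvd_mul a' e⟩
      · rcases hr.dvd_mul.1 (hprod ▸ a' : r ∣ P * M) with e | e
        · exact ⟨(q - 1) * P, by tauto, mul_comm r s ▸ mul_dvd_mul b' e⟩
        · exact ⟨(q - 1) * M, by tauto, mul_comm r s ▸ mul_dvd_mul b' e⟩
      · exact ⟨q ^ 2 + 1, by tauto, hco.mul_dvd_of_dvd_of_dvd a' b'⟩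
    · exact ⟨(q - 1) * h, by tauto, mul_comm 2 s ▸ mul_dvd_mul b heven⟩
    · exact ⟨(q - 1) * h, by tauto, mul_dvd_mul a heven⟩

/-- Let F be a finite field with q = 2^(2m+1) ≥ 8 elements and let S be isomorphic to the Suzuki group over F. Then the vertices of the character degree graph of S are 2 and the primes dividing (q − 1)(q² + 1); the primes dividing (q − 1)(q² + 1) are pairwise adjacent, and 2 is adjacent exactly to the primes dividing q − 1. -/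
theorem result (F : Type*) [Field F] [Fintype F] (m : ℕ) (hm : 1 ≤ m) (q : ℕ) (hq : Fintype.card F = q) (hqm : q = 2 ^ (2 * m + 1)) {S : Type*} [Group S] [Finite S] (hS : Nonempty (S ≃* ↥(Cfsg.Lie.Sz F (2 ^ (m + 1))))) : Cfsg.degreePrimes S = {r : ℕ | r.Prime ∧ (r = 2 ∨ r ∣ (q - 1) * (q ^ 2 + 1))} ∧ ∀ r s : ℕ, (Cfsg.degreeGraph S).Adj r s ↔ (r ≠ s ∧ r.Prime ∧ s.Prime ∧ ((r ∣ (q - 1) * (q ^ 2 + 1) ∧ s ∣ (q - 1) * (q ^ 2 + 1)) ∨ (r = 2 ∧ s ∣ q - 1) ∨ (s = 2 ∧ r ∣ q - 1))) := by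
  obtain ⟨e⟩ := hS
  have h : CfsgLib.Suzuki.SzHyp F m := ⟨hm, hq.trans hqm⟩
  subst hqm
  have hdeg := (charDegrees_congr (e.trans (CfsgLib.SuzukiMatrix.szEquiv h).symm)).trans
    (CfsgLib.SzChar.charDegrees_sz h)
  have hqh : 2 ^ (2 * m + 1) = 2 * (2 ^ m) ^ 2 := by rw [pow_succ, pow_mul']; ring
  refine graph_of_degrees _ _ _ _ hqh (dvd_pow_self 2 (by omega)) ⟨_, rfl⟩ ⟨_, rfl⟩ ?_ S hdeg
  have hle : 2 * 2 ^ m ≤ 2 ^ (2 * m + 1) + 1 := by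
    rw [hqh]; have := Nat.le_self_pow two_ne_zero (2 ^ m); omega
  zify [hle]
  have hz : (2 : ℤ) ^ (2 * m + 1) = 2 * ((2 : ℤ) ^ m) ^ 2 := by exact_mod_cast hqh
  rw [hz]; ring

end Cfsg.Agent.S4775
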