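import Cfsg.Statements.S4776
import Cfsg.Agent.Lib.DegGraph.RelGraph

set_option autoImplicit false
open Cfsg

namespace Cfsg.Agent.S4776

/-- Let N be a normal subgroup of the finite group G that is not perfect and is contained in the derived subgroup of G. Consider the common-divisor graph on the relative degree set cd(G|N) (the degrees of the irreducible complex characters of G whose kernel does not contain N; two distinct degrees adjacent when they have a common divisor greater than one). Then this graph has at most two connected components; and if a, b ∈ cd(G|N) lie in different components, then one of a, b is coprime to the index m of the derived subgroup of N in N while the other is divisible by every prime divisor of m. -/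
theorem result {G : Type*} [Group G] [Finite G] (N : Subgroup G) [N.Normal] (hN : ⁅N, N⁆ < N) (hNG : N ≤ commutator G) : Nat.card (Cfsg.commonDivisorGraph.induce (Cfsg.relCharDegrees N)).ConnectedComponent ≤ 2 ∧ ∀ (a b : ℕ) (ha : a ∈ Cfsg.relCharDegrees N) (hb : b ∈ Cfsg.relCharDegrees N), ¬ (Cfsg.commonDivisorGraph.induce (Cfsg.relCharDegrees N)).Reachable ⟨a, ha⟩ ⟨b, hb⟩ → (Nat.Coprime a (⁅N, N⁆.relIndex N) ∧ ∀ r : ℕ, r.Prime → r ∣ ⁅N, N⁆.relIndex N → r ∣ b) ∨ (Nat.Coprime b (⁅N, N⁆.relIndex N) ∧ ∀ r : ℕ, r.Prime → r ∣ ⁅N, N⁆.relIndex N → r ∣ a) := by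
  classical
  cases nonempty_fintype G
  have : Fintype N := Fintype.ofFinite N
  have hm1 : ⁅N, N⁆.relIndex N ≠ 1 := fun h => not_le_of_gt hN (Subgroup.relIndex_eq_one.1 h)
  have hyes : ∀ (r : ℕ), r.Prime → r ∣ ⁅N, N⁆.relIndex N → ∀ (a b : ℕ)
      (ha : a ∈ Cfsg.relCharDegrees N) (hb : b ∈ Cfsg.relCharDegrees N), (r ∣ a ↔ r ∣ b) →
      (Cfsg.commonDivisorGraph.induce (Cfsg.relCharDegrees N)).Reachable ⟨a, ha⟩ ⟨b, hb⟩ := by
    intro r hr hm a b ha hb hab
    rcases CfsgLib.DegGraph.preconn_or_conn hNG hr hm with h | ⟨-, h⟩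
    · exact (h a ha b hb).2.2
    · exact (h a ha b hb hab).2.2
  refine ⟨?_, fun a b ha hb hnr => ?_⟩
  · set Γ := Cfsg.commonDivisorGraph.induce (Cfsg.relCharDegrees N)
    have hp := Nat.minFac_prime hm1
    choose rep hrep using fun c : Γ.ConnectedComponent => c.exists_rep
    refine (Nat.card_le_card_of_injective
      (fun c => decide ((⁅N, N⁆.relIndex N).minFac ∣ (rep c).1)) ?_).trans (by simp)
    intro c c' hcc
    simp only [decide_eq_decide] at hcc
    rw [← hrep c, ← hrep c']
    exact SimpleGraph.ConnectedComponent.sound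
      (hyes _ hp (Nat.minFac_dvd _) _ _ (rep c).2 (rep c').2 hcc)
  · have hone : ∀ r : ℕ, r.Prime → r ∣ ⁅N, N⁆.relIndex N → ¬ (r ∣ a ↔ r ∣ b) :=
      fun r hr hm h => hnr (hyes r hr hm a b ha hb h)
    by_cases hco : Nat.Coprime a (⁅N, N⁆.relIndex N)
    · refine Or.inl ⟨hco, fun r hr hm => ?_⟩
      by_contra h
      exact hone r hr hm (iff_of_false (fun hra => hr.not_dvd_one
        (hco ▸ Nat.dvd_gcd hra hm)) h)
    · obtain ⟨r, hr, hrd⟩ := Nat.exists_prime_and_dvd hco
      have hra := hrd.trans (Nat.gcd_dvd_left _ _)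
      have hrm := hrd.trans (Nat.gcd_dvd_right _ _)
      have hrb : ¬ r ∣ b := fun h => hone r hr hrm (iff_of_true hra h)
      have hall : ∀ s : ℕ, s.Prime → s ∣ ⁅N, N⁆.relIndex N → s ∣ a := by
        intro s hs hsm
        by_contra hsa
        by_cases hrs : r = s
        · exact hsa (hrs ▸ hra)
        · exact hnr (CfsgLib.DegGraph.conn_cross hNG hr hs hrs hrm hsm ha hb hsa hrb).2.2
      refine Or.inr ⟨Nat.coprime_of_dvd fun s hs hsb hsm => ?_, hall⟩
      exact hone s hs hsm (iff_of_true (hall s hs hsm) hsb)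

end Cfsg.Agent.S4776
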