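import Cfsg.Statements.S4779
import Cfsg.Agent.Lib.DegGraph.RelSolvable

set_option autoImplicit false
open Cfsg

namespace Cfsg.Agent.S4779

/-- Let N be a solvable normal subgroup of the finite group G contained in the derived subgroup of G, and consider the common-divisor graph on the relative degree set cd(G|N) (degrees of irreducible complex characters of G whose kernel does not contain N, two distinct degrees adjacent when not coprime). If this graph has two vertices that are not joined by any path, then there is a vertex a₀ such that any two distinct vertices in the component of a₀ are adjacent, and any two distinct vertices outside that component are adjacent or have a common neighbour (one component is complete, the other has diameter at most 2). -/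
theorem result {G : Type*} [Group G] [Finite G] (N : Subgroup G) [N.Normal] [Group.IsSolvable N] (hNG : N ≤ commutator G) (hdisc : ¬ (Cfsg.commonDivisorGraph.induce (Cfsg.relCharDegrees N)).Preconnected) : ∃ a₀ : ↥(Cfsg.relCharDegrees N), (∀ b c : ↥(Cfsg.relCharDegrees N), (Cfsg.commonDivisorGraph.induce (Cfsg.relCharDegrees N)).Reachable a₀ b → (Cfsg.commonDivisorGraph.induce (Cfsg.relCharDegrees N)).Reachable a₀ c → b ≠ c → (Cfsg.commonDivisorGraph.induce (Cfsg.relCharDegrees N)).Adj b c) ∧ (∀ b c : ↥(Cfsg.relCharDegrees N), ¬ (Cfsg.commonDivisorGraph.induce (Cfsg.relCharDegrees N)).Reachable a₀ b → ¬ (Cfsg.commonDivisorGraph.induce (Cfsg.relCharDegrees N)).Reachable a₀ c → b ≠ c → (Cfsg.commonDivisorGraph.induce (Cfsg.relCharDegrees N)).Adj b c ∨ ∃ d : ↥(Cfsg.relCharDegrees N), (Cfsg.commonDivisorGraph.induce (Cfsg.relCharDegrees N)).Adj b d ∧ (Cfsg.commonDivisorGraph.induce (Cfsg.relCharDegrees N)).Adj d c) := by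
  classical
  cases nonempty_fintype G
  have : Fintype N := Fintype.ofFinite N
  set Γ := Cfsg.commonDivisorGraph.induce (Cfsg.relCharDegrees N)
  set m := ⁅N, N⁆.relIndex N with hm
  -- reduce to connectedness failing
  have hne : ¬ ∀ a ∈ Cfsg.relCharDegrees N, ∀ b ∈ Cfsg.relCharDegrees N,
      CfsgLib.DegGraph.Conn N a b :=
    fun h => hdisc fun a b => (h a a.2 b b.2).2.2
  have hm1 : m ≠ 1 := by
    intro h
    have hNN : N ≤ ⁅N, N⁆ := Subgroup.relIndex_eq_one.1 h
    apply hne
    intro a ⟨χ, ⟨x, hx, hne'⟩, _⟩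
    exfalso
    obtain ⟨k, hk⟩ := (inferInstance : Group.IsSolvable N).solvable
    have hall : ∀ j, N ≤ (derivedSeries N j).map N.subtype := by
      intro j
      induction j with
      | zero => rw [derivedSeries_zero, ← MonoidHom.range_eq_map, Subgroup.range_subtype]
      | succ j ih =>
        rw [derivedSeries_succ, Subgroup.map_commutator]
        exact hNN.trans (Subgroup.commutator_mono ih ih)
    have := hall k hx
    rw [hk, Subgroup.map_bot, Subgroup.mem_bot] at this
    exact hne' (this ▸ rfl)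
  have hinv : ∀ r : ℕ, r.Prime → r ∣ m →
      ∀ ν : N →* ℂˣ, ν ^ r = 1 → ν ≠ 1 → CfsgLib.DegGraph.stab (G := G) ν ≠ ⊤ := by
    intro r hr hrm
    rcases CfsgLib.DegGraph.preconn_or_conn hNG hr hrm with h | ⟨h, -⟩
    · exact absurd h hne
    · exact h
  have hcls : ∀ r : ℕ, r.Prime → r ∣ m → ∀ a ∈ Cfsg.relCharDegrees N,
      ∀ b ∈ Cfsg.relCharDegrees N, (CfsgLib.DegGraph.Conn N a b ↔ (r ∣ a ↔ r ∣ b)) := by
    intro r hr hrm a ha b hb
    rcases CfsgLib.DegGraph.preconn_or_conn hNG hr hrm with h | ⟨-, h⟩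
    · exact absurd h hne
    refine ⟨fun hab => ?_, h a ha b hb⟩
    by_contra hpar
    apply hne
    have key : ∀ c ∈ Cfsg.relCharDegrees N, CfsgLib.DegGraph.Conn N c a := by
      intro c hc
      by_cases hca : r ∣ c ↔ r ∣ a
      · exact h c hc a ha hca
      · exact (h c hc b hb (by tauto)).trans hab.symm
    exact fun c hc d hd => (key c hc).trans (key d hd).symm
  have hp := Nat.minFac_prime hm1
  have hpm : m.minFac ∣ m := Nat.minFac_dvd m
  -- an element prime to the smallest prime, and one divisible by it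
  obtain ⟨b₀, hb₀, hpb₀⟩ : ∃ b ∈ Cfsg.relCharDegrees N, ¬ m.minFac ∣ b := by
    by_contra hc
    push Not at hc
    exact hne fun a ha b hb => (hcls _ hp hpm a ha b hb).2 (iff_of_true (hc a ha) (hc b hb))
  obtain ⟨a₀, ha₀, hpa₀⟩ : ∃ a ∈ Cfsg.relCharDegrees N, m.minFac ∣ a := by
    by_contra hc
    push Not at hc
    exact hne fun a ha b hb => (hcls _ hp hpm a ha b hb).2 (iff_of_false (hc a ha) (hc b hb))
  have hfree : ∀ a ∈ Cfsg.relCharDegrees N, ¬ m.minFac ∣ a → Nat.Coprime a m := by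
    intro a ha hpa
    refine Nat.coprime_of_dvd fun r hr hra hrm => ?_
    by_cases hrp : r = m.minFac
    · exact hpa (hrp ▸ hra)
    obtain ⟨c, hc, hrc⟩ : ∃ c ∈ Cfsg.relCharDegrees N, ¬ r ∣ c := by
      by_contra hc
      push Not at hc
      exact hne fun a ha b hb => (hcls _ hr hrm a ha b hb).2 (iff_of_true (hc a ha) (hc b hb))
    have := (hcls _ hr hrm a ha c hc).1
      (CfsgLib.DegGraph.conn_cross hNG hr hp hrp hrm hpm ha hc hpa hrc)
    exact hrc (this.1 hra)
  have hpar : ∀ a b, CfsgLib.DegGraph.Conn N a b → Nat.Coprime a m → Nat.Coprime b m := by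
    intro a b hab hca
    refine hfree b hab.2.1 fun hpb => ?_
    have := ((hcls _ hp hpm a hab.1 b hab.2.1).1 hab).2 hpb
    exact hp.not_dvd_one (hca ▸ Nat.dvd_gcd this hpm)
  have hadj : ∀ x y : ↥(Cfsg.relCharDegrees N), x ≠ y → ¬ Nat.Coprime x.1 y.1 → Γ.Adj x y := by
    intro x y hxy hco
    refine show Cfsg.commonDivisorGraph.Adj x.1 y.1 from ⟨fun h => hxy (Subtype.ext h), ?_⟩
    have h0 : 0 < Nat.gcd x.1 y.1 := by
      obtain ⟨χ, -, hχ⟩ := x.2
      exact Nat.gcd_pos_of_pos_left _ (hχ ▸ CfsgLib.CharTools.irr_degree_pos χ)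
    have h1 : Nat.gcd x.1 y.1 ≠ 1 := hco
    omega
  have hdiv : ∀ x : ↥(Cfsg.relCharDegrees N), Γ.Reachable ⟨a₀, ha₀⟩ x ↔ m.minFac ∣ x.1 := by
    intro x
    constructor
    · exact fun h => ((hcls _ hp hpm a₀ ha₀ x.1 x.2).1 ⟨ha₀, x.2, h⟩).1 hpa₀
    · exact fun h => ((hcls _ hp hpm a₀ ha₀ x.1 x.2).2 (iff_of_true hpa₀ h)).2.2
  refine ⟨⟨a₀, ha₀⟩, fun b c hb hc hbc => ?_, fun b c hb hc hbc => ?_⟩
  · exact hadj b c hbc fun h =>
      hp.ne_one (Nat.eq_one_of_dvd_coprimes h ((hdiv b).1 hb) ((hdiv c).1 hc))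
  · have hb' := hfree b.1 b.2 fun h => hb ((hdiv b).2 h)
    have hc' := hfree c.1 c.2 fun h => hc ((hdiv c).2 h)
    rcases CfsgLib.DegGraph.exists_common_neighbour hNG hinv hpar b.2 c.2 hb' hc' with
      h | ⟨d, hd, hbd, hcd⟩
    · exact Or.inl (hadj b c hbc h)
    by_cases hdb : b = ⟨d, hd⟩
    · exact Or.inl (hadj b c hbc fun h => hcd (by rw [hdb] at h; exact h.symm))
    by_cases hdc : c = ⟨d, hd⟩
    · exact Or.inl (hadj b c hbc fun h => hbd (by rw [hdc] at h; exact h))
    exact Or.inr ⟨⟨d, hd⟩, hadj b _ hdb hbd, (hadj c _ hdc hcd).symm⟩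

end Cfsg.Agent.S4779
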