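import Cfsg.Statements.S4782
import Cfsg.Agent.Lib.Char.Burnside
import Cfsg.Agent.Lib.Char.Twist
import Cfsg.Agent.Lib.Blk83.ItoMichler
-- import your own Cfsg.Agent.* helpers here

set_option autoImplicit false
open Cfsg

namespace Cfsg.Agent.S4782

open CfsgLib CfsgLib.Char

universe u

/-- In a nonabelian simple group the degrees are never supported by two primes, one of which
divides the order: look at an element central in a Sylow subgroup for that prime. -/
theorem exists_third {T : Type u} [Group T] [Finite T] [IsSimpleGroup T]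
    (hT : Subgroup.center T ≠ ⊤) {p q : ℕ} (hp : p.Prime) (hq : q.Prime) (hqT : q ∣ Nat.card T) :
    ∃ (χ : Cfsg.IrrCharacter T) (r : ℕ), r.Prime ∧ r ≠ p ∧ r ≠ q ∧
      r ∣ Cfsg.charDegree (χ : T → ℂ) := by
  classical
  by_contra hcon
  push Not at hcon
  have := Fintype.ofFinite T
  have : Fact q.Prime := ⟨hq⟩
  obtain ⟨P⟩ : Nonempty (Sylow q T) := inferInstance
  have hPnt : Nontrivial P :=
    (Subgroup.nontrivial_iff_ne_bot _).mpr (P.ne_bot_of_dvd_card hqT)
  have := P.2.center_nontrivial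
  obtain ⟨z, hz⟩ := exists_ne (1 : Subgroup.center P)
  set g : T := ((z : P) : T) with hgdef
  have hg : g ≠ 1 := fun h => hz (Subtype.ext (Subtype.ext h))
  have hle : (P : Subgroup T) ≤ Subgroup.centralizer {g} := by
    intro x hx
    rw [Subgroup.mem_centralizer_singleton_iff]
    exact congrArg Subtype.val (Subgroup.mem_center_iff.mp z.2 ⟨x, hx⟩)
  have hnq : ¬ q ∣ (Subgroup.centralizer {g}).index := fun h =>
    P.not_dvd_index (h.trans (Subgroup.index_dvd_of_le hle))
  let O : Cfsg.IrrCharacter T := ⟨1, isIrrCharacter_one⟩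
  obtain ⟨χ, hχO, hχp, hχg⟩ : ∃ χ : Cfsg.IrrCharacter T,
      χ ≠ O ∧ ¬ p ∣ degree (χ : T → ℂ) ∧ (χ : T → ℂ) g ≠ 0 := by
    by_contra hcon2
    push Not at hcon2
    have hsum := sum_apply_one_mul g
    rw [if_neg hg, ← Finset.add_sum_erase Finset.univ _ (Finset.mem_univ O)] at hsum
    have hint : IsIntegral ℤ ((∑ χ ∈ Finset.univ.erase O,
        (χ : T → ℂ) 1 * (χ : T → ℂ) g) / (p : ℂ)) := by
      rw [Finset.sum_div]
      refine IsIntegral.sum _ fun χ hχ => ?_
      obtain ⟨n, ρ, hρ, he⟩ := χ.2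
      by_cases hd : p ∣ degree (χ : T → ℂ)
      · obtain ⟨c, hc⟩ := hd
        rw [← IsCharacter.degree_cast (IsIrrCharacter.isCharacter χ.2), hc]
        push_cast
        rw [mul_assoc, mul_div_cancel_left₀ _ (Nat.cast_ne_zero.mpr hp.ne_zero)]
        refine IsIntegral.mul ?_ (he ▸ isIntegral_character ρ g)
        exact isIntegral_algebraMap (R := ℤ) (x := (c : ℤ))
      · simp [hcon2 χ (Finset.ne_of_mem_erase hχ) hd, isIntegral_zero]
    have hO : (O : T → ℂ) 1 * (O : T → ℂ) g = 1 := by simp [O]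
    rw [hO] at hsum
    rw [eq_neg_of_add_eq_zero_right hsum] at hint
    have h1 : IsIntegral ℤ ((1 : ℕ) / (p : ℂ)) := by simpa [neg_div] using hint.neg
    exact hp.one_lt.ne' (Nat.dvd_one.mp (dvd_of_isIntegral_natCast_div hp.ne_zero h1))
  have honly : ∀ r : ℕ, r.Prime → r ∣ degree (χ : T → ℂ) → r = q := by
    intro r hr hrd
    by_contra hrq
    by_cases hrp : r = p
    · exact hχp (hrp ▸ hrd)
    · exact hcon χ r hr hrp hrq hrd
  have hcop : Nat.Coprime (degree (χ : T → ℂ)) (Subgroup.centralizer ({g} : Set T)).index :=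
    Nat.coprime_of_dvd fun r hr h1 h2 => hnq (honly r hr h1 ▸ h2)
  obtain ⟨n, ρ, hρ, hchar⟩ := χ.2
  rw [← hchar] at hχg hcop
  rw [degree_character] at hcop
  obtain ⟨ω, hω⟩ := eq_smul_one_of_norm_character_eq ρ g
    ((char_eq_zero_or_norm_eq_finrank ρ g hcop).resolve_left hχg)
  have hker : (MonoidHom.ker ρ).Normal := MonoidHom.normal_ker ρ
  rcases hker.eq_bot_or_eq_top with hk | hk
  · have hgc : g ∈ Subgroup.center T := by
      rw [Subgroup.mem_center_iff]
      intro x
      have h1 : g * x * g⁻¹ * x⁻¹ ∈ MonoidHom.ker ρ := by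
        rw [MonoidHom.mem_ker]
        have hc : ρ g * ρ x = ρ x * ρ g := by rw [hω, smul_mul_assoc, one_mul, mul_smul_comm, mul_one]
        rw [map_mul, map_mul, map_mul, hc, mul_assoc (ρ x), ← map_mul, mul_inv_cancel, map_one,
          mul_one, ← map_mul, mul_inv_cancel, map_one]
      rw [hk, Subgroup.mem_bot, mul_inv_eq_one, mul_inv_eq_iff_eq_mul] at h1
      exact h1.symm
    rcases (inferInstance : (Subgroup.center T).Normal).eq_bot_or_eq_top with hz | hz
    · exact hg (by simpa [hz] using hgc)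
    · exact hT hz
  · apply hχO
    have hconst : (χ : T → ℂ) = (n : ℂ) • (1 : T → ℂ) := by
      funext x
      have hx : ρ x = 1 := MonoidHom.mem_ker.mp (hk ▸ Subgroup.mem_top x)
      simp [← hchar, Representation.character, hx, LinearMap.trace_one]
    have hnorm := classInner_irr_self χ.2
    rw [hconst, classInner_smul_left, classInner_smul_right,
      classInner_irr_self isIrrCharacter_one, mul_one, map_natCast] at hnorm
    have hn : n = 1 := Nat.eq_one_of_mul_eq_one_left (m := n) (by exact_mod_cast hnorm)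
    exact Subtype.ext (by rw [hconst, hn]; simp [O])

/-- Three primes divide degrees of a nonabelian simple group. -/
theorem simple_three {T : Type u} [Group T] [Finite T] [IsSimpleGroup T]
    (hT : Subgroup.center T ≠ ⊤) :
    ∃ p q r : ℕ, p ≠ q ∧ q ≠ r ∧ p ≠ r ∧
      p ∈ Cfsg.degreePrimes T ∧ q ∈ Cfsg.degreePrimes T ∧ r ∈ Cfsg.degreePrimes T := by
  obtain ⟨t, ht, htT⟩ := Nat.exists_prime_and_dvd (n := Nat.card T) Finite.one_lt_card.ne'
  have hdvd : ∀ {χ : Cfsg.IrrCharacter T} {r : ℕ}, r ∣ Cfsg.charDegree (χ : T → ℂ) →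
      r ∣ Nat.card T := fun h => h.trans (CfsgLib.Blk83.deg_dvd _)
  obtain ⟨χ₁, p, hp, hpt, -, h1⟩ := exists_third hT ht ht htT
  obtain ⟨χ₂, q, hq, hqp, -, h2⟩ := exists_third hT hp ht htT
  obtain ⟨χ₃, r, hr, hrp, hrq, h3⟩ := exists_third hT hp hq (hdvd h2)
  exact ⟨p, q, r, hqp.symm, hrq.symm, hrp.symm, ⟨hp, _, ⟨χ₁, rfl⟩, h1⟩, ⟨hq, _, ⟨χ₂, rfl⟩, h2⟩,
    ⟨hr, _, ⟨χ₃, rfl⟩, h3⟩⟩

/-- Degree primes of a normal subgroup are degree primes of the group. -/
theorem degreePrimes_subgroup {G : Type u} [Group G] [Finite G] (M : Subgroup G) [M.Normal] :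
    Cfsg.degreePrimes M ⊆ Cfsg.degreePrimes G := by
  rintro p ⟨hp, d, ⟨θ, rfl⟩, hpd⟩
  cases nonempty_fintype M
  obtain ⟨χ, hχ⟩ := CfsgLib.Blk83.exists_over M θ
  exact ⟨hp, _, ⟨χ, rfl⟩,
    hpd.trans ((dvd_mul_right _ _).trans (CfsgLib.Blk83.dvd_of_constituent M χ θ hχ))⟩

/-- Degree primes of a quotient are degree primes of the group. -/
theorem degreePrimes_quotient {G : Type u} [Group G] [Finite G] (M : Subgroup G) [M.Normal] :
    Cfsg.degreePrimes (G ⧸ M) ⊆ Cfsg.degreePrimes G := by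
  rintro p ⟨hp, d, ⟨η, rfl⟩, hpd⟩
  exact ⟨hp, _, ⟨⟨_, CfsgLib.CharTwist.isIrrCharacter_comp η.2 (QuotientGroup.mk' M)
    (QuotientGroup.mk'_surjective M)⟩, rfl⟩, by simpa [Cfsg.charDegree] using hpd⟩

theorem exists_three : ∀ (n : ℕ) (G : Type u) [Group G] [Finite G], Nat.card G = n →
    ¬ Group.IsSolvable G → ∃ p q r : ℕ, p ≠ q ∧ q ≠ r ∧ p ≠ r ∧
      p ∈ Cfsg.degreePrimes G ∧ q ∈ Cfsg.degreePrimes G ∧ r ∈ Cfsg.degreePrimes G := by
  intro n
  induction n using Nat.strong_induction_on with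
  | _ n ih =>
    intro G _ _ hn hns
    rcases subsingleton_or_nontrivial G with hs | hnt
    · exact (hns inferInstance).elim
    by_cases hsimple : IsSimpleGroup G
    · refine simple_three fun h => hns ?_
      haveI : Fact (Nat.card G).Prime := ⟨card_prime_of_center_eq_top h⟩
      have := isCyclic_of_prime_card (α := G) rfl
      let _ : CommGroup G := IsCyclic.commGroup
      infer_instance
    · obtain ⟨N, hN, hNb, hNt⟩ : ∃ N : Subgroup G, N.Normal ∧ N ≠ ⊥ ∧ N ≠ ⊤ := by
        by_contra hcon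
        push Not at hcon
        exact hsimple ⟨fun N hN => or_iff_not_imp_left.mpr (hcon N hN)⟩
      have := hN
      have hmul : Nat.card (G ⧸ N) * Nat.card N = n := by
        rw [← hn]; exact (Subgroup.card_eq_card_quotient_mul_card_subgroup N).symm
      have h2 : 1 < Nat.card N := N.one_lt_card_iff_ne_bot.mpr hNb
      have h3 : 1 < Nat.card (G ⧸ N) := Subgroup.one_lt_index_of_ne_top hNt
      by_cases hsol : Group.IsSolvable N
      · have hQ : ¬ Group.IsSolvable (G ⧸ N) := fun hQ => hns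
          (Group.isSolvable_of_ker_le_range N.subtype (QuotientGroup.mk' N) (by simp))
        obtain ⟨p, q, r, a, b, c, hp, hq, hr⟩ := ih _ (by nlinarith) (G ⧸ N) rfl hQ
        exact ⟨p, q, r, a, b, c, degreePrimes_quotient N hp, degreePrimes_quotient N hq,
          degreePrimes_quotient N hr⟩
      · obtain ⟨p, q, r, a, b, c, hp, hq, hr⟩ := ih _ (by nlinarith) N rfl hsol
        exact ⟨p, q, r, a, b, c, degreePrimes_subgroup N hp, degreePrimes_subgroup N hq,
          degreePrimes_subgroup N hr⟩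

/-- If the finite group G is not solvable, then at least three distinct primes each divide some irreducible complex character degree of G. -/
theorem result {G : Type*} [Group G] [Finite G] (hG : ¬ Group.IsSolvable G) : ∃ p q r : ℕ, p ≠ q ∧ q ≠ r ∧ p ≠ r ∧ p ∈ Cfsg.degreePrimes G ∧ q ∈ Cfsg.degreePrimes G ∧ r ∈ Cfsg.degreePrimes G := by
  exact exists_three _ G rfl hG

end Cfsg.Agent.S4782
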