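import Cfsg.Statements.S4784
import Cfsg.Agent.Lib.CharTools.Indicator
import Cfsg.Agent.Lib.Char.RealOdd
import Cfsg.Agent.S0190
import Mathlib.GroupTheory.Perm.Basic
-- import your own Cfsg.Agent.* helpers here

set_option autoImplicit false
open Cfsg

namespace Cfsg.Agent.S4784

/-- Let H be a subgroup of the finite group G and consider the permutation character of G on the cosets of H (the function induced from the principal character of H). Then exactly one irreducible constituent of it is real-valued with Frobenius–Schur indicator +1 (namely the principal character) if and only if the normal core of H has odd index in G. -/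
theorem result {G : Type*} [Group G] [Fintype G] (H : Subgroup G) : Nat.card {χ : Cfsg.IrrCharacter G // Cfsg.classInner (Cfsg.indFun H (fun _ : H => (1 : ℂ))) (χ : G → ℂ) ≠ 0 ∧ (∀ g : G, (starRingEnd ℂ) ((χ : G → ℂ) g) = (χ : G → ℂ) g) ∧ (Nat.card G : ℂ)⁻¹ * ∑ g : G, (χ : G → ℂ) (g * g) = 1} = 1 ↔ Odd H.normalCore.index := by
  classical
  set π : G → ℂ := Cfsg.indFun H (fun _ : H => (1 : ℂ)) with hπdef
  have := Fintype.ofFinite (G ⧸ H)
  let F : G → ℕ := fun g => Nat.card (MulAction.fixedBy (G ⧸ H) g)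
  have hπ : ∀ g, π g = (F g : ℂ) := by
    intro g
    have h1 := congrFun (Cfsg.Agent.S0190.result (G ⧸ H) ((1 : G) : G ⧸ H)) g
    rw [MulAction.stabilizer_quotient] at h1
    exact h1.symm
  have hπchar : Cfsg.IsCharacter G π :=
    CfsgLib.Char.IsCharacter.indFun H (CfsgLib.Char.IsIrrCharacter.isCharacter CfsgLib.Char.isIrrCharacter_principal)
  obtain ⟨m, hm, -⟩ := CfsgLib.CharTools.exists_degree_combination hπchar
  have hm1 : m CfsgLib.Char.principalIrr = 1 := by
    have h1 := hm CfsgLib.Char.principalIrr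
    rw [CfsgLib.Char.classInner_indFun H _ _ (CfsgLib.Char.IsIrrCharacter.isClassFunction (CfsgLib.Char.principalIrr (G := G)).2)] at h1
    have h2 := CfsgLib.Char.classInner_irr_self (CfsgLib.Char.isIrrCharacter_principal (G := H))
    exact_mod_cast h1.symm.trans h2
  let S : Type _ := {χ : Cfsg.IrrCharacter G // Cfsg.classInner π (χ : G → ℂ) ≠ 0 ∧
    (∀ g : G, (starRingEnd ℂ) ((χ : G → ℂ) g) = (χ : G → ℂ) g) ∧
    (Nat.card G : ℂ)⁻¹ * ∑ g : G, (χ : G → ℂ) (g * g) = 1}
  have hprin : Cfsg.classInner π ((CfsgLib.Char.principalIrr (G := G)) : G → ℂ) ≠ 0 ∧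
      (∀ g : G, (starRingEnd ℂ) (((CfsgLib.Char.principalIrr (G := G)) : G → ℂ) g) = ((CfsgLib.Char.principalIrr (G := G)) : G → ℂ) g) ∧
      (Nat.card G : ℂ)⁻¹ * ∑ g : G, ((CfsgLib.Char.principalIrr (G := G)) : G → ℂ) (g * g) = 1 :=
    ⟨by rw [hm, hm1]; simp, fun g => map_one _, CfsgLib.RealChar.fsInd_principal⟩
  show Nat.card S = 1 ↔ _
  constructor
  · intro hcard
    have : Subsingleton S := (Nat.card_eq_one_iff_unique.mp hcard).1
    have hle : ∀ χ : Cfsg.IrrCharacter G, χ ≠ CfsgLib.Char.principalIrr →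
        (m χ : ℝ) * (CfsgLib.RealChar.fsInd (χ : G → ℂ)).re ≤ 0 := by
      intro χ hne
      by_cases h0 : m χ = 0
      · simp [h0]
      rcases CfsgLib.CharTools.fsInd_trichotomy χ.2 with h | h | h
      · simp [h]
      · exfalso
        refine hne (congrArg Subtype.val (Subsingleton.elim
          (⟨χ, by rw [hm]; exact_mod_cast h0, fun g => ?_, h⟩ : S) ⟨_, hprin⟩))
        exact Complex.conj_eq_iff_im.mpr (CfsgLib.RealChar.im_eq_zero_of_fsInd_ne_zero χ.2
          (by rw [h]; exact one_ne_zero) g)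
      · simp [h]
    have havg : CfsgLib.RealChar.fsInd π = ∑ χ, (m χ : ℂ) * CfsgLib.RealChar.fsInd (χ : G → ℂ) := by
      unfold CfsgLib.RealChar.fsInd
      rw [Finset.sum_congr rfl (fun x _ => by
        rw [congrFun (CfsgLib.Char.IsCharacter.eq_sum_classInner hπchar) (x * x)])]
      simp only [Finset.sum_apply, Pi.smul_apply, smul_eq_mul, hm]
      rw [Finset.sum_comm, Finset.mul_sum]
      refine Finset.sum_congr rfl fun χ _ => ?_
      rw [← Finset.mul_sum]
      ring
    have hre : (CfsgLib.RealChar.fsInd π).re ≤ 1 := by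
      rw [havg, Complex.re_sum, ← Finset.add_sum_erase _ _ (Finset.mem_univ CfsgLib.Char.principalIrr)]
      have h1 : CfsgLib.RealChar.fsInd ((CfsgLib.Char.principalIrr (G := G)) : G → ℂ) = 1 :=
        CfsgLib.RealChar.fsInd_principal
      rw [hm1, h1]
      have h2 : ∑ χ ∈ Finset.univ.erase (CfsgLib.Char.principalIrr (G := G)),
          ((m χ : ℂ) * CfsgLib.RealChar.fsInd (χ : G → ℂ)).re ≤ 0 := Finset.sum_nonpos fun χ hχ => by
        simpa using hle χ (Finset.ne_of_mem_erase hχ)
      simpa using h2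
    have hsum1 : ∑ g, F g = Nat.card G := by
      have h1 : Cfsg.classInner π (fun _ => 1) = 1 := by
        have := hm CfsgLib.Char.principalIrr
        rw [hm1, Nat.cast_one] at this
        exact this
      rw [Cfsg.classInner, inv_mul_eq_one₀ (Nat.cast_ne_zero.mpr Nat.card_pos.ne')] at h1
      simp only [hπ, map_one, mul_one] at h1
      exact_mod_cast h1.symm
    have hsum2 : ∑ g, F (g * g) ≤ Nat.card G := by
      have h1 : (CfsgLib.RealChar.fsInd π) = ((Nat.card G : ℝ)⁻¹ * (∑ g, F (g * g) : ℕ) : ℝ) := by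
        simp only [CfsgLib.RealChar.fsInd, hπ]
        push_cast
        rfl
      rw [h1, Complex.ofReal_re, inv_mul_le_one₀ (Nat.cast_pos.mpr Nat.card_pos)] at hre
      exact_mod_cast hre
    have hsub : ∀ g : G, MulAction.fixedBy (G ⧸ H) g ⊆ MulAction.fixedBy (G ⧸ H) (g * g) := by
      intro g x hx
      show (g * g) • x = x
      rw [mul_smul, show g • x = x from hx, show g • x = x from hx]
    have hFle : ∀ g, F g ≤ F (g * g) := fun g => Nat.card_mono (Set.toFinite _) (hsub g)
    have heq : ∀ g : G, MulAction.fixedBy (G ⧸ H) g = MulAction.fixedBy (G ⧸ H) (g * g) := by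
      intro g
      have h1 := (Finset.sum_eq_sum_iff_of_le (s := Finset.univ) (f := F) (g := fun g : G => F (g * g)) fun g _ => hFle g).mp
        (le_antisymm (Finset.sum_le_sum fun g _ => hFle g) (hsum1 ▸ hsum2)) g (Finset.mem_univ g)
      exact Set.eq_of_subset_of_ncard_le (hsub g)
        (by rw [← Nat.card_coe_set_eq, ← Nat.card_coe_set_eq]; exact h1.ge) (Set.toFinite _)
    by_contra hodd
    have heven : 2 ∣ H.normalCore.index := (Nat.not_odd_iff_even.mp hodd).two_dvd
    obtain ⟨y, hy⟩ := exists_prime_orderOf_dvd_card' (G := G ⧸ H.normalCore) 2 heven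
    obtain ⟨g, rfl⟩ := QuotientGroup.mk_surjective y
    have hg2 : g * g ∈ H.normalCore := by
      rw [← QuotientGroup.eq_one_iff, QuotientGroup.mk_mul, ← sq, ← hy, pow_orderOf_eq_one]
    have hfix : ∀ x : G ⧸ H, g • x = x := by
      intro x
      have h1 : x ∈ MulAction.fixedBy (G ⧸ H) (g * g) := by
        rw [Subgroup.normalCore_eq_ker, MonoidHom.mem_ker] at hg2
        exact Equiv.ext_iff.mp hg2 x
      rw [← heq g] at h1
      exact h1
    have hgK : g ∈ H.normalCore := by
      rw [Subgroup.normalCore_eq_ker, MonoidHom.mem_ker]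
      exact Equiv.ext hfix
    rw [(QuotientGroup.eq_one_iff g).mpr hgK, orderOf_one] at hy
    exact absurd hy (by norm_num)
  · intro hodd
    refine Nat.card_eq_one_iff_unique.mpr ⟨⟨fun a b => ?_⟩, ⟨⟨_, hprin⟩⟩⟩
    suffices h : ∀ c : S, c.1 = CfsgLib.Char.principalIrr from Subtype.ext ((h a).trans (h b).symm)
    rintro ⟨χ, h0, hreal, -⟩
    have hker : ∀ k ∈ H.normalCore, (χ : G → ℂ) k = (χ : G → ℂ) 1 := by
      intro k hk
      refine CfsgLib.CharTools.eq_apply_one_of_constituent hπchar ?_ χ h0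
      rw [hπ, hπ]
      have h1 : MulAction.fixedBy (G ⧸ H) k = MulAction.fixedBy (G ⧸ H) (1 : G) := by
        rw [Subgroup.normalCore_eq_ker, MonoidHom.mem_ker] at hk
        ext x
        simp only [MulAction.mem_fixedBy, one_smul, iff_true]
        exact Equiv.ext_iff.mp hk x
      simp only [F, h1]
    obtain ⟨ψ, hψ⟩ := CfsgLib.CharTools.exists_descend H.normalCore χ.2 hker
    have h1 := CfsgLib.Char.eq_one_of_real_of_odd (G := G ⧸ H.normalCore) hodd ψ fun y => by
      obtain ⟨g, rfl⟩ := QuotientGroup.mk_surjective y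
      rw [hψ]
      exact Complex.conj_eq_iff_im.mp (hreal g)
    refine Subtype.ext (funext fun g => ?_)
    show (χ : G → ℂ) g = 1
    rw [← hψ, h1]

end Cfsg.Agent.S4784
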