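import Cfsg.Statements.S4796
import Cfsg.Agent.Lib.CharTools.PrimeCodegree
import Cfsg.Agent.Lib.Frobenius.Basic
import Mathlib.FieldTheory.Finite.Basic
-- import your own Cfsg.Agent.* helpers here

set_option autoImplicit false
open Cfsg

namespace Cfsg.Agent.S4796

/-- Let G be a finite group with a faithful irreducible complex character χ whose codegree #G / χ(1) is a prime p (for a faithful character the kernel is trivial, so the codegree is #G / χ(1)). Then either G is cyclic of order p, or G is a Frobenius group whose Frobenius kernel has order p: some proper non-trivial subgroup H satisfies H ∩ gHg⁻¹ = 1 for every element g outside H, and the set of elements lying in no conjugate of H, together with the identity, has exactly p elements. -/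
theorem result {G : Type*} [Group G] [Finite G] (χ : Cfsg.IrrCharacter G) (hfaith : ∀ g : G, (χ : G → ℂ) g = (χ : G → ℂ) 1 → g = 1) (p : ℕ) (hp : p.Prime) (hcod : Nat.card G = p * Cfsg.charDegree (χ : G → ℂ)) : (IsCyclic G ∧ Nat.card G = p) ∨ ∃ H : Subgroup G, Cfsg.IsFrobeniusComplement H ∧ Nat.card ↥(Cfsg.frobeniusKernel H) = p := by
  obtain ⟨P, hPn, hPcard, hPc⟩ :=
    CfsgLib.CharTools.exists_normal_prime_of_prime_codegree χ hfaith hp hcod
  have := Fact.mk hp
  by_cases hd : Cfsg.charDegree (χ : G → ℂ) = 1
  · refine Or.inl ?_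
    rw [hd, mul_one] at hcod
    exact ⟨isCyclic_of_prime_card hcod, hcod⟩
  refine Or.inr ?_
  have hidx : P.index = Cfsg.charDegree (χ : G → ℂ) := by
    have := P.card_mul_index
    rw [hPcard, hcod] at this
    exact Nat.eq_of_mul_eq_mul_left hp.pos this
  have hcop : (Nat.card P).Coprime P.index := by
    rw [hPcard, hidx, hp.coprime_iff_not_dvd]
    intro hdvd
    -- `p²` does not divide the order, since the centralizer of `P` is `P`
    obtain ⟨S⟩ := (inferInstance : Nonempty (Sylow p G))
    have hPS : P ≤ (S : Subgroup G) := by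
      obtain ⟨T, hT⟩ := (IsPGroup.of_card (n := 1) (by rw [pow_one, hPcard])).exists_le_sylow (P := P)
      obtain ⟨g, rfl⟩ := MulAction.exists_smul_eq G S T
      intro x hx
      have h1 := hPn.conj_mem x hx g
      have h2 := hT h1
      rw [Sylow.coe_subgroup_smul, Subgroup.mem_pointwise_smul_iff_inv_smul_mem] at h2
      simpa [MulAut.smul_def, MulAut.inv_def, mul_assoc] using h2
    have hScomm : (S : Subgroup G) ≤ Subgroup.centralizer (P : Set G) := by
      -- the Sylow group acts on the group of prime order trivially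
      intro s hs
      rw [Subgroup.mem_centralizer_iff]
      intro x hx
      by_contra hne
      obtain ⟨k, hk⟩ := S.isPGroup' ⟨s, hs⟩
      have hk' : s ^ p ^ k = 1 := congrArg Subtype.val hk
      have : IsCyclic P := isCyclic_of_prime_card hPcard
      obtain ⟨e, he⟩ : ∃ e : ℤ, s * x * s⁻¹ = x ^ e := by
        have hgen : Subgroup.zpowers (⟨x, hx⟩ : P) = ⊤ :=
          zpowers_eq_top_of_prime_card hPcard fun h => hne (by
            have : x = 1 := congrArg Subtype.val h
            simp [this])
        obtain ⟨e, he⟩ := Subgroup.mem_zpowers_iff.mp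
          (hgen ▸ Subgroup.mem_top (⟨s * x * s⁻¹, hPn.conj_mem x hx s⟩ : P) :
            (⟨s * x * s⁻¹, hPn.conj_mem x hx s⟩ : P) ∈ Subgroup.zpowers (⟨x, hx⟩ : P))
        exact ⟨e, by simpa using (congrArg Subtype.val he).symm⟩
      have hord : orderOf x = p := by
        refine orderOf_eq_prime (congrArg Subtype.val (show (⟨x, hx⟩ : P) ^ p = 1 by
          rw [← hPcard]; exact pow_card_eq_one')) fun h => hne (by simp [h])
      have hit : ∀ n : ℕ, s ^ n * x * (s ^ n)⁻¹ = x ^ (e ^ n) := by
        intro n
        induction n with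
        | zero => simp
        | succ n ih =>
            rw [pow_succ' s, mul_inv_rev, show s * s ^ n * x * ((s ^ n)⁻¹ * s⁻¹) = s * (s ^ n * x * (s ^ n)⁻¹) * s⁻¹ by group,
              ih, ← conj_zpow, he, ← zpow_mul, ← pow_succ']
      have h1 := hit (p ^ k)
      rw [hk', one_mul, inv_one, mul_one] at h1
      have h2 : ((e : ZMod p)) ^ p ^ k = 1 := by
        have : x ^ (e ^ p ^ k - 1) = 1 := by rw [zpow_sub, zpow_one, ← h1, mul_inv_cancel]
        rw [← orderOf_dvd_iff_zpow_eq_one, hord, ← ZMod.intCast_zmod_eq_zero_iff_dvd] at this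
        push_cast at this
        exact sub_eq_zero.mp this
      have hfe : ∀ j : ℕ, ((e : ZMod p)) ^ p ^ j = e := fun j => by
        induction j with
        | zero => simp
        | succ j ih => rw [pow_succ, pow_mul, ih, ZMod.pow_card]
      rw [hfe] at h2
      have h3 : x ^ e = x := by
        conv_rhs => rw [← zpow_one x]
        refine zpow_eq_zpow_iff_modEq.mpr ?_
        rw [hord, ← ZMod.intCast_eq_intCast_iff, h2]
        simp
      rw [h3] at he
      exact hne (by rw [mul_inv_eq_iff_eq_mul.mp he])
    have hSP : (S : Subgroup G) = P := le_antisymm (hPc ▸ hScomm) hPS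
    have := S.not_dvd_index
    rw [hSP, hidx] at this
    exact this hdvd
  obtain ⟨H, hH⟩ := Subgroup.exists_right_complement'_of_coprime hcop
  have hHcard : Nat.card H = Cfsg.charDegree (χ : G → ℂ) := by rw [← hH.symm.index_eq_card, hidx]
  have hP : P ≠ ⊥ := fun h => hp.ne_one (by rw [← hPcard, h, Subgroup.card_bot])
  have hF : Cfsg.IsFrobeniusComplement H := by
    refine CfsgLib.Frobenius.isFrobeniusComplement_of_fpf hH hP (fun h => hd (by rw [← hHcard, h, Subgroup.card_bot])) ?_
    intro h hh h1
    rw [eq_bot_iff]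
    rintro x ⟨hx, hxc⟩
    rw [Subgroup.mem_bot]
    by_contra hx1
    have hgen : Subgroup.zpowers (⟨x, hx⟩ : P) = ⊤ :=
      zpowers_eq_top_of_prime_card hPcard fun e => hx1 (congrArg Subtype.val e)
    have hcen : h ∈ Subgroup.centralizer (P : Set G) := by
      rw [Subgroup.mem_centralizer_iff]
      intro y hy
      obtain ⟨e, he⟩ := Subgroup.mem_zpowers_iff.mp
        (hgen ▸ Subgroup.mem_top (⟨y, hy⟩ : P) : (⟨y, hy⟩ : P) ∈ Subgroup.zpowers (⟨x, hx⟩ : P))
      have : x ^ e = y := congrArg Subtype.val he
      rw [← this]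
      have hcxh : Commute x h := Subgroup.mem_centralizer_singleton_iff.mp hxc
      exact (hcxh.zpow_left e).eq
    rw [hPc] at hcen
    exact h1 (Subgroup.disjoint_def.mp hH.disjoint hcen hh)
  refine ⟨H, hF, ?_⟩
  rw [CfsgLib.Frobenius.card_kernel hF, ← hPcard]
  exact hH.index_eq_card

end Cfsg.Agent.S4796
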