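import Cfsg.Statements.S4797
import Cfsg.Agent.Lib.CharTools.PrimeCodegree
import Mathlib.GroupTheory.Abelianization.Finite
import Mathlib.RingTheory.RootsOfUnity.AlgebraicallyClosed
import Mathlib.RingTheory.RootsOfUnity.Complex
import Mathlib.GroupTheory.FiniteAbelian.Duality
-- import your own Cfsg.Agent.* helpers here

set_option autoImplicit false
open Cfsg

open scoped commutatorElement

namespace Cfsg.Agent.S4797

/-- The codegree of an irreducible complex character χ of a finite group G is [G : ker χ] / χ(1), where ker χ is the set of elements at which χ takes the value χ(1). A non-trivial finite group is perfect if and only if no irreducible complex character of it has prime codegree. -/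
theorem result {G : Type*} [Group G] [Finite G] [Nontrivial G] : commutator G = ⊤ ↔ ∀ χ : Cfsg.IrrCharacter G, ¬ ((Nat.card G / (Nat.card {g : G // (χ : G → ℂ) g = (χ : G → ℂ) 1} * Cfsg.charDegree (χ : G → ℂ)))).Prime := by
  classical
  cases nonempty_fintype G
  constructor
  · intro hperf χ hprime
    set q := Nat.card G / (Nat.card {g : G // (χ : G → ℂ) g = (χ : G → ℂ) 1} * Cfsg.charDegree (χ : G → ℂ))
    obtain ⟨N, hN, hmem, -⟩ :=
      CfsgLib.CharTools.exists_kernel (CfsgLib.Char.IsIrrCharacter.isCharacter χ.2)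
    obtain ⟨h1, h2⟩ := CfsgLib.CharTools.codegree_eq χ N hmem
    obtain ⟨φ, hφ⟩ := CfsgLib.CharTools.exists_descend N χ.2 fun n hn => (hmem n).mp hn
    have hfaith : ∀ x : G ⧸ N, (φ : G ⧸ N → ℂ) x = (φ : G ⧸ N → ℂ) 1 → x = 1 := by
      intro x hx
      obtain ⟨g, rfl⟩ := QuotientGroup.mk_surjective x
      rw [hφ, ← QuotientGroup.mk_one N, hφ] at hx
      exact (QuotientGroup.eq_one_iff g).mpr ((hmem g).mpr hx)
    have hdeg : Cfsg.charDegree (φ : G ⧸ N → ℂ) = Cfsg.charDegree (χ : G → ℂ) := by
      unfold Cfsg.charDegree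
      rw [← hφ 1]
      rfl
    have hcard : Nat.card (G ⧸ N) = q * Cfsg.charDegree (φ : G ⧸ N → ℂ) := by
      rw [hdeg, show q = N.index / Cfsg.charDegree (χ : G → ℂ) from h2, Nat.div_mul_cancel h1]
      rfl
    obtain ⟨P, hPn, hPcard, hPc⟩ :=
      CfsgLib.CharTools.exists_normal_prime_of_prime_codegree φ hfaith hprime hcard
    have := Fact.mk hprime
    -- the quotient acts on `P` through an abelian group
    have : IsCyclic P := isCyclic_of_prime_card hPcard
    let ψ : G ⧸ N →* MulAut P := MulAut.conjNormal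
    have hle : commutator (G ⧸ N) ≤ P := by
      rw [commutator_def, Subgroup.commutator_le]
      intro a _ b _
      have hab : ψ a * ψ b = ψ b * ψ a := (IsCyclic.mulAutMulEquiv P).injective (by
        rw [map_mul, map_mul, mul_comm])
      have h1 : ψ ⁅a, b⁆ = 1 := by
        rw [map_commutatorElement, commutatorElement_eq_one_iff_mul_comm.mpr hab]
      rw [← hPc, Subgroup.mem_centralizer_iff]
      intro x hx
      have h3 := congrArg Subtype.val (DFunLike.congr_fun h1 ⟨x, hx⟩)
      simp only [ψ, MulAut.conjNormal_apply, MulAut.one_apply] at h3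
      exact (mul_inv_eq_iff_eq_mul.mp h3).symm
    have htop : commutator (G ⧸ N) = ⊤ := by
      rw [commutator_def, ← Subgroup.map_top_of_surjective _ (QuotientGroup.mk'_surjective N),
        ← Subgroup.map_commutator, ← commutator_def, hperf]
    have hPtop : P = ⊤ := top_le_iff.mp (htop ▸ hle)
    have hab : commutator (G ⧸ N) = ⊥ := by
      rw [commutator_def, eq_bot_iff, Subgroup.commutator_le]
      intro a _ b _
      rw [Subgroup.mem_bot, commutatorElement_eq_one_iff_mul_comm]
      exact congrArg Subtype.val ((IsCyclic.commGroup (α := P)).mul_comm ⟨a, hPtop ▸ Subgroup.mem_top a⟩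
        ⟨b, hPtop ▸ Subgroup.mem_top b⟩)
    have hbt : P = ⊥ := eq_bot_iff.mpr (le_top.trans (htop ▸ hab.le))
    rw [hbt, Subgroup.card_bot] at hPcard
    exact hprime.one_lt.ne hPcard
  · intro hno
    by_contra hne
    have : Nontrivial (Abelianization G) := by
      obtain ⟨g, hg⟩ : ∃ g, g ∉ commutator G := by
        by_contra hh
        push Not at hh
        exact hne (eq_top_iff.mpr fun g _ => hh g)
      exact ⟨⟨Abelianization.of g, 1, fun h => hg ((QuotientGroup.eq_one_iff g).mp h)⟩⟩
    obtain ⟨a, ha⟩ := exists_ne (1 : Abelianization G)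
    obtain ⟨f₀, hf₀⟩ := CommGroup.exists_apply_ne_one_of_hasEnoughRootsOfUnity (Abelianization G) ℂ ha
    obtain ⟨g, rfl⟩ := QuotientGroup.mk_surjective a
    let f : G →* ℂˣ := f₀.comp Abelianization.of
    have hexp : f ^ Nat.card G = 1 := by
      ext x
      simp [MonoidHom.pow_apply, ← map_pow]
    have hf1 : orderOf f ≠ 1 := fun h => hf₀ (by
      have := DFunLike.congr_fun (orderOf_eq_one_iff.mp h) g
      exact this)
    obtain ⟨q, hq, hqd⟩ := Nat.exists_prime_and_dvd hf1
    have hfo : orderOf f ≠ 0 := (IsOfFinOrder.orderOf_pos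
      (isOfFinOrder_iff_pow_eq_one.mpr ⟨_, Nat.card_pos, hexp⟩)).ne'
    let f' : G →* ℂˣ := f ^ (orderOf f / q)
    have hord : orderOf f' = q := orderOf_pow_orderOf_div hfo hqd
    have := Fact.mk hq
    let χ : Cfsg.IrrCharacter G := ⟨_, CfsgLib.Char.isIrrCharacter_linear f'⟩
    have hmem : ∀ x, x ∈ f'.ker ↔ (χ : G → ℂ) x = (χ : G → ℂ) 1 := fun x => by
      simp [χ, MonoidHom.mem_ker, Units.val_eq_one]
    obtain ⟨h1, h2⟩ := CfsgLib.CharTools.codegree_eq χ f'.ker hmem
    have hd1 : Cfsg.charDegree (χ : G → ℂ) = 1 := by simp [χ, Cfsg.charDegree]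
    apply hno χ
    rw [h2, hd1, Nat.div_one, Subgroup.index_ker]
    have hle : f'.range ≤ rootsOfUnity q ℂ := by
      rintro _ ⟨x, rfl⟩
      rw [mem_rootsOfUnity, ← MonoidHom.pow_apply, ← hord, pow_orderOf_eq_one]
      rfl
    have hdvd := Subgroup.card_dvd_of_le hle
    rw [Complex.card_rootsOfUnity] at hdvd
    rcases hq.eq_one_or_self_of_dvd _ hdvd with h | h
    · exfalso
      have hf' : f' = 1 := by
        ext x
        have hx := (Subgroup.eq_bot_of_card_eq _ h).le ⟨x, rfl⟩
        rw [Subgroup.mem_bot] at hx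
        rw [hx]
        rfl
      rw [hf', orderOf_one] at hord
      exact hq.one_lt.ne hord
    · rw [h]; exact hq

end Cfsg.Agent.S4797
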