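import Cfsg.Statements.S4798
import Cfsg.Agent.Lib.CharTools.Basic
-- import your own Cfsg.Agent.* helpers here

set_option autoImplicit false
open Cfsg

namespace Cfsg.Agent.S4798

/-- Let p be a prime and χ a faithful irreducible complex character of the finite group G (χ(g) = χ(1) only for g = 1), so that its codegree is #G / χ(1). Then #G / χ(1) is a power of p if and only if χ is induced from a character of a Sylow p-subgroup of G. -/
theorem result {G : Type*} [Group G] [Fintype G] (p : ℕ) [Fact p.Prime] (χ : Cfsg.IrrCharacter G) (hfaith : ∀ g : G, (χ : G → ℂ) g = (χ : G → ℂ) 1 → g = 1) : (∃ k : ℕ, Nat.card G = p ^ k * Cfsg.charDegree (χ : G → ℂ)) ↔ ∃ (P : Sylow p G) (θ : ↥(P : Subgroup G) → ℂ), Cfsg.IsCharacter ↥(P : Subgroup G) θ ∧ (χ : G → ℂ) = Cfsg.indFun (P : Subgroup G) θ := by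
  classical
  have hp : p.Prime := Fact.out
  have hχc := CfsgLib.Char.IsIrrCharacter.isCharacter χ.2
  have hclass := CfsgLib.Char.IsIrrCharacter.isClassFunction χ.2
  -- degrees of irreducible characters of a Sylow subgroup are prime powers
  have hpow : ∀ (P : Sylow p G) (φ : Cfsg.IrrCharacter ↥(P : Subgroup G)),
      ∃ b, Cfsg.charDegree (φ : ↥(P : Subgroup G) → ℂ) = p ^ b := fun P φ => by
    obtain ⟨n, hn⟩ := IsPGroup.iff_card.mp P.isPGroup'
    obtain ⟨b, -, hb⟩ := (Nat.dvd_prime_pow hp).mp (hn ▸ CfsgLib.CharTools.degree_dvd_card φ)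
    exact ⟨b, hb⟩
  have hinddeg : ∀ (P : Sylow p G) (θ : ↥(P : Subgroup G) → ℂ), Cfsg.IsCharacter ↥(P : Subgroup G) θ →
      Cfsg.charDegree (Cfsg.indFun (P : Subgroup G) θ) = (P : Subgroup G).index * Cfsg.charDegree θ := by
    intro P θ hθ
    have h1 := CfsgLib.Char.indFun_apply_one (P : Subgroup G) θ
    rw [← CfsgLib.CharTools.degree_cast hθ,
      ← CfsgLib.CharTools.degree_cast (CfsgLib.Char.IsCharacter.indFun _ hθ)] at h1
    exact_mod_cast h1
  constructor
  · rintro ⟨k, hk⟩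
    obtain ⟨P⟩ := (inferInstance : Nonempty (Sylow p G))
    obtain ⟨n, hn⟩ := IsPGroup.iff_card.mp P.isPGroup'
    have hidx : (P : Subgroup G).index ∣ Cfsg.charDegree (χ : G → ℂ) :=
      (Nat.Coprime.pow_right k ((hp.coprime_iff_not_dvd.mpr P.not_dvd_index).symm)).dvd_of_dvd_mul_left
        (hk ▸ (P : Subgroup G).index_dvd_card)
    obtain ⟨r, hr⟩ := hidx
    obtain ⟨a, -, ha⟩ : ∃ a, a ≤ n ∧ r = p ^ a := (Nat.dvd_prime_pow hp).mp (by
      have h1 := CfsgLib.CharTools.degree_dvd_card χ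
      rw [hr, ← (P : Subgroup G).card_mul_index, hn, mul_comm (p ^ n)] at h1
      exact Nat.dvd_of_mul_dvd_mul_left (Nat.pos_of_ne_zero (Subgroup.index_ne_zero_of_finite)) h1)
    have hres := CfsgLib.Char.IsCharacter.restrict hχc (P : Subgroup G)
    obtain ⟨m, hm, hdeg⟩ := CfsgLib.CharTools.exists_degree_combination hres
    obtain ⟨φ, hφ0, hφle⟩ : ∃ φ, m φ ≠ 0 ∧ Cfsg.charDegree (φ : ↥(P : Subgroup G) → ℂ) ≤ p ^ a := by
      by_contra hcon
      push Not at hcon
      have h1 : p ^ (a + 1) ∣ Cfsg.charDegree (χ : G → ℂ) := by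
        rw [show Cfsg.charDegree (χ : G → ℂ) = Cfsg.charDegree (fun h : ↥(P : Subgroup G) => (χ : G → ℂ) h) from rfl, hdeg]
        refine Finset.dvd_sum fun φ _ => ?_
        by_cases h0 : m φ = 0
        · simp [h0]
        · obtain ⟨b, hb⟩ := hpow P φ
          rw [hb]
          refine Dvd.dvd.mul_left (pow_dvd_pow p ?_) _
          exact (Nat.pow_lt_pow_iff_right hp.one_lt).mp (hb ▸ hcon φ h0)
      rw [hr, ha, pow_succ', mul_comm (P : Subgroup G).index, mul_comm p] at h1
      exact P.not_dvd_index (Nat.dvd_of_mul_dvd_mul_left (pow_pos hp.pos a) h1)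
    refine ⟨P, φ, CfsgLib.Char.IsIrrCharacter.isCharacter φ.2, ?_⟩
    refine (CfsgLib.CharTools.eq_of_constituent_of_degree_le
      (CfsgLib.Char.IsCharacter.indFun _ (CfsgLib.Char.IsIrrCharacter.isCharacter φ.2)) χ ?_ ?_).symm
    · rw [CfsgLib.Char.classInner_indFun _ _ _ hclass, ← CfsgLib.Char.classInner_conj_symm, hm φ,
        Complex.conj_natCast]
      exact_mod_cast hφ0
    · rw [hinddeg P _ (CfsgLib.Char.IsIrrCharacter.isCharacter φ.2), hr, ha]
      exact Nat.mul_le_mul_left _ hφle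
  · rintro ⟨P, θ, hθ, hind⟩
    obtain ⟨n, hn⟩ := IsPGroup.iff_card.mp P.isPGroup'
    obtain ⟨m, hm, hdeg⟩ := CfsgLib.CharTools.exists_degree_combination hθ
    obtain ⟨φ, hφm, hφ⟩ : ∃ φ, m φ ≠ 0 ∧
        Cfsg.classInner (Cfsg.indFun (P : Subgroup G) (φ : ↥(P : Subgroup G) → ℂ)) (χ : G → ℂ) ≠ 0 := by
      by_contra hcon
      push Not at hcon
      have h1 := CfsgLib.Char.classInner_irr_self χ.2
      nth_rw 1 [hind] at h1
      rw [CfsgLib.Char.IsCharacter.eq_sum_classInner hθ, CfsgLib.Char.indFun_sum,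
        CfsgLib.Char.classInner_sum_left, Finset.sum_eq_zero] at h1
      · exact zero_ne_one h1
      intro φ _
      rw [CfsgLib.Char.indFun_smul, CfsgLib.Char.classInner_smul_left, hm]
      by_cases h0 : m φ = 0
      · simp [h0]
      · rw [hcon φ h0, mul_zero]
    have hdθ : Cfsg.charDegree θ = Cfsg.charDegree (φ : ↥(P : Subgroup G) → ℂ) := by
      have hle : Cfsg.charDegree (φ : ↥(P : Subgroup G) → ℂ) ≤ Cfsg.charDegree θ := by
        rw [hdeg]
        exact le_trans (Nat.le_mul_of_pos_left _ (Nat.pos_of_ne_zero hφm))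
          (Finset.single_le_sum (f := fun ψ => m ψ * Cfsg.charDegree (ψ : ↥(P : Subgroup G) → ℂ))
            (fun _ _ => Nat.zero_le _) (Finset.mem_univ φ))
      have h2 := CfsgLib.CharTools.eq_of_constituent_of_degree_le
        (CfsgLib.Char.IsCharacter.indFun _ (CfsgLib.Char.IsIrrCharacter.isCharacter φ.2)) χ hφ (by
          rw [hinddeg P _ (CfsgLib.Char.IsIrrCharacter.isCharacter φ.2), hind, hinddeg P θ hθ]
          exact Nat.mul_le_mul_left _ hle)
      have h3 := congrArg Cfsg.charDegree h2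
      rw [hinddeg P _ (CfsgLib.Char.IsIrrCharacter.isCharacter φ.2), hind, hinddeg P θ hθ] at h3
      exact (Nat.eq_of_mul_eq_mul_left (Nat.pos_of_ne_zero (Subgroup.index_ne_zero_of_finite)) h3).symm
    obtain ⟨b, hb⟩ := hpow P φ
    have hbn : b ≤ n := by
      have := hn ▸ CfsgLib.CharTools.degree_dvd_card φ
      rw [hb] at this
      exact (Nat.pow_dvd_pow_iff_le_right hp.one_lt).mp this
    refine ⟨n - b, ?_⟩
    rw [show Cfsg.charDegree (χ : G → ℂ) = (P : Subgroup G).index * p ^ b by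
        rw [hind, hinddeg P θ hθ, hdθ, hb],
      ← (P : Subgroup G).card_mul_index, hn, mul_comm (P : Subgroup G).index, ← mul_assoc, ← pow_add,
      Nat.sub_add_cancel hbn]

end Cfsg.Agent.S4798
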