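import Cfsg.Statements.S4801
import Cfsg.Agent.Lib.CharTools.Basic
-- import your own Cfsg.Agent.* helpers here

set_option autoImplicit false
open Cfsg

namespace Cfsg.Agent.S4801

/-- The codegree of an irreducible complex character χ of a finite group G is [G : ker χ] / χ(1), where ker χ is the set of elements at which χ takes the value χ(1). Let S be a finite simple group and G a finite group such that every codegree of an irreducible character of S is a codegree of an irreducible character of G. Then the order of S divides the order of G. -/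
theorem result {S : Type*} [Group S] [Finite S] (hS : IsSimpleGroup S) {G : Type*} [Group G] [Finite G] (hsub : ∀ χ : Cfsg.IrrCharacter S, ∃ ψ : Cfsg.IrrCharacter G, (Nat.card S / (Nat.card {g : S // (χ : S → ℂ) g = (χ : S → ℂ) 1} * Cfsg.charDegree (χ : S → ℂ))) = (Nat.card G / (Nat.card {g : G // (ψ : G → ℂ) g = (ψ : G → ℂ) 1} * Cfsg.charDegree (ψ : G → ℂ)))) : Nat.card S ∣ Nat.card G := by
  obtain ⟨A, hA, hdvd⟩ : ∃ A : ℕ, A = Nat.card G ∧ Nat.card G ∣ A := ⟨_, rfl, dvd_rfl⟩
  have hcodG : ∀ ψ : Cfsg.IrrCharacter G, Nat.card G / (Nat.card {g : G // (ψ : G → ℂ) g = (ψ : G → ℂ) 1} * Cfsg.charDegree (ψ : G → ℂ)) ∣ Nat.card G := by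
    intro ψ
    by_cases h : Nat.card {g : G // (ψ : G → ℂ) g = (ψ : G → ℂ) 1} * Cfsg.charDegree (ψ : G → ℂ) ∣ Nat.card G
    · exact Nat.div_dvd_of_dvd h
    · exfalso
      obtain ⟨N, hN, hmem, -⟩ := CfsgLib.CharTools.exists_kernel (CfsgLib.Char.IsIrrCharacter.isCharacter ψ.2)
      have hcard : Nat.card {g : G // (ψ : G → ℂ) g = (ψ : G → ℂ) 1} = Nat.card N :=
        Nat.card_congr (Equiv.subtypeEquivRight fun g => (hmem g).symm)
      obtain ⟨φ, hφ⟩ := CfsgLib.CharTools.exists_descend N ψ.2 fun n hn => (hmem n).mp hn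
      have hdeg : Cfsg.charDegree (φ : G ⧸ N → ℂ) = Cfsg.charDegree (ψ : G → ℂ) := by
        unfold Cfsg.charDegree
        rw [← hφ 1]
        rfl
      refine h ?_
      rw [hcard, ← hdeg, N.card_eq_card_quotient_mul_card_subgroup, mul_comm _ (Nat.card N)]
      exact mul_dvd_mul_left _ (CfsgLib.CharTools.degree_dvd_card φ)
  -- every prime power dividing the order of `S` divides a codegree
  rw [← Nat.factorization_le_iff_dvd Nat.card_pos.ne' Nat.card_pos.ne']
  intro p
  by_cases hp : p.Prime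
  swap
  · simp [Nat.factorization_eq_zero_of_not_prime _ hp]
  by_cases hpS : p ∣ Nat.card S
  swap
  · simp [Nat.factorization_eq_zero_of_not_dvd hpS]
  obtain ⟨χ, hχ1, hχp⟩ := CfsgLib.CharTools.exists_not_dvd hp hpS
  obtain ⟨ψ, hψ⟩ := hsub χ
  obtain ⟨N, hN, hmem, -⟩ := CfsgLib.CharTools.exists_kernel (CfsgLib.Char.IsIrrCharacter.isCharacter χ.2)
  have hcard : Nat.card {g : S // (χ : S → ℂ) g = (χ : S → ℂ) 1} = Nat.card N :=
    Nat.card_congr (Equiv.subtypeEquivRight fun g => (hmem g).symm)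
  have hNbot : N = ⊥ := by
    rcases hN.eq_bot_or_eq_top with h | h
    · exact h
    · exfalso
      have hconst : ∀ g, (χ : S → ℂ) g = (χ : S → ℂ) 1 := fun g => (hmem g).mp (h ▸ Subgroup.mem_top g)
      cases nonempty_fintype S
      by_cases hprin : Cfsg.classInner (χ : S → ℂ) (fun _ => 1) = 0
      · simp [Cfsg.classInner, hconst, CfsgLib.CharTools.irr_apply_one_ne_zero χ,
          Finset.card_univ] at hprin
      · exact hχ1 (CfsgLib.Char.eq_of_classInner_ne_zero χ.2 CfsgLib.Char.isIrrCharacter_principal hprin)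
  have hdd := hψ ▸ hcodG ψ
  rw [hcard, hNbot, Subgroup.card_bot, one_mul] at hdd
  have hle := (Nat.factorization_le_iff_dvd ?_ Nat.card_pos.ne').mpr hdd
  · have := hle p
    rw [Nat.factorization_div (CfsgLib.CharTools.degree_dvd_card χ)] at this
    simpa [Nat.factorization_eq_zero_of_not_dvd hχp] using this
  · exact (Nat.div_pos (Nat.le_of_dvd Nat.card_pos (CfsgLib.CharTools.degree_dvd_card χ))
      (CfsgLib.CharTools.irr_degree_pos χ)).ne'

end Cfsg.Agent.S4801
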