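import Cfsg.Statements.S4802
import Cfsg.Agent.Lib.CharTools.Basic
-- import your own Cfsg.Agent.* helpers here

set_option autoImplicit false
open Cfsg

namespace Cfsg.Agent.S4802

/-- Let N < M be normal subgroups of the finite group G and g ∈ M ∖ N. Then the conjugacy class of g is exactly M ∖ N if and only if every irreducible complex character of G whose kernel contains N takes the same value at all elements of M ∖ N, and every irreducible complex character of G whose kernel does not contain N vanishes at g. -/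
theorem result {G : Type*} [Group G] [Finite G] (N M : Subgroup G) [N.Normal] [M.Normal] (hNM : N < M) (g : G) (hgM : g ∈ M) (hgN : g ∉ N) : {h : G | IsConj g h} = (M : Set G) \ (N : Set G) ↔ ((∀ χ : Cfsg.IrrCharacter G, (∀ x ∈ N, (χ : G → ℂ) x = (χ : G → ℂ) 1) → ∀ x ∈ M, x ∉ N → ∀ y ∈ M, y ∉ N → (χ : G → ℂ) x = (χ : G → ℂ) y) ∧ (∀ χ : Cfsg.IrrCharacter G, (∃ x ∈ N, (χ : G → ℂ) x ≠ (χ : G → ℂ) 1) → (χ : G → ℂ) g = 0)) := by
  classical
  cases nonempty_fintype G
  let Q := {χ : Cfsg.IrrCharacter G // ∀ n ∈ N, (χ : G → ℂ) n = (χ : G → ℂ) 1}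
  have hsplit : ∀ a b : G, ∑ χ : Cfsg.IrrCharacter G, (χ : G → ℂ) a * starRingEnd ℂ ((χ : G → ℂ) b) =
      (∑ χ : Q, (χ.1 : G → ℂ) a * starRingEnd ℂ ((χ.1 : G → ℂ) b)) +
        ∑ χ : {χ : Cfsg.IrrCharacter G // ¬ ∀ n ∈ N, (χ : G → ℂ) n = (χ : G → ℂ) 1},
          (χ.1 : G → ℂ) a * starRingEnd ℂ ((χ.1 : G → ℂ) b) := fun a b =>
    (Fintype.sum_subtype_add_sum_subtype _ _).symm
  have hcent := CfsgLib.Char.card_isConj_mul_card_centralizer g
  have hmk : ∀ a b : G, IsConj a b → IsConj (a : G ⧸ N) (b : G ⧸ N) := fun a b h => by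
    obtain ⟨c, rfl⟩ := isConj_iff.mp h
    exact isConj_iff.mpr ⟨(c : G ⧸ N), rfl⟩
  have hmkM : ∀ x : G, IsConj (g : G ⧸ N) (x : G ⧸ N) → x ∈ M ∧ x ∉ N := by
    intro x hx
    obtain ⟨c, hc⟩ := isConj_iff.mp hx
    obtain ⟨c, rfl⟩ := QuotientGroup.mk_surjective c
    have hcg : c * g * c⁻¹ ∈ M := (inferInstance : M.Normal).conj_mem g hgM c
    have hd : (c * g * c⁻¹)⁻¹ * x ∈ N := QuotientGroup.eq.mp hc
    refine ⟨?_, fun hxN => ?_⟩
    · have := M.mul_mem hcg (hNM.le hd)
      rwa [mul_inv_cancel_left] at this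
    · have h1 : c * g * c⁻¹ ∈ N := by
        have := N.mul_mem hxN (N.inv_mem hd)
        simpa [mul_assoc] using this
      have := (inferInstance : N.Normal).conj_mem _ h1 c⁻¹
      exact hgN (by simpa [mul_assoc] using this)
  -- the class of `g` in the quotient pulled back
  have hpull : Nat.card {x : G // IsConj (g : G ⧸ N) (x : G ⧸ N)} *
      Nat.card (Subgroup.centralizer ({(g : G ⧸ N)} : Set (G ⧸ N))) = Nat.card G := by
    have h1 : Nat.card {x : G // IsConj (g : G ⧸ N) (x : G ⧸ N)} =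
        Nat.card {y : G ⧸ N // IsConj (g : G ⧸ N) y} * Nat.card N := by
      rw [Nat.mul_comm]
      exact (Nat.card_congr (QuotientGroup.preimageMkEquivSubgroupProdSet N
        {y : G ⧸ N | IsConj (g : G ⧸ N) y})).trans (Nat.card_prod _ _)
    have h2 := CfsgLib.Char.card_isConj_mul_card_centralizer (g : G ⧸ N)
    rw [h1, mul_right_comm, h2, ← N.card_eq_card_quotient_mul_card_subgroup]
  constructor
  · intro hcls
    have hconj : ∀ x, x ∈ M → x ∉ N → IsConj g x := fun x h1 h2 =>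
      (hcls.symm ▸ (⟨h1, h2⟩ : x ∈ (M : Set G) \ N) : x ∈ {h : G | IsConj g h})
    refine ⟨fun χ _ x hx hx' y hy hy' => CfsgLib.Char.IsClassFunction.eq_of_isConj
      (CfsgLib.Char.IsIrrCharacter.isClassFunction χ.2) ((hconj x hx hx').symm.trans (hconj y hy hy')),
      fun χ hχ => ?_⟩
    have hiff : ∀ x : G, IsConj g x ↔ IsConj (g : G ⧸ N) (x : G ⧸ N) := fun x =>
      ⟨hmk g x, fun h => hconj x (hmkM x h).1 (hmkM x h).2⟩
    have heq : Nat.card (Subgroup.centralizer ({(g : G ⧸ N)} : Set (G ⧸ N))) =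
        Nat.card (Subgroup.centralizer ({g} : Set G)) := by
      have hc : Nat.card {x : G // IsConj g x} = Nat.card {x : G // IsConj (g : G ⧸ N) (x : G ⧸ N)} :=
        Nat.card_congr (Equiv.subtypeEquivRight hiff)
      rw [hc] at hcent
      have : Nonempty {x : G // IsConj (g : G ⧸ N) (x : G ⧸ N)} := ⟨⟨g, IsConj.refl _⟩⟩
      exact Nat.eq_of_mul_eq_mul_left Nat.card_pos (hpull.trans hcent.symm)
    have h0 := hsplit g g
    rw [CfsgLib.Char.sum_mul_conj, if_pos (IsConj.refl g), CfsgLib.CharTools.sum_quotient_mul_conj,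
      if_pos (IsConj.refl _), heq, left_eq_add] at h0
    have h0' : ∑ χ : {χ : Cfsg.IrrCharacter G // ¬ ∀ n ∈ N, (χ : G → ℂ) n = (χ : G → ℂ) 1},
        ‖(χ.1 : G → ℂ) g‖ ^ 2 = 0 := by
      simp only [Complex.mul_conj'] at h0
      exact_mod_cast h0
    have := (Finset.sum_eq_zero_iff_of_nonneg fun _ _ => sq_nonneg _).mp h0'
      ⟨χ, fun h => by obtain ⟨x, hx, hne⟩ := hχ; exact hne (h x hx)⟩ (Finset.mem_univ _)
    simpa using this
  · rintro ⟨hA, hB⟩
    ext x
    refine ⟨fun hx => hmkM x (hmk g x hx), fun ⟨hxM, hxN⟩ => ?_⟩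
    refine CfsgLib.Char.isConj_of_forall_eq fun χ hχ => ?_
    by_cases hker : ∀ n ∈ N, χ n = χ 1
    · exact hA ⟨χ, hχ⟩ hker g hgM hgN x hxM hxN
    · push Not at hker
      have hg0 : χ g = 0 := hB ⟨χ, hχ⟩ hker
      rw [hg0]
      by_contra hne
      -- otherwise `x` and `g` are not conjugate although their images are
      have hnc : ¬ IsConj g x := fun h => hne (by
        rw [← CfsgLib.Char.IsClassFunction.eq_of_isConj (CfsgLib.Char.IsIrrCharacter.isClassFunction hχ) h, hg0])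
      have hbar : IsConj (g : G ⧸ N) (x : G ⧸ N) :=
        CfsgLib.Char.isConj_of_forall_eq fun ψ hψ =>
          hA ⟨_, CfsgLib.CharTools.isIrrCharacter_comp (QuotientGroup.mk' N) (QuotientGroup.mk'_surjective N) hψ⟩
            (fun n hn => by simp [(QuotientGroup.eq_one_iff n).mpr hn]) g hgM hgN x hxM hxN
      have h0 := hsplit g x
      rw [CfsgLib.Char.sum_mul_conj, if_neg hnc, CfsgLib.CharTools.sum_quotient_mul_conj, if_pos hbar,
        Finset.sum_eq_zero, add_zero] at h0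
      · exact Nat.card_pos.ne' (by exact_mod_cast h0.symm)
      · rintro ⟨ψ, hψ⟩ -
        push Not at hψ
        simp [hB ψ hψ]

end Cfsg.Agent.S4802
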