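import Cfsg.Statements.S4805
import Cfsg.Agent.Lib.CharTools.Basic
import Cfsg.Agent.Lib.Char.CentralOver
import Cfsg.Agent.Lib.NonVanish.SingleClass
open CfsgLib.Char
open scoped ComplexConjugate

set_option autoImplicit false
open Cfsg

namespace Cfsg.Agent.S4805

theorem forall_eq_one_of_trivial {G : Type*} [Group G] [Finite G] (χ : Cfsg.IrrCharacter G)
    (h : ∀ x ∈ commutator G, (χ : G → ℂ) x = (χ : G → ℂ) 1) : Cfsg.charDegree (χ : G → ℂ) = 1 := by
  obtain ⟨ψ, hψ⟩ := CfsgLib.CharTools.exists_descend (commutator G) χ.2 h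
  have hab : ∀ a b : G ⧸ commutator G, a * b = b * a := by
    intro a b
    obtain ⟨a, rfl⟩ := QuotientGroup.mk_surjective a
    obtain ⟨b, rfl⟩ := QuotientGroup.mk_surjective b
    rw [← commutatorElement_eq_one_iff_mul_comm, ← QuotientGroup.mk'_apply,
      ← QuotientGroup.mk'_apply, ← map_commutatorElement]
    exact (QuotientGroup.eq_one_iff _).mpr
      (Subgroup.commutator_mem_commutator (Subgroup.mem_top _) (Subgroup.mem_top _))
  cases nonempty_fintype (G ⧸ commutator G)
  obtain ⟨h1, -⟩ := CfsgLib.CharOver.abelian_irr hab ψ.2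
  have h2 : (Cfsg.charDegree (χ : G → ℂ) : ℂ) = 1 := by
    rw [CfsgLib.CharTools.irr_degree_cast, ← hψ 1]
    simpa using h1
  exact_mod_cast h2

theorem trivial_of_eq_one {G : Type*} [Group G] [Finite G] (χ : Cfsg.IrrCharacter G)
    (h : Cfsg.charDegree (χ : G → ℂ) = 1) :
    ∀ x ∈ commutator G, (χ : G → ℂ) x = (χ : G → ℂ) 1 := by
  have h1 : (χ : G → ℂ) 1 = 1 := by rw [← CfsgLib.CharTools.irr_degree_cast, h, Nat.cast_one]
  obtain ⟨f, hf⟩ := IsCharacter.exists_linear (IsIrrCharacter.isCharacter χ.2) h1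
  intro x hx
  rw [hf, hf, map_one, show f x = 1 from Abelianization.commutator_subset_ker f hx]


/-- Let G be a finite group, g an element outside the centre of G, and χ an irreducible complex character of degree greater than one with χ(g) ≠ 0 such that every other irreducible character of degree greater than one vanishes at g. Then g lies in the derived subgroup G′ and χ(g) = −[G : G′]/χ(1); G′ is the union of the kernel of χ (the elements where χ takes the value χ(1)) and the conjugacy class of g, and χ vanishes outside G′; every irreducible character of degree greater than one whose kernel contains that of χ equals χ; and G is solvable. -/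
theorem result {G : Type*} [Group G] [Finite G] (g : G) (hg : g ∉ Subgroup.center G) (χ : Cfsg.IrrCharacter G) (hχ1 : Cfsg.charDegree (χ : G → ℂ) ≠ 1) (hχg : (χ : G → ℂ) g ≠ 0) (hother : ∀ ψ : Cfsg.IrrCharacter G, Cfsg.charDegree (ψ : G → ℂ) ≠ 1 → ψ ≠ χ → (ψ : G → ℂ) g = 0) : g ∈ commutator G ∧ (χ : G → ℂ) g = -(((commutator G).index : ℂ) / (χ : G → ℂ) 1) ∧ ((commutator G : Set G) = {x : G | (χ : G → ℂ) x = (χ : G → ℂ) 1} ∪ {h : G | IsConj g h}) ∧ (∀ x : G, x ∉ commutator G → (χ : G → ℂ) x = 0) ∧ (∀ ψ : Cfsg.IrrCharacter G, Cfsg.charDegree (ψ : G → ℂ) ≠ 1 → (∀ x : G, (χ : G → ℂ) x = (χ : G → ℂ) 1 → (ψ : G → ℂ) x = (ψ : G → ℂ) 1) → ψ = χ) ∧ Group.IsSolvable G := by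
  classical
  cases nonempty_fintype G
  set D := commutator G with hD
  let L : Finset (Cfsg.IrrCharacter G) :=
    Finset.univ.filter fun ψ => ∀ x ∈ D, (ψ : G → ℂ) x = (ψ : G → ℂ) 1
  have hmemL : ∀ ψ, ψ ∈ L ↔ Cfsg.charDegree (ψ : G → ℂ) = 1 := fun ψ => by
    simp only [L, Finset.mem_filter, Finset.mem_univ, true_and]
    exact ⟨forall_eq_one_of_trivial ψ, trivial_of_eq_one ψ⟩
  have hone : ∀ ψ ∈ L, (ψ : G → ℂ) 1 = 1 := fun ψ hψ => by
    rw [← CfsgLib.CharTools.irr_degree_cast, (hmemL ψ).mp hψ, Nat.cast_one]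
  have hLsum : ∀ a b : G, ∑ ψ ∈ L, (ψ : G → ℂ) a * conj ((ψ : G → ℂ) b) =
      if a⁻¹ * b ∈ D then (D.index : ℂ) else 0 := by
    intro a b
    have h1 := CfsgLib.CharTools.sum_quotient_mul_conj D a b
    rw [← Finset.sum_subtype L (fun ψ => by simp [L]) (fun ψ : Cfsg.IrrCharacter G =>
      (ψ : G → ℂ) a * conj ((ψ : G → ℂ) b))] at h1
    rw [h1]
    have hab : ∀ u v : G ⧸ D, u * v = v * u := by
      intro u v
      obtain ⟨u, rfl⟩ := QuotientGroup.mk_surjective u
      obtain ⟨v, rfl⟩ := QuotientGroup.mk_surjective v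
      rw [← commutatorElement_eq_one_iff_mul_comm, ← QuotientGroup.mk'_apply,
        ← QuotientGroup.mk'_apply, ← map_commutatorElement]
      exact (QuotientGroup.eq_one_iff _).mpr
        (Subgroup.commutator_mem_commutator (Subgroup.mem_top _) (Subgroup.mem_top _))
    have hiff : IsConj (a : G ⧸ D) (b : G ⧸ D) ↔ a⁻¹ * b ∈ D := by
      rw [← QuotientGroup.eq, isConj_iff]
      refine ⟨fun ⟨c, hc⟩ => ?_, fun e => ⟨1, by simp [e]⟩⟩
      rw [hab c, mul_inv_cancel_right] at hc
      exact hc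
    by_cases e : a⁻¹ * b ∈ D
    · rw [if_pos (hiff.mpr e), if_pos e]
      have hc : Subgroup.centralizer ({(a : G ⧸ D)} : Set (G ⧸ D)) = ⊤ :=
        eq_top_iff.mpr fun u _ => Subgroup.mem_centralizer_singleton_iff.mpr (hab _ _)
      rw [hc, Subgroup.card_top, Subgroup.index_eq_card]
    · rw [if_neg (fun e' => e (hiff.mp e')), if_neg e]
  have hχL : χ ∉ L := fun e => hχ1 ((hmemL χ).mp e)
  have hsplit : ∀ x : G, (∑ ψ : Cfsg.IrrCharacter G, (ψ : G → ℂ) g * conj ((ψ : G → ℂ) x)) =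
      (if g⁻¹ * x ∈ D then (D.index : ℂ) else 0) + (χ : G → ℂ) g * conj ((χ : G → ℂ) x) := by
    intro x
    rw [← hLsum g x, ← Finset.sum_subset (Finset.subset_univ (insert χ L)) (fun ψ _ hψ => by
      rw [Finset.mem_insert, not_or] at hψ
      rw [hother ψ (fun e => hψ.2 ((hmemL ψ).mpr e)) hψ.1, zero_mul]),
      Finset.sum_insert hχL, add_comm]
  have hg1 : ¬ IsConj g 1 := fun e => hg (by
    rw [isConj_one_left.mp e]; exact one_mem _)
  have hd : (χ : G → ℂ) 1 ≠ 0 := CfsgLib.CharTools.irr_apply_one_ne_zero χ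
  have hconj1 : conj ((χ : G → ℂ) 1) = (χ : G → ℂ) 1 :=
    CfsgLib.CharTools.conj_apply_one (IsIrrCharacter.isCharacter χ.2)
  have h1 := hsplit 1
  rw [sum_mul_conj, if_neg hg1, hconj1, mul_one] at h1
  have hgD : g ∈ D := by
    by_contra hn
    rw [if_neg (fun e => hn (by simpa using inv_mem e)), zero_add] at h1
    exact mul_ne_zero hχg hd h1.symm
  rw [if_pos (inv_mem hgD)] at h1
  have hval : (χ : G → ℂ) g = -((D.index : ℂ) / (χ : G → ℂ) 1) := by
    rw [eq_neg_iff_add_eq_zero]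
    field_simp
    linear_combination -h1
  -- `χ` vanishes off the derived group
  have hvanish : ∀ x : G, x ∉ D → (χ : G → ℂ) x = 0 := by
    intro x hx
    by_contra hne
    obtain ⟨ψ, hψ, hψx⟩ : ∃ ψ ∈ L, (ψ : G → ℂ) x ≠ 1 := by
      by_contra hcon
      push Not at hcon
      have h2 := hLsum x 1
      rw [if_neg (fun e => hx (by simpa using inv_mem e)), Finset.sum_congr rfl (g := fun _ => (1 : ℂ))
        (fun ψ hψ => by rw [hcon ψ hψ, hone ψ hψ]; simp)] at h2
      simp only [Finset.sum_const, nsmul_eq_mul, mul_one, Nat.cast_eq_zero, Finset.card_eq_zero] at h2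
      have h3 : (principalIrr (G := G)) ∈ L := Finset.mem_filter.mpr ⟨Finset.mem_univ _, fun _ _ => rfl⟩
      rw [h2] at h3
      exact Finset.notMem_empty _ h3
    obtain ⟨f, hf⟩ := IsCharacter.exists_linear (IsIrrCharacter.isCharacter ψ.2) (hone ψ hψ)
    let τ : Cfsg.IrrCharacter G := ⟨_, IsIrrCharacter.linear_mul χ.2 f⟩
    have hτg : (τ : G → ℂ) g = (χ : G → ℂ) g := by
      show (f g : ℂ) * (χ : G → ℂ) g = _
      rw [← hf g, (Finset.mem_filter.mp hψ).2 g hgD, hone ψ hψ, one_mul]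
    have hτd : Cfsg.charDegree (τ : G → ℂ) = Cfsg.charDegree (χ : G → ℂ) := by
      have : (Cfsg.charDegree (τ : G → ℂ) : ℂ) = Cfsg.charDegree (χ : G → ℂ) := by
        rw [CfsgLib.CharTools.irr_degree_cast, CfsgLib.CharTools.irr_degree_cast]
        show (f 1 : ℂ) * _ = _
        rw [map_one, Units.val_one, one_mul]
      exact_mod_cast this
    have hτ : τ = χ := by
      by_contra hne'
      exact hχg (hτg ▸ hother τ (hτd ▸ hχ1) hne')
    have h2 := congrFun (congrArg Subtype.val hτ) x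
    change (f x : ℂ) * (χ : G → ℂ) x = (χ : G → ℂ) x at h2
    rw [← hf] at h2
    exact hψx (mul_eq_right₀ hne |>.mp h2)
  obtain ⟨K, hKn, hK, hKmul⟩ := CfsgLib.CharTools.exists_kernel (IsIrrCharacter.isCharacter χ.2)
  have hKD : K ≤ D := fun x hx => by
    by_contra hn
    exact hd ((hK x).mp hx ▸ hvanish x hn)
  have hclassK : ∀ x ∈ D, x ∉ K → IsConj g x := by
    intro x hx hxK
    by_contra hn
    have h2 := hsplit x
    rw [sum_mul_conj, if_neg hn, if_pos (mul_mem (inv_mem hgD) hx)] at h2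
    refine hxK ((hK x).mpr ?_)
    have h3 : (χ : G → ℂ) g * conj ((χ : G → ℂ) x) = (χ : G → ℂ) g * conj ((χ : G → ℂ) 1) := by
      rw [hconj1]
      linear_combination h1 - h2
    have h4 := congrArg conj (mul_left_cancel₀ hχg h3)
    rwa [Complex.conj_conj, Complex.conj_conj] at h4
  have hgK : g ∉ K := fun e => by
    have h2 := (hK g).mp e
    rw [h2, ← CfsgLib.CharTools.irr_degree_cast] at h1
    have h3 : ((D.index + Cfsg.charDegree (χ : G → ℂ) * Cfsg.charDegree (χ : G → ℂ) : ℕ) : ℂ) = 0 := by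
      push_cast; exact h1.symm
    rw [Nat.cast_eq_zero] at h3
    exact Subgroup.index_ne_zero_of_finite (H := D) (by omega)
  have hclassfun := IsIrrCharacter.isClassFunction χ.2
  refine ⟨hgD, hval, ?_, hvanish, ?_, ?_⟩
  · ext x
    simp only [SetLike.mem_coe, Set.mem_union, Set.mem_ofPred_eq]
    constructor
    · intro hx
      by_cases hxK : x ∈ K
      · exact Or.inl ((hK x).mp hxK)
      · exact Or.inr (hclassK x hx hxK)
    · rintro (e | e)
      · exact hKD ((hK x).mpr e)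
      · obtain ⟨c, hc⟩ := isConj_iff.mp e
        exact hc ▸ (inferInstance : D.Normal).conj_mem g hgD c
  · intro ψ hψ1 hψK
    by_contra hne
    have hψg := hother ψ hψ1 hne
    have hψcl := IsIrrCharacter.isClassFunction ψ.2
    have hzero : ∀ x ∈ D, x ∉ K → (ψ : G → ℂ) x = 0 := fun x hx hxK => by
      rw [← IsClassFunction.eq_of_isConj hψcl (hclassK x hx hxK), hψg]
    have hsum : ∑ x ∈ Finset.univ.filter (· ∈ D), (ψ : G → ℂ) x = (Nat.card K : ℂ) * (ψ : G → ℂ) 1 := by
      rw [← Finset.sum_subset (s₁ := Finset.univ.filter (· ∈ K))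
        (fun x hx => Finset.mem_filter.mpr ⟨Finset.mem_univ _, hKD (Finset.mem_filter.mp hx).2⟩)
        (fun x hx hxK => hzero x (Finset.mem_filter.mp hx).2
          (fun e => hxK (Finset.mem_filter.mpr ⟨Finset.mem_univ _, e⟩))),
        Finset.sum_congr rfl (g := fun _ => (ψ : G → ℂ) 1)
          (fun x hx => hψK x ((hK x).mp (Finset.mem_filter.mp hx).2)),
        Finset.sum_const, nsmul_eq_mul, Nat.card_eq_fintype_card, Fintype.card_subtype]
    have h2 : ∑ lam ∈ L, ∑ x : G, (ψ : G → ℂ) x * conj ((lam : G → ℂ) x) = 0 := by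
      refine Finset.sum_eq_zero fun lam hlam => ?_
      have hne' : (ψ : G → ℂ) ≠ (lam : G → ℂ) := fun e => hψ1 (e ▸ (hmemL lam).mp hlam)
      have h3 := classInner_irr_of_ne ψ.2 lam.2 hne'
      rw [Cfsg.classInner, mul_eq_zero] at h3
      exact h3.resolve_left (inv_ne_zero (Nat.cast_ne_zero.mpr Nat.card_pos.ne'))
    have hidx : (D.index : ℂ) ≠ 0 := Nat.cast_ne_zero.mpr Subgroup.index_ne_zero_of_finite
    have hcalc : ∑ lam ∈ L, ∑ x : G, (ψ : G → ℂ) x * conj ((lam : G → ℂ) x) =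
        (D.index : ℂ) * ((Nat.card K : ℂ) * (ψ : G → ℂ) 1) := by
      rw [Finset.sum_comm, ← hsum, Finset.mul_sum, Finset.sum_filter]
      refine Finset.sum_congr rfl fun x _ => ?_
      have hx1 : ∑ lam ∈ L, conj ((lam : G → ℂ) x) = if x ∈ D then (D.index : ℂ) else 0 := by
        have := hLsum 1 x
        rw [inv_one, one_mul] at this
        rw [← this]
        exact Finset.sum_congr rfl fun lam hlam => by rw [hone lam hlam, one_mul]
      rw [← Finset.mul_sum, hx1]
      split_ifs with e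
      · ring
      · ring
    rw [h2] at hcalc
    exact mul_ne_zero hidx (mul_ne_zero (Nat.cast_ne_zero.mpr Nat.card_pos.ne')
      (CfsgLib.CharTools.irr_apply_one_ne_zero ψ)) hcalc.symm
  · refine CfsgLib.OneNonVanish.isSolvable_of_single_class K hKD g hgD hgK hclassK ?_
    intro z hz
    by_contra hzD
    obtain ⟨ψ, hψ⟩ := CfsgLib.CharTools.exists_descend K χ.2 (fun n hn => (hK n).mp hn)
    have hzc : (z : G ⧸ K) ∈ Subgroup.center (G ⧸ K) := Subgroup.mem_center_iff.mpr fun y => by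
      obtain ⟨y, rfl⟩ := QuotientGroup.mk_surjective y
      refine (commutatorElement_eq_one_iff_mul_comm.mp ?_).symm
      rw [← QuotientGroup.mk'_apply, ← QuotientGroup.mk'_apply, ← map_commutatorElement]
      exact (QuotientGroup.eq_one_iff _).mpr (hz y)
    have h2 := CfsgLib.CharTools.norm_apply_center ψ hzc
    rw [hψ z, hvanish z hzD, norm_zero] at h2
    have h3 : 0 < Cfsg.charDegree (ψ : G ⧸ K → ℂ) := CfsgLib.CharTools.irr_degree_pos ψ
    have h4 : (0 : ℝ) < (Cfsg.charDegree (ψ : G ⧸ K → ℂ) : ℝ) := Nat.cast_pos.mpr h3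
    linarith

end Cfsg.Agent.S4805
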