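import Cfsg.Statements.S4807
import Cfsg.Agent.Lib.RelMcKay.Main

set_option autoImplicit false
open Cfsg

namespace Cfsg.Agent.S4807

open CfsgLib.RelMcKay
open scoped ComplexConjugate

attribute [local instance] Classical.propDecidable

section

variable {G : Type*} [Group G] [Fintype G] (p : ℕ)

theorem finsum_ne_zero_iff {L Y : Subgroup G} (hLY : L ≤ Y) {f : G → ℂ} (hf : IrrOn Y f)
    (ν : Cfsg.IrrCharacter L) :
    (∑ᶠ l : L, f (l : G) * conj ((ν : L → ℂ) l)) ≠ 0 ↔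
      mult L f (extendByZero L (ν : L → ℂ)) ≠ 0 := by
  have hν : IrrOn L (extendByZero L (ν : L → ℂ)) :=
    mem_irrs.1 (Finset.mem_image_of_mem _ (Finset.mem_univ ν))
  have h : inn L f (extendByZero L (ν : L → ℂ)) =
      (Nat.card L : ℂ)⁻¹ * ∑ᶠ l : L, f (l : G) * conj ((ν : L → ℂ) l) := by
    rw [finsum_eq_sum_of_fintype, inn, sum_mems]
    simp only [CfsgLib.Char.extendByZero_coe]
  rw [← Nat.cast_ne_zero (R := ℂ), mult_cast (hf.charOn_sub hLY) hν.charOn, h, mul_ne_zero_iff]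
  exact ⟨fun h => ⟨inv_ne_zero (by exact_mod_cast Nat.card_pos.ne'), h⟩, fun h => h.2⟩

theorem card_sub {L Y : Subgroup G} (hLY : L ≤ Y) (ν : Cfsg.IrrCharacter L) :
    Nat.card {ψ : Cfsg.IrrCharacter Y // ¬ p ∣ Cfsg.charDegree (ψ : Y → ℂ) ∧
      (∑ᶠ l : L, (ψ : Y → ℂ) (Subgroup.inclusion hLY l) * conj ((ν : L → ℂ) l)) ≠ 0} =
      (cset p Y L (extendByZero L (ν : L → ℂ))).card := by
  rw [← Nat.card_eq_finsetCard]
  have hdeg : ∀ ψ : Cfsg.IrrCharacter Y,
      deg (extendByZero Y (ψ : Y → ℂ)) = Cfsg.charDegree (ψ : Y → ℂ) := fun ψ => by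
    simp only [deg, Cfsg.charDegree]
    rw [CfsgLib.Char.extendByZero_apply_mem Y _ (one_mem Y)]
    rfl
  have hsum : ∀ ψ : Cfsg.IrrCharacter Y,
      (∑ᶠ l : L, (ψ : Y → ℂ) (Subgroup.inclusion hLY l) * conj ((ν : L → ℂ) l)) =
        ∑ᶠ l : L, extendByZero Y (ψ : Y → ℂ) (l : G) * conj ((ν : L → ℂ) l) := fun ψ => by
    refine finsum_congr fun l => ?_
    rw [CfsgLib.Char.extendByZero_apply_mem Y _ (hLY l.2)]
    rfl
  have hmem : ∀ ψ : Cfsg.IrrCharacter Y, IrrOn Y (extendByZero Y (ψ : Y → ℂ)) := fun ψ =>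
    mem_irrs.1 (Finset.mem_image_of_mem _ (Finset.mem_univ ψ))
  refine Nat.card_congr (Equiv.ofBijective (fun ψ => ⟨extendByZero Y (ψ.1 : Y → ℂ),
    mem_cset.2 ⟨hmem ψ.1, by rw [hdeg]; exact ψ.2.1,
      (finsum_ne_zero_iff hLY (hmem ψ.1) ν).1 (by rw [← hsum]; exact ψ.2.2)⟩⟩) ⟨?_, ?_⟩)
  · intro a b e
    exact Subtype.ext (extend_injective Y (congrArg Subtype.val e))
  · rintro ⟨f, hf⟩
    obtain ⟨h1, h2, h3⟩ := mem_cset.1 hf
    obtain ⟨ψ, -, rfl⟩ := Finset.mem_image.1 (mem_irrs.2 h1 : f ∈ irrs Y)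
    exact ⟨⟨ψ, by rw [← hdeg]; exact h2,
      by rw [hsum]; exact (finsum_ne_zero_iff hLY h1 ν).2 h3⟩, rfl⟩

theorem irrOn_top_iff {f : G → ℂ} : IrrOn (⊤ : Subgroup G) f ↔ Cfsg.IsIrrCharacter G f := by
  constructor
  · intro h
    exact CfsgLib.CharTwist.isIrrCharacter_comp_equiv h.irr Subgroup.topEquiv.symm
  · intro h
    exact ⟨CfsgLib.CharTwist.isIrrCharacter_comp_equiv h Subgroup.topEquiv,
      fun x hx => absurd (Subgroup.mem_top x) hx⟩

theorem card_top {L : Subgroup G} (ν : Cfsg.IrrCharacter L) :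
    Nat.card {χ : Cfsg.IrrCharacter G // ¬ p ∣ Cfsg.charDegree (χ : G → ℂ) ∧
      (∑ᶠ l : L, (χ : G → ℂ) (l : G) * conj ((ν : L → ℂ) l)) ≠ 0} =
      (cset p (⊤ : Subgroup G) L (extendByZero L (ν : L → ℂ))).card := by
  rw [← Nat.card_eq_finsetCard]
  refine Nat.card_congr
    { toFun := fun χ => ⟨(χ.1 : G → ℂ), mem_cset.2 ⟨irrOn_top_iff.2 χ.1.2, χ.2.1,
        (finsum_ne_zero_iff le_top (irrOn_top_iff.2 χ.1.2) ν).1 χ.2.2⟩⟩
      invFun := fun f => ⟨⟨f.1, irrOn_top_iff.1 (mem_cset.1 f.2).1⟩, (mem_cset.1 f.2).2.1,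
        (finsum_ne_zero_iff le_top (mem_cset.1 f.2).1 ν).2 (mem_cset.1 f.2).2.2⟩
      left_inv := fun _ => rfl
      right_inv := fun _ => rfl }

end

/-- Let p be a prime and G a finite p-solvable group, L a normal subgroup of G, S a Sylow p-subgroup of G and P the subgroup generated by L and S (so P/L is a Sylow p-subgroup of G/L), and let ν be an irreducible complex character of L that is invariant under conjugation by every element of P. Let N be the normalizer of P in G (it contains L). Then the number of irreducible characters of G of degree prime to p lying over ν (restriction to L not orthogonal to ν) equals the number of irreducible characters of N of degree prime to p lying over ν. -/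
theorem result {G : Type*} [Group G] [Finite G] (p : ℕ) [Fact p.Prime] (hG : Cfsg.IsPSolvable p G) (L : Subgroup G) [L.Normal] (S : Sylow p G) (P : Subgroup G) (hP : P = L ⊔ (S : Subgroup G)) (hLN : L ≤ (Subgroup.normalizer ((P : Subgroup G) : Set G))) (ν : Cfsg.IrrCharacter ↥L) (hν : ∀ x ∈ P, Cfsg.IsConjCharOf L x (ν : ↥L → ℂ) (ν : ↥L → ℂ)) : Nat.card {χ : Cfsg.IrrCharacter G // ¬ p ∣ Cfsg.charDegree (χ : G → ℂ) ∧ (∑ᶠ l : ↥L, (χ : G → ℂ) (l : G) * (starRingEnd ℂ) ((ν : ↥L → ℂ) l)) ≠ 0} = Nat.card {ψ : Cfsg.IrrCharacter ↥(Subgroup.normalizer ((P : Subgroup G) : Set G)) // ¬ p ∣ Cfsg.charDegree (ψ : ↥(Subgroup.normalizer ((P : Subgroup G) : Set G)) → ℂ) ∧ (∑ᶠ l : ↥L, (ψ : ↥(Subgroup.normalizer ((P : Subgroup G) : Set G)) → ℂ) (Subgroup.inclusion hLN l) * (starRingEnd ℂ) ((ν : ↥L → ℂ) l)) ≠ 0} := by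
  haveI := Fintype.ofFinite G
  set ν' : G → ℂ := extendByZero L (ν : L → ℂ) with hν'
  have hνi : IrrOn L ν' := mem_irrs.1 (Finset.mem_image_of_mem _ (Finset.mem_univ ν))
  have hinv : ∀ t ∈ P, cj t ν' = ν' := by
    intro t ht
    funext z
    by_cases hz : z ∈ L
    · have hz' : t⁻¹ * z * t ∈ L := by simpa using ‹L.Normal›.conj_mem z hz t⁻¹
      rw [cj_apply, hν', CfsgLib.Char.extendByZero_apply_mem L _ hz',
        CfsgLib.Char.extendByZero_apply_mem L _ hz]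
      exact (hν t ht ⟨_, hz'⟩ ⟨z, hz⟩ (by simp [mul_assoc])).symm
    · rw [cj_apply, hνi.supp z hz, hνi.supp]
      intro h
      exact hz (by simpa [mul_assoc] using ‹L.Normal›.conj_mem _ h t)
  have hmain := main hG _ (⊤ : Subgroup G) L (S : Subgroup G) P ν' rfl le_top
    (fun g _ => by rw [Subgroup.normalizer_eq_top]; trivial) S.2 le_top
    (by rw [Subgroup.relIndex_top_right]; exact S.not_dvd_index) hP hνi hinv
  rw [top_inf_eq] at hmain
  rw [card_top, card_sub p hLN ν]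
  exact hmain

end Cfsg.Agent.S4807
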