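import Cfsg.Statements.S4808
import Cfsg.Agent.Lib.CharTools.Basic
-- import your own Cfsg.Agent.* helpers here

set_option autoImplicit false
open Cfsg

namespace Cfsg.Agent.S4808

/-- The codegree of an irreducible complex character χ of a finite group G is [G : ker χ] / χ(1), where ker χ is the set of elements at which χ takes the value χ(1). A prime divides the order of G if and only if it divides the codegree of some irreducible complex character of G. -/
theorem result {G : Type*} [Group G] [Finite G] (p : ℕ) (hp : p.Prime) : p ∣ Nat.card G ↔ ∃ χ : Cfsg.IrrCharacter G, p ∣ (Nat.card G / (Nat.card {g : G // (χ : G → ℂ) g = (χ : G → ℂ) 1} * Cfsg.charDegree (χ : G → ℂ))) := by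
  have := Fact.mk hp
  cases nonempty_fintype G
  refine ⟨fun hdvd => ?_, fun ⟨χ, hχ⟩ => hχ.trans (CfsgLib.CharTools.codegree_dvd_card χ)⟩
  obtain ⟨P⟩ := (inferInstance : Nonempty (Sylow p G))
  set M : Subgroup G := Subgroup.normalClosure ((P : Subgroup G) : Set G) with hM
  have hPM : (P : Subgroup G) ≤ M := Subgroup.le_normalClosure
  have := Fintype.ofFinite M
  have hMindex : ¬ p ∣ M.index := fun h =>
    P.not_dvd_index (h.trans (Subgroup.index_dvd_of_le hPM))
  have hpM : p ∣ Nat.card M := (P.dvd_card_of_dvd_card hdvd).trans (Subgroup.card_dvd_of_le hPM)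
  obtain ⟨θ, hθ1, hθp⟩ := CfsgLib.CharTools.exists_not_dvd hp hpM
  have hind := CfsgLib.Char.IsCharacter.indFun M (CfsgLib.Char.IsIrrCharacter.isCharacter θ.2)
  obtain ⟨m, hm, hdeg⟩ := CfsgLib.CharTools.exists_degree_combination hind
  have hdeg' : Cfsg.charDegree (Cfsg.indFun M (θ : M → ℂ)) = M.index * Cfsg.charDegree (θ : M → ℂ) := by
    have h1 := CfsgLib.Char.indFun_apply_one M (θ : M → ℂ)
    rw [← CfsgLib.CharTools.degree_cast hind, ← CfsgLib.CharTools.irr_degree_cast] at h1
    exact_mod_cast h1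
  obtain ⟨χ, hmχ, hχp⟩ : ∃ χ : Cfsg.IrrCharacter G, m χ ≠ 0 ∧ ¬ p ∣ Cfsg.charDegree (χ : G → ℂ) := by
    by_contra hcon
    push Not at hcon
    have h2 : p ∣ ∑ ψ, m ψ * Cfsg.charDegree (ψ : G → ℂ) := Finset.dvd_sum fun ψ _ => by
      by_cases h0 : m ψ = 0
      · simp [h0]
      · exact (hcon ψ h0).mul_left _
    rw [← hdeg, hdeg'] at h2
    exact (hp.dvd_mul.mp h2).elim hMindex hθp
  obtain ⟨N, hN, hmem, -⟩ :=
    CfsgLib.CharTools.exists_kernel (CfsgLib.Char.IsIrrCharacter.isCharacter χ.2)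
  refine ⟨χ, ?_⟩
  obtain ⟨h1, h2⟩ := CfsgLib.CharTools.codegree_eq χ N hmem
  rw [h2]
  have hpN : p ∣ N.index := by
    by_contra hpN
    apply hmχ
    have hPN : (P : Subgroup G) ≤ N := by
      intro x hx
      rw [← QuotientGroup.eq_one_iff, ← orderOf_eq_one_iff]
      obtain ⟨k, hk⟩ := P.isPGroup' ⟨x, hx⟩
      refine Nat.eq_one_of_dvd_coprimes (Nat.Coprime.pow_left k ((hp.coprime_iff_not_dvd).mpr hpN))
        (orderOf_dvd_of_pow_eq_one ?_) (orderOf_dvd_natCard _)
      rw [← QuotientGroup.mk_pow, show x ^ p ^ k = 1 from congrArg Subtype.val hk, QuotientGroup.mk_one]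
    have hconst : (fun h : M => (χ : G → ℂ) h) = (χ : G → ℂ) 1 • fun _ : M => (1 : ℂ) := by
      funext h
      simp [(hmem h).mp ((Subgroup.normalClosure_le_normal hPN) h.2)]
    have h3 := hm χ
    rw [CfsgLib.Char.classInner_indFun M _ _ (CfsgLib.Char.IsIrrCharacter.isClassFunction χ.2), hconst,
      CfsgLib.Char.classInner_smul_right,
      CfsgLib.Char.classInner_irr_of_ne θ.2 CfsgLib.Char.isIrrCharacter_principal hθ1, mul_zero] at h3
    exact_mod_cast h3.symm
  obtain ⟨c, hc⟩ := h1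
  rw [hc, Nat.mul_div_cancel_left _ (CfsgLib.CharTools.irr_degree_pos χ)]
  exact (hp.dvd_mul.mp (hc ▸ hpN)).resolve_left hχp

end Cfsg.Agent.S4808
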