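import Cfsg.Statements.S4811
import Cfsg.Agent.Lib.DegGraph.Step

set_option autoImplicit false
open Cfsg
open scoped commutatorElement
set_option linter.style.haveILetI false

namespace Cfsg.Agent.S4811

/-- For every finite solvable group G the character degree graph of G (vertices: the primes dividing some irreducible complex character degree; edges: distinct primes whose product divides some degree) has at most two connected components. -/
theorem result {G : Type*} [Group G] [Finite G] [Group.IsSolvable G] : Nat.card ((Cfsg.degreeGraph G).induce (Cfsg.degreePrimes G)).ConnectedComponent ≤ 2 := by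
  classical
  haveI := Fintype.ofFinite G
  set Γ := (Cfsg.degreeGraph G).induce (Cfsg.degreePrimes G) with hΓ
  by_cases hna : commutator G = ⊥
  · have hab : ∀ a b : G, a * b = b * a := fun a b => by
      have : ⁅a, b⁆ ∈ commutator G :=
        Subgroup.commutator_mem_commutator (Subgroup.mem_top a) (Subgroup.mem_top b)
      rw [hna, Subgroup.mem_bot] at this
      exact commutatorElement_eq_one_iff_mul_comm.1 this
    haveI : IsEmpty (Cfsg.degreePrimes G) := by
      refine ⟨fun ⟨p, hp, d, ⟨χ, hχ⟩, hpd⟩ => ?_⟩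
      have h1 : (d : ℂ) = ((1 : ℕ) : ℂ) := by
        rw [← hχ, CfsgLib.CharTools.irr_degree_cast, (CfsgLib.CharOver.abelian_irr hab χ.2).1,
          Nat.cast_one]
      rw [Nat.cast_inj.1 h1] at hpd
      exact hp.ne_one (Nat.dvd_one.1 hpd)
    haveI : IsEmpty Γ.ConnectedComponent := ⟨fun c => c.ind fun v => IsEmpty.false v⟩
    simp
  obtain ⟨q, s, hq, hs, h⟩ := CfsgLib.DegGraph.degree_dichotomy hna
  have key : ∀ v : Cfsg.degreePrimes G, (∃ hm : q ∈ Cfsg.degreePrimes G, Γ.Reachable v ⟨q, hm⟩) ∨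
      ∃ hm : s ∈ Cfsg.degreePrimes G, Γ.Reachable v ⟨s, hm⟩ := by
    rintro ⟨p, hp, d, ⟨χ, rfl⟩, hpd⟩
    have hadj : ∀ (r D : ℕ) (hr : r.Prime) (hD : D ∈ Cfsg.charDegrees G) (h1 : p ∣ D) (h2 : r ∣ D),
        Γ.Reachable ⟨p, hp, _, ⟨χ, rfl⟩, hpd⟩ ⟨r, hr, D, hD, h2⟩ := by
      intro r D hr hD h1 h2
      by_cases hpr : p = r
      · subst hpr; rfl
      · exact SimpleGraph.Adj.reachable (show (Cfsg.degreeGraph G).Adj p r from
          ⟨hpr, hp, hr, D, hD, Nat.Coprime.mul_dvd_of_dvd_of_dvd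
            ((Nat.coprime_primes hp hr).2 hpr) h1 h2⟩)
    rcases h χ with hd | ⟨D, hD, hsD, hχD⟩
    · exact Or.inl ⟨⟨hq, _, ⟨χ, rfl⟩, hd⟩, hadj q _ hq ⟨χ, rfl⟩ hpd hd⟩
    · exact Or.inr ⟨⟨hs, D, hD, hsD⟩, hadj s D hs hD (hpd.trans hχD) hsD⟩
  choose rep hrep using fun c : Γ.ConnectedComponent => c.exists_rep
  let f : Γ.ConnectedComponent → Bool := fun c =>
    decide (∃ hm : q ∈ Cfsg.degreePrimes G, Γ.Reachable (rep c) ⟨q, hm⟩)
  refine (Nat.card_le_card_of_injective f ?_).trans (by simp)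
  intro a b hab
  simp only [f, decide_eq_decide] at hab
  rw [← hrep a, ← hrep b]
  refine SimpleGraph.ConnectedComponent.sound ?_
  rcases key (rep a) with hqa | hsa
  · obtain ⟨_, ha⟩ := hqa
    obtain ⟨_, hb⟩ := hab.1 ⟨_, ha⟩
    exact ha.trans hb.symm
  · rcases key (rep b) with ⟨_, hb⟩ | ⟨_, hb⟩
    · obtain ⟨_, ha⟩ := hab.2 ⟨_, hb⟩
      exact ha.trans hb.symm
    · obtain ⟨_, ha⟩ := hsa
      exact ha.trans hb.symm

end Cfsg.Agent.S4811
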