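import Cfsg.Statements.S4813
import Cfsg.Agent.Lib.DegGraph.Step
import Cfsg.Agent.Lib.PrimeDegrees.Solvable

set_option autoImplicit false
open Cfsg
open scoped commutatorElement
set_option linter.style.haveILetI false

namespace Cfsg.Agent.S4813

/-- If every irreducible complex character of the finite group G of degree greater than one has prime degree, then G has at most three distinct irreducible character degrees. -/
theorem result {G : Type*} [Group G] [Finite G] (hprime : ∀ d ∈ Cfsg.charDegrees G, d = 1 ∨ d.Prime) : Nat.card ↥(Cfsg.charDegrees G) ≤ 3 := by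
  classical
  haveI := CfsgLib.PrimeDeg.isSolvable_of_prime_degrees _ G rfl
    (fun χ hχ => (hprime _ ⟨χ, rfl⟩).resolve_left hχ)
  haveI := Fintype.ofFinite G
  suffices h : ∃ q s : ℕ, Cfsg.charDegrees G ⊆ ({1, q, s} : Set ℕ) by
    obtain ⟨q, s, hqs⟩ := h
    rw [Nat.card_coe_set_eq]
    refine (Set.ncard_le_ncard hqs (by simp)).trans ?_
    refine (Set.ncard_insert_le _ _).trans ?_
    have := Set.ncard_insert_le q ({s} : Set ℕ)
    rw [Set.ncard_singleton] at this
    omega
  by_cases hna : commutator G = ⊥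
  · refine ⟨1, 1, ?_⟩
    rintro d ⟨χ, rfl⟩
    have hab : ∀ a b : G, a * b = b * a := fun a b => by
      have : ⁅a, b⁆ ∈ commutator G :=
        Subgroup.commutator_mem_commutator (Subgroup.mem_top a) (Subgroup.mem_top b)
      rw [hna, Subgroup.mem_bot] at this
      exact commutatorElement_eq_one_iff_mul_comm.1 this
    have h1 : (Cfsg.charDegree (χ : G → ℂ) : ℂ) = ((1 : ℕ) : ℂ) := by
      rw [CfsgLib.CharTools.irr_degree_cast, (CfsgLib.CharOver.abelian_irr hab χ.2).1, Nat.cast_one]
    rw [Nat.cast_inj.1 h1]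
    simp
  · obtain ⟨q, s, hq, hs, h⟩ := CfsgLib.DegGraph.degree_dichotomy hna
    refine ⟨q, s, ?_⟩
    rintro d ⟨χ, rfl⟩
    rcases hprime _ ⟨χ, rfl⟩ with h1 | hp
    · simp [h1]
    rcases h χ with hd | ⟨D, hD, hsD, hχD⟩
    · simp [(Nat.prime_dvd_prime_iff_eq hq hp).1 hd]
    · rcases hprime D hD with h1 | hDp
      · rw [h1, Nat.dvd_one] at hsD
        exact absurd hsD hs.ne_one
      · rw [← (Nat.prime_dvd_prime_iff_eq hs hDp).1 hsD] at hχD
        simp [(Nat.prime_dvd_prime_iff_eq hp hs).1 hχD]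

end Cfsg.Agent.S4813
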