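import Cfsg.Statements.S4814
import Cfsg.Agent.Lib.CharTools.Basic
-- import your own Cfsg.Agent.* helpers here

set_option autoImplicit false
open Cfsg

namespace Cfsg.Agent.S4814

/-- Let G be a finite group such that the sum, over the irreducible complex characters χ of G, of 1/χ(1)² is less than 2. Then every element of G is a product of two commutators. -/
theorem result {G : Type*} [Group G] [Finite G]
    (h : ∑ᶠ χ : Cfsg.IrrCharacter G, 1 / ‖(χ : G → ℂ) 1‖ ^ 2 < (2 : ℝ)) (g : G) :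
    ∃ a b c d : G, (a * b * a⁻¹ * b⁻¹) * (c * d * c⁻¹ * d⁻¹) = g := by
  classical
  cases nonempty_fintype G
  -- generalized orthogonality
  have hgen : ∀ (χ ψ : Cfsg.IrrCharacter G) (y : G),
      ∑ x, (χ : G → ℂ) x * (ψ : G → ℂ) (x⁻¹ * y) =
        if χ = ψ then (Nat.card G : ℂ) * (χ : G → ℂ) y / (χ : G → ℂ) 1 else 0 := by
    intro χ ψ y
    obtain ⟨n, ρ, hρ, he⟩ := ψ.2
    let f : G → ℂ := fun x => (χ : G → ℂ) x⁻¹
    have hf : Cfsg.IsClassFunction G f := fun a c => by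
      show (χ : G → ℂ) (c * a * c⁻¹)⁻¹ = (χ : G → ℂ) a⁻¹
      rw [← CfsgLib.Char.IsIrrCharacter.isClassFunction χ.2 a⁻¹ c]
      congr 1
      group
    have hop := CfsgLib.Char.opOfFun_irreducible ρ hf
    have htr := congrArg (fun T : Module.End ℂ (Fin n → ℂ) => LinearMap.trace ℂ _ (T ∘ₗ ρ y)) hop
    simp only [CfsgLib.Char.opOfFun, LinearMap.smul_comp, LinearMap.id_comp, map_smul, smul_eq_mul] at htr
    have hl : ∑ x, (χ : G → ℂ) x * (ψ : G → ℂ) (x⁻¹ * y) =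
        LinearMap.trace ℂ _ ((∑ g, f g • ρ g) ∘ₗ ρ y) := by
      rw [← he, ← Module.End.mul_eq_comp, Finset.sum_mul, map_sum]
      refine Fintype.sum_equiv (Equiv.inv G) _ _ fun x => ?_
      simp [f, Representation.character, map_mul, smul_eq_mul]
    rw [hl, htr]
    show (∑ g, f g * ρ.character g) / (Module.finrank ℂ (Fin n → ℂ) : ℂ) * ρ.character y = _
    have hs : ∑ g, f g * ρ.character g = (Nat.card G : ℂ) * Cfsg.classInner (ψ : G → ℂ) (χ : G → ℂ) := by
      rw [Cfsg.classInner, mul_inv_cancel_left₀ (Nat.cast_ne_zero.mpr Nat.card_pos.ne'), ← he]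
      refine Finset.sum_congr rfl fun x _ => ?_
      simp [f, CfsgLib.Char.IsIrrCharacter.apply_inv χ.2, mul_comm]
    rw [hs, CfsgLib.Char.classInner_irrCharacter, ← Representation.char_one ρ, he]
    split_ifs with h1 h2
    · subst h1; ring
    · exact absurd h1.symm h2
    · exact absurd (by assumption : χ = ψ).symm h1
    · simp
  -- the number of ways of writing an element as a commutator
  let F : G → ℂ := fun y => (Nat.card {ab : G × G // ab.1 * ab.2 * ab.1⁻¹ * ab.2⁻¹ = y} : ℂ)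
  have hF : ∀ y, F y = ∑ χ : Cfsg.IrrCharacter G, (Nat.card G : ℂ) * (χ : G → ℂ) y / (χ : G → ℂ) 1 := by
    intro y
    have h1 : ∀ a : G, (Nat.card {b : G // a * b * a⁻¹ * b⁻¹ = y} : ℂ) =
        if IsConj a⁻¹ (a⁻¹ * y) then (Nat.card (Subgroup.centralizer ({a⁻¹} : Set G)) : ℂ) else 0 := by
      intro a
      have key : ∀ b : G, a * b * a⁻¹ * b⁻¹ = y ↔ b * a⁻¹ * b⁻¹ = a⁻¹ * y := fun b => by
        rw [eq_inv_mul_iff_mul_eq, ← mul_assoc, ← mul_assoc]
      split_ifs with hconj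
      · obtain ⟨b₀, hb₀⟩ := isConj_iff.mp hconj
        norm_cast
        refine Nat.card_congr
          { toFun := fun b => ⟨b₀⁻¹ * b.1, Subgroup.mem_centralizer_singleton_iff.mpr ?_⟩
            invFun := fun c => ⟨b₀ * c.1, (key _).mpr ?_⟩
            left_inv := fun b => Subtype.ext (mul_inv_cancel_left _ _)
            right_inv := fun c => Subtype.ext (inv_mul_cancel_left _ _) }
        · have := ((key _).mp b.2).trans hb₀.symm
          calc b₀⁻¹ * b.1 * a⁻¹ = b₀⁻¹ * (b.1 * a⁻¹ * b.1⁻¹) * b.1 := by group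
            _ = a⁻¹ * (b₀⁻¹ * b.1) := by rw [this]; group
        · have h2 := Subgroup.mem_centralizer_singleton_iff.mp c.2
          calc b₀ * c.1 * a⁻¹ * (b₀ * c.1)⁻¹ = b₀ * (c.1 * a⁻¹) * (c.1)⁻¹ * b₀⁻¹ := by group
            _ = _ := by rw [h2, ← hb₀]; group
      · norm_cast
        have : IsEmpty {b : G // a * b * a⁻¹ * b⁻¹ = y} :=
          ⟨fun b => hconj (isConj_iff.mpr ⟨b.1, (key _).mp b.2⟩)⟩
        exact Nat.card_of_isEmpty
    have h2 : F y = ∑ a : G, (Nat.card {b : G // a * b * a⁻¹ * b⁻¹ = y} : ℂ) := by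
      simp only [F]
      rw [Nat.card_congr (Equiv.subtypeProdEquivSigmaSubtype fun a b : G => a * b * a⁻¹ * b⁻¹ = y),
        Nat.card_sigma]
      push_cast
      rfl
    have h4 : starRingEnd ℂ (F y) = F y := Complex.conj_natCast _
    rw [← h4, h2, Finset.sum_congr rfl (fun a _ => by rw [h1 a, ← CfsgLib.Char.sum_mul_conj a⁻¹ (a⁻¹ * y)]),
      Finset.sum_comm, map_sum]
    refine Finset.sum_congr rfl fun χ _ => ?_
    have h3 : ∑ a : G, (χ : G → ℂ) a⁻¹ * starRingEnd ℂ ((χ : G → ℂ) (a⁻¹ * y)) =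
        starRingEnd ℂ (∑ a : G, (χ : G → ℂ) a * (χ : G → ℂ) (a⁻¹ * y)) := by
      rw [map_sum]
      exact Finset.sum_congr rfl fun a _ => by rw [map_mul, CfsgLib.Char.IsIrrCharacter.apply_inv χ.2]
    rw [h3, hgen χ χ y, if_pos rfl, Complex.conj_conj]
  by_contra hcon
  push Not at hcon
  have hzero : ∑ x, F x * F (x⁻¹ * g) = 0 := by
    refine Finset.sum_eq_zero fun x _ => ?_
    by_contra hne
    obtain ⟨h1, h2⟩ := mul_ne_zero_iff.mp hne
    simp only [F, ne_eq, Nat.cast_eq_zero, Nat.card_eq_zero, not_or, not_isEmpty_iff] at h1 h2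
    obtain ⟨⟨⟨a, b⟩, hab⟩⟩ := h1.1
    obtain ⟨⟨⟨c, d⟩, hcd⟩⟩ := h2.1
    simp only at hab hcd
    exact hcon a b c d (by rw [hab, hcd, mul_inv_cancel_left])
  have hsum : ∑ χ : Cfsg.IrrCharacter G, (χ : G → ℂ) g / (χ : G → ℂ) 1 ^ 3 = 0 := by
    rw [Finset.sum_congr rfl (fun x _ => by rw [hF x, hF (x⁻¹ * g), Finset.sum_mul_sum]), Finset.sum_comm] at hzero
    have h5 : ∀ χ : Cfsg.IrrCharacter G,
        ∑ x : G, ∑ ψ : Cfsg.IrrCharacter G, ((Nat.card G : ℂ) * (χ : G → ℂ) x / (χ : G → ℂ) 1) *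
          ((Nat.card G : ℂ) * (ψ : G → ℂ) (x⁻¹ * g) / (ψ : G → ℂ) 1) =
        (Nat.card G : ℂ) ^ 3 * ((χ : G → ℂ) g / (χ : G → ℂ) 1 ^ 3) := by
      intro χ
      rw [Finset.sum_comm, Finset.sum_eq_single χ]
      · have := hgen χ χ g
        rw [if_pos rfl] at this
        calc _ = ((Nat.card G : ℂ) / (χ : G → ℂ) 1) ^ 2 * ∑ x, (χ : G → ℂ) x * (χ : G → ℂ) (x⁻¹ * g) := by
              rw [Finset.mul_sum]; exact Finset.sum_congr rfl fun x _ => by ring
          _ = _ := by rw [this]; ring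
      · intro ψ _ hψ
        have := hgen χ ψ g
        rw [if_neg hψ.symm] at this
        calc _ = ((Nat.card G : ℂ) / (χ : G → ℂ) 1 * ((Nat.card G : ℂ) / (ψ : G → ℂ) 1)) *
            ∑ x, (χ : G → ℂ) x * (ψ : G → ℂ) (x⁻¹ * g) := by
              rw [Finset.mul_sum]; exact Finset.sum_congr rfl fun x _ => by ring
          _ = 0 := by rw [this, mul_zero]
      · simp
    rw [Finset.sum_congr rfl (fun χ _ => h5 χ), ← Finset.mul_sum] at hzero
    exact (mul_eq_zero.mp hzero).resolve_left (pow_ne_zero _ (Nat.cast_ne_zero.mpr Nat.card_pos.ne'))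
  rw [finsum_eq_sum_of_fintype, ← Finset.add_sum_erase _ _ (Finset.mem_univ (CfsgLib.Char.principalIrr (G := G)))] at h
  rw [← Finset.add_sum_erase _ _ (Finset.mem_univ (CfsgLib.Char.principalIrr (G := G)))] at hsum
  simp only [CfsgLib.Char.principalIrr_apply, norm_one, one_pow, div_one] at h hsum
  have hle : ‖∑ χ ∈ Finset.univ.erase (CfsgLib.Char.principalIrr (G := G)), (χ : G → ℂ) g / (χ : G → ℂ) 1 ^ 3‖ ≤
      ∑ χ ∈ Finset.univ.erase (CfsgLib.Char.principalIrr (G := G)), 1 / ‖(χ : G → ℂ) 1‖ ^ 2 := by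
    refine (norm_sum_le _ _).trans (Finset.sum_le_sum fun χ _ => ?_)
    have hd : ‖(χ : G → ℂ) 1‖ = (Cfsg.charDegree (χ : G → ℂ) : ℝ) := by
      rw [← CfsgLib.CharTools.irr_degree_cast, Complex.norm_natCast]
    have hd0 : (0 : ℝ) < Cfsg.charDegree (χ : G → ℂ) := Nat.cast_pos.mpr (CfsgLib.CharTools.irr_degree_pos χ)
    rw [norm_div, norm_pow, hd, div_le_div_iff₀ (pow_pos hd0 3) (pow_pos hd0 2), one_mul]
    calc ‖(χ : G → ℂ) g‖ * (Cfsg.charDegree (χ : G → ℂ) : ℝ) ^ 2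
        ≤ (Cfsg.charDegree (χ : G → ℂ) : ℝ) * (Cfsg.charDegree (χ : G → ℂ) : ℝ) ^ 2 :=
          mul_le_mul_of_nonneg_right
            (CfsgLib.Char.IsCharacter.norm_apply_le (CfsgLib.Char.IsIrrCharacter.isCharacter χ.2) g) (sq_nonneg _)
      _ = _ := by ring
  rw [eq_neg_of_add_eq_zero_right hsum, norm_neg, norm_one] at hle
  linarith

end Cfsg.Agent.S4814
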