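import Cfsg.Statements.S4825
import Cfsg.Agent.Lib.Blocks.Defect
import Cfsg.Agent.Lib.CharTools.Basic
import Cfsg.Agent.Lib.Char.Clifford

set_option autoImplicit false
open Cfsg

namespace Cfsg.Agent.S4825

/-- Let p be a prime, G a finite group with Sylow p-subgroup P, M a maximal ideal of the algebraic integers containing p, and B a p-block of G with defect group P. Let N be a normal subgroup of G not containing P and θ an irreducible character of N. Then the number of irreducible characters in B of degree prime to p lying over θ (having θ as a constituent on restriction to N) is either 0 or at least 2, and when p ≤ 3 it is divisible by p. -/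
theorem result {G : Type*} [Group G] [Fintype G] (p : ℕ) [Fact p.Prime] (P : Sylow p G) (M : Ideal Cfsg.AlgInt) (hM : Cfsg.IsPModular p M) (B : Set (Cfsg.IrrCharacter G)) (hB : Cfsg.IsPBlock M B) (hBP : Cfsg.IsDefectGroup p M B P) (N : Subgroup G) [N.Normal] [Fintype N] (hPN : ¬ (P : Subgroup G) ≤ N) (θ : Cfsg.IrrCharacter N) :
    (Nat.card {χ : Cfsg.IrrCharacter G // χ ∈ B ∧ ¬ p ∣ Cfsg.charDegree (χ : G → ℂ) ∧ Cfsg.classInner (fun n : N => (χ : G → ℂ) n) (θ : N → ℂ) ≠ 0} = 0 ∨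
      2 ≤ Nat.card {χ : Cfsg.IrrCharacter G // χ ∈ B ∧ ¬ p ∣ Cfsg.charDegree (χ : G → ℂ) ∧ Cfsg.classInner (fun n : N => (χ : G → ℂ) n) (θ : N → ℂ) ≠ 0}) ∧
    (p ≤ 3 → p ∣ Nat.card {χ : Cfsg.IrrCharacter G // χ ∈ B ∧ ¬ p ∣ Cfsg.charDegree (χ : G → ℂ) ∧ Cfsg.classInner (fun n : N => (χ : G → ℂ) n) (θ : N → ℂ) ≠ 0}) := by
  classical
  have : M.IsMaximal := hM.2.1
  have hp : p.Prime := Fact.out
  -- `p` divides the index
  have hidx : p ∣ N.index := by
    by_contra hnd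
    refine hPN fun x hx => (QuotientGroup.eq_one_iff x).mp (orderOf_eq_one_iff.mp ?_)
    obtain ⟨k, hk⟩ := P.2 ⟨x, hx⟩
    have hk' : x ^ p ^ k = 1 := congrArg Subtype.val hk
    refine Nat.eq_one_of_dvd_coprimes (Nat.Coprime.pow_left k (hp.coprime_iff_not_dvd.mpr hnd))
      (orderOf_dvd_of_pow_eq_one ?_) (orderOf_dvd_natCard _)
    rw [← QuotientGroup.mk_pow, hk', QuotientGroup.mk_one]
  -- the `B`-part of the degree of the induced character
  choose m hm using fun χ : Cfsg.IrrCharacter G =>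
    CfsgLib.Char.IsCharacter.exists_nat_classInner'
      (CfsgLib.Char.IsIrrCharacter.isCharacter θ.2)
      (CfsgLib.Clifford.isCharacter_res (CfsgLib.Char.IsIrrCharacter.isCharacter χ.2) N)
  have hres : ∀ χ : Cfsg.IrrCharacter G,
      Cfsg.classInner (fun n : N => (χ : G → ℂ) n) (θ : N → ℂ) = (m χ : ℂ) := fun χ => by
    rw [← CfsgLib.Char.classInner_conj_symm, hm, map_natCast]
  set Bf : Finset (Cfsg.IrrCharacter G) := Finset.univ.filter (· ∈ B) with hBf
  have hnum : (∑ χ ∈ Bf, m χ * Cfsg.charDegree (χ : G → ℂ) : ℂ) =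
      (N.index : ℂ) * ∑ n : N, (θ : N → ℂ) n * Cfsg.blockCoeff B (n : G) := by
    have hfin : ∀ g : G, Cfsg.blockCoeff B g =
        (Nat.card G : ℂ)⁻¹ * ∑ χ ∈ Bf, (χ : G → ℂ) 1 * (starRingEnd ℂ) ((χ : G → ℂ) g) := fun g => by
      rw [Cfsg.blockCoeff, finsum_mem_eq_finite_toFinset_sum _ (Set.toFinite B)]
      congr 1
      refine Finset.sum_congr ?_ fun _ _ => rfl
      ext χ
      simp [hBf]
    simp only [hfin, Finset.mul_sum]
    rw [Finset.sum_comm]
    refine Finset.sum_congr rfl fun χ _ => ?_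
    rw [← hm χ, Cfsg.classInner, Finset.mul_sum, Finset.sum_mul]
    refine Finset.sum_congr rfl fun n _ => ?_
    rw [← CfsgLib.CharTools.irr_degree_cast χ, ← N.card_mul_index, Nat.cast_mul]
    have h1 : (Nat.card N : ℂ) ≠ 0 := Nat.cast_ne_zero.mpr Nat.card_pos.ne'
    have h2 : (N.index : ℂ) ≠ 0 := Nat.cast_ne_zero.mpr Subgroup.index_ne_zero_of_finite
    field_simp
  have hdvd : p ∣ ∑ χ ∈ Bf, m χ * Cfsg.charDegree (χ : G → ℂ) := by
    rw [← CfsgLib.BlockReg.memIdeal_natCast_iff hM]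
    push_cast
    rw [hnum]
    refine CfsgLib.BlockReg.memIdeal_mul_right hM ((CfsgLib.BlockReg.memIdeal_natCast_iff hM _).mpr hidx) ?_
    exact CfsgLib.BlockReg.memRing_sum hM _ fun n _ => CfsgLib.BlockReg.memRing_mul hM
      (CfsgLib.BlockReg.memRing_char hM θ n) (CfsgLib.Blocks.memLocalRing_blockCoeff hB _)
  -- squares of degrees
  set t := (CfsgLib.CharTwist.inertia N (θ : N → ℂ)).index * Cfsg.charDegree (θ : N → ℂ) with ht
  have hsq : ∀ χ : Cfsg.IrrCharacter G, t * (m χ * Cfsg.charDegree (χ : G → ℂ)) =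
      if m χ = 0 then 0 else Cfsg.charDegree (χ : G → ℂ) ^ 2 := by
    intro χ
    split_ifs with h0
    · rw [h0, zero_mul, mul_zero]
    · have h := CfsgLib.Clifford.apply_one_eq N χ.2 θ.2 (by rw [hres]; exact_mod_cast h0)
      rw [hres, ← CfsgLib.CharTools.irr_degree_cast, ← CfsgLib.CharTools.irr_degree_cast] at h
      have h' : Cfsg.charDegree (χ : G → ℂ) =
          m χ * (CfsgLib.CharTwist.inertia N (θ : N → ℂ)).index * Cfsg.charDegree (θ : N → ℂ) := by
        exact_mod_cast h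
      rw [sq, ht]
      nth_rw 2 [h']
      ring
  set s := Bf.filter (fun χ : Cfsg.IrrCharacter G => ¬ p ∣ Cfsg.charDegree (χ : G → ℂ) ∧ m χ ≠ 0) with hs
  have hcount : Nat.card {χ : Cfsg.IrrCharacter G // χ ∈ B ∧ ¬ p ∣ Cfsg.charDegree (χ : G → ℂ) ∧
      Cfsg.classInner (fun n : N => (χ : G → ℂ) n) (θ : N → ℂ) ≠ 0} = s.card := by
    rw [Nat.card_eq_fintype_card]
    refine Fintype.card_of_subtype s fun χ => ?_
    simp [hs, hBf, hres, and_assoc]
  have hkey : p ∣ ∑ χ ∈ s, Cfsg.charDegree (χ : G → ℂ) ^ 2 := by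
    have h1 : p ∣ ∑ χ ∈ Bf, (if m χ = 0 then 0 else Cfsg.charDegree (χ : G → ℂ) ^ 2) := by
      rw [← Finset.sum_congr rfl fun χ _ => hsq χ, ← Finset.mul_sum]
      exact dvd_mul_of_dvd_right hdvd _
    rw [← Finset.sum_filter_add_sum_filter_not Bf
      (fun χ : Cfsg.IrrCharacter G => ¬ p ∣ Cfsg.charDegree (χ : G → ℂ) ∧ m χ ≠ 0), ← hs] at h1
    have h2 : p ∣ ∑ χ ∈ Bf.filter (fun χ : Cfsg.IrrCharacter G => ¬(¬ p ∣ Cfsg.charDegree (χ : G → ℂ) ∧ m χ ≠ 0)),
        (if m χ = 0 then 0 else Cfsg.charDegree (χ : G → ℂ) ^ 2) := Finset.dvd_sum fun χ hχ => by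
      split_ifs with h0
      · exact dvd_zero p
      · refine dvd_pow (not_not.mp fun hd => ?_) two_ne_zero
        exact (Finset.mem_filter.mp hχ).2 ⟨hd, h0⟩
    rw [Finset.sum_congr rfl (fun χ hχ => if_neg (Finset.mem_filter.mp hχ).2.2)] at h1
    exact (Nat.dvd_add_left h2).mp h1
  rw [hcount]
  refine ⟨?_, fun hp3 => ?_⟩
  · by_contra hcon
    push Not at hcon
    obtain ⟨χ, hχ⟩ := Finset.card_eq_one.mp (show s.card = 1 by omega)
    rw [hχ, Finset.sum_singleton] at hkey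
    have hmem : χ ∈ s := hχ ▸ Finset.mem_singleton_self χ
    exact (Finset.mem_filter.mp hmem).2.1 (hp.dvd_of_dvd_pow hkey)
  · have h1 : ∀ χ ∈ s, (((Cfsg.charDegree (χ : G → ℂ)) ^ 2 : ℕ) : ZMod p) = 1 := by
      intro χ hχ
      have hne : (Cfsg.charDegree (χ : G → ℂ) : ZMod p) ≠ 0 := fun e =>
        (Finset.mem_filter.mp hχ).2.1 ((ZMod.natCast_eq_zero_iff _ _).mp e)
      push_cast
      revert hne
      generalize (Cfsg.charDegree (χ : G → ℂ) : ZMod p) = a
      have := hp.two_le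
      interval_cases p <;> revert a <;> decide
    rw [← ZMod.natCast_eq_zero_iff] at hkey ⊢
    rw [Nat.cast_sum, Finset.sum_congr rfl h1, Finset.sum_const, nsmul_eq_mul, mul_one] at hkey
    exact hkey

end Cfsg.Agent.S4825
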