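import Cfsg.Statements.S4828
import Cfsg.Agent.Lib.Blocks.Pairs.FixedClass
import Cfsg.Agent.Lib.Blocks.Pairs.Local
import Cfsg.Agent.Lib.Blocks.CentralDefect
import Cfsg.Agent.Lib.Blocks.Quotient

set_option autoImplicit false
open Cfsg

namespace Cfsg.Agent.S4828

open CfsgLib.Blocks CfsgLib.Blocks.Pairs

universe u

variable {G : Type u} [Group G] [Finite G] {p : ℕ} [Fact p.Prime] {M : Ideal Cfsg.AlgInt} [M.IsMaximal]

/-- The block of the centralizer has `Q ∩ C` as its defect group iff it has a character of largest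
`p`-part trivial on it. -/
theorem defect_iff (hM : Cfsg.IsPModular p M) {C : Type u} [Group C] [Finite C]
    {e : Set (Cfsg.IrrCharacter C)} (he : Cfsg.IsPBlock M e) (Z : Subgroup C)
    (hZ : Z ≤ Subgroup.center C) (hZp : IsPGroup p Z) :
    Cfsg.IsDefectGroup p M e Z ↔ ∃ θ ∈ e, (∀ z ∈ Z, (θ : C → ℂ) z = (θ : C → ℂ) 1) ∧
      (Cfsg.charDegree (θ : C → ℂ)).factorization p + (Nat.card Z).factorization p =
        (Nat.card C).factorization p := by
  have hp : p.Prime := Fact.out
  obtain ⟨d, hd⟩ := IsPGroup.iff_card.1 hZp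
  have hidx : Z.index.factorization p + (Nat.card Z).factorization p =
      (Nat.card C).factorization p := by
    rw [← Subgroup.card_mul_index Z,
      Nat.factorization_mul Nat.card_pos.ne' Subgroup.index_ne_zero_of_finite, Finsupp.add_apply,
      add_comm]
  haveI : Z.Normal := ⟨fun x hx g => by
    rw [Subgroup.mem_center_iff.1 (hZ hx) g, mul_inv_cancel_right]; exact hx⟩
  constructor
  · intro h
    have hcard := CfsgLib.Blocks.card_defectGroup hM he h
    obtain ⟨χ, hχ⟩ := CfsgLib.Blocks.exists_infl_mem (N := Z) hM hZp he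
    refine ⟨_, hχ, fun z hz => CfsgLib.Blocks.infl_apply_mem Z χ hz, ?_⟩
    have hdeg : Cfsg.charDegree (infl Z χ : C → ℂ) = Cfsg.charDegree (χ : C ⧸ Z → ℂ) := by
      simp [Cfsg.charDegree]
    have hle : (Cfsg.charDegree (infl Z χ : C → ℂ)).factorization p ≤ Z.index.factorization p := by
      rw [hdeg, Subgroup.index_eq_card]
      exact CfsgLib.BlockReg.factorization_deg_le χ
    have hge := CfsgLib.BlockReg.minExp_le (p := p) hχ
    rw [CfsgLib.BlockReg.blockDefect_eq] at hcard
    have h1 : (Nat.card Z).factorization p =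
        (Nat.card C).factorization p - CfsgLib.BlockReg.minExp p e := by
      rw [hcard, hp.factorization_pow, Finsupp.single_eq_same]
    omega
  · rintro ⟨θ, hθ, -, hdeg⟩
    have h := CfsgLib.Blocks.isDefectGroup_central hZ θ hM hZp (by omega)
    rwa [CfsgLib.BlockReg.block_eq_blockOf hM he hθ]

theorem mem_centralizer_sup {A B : Subgroup G} {c : G} (ha : c ∈ Subgroup.centralizer (A : Set G))
    (hb : c ∈ Subgroup.centralizer (B : Set G)) :
    c ∈ Subgroup.centralizer ((A ⊔ B : Subgroup G) : Set G) := by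
  have h : A ⊔ B ≤ Subgroup.centralizer ((Subgroup.zpowers c : Subgroup G) : Set G) :=
    sup_le (Subgroup.le_centralizer_iff.1 (Subgroup.zpowers_le.2 ha))
      (Subgroup.le_centralizer_iff.1 (Subgroup.zpowers_le.2 hb))
  exact Subgroup.zpowers_le.1 (Subgroup.le_centralizer_iff.1 h)

/-- The congruence splitting off the `p`-part. -/
theorem exists_power (hp : p.Prime) (x y : G) (k : ℕ) (hx : orderOf x = p ^ k) :
    ∃ m : ℕ, x ^ m = x ∧ ∃ j : ℕ, orderOf (y ^ m) ∣ p ^ j := by
  obtain ⟨j, b, hpb, hy⟩ := Nat.exists_eq_pow_mul_and_not_dvd (orderOf_pos y).ne' p hp.ne_one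
  have hco : Nat.Coprime (p ^ k) b := Nat.Coprime.pow_left k (hp.coprime_iff_not_dvd.2 hpb)
  obtain ⟨m, hm1, hm0⟩ := Nat.chineseRemainder hco 1 0
  refine ⟨m, ?_, j, ?_⟩
  · rw [← hx] at hm1
    simpa using pow_eq_pow_iff_modEq.2 hm1
  · obtain ⟨t, ht⟩ := (Nat.modEq_zero_iff_dvd).1 hm0
    refine orderOf_dvd_of_pow_eq_one ?_
    rw [← pow_mul, ht, show b * t * p ^ j = p ^ j * b * t by ring, ← hy, pow_mul,
      pow_orderOf_eq_one, one_pow]

/-- A `p`-element stabilizing a block of `C = C_G(Q)` can be corrected inside `C` to centralize a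
class on which the block idempotent does not vanish. -/
theorem exists_corrected (hM : Cfsg.IsPModular p M) {Q : Subgroup G}
    {e : Set (Cfsg.IrrCharacter (Subgroup.centralizer (Q : Set G)))} (he : Cfsg.IsPBlock M e)
    {x : G} (hxN : x ∈ Subgroup.normalizer (Q : Set G))
    (hfix : conjA x (eIn he) = eIn he) {k : ℕ} (hx : orderOf x = p ^ k) :
    ∃ y : G, y * x⁻¹ ∈ Subgroup.centralizer (Q : Set G) ∧ (∃ j : ℕ, orderOf y ∣ p ^ j) ∧
      conjA y (eIn he) = eIn he ∧ y ∈ Subgroup.normalizer (Q : Set G) ∧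
      ∃ g ∈ Subgroup.centralizer (Q : Set G), (eIn he).coeff g ≠ 0 ∧ y * g = g * y := by
  classical
  set C := Subgroup.centralizer (Q : Set G) with hC
  let W : Subgroup G :=
    { carrier := {u | conjA u (eIn he) = eIn he}
      one_mem' := conjA_one _
      mul_mem' := fun {a b} ha hb => by
        simp only [Set.mem_setOf_eq] at ha hb ⊢; rw [← conjA_conjA, hb, ha]
      inv_mem' := fun {a} ha => by
        simp only [Set.mem_setOf_eq] at ha ⊢
        conv_lhs => rw [← ha]
        rw [conjA_inv_conjA] }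
  have hCW : C ≤ W := fun c hc => conjFixed_iff.1 (isBlockIdem_eIn he).mem.fixed c hc
  have hNC : Subgroup.normalizer (Q : Set G) ≤ Subgroup.normalizer (C : Set G) :=
    fun n hn => normalizer_le_normalizer_centralizer Q hn
  have hS : IsPGroup p (Subgroup.zpowers x) :=
    IsPGroup.of_card (n := k) (by rw [Nat.card_zpowers, hx])
  obtain ⟨g, hg, hne, hcls⟩ := exists_fixed_class hM he hS
    ((Subgroup.zpowers_le.2 (hNC hxN)))
    (conjFixed_iff.2 fun s hs => (Subgroup.zpowers_le.2 (show x ∈ W from hfix)) hs)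
  obtain ⟨c, hc, hcg⟩ := hcls x (Subgroup.mem_zpowers x)
  set y := c⁻¹ * x with hy
  obtain ⟨m, hm, hord⟩ := exists_power Fact.out x y k hx
  have hym : ∀ n : ℕ, y ^ n * (x ^ n)⁻¹ ∈ C := by
    intro n
    induction n with
    | zero => simp [C.one_mem]
    | succ n ih =>
      have : y ^ (n + 1) * (x ^ (n + 1))⁻¹ = c⁻¹ * (x * (y ^ n * (x ^ n)⁻¹) * x⁻¹) := by
        rw [pow_succ', pow_succ', hy]; group
      rw [this]
      exact C.mul_mem (C.inv_mem hc) ((Subgroup.mem_normalizer_iff.1 (hNC hxN) _).1 ih)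
  have hcomm : Commute y g := by
    show c⁻¹ * x * g = g * (c⁻¹ * x)
    calc c⁻¹ * x * g = c⁻¹ * (x * g * x⁻¹) * x := by group
      _ = c⁻¹ * (c * g * c⁻¹) * x := by rw [hcg]
      _ = g * (c⁻¹ * x) := by group
  refine ⟨y ^ m, by simpa [hm] using hym m, hord, W.pow_mem (W.mul_mem (W.inv_mem (hCW hc)) hfix) m,
    Subgroup.pow_mem _ (Subgroup.mul_mem _
      (Subgroup.inv_mem _ (Subgroup.centralizer_le_normalizer _ hc)) hxN) m,
    g, hg, hne, (hcomm.pow_left m).eq⟩


/-- Let p be a prime, M a maximal ideal of the algebraic integers containing p, and (Q, e) a Brauer pair of the finite group G (Q a p-subgroup, e a block of C_G(Q)). Then (Q, e) is a maximal Brauer pair of some block of G if and only if e contains an irreducible character θ such that θ takes the value θ(1) at every element of Z(Q) = Q ∩ C_G(Q), the p-part of θ(1) times the p-part of the order of Z(Q) equals the p-part of the order of C_G(Q) (θ has defect zero as a character of C_G(Q)/Z(Q)), and every element of N_G(Q)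 of p-power order that stabilizes e lies in Q·C_G(Q) (the stabilizer of e in N_G(Q) has index prime to p over Q·C_G(Q)). -/
theorem result {G : Type*} [Group G] [Finite G] (p : ℕ) [Fact p.Prime] (M : Ideal Cfsg.AlgInt) (hM : Cfsg.IsPModular p M) (Q : Subgroup G) (e : Set (Cfsg.IrrCharacter (Subgroup.centralizer (Q : Set G)))) (he : Cfsg.IsBrauerPair p M Q e) :
    (∃ B : Set (Cfsg.IrrCharacter G), Cfsg.IsMaximalBrauerPair p M B Q e) ↔
      ∃ θ ∈ e, (∀ z : Subgroup.centralizer (Q : Set G), (z : G) ∈ Q → (θ : Subgroup.centralizer (Q : Set G) → ℂ) z = (θ : Subgroup.centralizer (Q : Set G) → ℂ) 1) ∧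
        (Cfsg.charDegree (θ : Subgroup.centralizer (Q : Set G) → ℂ)).factorization p + (Nat.card ↥(Q ⊓ Subgroup.centralizer (Q : Set G))).factorization p = (Nat.card (Subgroup.centralizer (Q : Set G))).factorization p ∧
        (∀ g : G, g ∈ Subgroup.normalizer (Q : Set G) → Cfsg.StabilizesBlock (Subgroup.centralizer (Q : Set G)) e g → (∃ k : ℕ, orderOf g = p ^ k) → g ∈ Q ⊔ Subgroup.centralizer (Q : Set G)) := by
  classical
  haveI := isMaximal_of_isPModular hM
  haveI : CharP (ResField M) p := charP_resField hM.1 (natCast_mem_of_isPModular hM)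
  obtain ⟨hQ, heB⟩ := he
  have hp : p.Prime := Fact.out
  have hCN : (Subgroup.centralizer (Q : Set G)) ≤ Subgroup.normalizer (Q : Set G) := Subgroup.centralizer_le_normalizer _
  have hNC : ∀ {n : G}, n ∈ Subgroup.normalizer (Q : Set G) → n ∈ Subgroup.normalizer ((Subgroup.centralizer (Q : Set G)) : Set G) :=
    fun hn => normalizer_le_normalizer_centralizer Q hn
  set a := eIn heB with ha
  have hblk : IsBlockIdem (Subgroup.centralizer (Q : Set G)) a := isBlockIdem_eIn heB
  have hQfix : ConjFixed Q a := suppIn_centralizer_conjFixed hblk.mem.supp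
  let W : Subgroup G :=
    { carrier := {u | conjA u a = a}
      one_mem' := conjA_one _
      mul_mem' := fun {s t} hs ht => by
        simp only [Set.mem_setOf_eq] at hs ht ⊢; rw [← conjA_conjA, ht, hs]
      inv_mem' := fun {s} hs => by
        simp only [Set.mem_setOf_eq] at hs ⊢
        conv_lhs => rw [← hs]
        rw [conjA_inv_conjA] }
  have hQW : Q ≤ W := fun u hu => conjFixed_iff.1 hQfix u hu
  -- step one: maximality as absence of extensions
  have step1 : (∃ B : Set (Cfsg.IrrCharacter G), Cfsg.IsMaximalBrauerPair p M B Q e) ↔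
      NoExt p Q a := by
    constructor
    · rintro ⟨B, hB⟩
      obtain ⟨_, he', -, hno⟩ := noExt_of_isMaximalBrauerPair hM hB
      exact hno
    · intro hno
      obtain ⟨b, hb, -⟩ := existsUnique_pairOf (isPair_eIn hQ heB)
      obtain ⟨B, hB, rfl⟩ := exists_ebar_eq hb.blockB
      refine ⟨B, (isBrauerPairOf_iff hM hB heB).2 hb, fun R g hg hle => ?_⟩
      obtain ⟨hg', hsle⟩ := sle_of_subpairLE hM heB hle
      exact (noExt_iff_maximal hb).1 hno R _ ((isBrauerPairOf_iff hM hB hg').1 hg) hsle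
  -- step two: extensions through truncations
  have step2 : NoExt p Q a ↔ ∀ R : Subgroup G, Q ≤ R → R ≤ Subgroup.normalizer (Q : Set G) →
      IsPGroup p R → R ≤ W → trunc R a ≠ 0 → R = Q := by
    constructor
    · intro hno R hQR hRN hR hRW hne
      have hfix : ConjFixed R a := conjFixed_iff.2 hRW
      obtain ⟨g, hg, hbr⟩ := exists_blockIdem_mul
        (trunc_inCenter (P := R) (hblk.mem.fixed.mono (centralizer_anti hQR)))
        (by rw [← trunc_mul hR hfix hfix, hblk.idem]) hne
      exact hno R g ⟨⟨hQ, hblk⟩, ⟨hR, hg⟩, hQR, hRN, hfix, hbr⟩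
    · intro h R g hns
      refine h R hns.le hns.norm hns.pairP.pgroup (conjFixed_iff.1 hns.fix) fun h0 => ?_
      apply hns.pairP.block.ne_zero
      rw [← hns.br, h0, zero_mul]
  rw [step1, step2]
  have hZc : (Q ⊓ (Subgroup.centralizer (Q : Set G))).subgroupOf (Subgroup.centralizer (Q : Set G)) ≤ Subgroup.center (Subgroup.centralizer (Q : Set G)) := by
    intro z hz
    rw [Subgroup.mem_center_iff]
    exact fun c => Subtype.ext (Subgroup.mem_centralizer_iff.1 c.2 (z : G)
      (Subgroup.mem_inf.1 (Subgroup.mem_subgroupOf.1 hz)).1).symm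
  have hZp : IsPGroup p ((Q ⊓ (Subgroup.centralizer (Q : Set G))).subgroupOf (Subgroup.centralizer (Q : Set G))) :=
    (hQ.to_le inf_le_left).of_equiv (Subgroup.subgroupOfEquivOfLe inf_le_right).symm
  haveI : ((Q ⊓ (Subgroup.centralizer (Q : Set G))).subgroupOf (Subgroup.centralizer (Q : Set G))).Normal := ⟨fun z hz g => by
    rw [Subgroup.mem_center_iff.1 (hZc hz) g, mul_inv_cancel_right]; exact hz⟩
  have hcard : Nat.card ((Q ⊓ (Subgroup.centralizer (Q : Set G))).subgroupOf (Subgroup.centralizer (Q : Set G))) = Nat.card ↥(Q ⊓ (Subgroup.centralizer (Q : Set G))) :=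
    Nat.card_congr (Subgroup.subgroupOfEquivOfLe inf_le_right).toEquiv
  have hdef := defect_iff hM heB ((Q ⊓ (Subgroup.centralizer (Q : Set G))).subgroupOf (Subgroup.centralizer (Q : Set G))) hZc hZp
  rw [hcard] at hdef
  constructor
  · intro hall
    have hD : Cfsg.IsDefectGroup p M e ((Q ⊓ (Subgroup.centralizer (Q : Set G))).subgroupOf (Subgroup.centralizer (Q : Set G))) := by
      obtain ⟨E, hE⟩ := CfsgLib.Blocks.exists_defectGroup hM heB
      have hmax := (isDefectGroup_iff_maxIn hM heB E).1 hE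
      set D := E.map (Subgroup.centralizer (Q : Set G)).subtype with hDdef
      have hDN : D ≤ Subgroup.normalizer (Q : Set G) := hmax.le.trans hCN
      have hRe : Q ⊔ D = Q := by
        refine hall (Q ⊔ D) le_sup_left (sup_le Subgroup.le_normalizer hDN) ?_ (sup_le hQW
          (fun u hu => conjFixed_iff.1 hblk.mem.fixed u (hmax.le hu))) ?_
        · exact IsPGroup.to_sup_of_normal_left' hQ hmax.pgroup hDN
        · intro h0
          obtain ⟨c, hc, hne⟩ := trunc_ne_zero_iff.1 hmax.ne_zero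
          have hcC : c ∈ (Subgroup.centralizer (Q : Set G)) := by
            by_contra hn; exact hne (hblk.mem.supp c hn)
          refine hne ?_
          have h1 := congrArg (fun v => v.coeff c) h0
          simp only [coeff_trunc, if_pos (mem_centralizer_sup hcC hc)] at h1
          exact h1
      have hle : E ≤ (Q ⊓ (Subgroup.centralizer (Q : Set G))).subgroupOf (Subgroup.centralizer (Q : Set G)) := fun z hz => by
        have : (z : G) ∈ D := ⟨z, hz, rfl⟩
        exact ⟨hRe.le ((le_sup_right : D ≤ Q ⊔ D) this), z.2⟩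
      rwa [le_antisymm hle (CfsgLib.Blocks.le_defectGroup_of_normal hM heB hE hZp)] at hE
    obtain ⟨θ, hθ, htriv, hdeg⟩ := hdef.1 hD
    refine ⟨θ, hθ, fun z hz => htriv z ⟨hz, z.2⟩, hdeg, fun x hxN hst ⟨k, hk⟩ => ?_⟩
    obtain ⟨y, hyx, hyord, hyfix, hyN, g, hgC, hgne, hyg⟩ :=
      exists_corrected hM heB hxN ((stabilizesBlock_iff heB (hNC hxN)).1 hst) hk
    have hyp : IsPGroup p (Subgroup.zpowers y) := by
      obtain ⟨j, hj⟩ := hyord
      obtain ⟨i, -, hi⟩ := (Nat.dvd_prime_pow hp).1 hj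
      exact IsPGroup.of_card (n := i) (by rw [Nat.card_zpowers, hi])
    have hR := hall (Q ⊔ Subgroup.zpowers y) le_sup_left
      (sup_le Subgroup.le_normalizer (Subgroup.zpowers_le.2 hyN))
      (IsPGroup.to_sup_of_normal_left' hQ hyp (Subgroup.zpowers_le.2 hyN))
      (sup_le hQW (Subgroup.zpowers_le.2 (show y ∈ W from hyfix))) (by
        refine trunc_ne_zero_iff.2 ⟨g, mem_centralizer_sup hgC ?_, hgne⟩
        rw [← Subgroup.zpowers_le, Subgroup.le_centralizer_iff, Subgroup.zpowers_le,
          Subgroup.mem_centralizer_iff]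
        intro u hu
        obtain ⟨i, rfl⟩ := Subgroup.mem_zpowers_iff.1 hu
        exact ((show Commute g y from hyg.symm).zpow_left i).eq)
    have hyQ : y ∈ Q := hR ▸ Subgroup.mem_sup_right (Subgroup.mem_zpowers y)
    have : x = (y * x⁻¹)⁻¹ * y := by group
    rw [this]
    exact Subgroup.mul_mem _ (Subgroup.inv_mem _ (Subgroup.mem_sup_right hyx))
      (Subgroup.mem_sup_left hyQ)
  · rintro ⟨θ, hθ, htriv, hdeg, hstab⟩ R hQR hRN hR hRW hne
    have hmax := (isDefectGroup_iff_maxIn hM heB _).1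
      (hdef.2 ⟨θ, hθ, fun z hz => htriv z (Subgroup.mem_inf.1 hz).1, hdeg⟩)
    rw [Subgroup.map_subgroupOf_eq_of_le inf_le_right] at hmax
    refine le_antisymm (fun r hr => ?_) hQR
    obtain ⟨k, hk⟩ := IsPGroup.iff_orderOf.1 hR ⟨r, hr⟩
    rw [Subgroup.orderOf_mk] at hk
    have hrQC := hstab r (hRN hr) ((stabilizesBlock_iff heB (hNC (hRN hr))).2 (hRW hr)) ⟨k, hk⟩
    rw [← SetLike.mem_coe, Subgroup.coe_mul_of_right_le_normalizer_left Q (Subgroup.centralizer (Q : Set G)) hCN] at hrQC
    obtain ⟨q, hq, c, hc, rfl⟩ := hrQC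
    have hcR : c ∈ R ⊓ (Subgroup.centralizer (Q : Set G)) := ⟨by
      have := R.mul_mem (R.inv_mem (hQR hq)) hr
      simpa [mul_assoc] using this, hc⟩
    obtain ⟨z, hz, hle⟩ := hmax.max (R ⊓ (Subgroup.centralizer (Q : Set G))) inf_le_right (hR.to_le inf_le_left) fun h0 => hne (by
      rw [← trunc_trunc (inf_le_left : R ⊓ (Subgroup.centralizer (Q : Set G)) ≤ R), h0, trunc_zero])
    have h1 : z * c * z⁻¹ ∈ Q ⊓ (Subgroup.centralizer (Q : Set G)) := hle (mem_conjSub.2 (by simpa [mul_assoc] using hcR))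
    have h2 : c = z * c * z⁻¹ := by
      have h3 : z⁻¹ * (z * c * z⁻¹) = (z * c * z⁻¹) * z⁻¹ :=
        (Subgroup.mem_centralizer_iff.1 ((Subgroup.centralizer (Q : Set G)).inv_mem hz) _ (Subgroup.mem_inf.1 h1).1).symm
      calc c = z⁻¹ * (z * c * z⁻¹) * z := by group
        _ = (z * c * z⁻¹) * z⁻¹ * z := by rw [h3]
        _ = _ := by group
    exact Q.mul_mem hq (h2 ▸ (Subgroup.mem_inf.1 h1).1)

end Cfsg.Agent.S4828
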