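import Cfsg.Statements.S4838
import Cfsg.Agent.Lib.Gagola.Basic
-- import your own Cfsg.Agent.* helpers here

set_option autoImplicit false
open Cfsg

namespace Cfsg.Agent.S4838

/-- Let G be a finite group of order greater than 2 with an irreducible character χ nonzero on exactly two conjugacy classes, N the normal p-subgroup of elements where χ is nonzero, and P a Sylow p-subgroup of G. Then (a) for every x outside N the centralizer of x in G has the same order as the centralizer of xN in G/N; (b) the centre of P lies in N, and equals N exactly when P is normal in G; (c) N, viewed inside P, is a term of the upper central series of P. -/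
theorem result {G : Type*} [Group G] [Finite G] (hG : 2 < Nat.card G) (χ : Cfsg.IrrCharacter G) (hχ : Nat.card {C : ConjClasses G // ∃ g ∈ C.carrier, (χ : G → ℂ) g ≠ 0} = 2) (p : ℕ) [Fact p.Prime] (N : Subgroup G) [N.Normal] (hN : ∀ g : G, g ∈ N ↔ (χ : G → ℂ) g ≠ 0) (hNp : IsPGroup p N) (hN1 : N ≠ ⊥) (P : Sylow p G) :
    (∀ x : G, x ∉ N → Nat.card (Subgroup.centralizer ({x} : Set G)) = Nat.card (Subgroup.centralizer ({(x : G ⧸ N)} : Set (G ⧸ N)))) ∧
      ((Subgroup.center ↥(P : Subgroup G)).map (P : Subgroup G).subtype ≤ N ∧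
        ((Subgroup.center ↥(P : Subgroup G)).map (P : Subgroup G).subtype = N ↔ (P : Subgroup G).Normal)) ∧
      (∃ i : ℕ, Subgroup.upperCentralSeries ↥(P : Subgroup G) i = N.subgroupOf (P : Subgroup G)) := by
  obtain ⟨c, N', h⟩ := CfsgLib.Gagola.exists_twoClass hG χ hχ
  have hNN := h.eq_subgroup hN
  subst hNN
  have hp : p.Prime := Fact.out
  have hNP : N ≤ (P : Subgroup G) := by
    obtain ⟨T, hT⟩ := hNp.exists_le_sylow
    obtain ⟨g, rfl⟩ := MulAction.exists_smul_eq G P T
    intro x hx
    have h1 := hT ((inferInstance : N.Normal).conj_mem x hx g)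
    rw [Sylow.coe_subgroup_smul, Subgroup.mem_pointwise_smul_iff_inv_smul_mem] at h1
    simpa [MulAut.smul_def, MulAut.inv_def, mul_assoc] using h1
  have hNpos : 1 < Nat.card N := N.one_lt_card_iff_ne_bot.mpr hN1
  -- the centraliser of an element outside `N` inside `P` is small
  have key : ∀ x ∈ (P : Subgroup G), x ∉ N →
      Nat.card ↥((P : Subgroup G) ⊓ Subgroup.centralizer ({x} : Set G)) * Nat.card N ≤ Nat.card (P : Subgroup G) := by
    intro x _ hxN
    have hPp : IsPGroup p ↥((P : Subgroup G) ⊓ Subgroup.centralizer ({x} : Set G)) := P.isPGroup'.to_le inf_le_left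
    obtain ⟨k, hk⟩ := IsPGroup.iff_card.mp hPp
    have h1 : p ^ k ∣ Nat.card (Subgroup.centralizer ({(x : G ⧸ N)} : Set (G ⧸ N))) := by
      rw [← h.card_centralizer_of_notMem hxN, ← hk]
      exact Subgroup.card_dvd_of_le inf_le_right
    obtain ⟨n, hn⟩ := IsPGroup.iff_card.mp hNp
    have h2 : p ^ k * Nat.card N ∣ Nat.card G := by
      rw [N.card_eq_card_quotient_mul_card_subgroup]
      exact mul_dvd_mul_right (h1.trans (Subgroup.card_subgroup_dvd_card _)) _
    rw [hk, hn, ← pow_add]
    refine Nat.le_of_dvd Nat.card_pos ?_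
    rw [P.card_eq_multiplicity]
    exact pow_dvd_pow p ((hp.pow_dvd_iff_le_factorization Nat.card_pos.ne').mp (by rw [pow_add, ← hn]; exact h2))
  set Z : ℕ → Subgroup G := fun i => (Subgroup.upperCentralSeries ↥(P : Subgroup G) i).map (P : Subgroup G).subtype with hZ
  -- a term of the series inside `N` and different from it is followed by a term inside `N`
  have hstep : ∀ i, Z i ≤ N → Nat.card (Z i) < Nat.card N → Z (i + 1) ≤ N := by
    intro i _ hlt x hx
    by_contra hxN
    obtain ⟨z, hz, rfl⟩ := hx
    have h1 := key (z : G) z.2 hxN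
    have h2 : (Subgroup.centralizer ({z} : Set ↥(P : Subgroup G))).index ≤
        Nat.card (Subgroup.upperCentralSeries ↥(P : Subgroup G) i) := by
      rw [CfsgLib.Char.index_centralizer_eq_card_isConj]
      have hmap : ∀ y : {y // IsConj z y}, (y.1 * z⁻¹) ∈ Subgroup.upperCentralSeries ↥(P : Subgroup G) i := by
        rintro ⟨y, hy⟩
        obtain ⟨b, rfl⟩ := isConj_iff.mp hy
        have h3 := (Subgroup.mem_upperCentralSeries_succ_iff (G := ↥(P : Subgroup G)) (n := i) (x := z)).mp hz b
        have h4 := inv_mem h3
        simp only [commutatorElement_def, mul_inv_rev, inv_inv] at h4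
        simpa [mul_assoc] using h4
      refine Nat.card_le_card_of_injective (fun y => ⟨_, hmap y⟩) ?_
      intro a b hab
      exact Subtype.ext (mul_right_cancel (congrArg Subtype.val hab))
    have h4 : Nat.card ↥((P : Subgroup G) ⊓ Subgroup.centralizer ({(z : G)} : Set G)) =
        Nat.card (Subgroup.centralizer ({z} : Set ↥(P : Subgroup G))) :=
      Nat.card_congr
        { toFun := fun w => ⟨⟨w.1, w.2.1⟩, Subgroup.mem_centralizer_singleton_iff.mpr
            (Subtype.ext (Subgroup.mem_centralizer_singleton_iff.mp w.2.2))⟩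
          invFun := fun w => ⟨w.1.1, w.1.2, Subgroup.mem_centralizer_singleton_iff.mpr
            (congrArg Subtype.val (Subgroup.mem_centralizer_singleton_iff.mp w.2))⟩
          left_inv := fun w => rfl
          right_inv := fun w => rfl }
    have h5 := (Subgroup.centralizer ({z} : Set ↥(P : Subgroup G))).card_mul_index
    have h6 : Nat.card (Z i) = Nat.card (Subgroup.upperCentralSeries ↥(P : Subgroup G) i) :=
      Subgroup.card_map_of_injective (P : Subgroup G).subtype_injective
    rw [h4, ← h5] at h1
    have h7 := Nat.le_of_mul_le_mul_left h1 Nat.card_pos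
    omega
  have hZ0 : Z 0 = ⊥ := by simp [hZ]
  have hcenter : (Subgroup.center ↥(P : Subgroup G)).map (P : Subgroup G).subtype ≤ N := by
    have := hstep 0 (by rw [hZ0]; exact bot_le) (by rw [hZ0, Subgroup.card_bot]; exact hNpos)
    simpa [hZ, Subgroup.upperCentralSeries_one] using this
  refine ⟨fun x hx => h.card_centralizer_of_notMem hx, ⟨hcenter, ?_, ?_⟩, ?_⟩
  · intro heq
    have hPC : (P : Subgroup G) ≤ Subgroup.centralizer (N : Set G) := by
      intro x hx
      rw [Subgroup.mem_centralizer_iff]
      intro n hn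
      have hn' : n ∈ (Subgroup.center ↥(P : Subgroup G)).map (P : Subgroup G).subtype := heq.ge hn
      obtain ⟨z, hz, rfl⟩ := hn'
      exact (congrArg Subtype.val (Subgroup.mem_center_iff.mp hz ⟨x, hx⟩)).symm
    have hle : Subgroup.centralizer (N : Set G) ≤ Subgroup.centralizer ({c} : Set G) :=
      Subgroup.centralizer_le (by simpa using h.mem)
    have hp' : IsPGroup p ↥(Subgroup.centralizer (N : Set G)) :=
      (h.isPGroup_centralizer hNp h.mem h.ne_one).to_le hle
    have heq' := P.is_maximal' hp' hPC
    rw [← heq']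
    exact Subgroup.normal_centralizer
  · intro hnorm
    refine le_antisymm hcenter (h.le_of_normal _ inferInstance ?_)
    rw [Ne, Subgroup.map_eq_bot_iff_of_injective _ (P : Subgroup G).subtype_injective]
    have : Nontrivial ↥(P : Subgroup G) := (Subgroup.nontrivial_iff_ne_bot _).mpr fun e =>
      hN1 (eq_bot_iff.mpr (e ▸ hNP))
    exact (Subgroup.nontrivial_iff_ne_bot _).mp (IsPGroup.center_nontrivial P.isPGroup')
  · have : Group.IsNilpotent ↥(P : Subgroup G) := P.isPGroup'.isNilpotent
    obtain ⟨m, hm⟩ := Group.IsNilpotent.nilpotent (G := ↥(P : Subgroup G))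
    by_contra hcon
    push Not at hcon
    have hall : ∀ i, Z i ≤ N := by
      intro i
      induction i with
      | zero => rw [hZ0]; exact bot_le
      | succ i ih =>
          refine hstep i ih ((Subgroup.card_le_of_le ih).lt_of_ne fun e => hcon i ?_)
          have h1 := Subgroup.eq_of_le_of_card_ge ih e.ge
          refine Subgroup.map_injective (P : Subgroup G).subtype_injective ?_
          rw [Subgroup.map_subgroupOf_eq_of_le hNP]
          exact h1
    have hPN : (P : Subgroup G) = N := le_antisymm (by
      have := hall m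
      simpa [hZ, hm, ← MonoidHom.range_eq_map, Subgroup.range_subtype] using this) hNP
    refine hcon m ?_
    rw [hm, hPN]
    exact (Subgroup.subgroupOf_self N).symm

end Cfsg.Agent.S4838
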