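import Cfsg.Statements.S4839
import Cfsg.Agent.Lib.Gagola.Basic
import Cfsg.Agent.Lib.Invol.BaerSuzuki
import Cfsg.Agent.Lib.Solvable.Core
import Mathlib.GroupTheory.SchurZassenhaus
open scoped Pointwise

set_option autoImplicit false
open Cfsg

namespace Cfsg.Agent.S4839

open CfsgLib.Gagola

variable {G : Type*} [Group G] [Finite G] {χ : Cfsg.IrrCharacter G} {c : G} {N : Subgroup G}
  {p : ℕ} [Fact p.Prime]

theorem centralizer_le (h : TwoClass χ c N) (hp : IsPGroup p N) (hO : N = Cfsg.pCore p G) {g : G}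
    (hg : ∀ n ∈ N, g * n = n * g) : g ∈ N := by
  haveI := h.normal
  have hm : g ∈ Subgroup.centralizer (N : Set G) :=
    Subgroup.mem_centralizer_iff.2 fun n hn => (hg n hn).symm
  have hle : Subgroup.centralizer (N : Set G) ≤ Subgroup.centralizer ({c} : Set G) :=
    Subgroup.centralizer_le (Set.singleton_subset_iff.2 h.mem)
  rw [hO]
  exact CfsgLib.Solvable.le_pCore (p := p) inferInstance
    ((h.isPGroup_centralizer hp h.mem h.ne_one).to_le hle) hm

theorem not_dvd_two (h : TwoClass χ c N) [N.Normal] (hp : IsPGroup p N) (hO : N = Cfsg.pCore p G)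
    (h2 : p = 2) : ¬ p ∣ Nat.card (G ⧸ N) := by
  subst h2
  intro hd
  obtain ⟨xb, hxb⟩ := exists_prime_orderOf_dvd_card' (G := G ⧸ N) 2 hd
  obtain ⟨x, rfl⟩ := QuotientGroup.mk_surjective xb
  have hxN : x ∉ N := fun e => by
    rw [(QuotientGroup.eq_one_iff x).2 e, orderOf_one] at hxb
    norm_num at hxb
  have hx2 : x * x ∈ N := by
    rw [← QuotientGroup.eq_one_iff, QuotientGroup.mk_mul, ← pow_two, ← hxb, pow_orderOf_eq_one]
  -- a conjugate with product not a 2-element
  obtain ⟨g, hg⟩ : ∃ g : G, ¬ ∃ k, orderOf ((x : G ⧸ N) * ((g : G ⧸ N) * x * (g : G ⧸ N)⁻¹)) = 2 ^ k := by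
    by_contra hcon
    push Not at hcon
    obtain ⟨K, hKn, hKp, hxK⟩ := CfsgLib.Invol.exists_normal_pGroup_of_pairs (p := 2) (x : G ⧸ N)
      (fun g => by
        obtain ⟨g, rfl⟩ := QuotientGroup.mk_surjective g
        obtain ⟨k, hk⟩ := hcon g
        have hy2 : orderOf ((g : G ⧸ N) * x * (g : G ⧸ N)⁻¹) = 2 :=
          (orderOf_injective (MulAut.conj (g : G ⧸ N)).toMonoidHom
            (MulEquiv.injective _) (x : G ⧸ N)).trans hxb
        exact CfsgLib.Invol.isPGroup_two_closure_pair hxb hy2 hk)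
    have := CfsgLib.Solvable.le_pCore hKn hKp hxK
    rw [CfsgLib.Solvable.pCore_quotient_eq_bot N hO, Subgroup.mem_bot] at this
    exact hxN ((QuotientGroup.eq_one_iff x).1 this)
  set y := g * x * g⁻¹ with hy
  set C := N ⊓ Subgroup.centralizer ({x} : Set G) with hC
  set C' := N ⊓ Subgroup.centralizer ({y} : Set G) with hC'
  have hdis : ∀ v, v ∈ C → v ∈ C' → v = 1 := by
    intro v hv hv'
    by_contra hv1
    have hxy : x * y ∈ Subgroup.centralizer ({v} : Set G) := Subgroup.mul_mem _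
      (Subgroup.mem_centralizer_singleton_iff.2 (Subgroup.mem_centralizer_singleton_iff.1 hv.2).symm)
      (Subgroup.mem_centralizer_singleton_iff.2 (Subgroup.mem_centralizer_singleton_iff.1 hv'.2).symm)
    obtain ⟨k, hk⟩ := IsPGroup.iff_orderOf.1 (h.isPGroup_centralizer hp hv.1 hv1) ⟨_, hxy⟩
    rw [Subgroup.orderOf_mk] at hk
    refine hg ?_
    have hd : orderOf (((x * y : G) : G ⧸ N)) ∣ 2 ^ k := hk ▸ orderOf_map_dvd (QuotientGroup.mk' N) (x * y)
    obtain ⟨i, -, hi⟩ := (Nat.dvd_prime_pow Nat.prime_two).1 hd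
    exact ⟨i, by simpa [hy] using hi⟩
  have hCC : Nat.card C = Nat.card C' := by
    refine Nat.card_congr (Equiv.subtypeEquiv (MulAut.conj g).toEquiv fun v => ?_)
    simp only [hC, hC', Subgroup.mem_inf, Subgroup.mem_centralizer_singleton_iff,
      MulEquiv.toEquiv_eq_coe, EquivLike.coe_coe, MulAut.conj_apply, hy]
    refine and_congr ⟨fun e => ‹N.Normal›.conj_mem v e g, fun e => ?_⟩ ?_
    · have := ‹N.Normal›.conj_mem _ e g⁻¹
      simpa [mul_assoc] using this
    · simp [mul_assoc]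
      rw [← mul_assoc, ← mul_assoc, mul_left_inj]
  have hsq : Nat.card C * Nat.card C ≤ Nat.card N := by
    conv_lhs => arg 2; rw [hCC]
    rw [← Nat.card_prod]
    refine Nat.card_le_card_of_injective
      (fun v => (⟨(v.1 : G) * v.2, N.mul_mem v.1.2.1 v.2.2.1⟩ : N)) ?_
    rintro ⟨a, b⟩ ⟨a', b'⟩ e
    have e' : (a : G) * b = a' * b' := congrArg Subtype.val e
    have e2 : ((a'⁻¹ * a : C) : G) = ((b' * b⁻¹ : C') : G) := by
      simp only [Subgroup.coe_mul, Subgroup.coe_inv]
      calc (a' : G)⁻¹ * a = (a' : G)⁻¹ * ((a : G) * b) * (b : G)⁻¹ := by group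
        _ = _ := by rw [e']; group
    have h1 := hdis _ (a'⁻¹ * a).2 (e2 ▸ (b' * b⁻¹).2)
    have h2 : ((b' * b⁻¹ : C') : G) = 1 := e2 ▸ h1
    exact Prod.ext (inv_mul_eq_one.1 (Subtype.ext h1 : a'⁻¹ * a = 1)).symm
      (mul_inv_eq_one.1 (Subtype.ext h2 : b' * b⁻¹ = 1)).symm
  have hinv : ∀ {n : G}, n ∈ N → n⁻¹ = n := fun hn => by
    rw [inv_eq_iff_mul_eq_one, ← pow_two]; exact h.pow_eq_one hp hn
  let d : N →* N :=
    { toFun := fun n => ⟨x * n * x⁻¹ * n, N.mul_mem (‹N.Normal›.conj_mem _ n.2 x) n.2⟩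
      map_one' := Subtype.ext (by simp)
      map_mul' := fun a b => Subtype.ext (by
        simp only [Subgroup.coe_mul]
        calc x * ((a : G) * b) * x⁻¹ * (a * b) = (x * a * x⁻¹) * ((x * b * x⁻¹) * a) * b := by group
          _ = (x * a * x⁻¹) * (a * (x * b * x⁻¹)) * b := by
            rw [h.comm hp (‹N.Normal›.conj_mem _ b.2 x) a.2]
          _ = _ := by group) }
  have hd_ker : ∀ n : N, d n = 1 ↔ (n : G) ∈ C := by
    intro n
    rw [hC, Subgroup.mem_inf, Subgroup.mem_centralizer_singleton_iff, ← Subtype.coe_inj]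
    show x * n * x⁻¹ * n = 1 ↔ _
    rw [mul_eq_one_iff_eq_inv, hinv n.2, mul_inv_eq_iff_eq_mul]
    exact ⟨fun e => ⟨n.2, e.symm⟩, fun e => e.2.symm⟩
  have hd_range : d.range ≤ C.subgroupOf N := by
    rintro _ ⟨n, rfl⟩
    rw [Subgroup.mem_subgroupOf, hC, Subgroup.mem_inf, Subgroup.mem_centralizer_singleton_iff]
    refine ⟨(d n).2, ?_⟩
    show x * n * x⁻¹ * n * x = x * (x * n * x⁻¹ * n)
    have h1 := h.comm hp hx2 n.2
    calc x * n * x⁻¹ * n * x = x * ((n : G) * (x⁻¹ * n * x)) := by group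
      _ = x * ((x⁻¹ * n * x) * n) := by
        rw [h.comm hp n.2 (by simpa using ‹N.Normal›.conj_mem _ n.2 x⁻¹)]
      _ = x * (x⁻¹ * ((n : G) * (x * x)) * (x⁻¹ * n)) := by group
      _ = x * (x⁻¹ * ((x * x) * n) * (x⁻¹ * n)) := by rw [h1]
      _ = _ := by group
  have hCN : Nat.card (C.subgroupOf N) = Nat.card C :=
    Nat.card_congr (Subgroup.subgroupOfEquivOfLe inf_le_left).toEquiv
  have hrange : d.range = C.subgroupOf N := by
    refine Subgroup.eq_of_le_of_card_ge hd_range ?_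
    have hk : d.ker = C.subgroupOf N := Subgroup.ext fun n => by
      rw [MonoidHom.mem_ker, hd_ker, Subgroup.mem_subgroupOf]
    have h1 := Subgroup.card_mul_index d.ker
    rw [Subgroup.index_ker, hk, hCN] at h1
    rw [hCN]
    rw [← h1] at hsq
    exact Nat.le_of_mul_le_mul_left hsq Nat.card_pos
  obtain ⟨m, hm⟩ : (⟨x * x, hx2⟩ : N) ∈ d.range := by
    rw [hrange, Subgroup.mem_subgroupOf, hC, Subgroup.mem_inf,
      Subgroup.mem_centralizer_singleton_iff]
    exact ⟨hx2, by rw [mul_assoc]⟩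
  have hm' : x * m * x⁻¹ * m = x * x := congrArg Subtype.val hm
  obtain ⟨z, hz⟩ : ∃ z, z = x * (m : G) := ⟨_, rfl⟩
  have hzN : z ∉ N := fun e => hxN (by simpa [hz] using N.mul_mem e (N.inv_mem m.2))
  have hzz : z * z = 1 := by
    calc z * z = (x * m * x⁻¹) * ((x * x) * m) := by rw [hz]; group
      _ = (x * m * x⁻¹) * ((m : G) * (x * x)) := by rw [h.comm hp hx2 m.2]
      _ = (x * m * x⁻¹ * m) * (x * x) := by group
      _ = (x * x) * (x * x) := by rw [hm']
      _ = 1 := by rw [← pow_two]; exact h.pow_eq_one hp hx2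
  have hCz : ∀ n ∈ N, (n * z = z * n ↔ n ∈ C) := by
    intro n hn
    rw [hC, Subgroup.mem_inf, Subgroup.mem_centralizer_singleton_iff, hz]
    constructor
    · intro e
      refine ⟨hn, ?_⟩
      calc n * x = n * (x * m) * (m : G)⁻¹ := by group
        _ = x * ((m : G) * n) * (m : G)⁻¹ := by rw [e]; group
        _ = x * n := by rw [h.comm hp m.2 hn]; group
    · rintro ⟨-, e⟩
      calc n * (x * m) = x * ((n : G) * m) := by rw [← mul_assoc, e, mul_assoc]
        _ = _ := by rw [h.comm hp hn m.2]; group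
  set zc := Subgroup.centralizer ({z} : Set G)
  let L : Subgroup G := (Subgroup.centralizer ({(z : G ⧸ N)} : Set (G ⧸ N))).comap (QuotientGroup.mk' N)
  let f : L → C := fun a => ⟨(a : G) * z * (a : G)⁻¹ * z, by
    have hmem : (a : G) * z * (a : G)⁻¹ * z ∈ N := by
      rw [← QuotientGroup.eq_one_iff]
      have ha : ((a : G) : G ⧸ N) * z = z * (a : G) := Subgroup.mem_centralizer_singleton_iff.1 a.2
      simp only [QuotientGroup.mk_mul, QuotientGroup.mk_inv, ha, mul_inv_cancel_right]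
      rw [← QuotientGroup.mk_mul, hzz, QuotientGroup.mk_one]
    refine (hCz _ hmem).1 ?_
    have hi : z⁻¹ = z := inv_eq_of_mul_eq_one_right hzz
    calc (a : G) * z * (a : G)⁻¹ * z * z = ((a : G) * z * (a : G)⁻¹) * (z * z) := by group
      _ = (a : G) * z * (a : G)⁻¹ := by rw [hzz, mul_one]
      _ = z * (z⁻¹ * ((a : G) * z⁻¹ * (a : G)⁻¹)) := by rw [hi, ← mul_assoc z z, hzz, one_mul]
      _ = z * ((a : G) * z * (a : G)⁻¹ * z)⁻¹ := by group
      _ = z * ((a : G) * z * (a : G)⁻¹ * z) := by rw [hinv hmem]⟩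
  have hkey : ∀ a b : L, f a = f b → (b : G)⁻¹ * a ∈ zc := by
    intro a b e
    have e' : (a : G) * z * (a : G)⁻¹ * z = (b : G) * z * (b : G)⁻¹ * z := congrArg Subtype.val e
    have e2 := mul_right_cancel e'
    rw [Subgroup.mem_centralizer_singleton_iff]
    calc (b : G)⁻¹ * a * z = (b : G)⁻¹ * ((a : G) * z * (a : G)⁻¹) * a := by group
      _ = _ := by rw [e2]; group
  haveI : Nonempty L := ⟨1⟩
  have hcount : Nat.card L ≤ Nat.card C * Nat.card zc := by
    rw [← Nat.card_prod]
    refine Nat.card_le_card_of_injective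
      (fun a => ((f a, ⟨((Function.invFun f (f a) : L) : G)⁻¹ * a,
        hkey a _ (Function.invFun_eq ⟨a, rfl⟩).symm⟩) : C × zc)) ?_
    intro a b e
    simp only [Prod.mk.injEq, Subtype.mk.injEq] at e
    rw [e.1] at e
    exact Subtype.ext (mul_left_cancel e.2)
  have hLcard : Nat.card L = Nat.card N * Nat.card zc := by
    have hle : N ≤ L := fun n hn => by
      rw [Subgroup.mem_comap, QuotientGroup.mk'_apply, (QuotientGroup.eq_one_iff n).2 hn]
      exact Subgroup.one_mem _
    have h1 := Subgroup.card_mul_index L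
    have h2 := Subgroup.index_comap_of_surjective (Subgroup.centralizer ({(z : G ⧸ N)} : Set (G ⧸ N)))
      (f := QuotientGroup.mk' N) (QuotientGroup.mk'_surjective N)
    have h3 := Subgroup.card_mul_index (Subgroup.centralizer ({(z : G ⧸ N)} : Set (G ⧸ N)))
    have h4 : L.index = (Subgroup.centralizer ({(z : G ⧸ N)} : Set (G ⧸ N))).index := h2
    rw [h4] at h1
    have h5 := Subgroup.card_mul_index N
    rw [Subgroup.index_eq_card, ← h3, ← h.card_centralizer_of_notMem hzN] at h5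
    rw [← h5, ← mul_assoc] at h1
    exact Nat.eq_of_mul_eq_mul_right (Nat.pos_of_ne_zero Subgroup.index_ne_zero_of_finite) h1
  rw [hLcard] at hcount
  have hle := Nat.le_of_mul_le_mul_right hcount Nat.card_pos
  have hCeq : C = N := Subgroup.eq_of_le_of_card_ge inf_le_left hle
  exact hzN (centralizer_le h hp hO fun n hn => ((hCz n hn).2 (hCeq.symm ▸ hn)).symm)

theorem not_dvd_odd (h : TwoClass χ c N) [N.Normal] (hp : IsPGroup p N) (hO : N = Cfsg.pCore p G)
    (h2 : p ≠ 2) : ¬ p ∣ Nat.card (G ⧸ N) := by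
  intro hd
  have hpp : p.Prime := Fact.out
  have hodd : Odd p := hpp.odd_of_ne_two h2
  obtain ⟨i, hi⟩ := hodd
  obtain ⟨n0, hn0⟩ := IsPGroup.iff_card.1 hp
  have heven : 2 ∣ Nat.card G := by
    have h1 := h.index_centralizer
    have hq : Odd (Nat.card N) := hn0 ▸ Odd.pow ⟨i, hi⟩
    refine dvd_trans ?_ (Subgroup.index_dvd_card (Subgroup.centralizer ({c} : Set G)))
    obtain ⟨k, hk⟩ := hq
    exact ⟨k, by omega⟩
  obtain ⟨t, ht⟩ := exists_prime_orderOf_dvd_card' (G := G) 2 heven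
  have htfix : ∀ v ∈ N, v * t = t * v → v = 1 := fun v hv e =>
    h.eq_one_of_commute hp hv (by rw [ht]; intro hd2; exact h2 ((Nat.prime_dvd_prime_iff_eq hpp Nat.prime_two).1 hd2))
      (fun e1 => by rw [e1, orderOf_one] at ht; norm_num at ht) e
  have htt : t * t = 1 := by rw [← pow_two, ← ht, pow_orderOf_eq_one]
  have hinvt : ∀ n ∈ N, t * n * t⁻¹ = n⁻¹ := by
    intro n hn
    have hm := ‹N.Normal›.conj_mem n hn t
    have := htfix (n * (t * n * t⁻¹)) (N.mul_mem hn hm) (by
      have ti : t⁻¹ = t := inv_eq_of_mul_eq_one_right htt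
      rw [ti] at hm ⊢
      calc n * (t * n * t) * t = n * (t * n) * (t * t) := by group
        _ = n * (t * n) := by rw [htt, mul_one]
        _ = (t * t) * n * (t * n) := by rw [htt, one_mul]
        _ = t * ((t * n * t) * n) := by group
        _ = t * (n * (t * n * t)) := by rw [h.comm hp hm hn])
    exact (eq_inv_of_mul_eq_one_right this)
  have hlift : ∀ g : G, ∃ y : G, y * t = t * y ∧ (y : G ⧸ N) = (g : G ⧸ N) := by
    intro g
    have hm : t⁻¹ * (g * t * g⁻¹) ∈ N := by
      refine centralizer_le h hp hO fun n hn => ?_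
      have h1 : g⁻¹ * n * g ∈ N := by simpa using ‹N.Normal›.conj_mem n hn g⁻¹
      have h2' : g * t * g⁻¹ * n * (g * t * g⁻¹)⁻¹ = n⁻¹ := by
        calc g * t * g⁻¹ * n * (g * t * g⁻¹)⁻¹ = g * (t * (g⁻¹ * n * g) * t⁻¹) * g⁻¹ := by group
          _ = _ := by rw [hinvt _ h1]; group
      have h3 := hinvt n hn
      calc t⁻¹ * (g * t * g⁻¹) * n = t⁻¹ * (g * t * g⁻¹ * n * (g * t * g⁻¹)⁻¹) * (g * t * g⁻¹) := by group
        _ = t⁻¹ * (t * n * t⁻¹) * (g * t * g⁻¹) := by rw [h2', h3]
        _ = _ := by group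
    set m := t⁻¹ * (g * t * g⁻¹) with hmdef
    have hk : m ^ i ∈ N := N.pow_mem hm i
    refine ⟨(m ^ i)⁻¹ * g, ?_, ?_⟩
    · have hkt : m ^ i * t * (m ^ i)⁻¹ = t * m := by
        have h3 := hinvt _ hk
        have ti : t⁻¹ = t := inv_eq_of_mul_eq_one_right htt
        rw [ti] at h3
        have hp1 := h.pow_eq_one hp hm
        rw [hi] at hp1
        have : (m ^ i)⁻¹ * (m ^ i)⁻¹ = m := by
          rw [← mul_inv_rev, inv_eq_iff_mul_eq_one, ← pow_add, ← pow_succ, ← two_mul]
          exact hp1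
        calc m ^ i * t * (m ^ i)⁻¹ = (t * t) * m ^ i * t * (m ^ i)⁻¹ := by rw [htt, one_mul]
          _ = t * (t * m ^ i * t) * (m ^ i)⁻¹ := by group
          _ = t * m := by rw [h3, mul_assoc, this]
      calc (m ^ i)⁻¹ * g * t = (m ^ i)⁻¹ * (t * m) * g := by rw [hmdef]; group
        _ = (m ^ i)⁻¹ * (m ^ i * t * (m ^ i)⁻¹) * g := by rw [hkt]
        _ = _ := by group
    · rw [QuotientGroup.mk_mul, QuotientGroup.mk_inv, (QuotientGroup.eq_one_iff _).2 hk, inv_one,
        one_mul]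
  obtain ⟨xb, hxb⟩ := exists_prime_orderOf_dvd_card' (G := G ⧸ N) p hd
  obtain ⟨g, rfl⟩ := QuotientGroup.mk_surjective xb
  obtain ⟨x, hxt, hxg⟩ := hlift g
  rw [← hxg] at hxb
  have hxN : x ∉ N := fun e => by
    rw [(QuotientGroup.eq_one_iff x).2 e, orderOf_one] at hxb
    exact hpp.ne_one hxb.symm
  have hxp : x ^ p = 1 := htfix _ (by
    rw [← QuotientGroup.eq_one_iff, QuotientGroup.mk_pow, ← hxb, pow_orderOf_eq_one])
    ((show Commute x t from hxt).pow_left p).eq
  -- a fixed point of `x` on `N`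
  obtain ⟨v, hv, hv1, hvx⟩ : ∃ v ∈ N, v ≠ 1 ∧ v * x = x * v := by
    have hzp : IsPGroup p (Subgroup.zpowers x) := by
      refine IsPGroup.of_card (n := 1) ?_
      rw [Nat.card_zpowers, pow_one, orderOf_eq_prime hxp fun e => hxN (e ▸ N.one_mem)]
    letI : MulAction (Subgroup.zpowers x) N :=
      MulAction.compHom N (M := MulAut N) (MulAut.conjNormal.comp (Subgroup.zpowers x).subtype)
    have hn1 : n0 ≠ 0 := fun e => h.ne_bot (Subgroup.eq_bot_of_card_eq _ (by rw [hn0, e, pow_zero]))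
    obtain ⟨w, hw, hw1⟩ := hzp.exists_fixed_point_of_prime_dvd_card_of_fixed_point N
      (hn0 ▸ dvd_pow_self p hn1) (a := 1) (fun s => map_one (MulAut.conjNormal (s : G)))
    refine ⟨w, w.2, fun e => hw1 (Subtype.ext e.symm), ?_⟩
    have := congrArg Subtype.val (hw ⟨x, Subgroup.mem_zpowers x⟩)
    change x * (w : G) * x⁻¹ = w at this
    rw [mul_inv_eq_iff_eq_mul] at this
    exact this.symm
  have hcard := h.card_centralizer_of_notMem hxN
  set Cb := Subgroup.centralizer ({(x : G ⧸ N)} : Set (G ⧸ N))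
  set Cv := N ⊓ Subgroup.centralizer ({x} : Set G)
  choose s hst hsg using hlift
  have hsx : ∀ u : Cb, ∃ y : G, y * x = x * y ∧ (y : G ⧸ N) = u := by
    intro u
    obtain ⟨g', hg'⟩ := QuotientGroup.mk_surjective (u : G ⧸ N)
    refine ⟨s g', ?_, (hsg g').trans hg'⟩
    have hmem : s g' * x * (s g')⁻¹ * x⁻¹ ∈ N := by
      rw [← QuotientGroup.eq_one_iff]
      simp only [QuotientGroup.mk_mul, QuotientGroup.mk_inv, hsg g', hg']
      rw [Subgroup.mem_centralizer_singleton_iff.1 u.2, mul_inv_cancel_right, mul_inv_cancel]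
    have h1 : s g' * x * (s g')⁻¹ * x⁻¹ = 1 := by
      refine htfix _ hmem ?_
      have c1 : Commute (s g') t := hst g'
      have c2 : Commute x t := hxt
      exact (((c1.mul_left c2).mul_left c1.inv_left).mul_left c2.inv_left).eq
    rwa [mul_inv_eq_one, mul_inv_eq_iff_eq_mul] at h1
  choose e he hemk using hsx
  have hle : Nat.card Cv * Nat.card Cb ≤ Nat.card (Subgroup.centralizer ({x} : Set G)) := by
    rw [← Nat.card_prod]
    refine Nat.card_le_card_of_injective (fun a => (⟨(a.1 : G) * e a.2, Subgroup.mul_mem _ a.1.2.2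
      (Subgroup.mem_centralizer_singleton_iff.2 (he a.2))⟩ : Subgroup.centralizer ({x} : Set G))) ?_
    rintro ⟨a, u⟩ ⟨a', u'⟩ hh
    have hh' : (a : G) * e u = a' * e u' := congrArg Subtype.val hh
    have hu : u = u' := by
      have := congrArg (fun y : G => (y : G ⧸ N)) hh'
      simp only [QuotientGroup.mk_mul, (QuotientGroup.eq_one_iff _).2 a.2.1,
        (QuotientGroup.eq_one_iff _).2 a'.2.1, one_mul, hemk] at this
      exact Subtype.ext this
    subst hu
    exact Prod.ext (Subtype.ext (mul_right_cancel hh')) rfl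
  rw [hcard] at hle
  have h1 : Nat.card Cv ≤ 1 := Nat.le_of_mul_le_mul_right (by rwa [one_mul]) Nat.card_pos
  have := Subgroup.eq_bot_of_card_le Cv h1
  exact hv1 (Subgroup.mem_bot.1 (this ▸ ⟨hv, Subgroup.mem_centralizer_singleton_iff.2 hvx⟩))


/-- Let G be a finite group of order greater than 2 with an irreducible character χ nonzero on exactly two conjugacy classes, and let N be the normal p-subgroup of elements where χ is nonzero. Then N is the whole p-core O_p(G) if and only if G is a doubly transitive Frobenius group with kernel N: G has a Frobenius complement H whose Frobenius kernel is N and whose order is one less than that of N. -/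
theorem result {G : Type*} [Group G] [Finite G] (hG : 2 < Nat.card G) (χ : Cfsg.IrrCharacter G) (hχ : Nat.card {C : ConjClasses G // ∃ g ∈ C.carrier, (χ : G → ℂ) g ≠ 0} = 2) (p : ℕ) [Fact p.Prime] (N : Subgroup G) [N.Normal] (hN : ∀ g : G, g ∈ N ↔ (χ : G → ℂ) g ≠ 0) (hNp : IsPGroup p N) (hN1 : N ≠ ⊥) :
    N = Cfsg.pCore p G ↔ ∃ H : Subgroup G, Cfsg.IsFrobeniusComplement H ∧ Cfsg.frobeniusKernel H = (N : Set G) ∧ Nat.card H + 1 = Nat.card N := by
  classical
  have hpp : p.Prime := Fact.out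
  obtain ⟨c, N', h⟩ := CfsgLib.Gagola.exists_twoClass hG χ hχ
  obtain rfl := h.eq_subgroup hN
  obtain ⟨n0, hn0⟩ := IsPGroup.iff_card.1 hNp
  have hn1 : n0 ≠ 0 := fun e => hN1 (Subgroup.eq_bot_of_card_eq _ (by rw [hn0, e, pow_zero]))
  have hpN : p ∣ Nat.card N := hn0 ▸ dvd_pow_self p hn1
  constructor
  · intro hO
    have hcop' : ¬ p ∣ Nat.card (G ⧸ N) := by
      by_cases h2 : p = 2
      · exact not_dvd_two h hNp hO h2
      · exact not_dvd_odd h hNp hO h2
    have hcop : (Nat.card N).Coprime N.index := by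
      rw [hn0, Subgroup.index_eq_card]
      exact Nat.Coprime.pow_left _ (hpp.coprime_iff_not_dvd.2 hcop')
    obtain ⟨H, hH⟩ := Subgroup.exists_right_complement'_of_coprime hcop
    obtain ⟨P, hP⟩ := h.exists_sylow_centralizer hNp h.mem h.ne_one
    have hidx := h.index_centralizer
    have hCN : Nat.card (Subgroup.centralizer ({c} : Set G)) = Nat.card N := by
      rw [hP, P.card_eq_multiplicity, ← Subgroup.card_mul_index N,
        Nat.factorization_mul Nat.card_pos.ne' Subgroup.index_ne_zero_of_finite, Finsupp.add_apply,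
        Nat.factorization_eq_zero_of_not_dvd (n := N.index) (by rwa [Subgroup.index_eq_card]), add_zero,
        hn0, hpp.factorization_pow, Finsupp.single_eq_same]
    have hHcard : Nat.card H + 1 = Nat.card N := by
      have h1 : Nat.card N * Nat.card H = Nat.card G := hH.card_mul
      have h2 := Subgroup.card_mul_index (Subgroup.centralizer ({c} : Set G))
      rw [hCN, ← h1] at h2
      have := Nat.eq_of_mul_eq_mul_left Nat.card_pos h2
      omega
    have hHco : (Nat.card H).Coprime (Nat.card N) := by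
      have := hH.symm.index_eq_card
      rw [← this]
      exact hcop.symm
    have hdis : ∀ a, a ∈ H → a ∈ N → a = 1 := fun a ha ha' =>
      Subgroup.disjoint_def.1 hH.disjoint ha' ha
    have hfpf : ∀ a ∈ H, ∀ n ∈ N, n ≠ 1 → a * n = n * a → a = 1 := by
      intro a ha n hn hn1' e
      obtain ⟨k, hk⟩ := IsPGroup.iff_orderOf.1 (h.isPGroup_centralizer hNp hn hn1')
        ⟨a, Subgroup.mem_centralizer_singleton_iff.2 e⟩
      rw [Subgroup.orderOf_mk] at hk
      have h1 : orderOf a ∣ Nat.card H := Subgroup.orderOf_dvd_natCard H ha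
      have h2 : (p ^ k).Coprime (Nat.card H) := Nat.Coprime.pow_left k
        (Nat.Coprime.coprime_dvd_left hpN hHco.symm)
      rw [← orderOf_eq_one_iff]
      exact Nat.Coprime.eq_one_of_dvd (hk ▸ h2) h1
    have hmul : ∀ g : G, ∃ n ∈ N, ∃ a ∈ H, n * a = g := fun g => by
      obtain ⟨⟨n, a⟩, he⟩ := hH.2 g
      exact ⟨n, n.2, a, a.2, he⟩
    have hmem : ∀ (g x : G), x ∈ MulAut.conj g • H ↔ g⁻¹ * x * g ∈ H := fun g x => by
      rw [Subgroup.mem_pointwise_smul_iff_inv_smul_mem, MulAut.smul_def, ← map_inv,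
        MulAut.conj_apply, inv_inv]
    refine ⟨H, ⟨?_, ?_, fun g hg => ?_⟩, Set.ext fun x => ⟨?_, ?_⟩, hHcard⟩
    · intro e
      rw [e, Subgroup.card_bot] at hHcard
      have h2 : Nat.card N * Nat.card H = Nat.card G := hH.card_mul
      rw [e, Subgroup.card_bot] at h2
      omega
    · intro e
      exact hN1 ((Subgroup.eq_bot_iff_forall N).2 fun x hx => hdis x (e ▸ Subgroup.mem_top x) hx)
    · rw [Subgroup.eq_bot_iff_forall]
      rintro b ⟨hb, hb'⟩
      change b ∈ MulAut.conj g • H at hb'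
      rw [hmem] at hb'
      obtain ⟨n, hn, a, ha, rfl⟩ := hmul g
      have hne : n ≠ 1 := fun e => hg (by rw [e, one_mul]; exact ha)
      have h1 : n⁻¹ * b * n ∈ H := by
        have := H.mul_mem (H.mul_mem ha hb') (H.inv_mem ha)
        simpa [mul_assoc] using this
      have h2 : b⁻¹ * (n⁻¹ * b * n) ∈ N := by
        have := N.mul_mem (‹N.Normal›.conj_mem _ (N.inv_mem hn) b⁻¹) hn
        simpa [mul_assoc] using this
      have h3 := hdis _ (H.mul_mem (H.inv_mem hb) h1) h2
      refine hfpf b hb n hn hne ?_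
      calc b * n = n * (b * (b⁻¹ * (n⁻¹ * b * n))) := by group
        _ = n * b := by rw [h3, mul_one]
    · rintro (rfl | hx)
      · exact N.one_mem
      · by_contra hxN
        obtain ⟨m, hm, a, ha, rfl⟩ := hmul x
        have ha1 : a ≠ 1 := fun e => hxN (by rw [e, mul_one]; exact hm)
        let φ : N → N := fun n => ⟨(n : G) * (a * (n : G)⁻¹ * a⁻¹),
          N.mul_mem n.2 (‹N.Normal›.conj_mem _ (N.inv_mem n.2) a)⟩
        have hinj : Function.Injective φ := fun n n' e => by
          have e' : (n : G) * (a * (n : G)⁻¹ * a⁻¹) = (n' : G) * (a * (n' : G)⁻¹ * a⁻¹) :=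
            congrArg Subtype.val e
          by_contra hne
          refine ha1 (hfpf a ha ((n' : G)⁻¹ * n) (N.mul_mem (N.inv_mem n'.2) n.2)
            (fun e1 => hne (Subtype.ext (inv_mul_eq_one.1 e1).symm)) ?_)
          calc a * ((n' : G)⁻¹ * n) = (n' : G)⁻¹ * ((n' : G) * (a * (n' : G)⁻¹ * a⁻¹)) * a * n := by group
            _ = (n' : G)⁻¹ * ((n : G) * (a * (n : G)⁻¹ * a⁻¹)) * a * n := by rw [e']
            _ = _ := by group
        obtain ⟨n, hn⟩ := (Finite.injective_iff_surjective.1 hinj) ⟨m, hm⟩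
        refine hx (n : G) ?_
        rw [hmem]
        have : (n : G) * (a * (n : G)⁻¹ * a⁻¹) = m := congrArg Subtype.val hn
        rw [← this]
        simpa [mul_assoc] using ha
    · intro hx
      by_cases h1 : x = 1
      · exact Or.inl h1
      · refine Or.inr fun g hg => h1 ?_
        rw [hmem] at hg
        have := hdis _ hg (by simpa using ‹N.Normal›.conj_mem x hx g⁻¹)
        calc x = g * (g⁻¹ * x * g) * g⁻¹ := by group
          _ = 1 := by rw [this]; group
  · rintro ⟨H, hH, hker, hcard⟩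
    refine le_antisymm (CfsgLib.Solvable.le_pCore ‹N.Normal› hNp) fun x hx => ?_
    have : x ∈ Cfsg.frobeniusKernel H := by
      by_contra hc
      simp only [Cfsg.frobeniusKernel, Set.mem_ofPred_eq, not_or, not_forall, not_not] at hc
      obtain ⟨hx1, g, hg⟩ := hc
      obtain ⟨k, hk⟩ := IsPGroup.iff_orderOf.1 (CfsgLib.Solvable.pCore_isPGroup p G) ⟨x, hx⟩
      rw [Subgroup.orderOf_mk] at hk
      refine hx1 (orderOf_eq_one_iff.1 ?_)
      have h1 : orderOf x ∣ Nat.card H := by
        rw [Nat.card_congr (Subgroup.equivSMul (MulAut.conj g) H).toEquiv]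
        exact Subgroup.orderOf_dvd_natCard _ hg
      refine Nat.Coprime.eq_one_of_dvd (hk ▸ Nat.Coprime.pow_left k (hpp.coprime_iff_not_dvd.2 ?_)) h1
      intro hd
      have := (Nat.dvd_add_right hd).1 (hcard ▸ hpN)
      exact hpp.ne_one (Nat.dvd_one.1 this)
    rwa [hker] at this

end Cfsg.Agent.S4839
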