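import Cfsg.Statements.S4840
import Cfsg.Agent.Lib.Gagola.Basic
import Cfsg.Agent.Lib.Gagola.TransitiveSolvable
import Cfsg.Agent.Lib.Solvable.Core

set_option autoImplicit false
open Cfsg

namespace Cfsg.Agent.S4840

/-- Let G be a finite solvable group of order greater than 2 with an irreducible character nonzero on exactly two conjugacy classes. Then there is exactly one prime p with O_p(G) ≠ 1, and the quotient G/O_p(G) has a normal p-complement and commutative Sylow p-subgroups. -/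
theorem result {G : Type*} [Group G] [Finite G] [hs : Group.IsSolvable G] (hG : 2 < Nat.card G) (χ : Cfsg.IrrCharacter G) (hχ : Nat.card {C : ConjClasses G // ∃ g ∈ C.carrier, (χ : G → ℂ) g ≠ 0} = 2) :
    ∃ p : ℕ, p.Prime ∧ (∀ q : ℕ, q.Prime → (Cfsg.pCore q G ≠ ⊥ ↔ q = p)) ∧
      Cfsg.HasNormalPComplement p (G ⧸ Cfsg.pCore p G) ∧ ∀ Q : Sylow p (G ⧸ Cfsg.pCore p G), IsMulCommutative (Q : Subgroup (G ⧸ Cfsg.pCore p G)) := by
  classical
  obtain ⟨c, N, h⟩ := CfsgLib.Gagola.exists_twoClass hG χ hχ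
  obtain ⟨p, hp, hpN⟩ := h.isPGroup
  have := Fact.mk hp
  have hN := h.normal
  have hNO : N ≤ Cfsg.pCore p G := CfsgLib.Solvable.le_pCore hN hpN
  refine ⟨p, hp, fun q hq => ⟨fun hne => ?_, ?_⟩, ?_⟩
  · have hcq := h.le_of_normal _ (CfsgLib.Solvable.pCore_normal _ G) hne h.mem
    obtain ⟨k, hk⟩ := CfsgLib.Solvable.pCore_isPGroup _ G ⟨c, hcq⟩
    have h2 : c ^ q ^ k = 1 := congrArg Subtype.val hk
    obtain ⟨l, hl⟩ := hpN ⟨c, h.mem⟩
    have h1 : c ^ p ^ l = 1 := congrArg Subtype.val hl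
    by_contra hqp
    exact h.ne_one (orderOf_eq_one_iff.mp (Nat.eq_one_of_dvd_coprimes
      (Nat.Coprime.pow _ _ ((Nat.coprime_primes hp hq).mpr (Ne.symm hqp)))
      (orderOf_dvd_of_pow_eq_one h1) (orderOf_dvd_of_pow_eq_one h2)))
  · rintro rfl e
    exact h.ne_bot (le_bot_iff.mp (e ▸ hNO))
  -- the action of the quotient by the core on `N`
  have hOn : (Cfsg.pCore p G).Normal := CfsgLib.Solvable.pCore_normal _ G
  have hO := CfsgLib.Solvable.pCore_isPGroup p G
  have hNtriv : Nontrivial N := (Subgroup.nontrivial_iff_ne_bot N).mpr h.ne_bot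
  have hcomm : ∀ o ∈ Cfsg.pCore p G, ∀ n ∈ N, o * n = n * o := by
    have hne : (Subgroup.center (Cfsg.pCore p G)).map (Cfsg.pCore p G).subtype ≠ ⊥ := by
      rw [Ne, Subgroup.map_eq_bot_iff_of_injective _ (Cfsg.pCore p G).subtype_injective]
      have : Nontrivial (Cfsg.pCore p G) := (Subgroup.nontrivial_iff_ne_bot _).mpr
        fun e => h.ne_bot (le_bot_iff.mp (e ▸ hNO))
      exact (Subgroup.nontrivial_iff_ne_bot _).mp hO.center_nontrivial
    intro o ho n hn
    obtain ⟨z, hz, rfl⟩ := h.le_of_normal _ inferInstance hne hn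
    exact congrArg Subtype.val (Subgroup.mem_center_iff.mp hz ⟨o, ho⟩)
  let I : CommGroup N :=
    { (inferInstance : Group N) with mul_comm := fun a b => Subtype.ext (h.comm hpN a.2 b.2) }
  let φ : G ⧸ Cfsg.pCore p G →* MulAut N :=
    QuotientGroup.lift _ (MulAut.conjNormal : G →* MulAut N) fun o ho => by
      rw [MonoidHom.mem_ker]
      refine MulEquiv.ext fun n => Subtype.ext ?_
      show o * (n : G) * o⁻¹ = n
      rw [hcomm o ho n n.2, mul_inv_cancel_right]
  have hset : CfsgLib.Gagola.TransSetting p φ :=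
    { prime := hp
      nontriv := hNtriv
      exp := fun x => Subtype.ext (h.pow_eq_one hpN x.2)
      trans := fun x y hx hy => by
        obtain ⟨g, hg⟩ := isConj_iff.mp
          ((h.isConj x x.2 fun e => hx (Subtype.ext e)).symm.trans (h.isConj y y.2 fun e => hy (Subtype.ext e)))
        exact ⟨g, Subtype.ext hg⟩
      stab := fun a x hx hax => by
        obtain ⟨g, rfl⟩ := QuotientGroup.mk_surjective a
        have hgx : g * (x : G) * g⁻¹ = x := congrArg Subtype.val hax
        obtain ⟨k, hk⟩ := h.isPGroup_centralizer hpN x.2 (fun e => hx (Subtype.ext e))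
          ⟨g, Subgroup.mem_centralizer_singleton_iff.mpr (mul_inv_eq_iff_eq_mul.mp hgx)⟩
        have hk' : g ^ p ^ k = 1 := congrArg Subtype.val hk
        exact ⟨k, by rw [← QuotientGroup.mk_pow, hk', QuotientGroup.mk_one]⟩
      core := fun M hM hMp => le_bot_iff.mp
        ((CfsgLib.Solvable.le_pCore hM hMp).trans
          (CfsgLib.Solvable.pCore_quotient_eq_bot (Cfsg.pCore p G) rfl).le) }
  have hA : ∀ a ∈ commutator (G ⧸ Cfsg.pCore p G), ¬ p ∣ orderOf a :=
    fun a ha => hset.not_dvd_orderOf_of_mem_commutator ha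
  refine ⟨?_, fun Q => ⟨⟨fun a b => Subtype.ext ?_⟩⟩⟩
  · obtain ⟨P⟩ := (inferInstance : Nonempty (Sylow p (G ⧸ Cfsg.pCore p G)))
    obtain ⟨v, m, hm, hcard⟩ :=
      Nat.exists_eq_pow_mul_and_not_dvd (Nat.card_pos (α := G ⧸ Cfsg.pCore p G)).ne' p hp.ne_one
    let A := G ⧸ Cfsg.pCore p G
    let π : A →* Abelianization A := Abelianization.of
    let K : Subgroup A := ((powMonoidHom m : Abelianization A →* Abelianization A).comp π).ker
    have hKmem : ∀ a, a ∈ K ↔ a ^ m ∈ commutator A := fun a => by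
      rw [MonoidHom.mem_ker, MonoidHom.comp_apply, powMonoidHom_apply, ← map_pow, ← MonoidHom.mem_ker,
        Abelianization.ker_of]
    have hKp : ¬ p ∣ Nat.card K := by
      intro hd
      obtain ⟨⟨a, ha⟩, hao⟩ := exists_prime_orderOf_dvd_card' (G := K) p hd
      rw [Subgroup.orderOf_mk] at hao
      refine hA _ ((hKmem a).mp ha) ?_
      rw [Nat.Coprime.orderOf_pow (by rw [hao]; exact hp.coprime_iff_not_dvd.mpr hm), hao]
    have hKi : IsPGroup p (A ⧸ K) := fun x => by
      obtain ⟨a, rfl⟩ := QuotientGroup.mk_surjective x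
      refine ⟨v, ?_⟩
      rw [← QuotientGroup.mk_pow, QuotientGroup.eq_one_iff, hKmem, ← pow_mul, ← hcard, pow_card_eq_one']
      exact one_mem _
    obtain ⟨l, hl⟩ := IsPGroup.iff_card.mp hKi
    have hKP : Nat.card K * Nat.card (P : Subgroup A) = Nat.card A := by
      rw [← Subgroup.card_mul_index K, Subgroup.index, hl, P.card_eq_multiplicity]
      congr 1
      have h1 : Nat.card A = Nat.card K * p ^ l := by rw [← hl, ← Subgroup.card_mul_index K, Subgroup.index]
      rw [h1, Nat.factorization_mul Nat.card_pos.ne' (pow_ne_zero _ hp.ne_zero)]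
      simp [Nat.factorization_eq_zero_of_not_dvd hKp, hp.factorization_pow]
    refine ⟨P, K, inferInstance, Subgroup.isComplement'_of_coprime hKP ?_⟩
    rw [P.card_eq_multiplicity]
    exact (Nat.Coprime.pow_right _ ((hp.coprime_iff_not_dvd.mpr hKp).symm))
  · have hQ := Q.isPGroup'
    have hab : (a : G ⧸ Cfsg.pCore p G) * b * (a : G ⧸ Cfsg.pCore p G)⁻¹ * (b : G ⧸ Cfsg.pCore p G)⁻¹ = 1 := by
      have hmem : (a * b * a⁻¹ * b⁻¹ : G ⧸ Cfsg.pCore p G) ∈ commutator (G ⧸ Cfsg.pCore p G) :=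
        Subgroup.commutator_mem_commutator (Subgroup.mem_top _) (Subgroup.mem_top _)
      obtain ⟨k, hk⟩ := hQ (a * b * a⁻¹ * b⁻¹)
      have hk' := congrArg Subtype.val hk
      simp only [Subgroup.coe_pow, Subgroup.coe_mul, Subgroup.coe_inv, Subgroup.coe_one] at hk'
      obtain ⟨l, -, hl⟩ := (Nat.dvd_prime_pow hp).mp (orderOf_dvd_of_pow_eq_one hk')
      rcases Nat.eq_zero_or_pos l with rfl | hl0
      · exact orderOf_eq_one_iff.mp (by simpa using hl)
      · exact absurd (hl ▸ dvd_pow_self p hl0.ne') (hA _ hmem)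
    exact mul_inv_eq_iff_eq_mul.mp (mul_inv_eq_one.mp hab)

end Cfsg.Agent.S4840
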