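import Cfsg.Statements.S4843
import Cfsg.Agent.Lib.CharTools.Basic
import Cfsg.Agent.Lib.Char.Clifford
import Cfsg.Agent.Lib.Char.CentralOver
import Cfsg.Agent.Lib.Char.GaloisConj
import Cfsg.Agent.Lib.Char.Kernel
import Cfsg.Agent.Lib.Solvable.Core
import Cfsg.Agent.Lib.FGS73.Cover

set_option autoImplicit false
open Cfsg

namespace Cfsg.Agent.S4843

universe u

open CfsgLib CfsgLib.Char CfsgLib.CharGalois
open scoped ComplexConjugate commutatorElement

variable {G : Type u} [Group G] [Finite G]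

theorem pow_mem_iff {k : ℕ} (hk : k.Coprime (Nat.card G)) (H : Subgroup G) (x : G) :
    x ^ k ∈ H ↔ x ∈ H := by
  refine ⟨fun h => ?_, fun h => pow_mem h k⟩
  obtain ⟨l, hl⟩ := exists_pow_eq_self_of_coprime (hk.coprime_dvd_right (orderOf_dvd_natCard x))
  rw [← hl]
  exact pow_mem h l

theorem classInner_powMap [Fintype G] {k : ℕ} (hk : k.Coprime (Nat.card G)) (a b : G → ℂ) :
    Cfsg.classInner (fun g => a (g ^ k)) (fun g => b (g ^ k)) = Cfsg.classInner a b := by
  unfold Cfsg.classInner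
  congr 1
  exact Fintype.sum_equiv (powCoprime (G := G) hk.symm) _ _ fun g => rfl

theorem sub_one [Fintype G] {h : G → ℂ} (hh : Cfsg.IsCharacter G h)
    (hne : Cfsg.classInner h (fun _ => 1) ≠ 0) :
    ∃ R, Cfsg.IsCharacter G R ∧ h = (fun _ => (1 : ℂ)) + R := by
  classical
  obtain ⟨m, rfl⟩ := IsCharacter.exists_nat_combination hh
  set one : Cfsg.IrrCharacter G := principalIrr with hone
  have hm : m one ≠ 0 := fun h0 => hne (by
    rw [show (fun _ : G => (1 : ℂ)) = (one : G → ℂ) from rfl, classInner_sum_smul_irr, h0, Nat.cast_zero])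
  refine ⟨(m one - 1) • (one : G → ℂ) + ∑ ψ ∈ Finset.univ.erase one, m ψ • (ψ : G → ℂ), ?_, ?_⟩
  · exact IsCharacter.add (IsCharacter.nsmul (IsIrrCharacter.isCharacter one.2) _)
      (IsCharacter.sum _ _ fun ψ _ => IsCharacter.nsmul (IsIrrCharacter.isCharacter ψ.2) _)
  · rw [← Finset.add_sum_erase _ _ (Finset.mem_univ one), ← add_assoc]
    congr 1
    · funext g
      obtain ⟨l, hl⟩ := Nat.exists_eq_succ_of_ne_zero hm
      rw [hl]
      simp [hone, principalIrr_apply]
      ring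
    · refine Finset.sum_congr rfl fun ψ _ => ?_
      funext g
      simp

/-- The criterion: a nonconstant rational character inside `χ χ̄` is impossible. -/
theorem no_common [Fintype G] (χ : Cfsg.IrrCharacter G) {k : ℕ} (hk : k.Coprime (Nat.card G))
    (hirr : Cfsg.IsIrrCharacter G (fun g => (χ : G → ℂ) g * (χ : G → ℂ) (g ^ k)))
    (Φ R : G → ℂ) (hΦ : Cfsg.IsCharacter G Φ) (hR : Cfsg.IsCharacter G R)
    (hsum : (fun g => (χ : G → ℂ) g * conj ((χ : G → ℂ) g)) = Φ + R)
    (hrat : ∀ g, Φ (g ^ k) = Φ g) {g₀ : G} (hne : Φ g₀ ≠ Φ 1) : False := by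
  classical
  set f : G → ℂ := fun g => (χ : G → ℂ) g * conj ((χ : G → ℂ) g) with hf
  set f' : G → ℂ := fun g => f (g ^ k) with hf'
  have hfc : Cfsg.IsCharacter G f := hsum ▸ IsCharacter.add hΦ hR
  have hf'c : Cfsg.IsCharacter G f' := isCharacter_powMap hk hfc
  obtain ⟨m, hm⟩ := IsCharacter.exists_nat_combination hfc
  obtain ⟨m', hm'⟩ := IsCharacter.exists_nat_combination hf'c
  have hmv : ∀ η : Cfsg.IrrCharacter G, Cfsg.classInner f (η : G → ℂ) = m η := fun η => by
    rw [hm, classInner_sum_smul_irr]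
  have hmv' : ∀ η : Cfsg.IrrCharacter G, Cfsg.classInner f' (η : G → ℂ) = m' η := fun η => by
    rw [hm', classInner_sum_smul_irr]
  -- the inner product of `f` and `f'` is one
  have h1 : Cfsg.classInner f f' = 1 := by
    rw [← classInner_irr_self hirr]
    unfold Cfsg.classInner
    congr 1
    refine Finset.sum_congr rfl fun g _ => ?_
    simp only [hf, hf', map_mul, Complex.conj_conj]
    ring
  rw [hm, hm', classInner_sum_smul_sum_smul] at h1
  have h1' : ∑ η, m η * m' η = 1 := by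
    have : ((∑ η, m η * m' η : ℕ) : ℂ) = 1 := by
      rw [← h1, Nat.cast_sum]
      exact Finset.sum_congr rfl fun η _ => by simp
    exact_mod_cast this
  -- the principal character occurs in both
  set one : Cfsg.IrrCharacter G := principalIrr
  have hone : Cfsg.classInner f (one : G → ℂ) = 1 := by
    rw [← classInner_irr_self χ.2]
    unfold Cfsg.classInner
    congr 1
    refine Finset.sum_congr rfl fun g _ => ?_
    simp [hf, one, principalIrr_apply]
  have hone' : Cfsg.classInner f' (one : G → ℂ) = 1 := by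
    rw [← hone, ← classInner_powMap hk f (one : G → ℂ)]
    rfl
  -- a nonprincipal constituent of `Φ`
  obtain ⟨η, hη, hη1⟩ : ∃ η : Cfsg.IrrCharacter G, Cfsg.classInner Φ (η : G → ℂ) ≠ 0 ∧ η ≠ one := by
    by_contra hcon
    push Not at hcon
    apply hne
    have e := IsCharacter.eq_sum_classInner hΦ
    have h0 : ∀ ψ : Cfsg.IrrCharacter G, ψ ≠ one → Cfsg.classInner Φ (ψ : G → ℂ) = 0 := fun ψ hψ => by
      by_contra h; exact hψ (hcon ψ h)
    rw [Finset.sum_eq_single one (fun ψ _ hψ => by rw [h0 ψ hψ, zero_smul])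
      (fun h => absurd (Finset.mem_univ one) h)] at e
    rw [congrFun e g₀, congrFun e 1]
    simp [one, principalIrr_apply]
  -- constituents of `Φ` are constituents of `f`
  have hle : ∀ ψ : Cfsg.IrrCharacter G, Cfsg.classInner Φ (ψ : G → ℂ) ≠ 0 →
      Cfsg.classInner f (ψ : G → ℂ) ≠ 0 := by
    intro ψ h0 e
    obtain ⟨a, ha⟩ := IsCharacter.exists_nat_classInner hΦ ψ.2
    obtain ⟨b, hb⟩ := IsCharacter.exists_nat_classInner hR ψ.2
    rw [hsum, classInner_add_left, ha, hb] at e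
    rw [ha] at h0
    have : a + b = 0 := by exact_mod_cast e
    exact h0 (by rw [show a = 0 by omega]; simp)
  set η' := powIrr hk η with hη'
  have hη'1 : η' ≠ one := fun e => hη1 ((powIrr_bijective hk).1 (e.trans (by
    refine Subtype.ext (funext fun g => ?_)
    rw [powIrr_apply]
    simp [one, principalIrr_apply])))
  have hΦη' : Cfsg.classInner Φ (η' : G → ℂ) ≠ 0 := by
    have e : Cfsg.classInner Φ (η' : G → ℂ) = Cfsg.classInner Φ (η : G → ℂ) := by
      rw [← classInner_powMap hk Φ (η : G → ℂ)]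
      simp only [hrat]
      rfl
    rwa [e]
  have h2 : Cfsg.classInner f' (η' : G → ℂ) ≠ 0 := by
    have := hle η hη
    rwa [← classInner_powMap hk f (η : G → ℂ)] at this
  have h3 := hle η' hΦη'
  rw [hmv] at h3
  rw [hmv'] at h2
  rw [hmv] at hone
  rw [hmv'] at hone'
  have h4 : ∑ ψ ∈ ({one, η'} : Finset (Cfsg.IrrCharacter G)), m ψ * m' ψ ≤ ∑ ψ, m ψ * m' ψ :=
    Finset.sum_le_sum_of_subset (Finset.subset_univ _)
  rw [Finset.sum_pair (Ne.symm hη'1), h1'] at h4
  have a1 : m one = 1 := by exact_mod_cast hone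
  have a2 : m' one = 1 := by exact_mod_cast hone'
  have a3 : 0 < m η' * m' η' := Nat.mul_pos (Nat.pos_of_ne_zero fun e => h3 (by rw [e]; simp))
    (Nat.pos_of_ne_zero fun e => h2 (by rw [e]; simp))
  rw [a1, a2] at h4
  omega

/-- Every constituent of the restriction to a normal subgroup is invariant. -/
theorem invariant [Fintype G] (χ : Cfsg.IrrCharacter G) {k : ℕ} (hk : k.Coprime (Nat.card G))
    (hirr : Cfsg.IsIrrCharacter G (fun g => (χ : G → ℂ) g * (χ : G → ℂ) (g ^ k)))
    (N : Subgroup G) [N.Normal] [Fintype N] (θ : Cfsg.IrrCharacter N)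
    (hcon : Cfsg.classInner (fun n : N => (χ : G → ℂ) n) (θ : N → ℂ) ≠ 0) (g : G) :
    CharTwist.conjFun N (θ : N → ℂ) g = θ := by
  classical
  set T := CharTwist.inertia N (θ : N → ℂ) with hT
  suffices hTtop : T = ⊤ by
    have hgT : g ∈ T := by rw [hTtop]; exact Subgroup.mem_top g
    exact CharTwist.mem_inertia.mp hgT
  by_contra hne
  have := Fintype.ofFinite T
  have hNT : N ≤ T := CharTwist.le_inertia N (IsIrrCharacter.isClassFunction θ.2)
  obtain ⟨ψ, hψ, hψχ, -⟩ := Clifford.exists_indFun_eq N T hNT θ.2 (fun g => CharTwist.mem_inertia) χ.2 hcon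
  let χb : T → ℂ := fun t => conj ((χ : G → ℂ) t)
  have hχb : Cfsg.IsCharacter T χb :=
    IsCharacter.restrict (IsIrrCharacter.isCharacter (CharTwist.isIrrCharacter_conj χ.2)) T
  have hprod : Cfsg.IsCharacter T (fun t => ψ t * χb t) :=
    IsCharacter.mul (IsIrrCharacter.isCharacter hψ) hχb
  obtain ⟨R, hR, hRe⟩ := sub_one hprod (by
    have h := classInner_indFun T ψ (χ : G → ℂ) (IsIrrCharacter.isClassFunction χ.2)
    rw [hψχ, classInner_irr_self χ.2] at h
    have e : Cfsg.classInner (fun t => ψ t * χb t) (fun _ : T => (1 : ℂ)) =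
        Cfsg.classInner ψ (fun t : T => (χ : G → ℂ) t) := by
      unfold Cfsg.classInner
      simp [χb]
    rw [e, ← h]
    exact one_ne_zero)
  obtain ⟨g₀, hg₀⟩ : ∃ g : G, ∀ c : G, c⁻¹ * g * c ∉ T := by
    by_contra hcon
    push Not at hcon
    exact hne (FGS73.eq_top_of_forall_conj_mem hcon)
  refine no_common χ hk hirr (Cfsg.indFun T (fun _ : T => (1 : ℂ))) (Cfsg.indFun T R)
    (IsCharacter.indFun (H := T) (IsIrrCharacter.isCharacter isIrrCharacter_principal))
    (IsCharacter.indFun (H := T) hR) ?_ ?_ (g₀ := g₀) ?_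
  · have h1 : Cfsg.indFun T (fun t => ψ t * χb t) = fun g => (χ : G → ℂ) g * conj ((χ : G → ℂ) g) := by
      rw [indFun_mul_res T ψ (fun g => conj ((χ : G → ℂ) g))
        (fun a b => by simp only [IsIrrCharacter.isClassFunction χ.2 a b]), hψχ]
      rfl
    rw [← h1, hRe, indFun_add]
  · intro g
    rw [indFun_apply, indFun_apply]
    congr 1
    refine Finset.sum_congr rfl fun x _ => ?_
    have e : x⁻¹ * g ^ k * x = (x⁻¹ * g * x) ^ k := by
      have := conj_pow (i := k) (a := x⁻¹) (b := g)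
      rw [inv_inv] at this
      exact this.symm
    by_cases hx : x⁻¹ * g * x ∈ T
    · rw [e, extendByZero_apply_mem T _ hx, extendByZero_apply_mem T _ (pow_mem hx k)]
    · rw [e, extendByZero_of_notMem T _ hx,
        extendByZero_of_notMem T _ (fun h => hx ((pow_mem_iff hk T _).mp h))]
  · rw [indFun_eq_zero_of_forall_notMem T _ g₀ hg₀, indFun_apply_one, mul_one]
    exact_mod_cast (Subgroup.index_ne_zero_of_finite (H := T)).symm

/-- Abelian normal subgroups are central. -/
theorem central_of_abelian [Fintype G] (χ : Cfsg.IrrCharacter G)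
    (hfaith : ∀ g : G, (χ : G → ℂ) g = (χ : G → ℂ) 1 → g = 1) {k : ℕ} (hk : k.Coprime (Nat.card G))
    (hirr : Cfsg.IsIrrCharacter G (fun g => (χ : G → ℂ) g * (χ : G → ℂ) (g ^ k)))
    (A : Subgroup G) [A.Normal] (hA : ∀ a ∈ A, ∀ b ∈ A, a * b = b * a) : A ≤ Subgroup.center G := by
  classical
  have := Fintype.ofFinite A
  obtain ⟨θ, hθ, hc⟩ := Clifford.exists_constituent_res (N := A) χ.2
  have hfix := invariant χ hk hirr A ⟨θ, hθ⟩ hc
  obtain ⟨hθ1, hθmul, hθne⟩ := CharOver.abelian_irr (fun a b : A => Subtype.ext (hA a a.2 b b.2)) hθ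
  have hres := Clifford.res_eq A χ.2 hθ hc
  have horb : Clifford.orbit A θ = {θ} := by
    ext f
    rw [Clifford.mem_orbit, Finset.mem_singleton]
    exact ⟨fun ⟨g, hg⟩ => hg ▸ hfix g, fun h => ⟨1, by rw [h, CharTwist.conjFun_one]⟩⟩
  rw [horb, Finset.sum_singleton] at hres
  set e := Cfsg.classInner (fun n : A => (χ : G → ℂ) n) θ
  intro a ha
  rw [Subgroup.mem_center_iff]
  intro g
  set b : A := ⟨g * a * g⁻¹, ‹A.Normal›.conj_mem a ha g⟩
  have hb : θ b = θ ⟨a, ha⟩ := congrFun (hfix g) ⟨a, ha⟩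
  have h1 : θ (b * (⟨a, ha⟩ : A)⁻¹) = 1 := by
    rw [hθmul, hb, ← hθmul, mul_inv_cancel, hθ1]
  have h2 := congrFun hres (b * (⟨a, ha⟩ : A)⁻¹)
  have h3 := congrFun hres 1
  simp only [Pi.smul_apply, smul_eq_mul, h1, hθ1] at h2 h3
  have h4 : (b * (⟨a, ha⟩ : A)⁻¹ : G) = 1 := hfaith _ (h2.trans h3.symm)
  simp only [Subgroup.coe_mul, Subgroup.coe_inv, b] at h4
  exact mul_inv_eq_iff_eq_mul.mp (mul_inv_eq_one.mp h4)

/-- A normal subgroup with central commutators is central. -/
theorem central_of_commutator [Fintype G] (χ : Cfsg.IrrCharacter G)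
    (hfaith : ∀ g : G, (χ : G → ℂ) g = (χ : G → ℂ) 1 → g = 1) {k : ℕ} (hk : k.Coprime (Nat.card G))
    (hirr : Cfsg.IsIrrCharacter G (fun g => (χ : G → ℂ) g * (χ : G → ℂ) (g ^ k)))
    (E : Subgroup G) [E.Normal] (hEE : ∀ a ∈ E, ∀ b ∈ E, a * b * a⁻¹ * b⁻¹ ∈ Subgroup.center G) :
    E ≤ Subgroup.center G := by
  classical
  by_contra hEZ
  set d : ℂ := (χ : G → ℂ) 1 with hd
  have hd0 : d ≠ 0 := CharTools.irr_apply_one_ne_zero χ
  have hmulc : ∀ {z : G}, z ∈ Subgroup.center G → ∀ x, (χ : G → ℂ) (x * z) * d = (χ : G → ℂ) x * (χ : G → ℂ) z :=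
    fun hz x => CharOver.apply_mul_central χ.2 hz x
  -- the centre of `E` is central
  have hZE : ∀ e ∈ E, (∀ f ∈ E, e * f = f * e) → e ∈ Subgroup.center G := by
    intro e he hc
    let A : Subgroup G := E ⊓ Subgroup.centralizer (E : Set G)
    have : A.Normal := inferInstance
    refine central_of_abelian χ hfaith hk hirr A (fun a ha b hb =>
      (Subgroup.mem_centralizer_iff.mp ha.2 b hb.1).symm) ⟨he, ?_⟩
    exact Subgroup.mem_centralizer_iff.mpr fun f hf => (hc f hf).symm
  -- vanishing off the centre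
  have hvan : ∀ e ∈ E, e ∉ Subgroup.center G → (χ : G → ℂ) e = 0 := by
    intro e he hne
    obtain ⟨f, hf, hfe⟩ : ∃ f ∈ E, e * f ≠ f * e := by
      by_contra hcon
      push Not at hcon
      exact hne (hZE e he hcon)
    set c := f * e * f⁻¹ * e⁻¹ with hc
    have hcz : c ∈ Subgroup.center G := hEE f hf e he
    have h1 : (χ : G → ℂ) (e * c) = (χ : G → ℂ) e := by
      rw [Subgroup.mem_center_iff.mp hcz e, show c * e = f * e * f⁻¹ by rw [hc]; group]
      exact IsIrrCharacter.isClassFunction χ.2 e f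
    have h2 := hmulc hcz e
    rw [h1, mul_eq_mul_left_iff] at h2
    refine h2.resolve_left fun h => hfe ?_
    have hc1 : c = 1 := hfaith c h.symm
    rw [hc, mul_inv_eq_one, mul_inv_eq_iff_eq_mul] at hc1
    exact hc1.symm
  obtain ⟨n, ρ, hρ, hρχ⟩ := χ.2
  let V := Fin n → ℂ
  let L : Representation ℂ G (V →ₗ[ℂ] V) := Representation.linHom ρ ρ
  let W : Submodule ℂ (V →ₗ[ℂ] V) := Submodule.span ℂ (Set.range fun e : E => (ρ e : V →ₗ[ℂ] V))
  have hL : ∀ (g x : G), L g (ρ x) = ρ (g * x * g⁻¹) := fun g x => by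
    show ρ g ∘ₗ ρ x ∘ₗ ρ g⁻¹ = _
    rw [map_mul, map_mul, Module.End.mul_eq_comp, Module.End.mul_eq_comp]
    rfl
  have hW : ∀ g : G, ∀ v ∈ W, L g v ∈ W := by
    intro g v hv
    induction hv using Submodule.span_induction with
    | mem x hx =>
        obtain ⟨e, rfl⟩ := hx
        rw [hL]
        exact Submodule.subset_span ⟨⟨_, ‹E.Normal›.conj_mem e e.2 g⟩, rfl⟩
    | zero => rw [map_zero]; exact zero_mem _
    | add x y _ _ hx hy => rw [map_add]; exact add_mem hx hy
    | smul a x _ hx => rw [map_smul]; exact Submodule.smul_mem _ a hx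
  obtain ⟨W', hW', hcompl⟩ := CharKernel.exists_invariant_compl L W hW
  let SW : Subrepresentation L := ⟨W, fun g v hv => hW g v hv⟩
  let SW' : Subrepresentation L := ⟨W', fun g v hv => hW' g v hv⟩
  set Φ : G → ℂ := Representation.character (V := W) (SW.toRepresentation) with hΦdef
  set R : G → ℂ := Representation.character (V := W') (SW'.toRepresentation) with hRdef
  have hsum : (fun g => (χ : G → ℂ) g * conj ((χ : G → ℂ) g)) = Φ + R := by
    rw [hΦdef, hRdef, ← character_eq_add L SW SW' hcompl]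
    funext g
    rw [Representation.char_linHom, hρχ, IsIrrCharacter.apply_inv χ.2]
    ring
  -- the value of `Φ`
  have : Fintype E := Fintype.ofFinite E
  let ZE : Finset E := Finset.univ.filter fun e => (e : G) ∈ Subgroup.center G
  have hZE0 : (ZE.card : ℂ) ≠ 0 := by
    exact_mod_cast (Finset.card_pos.mpr ⟨(1 : E), Finset.mem_filter.mpr ⟨Finset.mem_univ _, one_mem _⟩⟩ : 0 < ZE.card).ne'
  set c0 : ℂ := ((ZE.card : ℂ) * d)⁻¹ with hc0
  let tr : E → ((V →ₗ[ℂ] V) →ₗ[ℂ] ℂ) := fun e =>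
    (LinearMap.trace ℂ V) ∘ₗ (LinearMap.llcomp ℂ V V V).flip (ρ (e : G)⁻¹)
  have htr : ∀ (e : E) (X : V →ₗ[ℂ] V), tr e X = LinearMap.trace ℂ V (X ∘ₗ ρ (e : G)⁻¹) := fun e X => rfl
  let q : (V →ₗ[ℂ] V) →ₗ[ℂ] W :=
    c0 • ∑ e : E, (tr e).smulRight (⟨ρ e, Submodule.subset_span ⟨e, rfl⟩⟩ : W)
  have hq : ∀ X, ((q X : W) : V →ₗ[ℂ] V) =
      c0 • ∑ e : E, LinearMap.trace ℂ V (X ∘ₗ ρ (e : G)⁻¹) • (ρ e : V →ₗ[ℂ] V) := fun X => by
    simp [q, htr]
  have hscal : ∀ z ∈ Subgroup.center G, (ρ z : V →ₗ[ℂ] V) = ((χ : G → ℂ) z / d) • (1 : V →ₗ[ℂ] V) := by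
    intro z hz
    obtain ⟨c, hc⟩ := exists_scalar_of_commute ρ (ρ z) fun g => by
      rw [← map_mul, ← map_mul, Subgroup.mem_center_iff.mp hz g]
    rw [hc]
    congr 1
    rw [eq_div_iff hd0, hd, ← hρχ]
    simp [Representation.character, hc]
  have htrρ : ∀ x : G, LinearMap.trace ℂ V (ρ x) = (χ : G → ℂ) x := fun x => congrFun hρχ x
  have hqid : ∀ w : W, q w = w := by
    suffices h : ∀ v ∈ W, ((q v : W) : V →ₗ[ℂ] V) = v from fun w => Subtype.ext (h w w.2)
    intro v hv
    induction hv using Submodule.span_induction with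
    | zero => simp
    | add x y _ _ hx hy => rw [map_add, Submodule.coe_add, hx, hy]
    | smul a x _ hx => rw [map_smul, Submodule.coe_smul, hx]
    | mem x hx =>
      obtain ⟨f, rfl⟩ := hx
      rw [hq]
      have hterm : ∀ e : E, LinearMap.trace ℂ V (ρ (f : G) ∘ₗ ρ (e : G)⁻¹) • (ρ (e : G) : V →ₗ[ℂ] V) =
          if ((f * e⁻¹ : E) : G) ∈ Subgroup.center G then d • (ρ (f : G) : V →ₗ[ℂ] V) else 0 := by
        intro e
        rw [show ρ (f : G) ∘ₗ ρ (e : G)⁻¹ = ρ ((f : G) * (e : G)⁻¹) from (map_mul ρ _ _).symm, htrρ]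
        split_ifs with hz
        · have hz' : (f : G) * (e : G)⁻¹ ∈ Subgroup.center G := hz
          have hρf : (ρ (f : G) : V →ₗ[ℂ] V) =
              ((χ : G → ℂ) ((f : G) * (e : G)⁻¹) / d) • (ρ (e : G) : V →ₗ[ℂ] V) := by
            conv_lhs => rw [show (f : G) = (f : G) * (e : G)⁻¹ * e by group, map_mul, hscal _ hz']
            rw [smul_mul_assoc, one_mul]
          rw [hρf, smul_smul, mul_div_cancel₀ _ hd0]
        · have hz' : (f : G) * (e : G)⁻¹ ∉ Subgroup.center G := hz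
          rw [hvan _ (mul_mem f.2 (inv_mem e.2)) hz', zero_smul]
      rw [Finset.sum_congr rfl fun e _ => hterm e, ← Finset.sum_filter, Finset.sum_const]
      have hcount : (Finset.univ.filter fun e : E => ((f * e⁻¹ : E) : G) ∈ Subgroup.center G).card =
          ZE.card := by
        refine Finset.card_bij (fun e _ => f * e⁻¹) (fun e he => ?_) (fun a _ b _ h => ?_) (fun z hz => ?_)
        · exact Finset.mem_filter.mpr ⟨Finset.mem_univ _, (Finset.mem_filter.mp he).2⟩
        · exact inv_injective (mul_left_cancel h)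
        · refine ⟨z⁻¹ * f, Finset.mem_filter.mpr ⟨Finset.mem_univ _, ?_⟩, by group⟩
          rw [show f * (z⁻¹ * f)⁻¹ = z by group]
          exact (Finset.mem_filter.mp hz).2
      rw [hcount, ← Nat.cast_smul_eq_nsmul ℂ, smul_smul, smul_smul, hc0, mul_assoc,
        inv_mul_cancel₀ (mul_ne_zero hZE0 hd0), one_smul]
  have hval : ∀ g : G, Φ g = c0 * ∑ e : E, (χ : G → ℂ) (g * e * g⁻¹ * (e : G)⁻¹) := by
    intro g
    have e1 : SW.toRepresentation g = q ∘ₗ (L g ∘ₗ W.subtype) := by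
      refine LinearMap.ext fun w => Subtype.ext ?_
      have h1 := hqid ⟨L g w, hW g w w.2⟩
      simp only [LinearMap.comp_apply, Submodule.subtype_apply]
      rw [h1]
      rfl
    show LinearMap.trace ℂ W (SW.toRepresentation g) = _
    rw [e1]
    haveI : Module.Free ℂ ↥W := Module.Free.of_divisionRing ℂ ↥W
    refine (LinearMap.trace_comp_comm' (R := ℂ) (M := ↥W) (N := V →ₗ[ℂ] V) (L g ∘ₗ W.subtype) q).trans ?_
    have e2 : (L g ∘ₗ W.subtype) ∘ₗ q =
        c0 • ∑ e : E, (tr e).smulRight (ρ (g * e * g⁻¹) : V →ₗ[ℂ] V) := by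
      refine LinearMap.ext fun X => ?_
      simp only [LinearMap.comp_apply, Submodule.subtype_apply, hq, map_smul, map_sum, hL,
        LinearMap.smul_apply, LinearMap.coe_sum, Finset.sum_apply, LinearMap.smulRight_apply, htr]
    rw [e2, map_smul, map_sum, smul_eq_mul]
    congr 1
    refine Finset.sum_congr rfl fun e _ => ?_
    rw [LinearMap.trace_smulRight, htr,
      show ρ (g * e * g⁻¹) ∘ₗ ρ (e : G)⁻¹ = ρ (g * e * g⁻¹ * (e : G)⁻¹) from (map_mul ρ _ _).symm, htrρ]
  -- it only depends on the cyclic subgroup of `g`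
  let C : G → Subgroup G := fun g =>
    { carrier := {e | e ∈ E ∧ g * e * g⁻¹ * e⁻¹ ∈ Subgroup.center G}
      one_mem' := ⟨one_mem _, by simp⟩
      mul_mem' := fun {a b} ha hb => ⟨mul_mem ha.1 hb.1, by
        have : g * (a * b) * g⁻¹ * (a * b)⁻¹ = (g * a * g⁻¹ * a⁻¹) * (a * (g * b * g⁻¹ * b⁻¹) * a⁻¹) := by
          group
        rw [this]
        exact mul_mem ha.2 ((inferInstance : (Subgroup.center G).Normal).conj_mem _ hb.2 a)⟩
      inv_mem' := fun {a} ha => ⟨inv_mem ha.1, by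
        have : g * a⁻¹ * g⁻¹ * a⁻¹⁻¹ = a⁻¹ * (g * a * g⁻¹ * a⁻¹)⁻¹ * a := by group
        rw [this]
        simpa using (inferInstance : (Subgroup.center G).Normal).conj_mem _ (inv_mem ha.2) a⁻¹⟩ }
  have hCmem : ∀ g e, e ∈ C g ↔ e ∈ E ∧ g * e * g⁻¹ * e⁻¹ ∈ Subgroup.center G := fun g e => Iff.rfl
  have hCk : ∀ g, C (g ^ k) = C g := by
    intro g
    ext e
    rw [hCmem, hCmem]
    refine and_congr_right fun _ => ?_
    have key : ∀ x : G, x * e * x⁻¹ * e⁻¹ ∈ Subgroup.center G ↔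
        x ∈ (Subgroup.centralizer ({(e : G ⧸ Subgroup.center G)} : Set _)).comap
          (QuotientGroup.mk' (Subgroup.center G)) := by
      intro x
      rw [Subgroup.mem_comap, Subgroup.mem_centralizer_singleton_iff, ← QuotientGroup.eq_one_iff]
      simp only [QuotientGroup.mk_mul, QuotientGroup.mk_inv, QuotientGroup.mk'_apply]
      rw [mul_inv_eq_one, mul_inv_eq_iff_eq_mul]
    rw [key, key]
    exact pow_mem_iff hk _ g
  have hcases : ∀ g, (g ∈ Subgroup.centralizer (C g : Set G) →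
      ∑ e : E, (χ : G → ℂ) (g * e * g⁻¹ * (e : G)⁻¹) =
        d * (Nat.card {e : E // (e : G) ∈ C g})) ∧
      (g ∉ Subgroup.centralizer (C g : Set G) →
        ∑ e : E, (χ : G → ℂ) (g * e * g⁻¹ * (e : G)⁻¹) = 0) := by
    intro g
    have hout : ∀ e : E, (e : G) ∉ C g → (χ : G → ℂ) (g * e * g⁻¹ * (e : G)⁻¹) = 0 := fun e he =>
      hvan _ (mul_mem (‹E.Normal›.conj_mem e e.2 g) (inv_mem e.2)) fun h => he ⟨e.2, h⟩
    refine ⟨fun hg => ?_, fun hg => ?_⟩
    · rw [Nat.card_eq_fintype_card, Fintype.card_subtype, Finset.card_eq_sum_ones, Nat.cast_sum,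
        Finset.mul_sum, Finset.sum_filter]
      refine Finset.sum_congr rfl fun e _ => ?_
      split_ifs with he
      · rw [← Subgroup.mem_centralizer_iff.mp hg e he, mul_inv_cancel_right, mul_inv_cancel, hd]
        simp
      · exact hout e he
    · obtain ⟨f, hf, hfg⟩ : ∃ f ∈ C g, g * f ≠ f * g := by
        by_contra hcon
        push Not at hcon
        exact hg (Subgroup.mem_centralizer_iff.mpr fun f hf => (hcon f hf).symm)
      set z := g * f * g⁻¹ * f⁻¹ with hz
      have hzc : z ∈ Subgroup.center G := hf.2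
      have hz1 : (χ : G → ℂ) z ≠ d := fun h => hfg (by
        have := hfaith z h
        rw [hz, mul_inv_eq_one, mul_inv_eq_iff_eq_mul] at this
        exact this)
      -- translation by `f` multiplies each term by a scalar different from one
      have hshift : ∀ e : E, (χ : G → ℂ) (g * ((⟨f, hf.1⟩ : E) * e : E) * g⁻¹ *
          (((⟨f, hf.1⟩ : E) * e : E) : G)⁻¹) * d =
            (χ : G → ℂ) (g * e * g⁻¹ * (e : G)⁻¹) * (χ : G → ℂ) z := by
        intro e
        rw [← hmulc hzc]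
        congr 1
        rw [← IsIrrCharacter.isClassFunction χ.2 (g * e * g⁻¹ * (e : G)⁻¹ * z) f]
        congr 1
        rw [Subgroup.coe_mul, Subgroup.mem_center_iff.mp hzc (g * e * g⁻¹ * (e : G)⁻¹), ← mul_assoc f z,
          Subgroup.mem_center_iff.mp hzc f, hz]
        group
      have hS : (∑ e : E, (χ : G → ℂ) (g * e * g⁻¹ * (e : G)⁻¹)) * d =
          (∑ e : E, (χ : G → ℂ) (g * e * g⁻¹ * (e : G)⁻¹)) * (χ : G → ℂ) z := by
        conv_lhs => rw [Finset.sum_mul, ← Equiv.sum_comp (Equiv.mulLeft (⟨f, hf.1⟩ : E))]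
        simp only [Equiv.coe_mulLeft, hshift, Finset.sum_mul]
      rcases mul_eq_mul_left_iff.mp hS with h | h
      · exact absurd h.symm hz1
      · exact h
  have hcent : ∀ g, g ∈ Subgroup.centralizer (C g : Set G) ↔
      g ^ k ∈ Subgroup.centralizer (C (g ^ k) : Set G) := by
    intro g; rw [hCk, pow_mem_iff hk]
  have hrat : ∀ g, Φ (g ^ k) = Φ g := by
    intro g
    rw [hval, hval]
    congr 1
    by_cases hg : g ∈ Subgroup.centralizer (C g : Set G)
    · rw [(hcases g).1 hg, (hcases _).1 ((hcent g).mp hg), hCk]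
    · rw [(hcases g).2 hg, (hcases _).2 (fun h => hg ((hcent g).mpr h))]
  -- and is not constant
  obtain ⟨e₀, he₀, hne₀⟩ : ∃ e ∈ E, e ∉ Subgroup.center G := by
    by_contra hcon; push Not at hcon; exact hEZ hcon
  obtain ⟨g₀, hg₀⟩ : ∃ g, g * e₀ ≠ e₀ * g := by
    by_contra hcon; push Not at hcon; exact hne₀ (Subgroup.mem_center_iff.mpr hcon)
  have hc0ne : c0 ≠ 0 := inv_ne_zero (mul_ne_zero hZE0 hd0)
  refine no_common χ hk hirr Φ R (isCharacter_character _) (isCharacter_character _) hsum hrat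
    (g₀ := g₀) fun he => ?_
  rw [hval, hval] at he
  have he' := mul_left_cancel₀ hc0ne he
  have hone : (1 : G) ∈ Subgroup.centralizer (C 1 : Set G) := one_mem _
  rw [(hcases 1).1 hone] at he'
  have hall : ∀ e : E, (e : G) ∈ C 1 := fun e => ⟨e.2, by simp⟩
  by_cases hg : g₀ ∈ Subgroup.centralizer (C g₀ : Set G)
  · rw [(hcases g₀).1 hg] at he'
    have hc := Nat.cast_injective (R := ℂ) (mul_left_cancel₀ hd0 he')
    rw [Nat.card_congr (Equiv.subtypeUnivEquiv hall)] at hc
    have := ((Nat.bijective_iff_injective_and_card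
      (Subtype.val : {e : E // (e : G) ∈ C g₀} → E)).mpr ⟨Subtype.val_injective, hc⟩).2 ⟨e₀, he₀⟩
    obtain ⟨⟨x, hx⟩, rfl⟩ := this
    exact hg₀ (Subgroup.mem_centralizer_iff.mp hg _ hx).symm
  · rw [(hcases g₀).2 hg, eq_comm, mul_eq_zero] at he'
    rcases he' with h | h
    · exact hd0 h
    · have : Nonempty {e : E // (e : G) ∈ C 1} := ⟨⟨1, hall 1⟩⟩
      exact Nat.card_pos.ne' (Nat.cast_eq_zero.mp h)

/-- Let G be a finite group with a faithful irreducible character χ (taking the value χ(1) only at the identity) and let k be prime to the order of G, so that g ↦ χ(g^k) is a Galois conjugate of χ. If the pointwise product g ↦ χ(g)·χ(g^k) is again an irreducible character, then the Fitting subgroup of G equals its centre. -/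
theorem result {G : Type*} [Group G] [Finite G] (χ : Cfsg.IrrCharacter G) (hfaith : ∀ g : G, (χ : G → ℂ) g = (χ : G → ℂ) 1 → g = 1) (k : ℕ) (hk : Nat.Coprime k (Nat.card G)) (hirr : Cfsg.IsIrrCharacter G (fun g => (χ : G → ℂ) g * (χ : G → ℂ) (g ^ k))) : Cfsg.fittingSubgroup G = Subgroup.center G := by
  classical
  cases nonempty_fintype G
  refine le_antisymm ?_ (CfsgLib.Solvable.center_le_fittingSubgroup G)
  by_contra hne
  set F := Cfsg.fittingSubgroup G with hF
  have : F.Normal := CfsgLib.Solvable.fittingSubgroup_normal G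
  have := CfsgLib.Solvable.fittingSubgroup_isNilpotent G
  have hsol : Group.IsSolvable F := @IsNilpotent.to_isSolvable _ _ this
  obtain ⟨m, hm⟩ := hsol.solvable
  obtain ⟨j, hj1, hj2⟩ : ∃ j, ¬ (derivedSeries F j).map F.subtype ≤ Subgroup.center G ∧
      (derivedSeries F (j + 1)).map F.subtype ≤ Subgroup.center G := by
    by_contra hcon
    push Not at hcon
    have hall : ∀ j, ¬ (derivedSeries F j).map F.subtype ≤ Subgroup.center G := fun j => by
      induction j with
      | zero => rwa [derivedSeries_zero, ← MonoidHom.range_eq_map, Subgroup.range_subtype]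
      | succ j ih => exact hcon j ih
    exact hall m (by rw [hm, Subgroup.map_bot]; exact bot_le)
  refine hj1 (central_of_commutator χ hfaith hk hirr _ ?_)
  rintro _ ⟨a, ha, rfl⟩ _ ⟨b, hb, rfl⟩
  refine hj2 ⟨⁅a, b⁆, ?_, ?_⟩
  · rw [derivedSeries_succ]; exact Subgroup.commutator_mem_commutator ha hb
  · simp [commutatorElement_def]

end Cfsg.Agent.S4843
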