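import Cfsg.Statements.S4856
import Cfsg.Agent.Lib.Char.DefectZero
import Cfsg.Agent.Lib.Char.Complete

set_option autoImplicit false
open Cfsg

namespace Cfsg.Agent.S4856

/-- For an element z of a finite group G, the number of pairs (x, y) of elements with x y x⁻¹ y⁻¹ = z equals the order of G times the sum over the irreducible characters χ of χ(z)/χ(1). -/
theorem result {G : Type*} [Group G] [Finite G] (z : G) : (Nat.card {xy : G × G // xy.1 * xy.2 * xy.1⁻¹ * xy.2⁻¹ = z} : ℂ) = (Nat.card G : ℂ) * ∑ᶠ χ : Cfsg.IrrCharacter G, (χ : G → ℂ) z / (χ : G → ℂ) 1 := by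
  classical
  haveI := Fintype.ofFinite G
  have hcount : ∀ y : G, (Nat.card {x : G // x * y * x⁻¹ * y⁻¹ = z} : ℂ) =
      ∑ χ : Cfsg.IrrCharacter G, (χ : G → ℂ) (z * y) * (χ : G → ℂ) y⁻¹ := by
    intro y
    simp only [CfsgLib.Char.IsIrrCharacter.apply_inv (Subtype.prop _)]
    rw [CfsgLib.Char.sum_mul_conj]
    split_ifs with h
    · obtain ⟨c, hc⟩ := isConj_iff.mp h.symm
      congr 1
      rw [show Subgroup.centralizer ({z * y} : Set G) = Subgroup.centralizer {c * y * c⁻¹} by rw [hc]]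
      refine Nat.card_congr ⟨fun x => ⟨x.1 * c⁻¹, ?_⟩, fun a => ⟨a.1 * c, ?_⟩,
        fun x => Subtype.ext (inv_mul_cancel_right _ _), fun a => Subtype.ext (mul_inv_cancel_right _ _)⟩
      · have hx : x.1 * y * x.1⁻¹ = z * y := by rw [← mul_inv_eq_iff_eq_mul.mp x.2]
        refine Subgroup.mem_centralizer_iff.mpr fun g hg => ?_
        rw [Set.mem_singleton_iff] at hg
        subst hg
        calc c * y * c⁻¹ * (x.1 * c⁻¹) = x.1 * y * x.1⁻¹ * (x.1 * c⁻¹) := by rw [hx, hc]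
          _ = x.1 * c⁻¹ * (c * y * c⁻¹) := by group
      · have ha := Subgroup.mem_centralizer_iff.mp a.2 (c * y * c⁻¹) rfl
        calc a.1 * c * y * (a.1 * c)⁻¹ * y⁻¹ = a.1 * (c * y * c⁻¹) * a.1⁻¹ * y⁻¹ := by group
          _ = z := by rw [← ha, mul_inv_cancel_right, hc, mul_inv_cancel_right]
    · haveI : IsEmpty {x : G // x * y * x⁻¹ * y⁻¹ = z} :=
        ⟨fun x => h (IsConj.symm (isConj_iff.mpr ⟨x.1, mul_inv_eq_iff_eq_mul.mp x.2⟩))⟩
      rw [Nat.card_of_isEmpty, Nat.cast_zero]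
  have hsplit : Nat.card {xy : G × G // xy.1 * xy.2 * xy.1⁻¹ * xy.2⁻¹ = z} =
      ∑ y : G, Nat.card {x : G // x * y * x⁻¹ * y⁻¹ = z} := by
    rw [← Nat.card_sigma]
    exact Nat.card_congr ⟨fun a => ⟨a.1.2, ⟨a.1.1, a.2⟩⟩, fun a => ⟨(a.2.1, a.1), a.2.2⟩,
      fun _ => rfl, fun _ => rfl⟩
  rw [hsplit, Nat.cast_sum, Finset.sum_congr rfl fun y _ => hcount y, Finset.sum_comm,
    finsum_eq_sum_of_fintype, Finset.mul_sum]
  refine Finset.sum_congr rfl fun χ _ => ?_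
  obtain ⟨n, ρ, hρ, he⟩ := χ.2
  haveI := hρ
  have h := CfsgLib.Char.sum_char_inv_mul_char ρ z
  rw [he] at h
  have h1 : (χ : G → ℂ) 1 = (Module.finrank ℂ (Fin n → ℂ) : ℂ) := by rw [← he, Representation.char_one]
  rw [h1, show (Nat.card G : ℂ) * ((χ : G → ℂ) z / (Module.finrank ℂ (Fin n → ℂ) : ℂ)) =
    (Nat.card G : ℂ) / (Module.finrank ℂ (Fin n → ℂ) : ℂ) * (χ : G → ℂ) z by ring, ← h]
  refine Finset.sum_congr rfl fun y _ => ?_
  rw [CfsgLib.Char.IsClassFunction.mul_comm' (CfsgLib.Char.IsIrrCharacter.isClassFunction χ.2)]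
  ring

end Cfsg.Agent.S4856
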