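import Cfsg.Statements.S4859
import Cfsg.Agent.Lib.RealChar.Indicator

set_option autoImplicit false
open Cfsg

namespace Cfsg.Agent.S4859

/-- Let p be an odd prime, G a finite group and x an element of G whose order is a power of p (possibly 1) and whose centralizer has even order. Let y be a 2-element of the centralizer of x whose order is largest among the 2-elements of that centralizer. Then x * y is not a square in G, and some non-principal real-valued irreducible character of G does not vanish at x * y. -/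
theorem result {G : Type*} [Group G] [Finite G] (p : ℕ) [Fact p.Prime] (hp : p ≠ 2) (x : G) (hx : ∃ k : ℕ, orderOf x = p ^ k) (heven : Even (Nat.card (Subgroup.centralizer ({x} : Set G)))) (y : G) (hy : y ∈ Subgroup.centralizer ({x} : Set G)) (hy2 : ∃ k : ℕ, orderOf y = 2 ^ k) (hmax : ∀ z ∈ Subgroup.centralizer ({x} : Set G), (∃ k : ℕ, orderOf z = 2 ^ k) → orderOf z ≤ orderOf y) : (¬ ∃ u : G, u * u = x * y) ∧ ∃ χ : Cfsg.IrrCharacter G, ¬ ((χ : G → ℂ) = fun _ => (1 : ℂ)) ∧ (∀ g : G, ((χ : G → ℂ) g).im = 0) ∧ (χ : G → ℂ) (x * y) ≠ 0 := by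
  classical
  haveI := Fintype.ofFinite G
  obtain ⟨k, hk⟩ := hx
  obtain ⟨j, hj⟩ := hy2
  have hxy : Commute x y := Subgroup.mem_centralizer_iff.mp hy x rfl
  obtain ⟨t, ht⟩ := exists_prime_orderOf_dvd_card' 2 (even_iff_two_dvd.mp heven)
  have hj0 : j ≠ 0 := by
    rintro rfl
    have := hmax t t.2 ⟨1, by rw [Subgroup.orderOf_coe, ht, pow_one]⟩
    rw [Subgroup.orderOf_coe, ht, hj] at this
    omega
  have hodd : Odd (p ^ k) := ((Fact.out : p.Prime).odd_of_ne_two hp).pow
  have hno : ¬ ∃ u : G, u * u = x * y := by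
    rintro ⟨u, hu⟩
    have hcop : Nat.Coprime (p ^ k) (2 ^ j) := (Nat.coprime_two_right.mpr hodd).pow_right j
    obtain ⟨r, hr1, hr2⟩ := Nat.chineseRemainder hcop 1 0
    have hux : Commute u x := by
      have h1 : Commute u ((u * u) ^ r) := ((Commute.refl u).mul_right (Commute.refl u)).pow_right r
      rw [hu, hxy.mul_pow] at h1
      have h2 : x ^ r = x := by
        conv_rhs => rw [← pow_one x]
        rw [pow_eq_pow_iff_modEq, hk]
        exact hr1
      have h3 : y ^ r = 1 := by
        rw [← orderOf_dvd_iff_pow_eq_one, hj]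
        exact Nat.modEq_zero_iff_dvd.mp hr2
      rwa [h2, h3, mul_one] at h1
    have hz : u ^ p ^ k * u ^ p ^ k = y ^ p ^ k := by
      rw [← (Commute.refl u).mul_pow, hu, hxy.mul_pow, show x ^ p ^ k = 1 by
        rw [← hk, pow_orderOf_eq_one], one_mul]
    have hyk : orderOf (y ^ p ^ k) = 2 ^ j := by
      rw [Nat.Coprime.orderOf_pow (by rw [hj]; exact hcop.symm), hj]
    have hord : orderOf (u ^ p ^ k) = 2 ^ (j + 1) := by
      refine orderOf_eq_prime_pow ?_ ?_
      · intro h
        obtain ⟨i, rfl⟩ := Nat.exists_eq_succ_of_ne_zero hj0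
        rw [pow_succ', pow_mul, pow_two, hz] at h
        have := orderOf_dvd_of_pow_eq_one h
        rw [hyk, Nat.pow_dvd_pow_iff_le_right (by norm_num)] at this
        omega
      · rw [pow_succ', pow_mul, pow_two, hz, ← hyk, pow_orderOf_eq_one]
    have := hmax (u ^ p ^ k) (Subgroup.mem_centralizer_iff.mpr fun a ha => by
      rw [Set.mem_singleton_iff] at ha
      subst ha
      exact (hux.pow_left _).eq.symm) ⟨j + 1, hord⟩
    rw [hord, hj] at this
    exact absurd this (not_le.mpr (Nat.pow_lt_pow_right (by norm_num) (by omega)))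
  refine ⟨hno, ?_⟩
  by_contra hcon
  push Not at hcon
  have h := CfsgLib.RealChar.sum_fsInd_mul_apply (x * y)
  haveI : IsEmpty {u : G // u * u = x * y} := ⟨fun u => hno ⟨u.1, u.2⟩⟩
  rw [Nat.card_of_isEmpty, Nat.cast_zero,
    Finset.sum_eq_single (CfsgLib.Char.principalIrr : Cfsg.IrrCharacter G)] at h
  · have e : ((CfsgLib.Char.principalIrr : Cfsg.IrrCharacter G) : G → ℂ) = fun _ => 1 := rfl
    rw [e, CfsgLib.RealChar.fsInd_principal, one_mul] at h
    exact one_ne_zero h
  · intro χ _ hχ
    by_cases hν : CfsgLib.RealChar.fsInd (χ : G → ℂ) = 0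
    · rw [hν, zero_mul]
    · rw [hcon χ (fun e => hχ (Subtype.ext e))
        (CfsgLib.RealChar.im_eq_zero_of_fsInd_ne_zero χ.2 hν), mul_zero]
  · intro h'
    exact absurd (Finset.mem_univ _) h'

end Cfsg.Agent.S4859
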