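import Cfsg.Statements.S4862
import Cfsg.Agent.Lib.RealChar.RootCount
import Cfsg.Agent.Lib.RealChar.FS
import Cfsg.Agent.Lib.RealChar.FixedVectors

set_option autoImplicit false
open Cfsg

namespace Cfsg.Agent.S4862

/-- Let p be an odd prime and G a finite group such that the subgroup generated by the p-elements of G is solvable and every real-valued irreducible complex character of G has degree prime to p. Let K be the subgroup generated by the 2-elements of G and P a Sylow p-subgroup of G. Then every normal subgroup M of G contained in K and in the derived subgroup of P is centralized by K. -/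
theorem result {G : Type*} [Group G] [Finite G] (p : ℕ) [Fact p.Prime] (hp : p ≠ 2) (hsolv : Group.IsSolvable ↥(Subgroup.closure {g : G | ∃ k : ℕ, orderOf g = p ^ k})) (hreal : ∀ χ : Cfsg.IrrCharacter G, (∀ g : G, ((χ : G → ℂ) g).im = 0) → ¬ p ∣ Cfsg.charDegree (χ : G → ℂ)) (P : Sylow p G) (M : Subgroup G) (hM : M.Normal) (hMK : M ≤ (Subgroup.closure {g : G | ∃ k : ℕ, orderOf g = 2 ^ k})) (hMP : M ≤ ⁅(P : Subgroup G), (P : Subgroup G)⁆) : (Subgroup.closure {g : G | ∃ k : ℕ, orderOf g = 2 ^ k}) ≤ Subgroup.centralizer (M : Set G) := by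
  classical
  haveI := Fintype.ofFinite G
  haveI := hM
  rw [Subgroup.closure_le]
  rintro t ⟨j, hj⟩
  rw [SetLike.mem_coe, Subgroup.mem_centralizer_iff]
  intro m hm
  have hmP : m ∈ (P : Subgroup G) :=
    (Subgroup.commutator_le.mpr (fun a ha b hb =>
      (P : Subgroup G).mul_mem ((P : Subgroup G).mul_mem ((P : Subgroup G).mul_mem ha hb)
        ((P : Subgroup G).inv_mem ha)) ((P : Subgroup G).inv_mem hb))) (hMP hm)
  obtain ⟨k, hk⟩ := IsPGroup.iff_orderOf.mp P.isPGroup' ⟨m, hmP⟩
  have hodd : Odd (orderOf m) := by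
    rw [Subgroup.orderOf_mk] at hk
    rw [hk]
    exact ((Fact.out : p.Prime).odd_of_ne_two hp).pow
  have hkey : ∀ (n : ℕ) (ρ : Representation ℂ G (Fin n → ℂ)), ρ.IsIrreducible →
      (∀ g, (ρ.character g).im = 0) → ρ m = 1 := by
    intro n ρ hρ hr
    haveI := hρ
    have hd := hreal ⟨ρ.character, n, ρ, hρ, rfl⟩ hr
    refine CfsgLib.RealChar.apply_eq_one_of_le_commutator (p := p) ρ ?_ (P : Subgroup G) M
      P.isPGroup' hMP m hm
    simpa [Cfsg.charDegree] using hd
  exact (CfsgLib.RealChar.commute_of_forall_card_roots_eq hodd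
    (fun s _ => CfsgLib.RealChar.card_roots_mul_eq m hkey s) j t
    (by rw [← hj]; exact pow_orderOf_eq_one t)).eq.symm

end Cfsg.Agent.S4862
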