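import Cfsg.Statements.S4866
import Cfsg.Agent.Lib.RealChar.OddIndex

set_option autoImplicit false
open Cfsg

namespace Cfsg.Agent.S4866

/-- Let K be a normal subgroup of odd index in the finite group G. Then G has as many orbits on the real-valued irreducible complex characters of K (acting by conjugation) as it has orbits on the conjugacy classes of K that are real in K; equivalently, the number of G-orbits of real-valued irreducible characters of K equals the number of G-conjugacy classes of elements of K that are conjugate in K to their inverses. -/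
theorem result {G : Type*} [Group G] [Finite G] (K : Subgroup G) [K.Normal] (hodd : Odd K.index) : Nat.card (Quot (fun θ η : {θ : Cfsg.IrrCharacter ↥K // (∀ k : ↥K, ((θ : ↥K → ℂ) k).im = 0)} => ∃ g : G, ∀ k k' : ↥K, (k' : G) = g * (k : G) * g⁻¹ → (η.1 : ↥K → ℂ) k' = (θ.1 : ↥K → ℂ) k)) = Nat.card (Quot (fun x y : {x : ↥K // IsConj x x⁻¹} => ∃ g : G, (y.1 : G) = g * x.1 * g⁻¹)) := by
  classical
  have hcf : ∀ θ η : CfsgLib.RealChar.RealIrr K,
      (∃ g : G, ∀ k k' : ↥K, (k' : G) = g * (k : G) * g⁻¹ →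
        (η.1 : ↥K → ℂ) k' = (θ.1 : ↥K → ℂ) k) ↔
      MulAction.orbitRel G (CfsgLib.RealChar.RealIrr K) θ η := by
    intro θ η
    constructor
    · rintro ⟨g, hg⟩
      refine ⟨g⁻¹, Subtype.ext (Subtype.ext ?_)⟩
      funext k
      change CfsgLib.CharTwist.conjFun K (η.1 : ↥K → ℂ) (g⁻¹)⁻¹ k = _
      rw [inv_inv]
      exact hg k _ rfl
    · rintro ⟨g, rfl⟩
      refine ⟨g⁻¹, fun k k' hk => ?_⟩
      refine congrArg (η.1 : ↥K → ℂ) (Subtype.ext ?_)
      rw [hk]
  have e1 := Nat.card_congr (Quot.congrRight (r := fun θ η : CfsgLib.RealChar.RealIrr K =>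
      ∃ g : G, ∀ k k' : ↥K, (k' : G) = g * (k : G) * g⁻¹ →
        (η.1 : ↥K → ℂ) k' = (θ.1 : ↥K → ℂ) k) hcf)
  refine e1.trans ((CfsgLib.RealChar.card_realIrr_orbits hodd).trans ?_)
  let f : {x : ↥K // IsConj x x⁻¹} → CfsgLib.RealChar.RealClass K := fun x =>
    ⟨ConjClasses.mk x.1, fun k hk => by
      rw [ConjClasses.mk_eq_mk_iff_isConj] at hk
      obtain ⟨c, hc⟩ := isConj_iff.mp hk
      exact hk.trans (x.2.trans (isConj_iff.mpr ⟨c⁻¹, by rw [← hc]; group⟩))⟩
  let F : Quot (fun x y : {x : ↥K // IsConj x x⁻¹} => ∃ g : G, (y.1 : G) = g * x.1 * g⁻¹) →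
      MulAction.orbitRel.Quotient G (CfsgLib.RealChar.RealClass K) :=
    Quot.lift (fun x => Quotient.mk _ (f x)) (by
      rintro x y ⟨g, hg⟩
      refine Quotient.sound ⟨g⁻¹, Subtype.ext ?_⟩
      change g⁻¹ • ConjClasses.mk y.1 = ConjClasses.mk x.1
      rw [CfsgLib.RealChar.smul_mk]
      exact congrArg ConjClasses.mk
        (Subtype.ext (by simp [MulAut.conjNormal_apply, hg, mul_assoc])))
  refine (Nat.card_congr (Equiv.ofBijective F ⟨?_, ?_⟩)).symm
  · rintro ⟨x⟩ ⟨y⟩ h
    obtain ⟨g, hg⟩ := Quotient.exact h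
    have hg' : g • ConjClasses.mk y.1 = ConjClasses.mk x.1 := congrArg Subtype.val hg
    rw [CfsgLib.RealChar.smul_mk, ConjClasses.mk_eq_mk_iff_isConj] at hg'
    obtain ⟨c, hc⟩ := isConj_iff.mp hg'
    refine Quot.sound ⟨((c : G) * g)⁻¹, ?_⟩
    have h2 : (x.1 : G) = (c : G) * (g * y.1 * g⁻¹) * (c : G)⁻¹ := by
      rw [← congrArg Subtype.val hc]
      simp [MulAut.conjNormal_apply]
    rw [h2]
    group
  · intro q
    induction q using Quotient.inductionOn with
    | h C =>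
      obtain ⟨a, ha⟩ := ConjClasses.mk_surjective C.1
      exact ⟨Quot.mk _ ⟨a, C.2 a ha⟩, congrArg (Quotient.mk _) (Subtype.ext ha)⟩

end Cfsg.Agent.S4866
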