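import Cfsg.Statements.S4871
import Cfsg.Agent.Lib.RealChar.Dihedral

set_option autoImplicit false
open Cfsg

namespace Cfsg.Agent.S4871

/-- Let G be a finite group that is the semidirect product of a normal elementary abelian subgroup N of odd order by a non-trivial 2-subgroup P, with N the unique minimal normal subgroup of G. Consider the strongly real irreducible complex characters of G (Frobenius–Schur indicator +1) whose degree is 1 or even. Then their average degree is at least 4/3: four times their number is at most three times the sum of their degrees. -/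
theorem result {G : Type*} [Group G] [Finite G] (N P : Subgroup G) (hN : N.Normal) (q : ℕ) [Fact q.Prime] (hq : q ≠ 2) (hNel : Cfsg.IsElementaryAbelian q N) (hP : IsPGroup 2 ↥P) (hP1 : P ≠ ⊥) (hdisj : N ⊓ P = ⊥) (hprod : N ⊔ P = ⊤) (hmin : N ≠ ⊥ ∧ ∀ M : Subgroup G, M.Normal → M ≠ ⊥ → N ≤ M) : 4 * Nat.card {χ : Cfsg.IrrCharacter G // (Cfsg.charDegree (χ : G → ℂ) = 1 ∨ 2 ∣ Cfsg.charDegree (χ : G → ℂ)) ∧ (Nat.card G : ℂ)⁻¹ * ∑ᶠ g : G, (χ : G → ℂ) (g * g) = 1} ≤ 3 * (∑ᶠ χ : {χ : Cfsg.IrrCharacter G // (Cfsg.charDegree (χ : G → ℂ) = 1 ∨ 2 ∣ Cfsg.charDegree (χ : G → ℂ)) ∧ (Nat.card G : ℂ)⁻¹ * ∑ᶠ g : G, (χ : G → ℂ) (g * g) = 1}, Cfsg.charDegree (χ.1 : G → ℂ)) := by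
  classical
  letI : Fintype G := Fintype.ofFinite G
  obtain ⟨D, hD2, hDe, hD⟩ := CfsgLib.RealChar.strongly_real_even_degree_bound N P hN q hq
    (fun a ha b hb => by
      haveI := hNel.1
      exact congrArg Subtype.val (mul_comm' (⟨a, ha⟩ : N) ⟨b, hb⟩))
    hNel.2 hP hP1 hdisj hprod hmin.1 hmin.2
  simp only [← CfsgLib.RealChar.fsInd_eq_finsum]
  letI : Fintype (Cfsg.IrrCharacter G) := Fintype.ofFinite _
  let d : Cfsg.IrrCharacter G → ℕ := fun χ => Cfsg.charDegree (χ : G → ℂ)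
  let s := Finset.univ.filter fun χ : Cfsg.IrrCharacter G =>
    (d χ = 1 ∨ 2 ∣ d χ) ∧ CfsgLib.RealChar.fsInd (χ : G → ℂ) = 1
  let A := Finset.univ.filter fun χ : Cfsg.IrrCharacter G =>
    d χ = 1 ∧ CfsgLib.RealChar.fsInd (χ : G → ℂ) = 1
  let B := Finset.univ.filter fun χ : Cfsg.IrrCharacter G =>
    d χ = D ∧ CfsgLib.RealChar.fsInd (χ : G → ℂ) = 1
  rw [finsum_eq_sum_of_fintype, ← Finset.sum_subtype s (by simp [s, d, CfsgLib.RealChar.fsInd_eq_finsum]) d, Nat.card_eq_fintype_card,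
    Fintype.card_subtype]
  rw [Nat.card_eq_fintype_card, Fintype.card_subtype, Nat.card_eq_fintype_card,
    Fintype.card_subtype] at hD
  change 4 * s.card ≤ 3 * ∑ χ ∈ s, d χ
  replace hD : A.card ≤ D * B.card := hD
  have hpos : ∀ χ, 0 < d χ := fun χ => CfsgLib.Char.IsIrrCharacter.degree_pos χ.2
  have key : ∀ χ ∈ s, (4 : ℕ) + (if χ ∈ B then D else 0) ≤ 3 * d χ + (if χ ∈ A then 1 else 0) := by
    intro χ hχ
    simp only [s, Finset.mem_filter, Finset.mem_univ, true_and] at hχ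
    simp only [A, B, Finset.mem_filter, Finset.mem_univ, true_and, hχ.2, and_true]
    rcases hχ.1 with h | h
    · rw [if_neg (by omega), if_pos h, h]
    · obtain ⟨k, hk⟩ := h
      have := hpos χ
      rw [if_neg (show ¬ d χ = 1 by omega)]
      split_ifs with h' <;> omega
  have hsum := Finset.sum_le_sum key
  simp only [Finset.sum_add_distrib, Finset.sum_const, smul_eq_mul, ← Finset.mul_sum,
    Finset.sum_ite_mem] at hsum
  have hsA : (s ∩ A) = A := Finset.inter_eq_right.mpr fun χ hχ => by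
    simp only [A, s, Finset.mem_filter, Finset.mem_univ, true_and] at hχ ⊢
    exact ⟨Or.inl hχ.1, hχ.2⟩
  have hsB : (s ∩ B) = B := Finset.inter_eq_right.mpr fun χ hχ => by
    simp only [B, s, Finset.mem_filter, Finset.mem_univ, true_and] at hχ ⊢
    exact ⟨Or.inr (hχ.1 ▸ hDe), hχ.2⟩
  rw [hsA, hsB, mul_one] at hsum
  rw [mul_comm B.card D] at hsum
  omega

end Cfsg.Agent.S4871
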