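import Cfsg.Statements.S4873
import Cfsg.Agent.Lib.RealChar.OddIndex

set_option autoImplicit false
open Cfsg

namespace Cfsg.Agent.S4873

/-- Let N be a normal subgroup of odd index in the finite group G. Then every irreducible complex character of N with Frobenius–Schur indicator +1 lies under exactly one irreducible character of G with Frobenius–Schur indicator +1. -/
theorem result {G : Type*} [Group G] [Finite G] (N : Subgroup G) [N.Normal] (hodd : Odd N.index) (φ : Cfsg.IrrCharacter ↥N) (hφ : (Nat.card ↥N : ℂ)⁻¹ * ∑ᶠ g : ↥N, (φ : ↥N → ℂ) (g * g) = 1) : ∃! χ : Cfsg.IrrCharacter G, (Nat.card G : ℂ)⁻¹ * ∑ᶠ g : G, (χ : G → ℂ) (g * g) = 1 ∧ (∑ᶠ n : ↥N, (χ : G → ℂ) n * (starRingEnd ℂ) ((φ : ↥N → ℂ) n)) ≠ 0 := by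
  classical
  haveI := Fintype.ofFinite G
  have hφ' : CfsgLib.RealChar.fsInd (φ : ↥N → ℂ) = 1 := by
    rw [CfsgLib.RealChar.fsInd_eq_finsum]; exact hφ
  have hreal : ∀ k : ↥N, ((φ : ↥N → ℂ) k).im = 0 :=
    CfsgLib.RealChar.im_eq_zero_of_fsInd_ne_zero φ.2 (by rw [hφ']; exact one_ne_zero)
  have hmult : ∀ χ : Cfsg.IrrCharacter G,
      CfsgLib.RealChar.mult (χ : G → ℂ) (φ : ↥N → ℂ) ≠ 0 ↔
        (∑ᶠ n : ↥N, (χ : G → ℂ) n * (starRingEnd ℂ) ((φ : ↥N → ℂ) n)) ≠ 0 := fun χ => by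
    simp [CfsgLib.RealChar.mult, Cfsg.classInner, finsum_eq_sum_of_fintype]
  obtain ⟨χ, hχ, huniq⟩ := CfsgLib.RealChar.existsUnique_real_above hodd ⟨φ, hreal⟩
  refine ⟨χ, ⟨?_, (hmult χ).mp hχ.2⟩, ?_⟩
  · show (Nat.card G : ℂ)⁻¹ * ∑ᶠ g : G, (χ : G → ℂ) (g * g) = 1
    rw [← CfsgLib.RealChar.fsInd_eq_finsum,
      (CfsgLib.RealChar.mult_fsInd_of_real_above hodd ⟨φ, hreal⟩ hχ.1 hχ.2).2, hφ']
  · rintro ψ ⟨h1, h2⟩
    refine huniq ψ ⟨CfsgLib.RealChar.im_eq_zero_of_fsInd_ne_zero ψ.2 ?_, (hmult ψ).mpr h2⟩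
    rw [CfsgLib.RealChar.fsInd_eq_finsum, h1]
    exact one_ne_zero

end Cfsg.Agent.S4873
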