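import Cfsg.Statements.S4890
import Cfsg.Agent.Lib.Blocks.EqualDegrees.Criterion
import Cfsg.Agent.Lib.Blocks.EqualDegrees.Nilpotent
-- import your own Cfsg.Agent.* helpers here

set_option autoImplicit false
open Cfsg

namespace Cfsg.Agent.S4890

/-- Let G be a finite group, p a prime, M a maximal ideal of the algebraic integers containing p, and B a p-block of G with a defect group that is normal in G. Then all height-zero irreducible characters of B have the same degree if and only if B is a nilpotent block. -/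
theorem result {G : Type*} [Group G] [Finite G] (p : ℕ) [Fact p.Prime] (M : Ideal Cfsg.AlgInt) (hM : Cfsg.IsPModular p M) (B : Set (Cfsg.IrrCharacter G)) (hB : Cfsg.IsPBlock M B) (D : Subgroup G) (hD : Cfsg.IsDefectGroup p M B D) (hDn : D.Normal) : (∃ d : ℕ, ∀ χ : Cfsg.IrrCharacter G, χ ∈ B → Cfsg.blockHeight p B (χ : G → ℂ) = 0 → Cfsg.charDegree (χ : G → ℂ) = d) ↔ Cfsg.IsNilpotentBlock p M B := by
  classical
  haveI := Fintype.ofFinite G
  haveI : M.IsMaximal := hM.2.1
  haveI : D.Normal := hDn
  haveI : (Subgroup.centralizer (D : Set G)).Normal := Subgroup.normal_centralizer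
  set L := D ⊔ Subgroup.centralizer (D : Set G) with hL
  haveI : L.Normal := Subgroup.sup_normal _ _
  haveI := Fintype.ofFinite L
  obtain ⟨b, θ, T, h⟩ := CfsgLib.EqualDeg.exists_rootData hM hB hD hL
  rw [h.isNilpotentBlock_iff]
  exact ⟨fun ⟨_, hd⟩ => h.eq_of_equalDegrees hd,
    fun hT => ⟨_, fun χ hχ h0 => h.degree_eq hT hχ h0⟩⟩

end Cfsg.Agent.S4890
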