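import Cfsg.Statements.S4892
import Cfsg.Agent.Lib.BlockPrincipal.RationalExtension

set_option autoImplicit false
open Cfsg

namespace Cfsg.Agent.S4892

/-- Let p be an odd prime, M a maximal ideal of the algebraic integers containing p, N a normal subgroup of the finite group G, and θ an irreducible character of N that is G-invariant, of degree prime to p, p-rational (values in the field generated over ℚ by a root of unity of order prime to p) and lies in the principal p-block of N. Let Q be a Sylow p-subgroup of N and suppose the index of N·C_G(Q) in G is a power of p. Then θ extends to a p-rational irreducible character of G lying in the principal p-block of G. -/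
theorem result {G : Type*} [Group G] [Finite G] (p : ℕ) [Fact p.Prime] (hp : p ≠ 2) (M : Ideal Cfsg.AlgInt) (hM : Cfsg.IsPModular p M) (N : Subgroup G) [N.Normal] (θ : Cfsg.IrrCharacter ↥N) (hinv : ∀ g : G, ∀ n n' : ↥N, (n' : G) = g * (n : G) * g⁻¹ → (θ : ↥N → ℂ) n' = (θ : ↥N → ℂ) n) (hdeg : ¬ p ∣ Cfsg.charDegree (θ : ↥N → ℂ)) (hrat : ∃ m : ℕ, ¬ p ∣ m ∧ ∀ n : ↥N, (θ : ↥N → ℂ) n ∈ IntermediateField.adjoin ℚ ({Complex.exp (2 * Real.pi * Complex.I / m)} : Set ℂ)) (hB : θ ∈ Cfsg.principalBlock M ↥N) (Q : Sylow p ↥N) (hidx : ∃ a : ℕ, (N ⊔ Subgroup.centralizer (((Q : Subgroup ↥N).map N.subtype : Subgroup G) : Set G)).index = p ^ a) : ∃ χ : Cfsg.IrrCharacter G, χ ∈ (Cfsg.principalBlock M G) ∧ (∃ n : ℕ, ¬ p ∣ n ∧ ∀ g : G, (χ : G → ℂ) g ∈ IntermediateField.adjoin ℚ ({Complex.exp (2 * Real.pi * Complex.I / n)} : Set ℂ)) ∧ ∀ n : ↥N, (χ : G → ℂ) n = (θ : ↥N → ℂ) n := by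
  classical
  let _ := Fintype.ofFinite G
  let _ := Fintype.ofFinite N
  obtain ⟨mθ, hmθ, hrat⟩ := hrat
  obtain ⟨a, hidx⟩ := hidx
  set P : Subgroup G := (Q : Subgroup N).map N.subtype with hPdef
  set C : Subgroup G := Subgroup.centralizer (P : Set G) with hC
  have hPN : P ≤ N := Subgroup.map_subtype_le _
  have hPS : ¬ p ∣ P.relIndex N := by
    rw [Subgroup.relIndex, Subgroup.subgroupOf, hPdef,
      Subgroup.comap_map_eq_self_of_injective N.subtype_injective]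
    exact Q.not_dvd_index
  have hnorm : (N ⊔ C).Normal := by
    refine ⟨fun m hm g => ?_⟩
    have hg : g ∈ Subgroup.normalizer (P : Set G) ⊔ N := by
      rw [hPdef, Sylow.normalizer_sup_eq_top Q]; exact Subgroup.mem_top g
    rw [← SetLike.mem_coe, Subgroup.mul_normal] at hg
    obtain ⟨x, hx, n, hn, rfl⟩ := Set.mem_mul.1 hg
    rw [← SetLike.mem_coe, Subgroup.normal_mul] at hm
    obtain ⟨n₁, hn₁, c, hc, rfl⟩ := Set.mem_mul.1 hm
    have hn' : n ∈ N ⊔ C := Subgroup.mem_sup_left hn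
    have h1 : x * c * x⁻¹ ∈ C := by
      refine Subgroup.mem_centralizer_iff.2 fun u hu => ?_
      have hxu : x⁻¹ * u * x ∈ P := (Subgroup.mem_normalizer_iff''.1 hx u).1 hu
      have h2 := Subgroup.mem_centralizer_iff.1 hc _ hxu
      calc u * (x * c * x⁻¹) = x * (x⁻¹ * u * x * c) * x⁻¹ := by group
        _ = x * (c * (x⁻¹ * u * x)) * x⁻¹ := by rw [h2]
        _ = x * c * x⁻¹ * u := by group
    have h3 : n * (n₁ * c) * n⁻¹ ∈ N ⊔ C :=
      (N ⊔ C).mul_mem ((N ⊔ C).mul_mem hn'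
        ((N ⊔ C).mul_mem (Subgroup.mem_sup_left hn₁) (Subgroup.mem_sup_right hc)))
        ((N ⊔ C).inv_mem hn')
    rw [← SetLike.mem_coe, Subgroup.normal_mul] at h3
    obtain ⟨n₂, hn₂, c₂, hc₂, h4⟩ := Set.mem_mul.1 h3
    have h5 : x * c₂ * x⁻¹ ∈ C := by
      refine Subgroup.mem_centralizer_iff.2 fun u hu => ?_
      have hxu : x⁻¹ * u * x ∈ P := (Subgroup.mem_normalizer_iff''.1 hx u).1 hu
      have h2 := Subgroup.mem_centralizer_iff.1 hc₂ _ hxu
      calc u * (x * c₂ * x⁻¹) = x * (x⁻¹ * u * x * c₂) * x⁻¹ := by group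
        _ = x * (c₂ * (x⁻¹ * u * x)) * x⁻¹ := by rw [h2]
        _ = x * c₂ * x⁻¹ * u := by group
    have h6 : x * n * (n₁ * c) * (x * n)⁻¹ = (x * n₂ * x⁻¹) * (x * c₂ * x⁻¹) := by
      calc x * n * (n₁ * c) * (x * n)⁻¹ = x * (n * (n₁ * c) * n⁻¹) * x⁻¹ := by group
        _ = x * (n₂ * c₂) * x⁻¹ := by rw [h4]
        _ = _ := by group
    rw [h6]
    exact Subgroup.mul_mem_sup (Subgroup.Normal.conj_mem inferInstance _ hn₂ x) h5
  have hreg : ∀ g : G, ¬ p ∣ orderOf (g : G ⧸ N) → ∃ c ∈ C, g⁻¹ * c ∈ N := by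
    intro g hg
    have h1 : orderOf (g : G ⧸ (N ⊔ C)) ∣ p ^ a := by
      rw [← hidx, Subgroup.index_eq_card]; exact orderOf_dvd_natCard _
    have h2 : orderOf (g : G ⧸ (N ⊔ C)) ∣ orderOf (g : G ⧸ N) := by
      refine orderOf_dvd_of_pow_eq_one ?_
      rw [← QuotientGroup.mk_pow, QuotientGroup.eq_one_iff]
      refine Subgroup.mem_sup_left ?_
      rw [← QuotientGroup.eq_one_iff, QuotientGroup.mk_pow, pow_orderOf_eq_one]
    have h3 : (g : G ⧸ (N ⊔ C)) = 1 := by
      rw [← orderOf_eq_one_iff]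
      exact Nat.dvd_one.1 ((Nat.Coprime.pow_left a
        ((Fact.out : p.Prime).coprime_iff_not_dvd.2 hg)) ▸ Nat.dvd_gcd h1 h2)
    rw [QuotientGroup.eq_one_iff, ← SetLike.mem_coe, Subgroup.normal_mul] at h3
    obtain ⟨n, hn, c, hc, rfl⟩ := Set.mem_mul.1 h3
    refine ⟨c, hc, ?_⟩
    have := Subgroup.Normal.conj_mem inferInstance _ (N.inv_mem hn) c⁻¹
    convert this using 1
    group
  exact CfsgLib.RatExt.exists_rational_extension P N hp hM θ
    (fun g n => hinv g n _ rfl) hdeg hmθ hrat hB (Q.2.map _) hPN hPS hreg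

end Cfsg.Agent.S4892
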