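import Cfsg.Statements.S4912
import Cfsg.Agent.Lib.RealChar.LinearBound

set_option autoImplicit false
open Cfsg

namespace Cfsg.Agent.S4912

/-- Let G be a finite group with a non-abelian minimal normal subgroup N, and let φ be an irreducible complex character of N with stabilizer I in G such that φ extends to an irreducible character of I with Frobenius–Schur indicator +1. Put d = φ(1)·[G : I]. Then the number of linear characters of G with Frobenius–Schur indicator +1 is at most [G : I] times the number of irreducible characters of G of degree d with Frobenius–Schur indicator +1. -/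
theorem result {G : Type*} [Group G] [Finite G] (N : Subgroup G) (hN : N.Normal) (hN1 : N ≠ ⊥) (hmin : ∀ M : Subgroup G, M.Normal → M ≤ N → M = ⊥ ∨ M = N) (hna : ¬ IsMulCommutative ↥N) (φ : Cfsg.IrrCharacter ↥N) (I : Subgroup G) (hI : ∀ g : G, g ∈ I ↔ ∀ n n' : ↥N, (n' : G) = g * (n : G) * g⁻¹ → (φ : ↥N → ℂ) n' = (φ : ↥N → ℂ) n) (hNI : N ≤ I) (hext : ∃ ψ : Cfsg.IrrCharacter ↥I, (Nat.card ↥I : ℂ)⁻¹ * ∑ᶠ g : ↥I, (ψ : ↥I → ℂ) (g * g) = 1 ∧ ∀ n : ↥N, (ψ : ↥I → ℂ) (Subgroup.inclusion hNI n) = (φ : ↥N → ℂ) n) : Nat.card {χ : Cfsg.IrrCharacter G // Cfsg.charDegree (χ : G → ℂ) = 1 ∧ (Nat.card G : ℂ)⁻¹ * ∑ᶠ g : G, (χ : G → ℂ) (g * g) = 1} ≤ I.index * Nat.card {χ : Cfsg.IrrCharacter G // Cfsg.charDegree (χ : G → ℂ) = Cfsg.charDegree (φ : ↥N → ℂ) * I.index ∧ (Nat.card G : ℂ)⁻¹ * ∑ᶠ g : G, (χ : G → ℂ) (g * g) = 1} := by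
  classical
  haveI := hN
  letI : Fintype G := Fintype.ofFinite G
  letI : Fintype I := Fintype.ofFinite I
  have hI' : ∀ g : G, g ∈ I ↔ CfsgLib.CharTwist.conjFun N (φ : N → ℂ) g = (φ : N → ℂ) := fun g =>
    (hI g).trans ⟨fun h => funext fun n => h n _ rfl, fun h n n' hn =>
      (congrArg (φ : N → ℂ) (Subtype.ext hn)).trans (congrFun h n)⟩
  have htriv : ∀ f : G →* ℂˣ, ∀ n ∈ N, f n = 1 := fun f n hn =>
    CfsgLib.RealChar.linear_eq_one_of_nonabelian_minimal N hN hmin hna f hn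
  obtain ⟨ψ, hψ1, hψ⟩ := hext
  have hψ1' : CfsgLib.RealChar.fsInd (ψ : I → ℂ) = 1 :=
    (CfsgLib.RealChar.fsInd_eq_finsum _).trans hψ1
  let Λ : Subgroup (G →* ℂˣ) := (powMonoidHom 2 : (G →* ℂˣ) →* (G →* ℂˣ)).ker
  have h := CfsgLib.RealChar.card_linear_le hNI hI' ψ hψ htriv Λ
    (fun χ => (Nat.card G : ℂ)⁻¹ * ∑ᶠ g : G, (χ : G → ℂ) (g * g) = 1) fun f hf χ _ hχ => by
      rw [← CfsgLib.RealChar.fsInd_eq_finsum, hχ]
      have hirr : Cfsg.IsIrrCharacter G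
          (Cfsg.indFun I fun i : I => (f i : ℂ) * (ψ : I → ℂ) i) := hχ ▸ χ.2
      refine CfsgLib.RealChar.fsInd_indFun_eq_one I
        (CfsgLib.Char.IsIrrCharacter.linear_mul ψ.2 (f.comp I.subtype)) ?_ hirr
      rw [← hψ1', CfsgLib.RealChar.fsInd, CfsgLib.RealChar.fsInd]
      congr 1
      refine Finset.sum_congr rfl fun i _ => ?_
      have h2 : f ^ 2 = 1 := hf
      change ((f ((i : G) * i) : ℂˣ) : ℂ) * _ = _
      rw [map_mul, ← sq, ← MonoidHom.pow_apply, h2, MonoidHom.one_apply, Units.val_one, one_mul]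
  refine le_trans (le_of_eq ?_) h
  refine Nat.card_congr ((Equiv.subtypeSubtypeEquivSubtypeInter _ _).symm.trans
    ((CfsgLib.RealChar.linearIrrEquiv G).subtypeEquiv fun χ => ?_))
  rw [← CfsgLib.RealChar.fsInd_eq_finsum, show (χ.1 : G → ℂ) =
    fun g => ((CfsgLib.RealChar.linearIrrEquiv G χ g : ℂˣ) : ℂ) from
      funext fun g => (CfsgLib.RealChar.linearIrrEquiv_apply χ g).symm,
    CfsgLib.RealChar.fsInd_linear_eq_one_iff]
  rfl

end Cfsg.Agent.S4912
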