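import Cfsg.Statements.S4914
import Cfsg.Agent.Lib.RealChar.Corr

set_option autoImplicit false
open Cfsg

namespace Cfsg.Agent.S4914

/-- Let P and K be subgroups of a finite group G with P a p-group normalizing K, and suppose K has a normal Sylow p-subgroup Q. Let C be the subgroup of those k ∈ K whose commutator with every element of P lies in Q (so that C/Q is the fixed-point subgroup of P on K/Q). Then there is a bijection f from the P-invariant irreducible complex characters of K onto the P-invariant irreducible complex characters of C such that, for every P-invariant irreducible character χ of K, the multiplicity of f(χ) in the restriction of χ to C is a natural number congruent to 1 or to −1 modulo p, every other P-invariant irreducible character of C occurs in that restriction with multiplicity divisible by p, and the degrees of χ and f(χ) are congruent modulo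 p up to sign. -/
theorem result {G : Type*} [Group G] [Finite G] (p : ℕ) [Fact p.Prime] (P K Q C : Subgroup G) (hP : IsPGroup p ↥P) (hPK : P ≤ Subgroup.normalizer (K : Set G)) (hQK : Q ≤ K) (hQn : ∀ k ∈ K, ∀ q ∈ Q, k * q * k⁻¹ ∈ Q) (hQp : ∃ a : ℕ, Nat.card ↥Q = p ^ a) (hQsyl : ¬ p ∣ Q.relIndex K) (hCK : C ≤ K) (hC : ∀ k : G, k ∈ C ↔ (k ∈ K ∧ ∀ x ∈ P, x * k * x⁻¹ * k⁻¹ ∈ Q)) : ∃ f : {χ : Cfsg.IrrCharacter ↥K // (∀ x ∈ P, ∀ k k' : ↥K, (k' : G) = x * (k : G) * x⁻¹ → (χ : ↥K → ℂ) k' = (χ : ↥K → ℂ) k)} → {ξ : Cfsg.IrrCharacter ↥C // (∀ x ∈ P, ∀ k k' : ↥C, (k' : G) = x * (k : G) * x⁻¹ → (ξ : ↥C → ℂ) k' = (ξ : ↥C → ℂ) k)}, Function.Bijective f ∧ ∀ χ, (∀ ξ : {ξ : Cfsg.IrrCharacter ↥C // (∀ x ∈ P, ∀ k k' : ↥C, (k' : G) = x * (k : G) * x⁻¹ → (ξ : ↥C → ℂ) k' = (ξ : ↥C → ℂ) k)}, ∃ m : ℕ, (Nat.card ↥C : ℂ)⁻¹ * ∑ᶠ c : ↥C, (χ.1 : ↥K → ℂ) (Subgroup.inclusion hCK c) * (starRingEnd ℂ)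 ((ξ.1 : ↥C → ℂ) c) = (m : ℂ) ∧ (ξ = f χ → ((m : ZMod p) = 1 ∨ (m : ZMod p) = -1)) ∧ (ξ ≠ f χ → p ∣ m)) ∧ ((Cfsg.charDegree ((f χ).1 : ↥C → ℂ) : ZMod p) = (Cfsg.charDegree (χ.1 : ↥K → ℂ) : ZMod p) ∨ (Cfsg.charDegree ((f χ).1 : ↥C → ℂ) : ZMod p) = -(Cfsg.charDegree (χ.1 : ↥K → ℂ) : ZMod p)) := by
  classical
  letI : Fintype C := Fintype.ofFinite C
  obtain ⟨a, ha⟩ := hQp
  obtain ⟨hcorr, hPC⟩ := CfsgLib.RealChar.corr_exists (p := p) hP hPK hQK hQn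
    (IsPGroup.of_card ha) hQsyl hCK hC
  choose F hFinv hFsq hFuniq using hcorr.1
  choose B hBinv hBsq hBuniq using hcorr.2
  refine ⟨fun χ => ⟨F χ.1 χ.2, hFinv χ.1 χ.2⟩, ⟨?_, ?_⟩, ?_⟩
  · intro χ χ' h
    have h' : F χ.1 χ.2 = F χ'.1 χ'.2 := congrArg Subtype.val h
    have e := hBuniq (F χ.1 χ.2) (hFinv χ.1 χ.2)
    refine Subtype.ext ((e χ.1 χ.2 ((hFsq χ.1 χ.2).not_dvd Fact.out)).trans (e χ'.1 χ'.2 ?_).symm)
    rw [h']
    exact (hFsq χ'.1 χ'.2).not_dvd Fact.out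
  · intro ξ
    refine ⟨⟨B ξ.1 ξ.2, hBinv ξ.1 ξ.2⟩, Subtype.ext ?_⟩
    exact (hFuniq _ (hBinv ξ.1 ξ.2) ξ.1 ξ.2 ((hBsq ξ.1 ξ.2).not_dvd Fact.out)).symm
  have hsign : ∀ m : ℕ, CfsgLib.RealChar.SqOneMod p m → (m : ZMod p) = 1 ∨ (m : ZMod p) = -1 := by
    intro m hm
    have h := (ZMod.intCast_zmod_eq_zero_iff_dvd _ p).mpr hm
    push_cast at h
    exact sq_eq_one_iff.mp (sub_eq_zero.mp h)
  intro χ
  refine ⟨fun ξ => ⟨CfsgLib.RealChar.rmult hCK χ.1 ξ.1, ?_, ?_, ?_⟩, ?_⟩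
  · rw [← CfsgLib.RealChar.rmult_spec hCK χ.1 ξ.1, finsum_eq_sum_of_fintype, Cfsg.classInner]
    congr!
  · rintro rfl
    exact hsign _ (hFsq χ.1 χ.2)
  · intro hne
    by_contra hnd
    exact hne (Subtype.ext (hFuniq χ.1 χ.2 ξ.1 ξ.2 hnd))
  have hd := CfsgLib.RealChar.rmult_degree_congr hP hPK hPC χ.2 (hFinv χ.1 χ.2) (hFuniq χ.1 χ.2)
  have h := (ZMod.intCast_zmod_eq_zero_iff_dvd _ p).mpr hd
  push_cast at h
  rw [sub_eq_zero] at h
  change (CfsgLib.Char.degree _ : ZMod p) = _ ∨ (CfsgLib.Char.degree _ : ZMod p) = _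
  rcases hsign _ (hFsq χ.1 χ.2) with h1 | h1 <;> rw [h1] at h
  · left
    change _ = (CfsgLib.Char.degree _ : ZMod p)
    simpa using h.symm
  · right
    change _ = -(CfsgLib.Char.degree _ : ZMod p)
    rw [h]
    simp

end Cfsg.Agent.S4914
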