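import Cfsg.Statements.S4931
import Cfsg.Agent.Lib.KGV.SplitDegree
import Cfsg.Agent.Lib.Char.Twist
import Cfsg.Agent.Lib.Transfer.Tate
import Mathlib.GroupTheory.SchurZassenhaus
import Mathlib.GroupTheory.Transfer

set_option autoImplicit false
open Cfsg
open scoped commutatorElement

namespace Cfsg.Agent.S4931

theorem closure_inf_le {G : Type*} [Group G] [Finite G] (N : Subgroup G) (p : ℕ) (Q : Subgroup ↥N)
    [Q.Normal]
    (hdeg : ∀ (n : ℕ) (σ : Representation ℂ (↥N ⧸ Q) (Fin n → ℂ)), σ.IsIrreducible → ¬ p ∣ n)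
    (hext : ∀ θ : Cfsg.IrrCharacter ↥N, ¬ p ∣ Cfsg.charDegree (θ : ↥N → ℂ) →
      ∃ χ : Cfsg.IrrCharacter G, ∀ x : ↥N, (χ : G → ℂ) x = (θ : ↥N → ℂ) x) :
    ∀ x : ↥N, (x : G) ∈ Subgroup.normalClosure ((Q.map N.subtype : Subgroup G) : Set G) → x ∈ Q := by
  intro x hx
  by_contra hxQ
  obtain ⟨n, σ, hσ, hne⟩ := CfsgLib.CharKernel.exists_irreducible_apply_ne_one (G := ↥N ⧸ Q)
    (QuotientGroup.mk x) (fun h => hxQ ((QuotientGroup.eq_one_iff x).mp h))
  have hd : Cfsg.charDegree (σ.character ∘ QuotientGroup.mk' Q) = n := by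
    simp [Cfsg.charDegree]
  obtain ⟨χ, hχ⟩ := hext ⟨σ.character ∘ QuotientGroup.mk' Q, CfsgLib.CharTwist.isIrrCharacter_comp
    ⟨n, σ, hσ, rfl⟩ _ (QuotientGroup.mk'_surjective Q)⟩ (by rw [hd]; exact hdeg n σ hσ)
  obtain ⟨d, ρ, hρ, hρe⟩ := χ.2
  have h1 : ρ.character (1 : G) = σ.character 1 := by
    rw [hρe]
    simpa using hχ 1
  have hdim : d = n := by
    simpa using h1
  have hker : Subgroup.normalClosure ((Q.map N.subtype : Subgroup G) : Set G) ≤ MonoidHom.ker ρ := by
    refine Subgroup.normalClosure_le_normal ?_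
    rintro _ ⟨u, hu, rfl⟩
    rw [SetLike.mem_coe, MonoidHom.mem_ker]
    refine (CfsgLib.Char.character_eq_degree_iff ρ _).mp ?_
    rw [hρe]
    change (χ : G → ℂ) (u : G) = _
    rw [hχ u]
    change σ.character (QuotientGroup.mk u) = _
    rw [(QuotientGroup.eq_one_iff u).mpr hu, Representation.char_one, Module.finrank_fin_fun,
      Module.finrank_fin_fun, hdim]
  have h2 : σ.character (QuotientGroup.mk x) = (n : ℂ) := by
    have h3 : ρ (x : G) = 1 := MonoidHom.mem_ker.mp (hker hx)
    have h4 := hχ x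
    rw [← hρe] at h4
    change ρ.character (x : G) = σ.character (QuotientGroup.mk x) at h4
    rw [← h4, Representation.character, h3, LinearMap.trace_one, Module.finrank_fin_fun, hdim]
  exact hne ((CfsgLib.Char.character_eq_degree_iff σ _).mp (by rw [h2, Module.finrank_fin_fun]))


/-- Let G be a finite group, p a prime and P a Sylow p-subgroup of G with normalizer N. Then every irreducible complex character of N of degree not divisible by p is the restriction of an irreducible character of G if and only if there is a normal subgroup K of G with KN = G and K ∩ N = 1. -/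
theorem result {G : Type*} [Group G] [Finite G] (p : ℕ) [Fact p.Prime] (P : Sylow p G) :
    (∀ θ : Cfsg.IrrCharacter ↥(Subgroup.normalizer ((P : Subgroup G) : Set G)), ¬ p ∣ Cfsg.charDegree (θ : ↥(Subgroup.normalizer ((P : Subgroup G) : Set G)) → ℂ) →
        ∃ χ : Cfsg.IrrCharacter G, ∀ x : ↥(Subgroup.normalizer ((P : Subgroup G) : Set G)), (χ : G → ℂ) x = (θ : ↥(Subgroup.normalizer ((P : Subgroup G) : Set G)) → ℂ) x) ↔
      ∃ K : Subgroup G, K.Normal ∧ K ⊔ Subgroup.normalizer ((P : Subgroup G) : Set G) = ⊤ ∧ K ⊓ Subgroup.normalizer ((P : Subgroup G) : Set G) = ⊥ := by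
  classical
  set N := Subgroup.normalizer ((P : Subgroup G) : Set G) with hN
  constructor
  · intro hext
    -- the Sylow subgroup inside `N` and its derived subgroup
    have hPN : (P : Subgroup G) ≤ N := Subgroup.le_normalizer
    let PN : Subgroup ↥N := (P : Subgroup G).subgroupOf N
    have hPNn : PN.Normal := Subgroup.normal_subgroupOf_iff hPN |>.mpr
      (fun h n hh hn => (Subgroup.mem_normalizer_iff.mp hn h).mp hh)
    let D : Subgroup ↥N := ⁅PN, PN⁆
    have hD : D ≤ PN := Subgroup.commutator_le_self PN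
    have hmapPN : PN.map N.subtype = (P : Subgroup G) := Subgroup.map_subgroupOf_eq_of_le hPN
    have hmapD : D.map N.subtype = ⁅(P : Subgroup G), (P : Subgroup G)⁆ := by
      rw [Subgroup.map_commutator, hmapPN]
    have hidx : ¬ p ∣ PN.index := by
      change ¬ p ∣ (P : Subgroup G).relIndex N
      exact fun h => P.not_dvd_index (h.trans (Subgroup.relIndex_dvd_index_of_le hPN))
    -- normal closures meet `N` trivially
    have hM : ∀ x : ↥N, (x : G) ∈ Subgroup.normalClosure ((P : Subgroup G) : Set G) → x ∈ PN := by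
      have h := closure_inf_le N p PN (fun n σ hσ hdvd => hidx (hdvd.trans ?_)) hext
      · rwa [hmapPN] at h
      · have := CfsgLib.Char.finrank_dvd_card σ
        rwa [Module.finrank_fin_fun, ← Subgroup.index_eq_card] at this
    have hK : ∀ x : ↥N, (x : G) ∈ Subgroup.normalClosure
        ((⁅(P : Subgroup G), (P : Subgroup G)⁆ : Subgroup G) : Set G) → x ∈ D := by
      have h := closure_inf_le N p D (fun n σ hσ hdvd => ?_) hext
      · rwa [hmapD] at h
      let V : Subgroup (↥N ⧸ D) := PN.map (QuotientGroup.mk' D)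
      have : V.Normal := hPNn.map _ (QuotientGroup.mk'_surjective D)
      have hVab : ∀ a ∈ V, ∀ b ∈ V, a * b = b * a := by
        rintro _ ⟨a, ha, rfl⟩ _ ⟨b, hb, rfl⟩
        rw [← map_mul, ← map_mul]
        refine QuotientGroup.eq.mpr ?_
        have : (a * b)⁻¹ * (b * a) = ⁅b⁻¹, a⁻¹⁆ := by simp [commutatorElement_def, mul_assoc]
        rw [this]
        exact Subgroup.commutator_mem_commutator (PN.inv_mem hb) (PN.inv_mem ha)
      have hVidx : V.index = PN.index := by
        exact Subgroup.index_map_eq PN (QuotientGroup.mk'_surjective D) (by rw [QuotientGroup.ker_mk']; exact hD)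
      have hVcop : (Nat.card V).Coprime V.index := by
        have hVp : IsPGroup p V := (P.2.comap_subtype (K := N)).map (QuotientGroup.mk' D)
        obtain ⟨k, hk⟩ := IsPGroup.iff_card.mp hVp
        rw [hk, hVidx]
        exact Nat.Coprime.pow_left k ((Fact.out : p.Prime).coprime_iff_not_dvd.mpr hidx)
      obtain ⟨L, hL⟩ := Subgroup.exists_right_complement'_of_coprime hVcop
      have h2 := CfsgLib.KGV.finrank_dvd_card_complement σ V L hVab hL
      rw [Module.finrank_fin_fun, ← hL.symm.index_eq_card, hVidx] at h2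
      exact hidx (hdvd.trans h2)
    set M := Subgroup.normalClosure ((P : Subgroup G) : Set G) with hMdef
    set K := Subgroup.normalClosure ((⁅(P : Subgroup G), (P : Subgroup G)⁆ : Subgroup G) : Set G) with hKdef
    have hPM : (P : Subgroup G) ≤ M := Subgroup.subset_normalClosure
    let PM : Sylow p ↥M := P.subtype hPM
    have hPMeq : (PM : Subgroup ↥M) = (P : Subgroup G).subgroupOf M := rfl
    -- `M` has a normal `p`-complement
    have hcomp : Cfsg.HasNormalPComplement p ↥M := by
      refine CfsgLib.Transfer.hasNormalPComplement_of_commutator_inf_le PM ?_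
      let KM : Subgroup ↥M := K.subgroupOf M
      let q := QuotientGroup.mk' KM
      have hq : Function.Surjective q := QuotientGroup.mk'_surjective KM
      let PQ : Sylow p (↥M ⧸ KM) := PM.mapSurjective hq
      have hPQ : (PQ : Subgroup (↥M ⧸ KM)) = (PM : Subgroup ↥M).map q := Sylow.coe_mapSurjective hq PM
      have hinK : ∀ a ∈ (PM : Subgroup ↥M), ∀ b ∈ (PM : Subgroup ↥M), ⁅a, b⁆ ∈ KM := fun a ha b hb =>
        Subgroup.subset_normalClosure (Subgroup.commutator_mem_commutator ha hb)
      have habel : ∀ a ∈ (PQ : Subgroup (↥M ⧸ KM)), ∀ b ∈ (PQ : Subgroup (↥M ⧸ KM)), a * b = b * a := by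
        rw [hPQ]
        rintro _ ⟨a, ha, rfl⟩ _ ⟨b, hb, rfl⟩
        rw [← map_mul, ← map_mul]
        refine QuotientGroup.eq.mpr ?_
        have : (a * b)⁻¹ * (b * a) = ⁅b⁻¹, a⁻¹⁆ := by simp [commutatorElement_def, mul_assoc]
        rw [this]
        exact hinK _ (Subgroup.inv_mem _ hb) _ (Subgroup.inv_mem _ ha)
      have hnorm : Subgroup.normalizer ((PQ : Subgroup (↥M ⧸ KM)) : Set (↥M ⧸ KM)) ≤
          Subgroup.centralizer ((PQ : Subgroup (↥M ⧸ KM)) : Set (↥M ⧸ KM)) := by
        intro y hy
        suffices hy' : y ∈ (PQ : Subgroup (↥M ⧸ KM)) by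
          rw [Subgroup.mem_centralizer_iff]
          exact fun b hb => habel b hb y hy'
        obtain ⟨m, rfl⟩ := hq y
        -- Frattini argument in `KM ⊔ PM`
        let J : Subgroup ↥M := KM ⊔ (PM : Subgroup ↥M)
        have hJ : (PQ : Subgroup (↥M ⧸ KM)).comap q = J := by
          rw [hPQ, Subgroup.comap_map_eq, QuotientGroup.ker_mk', sup_comm]
        let PJ : Sylow p ↥J := PM.subtype le_sup_right
        have hmJ : ∀ x, x ∈ J ↔ m * x * m⁻¹ ∈ J := fun x => by
          rw [← hJ, Subgroup.mem_comap, Subgroup.mem_comap, map_mul, map_mul, map_inv]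
          exact Subgroup.mem_normalizer_iff.mp hy (q x)
        let Q' : Subgroup ↥M := (PM : Subgroup ↥M).map (MulAut.conj m).toMonoidHom
        have hQ'J : Q' ≤ J := by
          rintro _ ⟨u, hu, rfl⟩
          exact (hmJ u).mp (le_sup_right (a := KM) hu)
        let QJ : Sylow p ↥J := (m • PM).subtype hQ'J
        obtain ⟨j, hj⟩ := MulAction.exists_smul_eq ↥J QJ PJ
        have hjm : (j : ↥M) • m • PM = PM := by
          have hle : (((j : ↥M) • m • PM : Sylow p ↥M) : Subgroup ↥M) ≤ J := by
            rw [Sylow.coe_subgroup_smul]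
            rintro _ ⟨u, hu, rfl⟩
            exact J.mul_mem (J.mul_mem j.2 (hQ'J hu)) (J.inv_mem j.2)
          have heq : j • QJ = ((j : ↥M) • m • PM).subtype hle := Sylow.ext (by
            ext x
            simp only [Sylow.coe_subgroup_smul, QJ, Sylow.coe_subtype, Subgroup.mem_subgroupOf,
              Subgroup.mem_pointwise_smul_iff_inv_smul_mem]
            exact Subgroup.mem_pointwise_smul_iff_inv_smul_mem (a := MulAut.conj m) (S := (PM : Subgroup ↥M)))
          exact Sylow.subtype_injective (heq ▸ hj)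
        have hnormM : (j : ↥M) * m ∈ (PM : Subgroup ↥M) := by
          rw [smul_smul] at hjm
          have h1 := Sylow.smul_eq_iff_mem_normalizer.mp hjm
          have h2 : ((((j : ↥M) * m : ↥M)) : G) ∈ N := by
            rw [hN, Subgroup.mem_normalizer_iff]
            intro x
            constructor
            · intro hx
              have := (Subgroup.mem_normalizer_iff.mp h1 ⟨x, hPM hx⟩).mp hx
              exact this
            · intro hx
              have hxM : x ∈ M := by
                have hc := (inferInstance : M.Normal).conj_mem _ (hPM hx) (((j : ↥M) * m : ↥M) : G)⁻¹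
                simpa [mul_assoc] using hc
              exact (Subgroup.mem_normalizer_iff.mp h1 ⟨x, hxM⟩).mpr hx
          exact hM ⟨_, h2⟩ ((((j : ↥M) * m : ↥M)).2)
        have hjJ : (j : ↥M) ∈ J := j.2
        have hmm : m ∈ J := by
          have := J.mul_mem (J.inv_mem hjJ) (le_sup_right (a := KM) hnormM)
          rwa [inv_mul_cancel_left] at this
        rw [← hJ] at hmm
        exact hmm
      intro x hx
      obtain ⟨hxc, hxP⟩ := hx
      have : Subgroup.FiniteIndex (PQ : Subgroup (↥M ⧸ KM)) := inferInstance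
      let τ := MonoidHom.transferSylow PQ hnorm
      have hker := MonoidHom.ker_transferSylow_isComplement' PQ hnorm
      have hqx : q x ∈ commutator (↥M ⧸ KM) := by
        have := Subgroup.map_commutator (H₁ := (⊤ : Subgroup ↥M)) (H₂ := ⊤) (f := q)
        rw [Subgroup.map_top_of_surjective q hq] at this
        rw [commutator_def, ← this]
        exact Subgroup.mem_map_of_mem q hxc
      have hτ : q x ∈ τ.ker := by
        refine (Subgroup.commutator_le.mpr fun a _ b _ => ?_) hqx
        rw [MonoidHom.mem_ker, map_commutatorElement]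
        exact commutatorElement_eq_one_iff_mul_comm.mpr (Subtype.ext
          (habel _ (τ a).2 _ (τ b).2))
      have hq1 : q x = 1 := Subgroup.disjoint_def.mp hker.disjoint hτ (hPQ ▸ Subgroup.mem_map_of_mem q hxP)
      have hxK : (x : G) ∈ K := (QuotientGroup.eq_one_iff x).mp hq1
      have hxD := hK ⟨(x : G), hPN hxP⟩ hxK
      have hxG : (x : G) ∈ ⁅(P : Subgroup G), (P : Subgroup G)⁆ := hmapD ▸ Subgroup.mem_map_of_mem N.subtype hxD
      have hmapM : (PM : Subgroup ↥M).map M.subtype = (P : Subgroup G) := Subgroup.map_subgroupOf_eq_of_le hPM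
      rw [← hmapM, ← Subgroup.map_commutator] at hxG
      exact (Subgroup.mem_map_iff_mem M.subtype_injective).mp hxG
    obtain ⟨S, L0, hL0n, hL0⟩ := hcomp
    obtain ⟨k, hk⟩ : ∃ k, L0.index = p ^ k := by
      rw [hL0.symm.index_eq_card]
      exact S.2.exists_card_eq
    have hL0p : ∀ a : ↥M, a ∈ L0 ↔ (orderOf a).Coprime p := by
      intro a
      refine ⟨fun ha => ?_, fun ha => CfsgLib.Transfer.mem_of_coprime_of_index_eq_pow L0 hk ha⟩
      refine Nat.Coprime.coprime_dvd_left (Subgroup.orderOf_dvd_natCard L0 ha) ?_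
      rw [Nat.coprime_comm, (Fact.out : p.Prime).coprime_iff_not_dvd, ← hL0.index_eq_card]
      exact S.not_dvd_index
    refine ⟨L0.map M.subtype, ⟨?_⟩, ?_, ?_⟩
    · rintro _ ⟨a, ha, rfl⟩ g
      refine ⟨⟨g * a * g⁻¹, (inferInstance : M.Normal).conj_mem _ a.2 g⟩, ?_, rfl⟩
      rw [SetLike.mem_coe, hL0p] at ha ⊢
      rw [← Subgroup.orderOf_coe] at ha ⊢
      change (orderOf (MulAut.conj g (a : G))).Coprime p
      rwa [MulEquiv.orderOf_eq]
    · rw [eq_top_iff]
      have h1 : N ⊔ M = ⊤ := by
        have := Sylow.normalizer_sup_eq_top PM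
        rwa [show (PM : Subgroup ↥M).map M.subtype = (P : Subgroup G) from
          Subgroup.map_subgroupOf_eq_of_le hPM] at this
      have h2 : M ≤ L0.map M.subtype ⊔ N := by
        have h3 : L0 ⊔ (PM : Subgroup ↥M) = ⊤ := top_le_iff.mp
          ((CfsgLib.Transfer.pResidual_sup_of_sylow PM).symm.le.trans
            (sup_le_sup_right (CfsgLib.Transfer.pResidual_le_of_index_eq_pow L0 hk) _))
        intro x hx
        have : (⟨x, hx⟩ : ↥M) ∈ L0 ⊔ (PM : Subgroup ↥M) := h3 ▸ Subgroup.mem_top _
        have := Subgroup.mem_map_of_mem M.subtype this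
        rw [Subgroup.map_sup] at this
        exact sup_le_sup_left (le_trans (Subgroup.map_subgroupOf_eq_of_le hPM).le hPN) _ this
      calc (⊤ : Subgroup G) = N ⊔ M := h1.symm
        _ ≤ L0.map M.subtype ⊔ N := sup_le le_sup_right h2
    · rw [eq_bot_iff]
      rintro _ ⟨⟨a, ha, rfl⟩, haN⟩
      have haP : (a : G) ∈ (P : Subgroup G) := hM ⟨(a : G), haN⟩ a.2
      obtain ⟨i, hi⟩ := P.2 ⟨(a : G), haP⟩
      have h1 : (a : G) ^ p ^ i = 1 := congrArg Subtype.val hi
      rw [SetLike.mem_coe, hL0p, ← Subgroup.orderOf_coe] at ha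
      have h2 := Nat.eq_one_of_dvd_coprimes (ha.pow_right i) dvd_rfl (orderOf_dvd_of_pow_eq_one h1)
      exact Subgroup.mem_bot.mpr (orderOf_eq_one_iff.mp h2)
  · rintro ⟨K, hK, hsup, hinf⟩ θ -
    have hbij : Function.Bijective ((QuotientGroup.mk' K).comp N.subtype) := by
      refine ⟨?_, fun y => ?_⟩
      · rw [← MonoidHom.ker_eq_bot_iff, eq_bot_iff]
        intro x hx
        have h1 : (x : G) ∈ K := (QuotientGroup.eq_one_iff _).mp hx
        have h2 : (x : G) ∈ K ⊓ N := ⟨h1, x.2⟩
        rw [hinf, Subgroup.mem_bot] at h2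
        exact Subgroup.mem_bot.mpr (Subtype.ext h2)
      · obtain ⟨g, rfl⟩ := QuotientGroup.mk'_surjective K y
        have hg : g ∈ K ⊔ N := hsup ▸ Subgroup.mem_top g
        rw [Subgroup.mem_sup_of_normal_left] at hg
        obtain ⟨a, ha, b, hb, rfl⟩ := hg
        refine ⟨⟨b, hb⟩, ?_⟩
        change QuotientGroup.mk' K b = QuotientGroup.mk' K (a * b)
        rw [map_mul, show QuotientGroup.mk' K a = 1 from (QuotientGroup.eq_one_iff a).mpr ha, one_mul]
    let e := (MulEquiv.ofBijective _ hbij).symm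
    refine ⟨⟨(θ : ↥N → ℂ) ∘ (e.toMonoidHom.comp (QuotientGroup.mk' K)),
      CfsgLib.CharTwist.isIrrCharacter_comp θ.2 _ (e.surjective.comp (QuotientGroup.mk'_surjective K))⟩,
      fun x => congrArg (θ : ↥N → ℂ) (MulEquiv.symm_apply_apply (MulEquiv.ofBijective _ hbij) x)⟩

end Cfsg.Agent.S4931
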