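import Cfsg.Statements.S4955
import Cfsg.Agent.Lib.KGV.GaloisMean
import Cfsg.Agent.Lib.KGV.SplitDegree
import Cfsg.Agent.Lib.Char.Complete
import Cfsg.Agent.Lib.Char.Twist
import Cfsg.Agent.Lib.KGV.PElementValue

set_option autoImplicit false
open Cfsg

namespace Cfsg.Agent.S4955

/-- Let X be a finite group with an abelian normal Sylow p-subgroup V (a normal p-subgroup of index prime to p in which any two elements commute), and let G be a complement to V in X. Then for every v in V, writing C for the centralizer of v in G, the number k(X) of conjugacy classes of X satisfies k(X) ≤ (order of C)·(order of V) − ((order of G) − k(G)); the statement is written with the subtracted term moved to the left. In particular, if some v in V is centralized by no nonidentity element of G, then k(X) is at most the order of V. -/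
theorem result {X : Type*} [Group X] [Finite X] (p : ℕ) [Fact p.Prime] (V : Subgroup X) [V.Normal] (hVp : IsPGroup p V) (hidx : ¬ p ∣ V.index) (hab : ∀ a ∈ V, ∀ b ∈ V, a * b = b * a) (G : Subgroup X) (hGV : Subgroup.IsComplement' V G) (v : X) (hv : v ∈ V) : Nat.card (ConjClasses X) + Nat.card G ≤ Nat.card ↥(G ⊓ Subgroup.centralizer ({v} : Set X)) * Nat.card V + Nat.card (ConjClasses G) := by
  classical
  have := Fintype.ofFinite X
  have hvv : ∀ a : ↥V, (a : X) * v = v * a := fun a => hab a a.2 v hv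
  -- nonvanishing at `v`
  have hne : ∀ χ : Cfsg.IrrCharacter X, (χ : X → ℂ) v ≠ 0 := by
    rintro ⟨χ, d, ρ, hρ, rfl⟩
    obtain ⟨k, hk⟩ := hVp ⟨v, hv⟩
    have hvk : v ^ p ^ k = 1 := congrArg Subtype.val hk
    have hdvd := CfsgLib.KGV.finrank_dvd_card_complement ρ V G hab hGV
    refine CfsgLib.KGV.character_apply_ne_zero ρ (p := p) hvk fun hp => hidx ?_
    rw [hGV.symm.index_eq_card]
    exact hp.trans hdvd
  -- characters trivial on `V` are the inflated characters of `G`
  let e := hGV.symm.QuotientMulEquiv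
  let π : X →* ↥G := e.toMonoidHom.comp (QuotientGroup.mk' V)
  have hπ : Function.Surjective π := e.surjective.comp (QuotientGroup.mk'_surjective V)
  let infl : Cfsg.IrrCharacter ↥G → Cfsg.IrrCharacter X := fun θ =>
    ⟨(θ : ↥G → ℂ) ∘ π, CfsgLib.CharTwist.isIrrCharacter_comp θ.2 π hπ⟩
  have hinfl : Function.Injective infl := fun a b h => Subtype.ext (funext fun g => by
    obtain ⟨x, rfl⟩ := hπ g
    exact congrFun (congrArg Subtype.val h) x)
  have hπv : π v = 1 := by
    simp [π, (QuotientGroup.eq_one_iff v).mpr hv]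
  let S₁ : Finset (Cfsg.IrrCharacter X) := Finset.univ.image infl
  have hS₁ : ∑ χ ∈ S₁, ‖(χ : X → ℂ) v‖ ^ 2 = (Nat.card ↥G : ℝ) := by
    rw [Finset.sum_image fun a _ b _ h => hinfl h, ← CfsgLib.Char.sum_degree_sq (G := ↥G),
      Nat.cast_sum]
    refine Finset.sum_congr rfl fun θ _ => ?_
    change ‖(θ : ↥G → ℂ) (π v)‖ ^ 2 = _
    rw [hπv, ← CfsgLib.Char.IsCharacter.degree_cast (CfsgLib.Char.IsIrrCharacter.isCharacter θ.2),
      Complex.norm_natCast, Nat.cast_pow]
  have hcent : ∀ m : ℕ, m.Coprime (Nat.card X) →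
      Subgroup.centralizer ({v ^ m} : Set X) = Subgroup.centralizer ({v} : Set X) := by
    intro m hm
    obtain ⟨k, hk⟩ := exists_pow_eq_self_of_coprime (x := v)
      (hm.coprime_dvd_right (orderOf_dvd_natCard v))
    ext x
    simp only [Subgroup.mem_centralizer_singleton_iff]
    refine ⟨fun h => ?_, fun h => (Commute.pow_right h m : _)⟩
    have := (Commute.pow_right (show Commute x (v ^ m) from h) k).eq
    rwa [hk] at this
  have hcol : ∀ g : X, ∑ χ : Cfsg.IrrCharacter X, ‖(χ : X → ℂ) g‖ ^ 2 =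
      (Nat.card ↥(Subgroup.centralizer ({g} : Set X)) : ℝ) := by
    intro g
    have h := CfsgLib.Char.sum_mul_conj g g
    rw [if_pos (IsConj.refl g)] at h
    have h2 : ((∑ χ : Cfsg.IrrCharacter X, ‖(χ : X → ℂ) g‖ ^ 2 : ℝ) : ℂ) =
        ((Nat.card ↥(Subgroup.centralizer ({g} : Set X)) : ℝ) : ℂ) := by
      push_cast
      rw [← h]
      exact Finset.sum_congr rfl fun χ _ => (Complex.mul_conj' _).symm
    exact_mod_cast h2
  -- the other characters contribute at least one each
  have hS₂ : ((Finset.univ \ S₁).card : ℝ) ≤ ∑ χ ∈ Finset.univ \ S₁, ‖(χ : X → ℂ) v‖ ^ 2 := by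
    refine CfsgLib.KGV.card_le_sum_norm _ (fun χ : Cfsg.IrrCharacter X => (χ : X → ℂ)) (fun _ => v) 2
      (Or.inr rfl) (fun χ _ => CfsgLib.Char.IsIrrCharacter.isCharacter χ.2) (fun χ _ => hne χ)
      fun m hm => ?_
    have h1 : ∀ g, π g = 1 → ∀ χ ∈ S₁, (χ : X → ℂ) g = (χ : X → ℂ) 1 := by
      intro g hg χ hχ
      obtain ⟨θ, -, rfl⟩ := Finset.mem_image.mp hχ
      change (θ : ↥G → ℂ) (π g) = (θ : ↥G → ℂ) (π 1)
      rw [hg, map_one]
    simp only [Finset.sum_sdiff_eq_sub (Finset.subset_univ S₁), hcol, hcent m hm]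
    congr 1
    refine Finset.sum_congr rfl fun χ hχ => ?_
    rw [h1 v hπv χ hχ, h1 (v ^ m) (by rw [map_pow, hπv, one_pow]) χ hχ]
  have htot := Finset.sum_sdiff (f := fun χ : Cfsg.IrrCharacter X => ‖(χ : X → ℂ) v‖ ^ 2)
    (Finset.subset_univ S₁)
  rw [hS₁, hcol] at htot
  -- the centralizer of `v`
  have hC : Nat.card ↥(Subgroup.centralizer ({v} : Set X)) =
      Nat.card ↥(G ⊓ Subgroup.centralizer ({v} : Set X)) * Nat.card ↥V := by
    rw [mul_comm, ← Nat.card_prod]
    have hmem : ∀ (a : ↥V) (g : ↥G), (a : X) * g ∈ Subgroup.centralizer ({v} : Set X) ↔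
        (g : X) ∈ Subgroup.centralizer ({v} : Set X) := fun a g =>
      Subgroup.mul_mem_cancel_left _ (Subgroup.mem_centralizer_singleton_iff.mpr (hvv a))
    refine (Nat.card_eq_of_bijective
      (fun q : ↥V × ↥(G ⊓ Subgroup.centralizer ({v} : Set X)) =>
        (⟨(q.1 : X) * q.2, (hmem q.1 ⟨q.2, q.2.2.1⟩).mpr q.2.2.2⟩ :
          ↥(Subgroup.centralizer ({v} : Set X)))) ⟨?_, ?_⟩).symm
    · rintro ⟨a, g⟩ ⟨b, h⟩ he
      have := hGV.1 (a₁ := (a, ⟨g, g.2.1⟩)) (a₂ := (b, ⟨h, h.2.1⟩)) (congrArg Subtype.val he)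
      simp only [Prod.mk.injEq, Subtype.mk.injEq] at this
      exact Prod.ext this.1 (Subtype.ext this.2)
    · rintro ⟨x, hx⟩
      obtain ⟨⟨a, g⟩, rfl⟩ := hGV.2 x
      exact ⟨(a, ⟨g, g.2, (hmem a g).mp hx⟩), rfl⟩
  have hcard : (Nat.card (ConjClasses X) : ℝ) = (Finset.univ \ S₁).card + Nat.card (ConjClasses ↥G) := by
    rw [← CfsgLib.Char.card_irrCharacter (G := ↥G), ← CfsgLib.Char.card_irrCharacter (G := X),
      Nat.card_eq_fintype_card, Nat.card_eq_fintype_card, ← Finset.card_univ, ← Finset.card_univ,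
      ← Finset.card_image_of_injective Finset.univ hinfl, ← Nat.cast_add,
      Finset.card_sdiff_add_card_eq_card (Finset.subset_univ _)]
  have hreal : (Nat.card (ConjClasses X) : ℝ) + Nat.card ↥G ≤
      Nat.card ↥(G ⊓ Subgroup.centralizer ({v} : Set X)) * Nat.card ↥V + Nat.card (ConjClasses ↥G) := by
    rw [← Nat.cast_mul, ← hC, ← htot, hcard]
    linarith
  exact_mod_cast hreal

end Cfsg.Agent.S4955
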