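import Cfsg.Statements.S4957
import Cfsg.Agent.Lib.KgvTrans.Reduce
import Cfsg.Agent.Lib.KgvTrans.Main
-- import your own Cfsg.Agent.* helpers here

set_option autoImplicit false
open Cfsg

namespace Cfsg.Agent.S4957

/-- Let X be a finite group and V a normal subgroup of X in which every element has order dividing the prime p, whose index in X is prime to p and which is its own centralizer in X; so V is an elementary abelian normal Sylow p-subgroup, and any complement G to V in X is a group of order prime to p acting faithfully on the vector space V by conjugation (the coprime linear setting of the k(GV) problem). Suppose a complement G to V in X is transitive by conjugation on the nonidentity elements of V. Then X has at most (order of V) conjugacy classes, and if equality holds then G is cyclic (hence, being transitive, a Singer cycle), or V has order 8 and G has order 21 (the nonabelian group of order 21 inside the simple group of order 168), or V has order 9 and G has order 16 (a semidihedral Sylow 2-subgroup of the 2-dimensional general linear group over the field with 3 elements). -/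
theorem result {X : Type*} [Group X] [Finite X] (p : ℕ) [Fact p.Prime] (V : Subgroup X) [V.Normal] (hVexp : ∀ v ∈ V, v ^ p = 1) (hidx : ¬ p ∣ V.index) (hself : Subgroup.centralizer (V : Set X) = V) (G : Subgroup X) (hGV : Subgroup.IsComplement' V G) (htrans : ∀ v ∈ V, ∀ w ∈ V, v ≠ 1 → w ≠ 1 → ∃ g ∈ G, g * v * g⁻¹ = w) : Nat.card (ConjClasses X) ≤ Nat.card V ∧ (Nat.card (ConjClasses X) = Nat.card V → (IsCyclic G ∨ (Nat.card V = 8 ∧ Nat.card G = 21) ∨ (Nat.card V = 9 ∧ Nat.card G = 16))) := by
  rcases eq_or_ne V ⊥ with hV | hV
  · subst hV
    have htop : (⊥ : Subgroup X) = ⊤ := hself ▸ (eq_top_iff.2 fun x _ =>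
      Subgroup.mem_centralizer_iff.2 fun b hb => by rw [Subgroup.mem_bot.1 hb, one_mul, mul_one])
    have h1 : ∀ a : X, a = 1 := fun a => Subgroup.mem_bot.1 (htop.symm ▸ Subgroup.mem_top a)
    haveI : Subsingleton X := ⟨fun a b => by rw [h1 a, h1 b]⟩
    refine ⟨?_, fun _ => Or.inl isCyclic_of_subsingleton⟩
    rw [Subgroup.card_bot]
    exact (CfsgLib.KgvTrans.card_conjClasses_le X).trans (le_of_eq (Nat.card_of_subsingleton (1 : X)))
  · refine CfsgLib.KgvTrans.class_number_of_small p V hVexp hidx hself G hGV htrans hV ?_
    intro E _ _ _ _ _ n hE hn hcard htr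
    exact CfsgLib.KgvTrans.small_main hE hn hcard (by rw [← hGV.symm.index_eq_card]; exact hidx) htr

end Cfsg.Agent.S4957
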