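import Cfsg.Statements.S4964
import Cfsg.Agent.Lib.Blocks.Defect
import Cfsg.Agent.Lib.Solvable.CoprimeAction
import Cfsg.Agent.Lib.Transfer.PGroup
import Cfsg.Agent.Lib.Char.Twist

set_option autoImplicit false
open Cfsg

namespace Cfsg.Agent.S4964

open CfsgLib.BlockReg
open scoped ComplexConjugate

universe u

variable {G : Type u} [Group G] [Finite G] {p : ℕ} [Fact p.Prime] {M : Ideal Cfsg.AlgInt}

/-- A normal p-subgroup lies in the kernel of some member of each block. -/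
theorem exists_mem_trivial_on (hM : IsPModular p M) {B : Set (IrrCharacter G)}
    (hB : IsPBlock M B) {N : Subgroup G} [N.Normal] (hN : IsPGroup p N) :
    ∃ θ ∈ B, ∀ n ∈ N, (θ : G → ℂ) n = (θ : G → ℂ) 1 := by
  classical
  haveI := Fintype.ofFinite G
  haveI := Fintype.ofFinite N
  by_contra hcon
  have hzero : ∀ θ ∈ B, ∑ n : N, conj ((θ : G → ℂ) n) = 0 := by
    intro θ hθ
    obtain ⟨k, ρ, hirr, hρ⟩ := θ.2
    haveI := hirr
    have hker : ∃ h ∈ N, ρ h ≠ 1 := by
      by_contra hall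
      push Not at hall
      refine hcon ⟨θ, hθ, fun n hn => ?_⟩
      rw [← hρ]
      show LinearMap.trace ℂ _ (ρ n) = LinearMap.trace ℂ _ (ρ 1)
      rw [hall n hn, show ρ 1 = 1 from map_one ρ]
    have hbot := CfsgLib.CharKernel.fixedSpace_eq_bot ρ N hker
    have hS : (∑ n : N, ρ n) = 0 := by
      refine LinearMap.ext fun v => ?_
      have hmem : (∑ n : N, ρ n) v ∈ CfsgLib.CharKernel.fixedSpace ρ N := by
        rw [CfsgLib.CharKernel.mem_fixedSpace]
        intro h hh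
        rw [← Module.End.mul_apply, Finset.mul_sum]
        refine congrArg (fun T : Module.End ℂ (Fin k → ℂ) => T v) ?_
        refine Fintype.sum_equiv (Equiv.mulLeft (⟨h, hh⟩ : N)) _ _ fun n => ?_
        simp [← map_mul]
      rw [hbot, Submodule.mem_bot] at hmem
      simpa using hmem
    have h2 : ∑ n : N, (θ : G → ℂ) n = 0 := by
      rw [← hρ]
      show ∑ n : N, LinearMap.trace ℂ _ (ρ n) = 0
      rw [← map_sum, hS, map_zero]
    rw [← map_sum, h2, map_zero]
  have h1 : ∑ n : N, blockCoeff B (n : G) = 0 := by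
    simp only [blockCoeff, ← Finset.mul_sum, finsum_mem_eq_toFinset_sum]
    rw [Finset.sum_comm]
    simp only [← Finset.mul_sum]
    rw [Finset.sum_eq_zero fun θ hθ => by rw [hzero θ (Set.mem_toFinset.1 hθ), mul_zero], mul_zero]
  rw [Finset.sum_eq_single (1 : N)] at h1
  · rw [OneMemClass.coe_one] at h1
    have hne : blockCoeff B (1 : G) ≠ 0 := by
      have hreal : ∀ θ : IrrCharacter G, (θ : G → ℂ) 1 * conj ((θ : G → ℂ) 1) =
          ((charDegree (θ : G → ℂ) ^ 2 : ℕ) : ℂ) := fun θ => by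
        rw [← deg_cast θ, Complex.conj_natCast, Nat.cast_pow, sq]
      rw [blockCoeff, finsum_mem_eq_toFinset_sum, Finset.sum_congr rfl fun θ _ => hreal θ,
        ← Nat.cast_sum]
      refine mul_ne_zero (inv_ne_zero (by exact_mod_cast Nat.card_pos.ne')) ?_
      obtain ⟨θ, hθ⟩ := block_nonempty hM hB
      have hpos : 0 < ∑ η ∈ B.toFinset, charDegree (η : G → ℂ) ^ 2 :=
        Finset.sum_pos (fun η _ => pow_pos (deg_pos η) 2) ⟨θ, Set.mem_toFinset.2 hθ⟩
      exact_mod_cast hpos.ne'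
    exact hne h1
  · intro n _ hn
    refine blockCoeff_singular hM hB _ ?_
    obtain ⟨a, ha⟩ := IsPGroup.iff_orderOf.1 hN n
    rw [Subgroup.orderOf_coe, ha]
    refine dvd_pow_self p ?_
    rintro rfl
    exact hn (orderOf_eq_one_iff.1 (by simpa using ha))
  · simp

/-- The inflated central character. -/
theorem centralChar_inflate (N : Subgroup G) [N.Normal] (g : G) :
    ∃ m : ℕ, ∀ χ : G ⧸ N → ℂ, centralChar (χ ∘ QuotientGroup.mk) g =
      (m : ℂ) * centralChar χ (g : G ⧸ N) := by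
  have hle : (Subgroup.centralizer ({g} : Set G)).map (QuotientGroup.mk' N) ≤
      Subgroup.centralizer ({(g : G ⧸ N)} : Set (G ⧸ N)) := by
    rintro _ ⟨c, hc, rfl⟩
    rw [Subgroup.mem_centralizer_singleton_iff]
    have h1 := congrArg (QuotientGroup.mk' N) (Subgroup.mem_centralizer_singleton_iff.1 hc)
    simpa using h1
  obtain ⟨m, hm⟩ := (Subgroup.index_dvd_of_le hle).trans
    (Subgroup.index_map_dvd (Subgroup.centralizer ({g} : Set G)) (QuotientGroup.mk'_surjective N))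
  refine ⟨m, fun χ => ?_⟩
  simp only [centralChar, Function.comp_apply, hm, Nat.cast_mul, QuotientGroup.mk_one]
  ring

/-- Above a p-regular class centralising a normal p-subgroup nothing is lost. -/
theorem exists_lift (D : Subgroup G) [D.Normal] (hD : IsPGroup p D) (x : G ⧸ ⁅D, D⁆)
    (hx : ¬ p ∣ orderOf x)
    (hxc : x ∈ Subgroup.centralizer ((D.map (QuotientGroup.mk' ⁅D, D⁆) :
      Subgroup (G ⧸ ⁅D, D⁆)) : Set (G ⧸ ⁅D, D⁆))) :
    ∃ g : G, (g : G ⧸ ⁅D, D⁆) = x ∧
      (Subgroup.centralizer ({g} : Set G)).index = (Subgroup.centralizer ({x} : Set _)).index := by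
  have hp : p.Prime := Fact.out
  haveI : Fact p.Prime := ⟨hp⟩
  obtain ⟨g0, rfl⟩ := QuotientGroup.mk_surjective x
  set π := QuotientGroup.mk' ⁅D, D⁆ with hπ
  -- p'-part of a lift
  obtain ⟨a, m, hm, hcard⟩ := Nat.exists_eq_pow_mul_and_not_dvd (n := orderOf g0)
    (orderOf_pos g0).ne' p hp.ne_one
  have hcop : Nat.Coprime (p ^ a) (orderOf (g0 : G ⧸ ⁅D, D⁆)) :=
    Nat.Coprime.pow_left _ ((hp.coprime_iff_not_dvd).2 hx)
  obtain ⟨u, hu0, hu1⟩ := Nat.chineseRemainder hcop 0 1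
  obtain ⟨s, rfl⟩ := Nat.modEq_zero_iff_dvd.1 hu0
  refine ⟨g0 ^ (p ^ a * s), ?_, ?_⟩
  · rw [QuotientGroup.mk_pow]
    conv_rhs => rw [← pow_one (g0 : G ⧸ ⁅D, D⁆)]
    exact pow_eq_pow_iff_modEq.2 hu1
  set g := g0 ^ (p ^ a * s) with hg
  have hgx : π g = (g0 : G ⧸ ⁅D, D⁆) := by
    show ((g0 ^ (p ^ a * s) : G) : G ⧸ ⁅D, D⁆) = _
    rw [QuotientGroup.mk_pow]
    conv_rhs => rw [← pow_one (g0 : G ⧸ ⁅D, D⁆)]
    exact pow_eq_pow_iff_modEq.2 hu1
  have hgm : g ^ m = 1 := by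
    rw [hg, ← pow_mul, mul_assoc, mul_comm s m, ← mul_assoc, ← hcard, pow_mul, pow_orderOf_eq_one,
      one_pow]
  have hgreg : ¬ p ∣ orderOf g := fun h => hm (h.trans (orderOf_dvd_of_pow_eq_one hgm))
  -- g centralises D
  have hgD : g ∈ Subgroup.centralizer (D : Set G) := by
    haveI : Group.IsNilpotent D := hD.isNilpotent
    obtain ⟨k, hk⟩ := IsPGroup.iff_card.1 hD
    have hA : Nat.Coprime (Nat.card (Subgroup.zpowers g)) (Nat.card (frattini D)) := by
      rw [Nat.card_zpowers]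
      refine Nat.Coprime.coprime_dvd_right (Subgroup.card_subgroup_dvd_card _) ?_
      rw [hk]
      exact Nat.Coprime.pow_right _ ((hp.coprime_iff_not_dvd.2 hgreg).symm)
    refine CfsgLib.Solvable.le_centralizer_of_trivial_on_frattini_quotient hA ?_
      (Subgroup.mem_zpowers g)
    intro c hc d hd
    have hsub : ⁅D, D⁆ ≤ (frattini D).map D.subtype := by
      rw [← Subgroup.map_subtype_commutator D]
      exact Subgroup.map_mono CfsgLib.Transfer.commutator_le_frattini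
    refine hsub ((QuotientGroup.eq_one_iff _).1 ?_)
    have hd' : π d ∈ D.map π := Subgroup.mem_map_of_mem π hd
    have hcomm : π c * π d = π d * π c := by
      obtain ⟨j, rfl⟩ := Subgroup.mem_zpowers_iff.1 hc
      rw [map_zpow, hgx]
      exact ((Subgroup.mem_centralizer_iff.1 (zpow_mem hxc j)) _ hd').symm
    show π (c * d * c⁻¹ * d⁻¹) = 1
    rw [map_mul, map_mul, map_mul, map_inv, map_inv, hcomm]
    group
  -- the centralisers correspond
  have hDle : ⁅D, D⁆ ≤ D := Subgroup.commutator_le_left D D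
  have hmap : (Subgroup.centralizer ({g} : Set G)).map π =
      Subgroup.centralizer ({(g0 : G ⧸ ⁅D, D⁆)} : Set (G ⧸ ⁅D, D⁆)) := by
    refine le_antisymm ?_ fun y hy => ?_
    · rintro _ ⟨c, hc, rfl⟩
      rw [Subgroup.mem_centralizer_singleton_iff, ← hgx, ← map_mul, ← map_mul,
        Subgroup.mem_centralizer_singleton_iff.1 hc]
    obtain ⟨h, rfl⟩ := QuotientGroup.mk_surjective y
    refine ⟨h, ?_, rfl⟩
    rw [Subgroup.mem_centralizer_singleton_iff] at hy
    set d := g⁻¹ * (h * g * h⁻¹) with hd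
    have hd1 : π d = 1 := by
      rw [hd, map_mul, map_mul, map_mul, map_inv, map_inv, hgx]
      show (g0 : G ⧸ ⁅D, D⁆)⁻¹ * ((h : G ⧸ ⁅D, D⁆) * g0 * (h : G ⧸ ⁅D, D⁆)⁻¹) = 1
      rw [hy]
      group
    have hdD : d ∈ D := hDle ((QuotientGroup.eq_one_iff _).1 hd1)
    have hgd : Commute g d := (Subgroup.mem_centralizer_iff.1 hgD d hdD).symm
    have hd_m : d ^ m = 1 := by
      have h2 : (g * d) ^ m = 1 := by
        rw [hd, mul_inv_cancel_left, conj_pow, hgm]
        group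
      rwa [hgd.mul_pow, hgm, one_mul] at h2
    obtain ⟨b, hb⟩ := IsPGroup.iff_orderOf.1 hD ⟨d, hdD⟩
    rw [Subgroup.orderOf_mk] at hb
    have hd0 : d = 1 := by
      refine orderOf_eq_one_iff.1 (Nat.dvd_one.1 ?_)
      rw [← Nat.Coprime.gcd_eq_one (Nat.Coprime.pow_left b (hp.coprime_iff_not_dvd.2 hm))]
      exact Nat.dvd_gcd (hb ▸ dvd_rfl) (orderOf_dvd_of_pow_eq_one hd_m)
    rw [hd, inv_mul_eq_one] at hd0
    show h ∈ Subgroup.centralizer ({g} : Set G)
    rw [Subgroup.mem_centralizer_singleton_iff]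
    calc h * g = h * g * h⁻¹ * h := by group
      _ = g * h := by rw [← hd0]
  rw [← hmap, Subgroup.index_map_eq _ (QuotientGroup.mk'_surjective _)]
  rw [QuotientGroup.ker_mk']
  intro c hc
  rw [Subgroup.mem_centralizer_singleton_iff]
  exact Subgroup.mem_centralizer_iff.1 hgD c (hDle hc)

/-- Let D be a normal p-subgroup of the finite group G, let D′ be its commutator subgroup (normal in G), and fix a maximal ideal M of the algebraic integers containing p. Then (i) two irreducible characters of G ⧸ D′ lie in the same p-block if and only if their inflations to G do, and (ii) every p-block of G contains the inflation of some irreducible character of G ⧸ D′; so inflation induces a bijection between the p-blocks of G ⧸ D′ and the p-blocks of G. -/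
theorem result {G : Type*} [Group G] [Finite G] (p : ℕ) [Fact p.Prime] (M : Ideal Cfsg.AlgInt) (hM : Cfsg.IsPModular p M) (D : Subgroup G) [D.Normal] (hD : IsPGroup p D) : (∀ χ ψ : Cfsg.IrrCharacter (G ⧸ ⁅D, D⁆), Cfsg.SameBlock M (χ : G ⧸ ⁅D, D⁆ → ℂ) (ψ : G ⧸ ⁅D, D⁆ → ℂ) ↔ Cfsg.SameBlock M ((χ : G ⧸ ⁅D, D⁆ → ℂ) ∘ QuotientGroup.mk) ((ψ : G ⧸ ⁅D, D⁆ → ℂ) ∘ QuotientGroup.mk)) ∧ ∀ B : Set (Cfsg.IrrCharacter G), Cfsg.IsPBlock M B → ∃ χ : Cfsg.IrrCharacter (G ⧸ ⁅D, D⁆), ∃ θ ∈ B, (θ : G → ℂ) = (χ : G ⧸ ⁅D, D⁆ → ℂ) ∘ QuotientGroup.mk := by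
  classical
  refine ⟨fun χ ψ => ⟨fun h g => ?_, fun h => ?_⟩, fun B hB => ?_⟩
  · obtain ⟨m, hm⟩ := centralChar_inflate ⁅D, D⁆ g
    rw [hm, hm, ← mul_sub]
    exact memIdeal_mul_left hM (memRing_natCast hM m) (h _)
  · haveI := Fintype.ofFinite (G ⧸ ⁅D, D⁆)
    haveI := Fintype.ofFinite (ConjClasses (G ⧸ ⁅D, D⁆))
    haveI : M.IsMaximal := hM.2.1
    set Q : Subgroup (G ⧸ ⁅D, D⁆) := D.map (QuotientGroup.mk' ⁅D, D⁆) with hQdef
    haveI hQn : Q.Normal := Subgroup.Normal.map ‹D.Normal› _ (QuotientGroup.mk'_surjective _)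
    have hQp : IsPGroup p Q := hD.map _
    set B := blockOf M (χ : G ⧸ ⁅D, D⁆ → ℂ)
    have hB : IsPBlock M B := isPBlock_blockOf χ
    have hχB : χ ∈ B := sameBlock_refl hM _
    suffices hψ : ψ ∈ B from hψ
    by_contra hψ
    have hout : ∀ (θ : IrrCharacter (G ⧸ ⁅D, D⁆)) (x : G ⧸ ⁅D, D⁆),
        x ∉ Subgroup.centralizer (Q : Set (G ⧸ ⁅D, D⁆)) →
          MemLocalIdeal M (centralChar (θ : G ⧸ ⁅D, D⁆ → ℂ) x) := by
      intro θ x hx
      by_contra hne
      have hBθ : IsPBlock M (blockOf M (θ : G ⧸ ⁅D, D⁆ → ℂ)) := isPBlock_blockOf θ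
      obtain ⟨E, hE⟩ := CfsgLib.Blocks.exists_defectGroup hM hBθ
      obtain ⟨c, hxc, hc⟩ := CfsgLib.Blocks.exists_isConj_centralizer_defectGroup hM hBθ hE
        (sameBlock_refl hM _) hne
      obtain ⟨t, rfl⟩ := isConj_iff.1 hxc
      have hc' := Subgroup.centralizer_le (SetLike.coe_subset_coe.2
        (CfsgLib.Blocks.le_defectGroup_of_normal hM hBθ hE hQp)) hc
      refine hx ?_
      have h3 : t⁻¹ * (t * x * t⁻¹) * t ∈ Subgroup.centralizer (Q : Set (G ⧸ ⁅D, D⁆)) := by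
        rw [Subgroup.mem_centralizer_iff] at hc' ⊢
        intro q hq
        have h4 := hc' (t * q * t⁻¹) (hQn.conj_mem q hq t)
        calc q * (t⁻¹ * (t * x * t⁻¹) * t) = t⁻¹ * ((t * q * t⁻¹) * (t * x * t⁻¹)) * t := by group
          _ = t⁻¹ * ((t * x * t⁻¹) * (t * q * t⁻¹)) * t := by rw [h4]
          _ = t⁻¹ * (t * x * t⁻¹) * t * q := by group
      simpa [mul_assoc] using h3
    have h1 := (sum_blockCoeff_mul_char B χ).1 hχB
    have h0 := (sum_blockCoeff_mul_char B ψ).2 hψ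
    rw [sum_mul_char_div χ _ (fun g h hgh => blockCoeff_congr B hgh)] at h1
    rw [sum_mul_char_div ψ _ (fun g h hgh => blockCoeff_congr B hgh)] at h0
    have hkey : MemLocalIdeal M ((1 : ℂ) - 0) := by
      rw [← h1, ← h0, ← Finset.sum_sub_distrib]
      refine memIdeal_sum hM _ fun C _ => ?_
      rw [← mul_sub]
      by_cases hs : p ∣ orderOf C.out
      · rw [blockCoeff_singular hM hB _ hs, zero_mul]
        exact memIdeal_zero hM
      refine memIdeal_mul_left hM (memRing_blockCoeff hM hB _) ?_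
      by_cases hc : C.out ∈ Subgroup.centralizer (Q : Set (G ⧸ ⁅D, D⁆))
      · obtain ⟨g, hgx, hidx⟩ := exists_lift D hD C.out hs hc
        have hgg := h g
        simp only [centralChar, Function.comp_apply, QuotientGroup.mk_one, hgx, hidx] at hgg
        exact hgg
      · exact memIdeal_sub hM (hout χ _ hc) (hout ψ _ hc)
    rw [sub_zero] at hkey
    exact not_memIdeal_one hM hkey
  · obtain ⟨θ, hθ, htriv⟩ := exists_mem_trivial_on hM hB
      (hD.to_le (Subgroup.commutator_le_left D D))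
    obtain ⟨η, hη, he⟩ := CfsgLib.CharTwist.exists_irr_quotient θ.2 ⁅D, D⁆ htriv
    exact ⟨⟨η, hη⟩, θ, hθ, he⟩

end Cfsg.Agent.S4964
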