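import Cfsg.Statements.S4965
import Mathlib.GroupTheory.GroupAction.CardCommute
import Mathlib.Tactic.Group

set_option autoImplicit false
open Cfsg

namespace Cfsg.Agent.S4965

/-- Let X be a finite group with an abelian normal subgroup V (any two elements of V commute), and let φ be the action of X ⧸ V on V induced by conjugation (well defined because V is abelian; the hypothesis hφ says that the class of x acts as conjugation by x). Then X has at most as many conjugacy classes as the semidirect product of V by X ⧸ V formed with this action: the split extension has the largest class number among extensions with the given action. -/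
theorem result {X : Type*} [Group X] [Finite X] (V : Subgroup X) [V.Normal] (hab : ∀ a ∈ V, ∀ b ∈ V, a * b = b * a) (φ : X ⧸ V →* MulAut ↥V) (hφ : ∀ (x : X) (v : ↥V), ((φ (QuotientGroup.mk x) v : ↥V) : X) = x * v * x⁻¹) : Nat.card (ConjClasses X) ≤ Nat.card (ConjClasses (SemidirectProduct ↥V (X ⧸ V) φ)) := by
  classical
  have hE : Nat.card (SemidirectProduct ↥V (X ⧸ V) φ) = Nat.card X := by
    rw [Nat.card_congr SemidirectProduct.equivProd, Nat.card_prod,
      Subgroup.card_eq_card_quotient_mul_card_subgroup V, mul_comm]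
  have : Finite (SemidirectProduct ↥V (X ⧸ V) φ) := Finite.of_equiv _ SemidirectProduct.equivProd.symm
  let P : X ⧸ V → X ⧸ V → X × X → Prop := fun q r b =>
    QuotientGroup.mk b.1 = q ∧ QuotientGroup.mk b.2 = r ∧ Commute b.1 b.2
  let base : X ⧸ V → X ⧸ V → X × X := fun q r => Classical.epsilon (P q r)
  have hbase : ∀ x y : X, Commute x y → P (x : X ⧸ V) (y : X ⧸ V) (base x y) := fun x y h =>
    Classical.epsilon_spec (p := P (x : X ⧸ V) (y : X ⧸ V)) ⟨(x, y), rfl, rfl, h⟩
  have hmem : ∀ x x0 : X, (QuotientGroup.mk x0 : X ⧸ V) = QuotientGroup.mk x → x * x0⁻¹ ∈ V := by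
    intro x x0 h
    have := ‹V.Normal›.mem_comm (QuotientGroup.eq.mp h)
    exact this
  have key : Nat.card {p : X × X // Commute p.1 p.2} ≤
      Nat.card {p : SemidirectProduct ↥V (X ⧸ V) φ × SemidirectProduct ↥V (X ⧸ V) φ // Commute p.1 p.2} := by
    let f : {p : X × X // Commute p.1 p.2} →
        {p : SemidirectProduct ↥V (X ⧸ V) φ × SemidirectProduct ↥V (X ⧸ V) φ // Commute p.1 p.2} :=
      fun p => ⟨(⟨⟨p.1.1 * (base p.1.1 p.1.2).1⁻¹, hmem _ _ (hbase _ _ p.2).1⟩, p.1.1⟩,
        ⟨⟨p.1.2 * (base p.1.1 p.1.2).2⁻¹, hmem _ _ (hbase _ _ p.2).2.1⟩, p.1.2⟩), by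
        obtain ⟨⟨x, y⟩, hxy⟩ := p
        obtain ⟨h1, h2, h3⟩ := hbase x y hxy
        generalize base x y = b at h1 h2 h3 ⊢
        obtain ⟨x0, y0⟩ := b
        simp only at h1 h2 h3 ⊢
        apply SemidirectProduct.ext
        · have f1 : ∀ v : ↥V, ((φ (x : X ⧸ V) v : ↥V) : X) = x0 * v * x0⁻¹ := fun v => by
            rw [← h1]; exact hφ x0 v
          have f2 : ∀ v : ↥V, ((φ (y : X ⧸ V) v : ↥V) : X) = y0 * v * y0⁻¹ := fun v => by
            rw [← h2]; exact hφ y0 v
          simp only [SemidirectProduct.mul_left]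
          apply Subtype.ext
          rw [Subgroup.coe_mul, Subgroup.coe_mul, f1, f2]
          have e1 : x * x0⁻¹ * (x0 * (y * y0⁻¹) * x0⁻¹) = x * y * (x0 * y0)⁻¹ := by group
          have e2 : y * y0⁻¹ * (y0 * (x * x0⁻¹) * y0⁻¹) = y * x * (y0 * x0)⁻¹ := by group
          rw [e1, e2, hxy.eq, h3.eq]
        · simp only [SemidirectProduct.mul_right]
          rw [← QuotientGroup.mk_mul, ← QuotientGroup.mk_mul, hxy.eq]⟩
    refine Nat.card_le_card_of_injective f ?_
    rintro ⟨⟨x, y⟩, h⟩ ⟨⟨x', y'⟩, h'⟩ heq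
    simp only [f, Subtype.mk.injEq, Prod.mk.injEq, SemidirectProduct.ext_iff] at heq
    obtain ⟨⟨a, b⟩, c, d⟩ := heq
    rw [b, d] at a c
    exact Subtype.ext (Prod.ext (mul_right_cancel a) (mul_right_cancel c))
  rw [card_comm_eq_card_conjClasses_mul_card, card_comm_eq_card_conjClasses_mul_card, hE] at key
  exact Nat.le_of_mul_le_mul_right key Nat.card_pos

end Cfsg.Agent.S4965
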