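import Cfsg.Statements.S4966

set_option autoImplicit false
open Cfsg

namespace Cfsg.Agent.S4966

open LinearMap (BilinForm)
open scoped BigOperators

variable {F : Type*} [Field F] {G : Type*} [Group G] {V : Type*} [AddCommGroup V] [Module F V]

/-- invariant subspace -/
def Inv (ρ : Representation F G V) (X : Submodule F V) : Prop := ∀ g : G, ∀ x ∈ X, ρ g x ∈ X

/-- form invariant on a subspace -/
def FInv (ρ : Representation F G V) (X : Submodule F V) (A : BilinForm F V) : Prop :=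
  ∀ g : G, ∀ x ∈ X, ∀ y ∈ X, A (ρ g x) (ρ g y) = A x y

/-- nondegenerate on a subspace -/
def ND (X : Submodule F V) (A : BilinForm F V) : Prop :=
  ∀ x ∈ X, (∀ y ∈ X, A x y = 0) → x = 0

/-- symplectic part -/
def Sy (ρ : Representation F G V) (X : Submodule F V) : Prop :=
  ∃ A : BilinForm F V, (∀ x, A x x = 0) ∧ FInv ρ X A ∧ ND X A

/-- orthogonal part -/
def Or (p : ℕ) (ρ : Representation F G V) (X : Submodule F V) : Prop :=
  (∃ A : BilinForm F V, (∀ x y, A x y = A y x) ∧ FInv ρ X A ∧ ND X A) ∧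
    (p = 2 → ∀ g : G, ∀ x ∈ X, ρ g x = x)

theorem inv_sup {ρ : Representation F G V} {X Y : Submodule F V} (hX : Inv ρ X) (hY : Inv ρ Y) :
    Inv ρ (X ⊔ Y) := by
  intro g v hv
  obtain ⟨x, hx, y, hy, rfl⟩ := Submodule.mem_sup.mp hv
  rw [map_add]
  exact Submodule.add_mem_sup (hX g x hx) (hY g y hy)

theorem projPair {X Y : Submodule F V} (h : X ⊓ Y = ⊥) :
    ∃ f : V →ₗ[F] V, (∀ x ∈ X, f x = x) ∧ (∀ y ∈ Y, f y = 0) ∧ ∀ v, f v ∈ X := by
  obtain ⟨C, hC⟩ := Submodule.exists_isCompl (X ⊔ Y)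
  have hXY : IsCompl X (Y ⊔ C) := by
    refine IsCompl.of_eq ?_ ?_
    · rw [eq_bot_iff]
      rintro v ⟨hvX, hv⟩
      obtain ⟨y, hy, c, hc, rfl⟩ := Submodule.mem_sup.mp hv
      have hc0 : c = 0 := by
        have : c ∈ X ⊔ Y := by
          have : c = (y + c) - y := by abel
          rw [this]
          exact Submodule.sub_mem _ (Submodule.mem_sup_left hvX) (Submodule.mem_sup_right hy)
        exact Submodule.disjoint_def.mp hC.disjoint c this hc
      subst hc0
      rw [add_zero] at hvX ⊢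
      exact Submodule.mem_bot F |>.mpr (Submodule.disjoint_def.mp (disjoint_iff.mpr h) y hvX hy)
    · rw [← sup_assoc, hC.sup_eq_top]
  refine ⟨X.projection (Y ⊔ C) hXY, fun x hx => ?_, fun y hy => ?_, fun v => ?_⟩
  · exact Submodule.projection_apply_left hXY ⟨x, hx⟩
  · exact (Submodule.projection_apply_eq_zero_iff hXY).mpr (Submodule.mem_sup_left hy)
  · exact Submodule.projection_apply_mem hXY v

theorem glue {ρ : Representation F G V} {X Y : Submodule F V} (hX : Inv ρ X) (hY : Inv ρ Y)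
    (h : X ⊓ Y = ⊥) (A B : BilinForm F V) (hA : FInv ρ X A) (hB : FInv ρ Y B) (nA : ND X A)
    (nB : ND Y B) : ∃ f g : V →ₗ[F] V,
      FInv ρ (X ⊔ Y) (A.comp f f + B.comp g g) ∧ ND (X ⊔ Y) (A.comp f f + B.comp g g) := by
  obtain ⟨f, f1, f0, -⟩ := projPair h
  obtain ⟨g, g1, g0, -⟩ := projPair (X := Y) (Y := X) (by rw [inf_comm]; exact h)
  refine ⟨f, g, ?_, ?_⟩
  · intro k u hu v hv
    obtain ⟨a, ha, b, hb, rfl⟩ := Submodule.mem_sup.mp hu
    obtain ⟨c, hc, d, hd, rfl⟩ := Submodule.mem_sup.mp hv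
    simp only [LinearMap.add_apply, LinearMap.BilinForm.comp_apply, map_add, f1 a ha, f1 c hc,
      g1 b hb, g1 d hd, f0 b hb, f0 d hd, g0 a ha, g0 c hc, f1 _ (hX k a ha), f1 _ (hX k c hc),
      g1 _ (hY k b hb), g1 _ (hY k d hd), f0 _ (hY k b hb), f0 _ (hY k d hd), g0 _ (hX k a ha),
      g0 _ (hX k c hc), map_zero, LinearMap.zero_apply, add_zero, zero_add, hA k a ha c hc,
      hB k b hb d hd]
  · intro u hu hz
    obtain ⟨a, ha, b, hb, rfl⟩ := Submodule.mem_sup.mp hu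
    have ea : a = 0 := nA a ha fun y hy => by
      have := hz y (Submodule.mem_sup_left hy)
      simpa [f1 a ha, f0 b hb, g0 a ha, g1 b hb, f1 y hy, g0 y hy] using this
    have eb : b = 0 := nB b hb fun y hy => by
      have := hz y (Submodule.mem_sup_right hy)
      simpa [f1 a ha, f0 b hb, g0 a ha, g1 b hb, f0 y hy, g1 y hy] using this
    rw [ea, eb, add_zero]

theorem sy_bot (ρ : Representation F G V) : Sy ρ ⊥ :=
  ⟨0, fun x => rfl, fun _ _ _ _ _ => rfl, fun x hx _ => (Submodule.mem_bot F).mp hx⟩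

theorem or_bot (p : ℕ) (ρ : Representation F G V) : Or p ρ ⊥ :=
  ⟨⟨0, fun _ _ => rfl, fun _ _ _ _ _ => rfl, fun x hx _ => (Submodule.mem_bot F).mp hx⟩,
    fun _ g x hx => by rw [(Submodule.mem_bot F).mp hx, map_zero]⟩

theorem sy_sup {ρ : Representation F G V} {X Y : Submodule F V} (hX : Inv ρ X) (hY : Inv ρ Y)
    (h : X ⊓ Y = ⊥) : Sy ρ X → Sy ρ Y → Sy ρ (X ⊔ Y) := by
  rintro ⟨A, a0, a1, a2⟩ ⟨B, b0, b1, b2⟩
  obtain ⟨f, g, h1, h2⟩ := glue hX hY h A B a1 b1 a2 b2
  exact ⟨_, fun x => by simp [a0, b0], h1, h2⟩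

theorem or_sup {p : ℕ} {ρ : Representation F G V} {X Y : Submodule F V} (hX : Inv ρ X)
    (hY : Inv ρ Y) (h : X ⊓ Y = ⊥) : Or p ρ X → Or p ρ Y → Or p ρ (X ⊔ Y) := by
  rintro ⟨⟨A, a0, a1, a2⟩, ta⟩ ⟨⟨B, b0, b1, b2⟩, tb⟩
  obtain ⟨f, g, h1, h2⟩ := glue hX hY h A B a1 b1 a2 b2
  refine ⟨⟨_, fun x y => ?_, h1, h2⟩, fun hp k u hu => ?_⟩
  · simp [a0 (f x), b0 (g x)]
  · obtain ⟨a, ha, b, hb, rfl⟩ := Submodule.mem_sup.mp hu
    rw [map_add, ta hp k a ha, tb hp k b hb]

/-- minimal invariant subspace -/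
def Irred (ρ : Representation F G V) (W : Submodule F V) : Prop :=
  Inv ρ W ∧ W ≠ ⊥ ∧ ∀ W' ≤ W, Inv ρ W' → W' = ⊥ ∨ W' = W

/-- Annihilated part of `W`. -/
def ann (W : Submodule F V) (A : BilinForm F V) (Y : Submodule F V) : Submodule F V where
  carrier := {w | w ∈ W ∧ ∀ y ∈ Y, A w y = 0}
  zero_mem' := ⟨W.zero_mem, fun y _ => by simp⟩
  add_mem' := fun ha hb => ⟨W.add_mem ha.1 hb.1, fun y hy => by simp [ha.2 y hy, hb.2 y hy]⟩
  smul_mem' := fun c x hx => ⟨W.smul_mem c hx.1, fun y hy => by simp [hx.2 y hy]⟩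

theorem ann_inv {ρ : Representation F G V} {W Y : Submodule F V} {A : BilinForm F V}
    (hW : Inv ρ W) (hY : Inv ρ Y) (hA : ∀ g : G, ∀ w ∈ W, ∀ y ∈ Y, A (ρ g w) (ρ g y) = A w y) :
    Inv ρ (ann W A Y) := by
  refine fun g w hw => ⟨hW g w hw.1, fun y hy => ?_⟩
  have := hA g w hw.1 (ρ g⁻¹ y) (hY _ y hy)
  rw [Representation.self_inv_apply] at this
  rw [this]
  exact hw.2 _ (hY _ y hy)

theorem ann_irred {ρ : Representation F G V} {W Y : Submodule F V} {A : BilinForm F V}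
    (hW : Irred ρ W) (hY : Inv ρ Y) (hA : ∀ g : G, ∀ w ∈ W, ∀ y ∈ Y, A (ρ g w) (ρ g y) = A w y)
    (hne : ∃ w ∈ W, ∃ y ∈ Y, A w y ≠ 0) : ∀ w ∈ W, (∀ y ∈ Y, A w y = 0) → w = 0 := by
  intro w hw hz
  rcases hW.2.2 (ann W A Y) (fun x hx => hx.1) (ann_inv hW.1 hY hA) with h | h
  · exact (Submodule.mem_bot F).mp (h ▸ (show w ∈ ann W A Y from ⟨hw, hz⟩))
  · obtain ⟨a, ha, y, hy, hay⟩ := hne
    exact absurd ((h.symm ▸ ha : a ∈ ann W A Y).2 y hy) hay

/-- one irreducible with nondegenerate form -/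
theorem single {p : ℕ} [Fact p.Prime] [CharP F p] {ρ : Representation F G V} {W : Submodule F V}
    (hW : Irred ρ W) (B : BilinForm F V) (hB : FInv ρ W B) (hne : ∃ x ∈ W, ∃ y ∈ W, B x y ≠ 0) :
    Sy ρ W ∨ Or p ρ W := by
  classical
  obtain ⟨f, f1, -, hf⟩ := projPair (X := W) (Y := ⊥) (inf_bot_eq W)
  let B' : BilinForm F V := B.comp f f
  have hB'inv : FInv ρ W B' := fun g x hx y hy => by
    simp [B', f1 x hx, f1 y hy, f1 _ (hW.1 g x hx), f1 _ (hW.1 g y hy), hB g x hx y hy]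
  by_cases hanti : ∃ x ∈ W, ∃ y ∈ W, B' x y - B' y x ≠ 0
  · left
    have hinv : FInv ρ W (B' - B'.flip) := fun g x hx y hy => by
      simp [hB'inv g x hx y hy, hB'inv g y hy x hx]
    exact ⟨B' - B'.flip, fun x => by simp, hinv, ann_irred hW hW.1 hinv (by simpa using hanti)⟩
  · push Not at hanti
    have hBsym : ∀ x ∈ W, ∀ y ∈ W, B x y = B y x := fun x hx y hy => by
      have := sub_eq_zero.mp (hanti x hx y hy)
      simpa [B', f1 x hx, f1 y hy] using this
    have hne' : ∃ x ∈ W, ∃ y ∈ W, B' x y ≠ 0 := by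
      obtain ⟨x, hx, y, hy, h⟩ := hne
      exact ⟨x, hx, y, hy, by simpa [B', f1 x hx, f1 y hy] using h⟩
    by_cases hp : p = 2
    · subst hp
      have h2 : ∀ a : F, a + a = 0 := CharTwo.add_self_eq_zero
      have hqadd : ∀ x ∈ W, ∀ y ∈ W, B (x + y) (x + y) = B x x + B y y := fun x hx y hy => by
        simp only [map_add, LinearMap.add_apply]
        rw [hBsym y hy x hx, ← add_assoc, add_assoc (B x x), h2, add_zero]
      let Q : Submodule F V :=
        { carrier := {w | w ∈ W ∧ B w w = 0}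
          zero_mem' := ⟨W.zero_mem, by simp⟩
          add_mem' := fun {a b} ha hb => ⟨W.add_mem ha.1 hb.1, by rw [hqadd a ha.1 b hb.1, ha.2, hb.2, add_zero]⟩
          smul_mem' := fun c x hx => ⟨W.smul_mem c hx.1, by simp [hx.2]⟩ }
      have hQ : Inv ρ Q := fun g w hw => ⟨hW.1 g w hw.1, by rw [hB g w hw.1 w hw.1, hw.2]⟩
      rcases hW.2.2 Q (fun x hx => hx.1) hQ with h | h
      · right
        -- symmetrise globally
        have htriv : ∀ g : G, ∀ x ∈ W, ρ g x = x := by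
          intro g x hx
          have hxw : ρ g x + x ∈ Q := ⟨W.add_mem (hW.1 g x hx) hx, by
            rw [hqadd _ (hW.1 g x hx) _ hx, hB g x hx x hx, h2]⟩
          rw [h, Submodule.mem_bot] at hxw
          have hxx : x + x = 0 := by rw [← two_smul F, CharTwo.two_eq_zero, zero_smul]
          exact add_right_cancel (hxw.trans hxx.symm)
        refine ⟨⟨B', ?_, hB'inv, ann_irred hW hW.1 hB'inv hne'⟩, fun _ => htriv⟩
        intro x y
        exact hBsym _ (hf x) _ (hf y)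
      · left
        refine ⟨B', fun x => ?_, hB'inv, ann_irred hW hW.1 hB'inv hne'⟩
        exact ((h.symm ▸ hf x : f x ∈ Q)).2
    · right
      exact ⟨⟨B', fun x y => hBsym _ (hf x) _ (hf y), hB'inv, ann_irred hW hW.1 hB'inv hne'⟩,
        fun h => absurd h hp⟩


/-- Let F be a finite field of characteristic p, G a finite group of order prime to p, and V a finite-dimensional representation of G over F carrying a nondegenerate G-invariant bilinear form (equivalently, V is self-dual). Then V is the direct sum of two G-invariant subspaces U and W such that U carries a G-invariant alternating bilinear form that is nondegenerate on U and W carries a G-invariant symmetric bilinear form that is nondegenerate on W; moreover when p = 2 the decomposition can be chosen with G acting trivially on W. -/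
theorem result {F : Type*} [Field F] [Fintype F] (p : ℕ) [Fact p.Prime] [CharP F p] {G : Type*} [Group G] [Finite G] (hcop : ¬ p ∣ Nat.card G) {V : Type*} [AddCommGroup V] [Module F V] [FiniteDimensional F V] (ρ : Representation F G V) (B : LinearMap.BilinForm F V) (hB : B.Nondegenerate) (hBinv : ∀ g : G, ∀ x y : V, B (ρ g x) (ρ g y) = B x y) : ∃ U W : Submodule F V, IsCompl U W ∧ (∀ g : G, ∀ u ∈ U, ρ g u ∈ U) ∧ (∀ g : G, ∀ w ∈ W, ρ g w ∈ W) ∧ (∃ A : LinearMap.BilinForm F V, (∀ x : V, A x x = 0) ∧ (∀ g : G, ∀ x ∈ U, ∀ y ∈ U, A (ρ g x) (ρ g y) = A x y) ∧ (∀ x ∈ U, (∀ y ∈ U, A x y = 0) → x = 0)) ∧ (∃ S : LinearMap.BilinForm F V, (∀ x y : V, S x y = S y x) ∧ (∀ g : G, ∀ x ∈ W, ∀ y ∈ W, S (ρ g x) (ρ g y) = S x y) ∧ (∀ x ∈ W, (∀ y ∈ W, S x y = 0) → x = 0)) ∧ (p = 2 → ∀ g : G, ∀ w ∈ W, ρ g w = w) := by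
  classical
  have : Fintype G := Fintype.ofFinite G
  have hG : (Fintype.card G : F) ≠ 0 := by
    rw [Ne, CharP.cast_eq_zero_iff F p, ← Nat.card_eq_fintype_card]
    exact hcop
  have maschke : ∀ L X : Submodule F V, L ≤ X → Inv ρ L → Inv ρ X →
      ∃ C : Submodule F V, Inv ρ C ∧ L ⊓ C = ⊥ ∧ L ⊔ C = X := by
    intro L X hLX hL hX
    obtain ⟨f, f1, -, hf⟩ := projPair (X := L) (Y := ⊥) (inf_bot_eq L)
    let P : V →ₗ[F] V := (Fintype.card G : F)⁻¹ • ∑ g : G, (ρ g) ∘ₗ f ∘ₗ (ρ g⁻¹)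
    have hP : ∀ v, P v = (Fintype.card G : F)⁻¹ • ∑ g : G, ρ g (f (ρ g⁻¹ v)) := fun v => by
      simp [P]
    have P1 : ∀ v ∈ L, P v = v := by
      intro v hv
      rw [hP, Finset.sum_congr rfl (fun g _ => by rw [f1 _ (hL _ v hv), Representation.self_inv_apply] :
        ∀ g ∈ Finset.univ, ρ g (f (ρ g⁻¹ v)) = v), Finset.sum_const, Finset.card_univ,
        ← Nat.cast_smul_eq_nsmul F, smul_smul, inv_mul_cancel₀ hG, one_smul]
    have Pmem : ∀ v, P v ∈ L := fun v => by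
      rw [hP]; exact L.smul_mem _ (L.sum_mem fun g _ => hL g _ (hf _))
    have Peq : ∀ k v, P (ρ k v) = ρ k (P v) := by
      intro k v
      rw [hP, hP, map_smul, map_sum]
      congr 1
      refine (Fintype.sum_equiv (Equiv.mulLeft k) _ _ fun g => ?_).symm
      rw [Equiv.coe_mulLeft, map_mul, Module.End.mul_apply, mul_inv_rev, map_mul, Module.End.mul_apply,
        Representation.inv_self_apply]
    refine ⟨X ⊓ LinearMap.ker P, fun g x hx => ⟨hX g x hx.1, ?_⟩, ?_, ?_⟩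
    · simp [Peq, LinearMap.mem_ker.mp hx.2]
    · rw [eq_bot_iff]
      rintro v ⟨h1, -, h2⟩
      exact (Submodule.mem_bot F).mpr ((P1 v h1).symm.trans h2)
    · refine le_antisymm (sup_le hLX inf_le_left) fun v hv => ?_
      refine Submodule.mem_sup.mpr ⟨P v, Pmem v, v - P v, ⟨X.sub_mem hv (hLX (Pmem v)), ?_⟩, by abel⟩
      simp [P1 _ (Pmem v)]
  have : Finite V := Module.finite_of_finite F
  have : Finite (Submodule F V) := Finite.of_injective _ SetLike.coe_injective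
  have irr : ∀ X : Submodule F V, Inv ρ X → X ≠ ⊥ → ∃ W ≤ X, Irred ρ W := by
    intro X hX h0
    obtain ⟨W, ⟨h1, h2, h3⟩, hmin⟩ := wellFounded_lt.has_min
      {W : Submodule F V | W ≤ X ∧ Inv ρ W ∧ W ≠ ⊥} ⟨X, le_refl X, hX, h0⟩
    refine ⟨W, h1, h2, h3, fun W' hle hinv => ?_⟩
    by_contra h
    rw [not_or] at h
    exact hmin W' ⟨hle.trans h1, hinv, h.1⟩ (lt_of_le_of_ne hle h.2)
  have main : ∀ X : Submodule F V, Inv ρ X → ND X B → ∃ U W : Submodule F V,
      Inv ρ U ∧ Inv ρ W ∧ U ⊓ W = ⊥ ∧ U ⊔ W = X ∧ Sy ρ U ∧ Or p ρ W := by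
    intro X
    induction X using WellFoundedLT.induction with
    | ind X IH =>
    intro hX hnd
    by_cases h0 : X = ⊥
    · subst h0
      exact ⟨⊥, ⊥, hX, hX, inf_bot_eq _, sup_bot_eq _, sy_bot ρ, or_bot p ρ⟩
    -- splitting off a nondegenerate piece
    have split : ∀ H : Submodule F V, H ≤ X → Inv ρ H → H ≠ ⊥ → ND H B → (Sy ρ H ∨ Or p ρ H) →
        ∃ U W : Submodule F V, Inv ρ U ∧ Inv ρ W ∧ U ⊓ W = ⊥ ∧ U ⊔ W = X ∧ Sy ρ U ∧ Or p ρ W := by
      intro H hHX hH hH0 hHnd htype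
      let Y := ann X B H
      have hY : Inv ρ Y := ann_inv hX hH (fun g a _ b _ => hBinv g a b)
      have hdis : H ⊓ Y = ⊥ := by
        rw [eq_bot_iff]
        rintro v ⟨h1, h2⟩
        exact (Submodule.mem_bot F).mpr (hHnd v h1 h2.2)
      let T : ↥H →ₗ[F] Module.Dual F ↥H := B.compl₁₂ H.subtype H.subtype
      have hT : Function.Injective T := by
        rw [← LinearMap.ker_eq_bot, LinearMap.ker_eq_bot']
        intro v hv
        exact Subtype.ext (hHnd v v.2 fun y hy => LinearMap.congr_fun hv ⟨y, hy⟩)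
      have hTs : Function.Surjective T :=
        (LinearMap.injective_iff_surjective_of_finrank_eq_finrank Subspace.dual_finrank_eq.symm).mp hT
      have hsup : H ⊔ Y = X := by
        refine le_antisymm (sup_le hHX fun v hv => hv.1) fun v hv => ?_
        obtain ⟨h, hh⟩ := hTs ((B v).comp H.subtype)
        refine Submodule.mem_sup.mpr ⟨h, h.2, v - h, ⟨X.sub_mem hv (hHX h.2), fun y hy => ?_⟩, by abel⟩
        have := LinearMap.congr_fun hh ⟨y, hy⟩
        simp only [map_sub, LinearMap.sub_apply, sub_eq_zero]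
        exact this.symm
      have hlt : Y < X := by
        refine lt_of_le_of_ne (fun v hv => hv.1) fun hYX => hH0 ?_
        rw [eq_bot_iff, ← hdis]
        exact le_inf le_rfl (hYX ▸ hHX)
      have hYnd : ND Y B := fun y hy hz => hnd y hy.1 fun x hx => by
        rw [← hsup] at hx
        obtain ⟨a, ha, b, hb, rfl⟩ := Submodule.mem_sup.mp hx
        rw [map_add, hy.2 a ha, hz b hb, add_zero]
      obtain ⟨U, W, hU, hW, hUW, hUWs, hsU, hoW⟩ := IH Y hlt hY hYnd
      have hU' : U ≤ Y := hUWs ▸ le_sup_left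
      have hW' : W ≤ Y := hUWs ▸ le_sup_right
      have hdU : H ⊓ U = ⊥ := eq_bot_iff.mpr ((inf_le_inf_left H hU').trans hdis.le)
      have hdW : H ⊓ W = ⊥ := eq_bot_iff.mpr ((inf_le_inf_left H hW').trans hdis.le)
      rcases htype with ht | ht
      · refine ⟨H ⊔ U, W, inv_sup hH hU, hW, ?_, by rw [sup_assoc, hUWs, hsup],
          sy_sup hH hU hdU ht hsU, hoW⟩
        rw [eq_bot_iff]
        rintro v ⟨h1, h2⟩
        obtain ⟨a, ha, b, hb, rfl⟩ := Submodule.mem_sup.mp h1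
        have ha0 : a = 0 := by
          have : a ∈ H ⊓ Y := ⟨ha, by simpa using Y.sub_mem (hW' h2) (hU' hb)⟩
          rwa [hdis, Submodule.mem_bot] at this
        subst ha0
        rw [zero_add] at h2 ⊢
        exact hUW ▸ (show b ∈ U ⊓ W from ⟨hb, h2⟩)
      · refine ⟨U, H ⊔ W, hU, inv_sup hH hW, ?_, by rw [sup_left_comm, hUWs, hsup],
          hsU, or_sup hH hW hdW ht hoW⟩
        rw [eq_bot_iff]
        rintro v ⟨h2, h1⟩
        obtain ⟨a, ha, b, hb, rfl⟩ := Submodule.mem_sup.mp h1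
        have ha0 : a = 0 := by
          have : a ∈ H ⊓ Y := ⟨ha, by simpa using Y.sub_mem (hU' h2) (hW' hb)⟩
          rwa [hdis, Submodule.mem_bot] at this
        subst ha0
        rw [zero_add] at h2 ⊢
        exact hUW ▸ (show b ∈ U ⊓ W from ⟨h2, hb⟩)
    have piece : ∀ W ≤ X, Irred ρ W → (∃ x ∈ W, ∃ y ∈ W, B x y ≠ 0) →
        ∃ U W : Submodule F V, Inv ρ U ∧ Inv ρ W ∧ U ⊓ W = ⊥ ∧ U ⊔ W = X ∧ Sy ρ U ∧ Or p ρ W :=
      fun W hWX hW hne => split W hWX hW.1 hW.2.1
        (ann_irred hW hW.1 (fun g a _ b _ => hBinv g a b) hne)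
        (single hW B (fun g a _ b _ => hBinv g a b) hne)
    obtain ⟨W, hWX, hW⟩ := irr X hX h0
    by_cases hWW : ∃ x ∈ W, ∃ y ∈ W, B x y ≠ 0
    · exact piece W hWX hW hWW
    push Not at hWW
    have binv : ∀ (A : Submodule F V) (C : Submodule F V), ∀ g : G, ∀ a ∈ A, ∀ b ∈ C,
        B (ρ g a) (ρ g b) = B a b := fun _ _ g a _ b _ => hBinv g a b
    have binv' : ∀ (A : Submodule F V) (C : Submodule F V), ∀ g : G, ∀ a ∈ A, ∀ b ∈ C,
        B.flip (ρ g a) (ρ g b) = B.flip a b := fun _ _ g a _ b _ => hBinv g b a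
    let L := ann X B W
    let R := ann X B.flip W
    -- both radicals are proper
    obtain ⟨w, hw, hw0⟩ := Submodule.exists_mem_ne_zero_of_ne_bot hW.2.1
    have hR : R ≠ X := fun h => hw0 (hnd w (hWX hw) fun y hy =>
      (h.symm ▸ hy : y ∈ R).2 w hw)
    have hL : L ≠ X := by
      intro h
      let T : ↥X →ₗ[F] Module.Dual F ↥X := B.compl₁₂ X.subtype X.subtype
      have hT : Function.Injective T := by
        rw [← LinearMap.ker_eq_bot, LinearMap.ker_eq_bot']
        intro v hv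
        exact Subtype.ext (hnd v v.2 fun y hy => LinearMap.congr_fun hv ⟨y, hy⟩)
      have hTs : Function.Surjective T :=
        (LinearMap.injective_iff_surjective_of_finrank_eq_finrank Subspace.dual_finrank_eq.symm).mp hT
      obtain ⟨φ, hφ⟩ : ∃ φ : Module.Dual F ↥X, φ ⟨w, hWX hw⟩ ≠ 0 := by
        by_contra hc
        push Not at hc
        have := (Module.forall_dual_apply_eq_zero_iff F (⟨w, hWX hw⟩ : ↥X)).mp hc
        exact hw0 (congrArg Subtype.val this)
      obtain ⟨x, rfl⟩ := hTs φ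
      exact hφ ((h.symm ▸ x.2 : (x : V) ∈ L).2 w hw)
    have compl : ∀ A : BilinForm F V, (∀ g : G, ∀ a ∈ X, ∀ b ∈ W, A (ρ g a) (ρ g b) = A a b) →
        ann X A W ≠ X → ∃ C ≤ X, Irred ρ C ∧ C ⊓ ann X A W = ⊥ ∧
          (∀ c ∈ C, (∀ w ∈ W, A c w = 0) → c = 0) := by
      intro A hA hne
      obtain ⟨C, hC, hd, hs⟩ := maschke (ann X A W) X (fun v hv => hv.1) (ann_inv hX hW.1 hA) hX
      have hC0 : C ≠ ⊥ := fun h => hne (by rw [h, sup_bot_eq] at hs; exact hs)
      obtain ⟨C', hC'le, hC'⟩ := irr C hC hC0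
      have hC'X : C' ≤ X := hC'le.trans (hs ▸ le_sup_right)
      have hd' : C' ⊓ ann X A W = ⊥ := by
        rw [eq_bot_iff, ← hd, inf_comm]
        exact inf_le_inf_left _ hC'le
      refine ⟨C', hC'X, hC', hd', fun c hc hz => ?_⟩
      have : c ∈ C' ⊓ ann X A W := ⟨hc, hC'X hc, hz⟩
      rwa [hd', Submodule.mem_bot] at this
    have surj : ∀ (A : BilinForm F V) (C : Submodule F V), C ≠ ⊥ → Inv ρ C →
        (∀ g : G, ∀ a ∈ W, ∀ b ∈ C, A.flip (ρ g a) (ρ g b) = A.flip a b) →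
        (∀ c ∈ C, (∀ w ∈ W, A c w = 0) → c = 0) →
        ∀ φ : Module.Dual F ↥W, ∃ c ∈ C, ∀ w : ↥W, A c w = φ w := by
      intro A C hC0 hC hA hinj
      let T : ↥C →ₗ[F] Module.Dual F ↥W := A.compl₁₂ C.subtype W.subtype
      let T' : ↥W →ₗ[F] Module.Dual F ↥C := A.flip.compl₁₂ W.subtype C.subtype
      have hT : Function.Injective T := by
        rw [← LinearMap.ker_eq_bot, LinearMap.ker_eq_bot']
        intro v hv
        exact Subtype.ext (hinj v v.2 fun y hy => LinearMap.congr_fun hv ⟨y, hy⟩)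
      obtain ⟨c, hc, hc0⟩ := Submodule.exists_mem_ne_zero_of_ne_bot hC0
      obtain ⟨y, hy, hcy⟩ : ∃ y ∈ W, A c y ≠ 0 := by
        by_contra h
        push Not at h
        exact hc0 (hinj c hc h)
      have hne := ann_irred hW hC hA ⟨y, hy, c, hc, hcy⟩
      have hT' : Function.Injective T' := by
        rw [← LinearMap.ker_eq_bot, LinearMap.ker_eq_bot']
        intro v hv
        exact Subtype.ext (hne v v.2 fun y hy => LinearMap.congr_fun hv ⟨y, hy⟩)
      have l1 := LinearMap.finrank_le_finrank_of_injective hT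
      have l2 := LinearMap.finrank_le_finrank_of_injective hT'
      rw [Subspace.dual_finrank_eq] at l1 l2
      have hs : Function.Surjective T := (LinearMap.injective_iff_surjective_of_finrank_eq_finrank
        (by rw [Subspace.dual_finrank_eq]; exact le_antisymm l1 l2)).mp hT
      intro φ
      obtain ⟨c, rfl⟩ := hs φ
      exact ⟨c, c.2, fun w => rfl⟩
    obtain ⟨C0, hC0X, hC0, -, hC0L⟩ := compl B (binv X W) hL
    obtain ⟨C1, hC1X, hC1, -, hC1R⟩ := compl B.flip (binv' X W) hR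
    obtain ⟨C, hCX, hC, hCL, hCR⟩ : ∃ C ≤ X, Irred ρ C ∧
        (∀ c ∈ C, (∀ w ∈ W, B c w = 0) → c = 0) ∧
        (∀ c ∈ C, (∀ w ∈ W, B w c = 0) → c = 0) := by
      by_cases h : ∃ w ∈ W, ∃ c ∈ C0, B w c ≠ 0
      · obtain ⟨w, hw, c, hc, hwc⟩ := h
        exact ⟨C0, hC0X, hC0, hC0L, ann_irred hC0 hW.1 (binv' C0 W) ⟨c, hc, w, hw, hwc⟩⟩
      by_cases h' : ∃ c ∈ C1, ∃ w ∈ W, B c w ≠ 0
      · exact ⟨C1, hC1X, hC1, ann_irred hC1 hW.1 (binv C1 W) h', hC1R⟩
      push Not at h h'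
      let D : Submodule F V :=
        { carrier := {v | ∃ a ∈ C0, ∃ b ∈ C1, (∀ w ∈ W, B a w = B w b) ∧ a + b = v}
          zero_mem' := ⟨0, C0.zero_mem, 0, C1.zero_mem, by simp, by simp⟩
          add_mem' := by
            rintro _ _ ⟨a, ha, b, hb, e, rfl⟩ ⟨a', ha', b', hb', e', rfl⟩
            exact ⟨a + a', C0.add_mem ha ha', b + b', C1.add_mem hb hb',
              fun w hw => by simp [e w hw, e' w hw], by abel⟩
          smul_mem' := by
            rintro k _ ⟨a, ha, b, hb, e, rfl⟩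
            exact ⟨k • a, C0.smul_mem k ha, k • b, C1.smul_mem k hb,
              fun w hw => by simp [e w hw], by rw [smul_add]⟩ }
      have hD : Inv ρ D := by
        rintro g _ ⟨a, ha, b, hb, e, rfl⟩
        refine ⟨ρ g a, hC0.1 g a ha, ρ g b, hC1.1 g b hb, fun w hw => ?_, (map_add _ _ _).symm⟩
        rw [← Representation.self_inv_apply ρ g w, hBinv, hBinv]
        exact e _ (hW.1 _ w hw)
      have hD1 : ∀ v ∈ D, (∀ w ∈ W, B v w = 0) → v = 0 := by
        rintro _ ⟨a, ha, b, hb, e, rfl⟩ hz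
        have ea : a = 0 := hC0L a ha fun w hw => by
          have := hz w hw
          simpa [h' b hb w hw] using this
        have eb : b = 0 := hC1R b hb fun w hw => by
          have := e w hw
          simpa [ea] using this.symm
        rw [ea, eb, add_zero]
      have hD2 : ∀ v ∈ D, (∀ w ∈ W, B w v = 0) → v = 0 := by
        rintro _ ⟨a, ha, b, hb, e, rfl⟩ hz
        have eb : b = 0 := hC1R b hb fun w hw => by
          have := hz w hw
          simpa [h w hw a ha] using this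
        have ea : a = 0 := hC0L a ha fun w hw => by rw [e w hw, eb, map_zero]
        rw [ea, eb, add_zero]
      have hD0 : D ≠ ⊥ := by
        obtain ⟨a, ha, ha0⟩ := Submodule.exists_mem_ne_zero_of_ne_bot hC0.2.1
        obtain ⟨b, hb, hab⟩ := surj B.flip C1 hC1.2.1 hC1.1 (fun g a _ b _ => hBinv g a b) hC1R
          ((B a).comp W.subtype)
        intro hbot
        have hm : a + b ∈ D := ⟨a, ha, b, hb, fun w hw => (hab ⟨w, hw⟩).symm, rfl⟩
        rw [hbot, Submodule.mem_bot] at hm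
        exact ha0 (hC0L a ha fun w hw => by
          rw [eq_neg_of_add_eq_zero_left hm, map_neg, LinearMap.neg_apply, h' b hb w hw, neg_zero])
      obtain ⟨C, hCD, hC⟩ := irr D hD hD0
      refine ⟨C, fun v hv => ?_, hC, fun c hc => hD1 c (hCD hc), fun c hc => hD2 c (hCD hc)⟩
      obtain ⟨a, ha, b, hb, -, rfl⟩ := hCD hv
      exact X.add_mem (hC0X ha) (hC1X hb)
    by_cases hCC : ∃ x ∈ C, ∃ y ∈ C, B x y ≠ 0
    · exact piece C hCX hC hCC
    push Not at hCC
    have hdis : W ⊓ C = ⊥ := by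
      rw [eq_bot_iff]
      rintro v ⟨h1, h2⟩
      exact (Submodule.mem_bot F).mpr (hCL v h2 fun y hy => hWW v h1 y hy)
    obtain ⟨c0, hc0, hc0n⟩ := Submodule.exists_mem_ne_zero_of_ne_bot hC.2.1
    obtain ⟨w1, hw1, hn1⟩ : ∃ y ∈ W, B y c0 ≠ 0 := by
      by_contra h; push Not at h; exact hc0n (hCR c0 hc0 h)
    have hWC : ∀ a ∈ W, (∀ c ∈ C, B a c = 0) → a = 0 :=
      ann_irred hW hC.1 (binv W C) ⟨w1, hw1, c0, hc0, hn1⟩
    have hHnd : ND (W ⊔ C) B := by
      intro v hv hz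
      obtain ⟨a, ha, c, hc, rfl⟩ := Submodule.mem_sup.mp hv
      have ea : a = 0 := hWC a ha fun y hy => by
        have := hz y (Submodule.mem_sup_right hy)
        simpa [hCC c hc y hy] using this
      have ec : c = 0 := hCL c hc fun y hy => by
        have := hz y (Submodule.mem_sup_left hy)
        simpa [ea] using this
      rw [ea, ec, add_zero]
    obtain ⟨f, f1, f0, -⟩ := projPair hdis
    obtain ⟨k, k1, k0, -⟩ := projPair (X := C) (Y := W) (by rw [inf_comm]; exact hdis)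
    have hSy : Sy ρ (W ⊔ C) := by
      refine ⟨B.comp f k - (B.comp f k).flip, fun x => by simp, ?_, ?_⟩
      · intro g u hu v hv
        obtain ⟨a, ha, b, hb, rfl⟩ := Submodule.mem_sup.mp hu
        obtain ⟨c, hc, d, hd, rfl⟩ := Submodule.mem_sup.mp hv
        simp [f1 a ha, f1 c hc, f0 b hb, f0 d hd, k1 b hb, k1 d hd, k0 a ha, k0 c hc,
          f1 _ (hW.1 g a ha), f1 _ (hW.1 g c hc), f0 _ (hC.1 g b hb), f0 _ (hC.1 g d hd),
          k1 _ (hC.1 g b hb), k1 _ (hC.1 g d hd), k0 _ (hW.1 g a ha), k0 _ (hW.1 g c hc), hBinv]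
      · intro v hv hz
        obtain ⟨a, ha, c, hc, rfl⟩ := Submodule.mem_sup.mp hv
        have ea : a = 0 := hWC a ha fun y hy => by
          have := hz y (Submodule.mem_sup_right hy)
          simpa [f1 a ha, f0 c hc, k0 a ha, k1 c hc, f0 y hy, k1 y hy] using this
        have ec : c = 0 := hCR c hc fun y hy => by
          have := hz y (Submodule.mem_sup_left hy)
          simpa [ea, f0 c hc, k1 c hc, f1 y hy, k0 y hy] using this
        rw [ea, ec, add_zero]
    exact split (W ⊔ C) (sup_le hWX hCX) (inv_sup hW.1 hC.1)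
      (fun h => hW.2.1 (le_bot_iff.mp (h ▸ le_sup_left))) hHnd (Or.inl hSy)
  obtain ⟨U, W, hU, hW, hd, hs, hsU, hoW⟩ := main ⊤ (fun _ _ _ => Submodule.mem_top)
    (fun x _ hx => hB.1 x fun y => hx y Submodule.mem_top)
  exact ⟨U, W, IsCompl.of_eq hd hs, hU, hW, hsU, hoW.1, hoW.2⟩

end Cfsg.Agent.S4966
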