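import Cfsg.Statements.S4967
import Mathlib.RingTheory.IntegralDomain
import Mathlib.FieldTheory.Finite.Basic

set_option autoImplicit false
open Cfsg

namespace Cfsg.Agent.S4967

/-- Let F be a finite field with r elements and of characteristic p, H a finite abelian group of order prime to p, and V a faithful irreducible representation of H over F of dimension n (faithful: distinct elements act differently; irreducible: the only H-invariant subspaces are 0 and V). Call V self-dual when it carries a nondegenerate H-invariant bilinear form. If n = 1 and V is self-dual then H has order at most 2. If n ≥ 2 then V is self-dual if and only if n is even and the order of H divides r^(n/2) + 1. -/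
theorem result {F : Type*} [Field F] [Fintype F] (p : ℕ) [Fact p.Prime] [CharP F p] {H : Type*} [CommGroup H] [Finite H] (hcop : ¬ p ∣ Nat.card H) {V : Type*} [AddCommGroup V] [Module F V] [FiniteDimensional F V] (ρ : Representation F H V) (hfaith : Function.Injective ρ) (hirr : ∀ U : Submodule F V, (∀ h : H, ∀ u ∈ U, ρ h u ∈ U) → U = ⊥ ∨ U = ⊤) : (Module.finrank F V = 1 → (∃ B : LinearMap.BilinForm F V, B.Nondegenerate ∧ ∀ h : H, ∀ x y : V, B (ρ h x) (ρ h y) = B x y) → Nat.card H ≤ 2) ∧ (2 ≤ Module.finrank F V → ((∃ B : LinearMap.BilinForm F V, B.Nondegenerate ∧ ∀ h : H, ∀ x y : V, B (ρ h x) (ρ h y) = B x y) ↔ (Even (Module.finrank F V) ∧ Nat.card H ∣ Fintype.card F ^ (Module.finrank F V / 2) + 1))) := by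
  classical
  set n := Module.finrank F V with hn
  by_cases hn0 : n = 0
  · exact ⟨fun h => by omega, fun h => by omega⟩
  have : Nontrivial V := Module.nontrivial_of_finrank_pos (R := F) (Nat.pos_of_ne_zero hn0)
  have : Finite V := Module.finite_of_finite F
  obtain ⟨v, hv⟩ := exists_ne (0 : V)
  let S : Set (Module.End F V) := Set.range ρ
  let A := Algebra.adjoin F S
  have hSA : ∀ h, ρ h ∈ A := fun h => Algebra.subset_adjoin ⟨h, rfl⟩
  have hcom : IsMulCommutative A := Algebra.isMulCommutative_adjoin F (by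
    rintro _ ⟨a, rfl⟩ _ ⟨b, rfl⟩
    rw [← map_mul, ← map_mul, mul_comm])
  let : CommRing ↥A := { A.toRing with mul_comm := hcom.is_comm.comm }
  let ev : ↥A →ₗ[F] V := (LinearMap.applyₗ v).comp A.val.toLinearMap
  have hev : ∀ a : ↥A, ev a = (a : Module.End F V) v := fun _ => rfl
  have evmul : ∀ a b : ↥A, ev (a * b) = (a : Module.End F V) (ev b) := fun _ _ => rfl
  have hsurj : Function.Surjective ev := by
    rw [← LinearMap.range_eq_top]
    refine (hirr _ ?_).resolve_left ?_
    · rintro h _ ⟨a, rfl⟩
      exact ⟨⟨ρ h, hSA h⟩ * a, evmul _ _⟩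
    · intro h
      have : ev 1 ∈ LinearMap.range ev := ⟨1, rfl⟩
      rw [h, Submodule.mem_bot] at this
      exact hv this
  have hinj : Function.Injective ev := by
    rw [← LinearMap.ker_eq_bot, LinearMap.ker_eq_bot']
    intro a ha
    refine Subtype.ext (LinearMap.ext fun w => ?_)
    obtain ⟨b, rfl⟩ := hsurj w
    rw [← evmul, mul_comm, evmul, ha, map_zero]
    rfl
  have : Nontrivial ↥A := ⟨⟨0, 1, fun h => hv (by
    have := congrArg ev h
    simpa [hev] using this.symm)⟩⟩
  have : NoZeroDivisors ↥A := ⟨fun {a b} hab => by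
    by_cases hb : b = 0
    · exact Or.inr hb
    left
    have hb' : ev b ≠ 0 := fun h => hb (hinj (h.trans (map_zero ev).symm))
    let K : Submodule F V := LinearMap.ker (a : Module.End F V)
    have hK : K = ⊤ := by
      refine (hirr K ?_).resolve_left ?_
      · intro h u hu
        obtain ⟨c, rfl⟩ := hsurj u
        rw [LinearMap.mem_ker] at hu ⊢
        have e : (ρ h) (ev c) = ev (⟨ρ h, hSA h⟩ * c) := (evmul ⟨ρ h, hSA h⟩ c).symm
        rw [← evmul] at hu
        rw [e, ← evmul, mul_left_comm, evmul, hu, map_zero]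
      · intro h
        have : ev b ∈ K := by
          rw [LinearMap.mem_ker, ← evmul, hab, map_zero]
        rw [h, Submodule.mem_bot] at this
        exact hb' this
    exact Subtype.ext (LinearMap.ker_eq_top.mp hK)⟩
  have : IsDomain ↥A := NoZeroDivisors.to_isDomain _
  have : Finite (Module.End F V) := Module.finite_of_finite F
  let : Field ↥A := (Finite.isField_of_domain ↥A).toField
  have hrank : Module.finrank F ↥A = n := (LinearEquiv.ofBijective ev ⟨hinj, hsurj⟩).finrank_eq
  let r := Fintype.card F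
  let ι : H →* ↥A :=
    { toFun := fun h => ⟨ρ h, hSA h⟩
      map_one' := Subtype.ext (map_one ρ)
      map_mul' := fun a b => Subtype.ext (map_mul ρ a b) }
  have hι : Function.Injective ι := fun a b h => hfaith (congrArg Subtype.val h)
  have hcyc : IsCyclic H := isCyclic_of_injective_ringHom ι hι
  obtain ⟨g, hg⟩ := hcyc.exists_generator
  have hord : orderOf g = Nat.card H := orderOf_eq_card_of_forall_mem_zpowers hg
  have hgen : ∀ {τ σ : ↥A →ₐ[F] ↥A}, (∀ h, τ (ι h) = σ (ι h)) → τ = σ := by
    intro τ σ h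
    ext ⟨a, ha⟩ : 1
    induction ha using Algebra.adjoin_induction with
    | mem x hx => obtain ⟨k, rfl⟩ := hx; exact h k
    | algebraMap k => exact (τ.commutes k).trans (σ.commutes k).symm
    | add x y hx hy e1 e2 =>
      have : (⟨x + y, A.add_mem hx hy⟩ : ↥A) = ⟨x, hx⟩ + ⟨y, hy⟩ := rfl
      rw [this, map_add, map_add, e1, e2]
    | mul x y hx hy e1 e2 =>
      have : (⟨x * y, A.mul_mem hx hy⟩ : ↥A) = ⟨x, hx⟩ * ⟨y, hy⟩ := rfl
      rw [this, map_mul, map_mul, e1, e2]
  let φ := FiniteField.frobeniusAlgHom F ↥A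
  have hφ : ∀ (j : ℕ) (x : ↥A), (φ ^ j) x = x ^ r ^ j := by
    intro j x
    rw [AlgHom.coe_pow, FiniteField.coe_frobeniusAlgHom, pow_iterate]
  -- a self-duality gives the exponent
  have fwd : (∃ B : LinearMap.BilinForm F V, B.Nondegenerate ∧
      ∀ h : H, ∀ x y : V, B (ρ h x) (ρ h y) = B x y) →
      ∃ j < n, Nat.card H ∣ r ^ j + 1 ∧ n ∣ j + j := by
    rintro ⟨B, hB, hBinv⟩
    have hex : ∀ a : ↥A, ∃ b : ↥A, ∀ x y : V,
        B ((a : Module.End F V) x) y = B x ((b : Module.End F V) y) := by
      rintro ⟨a, ha⟩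
      induction ha using Algebra.adjoin_induction with
      | mem x hx =>
        obtain ⟨h, rfl⟩ := hx
        refine ⟨ι h⁻¹, fun x y => ?_⟩
        change B (ρ h x) y = B x (ρ h⁻¹ y)
        conv_lhs => rw [← Representation.self_inv_apply ρ h y, hBinv]
      | algebraMap k =>
        exact ⟨algebraMap F ↥A k, fun x y => by simp [Module.algebraMap_end_apply]⟩
      | add x y _ _ e1 e2 =>
        obtain ⟨b, hb⟩ := e1; obtain ⟨c, hc⟩ := e2
        exact ⟨b + c, fun u w => by simp [hb, hc]⟩
      | mul x y _ _ e1 e2 =>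
        obtain ⟨b, hb⟩ := e1; obtain ⟨c, hc⟩ := e2
        exact ⟨c * b, fun u w => by simp only [Module.End.mul_apply, Subalgebra.coe_mul]; rw [hb, hc]⟩
    choose τ hτ using hex
    have uniq : ∀ (a b : ↥A), (∀ x y : V, B ((a : Module.End F V) x) y = B x ((b : Module.End F V) y)) →
        τ a = b := fun a b hb => by
      refine Subtype.ext (LinearMap.ext fun y => sub_eq_zero.mp (hB.2 _ fun x => ?_))
      rw [map_sub, ← hτ, ← hb, sub_self]
    let T : ↥A →ₐ[F] ↥A :=
      { toFun := τ
        map_one' := uniq 1 1 (fun x y => rfl)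
        map_mul' := fun a b => uniq _ _ (fun x y => by
          rw [mul_comm (τ a)]
          simp only [Module.End.mul_apply, Subalgebra.coe_mul]
          rw [hτ, hτ])
        map_zero' := uniq 0 0 (fun x y => by simp)
        map_add' := fun a b => uniq _ _ (fun x y => by simp [hτ])
        commutes' := fun k => uniq _ _ (fun x y => by simp [Module.algebraMap_end_apply]) }
    have hT : ∀ h, T (ι h) = ι h⁻¹ := fun h => uniq _ _ fun x y => by
      change B (ρ h x) y = B x (ρ h⁻¹ y)
      conv_lhs => rw [← Representation.self_inv_apply ρ h y, hBinv]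
    obtain ⟨j, hj⟩ := (FiniteField.bijective_frobeniusAlgHom_pow F ↥A).2 T
    refine ⟨j.1, hrank ▸ j.2, ?_, ?_⟩
    · have h1 := hT g
      rw [← hj] at h1
      change (φ ^ j.1) (ι g) = _ at h1
      rw [hφ, ← map_pow] at h1
      rw [← hord]
      exact orderOf_dvd_of_pow_eq_one (by rw [pow_succ, hι h1, inv_mul_cancel])
    · have hTT : T * T = 1 := hgen fun h => by
        rw [AlgHom.mul_apply, hT, hT, inv_inv, AlgHom.one_apply]
      rw [← hj] at hTT
      change φ ^ j.1 * φ ^ j.1 = 1 at hTT
      rw [← pow_add] at hTT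
      exact (hrank.symm.trans (FiniteField.orderOf_frobeniusAlgHom F ↥A).symm).dvd.trans
        (orderOf_dvd_of_pow_eq_one hTT)
  refine ⟨fun h1 hB => ?_, fun h2 => ⟨fun hB => ?_, ?_⟩⟩
  · obtain ⟨j, hj, hd, -⟩ := fwd hB
    obtain rfl : j = 0 := by omega
    exact Nat.le_of_dvd two_pos (by simpa using hd)
  · obtain ⟨j, hj, hd, hdd⟩ := fwd hB
    have hj0 : j ≠ 0 := by
      rintro rfl
      have hg2 : g ^ 2 = 1 := by
        rw [← orderOf_dvd_iff_pow_eq_one, hord]; simpa using hd
      have hsq : ι g * ι g = 1 := by rw [← map_mul, ← pow_two, hg2, map_one]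
      have hs : ∃ c : F, ρ g = algebraMap F (Module.End F V) c := by
        rcases mul_self_eq_one_iff.mp hsq with h | h
        · exact ⟨1, by rw [map_one]; exact congrArg Subtype.val h⟩
        · exact ⟨-1, by rw [map_neg, map_one]; exact congrArg Subtype.val h⟩
      obtain ⟨c, hc⟩ := hs
      have hL : ∀ h : H, ∀ u ∈ (F ∙ v), ρ h u ∈ (F ∙ v) := by
        intro h
        obtain ⟨k, rfl⟩ := mem_powers_iff_mem_zpowers.mpr (hg h)
        intro u hu
        change ρ (g ^ k) u ∈ _
        rw [map_pow, hc, ← map_pow, Module.algebraMap_end_apply]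
        exact Submodule.smul_mem _ _ hu
      rcases hirr _ hL with h | h
      · exact hv (Submodule.span_singleton_eq_bot.mp h)
      · have := finrank_span_singleton (K := F) hv
        rw [h, finrank_top] at this
        omega
    obtain ⟨k, hk⟩ := hdd
    have hk1 : k = 1 := by
      rcases k with _ | _ | k
      · omega
      · rfl
      · nlinarith
    subst hk1
    refine ⟨⟨j, by omega⟩, ?_⟩
    have : n / 2 = j := by omega
    rw [this]
    exact hd
  · rintro ⟨⟨m, hm⟩, hd⟩
    have hm' : n / 2 = m := by omega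
    rw [hm'] at hd
    obtain ⟨c, hc⟩ : ∃ c : Module.Dual F ↥A, c ≠ 0 := exists_ne 0
    let e : V ≃ₗ[F] ↥A := (LinearEquiv.ofBijective ev ⟨hinj, hsurj⟩).symm
    let σ : ↥A →ₐ[F] ↥A := φ ^ m
    have he : ∀ (h : H) (x : V), e (ρ h x) = ι h * e x := by
      intro h x
      apply e.symm.injective
      rw [LinearEquiv.symm_apply_apply]
      change _ = ev (ι h * e x)
      rw [evmul]
      change ρ h x = ρ h (e.symm (e x))
      rw [LinearEquiv.symm_apply_apply]
    have hσ : ∀ h, ι h * σ (ι h) = 1 := fun h => by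
      have : h ^ (r ^ m + 1) = 1 := by
        rw [← orderOf_dvd_iff_pow_eq_one]
        exact (orderOf_dvd_natCard h).trans hd
      rw [hφ, ← pow_succ', ← map_pow, this, map_one]
    let B : LinearMap.BilinForm F V :=
      ((LinearMap.mul F ↥A).compl₁₂ e.toLinearMap (σ.toLinearMap ∘ₗ e.toLinearMap)).compr₂ c
    have hBdef : ∀ x y, B x y = c (e x * σ (e y)) := fun _ _ => rfl
    have hnd : ∀ a : ↥A, (∀ b, c (a * b) = 0) → a = 0 := by
      intro a ha
      by_contra h
      exact hc (LinearMap.ext fun b => by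
        rw [← mul_inv_cancel_left₀ h b]; simpa using ha (a⁻¹ * b))
    have hσs : Function.Surjective σ := Finite.surjective_of_injective σ.toRingHom.injective
    refine ⟨B, ⟨fun x hx => ?_, fun y hy => ?_⟩, fun h x y => ?_⟩
    · refine e.injective ((hnd _ fun b => ?_).trans (map_zero e).symm)
      obtain ⟨b, rfl⟩ := hσs b
      obtain ⟨y, rfl⟩ := e.surjective b
      exact hx y
    · have h0 : σ (e y) = 0 := hnd _ fun b => by
        obtain ⟨x, rfl⟩ := e.surjective b
        rw [mul_comm]
        exact hy x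
      exact e.injective ((σ.toRingHom.injective (h0.trans (map_zero σ).symm)).trans (map_zero e).symm)
    · rw [hBdef, hBdef, he, he, map_mul σ, mul_mul_mul_comm, hσ, one_mul]

end Cfsg.Agent.S4967
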