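import Cfsg.Statements.S4969
import Cfsg.Agent.Lib.Char.Complete
import Mathlib.Analysis.Real.Sqrt
import Mathlib.Algebra.Order.Chebyshev

set_option autoImplicit false
open Cfsg

namespace Cfsg.Agent.S4969

/-- Let G be a finite group with k conjugacy classes, g ∈ G, and N > 0. Then the sum over the irreducible complex characters χ of G with χ(1) ≥ N of |χ(g)|/χ(1) is at most √(k · #C_G(g)) / N. -/
theorem result {G : Type*} [Group G] [Finite G] (g : G) (N : ℝ) (hN : 0 < N) :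
    ∑ᶠ χ : Cfsg.IrrCharacter G, (if N ≤ ‖(χ : G → ℂ) 1‖ then ‖(χ : G → ℂ) g‖ / ‖(χ : G → ℂ) 1‖ else 0) ≤
      Real.sqrt ((Nat.card (ConjClasses G) : ℝ) * (Nat.card ↥(Subgroup.centralizer ({g} : Set G)) : ℝ)) / N := by
  classical
  rw [finsum_eq_sum_of_fintype]
  have hcol : ∑ χ : Cfsg.IrrCharacter G, ‖(χ : G → ℂ) g‖ ^ 2 =
      (Nat.card ↥(Subgroup.centralizer ({g} : Set G)) : ℝ) := by
    have h := CfsgLib.Char.sum_mul_conj g g
    rw [if_pos (IsConj.refl g)] at h
    have h2 : ((∑ χ : Cfsg.IrrCharacter G, ‖(χ : G → ℂ) g‖ ^ 2 : ℝ) : ℂ) =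
        ((Nat.card ↥(Subgroup.centralizer ({g} : Set G)) : ℝ) : ℂ) := by
      push_cast
      rw [← h]
      exact Finset.sum_congr rfl fun χ _ => (Complex.mul_conj' _).symm
    exact_mod_cast h2
  have hcs : ∑ χ : Cfsg.IrrCharacter G, ‖(χ : G → ℂ) g‖ ≤
      Real.sqrt ((Nat.card (ConjClasses G) : ℝ) *
        (Nat.card ↥(Subgroup.centralizer ({g} : Set G)) : ℝ)) := by
    refine Real.le_sqrt_of_sq_le ?_
    rw [← hcol, ← CfsgLib.Char.card_irrCharacter, Nat.card_eq_fintype_card, ← Finset.card_univ]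
    exact sq_sum_le_card_mul_sum_sq
  refine le_trans ?_ (div_le_div_of_nonneg_right hcs hN.le)
  rw [Finset.sum_div]
  refine Finset.sum_le_sum fun χ _ => ?_
  split_ifs with h
  · exact div_le_div_of_nonneg_left (norm_nonneg _) hN h
  · exact div_nonneg (norm_nonneg _) hN.le

end Cfsg.Agent.S4969
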