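import Cfsg.Statements.S4989
import Cfsg.Agent.Lib.KGV.GaloisMean

set_option autoImplicit false
open Cfsg

namespace Cfsg.Agent.S4989

/-- Let H be a subgroup of the finite group G and χ an irreducible complex character of G. Then the inner product of the restriction of χ to H with itself, (1/#H)·Σ_{h ∈ H} |χ(h)|², is at most 1 + #(Z ∖ H)/#H, where Z is the set of zeros of χ in G. -/
theorem result {G : Type*} [Group G] [Finite G] (H : Subgroup G) (χ : Cfsg.IrrCharacter G) : (Nat.card ↥H : ℝ)⁻¹ * ∑ᶠ h : ↥H, ‖(χ : G → ℂ) h‖ ^ 2 ≤ 1 + (Set.ncard ({x : G | (χ : G → ℂ) x = 0} \ (H : Set G)) : ℝ) / (Nat.card ↥H : ℝ) := by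
  classical
  have := Fintype.ofFinite G
  let T : Finset G := Finset.univ.filter (fun g => g ∉ H)
  have hT : ∀ g ∈ T, ∀ m : ℕ, m.Coprime (Nat.card G) → g ^ m ∈ T := by
    intro g hg m hm
    simp only [T, Finset.mem_filter, Finset.mem_univ, true_and] at hg ⊢
    intro h
    obtain ⟨k, hk⟩ := exists_pow_eq_self_of_coprime (x := g)
      (hm.coprime_dvd_right (orderOf_dvd_natCard g))
    exact hg (hk ▸ H.pow_mem h k)
  have h1 := CfsgLib.KGV.card_filter_le_sum_norm T hT
    (CfsgLib.Char.IsIrrCharacter.isCharacter χ.2) 2 (Or.inr rfl)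
  have h2 : ((T.filter fun g => (χ : G → ℂ) g = 0).card : ℝ) =
      (Set.ncard ({x : G | (χ : G → ℂ) x = 0} \ (H : Set G)) : ℝ) := by
    rw [← Set.ncard_coe_finset]
    congr 2
    ext x
    simp [T, and_comm]
  have h3 : ((T.filter fun g => (χ : G → ℂ) g ≠ 0).card : ℝ) +
      ((T.filter fun g => (χ : G → ℂ) g = 0).card : ℝ) = T.card := by
    rw [← Nat.cast_add, add_comm, Finset.card_filter_add_card_filter_not]
  have h4 : (T.card : ℝ) + Nat.card ↥H = Nat.card G := by
    rw [Nat.card_eq_fintype_card, Fintype.card_subtype, ← Nat.cast_add, add_comm,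
      Finset.card_filter_add_card_filter_not, Finset.card_univ, Nat.card_eq_fintype_card]
  have h5 : ∑ g ∈ T, ‖(χ : G → ℂ) g‖ ^ 2 + ∑ᶠ h : ↥H, ‖(χ : G → ℂ) h‖ ^ 2 = Nat.card G := by
    rw [finsum_eq_sum_of_fintype, ← CfsgLib.KGV.sum_norm_sq χ.2,
      ← Finset.sum_filter_add_sum_filter_not Finset.univ (fun g : G => g ∈ H), add_comm]
    congr 1
    exact (Finset.sum_subtype _ (by simp) (fun g => ‖(χ : G → ℂ) g‖ ^ 2)).symm
  have hpos : (0 : ℝ) < Nat.card ↥H := Nat.cast_pos.mpr Nat.card_pos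
  rw [inv_mul_le_iff₀ hpos, mul_add, mul_one, mul_div_cancel₀ _ hpos.ne']
  linarith

end Cfsg.Agent.S4989
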