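import Cfsg.Statements.S4996
import Cfsg.Agent.Lib.KGV.GaloisMean
import Cfsg.Agent.Lib.Char.Twist
import Cfsg.Agent.Lib.Char.Virtual
import Cfsg.Agent.Lib.Char.Linear

set_option autoImplicit false
open Cfsg

namespace Cfsg.Agent.S4996

/-- Let N be a normal subgroup of the finite group G and χ an irreducible complex character of G. Then the restriction of χ to N is not irreducible if and only if χ vanishes on some whole coset Nx of N in G. -/
theorem result {G : Type*} [Group G] [Finite G] (N : Subgroup G) [N.Normal] (χ : Cfsg.IrrCharacter G) : ¬ Cfsg.IsIrrCharacter ↥N (fun n : ↥N => (χ : G → ℂ) n) ↔ ∃ x : G, ∀ n : ↥N, (χ : G → ℂ) ((n : G) * x) = 0 := by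
  classical
  have := Fintype.ofFinite G
  have := Fintype.ofFinite ↥N
  let Φ : G → ℂ := fun g => (χ : G → ℂ) g * (starRingEnd ℂ) ((χ : G → ℂ) g)
  have hχc : Cfsg.IsCharacter G (χ : G → ℂ) := CfsgLib.Char.IsIrrCharacter.isCharacter χ.2
  have hΦc : Cfsg.IsCharacter G Φ := CfsgLib.Char.IsCharacter.mul hχc
    (CfsgLib.Char.IsIrrCharacter.isCharacter (CfsgLib.CharTwist.isIrrCharacter_conj χ.2))
  let F : G → ℂ := fun g => (Nat.card ↥N : ℂ)⁻¹ * ∑ n : ↥N, Φ ((n : G) * g)
  have hNpos : (0 : ℝ) < Nat.card ↥N := Nat.cast_pos.mpr Nat.card_pos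
  have hN0 : (Nat.card ↥N : ℂ) ≠ 0 := Nat.cast_ne_zero.mpr Nat.card_pos.ne'
  obtain ⟨m, hm⟩ := CfsgLib.Char.IsCharacter.exists_nat_combination hΦc
  have havg : ∀ ψ : Cfsg.IrrCharacter G, ∃ e : ℕ, ∀ g : G,
      (Nat.card ↥N : ℂ)⁻¹ * ∑ n : ↥N, (ψ : G → ℂ) ((n : G) * g) = e * (ψ : G → ℂ) g := by
    rintro ⟨ψ, k, σ, hσ, rfl⟩
    by_cases hker : ∃ h ∈ N, σ h ≠ 1
    · refine ⟨0, fun g => ?_⟩
      have hfix := CfsgLib.CharKernel.fixedSpace_eq_bot σ N hker
      have hP : ∑ n : ↥N, σ (n : G) = 0 := LinearMap.ext fun v => by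
        have hv : (∑ n : ↥N, σ (n : G)) v ∈ CfsgLib.CharKernel.fixedSpace σ N := by
          rw [CfsgLib.CharKernel.mem_fixedSpace]
          intro h hh
          simp only [LinearMap.sum_apply, map_sum, ← Module.End.mul_apply, ← map_mul]
          exact Fintype.sum_equiv (Equiv.mulLeft (⟨h, hh⟩ : ↥N)) _ (fun n : ↥N => σ (n : G) v)
            (fun _ => rfl)
        rw [hfix, Submodule.mem_bot] at hv
        simpa using hv
      simp only [Representation.character, map_mul, ← map_sum, ← Finset.sum_mul, hP, zero_mul,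
        map_zero, mul_zero, Nat.cast_zero]
    · push Not at hker
      refine ⟨1, fun g => ?_⟩
      have : ∀ n : ↥N, σ.character ((n : G) * g) = σ.character g := fun n => by
        simp only [Representation.character, map_mul, hker n n.2, one_mul]
      simp only [this, Finset.sum_const, nsmul_eq_mul, Finset.card_univ, Nat.cast_one, one_mul,
        ← Nat.card_eq_fintype_card, inv_mul_cancel_left₀ hN0]
  choose e he using havg
  have hFc : Cfsg.IsCharacter G F := by
    have : F = ∑ ψ : Cfsg.IrrCharacter G, (m ψ * e ψ) • (ψ : G → ℂ) := by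
      funext g
      simp only [F, hm, Finset.sum_apply, Pi.smul_apply, smul_eq_mul, nsmul_eq_mul, Nat.cast_mul]
      rw [Finset.sum_comm, Finset.mul_sum]
      refine Finset.sum_congr rfl fun ψ _ => ?_
      rw [← Finset.mul_sum, mul_left_comm, he ψ g]
      simp [mul_assoc]
    rw [this]
    exact CfsgLib.Char.IsCharacter.sum _ _ fun ψ _ => CfsgLib.Char.IsCharacter.nsmul
      (CfsgLib.Char.IsIrrCharacter.isCharacter ψ.2) _
  let R : G → ℝ := fun g => (Nat.card ↥N : ℝ)⁻¹ * ∑ n : ↥N, ‖(χ : G → ℂ) ((n : G) * g)‖ ^ 2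
  have hFR : ∀ g, F g = (R g : ℂ) := fun g => by
    simp only [F, R, Φ, Complex.mul_conj', Complex.ofReal_mul, Complex.ofReal_inv,
      Complex.ofReal_natCast, Complex.ofReal_sum, Complex.ofReal_pow]
  have hR0 : ∀ g, 0 ≤ R g := fun g => by positivity
  have hRsum : ∑ g : G, R g = Nat.card G := by
    have hshift : ∀ n : ↥N, ∑ g : G, ‖(χ : G → ℂ) ((n : G) * g)‖ ^ 2 = Nat.card G := fun n =>
      (Fintype.sum_equiv (Equiv.mulLeft (n : G)) (fun g => ‖(χ : G → ℂ) ((n : G) * g)‖ ^ 2)
        (fun g => ‖(χ : G → ℂ) g‖ ^ 2) (fun _ => rfl)).trans (CfsgLib.KGV.sum_norm_sq χ.2)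
    simp only [R, ← Finset.mul_sum]
    rw [Finset.sum_comm, Finset.sum_congr rfl (fun n _ => hshift n), Finset.sum_const, nsmul_eq_mul, Finset.card_univ,
      ← Nat.card_eq_fintype_card, inv_mul_cancel_left₀ hNpos.ne']
  have hRN : ∀ g ∈ N, R g = R 1 := by
    intro g hg
    simp only [R, mul_one]
    congr 1
    exact Fintype.sum_equiv (Equiv.mulRight (⟨g, hg⟩ : ↥N)) _ (fun n : ↥N => ‖(χ : G → ℂ) (n : G)‖ ^ 2)
      (fun _ => rfl)
  let θ : ↥N → ℂ := fun n => (χ : G → ℂ) n
  have hθc : Cfsg.IsCharacter ↥N θ := CfsgLib.Char.IsCharacter.restrict hχc N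
  have hF1 : Cfsg.classInner θ θ = F 1 := by
    simp only [Cfsg.classInner, F, Φ, θ, mul_one]
  obtain ⟨r, hr⟩ := CfsgLib.Char.IsCharacter.exists_nat_classInner' hθc hθc
  have hR1 : R 1 = r := by
    have := (hFR 1).symm.trans (hF1.symm.trans hr)
    exact_mod_cast this
  have hzero : ∀ x, R x = 0 ↔ ∀ n : ↥N, (χ : G → ℂ) ((n : G) * x) = 0 := by
    intro x
    simp only [R, mul_eq_zero, inv_eq_zero, hNpos.ne', false_or]
    rw [Finset.sum_eq_zero_iff_of_nonneg (fun n _ => by positivity)]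
    simp
  have hr0 : r ≠ 0 := by
    intro h
    have := (hzero 1).mp (by rw [hR1, h, Nat.cast_zero]) 1
    exact CfsgLib.Char.IsIrrCharacter.apply_one_ne_zero χ.2 (by simpa using this)
  constructor
  · intro hred
    have hr2 : 2 ≤ r := by
      by_contra h
      have h1 : r = 1 := by omega
      exact hred (CfsgLib.Char.IsCharacter.isIrrCharacter_of_classInner_self hθc
        (by rw [hr, h1, Nat.cast_one]))
    by_contra hno
    push Not at hno
    have hpos : ∀ g, F g ≠ 0 := fun g hg => by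
      rw [hFR, Complex.ofReal_eq_zero, hzero] at hg
      obtain ⟨n, hn⟩ := hno g
      exact hn (hg n)
    let T : Finset G := Finset.univ.filter (fun g => g ∉ N)
    have hT : ∀ g ∈ T, ∀ m : ℕ, m.Coprime (Nat.card G) → g ^ m ∈ T := by
      intro g hg m hm
      simp only [T, Finset.mem_filter, Finset.mem_univ, true_and] at hg ⊢
      intro h
      obtain ⟨k, hk⟩ := exists_pow_eq_self_of_coprime (x := g)
        (hm.coprime_dvd_right (orderOf_dvd_natCard g))
      exact hg (hk ▸ N.pow_mem h k)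
    have hle := CfsgLib.KGV.card_filter_le_sum_norm T hT hFc 1 (Or.inl rfl)
    rw [Finset.filter_true_of_mem (fun g _ => hpos g)] at hle
    have hnorm : ∀ g, ‖F g‖ ^ 1 = R g := fun g => by
      rw [pow_one, hFR, Complex.norm_real, Real.norm_of_nonneg (hR0 g)]
    simp only [hnorm] at hle
    have hsplit := Finset.sum_filter_add_sum_filter_not Finset.univ (fun g : G => g ∈ N) R
    rw [hRsum, Finset.sum_congr rfl (fun g hg => (hRN g (Finset.mem_filter.mp hg).2).trans hR1),
      Finset.sum_const, nsmul_eq_mul, ← Fintype.card_subtype, ← Nat.card_eq_fintype_card] at hsplit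
    have h4 : (T.card : ℝ) + Nat.card ↥N = Nat.card G := by
      rw [Nat.card_eq_fintype_card, Fintype.card_subtype, ← Nat.cast_add, add_comm,
        Finset.card_filter_add_card_filter_not, Finset.card_univ, Nat.card_eq_fintype_card]
    have h5 : (2 : ℝ) * Nat.card ↥N ≤ Nat.card ↥N * r := by
      rw [mul_comm]
      exact mul_le_mul_of_nonneg_left (by exact_mod_cast hr2) hNpos.le
    linarith
  · rintro ⟨x, hx⟩ hirr
    have h1 : F 1 = 1 := by rw [← hF1]; exact CfsgLib.Char.classInner_irr_self hirr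
    obtain ⟨f, hf⟩ := CfsgLib.Char.IsCharacter.exists_linear hFc h1
    have : F x = 0 := by rw [hFR, (hzero x).mpr hx, Complex.ofReal_zero]
    exact Units.ne_zero (f x) ((hf x).symm.trans this)

end Cfsg.Agent.S4996
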