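import Cfsg.Statements.S5001
import Cfsg.Agent.Lib.BlockReg.Regular
import Cfsg.Agent.Lib.Char.Linear
import Cfsg.Agent.Lib.Char.Virtual
import Cfsg.Agent.Lib.Char.Integral
import Cfsg.Agent.Lib.Char.Kernel

set_option autoImplicit false
open Cfsg

namespace Cfsg.Agent.S5001

/-- Let p be a prime, G a finite group and B a p-block of G (relative to a maximal ideal M of the algebraic integers containing p) with defect group D. Let Z be a central p-subgroup of G contained in D and λ a linear character of Z (a homomorphism to the nonzero complex numbers). Say an irreducible character χ of G lies over λ when χ(z) = χ(1)λ(z) for all z ∈ Z. If some irreducible character in B lying over λ has height zero, then λ extends to a linear character of D. -/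
theorem result {G : Type*} [Group G] [Finite G] (p : ℕ) [Fact p.Prime] (M : Ideal Cfsg.AlgInt) (hM : Cfsg.IsPModular p M) (B : Set (Cfsg.IrrCharacter G)) (hB : Cfsg.IsPBlock M B) (D : Subgroup G) (hD : Cfsg.IsDefectGroup p M B D) (Z : Subgroup G) (hZc : Z ≤ Subgroup.center G) (hZp : IsPGroup p ↥Z) (hZD : Z ≤ D) (lam : ↥Z →* ℂˣ) (χ : Cfsg.IrrCharacter G) (hχ : χ ∈ B) (hover : (∀ z : ↥Z, (χ : G → ℂ) z = (χ : G → ℂ) 1 * (lam z : ℂ))) (h0 : Cfsg.blockHeight p B (χ : G → ℂ) = 0) : (∃ μ : ↥D →* ℂˣ, ∀ z : ↥Z, μ ⟨(z : G), hZD z.2⟩ = lam z) := by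
  classical
  have := Fintype.ofFinite G
  obtain ⟨g, hg, P, rfl⟩ := hD
  set D := (P : Subgroup ↥(Subgroup.centralizer ({g} : Set G))).map
    (Subgroup.centralizer ({g} : Set G)).subtype with hDdef
  have hDp : IsPGroup p ↥D := P.2.map _
  have hDg : ∀ u : ↥D, Commute (u : G) g := fun u => by
    obtain ⟨c, -, hc⟩ := Subgroup.mem_map.mp u.2
    rw [← hc]
    exact Subgroup.mem_centralizer_singleton_iff.mp c.2
  -- the character value at `g` is a unit
  have hunit : ¬ MemLocalIdeal M ((χ : G → ℂ) g) := by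
    have hv := CfsgLib.BlockReg.factorization_csize_defectClass hM hB hg
    rw [CfsgLib.BlockReg.blockHeight_eq] at h0
    have hmin := CfsgLib.BlockReg.minExp_le (p := p) hχ
    obtain ⟨hr, hi⟩ := CfsgLib.BlockReg.natCast_div_unit hM (CfsgLib.BlockReg.deg_pos χ).ne'
      (CfsgLib.BlockReg.csize_ne_zero g) (by omega)
    rw [CfsgLib.BlockReg.char_eq_centralChar_mul]
    exact CfsgLib.BlockReg.not_memIdeal_mul hM (CfsgLib.BlockReg.memRing_centralChar hM χ g) hr
      (hg.2.2 χ hχ) hi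
  -- a linear constituent
  let f : ↥(Subgroup.zpowers g) × ↥D →* G :=
    { toFun := fun h => (h.1 : G) * h.2
      map_one' := by simp
      map_mul' := fun a b => by
        obtain ⟨k, hk⟩ := Subgroup.mem_zpowers_iff.mp b.1.2
        have hcm : Commute (a.2 : G) (b.1 : G) := hk ▸ (hDg a.2).zpow_right k
        simp only [Prod.fst_mul, Prod.snd_mul, Subgroup.coe_mul]
        rw [mul_assoc, mul_assoc, ← mul_assoc (a.2 : G), hcm.eq, mul_assoc] }
  let gv : ↥(Subgroup.zpowers g) × ↥D := (⟨g, Subgroup.mem_zpowers g⟩, 1)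
  let : Fintype (↥(Subgroup.zpowers g) × ↥D) := Fintype.ofFinite _
  obtain ⟨m, hm⟩ := CfsgLib.Char.IsCharacter.exists_nat_combination
    (CfsgLib.Char.IsCharacter.comp (CfsgLib.Char.IsIrrCharacter.isCharacter χ.2) f)
  have hgv : f gv = g := by simp [f, gv]
  have hval : (χ : G → ℂ) g = ∑ ψ, (m ψ : ℂ) * ψ.1 gv := by
    have := congrFun hm gv
    rw [Finset.sum_apply, hgv] at this
    simpa using this
  obtain ⟨ψ₀, hψm, hψ1⟩ : ∃ ψ : Cfsg.IrrCharacter (↥(Subgroup.zpowers g) × ↥D),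
      m ψ ≠ 0 ∧ ψ.1 1 = 1 := by
    by_contra hno
    push Not at hno
    refine hunit ?_
    rw [hval]
    refine CfsgLib.BlockReg.memIdeal_sum hM _ fun ψ _ => ?_
    by_cases hm0 : m ψ = 0
    · rw [hm0, Nat.cast_zero, zero_mul]
      exact CfsgLib.BlockReg.memIdeal_zero hM
    refine CfsgLib.BlockReg.memIdeal_mul_left hM (CfsgLib.BlockReg.memRing_natCast hM _) ?_
    have hψne := hno ψ hm0
    obtain ⟨ψ, d, σ, hσ, rfl⟩ := ψ
    have hcentral : ∀ z : ↥(Subgroup.zpowers g), ∀ b : ↥(Subgroup.zpowers g) × ↥D,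
        ((z, 1) : ↥(Subgroup.zpowers g) × ↥D) * b = b * (z, 1) := fun z b => by
      refine Prod.ext (Subtype.ext ?_) (by simp)
      obtain ⟨i, hi⟩ := Subgroup.mem_zpowers_iff.mp z.2
      obtain ⟨j, hj⟩ := Subgroup.mem_zpowers_iff.mp b.1.2
      simp only [Prod.fst_mul, Subgroup.coe_mul, ← hi, ← hj, ← zpow_add, add_comm]
    have hscal : ∀ z, ∃ c : ℂ, σ (z, 1) = c • (1 : (Fin d → ℂ) →ₗ[ℂ] (Fin d → ℂ)) := fun z =>
      CfsgLib.Char.exists_scalar_of_commute σ (σ (z, 1)) fun b => by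
        rw [← map_mul, ← map_mul, hcentral]
    have hσD : Representation.IsIrreducible
        (σ.comp (MonoidHom.inr ↥(Subgroup.zpowers g) ↥D) : Representation ℂ ↥D (Fin d → ℂ)) := by
      have := CfsgLib.CharKernel.nontrivial_of_irreducible σ
      refine CfsgLib.CharKernel.isIrreducible_of_forall _ fun W hW =>
        CfsgLib.CharKernel.eq_bot_or_eq_top σ W fun b w hw => ?_
      obtain ⟨z, u⟩ := b
      obtain ⟨c, hc⟩ := hscal z
      have : ((z, u) : ↥(Subgroup.zpowers g) × ↥D) = (z, 1) * (1, u) := by simp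
      rw [this, map_mul, Module.End.mul_apply, hc]
      exact W.smul_mem c (hW u w hw)
    have hdvd := CfsgLib.Char.finrank_dvd_card
      (σ.comp (MonoidHom.inr ↥(Subgroup.zpowers g) ↥D) : Representation ℂ ↥D (Fin d → ℂ))
    obtain ⟨k, hk⟩ := IsPGroup.iff_card.mp hDp
    rw [hk, Nat.dvd_prime_pow (Fact.out : p.Prime)] at hdvd
    obtain ⟨j, -, hj⟩ := hdvd
    have hd : p ∣ d := by
      rw [Module.finrank_fin_fun] at hj
      rcases j with _ | j
      · exfalso
        apply hψne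
        change σ.character 1 = 1
        rw [Representation.char_one, Module.finrank_fin_fun, hj, pow_zero, Nat.cast_one]
      · rw [hj]; exact dvd_pow_self p (Nat.succ_ne_zero j)
    obtain ⟨c, hc⟩ := hscal ⟨g, Subgroup.mem_zpowers g⟩
    have : Nontrivial (Fin d → ℂ) := CfsgLib.CharKernel.nontrivial_of_irreducible σ
    have hint : IsIntegral ℤ c := by
      refine IsIntegral.of_pow (orderOf_pos gv) ?_
      have h1 : σ gv ^ orderOf gv = 1 := by rw [← map_pow, pow_orderOf_eq_one, map_one]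
      rw [show σ gv = c • (1 : (Fin d → ℂ) →ₗ[ℂ] (Fin d → ℂ)) from hc, smul_pow, one_pow] at h1
      obtain ⟨w, hw⟩ := exists_ne (0 : Fin d → ℂ)
      have h2 := LinearMap.congr_fun h1 w
      simp only [LinearMap.smul_apply, Module.End.one_apply] at h2
      have h3 : (c ^ orderOf gv - 1) • w = 0 := by rw [sub_smul, one_smul, h2, sub_self]
      rw [(sub_eq_zero.mp ((smul_eq_zero.mp h3).resolve_right hw))]
      exact isIntegral_one
    change MemLocalIdeal M (σ.character gv)
    rw [Representation.character, show σ gv = c • (1 : (Fin d → ℂ) →ₗ[ℂ] (Fin d → ℂ)) from hc,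
      map_smul, LinearMap.trace_one, Module.finrank_fin_fun, smul_eq_mul]
    exact CfsgLib.BlockReg.memIdeal_mul_left hM (CfsgLib.BlockReg.memRing_algInt hM hint)
      ((CfsgLib.BlockReg.memIdeal_natCast_iff hM d).mpr hd)
  obtain ⟨L, hL⟩ := CfsgLib.Char.IsCharacter.exists_linear
    (CfsgLib.Char.IsIrrCharacter.isCharacter ψ₀.2) hψ1
  refine ⟨L.comp (MonoidHom.inr ↥(Subgroup.zpowers g) ↥D), fun z => ?_⟩
  -- restrict to `Z`
  let ι : ↥Z →* ↥(Subgroup.zpowers g) × ↥D :=
    (MonoidHom.inr ↥(Subgroup.zpowers g) ↥D).comp (Subgroup.inclusion hZD)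
  let : Fintype ↥Z := Fintype.ofFinite _
  have hfι : ∀ z : ↥Z, f (ι z) = (z : G) := fun z => by simp [f, ι]
  let μ₀ : ↥Z →* ℂˣ := L.comp ι
  have hne : classInner (fun z : ↥Z => (lam z : ℂ)) (fun z : ↥Z => (μ₀ z : ℂ)) ≠ 0 := by
    intro hzero
    have hsum : (fun z : ↥Z => (χ : G → ℂ) z) = ∑ ψ, (m ψ : ℂ) • (fun z : ↥Z => ψ.1 (ι z)) := by
      funext z
      have := congrFun hm (ι z)
      simp only [Finset.sum_apply, Pi.smul_apply] at this ⊢
      rw [hfι] at this
      exact this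
    have hlhs : (fun z : ↥Z => (χ : G → ℂ) z) = (χ : G → ℂ) 1 • fun z : ↥Z => (lam z : ℂ) :=
      funext hover
    have h1 := congrArg (fun F => classInner F (fun z : ↥Z => (μ₀ z : ℂ))) hsum
    simp only [hlhs, CfsgLib.Char.classInner_smul_left, CfsgLib.Char.classInner_sum_left, hzero,
      mul_zero] at h1
    have hnat : ∀ ψ : Cfsg.IrrCharacter (↥(Subgroup.zpowers g) × ↥D), ∃ e : ℕ,
        classInner (fun z : ↥Z => ψ.1 (ι z)) (fun z : ↥Z => (μ₀ z : ℂ)) = e := fun ψ =>
      CfsgLib.Char.IsCharacter.exists_nat_classInner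
        (CfsgLib.Char.IsCharacter.comp (CfsgLib.Char.IsIrrCharacter.isCharacter ψ.2) ι)
        (CfsgLib.Char.isIrrCharacter_linear μ₀)
    choose e he using hnat
    simp only [he, ← Nat.cast_mul, ← Nat.cast_sum] at h1
    have h3 : ∑ ψ, m ψ * e ψ = 0 := by exact_mod_cast h1.symm
    have h2 := (Finset.sum_eq_zero_iff.mp h3) ψ₀ (Finset.mem_univ _)
    have he0 : e ψ₀ = 1 := by
      have h4 := he ψ₀
      rw [show (fun z : ↥Z => ψ₀.1 (ι z)) = fun z : ↥Z => (μ₀ z : ℂ) from funext fun z => hL (ι z),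
        CfsgLib.Char.classInner_irr_self (CfsgLib.Char.isIrrCharacter_linear μ₀)] at h4
      exact_mod_cast h4.symm
    rw [he0, mul_one] at h2
    exact hψm h2
  have heq := CfsgLib.Char.eq_of_classInner_ne_zero (CfsgLib.Char.isIrrCharacter_linear lam)
    (CfsgLib.Char.isIrrCharacter_linear μ₀) hne
  exact Units.ext (congrFun heq z).symm

end Cfsg.Agent.S5001
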