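import Cfsg.Statements.S5005
import Cfsg.Agent.Lib.KGV.M24Order
import Cfsg.Agent.Lib.Golay.Mathieu

set_option autoImplicit false
open Cfsg

namespace Cfsg.Agent.S5005

open CfsgLib.M24Calc CfsgLib.Golay CfsgLib.KGV
open scoped ComplexConjugate

/-- The stabiliser of two points. -/
abbrev Γ : Subgroup (Equiv.Perm GolayPt) := fixPts M24 [some 0, none]

theorem card_Γ : Nat.card Γ = 443520 := card_fix2

theorem mem_Γ {c : ℕ} (h : good c = true) (h0 : app c 23 = 23) (h1 : app c 0 = 0) : ofCode c ∈ Γ := by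
  refine ⟨mem_of_good h, fun x hx => bit_injective ?_⟩
  rw [← isFun_of_good h x]
  simp only [List.mem_cons, List.not_mem_nil, or_false] at hx
  rcases hx with rfl | rfl
  · exact h1
  · exact h0

theorem check5 : (good OrderData.g22_5 && good OrderData.n22_5 &&
    orderTest OrderData.g22_5 5 && orderTest OrderData.n22_5 4 &&
    eqF (fun j => app OrderData.n22_5 (app OrderData.g22_5 j))
      (fun j => iter OrderData.g22_5 2 (app OrderData.n22_5 j)) &&
    Nat.ble (pc24 (16777215 ^^^ fixMask (app OrderData.g22_5))) 20 &&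
    Nat.ble (commCount OrderData.g22_5) 1 && semiTest 5 2 &&
    Nat.beq (app OrderData.g22_5 23) 23 && Nat.beq (app OrderData.g22_5 0) 0 &&
    Nat.beq (app OrderData.n22_5 23) 23 && Nat.beq (app OrderData.n22_5 0) 0 &&
    Nat.beq (app OrderData.g22_5 1) 2 && Nat.beq (app OrderData.g22_5 2) 3) = true := by
  decide +kernel

theorem check7 : (good OrderData.g22_7 && good OrderData.n22_7 &&
    orderTest OrderData.g22_7 7 && orderTest OrderData.n22_7 3 &&
    eqF (fun j => app OrderData.n22_7 (app OrderData.g22_7 j))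
      (fun j => iter OrderData.g22_7 2 (app OrderData.n22_7 j)) &&
    Nat.ble (pc24 (16777215 ^^^ fixMask (app OrderData.g22_7))) 21 &&
    Nat.ble (commCount OrderData.g22_7) 1 && semiTest 7 2 &&
    Nat.beq (app OrderData.g22_7 23) 23 && Nat.beq (app OrderData.g22_7 0) 0 &&
    Nat.beq (app OrderData.n22_7 23) 23 && Nat.beq (app OrderData.n22_7 0) 0 &&
    Nat.beq (app OrderData.g22_7 1) 2 && Nat.beq (app OrderData.g22_7 2) 3) = true := by
  decide +kernel

theorem check11 : (good OrderData.g22_11 && good OrderData.n22_11 &&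
    orderTest OrderData.g22_11 11 && orderTest OrderData.n22_11 5 &&
    eqF (fun j => app OrderData.n22_11 (app OrderData.g22_11 j))
      (fun j => iter OrderData.g22_11 4 (app OrderData.n22_11 j)) &&
    Nat.ble (pc24 (16777215 ^^^ fixMask (app OrderData.g22_11))) 22 &&
    Nat.ble (commCount OrderData.g22_11) 1 && semiTest 11 4 &&
    Nat.beq (app OrderData.g22_11 23) 23 && Nat.beq (app OrderData.g22_11 0) 0 &&
    Nat.beq (app OrderData.n22_11 23) 23 && Nat.beq (app OrderData.n22_11 0) 0 &&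
    Nat.beq (app OrderData.g22_11 1) 2 && Nat.beq (app OrderData.g22_11 2) 3) = true := by
  decide +kernel

/-- The data attached to one of the three primes. -/
theorem prime_data (q r k g n M N₀ : ℕ) [Fact q.Prime] [Fintype Γ]
    (h : (good g && good n && orderTest g q && orderTest n r &&
      eqF (fun j => app n (app g j)) (fun j => iter g k (app n j)) &&
      Nat.ble (pc24 (16777215 ^^^ fixMask (app g))) M && Nat.ble (commCount g) 1 && semiTest q k &&
      Nat.beq (app g 23) 23 && Nat.beq (app g 0) 0 && Nat.beq (app n 23) 23 && Nat.beq (app n 0) 0 &&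
      Nat.beq (app g 1) 2 && Nat.beq (app g 2) 3) = true)
    (hq2 : ¬ q ^ 2 ∣ 443520) (hcop : Nat.Coprime q r)
    (hN : ∀ N ≤ (q - 1) * (M * 1), q * r ∣ N → N ∣ 443520 → (443520 / N) % q = 1 → N ≤ N₀) :
    (q - 1) * (443520 / N₀) ≤ (Finset.univ.filter fun x : Γ => orderOf x = q).card ∧
    ∃ G : Γ, orderOf G = q ∧ PowersSemiRational q G := by
  simp only [Bool.and_eq_true, Nat.ble_eq, Nat.beq_eq] at h
  obtain ⟨⟨⟨⟨⟨⟨⟨⟨⟨⟨⟨⟨⟨hg, hn⟩, hog⟩, hon⟩, hconj⟩, hM⟩, hC⟩, hst⟩, g23⟩, g0⟩, n23⟩, n0⟩, g1⟩, g2⟩ := h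
  have hgΓ := mem_Γ hg g23 g0
  have hnΓ := mem_Γ hn n23 n0
  set G := elem Γ hgΓ
  set N := elem Γ hnΓ
  have hG : orderOf G = q := by
    rw [← Subgroup.orderOf_coe]; exact orderOf_of_test hg hog
  have hNo : orderOf N = r := by
    rw [← Subgroup.orderOf_coe]; exact orderOf_of_test hn hon
  have hrel : N * G * N⁻¹ = G ^ k := by
    rw [mul_inv_eq_iff_eq_mul]
    exact Subtype.ext (eq_of_eqF ((isFun_of_good hn).mul (isFun_of_good hg))
      ((isFun_iter hg k).mul (isFun_of_good hn)) hconj)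
  have hq : q.Prime := Fact.out
  refine ⟨?_, G, hG, powersSemiRational hG hrel hq.pos hst⟩
  have e1 : ofCode g (some 1) = some 2 := bit_injective (by rw [← isFun_of_good hg]; exact g1)
  have e2 : ofCode g (some 2) = some 3 := bit_injective (by rw [← isFun_of_good hg]; exact g2)
  have hcent : Nat.card (Subgroup.centralizer ({G} : Set Γ)) ≤ M * 1 := by
    refine card_centralizer_le hg hgΓ (fun σ hσ => hσ.1) (some 1) (by rw [e1]; decide)
      (fun c hc hx => ?_) hM hC
    have step : ∀ y y' : GolayPt, ofCode g y = y' → c.1 y = y → c.1 y' = y' := by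
      intro y y' hy hcy
      have := congrArg (fun σ : Γ => σ.1 y) hc.eq
      rw [← hy]
      simpa [elem, hcy] using this
    have f2 := step _ _ e1 hx
    have f3 := step _ _ e2 f2
    simp [hx, f2, f3, c.2.2 none (by simp), c.2.2 (some 0) (by simp)]
  have h1 := card_order_lower (G := Γ) (by rw [card_Γ]; exact hq2) hG (q * r) (M * 1) N₀
    (dvd_card_normalizer hG hNo hrel hcop) hcent (by rw [card_Γ]; exact hN)
  rwa [card_Γ] at h1

/-- A real part: on elements of prime order where the squared absolute value is one. -/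
theorem re_value {q : ℕ} [Fact q.Prime] (hq2 : ¬ q ^ 2 ∣ Nat.card Γ) (χ : IrrCharacter Γ) {g : Γ}
    (hg : orderOf g = q) (hsr : PowersSemiRational q g)
    (h1 : ∀ x : Γ, orderOf x = q → ‖(χ : Γ → ℂ) x‖ ^ 2 = 1) :
    ∃ c : ℤ, (∀ x : Γ, orderOf x = q → (χ : Γ → ℂ) x + conj ((χ : Γ → ℂ) x) = c) ∧
      c ≤ 2 ∧ -2 ≤ c ∧ (q : ℤ) ∣ c - 2 * (charDegree (χ : Γ → ℂ) : ℤ) := by
  classical
  set θ : Γ → ℂ := fun x => (χ : Γ → ℂ) x + conj ((χ : Γ → ℂ) x) with hθdef
  have hθ : Cfsg.IsCharacter Γ θ :=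
    CfsgLib.Char.IsCharacter.add (CfsgLib.Char.IsIrrCharacter.isCharacter χ.2)
      (CfsgLib.Char.IsCharacter.conj_apply' (CfsgLib.Char.IsIrrCharacter.isCharacter χ.2))
  have hcl : ∀ a b, IsConj a b → θ a = θ b := fun a b h => by
    simp only [hθdef, CfsgLib.BlockReg.char_conj_invariant χ a b h]
  have hconst : ∀ j : ℕ, ¬ q ∣ j → θ (g ^ j) = θ g := fun j hj => by
    rcases hsr j hj with h | h
    · exact (hcl _ _ h).symm
    · rw [← hcl _ _ h]
      simp only [hθdef, CfsgLib.BlockReg.char_inv, Complex.conj_conj, add_comm]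
  have hd : θ 1 = ((2 * charDegree (χ : Γ → ℂ) : ℕ) : ℂ) := by
    simp only [hθdef]
    rw [← CfsgLib.BlockReg.deg_cast χ, Complex.conj_natCast, Nat.cast_mul, Nat.cast_two, two_mul]
  obtain ⟨c, hcg, hcd⟩ := exists_int_of_const_on_powers hθ hg hconst hd
  refine ⟨c, fun x hx => ?_, ?_⟩
  · obtain ⟨j, hj, hconj⟩ := exists_isConj_pow hq2 hg hx
    show θ x = _
    rw [← hcl _ _ hconj, hconst j hj, hcg]
  have h2 : ‖(c : ℂ)‖ ≤ 2 := by
    rw [← hcg]
    have hn : ‖(χ : Γ → ℂ) g‖ = 1 := (sq_eq_one_iff.1 (h1 g hg)).resolve_right fun h => by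
      have := norm_nonneg ((χ : Γ → ℂ) g); linarith
    refine (norm_add_le _ _).trans ?_
    rw [Complex.norm_conj, hn]; norm_num
  rw [Complex.norm_intCast] at h2
  have h3 := abs_le.1 h2
  exact ⟨by exact_mod_cast h3.2, by exact_mod_cast h3.1, by simpa using hcd⟩

theorem no_defect_zero (χ : IrrCharacter Γ) :
    ¬ 2 ^ (Nat.card Γ).factorization 2 ∣ charDegree (χ : Γ → ℂ) := by
  classical
  haveI := Fintype.ofFinite Γ
  haveI : Fact (Nat.Prime 5) := ⟨by norm_num⟩
  haveI : Fact (Nat.Prime 7) := ⟨by norm_num⟩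
  haveI : Fact (Nat.Prime 11) := ⟨by norm_num⟩
  have hf : (Nat.card Γ).factorization 2 = 7 := by
    rw [card_Γ, show (443520 : ℕ) = 2 ^ 7 * 3465 by norm_num,
      Nat.factorization_mul (by norm_num) (by norm_num), Finsupp.add_apply,
      Nat.Prime.factorization_pow Nat.prime_two,
      Nat.factorization_eq_zero_of_not_dvd (show ¬ 2 ∣ 3465 by norm_num)]
    simp
  rw [hf]
  intro hd
  obtain ⟨n5, g5, og5, s5⟩ := prime_data 5 4 2 _ _ 20 20 check5 (by norm_num) (by norm_num)
    (by decide +kernel)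
  obtain ⟨n7, g7, og7, s7⟩ := prime_data 7 3 2 _ _ 21 21 check7 (by norm_num) (by norm_num)
    (by decide +kernel)
  obtain ⟨n11, g11, og11, s11⟩ := prime_data 11 5 4 _ _ 22 55 check11 (by norm_num) (by norm_num)
    (by decide +kernel)
  obtain ⟨w5, hw5, c5, -⟩ := exists_sq_value (by rw [card_Γ]; norm_num) χ og5 s5 0 ⊥
    (by simp) (fun x hx => by rw [Subgroup.mem_bot.1 hx]; exact Commute.one_right _)
    (fun x hx hx1 => absurd (Subgroup.mem_bot.1 hx) hx1)
  obtain ⟨w7, hw7, c7, -⟩ := exists_sq_value (by rw [card_Γ]; norm_num) χ og7 s7 0 ⊥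
    (by simp) (fun x hx => by rw [Subgroup.mem_bot.1 hx]; exact Commute.one_right _)
    (fun x hx hx1 => absurd (Subgroup.mem_bot.1 hx) hx1)
  obtain ⟨w11, hw11, c11, -⟩ := exists_sq_value (by rw [card_Γ]; norm_num) χ og11 s11 0 ⊥
    (by simp) (fun x hx => by rw [Subgroup.mem_bot.1 hx]; exact Commute.one_right _)
    (fun x hx hx1 => absurd (Subgroup.mem_bot.1 hx) hx1)
  set cnt : ℕ → ℕ := fun q => if q = 5 then 88704 else if q = 7 then 126720 else 80640 with hcnt
  set r : ℕ → ℕ := fun q => if q = 5 then w5 else if q = 7 then w7 else w11 with hr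
  have hrspec : ∀ q ∈ ({5, 7, 11} : Finset ℕ), ∀ x : Γ, orderOf x = q →
      ‖(χ : Γ → ℂ) x‖ ^ 2 = (r q : ℝ) := fun q hq x hx => by
    simp only [Finset.mem_insert, Finset.mem_singleton] at hq
    rcases hq with rfl | rfl | rfl
    · simp [hr, hw5 x hx]
    · simp [hr, hw7 x hx]
    · simp [hr, hw11 x hx]
  have hcspec : ∀ q ∈ ({5, 7, 11} : Finset ℕ),
      cnt q ≤ (Finset.univ.filter fun x : Γ => orderOf x = q).card := fun q hq => by
    simp only [Finset.mem_insert, Finset.mem_singleton] at hq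
    rcases hq with rfl | rfl | rfl <;> simp [hcnt] <;> omega
  have hb := norm_bound χ {5, 7, 11} (by decide) cnt r hcspec fun q hq x hx => (hrspec q hq x hx).ge
  rw [card_Γ] at hb
  simp [hcnt, hr] at hb
  obtain ⟨m, hm⟩ := hd
  rw [hm] at hb
  have hmdvd : m ∣ 3465 := by
    have h1 := CfsgLib.BlockReg.deg_dvd_card χ
    rw [card_Γ, hm] at h1
    exact Nat.dvd_of_mul_dvd_mul_left (by norm_num) (show 2 ^ 7 * m ∣ 2 ^ 7 * 3465 from h1)
  have hm5 : m ≤ 5 := by
    by_contra h
    have : (2 ^ 7 * 6) ^ 2 ≤ (2 ^ 7 * m) ^ 2 :=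
      Nat.pow_le_pow_left (Nat.mul_le_mul_left _ (by omega)) 2
    omega
  by_cases hm3 : m = 3
  swap
  · rw [hm] at c5 c7 c11
    interval_cases m <;> first | (exact hm3 rfl) | (norm_num at hmdvd; done) |
      (norm_num at hb c5 c7 c11; omega)
  subst hm3
  rw [hm] at c5 c7 c11
  norm_num at hb c5 c7 c11
  obtain ⟨rfl, rfl, rfl⟩ : w5 = 1 ∧ w7 = 1 ∧ w11 = 1 := by omega
  -- equality: the character vanishes off the identity and the elements of order 5, 7, 11
  set f : ℕ → Finset Γ := fun q => Finset.univ.filter fun x : Γ => orderOf x = q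
  set U := (insert 1 ({5, 7, 11} : Finset ℕ)).biUnion f with hU
  have hdisj : Set.PairwiseDisjoint (↑(insert 1 ({5, 7, 11} : Finset ℕ)) : Set ℕ) f := by
    intro a _ b _ hab
    rw [Function.onFun, Finset.disjoint_left]
    intro x hxa hxb
    exact hab ((Finset.mem_filter.1 hxa).2.symm.trans (Finset.mem_filter.1 hxb).2)
  have h1 : f 1 = {1} := by ext x; simp [f, orderOf_eq_one_iff]
  have hone : ∀ q ∈ ({5, 7, 11} : Finset ℕ), ∀ x : Γ, orderOf x = q →
      ‖(χ : Γ → ℂ) x‖ ^ 2 = 1 := fun q hq x hx => by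
    rw [hrspec q hq x hx]
    simp [hr]
  have hdeg : (χ : Γ → ℂ) 1 = (384 : ℕ) := by
    rw [← CfsgLib.BlockReg.deg_cast χ, hm]; norm_num
  have hsumU : ∑ x ∈ U, ‖(χ : Γ → ℂ) x‖ ^ 2 =
      ((384 ^ 2 + ((f 5).card + (f 7).card + (f 11).card) : ℕ) : ℝ) := by
    rw [hU, Finset.sum_biUnion hdisj, Finset.sum_insert (by decide), h1, Finset.sum_singleton,
      Finset.sum_congr rfl fun q hq => Finset.sum_congr rfl fun x hx =>
        hone q hq x (Finset.mem_filter.1 hx).2, hdeg, Complex.norm_natCast]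
    simp
    ring
  have htot := sum_norm_sq χ.2
  rw [card_Γ, ← Finset.sum_sdiff (Finset.subset_univ U), hsumU] at htot
  have hc5 := hcspec 5 (by simp)
  have hc7 := hcspec 7 (by simp)
  have hc11 := hcspec 11 (by simp)
  simp [hcnt] at hc5 hc7 hc11
  have hge : (443520 : ℝ) ≤ ((384 ^ 2 + ((f 5).card + (f 7).card + (f 11).card) : ℕ) : ℝ) := by
    exact_mod_cast show 443520 ≤ 384 ^ 2 + ((f 5).card + (f 7).card + (f 11).card) by
      simp only [f]; omega
  have hnn : (0 : ℝ) ≤ ∑ x ∈ Finset.univ \ U, ‖(χ : Γ → ℂ) x‖ ^ 2 :=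
    Finset.sum_nonneg fun x _ => by positivity
  have hz : ∑ x ∈ Finset.univ \ U, ‖(χ : Γ → ℂ) x‖ ^ 2 = 0 := by
    push_cast at htot hge
    linarith
  have hvan : ∀ x ∈ Finset.univ \ U, (χ : Γ → ℂ) x = 0 := fun x hx => by
    have := (Finset.sum_eq_zero_iff_of_nonneg fun y _ => by positivity).1 hz x hx
    simpa using this
  have hre : ∀ q ∈ ({5, 7, 11} : Finset ℕ), ∀ x : Γ, orderOf x = q →
      (χ : Γ → ℂ) x + conj ((χ : Γ → ℂ) x) = -2 := by
    intro q hq x hx
    have hd384 : charDegree (χ : Γ → ℂ) = 384 := by rw [hm]; norm_num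
    simp only [Finset.mem_insert, Finset.mem_singleton] at hq
    rcases hq with rfl | rfl | rfl
    · obtain ⟨c, hc, hc2, hc2', hcd⟩ := re_value (by rw [card_Γ]; norm_num) χ og5 s5
        (hone 5 (by simp))
      rw [hd384] at hcd
      rw [hc x hx, show c = -2 by omega]; simp
    · obtain ⟨c, hc, hc2, hc2', hcd⟩ := re_value (by rw [card_Γ]; norm_num) χ og7 s7
        (hone 7 (by simp))
      rw [hd384] at hcd
      rw [hc x hx, show c = -2 by omega]; simp
    · obtain ⟨c, hc, hc2, hc2', hcd⟩ := re_value (by rw [card_Γ]; norm_num) χ og11 s11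
        (hone 11 (by simp))
      rw [hd384] at hcd
      rw [hc x hx, show c = -2 by omega]; simp
  have horth : ∑ x : Γ, (χ : Γ → ℂ) x = 0 := by
    have hne : (χ : Γ → ℂ) ≠ fun _ => 1 := fun h => by
      have := congrFun h 1
      rw [hdeg] at this
      norm_num at this
    have := CfsgLib.Char.classInner_irr_of_ne χ.2 CfsgLib.Char.isIrrCharacter_principal hne
    rw [Cfsg.classInner] at this
    simpa [Nat.card_pos.ne'] using this
  have hRe : ∑ x : Γ, ((χ : Γ → ℂ) x + conj ((χ : Γ → ℂ) x)) = 0 := by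
    rw [Finset.sum_add_distrib, ← map_sum, horth]; simp
  rw [← Finset.sum_sdiff (Finset.subset_univ U), Finset.sum_eq_zero
    (fun x hx => by rw [hvan x hx]; simp), zero_add, hU, Finset.sum_biUnion hdisj,
    Finset.sum_insert (by decide), h1, Finset.sum_singleton,
    Finset.sum_congr rfl fun q hq => Finset.sum_congr rfl fun x hx =>
      hre q hq x (Finset.mem_filter.1 hx).2, hdeg, Complex.conj_natCast] at hRe
  simp at hRe
  have hfin : (768 : ℤ) - 2 * ((f 5).card + (f 7).card + (f 11).card : ℕ) = 0 := by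
    have : ((768 : ℤ) - 2 * ((f 5).card + (f 7).card + (f 11).card : ℕ) : ℂ) = 0 := by
      push_cast
      linear_combination hRe
    exact_mod_cast this
  simp only [f] at hfin
  omega

theorem main (M : Ideal Cfsg.AlgInt) (hM : Cfsg.IsPModular 2 M) (χ ψ : IrrCharacter Γ) :
    SameBlock M (χ : Γ → ℂ) (ψ : Γ → ℂ) := by
  haveI : Fact (Nat.Prime 2) := ⟨Nat.prime_two⟩
  refine CfsgLib.KGV.sameBlock_of_local hM (fun z hz => ?_) no_defect_zero χ ψ
  exact local_of_witness (Γ := Γ) (fun σ hσ => hσ.1) (fun z hz _ e he hfix =>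
    ⟨he, fun x hx => hfix x (hz.2 x hx)⟩) z hz

/-- All irreducible complex characters of the Mathieu group `M₂₂` lie in a single 2-block: any two of them lie in the same block relative to every maximal ideal of the algebraic integers containing 2. -/
theorem result (M : Ideal Cfsg.AlgInt) (hM : Cfsg.IsPModular 2 M)
    (χ ψ : Cfsg.IrrCharacter ↥Cfsg.Spor.M22) : Cfsg.SameBlock M (χ : ↥Cfsg.Spor.M22 → ℂ) (ψ : ↥Cfsg.Spor.M22 → ℂ) := by
  revert χ ψ
  rw [CfsgLib.Golay.spor_M22_eq]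
  exact main M hM

end Cfsg.Agent.S5005
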