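import Cfsg.Statements.S5006
import Cfsg.Agent.Lib.KGV.M24Order

set_option autoImplicit false
open Cfsg

namespace Cfsg.Agent.S5006

open CfsgLib.M24Calc CfsgLib.Golay CfsgLib.KGV

theorem check5 : (good OrderData.g24_5 && good OrderData.n24_5 &&
    orderTest OrderData.g24_5 5 && orderTest OrderData.n24_5 4 &&
    eqF (fun j => app OrderData.n24_5 (app OrderData.g24_5 j))
      (fun j => iter OrderData.g24_5 2 (app OrderData.n24_5 j)) &&
    Nat.ble (pc24 (16777215 ^^^ fixMask (app OrderData.g24_5))) 20 &&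
    Nat.ble (commCount OrderData.g24_5) 3 && semiTest 5 2 &&
    ([23, 0, 1, 2].all fun j => Nat.beq (app OrderData.g24_5 j) (if j = 23 then 0 else j + 1))) = true := by
  decide +kernel

theorem check7 : (good OrderData.g24_7 && good OrderData.n24_7 &&
    orderTest OrderData.g24_7 7 && orderTest OrderData.n24_7 3 &&
    eqF (fun j => app OrderData.n24_7 (app OrderData.g24_7 j))
      (fun j => iter OrderData.g24_7 2 (app OrderData.n24_7 j)) &&
    Nat.ble (pc24 (16777215 ^^^ fixMask (app OrderData.g24_7))) 21 &&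
    Nat.ble (commCount OrderData.g24_7) 2 && semiTest 7 2 &&
    ([23, 0, 1, 2].all fun j => Nat.beq (app OrderData.g24_7 j) (if j = 23 then 0 else j + 1))) = true := by
  decide +kernel

theorem check11 : (good OrderData.g24_11 && good OrderData.n24_11 &&
    orderTest OrderData.g24_11 11 && orderTest OrderData.n24_11 5 &&
    eqF (fun j => app OrderData.n24_11 (app OrderData.g24_11 j))
      (fun j => iter OrderData.g24_11 4 (app OrderData.n24_11 j)) &&
    Nat.ble (pc24 (16777215 ^^^ fixMask (app OrderData.g24_11))) 22 &&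
    Nat.ble (commCount OrderData.g24_11) 1 && semiTest 11 4 &&
    ([23, 0, 1, 2].all fun j => Nat.beq (app OrderData.g24_11 j) (if j = 23 then 0 else j + 1))) = true := by
  decide +kernel

theorem check23 : (good OrderData.g24_23 && good OrderData.n24_23 &&
    orderTest OrderData.g24_23 23 && orderTest OrderData.n24_23 11 &&
    eqF (fun j => app OrderData.n24_23 (app OrderData.g24_23 j))
      (fun j => iter OrderData.g24_23 2 (app OrderData.n24_23 j)) &&
    Nat.ble (pc24 (16777215 ^^^ fixMask (app OrderData.g24_23))) 23 &&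
    Nat.ble (commCount OrderData.g24_23) 1 && semiTest 23 2 &&
    ([23, 0, 1, 2].all fun j => Nat.beq (app OrderData.g24_23 j) (if j = 23 then 0 else j + 1))) = true := by
  decide +kernel

theorem commChecks : (good OrderData.v24_5 && good OrderData.w24_5 && good OrderData.v24_7 &&
    commF (app OrderData.g24_5) (app OrderData.v24_5) &&
    commF (app OrderData.g24_5) (app OrderData.w24_5) &&
    commF (app OrderData.v24_5) (app OrderData.w24_5) &&
    commF (app OrderData.g24_7) (app OrderData.v24_7) &&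
    orderTest OrderData.v24_5 2 && orderTest OrderData.w24_5 2 && orderTest OrderData.v24_7 2 &&
    !eqF (app OrderData.v24_5) (app OrderData.w24_5)) = true := by
  decide +kernel

/-- The data attached to one of the four primes. -/
theorem prime_data (q r k g n M C N₀ : ℕ) [Fact q.Prime] [Fintype M24]
    (h : (good g && good n && orderTest g q && orderTest n r &&
      eqF (fun j => app n (app g j)) (fun j => iter g k (app n j)) &&
      Nat.ble (pc24 (16777215 ^^^ fixMask (app g))) M && Nat.ble (commCount g) C && semiTest q k &&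
      ([23, 0, 1, 2].all fun j => Nat.beq (app g j) (if j = 23 then 0 else j + 1))) = true)
    (hq2 : ¬ q ^ 2 ∣ 244823040) (hcop : Nat.Coprime q r)
    (hN : ∀ N ≤ (q - 1) * (M * C), q * r ∣ N → N ∣ 244823040 →
      (244823040 / N) % q = 1 → N ≤ N₀) :
    (q - 1) * (244823040 / N₀) ≤ (Finset.univ.filter fun x : M24 => orderOf x = q).card ∧
    ∃ h' : good g = true, orderOf (elem M24 (mem_of_good h')) = q ∧
      PowersSemiRational q (elem M24 (mem_of_good h')) := by
  simp only [Bool.and_eq_true, Nat.ble_eq] at h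
  obtain ⟨⟨⟨⟨⟨⟨⟨⟨hg, hn⟩, hog⟩, hon⟩, hconj⟩, hM⟩, hC⟩, hst⟩, hcyc⟩ := h
  set G := elem M24 (mem_of_good hg)
  set N := elem M24 (mem_of_good hn)
  have hG : orderOf G = q := by
    rw [← Subgroup.orderOf_coe]; exact orderOf_of_test hg hog
  have hNo : orderOf N = r := by
    rw [← Subgroup.orderOf_coe]; exact orderOf_of_test hn hon
  have hrel : N * G * N⁻¹ = G ^ k := by
    rw [mul_inv_eq_iff_eq_mul]
    exact Subtype.ext (eq_of_eqF ((isFun_of_good hn).mul (isFun_of_good hg))
      ((isFun_iter hg k).mul (isFun_of_good hn)) hconj)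
  have hq : q.Prime := Fact.out
  refine ⟨?_, hg, hG, powersSemiRational hG hrel hq.pos hst⟩
  have hstep : ∀ p ∈ [none, some 0, some 1, (some 2 : GolayPt)],
      bit (ofCode g p) = if bit p = 23 then 0 else bit p + 1 := by
    intro p hp
    rw [← isFun_of_good hg p]
    refine Nat.eq_of_beq_eq_true (List.all_eq_true.1 hcyc _ ?_)
    revert hp; revert p; decide
  have e0 : ofCode g none = some 0 := bit_injective (by rw [hstep _ (by simp)]; rfl)
  have e1 : ofCode g (some 0) = some 1 := bit_injective (by rw [hstep _ (by simp)]; rfl)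
  have e2 : ofCode g (some 1) = some 2 := bit_injective (by rw [hstep _ (by simp)]; rfl)
  have e3 : ofCode g (some 2) = some 3 := bit_injective (by rw [hstep _ (by simp)]; rfl)
  have hcent : Nat.card (Subgroup.centralizer ({G} : Set M24)) ≤ M * C := by
    refine card_centralizer_le hg (mem_of_good hg) le_rfl none (by rw [e0]; exact Option.some_ne_none _)
      (fun c hc hx => ?_) hM hC
    have step : ∀ y y' : GolayPt, ofCode g y = y' → c.1 y = y → c.1 y' = y' := by
      intro y y' hy hcy
      have := congrArg (fun σ : M24 => σ.1 y) hc.eq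
      rw [← hy]
      simpa [elem, hcy] using this
    have f0 := step _ _ e0 hx
    have f1 := step _ _ e1 f0
    have f2 := step _ _ e2 f1
    have f3 := step _ _ e3 f2
    simp [hx, f0, f1, f2, f3]
  have h1 := card_order_lower (G := M24) (by rw [card_M24]; exact hq2) hG (q * r) (M * C) N₀
    (dvd_card_normalizer hG hNo hrel hcop) hcent (by rw [card_M24]; exact hN)
  rwa [card_M24] at h1

theorem no_defect_zero (χ : IrrCharacter M24) :
    ¬ 2 ^ (Nat.card M24).factorization 2 ∣ charDegree (χ : M24 → ℂ) := by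
  classical
  haveI := Fintype.ofFinite M24
  haveI : Fact (Nat.Prime 5) := ⟨by norm_num⟩
  haveI : Fact (Nat.Prime 7) := ⟨by norm_num⟩
  haveI : Fact (Nat.Prime 11) := ⟨by norm_num⟩
  haveI : Fact (Nat.Prime 23) := ⟨by norm_num⟩
  have hf : (Nat.card M24).factorization 2 = 10 := by
    rw [card_M24, show (244823040 : ℕ) = 2 ^ 10 * 239085 by norm_num,
      Nat.factorization_mul (by norm_num) (by norm_num), Finsupp.add_apply,
      Nat.Prime.factorization_pow Nat.prime_two,
      Nat.factorization_eq_zero_of_not_dvd (show ¬ 2 ∣ 239085 by norm_num)]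
    simp
  rw [hf]
  intro hd
  have hvan : ∀ x : M24, 2 ∣ orderOf x → (χ : M24 → ℂ) x = 0 :=
    vanish_of_defect 2 10 (by rw [card_M24]; norm_num) (by rw [card_M24]; norm_num) χ hd
  have hv0 : ∀ v : M24, orderOf v = 2 → ∀ g : M24, Commute g v → Nat.Coprime (orderOf g) 2 →
      (χ : M24 → ℂ) (g * v) = 0 := fun v hv g hgv hco => by
    refine hvan _ ?_
    rw [hgv.orderOf_mul_eq_mul_orderOf_of_coprime (hv.symm ▸ hco), hv]
    exact dvd_mul_left 2 _
  obtain ⟨n5, hg5, og5, s5⟩ := prime_data 5 4 2 _ _ 20 3 240 check5 (by norm_num) (by norm_num)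
    (by decide +kernel)
  obtain ⟨n7, hg7, og7, s7⟩ := prime_data 7 3 2 _ _ 21 2 126 check7 (by norm_num) (by norm_num)
    (by decide +kernel)
  obtain ⟨n11, hg11, og11, s11⟩ := prime_data 11 5 4 _ _ 22 1 110 check11 (by norm_num) (by norm_num)
    (by decide +kernel)
  obtain ⟨n23, hg23, og23, s23⟩ := prime_data 23 11 2 _ _ 23 1 253 check23 (by norm_num)
    (by norm_num) (by decide +kernel)
  have hc := commChecks
  simp only [Bool.and_eq_true, Bool.not_eq_true'] at hc
  obtain ⟨⟨⟨⟨⟨⟨⟨⟨⟨⟨hv, hw⟩, hu⟩, cv⟩, cw⟩, cvw⟩, cu⟩, ov⟩, ow⟩, ou⟩, hne⟩ := hc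
  set v := elem M24 (mem_of_good hv)
  set w := elem M24 (mem_of_good hw)
  set u := elem M24 (mem_of_good hu)
  have hov : orderOf v = 2 := by rw [← Subgroup.orderOf_coe]; exact orderOf_of_test hv ov
  have how : orderOf w = 2 := by rw [← Subgroup.orderOf_coe]; exact orderOf_of_test hw ow
  have hou : orderOf u = 2 := by rw [← Subgroup.orderOf_coe]; exact orderOf_of_test hu ou
  have hgv : Commute (elem M24 (mem_of_good hg5)) v :=
    Subtype.ext (commute_of_commF (isFun_of_good hg5) (isFun_of_good hv) cv).eq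
  have hgw : Commute (elem M24 (mem_of_good hg5)) w :=
    Subtype.ext (commute_of_commF (isFun_of_good hg5) (isFun_of_good hw) cw).eq
  have hvw : Commute v w :=
    Subtype.ext (commute_of_commF (isFun_of_good hv) (isFun_of_good hw) cvw).eq
  have hgu : Commute (elem M24 (mem_of_good hg7)) u :=
    Subtype.ext (commute_of_commF (isFun_of_good hg7) (isFun_of_good hu) cu).eq
  have hvne : v ≠ w := fun h => by
    rw [eqF_of_eq (isFun_of_good hv) (isFun_of_good hw) (congrArg Subtype.val h)] at hne
    exact Bool.noConfusion hne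
  have hv2 : v * v = 1 := by rw [← pow_two, ← hov, pow_orderOf_eq_one]
  have hw2 : w * w = 1 := by rw [← pow_two, ← how, pow_orderOf_eq_one]
  have hvwo : orderOf (v * w) = 2 := by
    refine orderOf_eq_prime ?_ fun h => hvne ?_
    · rw [pow_two, hvw.symm.mul_mul_mul_comm, hv2, hw2, mul_one]
    · rw [← inv_eq_of_mul_eq_one_right h, inv_eq_of_mul_eq_one_right hv2]
  let V : Subgroup M24 := Subgroup.zpowers v ⊔ Subgroup.zpowers w
  have hVmem : ∀ x ∈ V, x = 1 ∨ x = v ∨ x = w ∨ x = v * w := by
    intro x hx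
    rw [← SetLike.mem_coe, Subgroup.coe_mul_of_left_le_normalizer_right] at hx
    · obtain ⟨a, ha, b, hb, rfl⟩ := hx
      obtain ⟨i, rfl⟩ := Subgroup.mem_zpowers_iff.1 ha
      obtain ⟨j, rfl⟩ := Subgroup.mem_zpowers_iff.1 hb
      rcases Int.emod_two_eq_zero_or_one i with hi | hi <;>
        rcases Int.emod_two_eq_zero_or_one j with hj | hj <;>
          simp [← zpow_mod_orderOf v i, ← zpow_mod_orderOf w j, hov, how, hi, hj]
    · refine Subgroup.zpowers_le.2 (Subgroup.centralizer_le_normalizer _ ?_)
      rw [Subgroup.mem_centralizer_iff]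
      intro y hy
      obtain ⟨j, rfl⟩ := Subgroup.mem_zpowers_iff.1 hy
      exact (hvw.zpow_right j).symm.eq
  have hVcard : Nat.card V = 2 ^ 2 := by
    have hset : (V : Set M24) = {1, v, w, v * w} := by
      refine Set.Subset.antisymm (fun x hx => by simpa using hVmem x hx) ?_
      have hvV : v ∈ V := Subgroup.mem_sup_left (Subgroup.mem_zpowers v)
      have hwV : w ∈ V := Subgroup.mem_sup_right (Subgroup.mem_zpowers w)
      rintro x (rfl | rfl | rfl | rfl)
      exacts [V.one_mem, hvV, hwV, V.mul_mem hvV hwV]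
    have h1 : v ≠ 1 := fun h => by simp [h] at hov
    have h2 : w ≠ 1 := fun h => by simp [h] at how
    have h3 : v * w ≠ 1 := fun h => by simp [h] at hvwo
    rw [← SetLike.coe_sort_coe, Nat.card_coe_set_eq, hset]
    have h4 : v * w ≠ v := fun h => h2 (by simpa using h)
    have h5 : v * w ≠ w := fun h => h1 (by simpa using h)
    rw [Set.ncard_insert_of_notMem (by simp [h1.symm, h2.symm, h3.symm]),
      Set.ncard_insert_of_notMem (by simp [hvne, h4.symm]), Set.ncard_pair h5.symm]
    rfl
  obtain ⟨w5, hw5, c5, d5⟩ := exists_sq_value (by rw [card_M24]; norm_num) χ og5 s5 2 V hVcard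
    (fun x hx => by
      rcases hVmem x hx with rfl | rfl | rfl | rfl
      exacts [Commute.one_right _, hgv, hgw, hgv.mul_right hgw])
    (fun x hx hx1 => by
      rcases hVmem x hx with rfl | rfl | rfl | rfl
      · exact absurd rfl hx1
      · exact hv0 _ hov _ hgv (by rw [og5]; norm_num)
      · exact hv0 _ how _ hgw (by rw [og5]; norm_num)
      · exact hv0 _ hvwo _ (hgv.mul_right hgw) (by rw [og5]; norm_num))
  have hu_mem : ∀ x ∈ Subgroup.zpowers u, x = 1 ∨ x = u := by
    intro x hx
    obtain ⟨i, rfl⟩ := Subgroup.mem_zpowers_iff.1 hx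
    rcases Int.emod_two_eq_zero_or_one i with hi | hi <;> simp [← zpow_mod_orderOf u i, hou, hi]
  obtain ⟨w7, hw7, c7, d7⟩ := exists_sq_value (by rw [card_M24]; norm_num) χ og7 s7 1
    (Subgroup.zpowers u) (by rw [Nat.card_zpowers, hou, pow_one])
    (fun x hx => by
      rcases hu_mem x hx with rfl | rfl
      exacts [Commute.one_right _, hgu])
    (fun x hx hx1 => by
      rcases hu_mem x hx with rfl | rfl
      · exact absurd rfl hx1
      · exact hv0 _ hou _ hgu (by rw [og7]; norm_num))
  obtain ⟨w11, hw11, c11, -⟩ := exists_sq_value (by rw [card_M24]; norm_num) χ og11 s11 0 ⊥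
    (by simp) (fun x hx => by rw [Subgroup.mem_bot.1 hx]; exact Commute.one_right _)
    (fun x hx hx1 => absurd (Subgroup.mem_bot.1 hx) hx1)
  obtain ⟨w23, hw23, c23, -⟩ := exists_sq_value (by rw [card_M24]; norm_num) χ og23 s23 0 ⊥
    (by simp) (fun x hx => by rw [Subgroup.mem_bot.1 hx]; exact Commute.one_right _)
    (fun x hx hx1 => absurd (Subgroup.mem_bot.1 hx) hx1)
  set cnt : ℕ → ℕ := fun q => if q = 5 then 4080384 else if q = 7 then 11658240
    else if q = 11 then 22256640 else 21288960 with hcnt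
  set r : ℕ → ℕ := fun q => if q = 5 then w5 else if q = 7 then w7 else if q = 11 then w11
    else w23 with hr
  have hb := norm_bound χ {5, 7, 11, 23} (by decide) cnt r
    (fun q hq => by
      simp only [Finset.mem_insert, Finset.mem_singleton] at hq
      rcases hq with rfl | rfl | rfl | rfl <;> simp [hcnt] <;> omega)
    (fun q hq x hx => by
      simp only [Finset.mem_insert, Finset.mem_singleton] at hq
      rcases hq with rfl | rfl | rfl | rfl
      · simp [hr, hw5 x hx]
      · simp [hr, hw7 x hx]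
      · simp [hr, hw11 x hx]
      · simp [hr, hw23 x hx])
  rw [card_M24] at hb
  simp [hcnt, hr] at hb
  obtain ⟨m, hm⟩ := hd
  rw [hm] at hb
  have hmdvd : m ∣ 239085 := by
    have h1 := CfsgLib.BlockReg.deg_dvd_card χ
    rw [card_M24, hm] at h1
    exact Nat.dvd_of_mul_dvd_mul_left (by norm_num) (show 2 ^ 10 * m ∣ 2 ^ 10 * 239085 from h1)
  have hm15 : m ≤ 15 := by
    by_contra h
    have : (2 ^ 10 * 16) ^ 2 ≤ (2 ^ 10 * m) ^ 2 :=
      Nat.pow_le_pow_left (Nat.mul_le_mul_left _ (by omega)) 2
    omega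
  rw [hm] at c5 c7 c11 c23
  interval_cases m <;> first | (norm_num at hmdvd; done) | (norm_num at hb c5 c7 c11 c23 d5 d7; omega)

/-- All irreducible complex characters of the Mathieu group `M₂₄` lie in a single 2-block: any two of them lie in the same block relative to every maximal ideal of the algebraic integers containing 2. -/
theorem result (M : Ideal Cfsg.AlgInt) (hM : Cfsg.IsPModular 2 M)
    (χ ψ : Cfsg.IrrCharacter ↥Cfsg.M24) : Cfsg.SameBlock M (χ : ↥Cfsg.M24 → ℂ) (ψ : ↥Cfsg.M24 → ℂ) := by
  haveI : Fact (Nat.Prime 2) := ⟨Nat.prime_two⟩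
  refine CfsgLib.KGV.sameBlock_of_local hM (fun z hz => ?_) no_defect_zero χ ψ
  exact local_of_witness le_rfl (fun _ _ _ e he _ => he) z hz

end Cfsg.Agent.S5006
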