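import Cfsg.Statements.S5011
import Mathlib.LinearAlgebra.Eigenspace.Triangularizable
import Mathlib.Analysis.Complex.Polynomial.Basic
import Mathlib.GroupTheory.Subgroup.Simple

set_option autoImplicit false
open Cfsg

namespace Cfsg.Agent.S5011

/-- Let G be a finite non-abelian simple group and ρ an irreducible complex representation of G on a space of dimension greater than one (irreducible in the sense that the only subspaces invariant under every ρ(x) are 0 and the whole space). Then for every non-identity element g of G, the centralizer of g does not act irreducibly: there is a non-zero proper subspace invariant under ρ(c) for every c commuting with g. -/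
theorem result {G : Type*} [Group G] [Finite G] [IsSimpleGroup G]
    (hG : ¬ IsMulCommutative G) {V : Type*} [AddCommGroup V] [Module ℂ V] [FiniteDimensional ℂ V]
    (ρ : Representation ℂ G V)
    (hirr : ∀ W : Submodule ℂ V, (∀ x : G, ∀ v ∈ W, ρ x v ∈ W) → W = ⊥ ∨ W = ⊤)
    (hdim : 1 < Module.finrank ℂ V) (g : G) (hg : g ≠ 1) :
    ∃ W : Submodule ℂ V, W ≠ ⊥ ∧ W ≠ ⊤ ∧ ∀ c ∈ Subgroup.centralizer ({g} : Set G), ∀ v ∈ W, ρ c v ∈ W := by
  classical
  by_contra hcon
  push_neg at hcon
  have key : ∀ W : Submodule ℂ V,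
      (∀ c ∈ Subgroup.centralizer ({g} : Set G), ∀ v ∈ W, ρ c v ∈ W) → W = ⊥ ∨ W = ⊤ := by
    intro W hW
    by_contra h
    push_neg at h
    obtain ⟨c, hc, v, hv, hn⟩ := hcon W h.1 h.2
    exact hn (hW c hc v hv)
  have : Nontrivial V := Module.nontrivial_of_finrank_pos (R := ℂ) (by omega)
  -- an operator commuting with an irreducible action is a scalar
  have scalar : ∀ (T : Module.End ℂ V) (S : Set G),
      (∀ W : Submodule ℂ V, (∀ c ∈ S, ∀ v ∈ W, ρ c v ∈ W) → W = ⊥ ∨ W = ⊤) →
      (∀ c ∈ S, ∀ v : V, T (ρ c v) = ρ c (T v)) → ∃ μ : ℂ, ∀ v : V, T v = μ • v := by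
    intro T S hS hcomm
    obtain ⟨μ, hμ⟩ := Module.End.exists_eigenvalue T
    refine ⟨μ, fun v => ?_⟩
    have := hS (T.eigenspace μ) (fun c hc w hw => by
      rw [Module.End.mem_eigenspace_iff] at hw ⊢
      rw [hcomm c hc, hw, map_smul])
    rcases this with h | h
    · exact absurd h hμ
    · exact Module.End.mem_eigenspace_iff.mp (h ▸ Submodule.mem_top)
  let K : Subgroup G :=
    { carrier := {x | ∀ (y : G) (v : V), ρ x (ρ y v) = ρ y (ρ x v)}
      one_mem' := by intro y v; simp
      mul_mem' := by
        intro a b ha hb y v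
        simp only [map_mul, Module.End.mul_apply]
        rw [hb y v, ha y]
      inv_mem' := by
        intro a ha y v
        have h := ha y (ρ a⁻¹ v)
        rw [Representation.self_inv_apply] at h
        rw [← h, Representation.inv_self_apply] }
  have : K.Normal := ⟨fun x hx z y v => by
    have hz : ∀ w, ρ (z * x * z⁻¹) w = ρ x w := fun w => by
      rw [map_mul, map_mul, Module.End.mul_apply, Module.End.mul_apply, ← hx z,
        Representation.self_inv_apply]
    rw [hz, hz, hx y v]⟩
  have hgK : g ∈ K := by
    obtain ⟨μ, hμ⟩ := scalar (ρ g) (Subgroup.centralizer ({g} : Set G) : Set G) key (fun c hc v => by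
      rw [← Module.End.mul_apply, ← Module.End.mul_apply, ← map_mul, ← map_mul,
        Subgroup.mem_centralizer_singleton_iff.mp hc])
    intro y v
    rw [hμ, hμ, map_smul]
  rcases IsSimpleGroup.eq_bot_or_eq_top_of_normal K inferInstance with h | h
  · exact hg (Subgroup.mem_bot.mp (h ▸ hgK))
  · have hall : ∀ x : G, ∃ μ : ℂ, ∀ v : V, ρ x v = μ • v := fun x =>
      scalar (ρ x) Set.univ
        (fun W hW => hirr W (fun c => hW c (Set.mem_univ c)))
        (fun c _ v => (h ▸ Subgroup.mem_top x : x ∈ K) c v)
    obtain ⟨v, hv⟩ := exists_ne (0 : V)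
    rcases hirr (ℂ ∙ v) (fun x w hw => by
      obtain ⟨μ, hμ⟩ := hall x
      rw [hμ]; exact Submodule.smul_mem _ μ hw) with h1 | h1
    · exact hv (Submodule.span_singleton_eq_bot.mp h1)
    · have := finrank_span_singleton (K := ℂ) hv
      rw [h1, finrank_top] at this
      omega

end Cfsg.Agent.S5011
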