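import Cfsg.Statements.S5014
import Cfsg.Agent.Lib.RootSub.RankOne

set_option autoImplicit false
open Cfsg CfsgLib.RootSub

namespace Cfsg.Agent.S5014

/-- Let X = ⟨A, B⟩ be a rank one group with unipotent subgroups A and B and let Ω be the set of conjugates of A under X. Then Ω has at least three members, X acts doubly transitively on Ω by conjugation (any two ordered pairs of distinct members are carried to one another by a single element of X), and A acts regularly on Ω with A removed: for C, D in Ω different from A there is exactly one element of A conjugating C to D. -/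
theorem result {G : Type*} [Group G] {A B : Subgroup G} (h : Cfsg.IsRankOnePair A B) :
    (∃ C₁ ∈ Cfsg.unipotentSubgroups A B, ∃ C₂ ∈ Cfsg.unipotentSubgroups A B, ∃ C₃ ∈ Cfsg.unipotentSubgroups A B,
      C₁ ≠ C₂ ∧ C₁ ≠ C₃ ∧ C₂ ≠ C₃) ∧
    (∀ C₁ ∈ Cfsg.unipotentSubgroups A B, ∀ C₂ ∈ Cfsg.unipotentSubgroups A B, ∀ D₁ ∈ Cfsg.unipotentSubgroups A B,
      ∀ D₂ ∈ Cfsg.unipotentSubgroups A B, C₁ ≠ C₂ → D₁ ≠ D₂ →
        ∃ x ∈ A ⊔ B, Cfsg.conjBy C₁ x = D₁ ∧ Cfsg.conjBy C₂ x = D₂) ∧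
    (∀ C ∈ Cfsg.unipotentSubgroups A B, ∀ D ∈ Cfsg.unipotentSubgroups A B, C ≠ A → D ≠ A →
      ∃! a : G, a ∈ A ∧ Cfsg.conjBy C a = D) := by
  refine ⟨?_, ?_, ?_⟩
  · obtain ⟨a, ha, ha1⟩ := (Subgroup.bot_or_exists_ne_one A).resolve_left (r1_left_ne_bot h)
    refine ⟨A, unipotent_self _ _, B, r1_right_mem h, conjBy B a,
      unipotent_conj (r1_right_mem h) (Subgroup.mem_sup_left ha), h.ne, ?_, ?_⟩
    · intro e
      apply h.ne
      have := congrArg (fun E => conjBy E a⁻¹) e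
      simpa [conjBy_inv_conjBy, conjBy_of_mem (inv_mem ha)] using this
    · exact fun e => ha1 (r1_eq_one_of_normalizes h ha e.symm)
  · intro C₁ hC₁ C₂ hC₂ D₁ hD₁ D₂ hD₂ hC hD
    obtain ⟨x, hx, rfl, rfl⟩ := unipotent_pair_map h hC₁ hC₂ hC
    obtain ⟨y, hy, rfl, rfl⟩ := unipotent_pair_map h hD₁ hD₂ hD
    exact ⟨y * x⁻¹, mul_mem hy (inv_mem hx), by simp [conjBy_conjBy], by simp [conjBy_conjBy]⟩
  · intro C hC D hD hCA hDA
    obtain ⟨a, ha, rfl⟩ := ((mem_unipotent_iff h).1 hC).resolve_left hCA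
    obtain ⟨a', ha', rfl⟩ := ((mem_unipotent_iff h).1 hD).resolve_left hDA
    refine ⟨a' * a⁻¹, ⟨mul_mem ha' (inv_mem ha), by simp [conjBy_conjBy]⟩, ?_⟩
    rintro c ⟨hc, e⟩
    rw [conjBy_conjBy] at e
    have := r1_conjBy_inj h (mul_mem hc ha) ha' e
    rw [← this, mul_inv_cancel_right]

end Cfsg.Agent.S5014
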