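import Cfsg.Statements.S5015
import Cfsg.Agent.Lib.RootSub.RankOne

set_option autoImplicit false
open Cfsg CfsgLib.RootSub

namespace Cfsg.Agent.S5015

/-- Let a group Y act doubly transitively on a set Ω with at least three points, and suppose that the stabilizer of a point α contains a nilpotent subgroup A, normalized by that stabilizer, which acts regularly on the points other than α. Then for any y in Y moving α, the subgroups A and y A y⁻¹ are the unipotent subgroups of a rank one group, and the normal closure of A in Y (the subgroup generated by all conjugates of A) is generated by A and y A y⁻¹ alone. -/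
theorem result {Y Ω : Type*} [Group Y] [MulAction Y Ω]
    (h2 : MulAction.IsMultiplyPretransitive Y Ω 2) (hΩ : 3 ≤ ENat.card Ω) (α : Ω) (A : Subgroup Y)
    (hA : A ≤ MulAction.stabilizer Y α) (hAn : ∀ y ∈ MulAction.stabilizer Y α, Cfsg.conjBy A y = A)
    (hnil : Group.IsNilpotent A) (hreg : ∀ β γ : Ω, β ≠ α → γ ≠ α → ∃! a : Y, a ∈ A ∧ a • β = γ)
    (y : Y) (hy : y ∉ MulAction.stabilizer Y α) :
    Cfsg.IsRankOnePair A (Cfsg.conjBy A y) ∧ Subgroup.normalClosure (A : Set Y) = A ⊔ Cfsg.conjBy A y := by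
  set K := MulAction.stabilizer Y α with hK
  have h2' : ∀ β γ δ ε : Ω, β ≠ γ → δ ≠ ε → ∃ g : Y, g • β = δ ∧ g • γ = ε :=
    fun β γ δ ε h1 h1' => MulAction.is_two_pretransitive_iff.1 h2 h1 h1'
  have hwd : ∀ g g' : Y, g • α = g' • α → conjBy A g = conjBy A g' := by
    intro g g' e
    have : g'⁻¹ * g ∈ K := by simp [hK, MulAction.mem_stabilizer_iff, mul_smul, e]
    have := congrArg (fun E => conjBy E g') (hAn _ this)
    simpa [conjBy_conjBy] using this
  have hfix : ∀ a ∈ A, a • α = α := fun a ha => hA ha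
  have hne : y • α ≠ α := hy
  set B := conjBy A y with hBdef
  have hBfix : ∀ b ∈ B, b • (y • α) = y • α := by
    intro b hb
    rw [hBdef, mem_conjBy] at hb
    have := hfix _ hb
    rw [mul_smul, mul_smul, inv_smul_eq_iff] at this
    exact this
  have hBreg : ∀ β γ : Ω, β ≠ y • α → γ ≠ y • α → ∃ b ∈ B, b • β = γ := by
    intro β γ h1 h2''
    obtain ⟨a, ⟨ha, e⟩, -⟩ := hreg (y⁻¹ • β) (y⁻¹ • γ) (by rwa [ne_eq, inv_smul_eq_iff])
      (by rwa [ne_eq, inv_smul_eq_iff])
    exact ⟨y * a * y⁻¹, conj_mem_conjBy ha, by simp [mul_smul, e]⟩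
  have hfree : ∀ β : Ω, β ≠ α → ∀ a ∈ A, a • β = β → a = 1 := by
    intro β hβ a ha e
    obtain ⟨c, -, hc⟩ := hreg β β hβ hβ
    rw [hc a ⟨ha, e⟩, hc 1 ⟨one_mem _, one_smul _ _⟩]
  have hfreeB : ∀ β : Ω, β ≠ y • α → ∀ b ∈ B, b • β = β → b = 1 := by
    intro β hβ b hb e
    rw [hBdef, mem_conjBy] at hb
    have := hfree (y⁻¹ • β) (by rwa [ne_eq, inv_smul_eq_iff]) _ hb (by simp [mul_smul, e])
    have h' : y * (y⁻¹ * b * y) * y⁻¹ = y * 1 * y⁻¹ := by rw [this]
    simpa [mul_assoc] using h'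
  refine ⟨⟨?_, hnil, conjBy_nilpotent y hnil, ?_, ?_⟩, ?_⟩
  · intro e
    obtain ⟨ω, hω1, hω2⟩ : ∃ ω : Ω, ω ≠ α ∧ ω ≠ y • α := by
      by_contra hc
      push Not at hc
      classical
      have hsurj : Function.Surjective (fun i : Bool => if i then α else y • α) := by
        intro ω
        by_cases hω : ω = α
        · exact ⟨true, by simp [hω]⟩
        · exact ⟨false, by simp [hc ω hω]⟩
      have h3 := ENat.card_le_card_of_injective (Function.injective_surjInv hsurj)
      have : (3 : ℕ∞) ≤ 2 := le_trans hΩ (le_trans h3 (by simp [ENat.card_eq_coe_fintype_card]))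
      norm_num at this
    obtain ⟨a, ⟨ha, hae⟩, -⟩ := hreg (y • α) ω hne hω1
    rw [hBfix a (e ▸ ha)] at hae
    exact hω2 hae.symm
  · intro a ha ha1
    have h1 : a⁻¹ • (y • α) ≠ y • α := fun e => ha1 (inv_eq_one.1 (hfree _ hne _ (inv_mem ha) e))
    obtain ⟨b, hb, e⟩ := hBreg (a⁻¹ • (y • α)) α h1 (Ne.symm hne)
    refine ⟨b, hb, ?_, ?_⟩
    · rintro rfl
      rw [one_smul, inv_smul_eq_iff, hfix a ha] at e
      exact hne e
    · rw [hBdef, conjBy_conjBy]
      exact hwd _ _ (by rw [mul_smul, inv_smul_eq_iff, e])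
  · intro b hb hb1
    have h1 : b⁻¹ • α ≠ α := fun e => hb1 (inv_eq_one.1 (hfreeB _ (Ne.symm hne) _ (inv_mem hb) e))
    obtain ⟨a, ⟨ha, e⟩, -⟩ := hreg (b⁻¹ • α) (y • α) h1 hne
    refine ⟨a, ha, ?_, ?_⟩
    · rintro rfl
      rw [one_smul, inv_smul_eq_iff, hBfix b hb] at e
      exact hne e.symm
    · rw [hBdef, conjBy_conjBy]
      exact hwd _ _ (by rw [mul_smul, inv_smul_eq_iff, e])
  · have hall : ∀ g : Y, conjBy A g ≤ A ⊔ B := by
      intro g
      by_cases hg : g • α = α
      · rw [hAn g hg]; exact le_sup_left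
      · obtain ⟨a, ⟨ha, e⟩, -⟩ := hreg (y • α) (g • α) hne hg
        rw [← hwd (a * y) g (by rw [mul_smul, e]), ← conjBy_conjBy, ← hBdef]
        intro w hw
        rw [mem_conjBy] at hw
        have hw' : a⁻¹ * w * a ∈ A ⊔ B := Subgroup.mem_sup_right hw
        have := mul_mem (mul_mem (Subgroup.mem_sup_left (T := B) ha) hw') (inv_mem (Subgroup.mem_sup_left (T := B) ha))
        simpa [mul_assoc] using this
    refine le_antisymm ((Subgroup.closure_le _).2 ?_) (sup_le Subgroup.le_normalClosure ?_)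
    · intro w hw
      obtain ⟨a, ha, hc⟩ := Group.mem_conjugatesOfSet_iff.1 hw
      obtain ⟨g, rfl⟩ := isConj_iff.1 hc
      exact hall g (conj_mem_conjBy ha)
    · intro w hw
      rw [hBdef, mem_conjBy] at hw
      have := Subgroup.normalClosure_normal.conj_mem _ (Subgroup.le_normalClosure hw) y
      simpa [mul_assoc] using this

end Cfsg.Agent.S5015
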