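import Cfsg.Statements.S5017
import Cfsg.Agent.Lib.RootSub.RankOne

set_option autoImplicit false
open Cfsg CfsgLib.RootSub

namespace Cfsg.Agent.S5017

/-- Let X be a rank one group with unipotent subgroups A and B and N a normal subgroup of X. Then either X = N A or N lies in the centre of X. Consequently a perfect rank one group is quasisimple. -/
theorem result {X : Type*} [Group X] {A B : Subgroup X} (h : Cfsg.IsRankOneGroup X A B) :
    (∀ N : Subgroup X, N.Normal → N ⊔ A = ⊤ ∨ N ≤ Subgroup.center X) ∧
    (Group.IsPerfect X → Cfsg.IsQuasisimple X) := by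
  refine ⟨r1g_normal_dichotomy h, fun hp => ?_⟩
  refine ⟨hp, ?_⟩
  have hnt : Nontrivial (X ⧸ Subgroup.center X) := by
    rw [QuotientGroup.nontrivial_iff]
    intro htop
    refine r1_not_commute h.2 (commutator_eq_bot_iff.2 fun a ha b _ => ?_)
    exact ((Subgroup.mem_center_iff.1 (htop ▸ Subgroup.mem_top a)) b).symm
  refine IsSimpleGroup.mk fun M hM => ?_
  set N := M.comap (QuotientGroup.mk' (Subgroup.center X)) with hN
  have hMN : M = N.map (QuotientGroup.mk' (Subgroup.center X)) :=
    (Subgroup.map_comap_eq_self_of_surjective (QuotientGroup.mk'_surjective _) M).symm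
  have hNn : N.Normal := hM.comap _
  rcases r1g_normal_dichotomy h N hNn with hA | hc
  · right
    haveI := h.2.nilpotent_left
    haveI : Group.IsPerfect X := hp
    have hsurj : Function.Surjective ((QuotientGroup.mk' N).comp A.subtype) := by
      intro q
      obtain ⟨x, rfl⟩ := QuotientGroup.mk'_surjective N q
      have hx : x ∈ N ⊔ A := hA ▸ Subgroup.mem_top x
      obtain ⟨n, hn, a, ha, rfl⟩ := Subgroup.mem_sup_of_normal_left.1 hx
      exact ⟨⟨a, ha⟩, QuotientGroup.eq.2 (by simpa [mul_assoc] using hNn.conj_mem' n hn a)⟩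
    haveI : Group.IsNilpotent (X ⧸ N) := Group.nilpotent_of_surjective _ hsurj
    have htop : N = ⊤ := by
      by_contra hne
      haveI : Nontrivial (X ⧸ N) := QuotientGroup.nontrivial_iff.2 hne
      haveI : Group.IsPerfect (X ⧸ N) := inferInstance
      exact Group.IsPerfect.not_isNilpotent (G := X ⧸ N) inferInstance
    rw [hMN, htop]
    exact Subgroup.map_top_of_surjective _ (QuotientGroup.mk'_surjective _)
  · left
    rw [hMN, eq_bot_iff]
    rintro _ ⟨n, hn, rfl⟩
    exact (QuotientGroup.eq_one_iff n).2 (hc hn)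

end Cfsg.Agent.S5017
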