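import Cfsg.Statements.S5018
import Cfsg.Agent.Lib.RootSub.RankOne

set_option autoImplicit false
open Cfsg CfsgLib.RootSub

namespace Cfsg.Agent.S5018

/-- A rank one group is not nilpotent, and its second centre equals its centre. -/
theorem result {X : Type*} [Group X] {A B : Subgroup X} (h : Cfsg.IsRankOneGroup X A B) :
    Subgroup.upperCentralSeries X 2 = Subgroup.center X ∧ ¬ Group.IsNilpotent X := by
  have key : Subgroup.upperCentralSeries X 2 = Subgroup.center X := by
    refine le_antisymm ?_ (by
      rw [← Subgroup.upperCentralSeries_one]; exact Subgroup.upperCentralSeries_mono _ (by norm_num))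
    rcases r1g_normal_dichotomy h (Subgroup.upperCentralSeries X 2) inferInstance with hA | hc
    · exfalso
      set Q := A ⊔ Subgroup.center X with hQ
      haveI : Q.Normal := by
        refine ⟨fun q hq x => ?_⟩
        have hstab : ∀ y, y ∈ Subgroup.upperCentralSeries X 2 ⊔ A →
            y * q * y⁻¹ ∈ Q := by
          intro y hy
          obtain ⟨z, hz, a, ha, rfl⟩ := Subgroup.mem_sup_of_normal_left.1 hy
          have h1 : a * q * a⁻¹ ∈ Q :=
            mul_mem (mul_mem (Subgroup.mem_sup_left ha) hq) (inv_mem (Subgroup.mem_sup_left ha))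
          have h2 : z * (a * q * a⁻¹) * z⁻¹ * (a * q * a⁻¹)⁻¹ ∈ Subgroup.center X := by
            rw [← Subgroup.upperCentralSeries_one]
            exact Subgroup.mem_upperCentralSeries_succ_iff.1 hz _
          have := mul_mem (Subgroup.mem_sup_right (S := A) h2) h1
          simpa [mul_assoc] using this
        exact hstab x (hA ▸ Subgroup.mem_top x)
      obtain ⟨x, hx, e⟩ := r1_right_mem h.2
      refine r1_not_commute h.2 (commutator_eq_bot_iff.2 fun a ha b hb => ?_)
      have hbQ : b ∈ Q := by
        rw [e, mem_conjBy] at hb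
        have := Subgroup.Normal.conj_mem inferInstance (x⁻¹ * b * x) (Subgroup.mem_sup_left (T := Subgroup.center X) hb) x
        simpa [mul_assoc] using this
      obtain ⟨a', ha', z, hz, rfl⟩ := Subgroup.mem_sup_of_normal_right.1 hbQ
      have h1 := mul_comm_of_commutative (A := A)
      have hcomm : a * a' = a' * a := by
        have hAt : (A : Subgroup X) ⊔ Subgroup.center X = ⊤ := by
          rw [eq_top_iff, ← h.1]
          refine sup_le le_sup_left fun y hy => ?_
          rw [e, mem_conjBy] at hy
          have := Subgroup.Normal.conj_mem inferInstance (x⁻¹ * y * x) (Subgroup.mem_sup_left (T := Subgroup.center X) hy) x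
          simpa [mul_assoc] using this
        exfalso
        apply h.2.ne
        obtain ⟨u, hu, v, hv, rfl⟩ := Subgroup.mem_sup_of_normal_right.1 (hAt ▸ Subgroup.mem_top x : x ∈ A ⊔ Subgroup.center X)
        rw [e, ← conjBy_conjBy, conjBy_of_commutes (g := v) (fun w _ => (Subgroup.mem_center_iff.1 hv w).symm),
          conjBy_of_mem hu]
      rw [← mul_assoc, hcomm, mul_assoc, Subgroup.mem_center_iff.1 hz a, mul_assoc]
    · exact hc
  refine ⟨key, fun hnil => ?_⟩
  have : Subgroup.upperCentralSeries X 1 = ⊤ :=
    Subgroup.upperCentralSeries.eq_top (a := 1) (b := 2) (by norm_num)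
      (by rw [Subgroup.upperCentralSeries_one, key])
  rw [Subgroup.upperCentralSeries_one] at this
  exact r1_not_commute h.2 (commutator_eq_bot_iff.2 fun a _ b _ =>
    Subgroup.mem_center_iff.1 (this ▸ Subgroup.mem_top b) a)

end Cfsg.Agent.S5018
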