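import Cfsg.Statements.S5020
import Cfsg.Agent.Lib.RootSub.SL2Hom
import Cfsg.Agent.S5017

set_option autoImplicit false
open Cfsg CfsgLib.RootSub

namespace Cfsg.Agent.S5020

/-- Let X be a special rank one group with abelian unipotent subgroups A and B, and H = N(A) ∩ N(B) its diagonal subgroup. Then either A has at most three elements and X is isomorphic to SL₂(2), SL₂(3) or PSL₂(3); or X = X' A with the commutator subgroup X' quasisimple and the commutator subgroup ⁅A, H⁆ having more than three elements. -/
theorem result {X : Type*} [Group X] {A B : Subgroup X} (h : Cfsg.IsRankOneGroup X A B)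
    (hs : Cfsg.IsSpecialRankOnePair A B) (hab : Cfsg.HasAbelianUnipotents A B) :
    (ENat.card A ≤ 3 ∧ (Nonempty (X ≃* Matrix.SpecialLinearGroup (Fin 2) (ZMod 2)) ∨
        Nonempty (X ≃* Matrix.SpecialLinearGroup (Fin 2) (ZMod 3)) ∨
        Nonempty (X ≃* Matrix.ProjectiveSpecialLinearGroup (Fin 2) (ZMod 3)))) ∨
    (commutator X ⊔ A = ⊤ ∧ Cfsg.IsQuasisimple (commutator X) ∧
      3 < ENat.card ↥(⁅A, Cfsg.rankOneDiagonal A B⁆ : Subgroup X)) := by
  by_cases hc : ENat.card A ≤ 3
  · left
    refine ⟨hc, ?_⟩
    obtain ⟨a, ha, ha1⟩ := (Subgroup.bot_or_exists_ne_one A).resolve_left (r1_left_ne_bot h.2)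
    obtain ⟨b, r⟩ := r1rel_exists h.2 ha ha1
    haveI : Finite A := ENat.card_lt_top.1 (lt_of_le_of_lt hc (ENat.natCast_lt_top 3))
    haveI hnt : Nontrivial A := ⟨⟨⟨a, ha⟩, 1, fun e => ha1 (congrArg Subtype.val e)⟩⟩
    have h2 : 1 < Nat.card A := Finite.one_lt_card
    have h3 : Nat.card A ≤ 3 := by
      rw [ENat.card_eq_coe_natCard] at hc
      exact_mod_cast hc
    have hp : (Nat.card A).Prime := by
      obtain e | e : Nat.card A = 2 ∨ Nat.card A = 3 := by omega
      · rw [e]; exact Nat.prime_two
      · rw [e]; exact Nat.prime_three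
    have hA : ∀ x ∈ A, x ^ Nat.card A = 1 := fun x hx =>
      congrArg Subtype.val (pow_card_eq_one' (G := A) (x := ⟨x, hx⟩))
    haveI := Fact.mk hp
    have hclo : Subgroup.closure ({a, b} : Set X) = ⊤ := by
      rw [eq_top_iff, ← h.1]
      have hgen : ∀ (C : Subgroup X) (c : X), c ∈ C → c ≠ 1 → (Nat.card C).Prime →
          C ≤ Subgroup.zpowers c := by
        intro C c hcC hc1 hC x hx
        haveI := Fact.mk hC
        have := mem_zpowers_of_prime_card (G := C) (g := ⟨c, hcC⟩) (g' := ⟨x, hx⟩) rfl
          (fun e => hc1 (congrArg Subtype.val e))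
        obtain ⟨n, hn⟩ := this
        exact ⟨n, by simpa using congrArg Subtype.val hn⟩
      refine sup_le ((hgen A a ha ha1 hp).trans ?_) ((hgen B b r.2.2.1 r.2.2.2.1 ?_).trans ?_)
      · rw [Subgroup.zpowers_le]; exact Subgroup.subset_closure (Or.inl rfl)
      · obtain ⟨g, -, e⟩ := r1_right_mem h.2
        rw [e, Subgroup.card_map_of_injective (MulEquiv.injective _)]
        exact hp
      · rw [Subgroup.zpowers_le]; exact Subgroup.subset_closure (Or.inr rfl)
    have hiso := spec_minimal_subgroup (p := Nat.card A) hs hab hA r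
    rw [hclo] at hiso
    obtain e | e : Nat.card A = 2 ∨ Nat.card A = 3 := by omega
    · rw [e] at hiso
      left
      rcases hiso with h' | h'
      · exact h'.map fun f => Subgroup.topEquiv.symm.trans f
      · have hc2 : Subgroup.center (Matrix.SpecialLinearGroup (Fin 2) (ZMod 2)) = ⊥ := by
          haveI := Fact.mk Nat.prime_two
          rw [eq_bot_iff]
          intro z hz
          rcases sl2_center hz with hz1 | hz1
          · exact hz1
          · refine Subgroup.mem_bot.2 (Subtype.ext (hz1.trans ?_))
            ext i j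
            exact ZMod.neg_eq_self_mod_two _
        exact h'.map fun f => (Subgroup.topEquiv.symm.trans f).trans
          ((QuotientGroup.quotientMulEquivOfEq hc2).trans QuotientGroup.quotientBot)
    · rw [e] at hiso
      rcases hiso with h' | h'
      · exact Or.inr (Or.inl (h'.map fun f => Subgroup.topEquiv.symm.trans f))
      · exact Or.inr (Or.inr (h'.map fun f => Subgroup.topEquiv.symm.trans f))
  · right
    rw [not_le] at hc
    have hd := spec_left_eq_commutator_diag hs hab hc
    have htop : commutator X = ⊤ := by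
      have hA : A ≤ commutator X := by
        rw [← hd, commutator_def]; exact Subgroup.commutator_mono le_top le_top
      rw [eq_top_iff, ← h.1]
      refine sup_le hA ?_
      obtain ⟨g, -, e⟩ := r1_right_mem h.2
      intro y hy
      rw [e, mem_conjBy] at hy
      have := (inferInstance : (commutator X).Normal).conj_mem _ (hA hy) g
      simpa [mul_assoc] using this
    refine ⟨by rw [htop, top_sup_eq], ?_, by rw [hd]; exact hc⟩
    have hq := (Cfsg.Agent.S5017.result h).2 (Group.isPerfect_def.2 htop)
    rw [htop]
    refine ⟨Group.IsPerfect.top_iff.2 hq.1, ?_⟩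
    haveI := hq.2
    let e : (⊤ : Subgroup X) ≃* X := Subgroup.topEquiv
    refine (MulEquiv.isSimpleGroup_congr (QuotientGroup.congr (Subgroup.center (⊤ : Subgroup X))
      (Subgroup.center X) e (by
        ext x
        simp only [Subgroup.mem_map, Subgroup.mem_center_iff]
        constructor
        · rintro ⟨y, hy, rfl⟩ g
          simpa using congrArg e (hy (e.symm g))
        · intro hx
          exact ⟨e.symm x, fun g => e.injective (by simpa using hx (e g)), by simp⟩))).2 inferInstance

end Cfsg.Agent.S5020
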