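import Cfsg.Statements.S5023
import Cfsg.Agent.Lib.RootSub.Quadratic
import Cfsg.Agent.Lib.RootSub.Special

set_option autoImplicit false
open Cfsg CfsgLib.RootSub

namespace Cfsg.Agent.S5023

/-- Let X be a rank one group with unipotent subgroups A and B that acts faithfully on an abelian group V (written additively) with A acting quadratically: a' • (a • v − v) = a • v − v for all a, a' in A and v in V. Then A is either torsion-free or an elementary abelian p-group for some prime p. -/
theorem result {X : Type*} [Group X] {A B : Subgroup X} (h : Cfsg.IsRankOneGroup X A B)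
    {V : Type*} [AddCommGroup V] [DistribMulAction X V] (hf : ∀ x : X, (∀ v : V, x • v = v) → x = 1)
    (hq : ∀ a ∈ A, ∀ a' ∈ A, ∀ v : V, a' • (a • v - v) = a • v - v) :
    (∀ a ∈ A, a ≠ 1 → ¬ IsOfFinOrder a) ∨ ∃ p : ℕ, p.Prime ∧ Cfsg.IsElementaryAbelian p A := by
  have comm : ∀ x y : X, (∀ v : V, y • (x • v - v) = x • v - v) →
      (∀ v : V, x • (y • v - v) = y • v - v) → x * y = y * x := by
    intro x y h1 h2
    have : (y * x)⁻¹ * (x * y) = 1 := by
      refine hf _ fun v => ?_
      rw [mul_smul, inv_smul_eq_iff]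
      have e1 : (x * y) • v = x • v + y • v - v := by
        have := h2 v
        rw [smul_sub, sub_eq_iff_eq_add] at this
        rw [mul_smul, this]; abel
      have e2 : (y * x) • v = x • v + y • v - v := by
        have := h1 v
        rw [smul_sub, sub_eq_iff_eq_add] at this
        rw [mul_smul, this]; abel
      rw [e1, e2]
    rw [inv_mul_eq_one] at this
    exact this.symm
  have hqB := quad_transfer h hq
  have hab : Cfsg.HasAbelianUnipotents A B :=
    ⟨⟨⟨fun u v => Subtype.ext (comm _ _ (hq _ u.2 _ v.2) (hq _ v.2 _ u.2))⟩⟩,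
      ⟨⟨fun u v => Subtype.ext (comm _ _ (hqB _ u.2 _ v.2) (hqB _ v.2 _ u.2))⟩⟩⟩
  have hX : ∃ x y : X, ∃ v : V, y • (x • v - v) ≠ x • v - v := by
    by_contra hc
    push Not at hc
    exact r1_not_commute h.2 (commutator_eq_bot_iff.2 fun a _ b _ =>
      comm a b (hc a b) (hc b a))
  rcases spec_exponent_or_torsionfree (special_of_quadratic h hq hX) hab with ⟨p, hp, hA⟩ | htf
  · exact Or.inr ⟨p, hp, hab.1, hA⟩
  · exact Or.inl htf

end Cfsg.Agent.S5023
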