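import Cfsg.Statements.S5024
import Cfsg.Agent.Lib.RootSub.RootSet

set_option autoImplicit false
open Cfsg CfsgLib.RootSub

namespace Cfsg.Agent.S5024

/-- Let S be a set of abstract root subgroups of G, A and C members of S, B a rank one partner of A in S and D a rank one partner of C in S. If the rank one group ⟨A, B⟩ is contained in ⟨C, D⟩ then the two coincide, and C and D are conjugates of A inside ⟨A, B⟩. -/
theorem result {G : Type*} [Group G] {S : Set (Subgroup G)} (hS : Cfsg.IsRootSubgroupSet S)
    {A B C D : Subgroup G} (hA : A ∈ S) (hC : C ∈ S) (hB : B ∈ Cfsg.rankOnePartners S A) (hD : D ∈ Cfsg.rankOnePartners S C)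
    (hle : A ⊔ B ≤ C ⊔ D) : A ⊔ B = C ⊔ D ∧ C ∈ Cfsg.unipotentSubgroups A B ∧ D ∈ Cfsg.unipotentSubgroups A B := by
  obtain ⟨hBS, r⟩ := hB
  obtain ⟨hDS, rCD⟩ := hD
  have key : ∀ A B : Subgroup G, A ∈ S → B ∈ S → IsRankOnePair A B → A ⊔ B ≤ C ⊔ D →
      A ∈ unipotentSubgroups C D := by
    intro A B hA hB r hle
    by_cases hex : ∃ E ∈ unipotentSubgroups C D, ¬ IsRankOnePair A E
    · obtain ⟨E, hE, hn⟩ := hex
      obtain ⟨E', hE', hne⟩ : ∃ E' ∈ unipotentSubgroups C D, E ≠ E' := by
        by_cases hEC : E = C
        · exact ⟨D, r1_right_mem rCD, hEC ▸ rCD.ne⟩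
        · exact ⟨C, unipotent_self C D, hEC⟩
      have hrE := unipotent_isRankOnePair rCD hE hE' hne
      have hES := rs_unipotent_mem hS hC hE
      have hEP : HasPartner S E := ⟨E', rs_unipotent_mem hS hC hE', hrE⟩
      have hnorm : ∀ a ∈ A, conjBy E a = E := fun a ha =>
        unipotent_commute_eq rCD (unipotent_conj hE (hle (Subgroup.mem_sup_left ha))) hE
          (rs_conj_commute hS hA hES hn ha)
      have hcomm : ⁅A, E⁆ = ⊥ := by
        rcases hS.pair A hA E hES with h | h | h
        · exact h
        · exact absurd h hn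
        · exfalso
          have hle' : ⁅A, E⁆ ≤ E := by
            rw [Subgroup.commutator_le]
            intro a ha e he
            rw [commutatorElement_def]
            have := conj_mem_conjBy (g := a) he
            rw [hnorm a ha] at this
            exact mul_mem this (inv_mem he)
          have heq : E = ⁅A, E⁆ := rs_ti hS hES hEP h.1 (by
            rw [inf_of_le_right hle']; exact hS.ne_bot _ h.1)
          apply hS.ne_bot _ h.1
          rw [CfsgLib.RootSub.commutator_eq_bot_iff]
          intro a ha e he
          exact (cc_central_left h (heq ▸ he) ha).symm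
      have hAE : A ≤ E := by
        intro a ha
        by_cases ha1 : a = 1
        · rw [ha1]; exact one_mem _
        obtain ⟨e, he, ee⟩ : ∃ e ∈ E, conjBy E' a = conjBy E' e := by
          have h1 : conjBy E' a ∈ unipotentSubgroups E E' := by
            rw [unipotent_eq rCD hE hE' hne]
            exact unipotent_conj hE' (hle (Subgroup.mem_sup_left ha))
          rcases (mem_unipotent_iff hrE).1 h1 with h2 | h2
          · exact absurd (conjBy_inj.1 (h2.trans (hnorm a ha).symm)) hne.symm
          · exact h2
        have hfix : conjBy E' (e⁻¹ * a) = E' := by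
          rw [← conjBy_conjBy, ee, conjBy_inv_conjBy]
        have hcE : ∀ x ∈ E, e⁻¹ * a * x = x * (e⁻¹ * a) := fun x hx =>
          Commute.mul_left (rs_comm hS hES (inv_mem he) hx)
            (commutator_eq_bot_iff.1 hcomm a ha x hx)
        have hcE' := r1_centralizes_left (r1_symm hrE) hfix hcE
        by_cases he1 : e = 1
        · exfalso
          subst he1
          simp only [inv_one, one_mul] at hcE hcE'
          refine ha1 (r1_eq_one_of_normalizes r ha (conjBy_of_commutes fun b hb => ?_))
          have hb' : b ∈ E ⊔ E' := by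
            rw [unipotent_sup rCD hE hE' hne]; exact hle (Subgroup.mem_sup_right hb)
          have : E ⊔ E' ≤ Subgroup.centralizer {a} := sup_le
            (fun x hx => Subgroup.mem_centralizer_singleton_iff.2 (hcE x hx).symm)
            (fun x hx => Subgroup.mem_centralizer_singleton_iff.2 (hcE' x hx).symm)
          exact (Subgroup.mem_centralizer_singleton_iff.1 (this hb')).symm
        · by_cases hz : e⁻¹ * a = 1
          · rw [inv_mul_eq_one] at hz; exact hz ▸ he
          · exfalso
            refine rs_central_translate hS hES (rs_unipotent_mem hS hC hE') hA hrE hcE hcE' hz he he1 ?_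
            have hae : a * e = e * a := commutator_eq_bot_iff.1 hcomm a ha e he
            rwa [mul_assoc, hae, inv_mul_cancel_left]
      have : A = E := rs_ti hS hA ⟨B, hB, r⟩ hES (by
        rw [inf_of_le_left hAE]; exact hS.ne_bot A hA)
      exact this ▸ hE
    · push Not at hex
      exfalso
      have hAC := hex C (unipotent_self C D)
      obtain ⟨c, hc, hc1⟩ := rs_exists_ne_one hS hC
      obtain ⟨a, ha, -, e⟩ := r1_exists_conj (r1_symm hAC) hc hc1
      have hmem : A ∈ unipotentSubgroups C D := by
        have h1 : conjBy C a ∈ unipotentSubgroups C D :=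
          unipotent_conj (unipotent_self C D) (hle (Subgroup.mem_sup_left ha))
        rw [e] at h1
        have h2 := unipotent_conj h1 (inv_mem (Subgroup.mem_sup_left (T := D) hc))
        rwa [conjBy_inv_conjBy] at h2
      exact (hex A hmem).ne rfl
  have hAΩ := key A B hA hBS r hle
  have hBΩ := key B A hBS hA (r1_symm r) (sup_comm A B ▸ hle)
  refine ⟨unipotent_sup rCD hAΩ hBΩ r.ne, ?_, ?_⟩ <;> rw [unipotent_eq rCD hAΩ hBΩ r.ne]
  · exact unipotent_self C D
  · exact r1_right_mem rCD

end Cfsg.Agent.S5024
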