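import Cfsg.Statements.S5026
import Cfsg.Agent.Lib.RootSub.RootSet

set_option autoImplicit false
open Cfsg CfsgLib.RootSub

namespace Cfsg.Agent.S5026

/-- Let S be a degenerate set of abstract root subgroups of G (a set of abstract transvection groups) and let a, b be commuting non-identity elements of members of S with a b ≠ 1. Then the members of S centralizing a b are exactly those centralizing both a and b. -/
theorem result {G : Type*} [Group G] {S : Set (Subgroup G)} (hS : Cfsg.IsRootSubgroupSet S) (hdeg : Cfsg.IsDegenerateRootSet S)
    {a b : G} (ha : a ∈ Cfsg.rootElements S) (hb : b ∈ Cfsg.rootElements S) (hab : a * b = b * a) (hab1 : a * b ≠ 1) :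
    Cfsg.centralizingMembers S (Subgroup.zpowers (a * b)) =
      Cfsg.centralizingMembers S (Subgroup.zpowers a) ∩ Cfsg.centralizingMembers S (Subgroup.zpowers b) := by
  obtain ⟨ha1, A, hA, haA⟩ := ha
  obtain ⟨hb1, B, hB, hbB⟩ := hb
  have key : ∀ (E : Subgroup G) (x : G), E ≤ Subgroup.centralizer (Subgroup.zpowers x : Set G) ↔
      ∀ e ∈ E, e * x = x * e := by
    intro E x
    rw [Subgroup.zpowers_eq_closure, Subgroup.centralizer_closure]
    exact forall₂_congr fun e _ => Subgroup.mem_centralizer_singleton_iff
  ext E
  simp only [centralizingMembers, Set.mem_setOf_eq, Set.mem_inter_iff, key]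
  constructor
  · rintro ⟨hE, he⟩
    have hor : (∀ e ∈ E, e * a = a * e) ∨ (∀ e ∈ E, e * b = b * e) := by
      rcases hS.pair E hE A hA with h | h | h
      · exact Or.inl fun e h' => commutator_eq_bot_iff.1 h e h' a haA
      · rcases hS.pair E hE B hB with h' | h' | h'
        · exact Or.inr fun e h'' => commutator_eq_bot_iff.1 h' e h'' b hbB
        · exfalso
          -- A and B are commuting partners of E, so they coincide
          have hfix : conjBy E (a * b) = E :=
            conjBy_of_commutes fun e h'' => (he e h'').symm
          have hab' : conjBy E b = conjBy E a⁻¹ := by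
            have := congrArg (fun F => conjBy F a⁻¹) hfix
            simpa [conjBy_conjBy] using this
          have hBΩ := rs_mem_unipotent_of_conj hS hE hB (r1_symm h) (inv_mem haA)
            (inv_ne_one.2 ha1) hbB hab'
          have hBA : B = A := by
            by_contra hne
            have hr := unipotent_isRankOnePair (r1_symm h) hBΩ (unipotent_self A E) hne
            refine ha1 (r1_eq_one_of_normalizes (r1_symm hr) haA ?_)
            by_contra hne2
            have hr2 := unipotent_isRankOnePair hr
              (unipotent_conj (unipotent_self B A) (Subgroup.mem_sup_right haA))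
              (unipotent_self B A) hne2
            refine hb1 (r1_eq_one_of_normalizes (r1_symm hr2) hbB (conjBy_of_commutes fun x hx => ?_))
            rcases hS.pair A hA B hB with h3 | h3 | h3
            · have := conjBy_of_commutes (A := B) (g := a) fun y hy => commutator_eq_bot_iff.1 h3 a haA y hy
              exact absurd this hne2
            · have hb2 : conjBy B a = B := by
                by_contra hne3
                have hr3 := unipotent_isRankOnePair hr
                  (unipotent_conj (unipotent_self B A) (Subgroup.mem_sup_right haA))
                  (unipotent_self B A) hne3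
                have hmem : b ∈ conjBy B a := mem_conjBy.2 (by
                  rw [mul_assoc, ← hab, inv_mul_cancel_left]; exact hbB)
                have hbot := r1_inf hr3
                have : b ∈ conjBy B a ⊓ B := ⟨hmem, hbB⟩
                rw [hbot, Subgroup.mem_bot] at this
                exact hb1 this
              exact absurd hb2 hne2
            · exact absurd h3 (hdeg A hA B hB)
          rw [hBA] at hbB
          exact hab1 (r1_eq_one_of_normalizes (r1_symm h) (mul_mem haA hbB) hfix)
        · exact absurd h' (hdeg E hE B hB)
      · exact absurd h (hdeg E hE A hA)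
    rcases hor with h | h
    · refine ⟨⟨hE, h⟩, hE, fun e h' => ?_⟩
      have h1 : Commute e (a⁻¹ * (a * b)) :=
        (Commute.inv_right (h e h')).mul_right (he e h')
      rw [inv_mul_cancel_left] at h1
      exact h1
    · refine ⟨⟨hE, fun e h' => ?_⟩, hE, h⟩
      have h1 : Commute e (a * b * b⁻¹) := Commute.mul_right (he e h') (Commute.inv_right (h e h'))
      rw [mul_inv_cancel_right] at h1
      exact h1
  · rintro ⟨⟨hE, h1⟩, -, h2⟩
    exact ⟨hE, fun e h' => Commute.mul_right (h1 e h') (h2 e h')⟩

end Cfsg.Agent.S5026
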