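import Cfsg.Statements.S5027
import Cfsg.Agent.Lib.RootSub.RootSet

set_option autoImplicit false
open Cfsg CfsgLib.RootSub

namespace Cfsg.Agent.S5027

/-- Let S be a set of abstract root subgroups of G such that every member of S has a rank one partner in S (the graph of rank one pairs on S has no isolated vertex). Then the second centre of G equals its centre. -/
theorem result {G : Type*} [Group G] {S : Set (Subgroup G)} (hS : Cfsg.IsRootSubgroupSet S)
    (hF : ∀ A ∈ S, ¬ Cfsg.IsIsolatedIn (Cfsg.FAdj S) S A) : Subgroup.upperCentralSeries G 2 = Subgroup.center G := by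
  refine le_antisymm (fun z hz => ?_) ?_
  · rw [Subgroup.mem_center_iff]
    have hall : ∀ A ∈ S, A ≤ Subgroup.centralizer {z} := by
      intro A hA a ha
      rw [Subgroup.mem_centralizer_singleton_iff]
      by_cases ha1 : a = 1
      · simp [ha1]
      obtain ⟨B, hB, r⟩ := hasPartner_of_not_isolated hA (hF A hA)
      by_contra hne
      have ht : z * a * z⁻¹ * a⁻¹ ∈ Subgroup.center G := by
        rw [← Subgroup.upperCentralSeries_one]
        exact Subgroup.mem_upperCentralSeries_succ_iff.1 hz a
      refine rs_central_translate hS hA hB (hS.conj_mem A hA z) r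
        (fun x _ => (Subgroup.mem_center_iff.1 ht x).symm)
        (fun x _ => (Subgroup.mem_center_iff.1 ht x).symm) ?_ ha ha1 (z := z * a * z⁻¹ * a⁻¹) ?_
      · intro e
        rw [mul_inv_eq_one, mul_inv_eq_iff_eq_mul] at e
        exact hne e.symm
      · simpa using conj_mem_conjBy (g := z) ha
    intro g
    have hg : g ∈ (⨆ A ∈ S, A) := hS.generates ▸ Subgroup.mem_top g
    exact Subgroup.mem_centralizer_singleton_iff.1 (iSup₂_le hall hg)
  · rw [← Subgroup.upperCentralSeries_one]
    exact Subgroup.upperCentralSeries_mono _ (by norm_num)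

end Cfsg.Agent.S5027
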