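import Cfsg.Statements.S5029
import Cfsg.Agent.Lib.RootSub.Graph

set_option autoImplicit false
open Cfsg CfsgLib.RootSub

namespace Cfsg.Agent.S5029

open scoped commutatorElement

/-- Let S be a set of abstract root subgroups of G, A ∈ S having a rank one partner in S, and B ∈ S with C = ⁅A, B⁆ ∈ S. Then the members of S contained in AC are the conjugates of A by elements of B together with C, they partition AC, the members of S inside AC partition AC so that A is a line partner of C, and for every non-identity a ∈ A the map b ↦ a⁻¹ b⁻¹ a b is an isomorphism from B onto C. -/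
theorem result {G : Type*} [Group G] {S : Set (Subgroup G)} (hS : Cfsg.IsRootSubgroupSet S)
    {A B : Subgroup G} (hA : ¬ Cfsg.IsIsolatedIn (Cfsg.FAdj S) S A) (hAS : A ∈ S) (hB : B ∈ S) (hC : ⁅A, B⁆ ∈ S) :
    Cfsg.membersIn S (A ⊔ ⁅A, B⁆) = (fun b : G => Cfsg.conjBy A b) '' (B : Set G) ∪ {⁅A, B⁆} ∧
    Cfsg.IsSubgroupPartition (A ⊔ ⁅A, B⁆) (Cfsg.membersIn S (A ⊔ ⁅A, B⁆)) ∧
    A ∈ Cfsg.linePartners S ⁅A, B⁆ ∧
    ∀ a ∈ A, a ≠ 1 → ∃ φ : ↥B ≃* ↥⁅A, B⁆, ∀ b : ↥B, (φ b : G) = a⁻¹ * (b : G)⁻¹ * a * b := by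
  have hP := hasPartner_of_not_isolated hAS hA
  have h := rs_cc_of_mem hS hAS hB hC
  refine ⟨cc_members hS hAS h hP, cc_partition hS hAS h hP, cc_linePartner hS hAS h hP, ?_⟩
  intro a ha ha1
  have hval : ∀ b : G, ⁅a⁻¹, b⁻¹⁆ = a⁻¹ * b⁻¹ * a * b := fun b => by simp [commutatorElement_def]
  let f : B →* (⁅A, B⁆ : Subgroup G) :=
    MonoidHom.mk' (fun b => ⟨⁅a⁻¹, (b : G)⁻¹⁆,
      Subgroup.commutator_mem_commutator (inv_mem ha) (inv_mem b.2)⟩) fun b c => by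
        apply Subtype.ext
        show ⁅a⁻¹, ((b : G) * c)⁻¹⁆ = ⁅a⁻¹, (b : G)⁻¹⁆ * ⁅a⁻¹, (c : G)⁻¹⁆
        rw [mul_inv_rev, cc_mul_right h (inv_mem ha) (inv_mem c.2) (inv_mem b.2)]
        exact rs_comm hS hC (Subgroup.commutator_mem_commutator (inv_mem ha) (inv_mem c.2))
          (Subgroup.commutator_mem_commutator (inv_mem ha) (inv_mem b.2))
  have hbij : Function.Bijective f := by
    refine ⟨(injective_iff_map_eq_one f).2 fun b hb => ?_, fun c => ?_⟩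
    · have := cc_injective hS hAS h hP (inv_mem ha) (inv_ne_one.2 ha1) (inv_mem b.2)
        (congrArg Subtype.val hb)
      exact Subtype.ext (inv_eq_one.1 this)
    · obtain ⟨b, hb, e⟩ := cc_surj h (inv_mem ha) (inv_ne_one.2 ha1) c.2
      exact ⟨⟨b⁻¹, inv_mem hb⟩, Subtype.ext (by show ⁅a⁻¹, (b⁻¹)⁻¹⁆ = _; rw [inv_inv, e])⟩
  exact ⟨MulEquiv.ofBijective f hbij, fun b => hval b⟩

end Cfsg.Agent.S5029
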