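import Cfsg.Statements.S5031
import Cfsg.Agent.Lib.RootSub.Graph

set_option autoImplicit false
open Cfsg CfsgLib.RootSub

namespace Cfsg.Agent.S5031

/-- Let S be a set of abstract root subgroups of G and let A, B ∈ S lie in different connected components of the graph of rank one pairs on S, each component having more than one member. Then B is not a line partner of A. -/
theorem result {G : Type*} [Group G] {S : Set (Subgroup G)} (hS : Cfsg.IsRootSubgroupSet S)
    {A B : Subgroup G} (hA : A ∈ S) (hB : B ∈ S)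
    (hne : Cfsg.componentOf (Cfsg.FAdj S) S A ≠ Cfsg.componentOf (Cfsg.FAdj S) S B)
    (hA2 : ∃ A' ∈ Cfsg.componentOf (Cfsg.FAdj S) S A, A' ≠ A) (hB2 : ∃ B' ∈ Cfsg.componentOf (Cfsg.FAdj S) S B, B' ≠ B) :
    B ∉ Cfsg.linePartners S A := by
  intro hline
  obtain ⟨⟨-, hBA, hcomm⟩, -, hcov, -⟩ := hline
  obtain ⟨a, ha, ha1⟩ := rs_exists_ne_one hS hA
  obtain ⟨b, hb, hb1⟩ := rs_exists_ne_one hS hB
  have hab : a * b ≠ 1 := by
    intro e
    apply hBA
    refine (rs_ti_of_mem hS hA (hasPartner_of_comp hA2) hB ha ?_ ha1).symm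
    rw [mul_eq_one_iff_eq_inv.1 e]; exact inv_mem hb
  obtain ⟨E, hE, he⟩ := hcov _ (mul_mem (Subgroup.mem_sup_left ha) (Subgroup.mem_sup_right hb)) hab
  exact hne (componentOf_eq (rs_line_reach hS hA hB hE.1 (hasPartner_of_comp hA2)
    (hasPartner_of_comp hB2) hcomm ha ha1 hb hb1 he))

end Cfsg.Agent.S5031
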