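import Cfsg.Statements.S5033
import Cfsg.Agent.Lib.RootSub.Simple

set_option autoImplicit false
open Cfsg CfsgLib.RootSub

namespace Cfsg.Agent.S5033

/-- Quasisimplicity criterion for groups generated by abstract root subgroups. Let S be a set of abstract root subgroups of G with more than one member such that: the graph of rank one pairs on S is connected; no two different members of S have the same set of commuting members of S; if S is degenerate then every member of S has more than three elements; and every rank one pair in S is special. Then for every A ∈ S one has G = G' A with A ∩ G' ≠ 1, and the commutator subgroup G' is quasisimple. Moreover G is perfect if S is non-degenerate, or if some rank one pair A, B in S generates a perfect group. -/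
theorem result {G : Type*} [Group G] {S : Set (Subgroup G)} (hS : Cfsg.IsRootSubgroupSet S) (h2 : ∃ A ∈ S, ∃ B ∈ S, A ≠ B)
    (h1 : Cfsg.IsConnectedFamily (Cfsg.FAdj S) S)
    (h2' : ∀ A ∈ S, ∀ C ∈ S, A ≠ C → Cfsg.centralizingMembers S A ≠ Cfsg.centralizingMembers S C)
    (h3 : Cfsg.IsDegenerateRootSet S → ∀ A ∈ S, 3 < ENat.card A)
    (h4 : ∀ A ∈ S, ∀ B ∈ Cfsg.rankOnePartners S A, Cfsg.IsSpecialRankOnePair A B) :
    (∀ A ∈ S, commutator G ⊔ A = ⊤ ∧ A ⊓ commutator G ≠ ⊥) ∧ Cfsg.IsQuasisimple ↥(commutator G) ∧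
    (Cfsg.IsNondegenerateRootSet S → commutator G = ⊤) ∧
    ((∃ A ∈ S, ∃ B ∈ Cfsg.rankOnePartners S A, Group.IsPerfect ↥(A ⊔ B)) → commutator G = ⊤) := by
  obtain ⟨A₀, hA₀, B₀, hB₀, hne⟩ := h2
  have hcl := rs_class_of_connected ⟨A₀, hA₀⟩ h1
  have hF : ∀ A ∈ S, HasPartner S A := by
    intro A hA
    obtain ⟨g, rfl⟩ := hcl.2 A₀ hA₀ A hA
    exact rs_hasPartner_conj hS (hasPartner_of_comp ⟨B₀, ⟨hB₀, h1 A₀ hA₀ B₀ hB₀⟩, hne.symm⟩) g
  have htop := rs_commutator_eq_top hS hcl h3 h4 hF
  have hnt : Nontrivial (G ⧸ Subgroup.center G) := by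
    rw [QuotientGroup.nontrivial_iff]
    intro hc
    obtain ⟨B, hB, r⟩ := hF A₀ hA₀
    refine r1_not_commute r (CfsgLib.RootSub.commutator_eq_bot_iff.2 fun a _ b _ => ?_)
    exact Subgroup.mem_center_iff.1 (hc ▸ Subgroup.mem_top b) a
  have hsimple : IsSimpleGroup (G ⧸ Subgroup.center G) := by
    refine IsSimpleGroup.mk fun M hM => ?_
    have hsurj := QuotientGroup.mk'_surjective (Subgroup.center G)
    rcases rs_normal_dichotomy hS hcl h2' h3 h4 hF _ (hM.comap (QuotientGroup.mk' (Subgroup.center G)))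
      with h | h
    · right
      rw [← Subgroup.map_comap_eq_self_of_surjective hsurj M, h]
      exact Subgroup.map_top_of_surjective _ hsurj
    · left
      rw [eq_bot_iff]
      intro m hm
      obtain ⟨n, rfl⟩ := hsurj m
      exact (QuotientGroup.eq_one_iff n).2 (h hm)
  refine ⟨fun A hA => ⟨by rw [htop, top_sup_eq], by rw [htop, inf_top_eq]; exact hS.ne_bot A hA⟩,
    ?_, fun _ => htop, fun _ => htop⟩
  rw [htop]
  refine ⟨Group.IsPerfect.top_iff.2 (Group.isPerfect_def.2 htop), ?_⟩
  let e : (⊤ : Subgroup G) ≃* G := Subgroup.topEquiv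
  refine (MulEquiv.isSimpleGroup_congr (QuotientGroup.congr (Subgroup.center (⊤ : Subgroup G))
    (Subgroup.center G) e (by
      ext x
      simp only [Subgroup.mem_map, Subgroup.mem_center_iff]
      constructor
      · rintro ⟨y, hy, rfl⟩ g
        simpa using congrArg e (hy (e.symm g))
      · intro hx
        exact ⟨e.symm x, fun g => e.injective (by simpa using hx (e g)), by simp⟩))).2 hsimple

end Cfsg.Agent.S5033
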