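import Cfsg.Statements.S5034
import Cfsg.Agent.Lib.RootSub.Nondegenerate

set_option autoImplicit false
open Cfsg CfsgLib.RootSub

namespace Cfsg.Agent.S5034

/-- Let S be a non-degenerate class of abstract root subgroups of G, A ∈ S and B a rank one partner of A. Then some line partner C of A has ⁅B, C⁆ ∈ S, and the rank one pair A, B is special. -/
theorem result {G : Type*} [Group G] {S : Set (Subgroup G)} (hS : Cfsg.IsRootSubgroupClass S) (hnd : Cfsg.IsNondegenerateRootSet S)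
    {A B : Subgroup G} (hA : A ∈ S) (hB : B ∈ Cfsg.rankOnePartners S A) :
    (∃ C ∈ Cfsg.linePartners S A, C ∈ Cfsg.commutatorPartners S B) ∧ Cfsg.IsSpecialRankOnePair A B := by
  obtain ⟨hBS, r⟩ := hB
  have hF := class_hasPartner hS hnd
  obtain ⟨L, hL⟩ := class_exists_linePartner hS hnd hA
  obtain ⟨C, hC, hne, k1, k2, k3, k4⟩ :=
    line_fix hS.1 hF hA hL (C₂ := A) ⟨hA, le_sup_left⟩ hBS r
  refine ⟨⟨C, ?_, ⟨hC.1, by rw [Subgroup.commutator_comm]; exact k1.1⟩⟩,
    special_of_line hS.1 hA hBS hC.1 r k1 k2 k3⟩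
  refine ⟨⟨hC.1, hne, ?_⟩, by rw [k4]; exact hL.2⟩
  rw [CfsgLib.RootSub.commutator_eq_bot_iff]
  intro a ha c hc
  exact (cc_central_left k2 (k3.symm ▸ hc) ha).symm

end Cfsg.Agent.S5034
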