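import Cfsg.Statements.S5035
import Cfsg.Agent.Lib.RootSub.Graph
import Cfsg.Agent.Lib.RootSub.Transfer

set_option autoImplicit false
open Cfsg CfsgLib.RootSub

namespace Cfsg.Agent.S5035

/-- Let S be a set of abstract root subgroups of G whose graph of rank one pairs is connected, and f a homomorphism from G onto a group H. Then either the images of the members of S form a set of abstract root subgroups of H whose graph of rank one pairs is again connected, or H equals the image of a member of S. -/
theorem result {G H : Type*} [Group G] [Group H] {S : Set (Subgroup G)} (hS : Cfsg.IsRootSubgroupSet S)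
    (hc : Cfsg.IsConnectedFamily (Cfsg.FAdj S) S) (f : G →* H) (hf : Function.Surjective f) :
    (Cfsg.IsRootSubgroupSet ((fun A : Subgroup G => A.map f) '' S) ∧
      Cfsg.IsConnectedFamily (Cfsg.FAdj ((fun A : Subgroup G => A.map f) '' S)) ((fun A : Subgroup G => A.map f) '' S)) ∨
    ∃ A ∈ S, A.map f = ⊤ := by
  by_cases hker : ∃ A ∈ S, A.map f = ⊥
  · right
    obtain ⟨A, hA, hA0⟩ := hker
    refine ⟨A, hA, ?_⟩
    have hall : ∀ B, Relation.ReflTransGen (Cfsg.FAdj S) A B → B.map f = ⊥ := by
      intro B hB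
      induction hB with
      | refl => exact hA0
      | @tail B C _ h ih =>
        obtain ⟨x, -, e⟩ := r1_right_mem h.2.2
        rw [e, map_conjBy, ih, conjBy, Subgroup.map_bot]
    rw [hA0, eq_top_iff, ← Subgroup.map_top_of_surjective f hf, ← hS.generates, Subgroup.map_iSup]
    refine iSup_le fun B => ?_
    rw [Subgroup.map_iSup]
    exact iSup_le fun hB => (hall B (hc A hA B hB)).le
  left
  push Not at hker
  -- a rank one pair either survives or collapses
  have hpair : ∀ A ∈ S, ∀ B ∈ S, Cfsg.IsRankOnePair A B → A.map f ≠ B.map f →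
      Cfsg.IsRankOnePair (A.map f) (B.map f) := by
    intro A hA B hB r hne
    have hcond : ∀ {X Y : Subgroup G}, Cfsg.RankOneCondition X Y → X.map f ≠ Y.map f →
        Cfsg.RankOneCondition (X.map f) (Y.map f) := by
      intro X Y h hXY u hu hu1
      obtain ⟨a, ha, rfl⟩ := Subgroup.mem_map.1 hu
      obtain ⟨b, hb, hb1, e⟩ := h a ha (fun e => hu1 (by rw [e, map_one]))
      have e' := congrArg (fun K : Subgroup G => K.map f) e
      simp only [map_conjBy, map_inv] at e'
      refine ⟨f b, Subgroup.mem_map_of_mem f hb, fun hfb => hXY ?_, e'⟩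
      rw [hfb, inv_one, conjBy_one] at e'
      have e2 := congrArg (fun K => conjBy K (f a)) e'
      simp only [conjBy_conjBy_inv] at e2
      rwa [conjBy_of_mem (Subgroup.mem_map_of_mem f ha)] at e2
    refine ⟨hne, ?_, ?_, hcond r.cond_left hne, hcond r.cond_right hne.symm⟩
    · haveI := r.nilpotent_left
      exact Group.nilpotent_of_surjective (f.subgroupMap A) (f.subgroupMap_surjective A)
    · haveI := r.nilpotent_right
      exact Group.nilpotent_of_surjective (f.subgroupMap B) (f.subgroupMap_surjective B)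
  have hcomm : ∀ A ∈ S, IsMulCommutative ↥(A.map f) := fun A hA => ⟨⟨fun u v => by
    obtain ⟨a, ha, ea⟩ := Subgroup.mem_map.1 u.2
    obtain ⟨b, hb, eb⟩ := Subgroup.mem_map.1 v.2
    refine Subtype.ext ?_
    show (u : H) * v = (v : H) * u
    rw [← ea, ← eb, ← map_mul, ← map_mul, rs_comm hS hA ha hb]⟩⟩
  refine ⟨⟨?_, ?_, ?_, ?_, ?_⟩, ?_⟩
  · rintro _ ⟨A, hA, rfl⟩; exact hcomm A hA
  · rintro _ ⟨A, hA, rfl⟩; exact hker A hA
  · rw [eq_top_iff, ← Subgroup.map_top_of_surjective f hf, ← hS.generates, Subgroup.map_iSup]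
    refine iSup_le fun B => ?_
    rw [Subgroup.map_iSup]
    exact iSup_le fun hB => le_biSup (fun K : Subgroup H => K) ⟨B, hB, rfl⟩
  · rintro _ ⟨A, hA, rfl⟩ h
    obtain ⟨g, rfl⟩ := hf h
    exact ⟨conjBy A g, hS.conj_mem A hA g, map_conjBy ..⟩
  · rintro _ ⟨A, hA, rfl⟩ _ ⟨B, hB, rfl⟩
    dsimp only
    rcases hS.pair A hA B hB with h | h | h
    · left; rw [← Subgroup.map_commutator, h, Subgroup.map_bot]
    · by_cases hne : A.map f = B.map f
      · left
        rw [hne, CfsgLib.RootSub.commutator_eq_bot_iff]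
        exact fun u hu v hv => mul_comm_of_commutative (hcomm B hB) hu hv
      · exact Or.inr (Or.inl (hpair A hA B hB h hne))
    · refine Or.inr (Or.inr ?_)
      have hmc : ∀ (s : Set G) (t : G → H), (∀ x, f x = t x) → (Subgroup.closure s).map f =
          Subgroup.closure (t '' s) := fun s t ht => by
        rw [MonoidHom.map_closure, Set.image_congr' ht]
      refine ⟨?_, ?_, ?_, ?_⟩
      · exact ⟨⁅A, B⁆, h.1, Subgroup.map_commutator _ _ _⟩
      · intro u hu v hv
        rw [← Subgroup.map_commutator] at hu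
        rw [← Subgroup.map_sup] at hv
        obtain ⟨c, hc, rfl⟩ := Subgroup.mem_map.1 hu
        obtain ⟨x, hx, rfl⟩ := Subgroup.mem_map.1 hv
        rw [← map_mul, ← map_mul, h.2.1 c hc x hx]
      · intro u hu hu1
        obtain ⟨a, ha, rfl⟩ := Subgroup.mem_map.1 hu
        rw [← Subgroup.map_commutator, ← h.2.2.1 a ha (fun e => hu1 (by rw [e, map_one])),
          MonoidHom.map_closure, Subgroup.coe_map, Set.image_image, Set.image_image]
        simp only [map_mul, map_inv]
      · intro u hu hu1
        obtain ⟨b, hb, rfl⟩ := Subgroup.mem_map.1 hu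
        rw [← Subgroup.map_commutator, ← h.2.2.2 b hb (fun e => hu1 (by rw [e, map_one])),
          MonoidHom.map_closure, Subgroup.coe_map, Set.image_image, Set.image_image]
        simp only [map_mul, map_inv]
  · rintro _ ⟨A, hA, rfl⟩ _ ⟨B, hB, rfl⟩
    dsimp only
    have h := hc A hA B hB
    clear hB
    induction h with
    | refl => exact .refl
    | @tail B C _ h ih =>
      by_cases hne : B.map f = C.map f
      · rw [← hne]; exact ih
      · exact ih.tail ⟨⟨B, h.1, rfl⟩, ⟨C, h.2.1, rfl⟩, hpair B h.1 C h.2.1 h.2.2 hne⟩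

end Cfsg.Agent.S5035
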