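import Cfsg.Statements.S5043
import Cfsg.Agent.Lib.RootSub.IncidentPairs

set_option autoImplicit false
open Cfsg

namespace Cfsg.Agent.S5043

open Matrix CfsgLib.RootSub

variable {N : Type*} [Fintype N] [DecidableEq N] {k : Type*} [Field k]

theorem commutatorCase_symm {G : Type*} [Group G] {S : Set (Subgroup G)} {A B : Subgroup G}
    (h : RootCommutatorCase S A B) : RootCommutatorCase S B A := by
  obtain ⟨h1, h2, h3, h4⟩ := h
  have inv_cl : ∀ (T : Set G) (f g : G → G), (∀ x, g x = (f x)⁻¹) →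
      Subgroup.closure (g '' T) = Subgroup.closure (f '' T) := by
    intro T f g hfg
    rw [← Subgroup.closure_inv (f '' T)]
    congr 1
    ext y
    rw [Set.mem_inv, Set.mem_image, Set.mem_image]
    exact ⟨fun ⟨x, hx, h⟩ => ⟨x, hx, by rw [← h, hfg, inv_inv]⟩,
      fun ⟨x, hx, h⟩ => ⟨x, hx, by rw [hfg, h, inv_inv]⟩⟩
  rw [RootCommutatorCase, Subgroup.commutator_comm B A, sup_comm B A]
  refine ⟨h1, h2, fun b hb hb1 => ?_, fun a ha ha1 => ?_⟩
  · rw [← h4 b hb hb1]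
    exact inv_cl _ _ _ fun a => by group
  · rw [← h3 a ha ha1]
    exact inv_cl _ _ _ fun b => by group

theorem commutator_case {S : Set (Subgroup (SpecialLinearGroup N k))} (P Q : Incident N k)
    (a : P.cov ⬝ᵥ Q.vec ≠ 0) (b : Q.cov ⬝ᵥ P.vec = 0) (hS : (P.meet Q b).sub ∈ S) :
    RootCommutatorCase S P.sub Q.sub ∧ ¬ IsRankOnePair P.sub Q.sub := by
  have hcl1 : ∀ c : k, c ≠ 0 → Subgroup.closure ((fun y : SpecialLinearGroup N k =>
      P.tv c * y * (P.tv c)⁻¹ * y⁻¹) '' (Q.sub : Set (SpecialLinearGroup N k))) = (P.meet Q b).sub := by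
    intro c hc
    refine le_antisymm ((Subgroup.closure_le _).2 ?_) fun g hg => ?_
    · rintro _ ⟨y, hy, rfl⟩
      obtain ⟨d, rfl⟩ := Incident.mem_sub.1 hy
      exact Incident.mem_sub.2 ⟨_, (P.tv_commutator Q b c d).symm⟩
    · obtain ⟨e, rfl⟩ := Incident.mem_sub.1 hg
      refine Subgroup.subset_closure ⟨Q.tv (e / (c * (P.cov ⬝ᵥ Q.vec))), Incident.mem_sub.2 ⟨_, rfl⟩, ?_⟩
      show P.tv c * Q.tv _ * (P.tv c)⁻¹ * (Q.tv _)⁻¹ = _
      rw [P.tv_commutator Q b]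
      congr 1
      field_simp
  have hcl2 : ∀ d : k, d ≠ 0 → Subgroup.closure ((fun x : SpecialLinearGroup N k =>
      x * Q.tv d * x⁻¹ * (Q.tv d)⁻¹) '' (P.sub : Set (SpecialLinearGroup N k))) = (P.meet Q b).sub := by
    intro d hd
    refine le_antisymm ((Subgroup.closure_le _).2 ?_) fun g hg => ?_
    · rintro _ ⟨y, hy, rfl⟩
      obtain ⟨c, rfl⟩ := Incident.mem_sub.1 hy
      exact Incident.mem_sub.2 ⟨_, (P.tv_commutator Q b c d).symm⟩
    · obtain ⟨e, rfl⟩ := Incident.mem_sub.1 hg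
      refine Subgroup.subset_closure ⟨P.tv (e / (d * (P.cov ⬝ᵥ Q.vec))), Incident.mem_sub.2 ⟨_, rfl⟩, ?_⟩
      show P.tv _ * Q.tv d * (P.tv _)⁻¹ * (Q.tv d)⁻¹ = _
      rw [P.tv_commutator Q b]
      congr 1
      field_simp
  have heq : ⁅P.sub, Q.sub⁆ = (P.meet Q b).sub := by
    refine le_antisymm ?_ ?_
    · rw [Subgroup.commutator_le]
      intro x hx y hy
      obtain ⟨c, rfl⟩ := Incident.mem_sub.1 hx
      obtain ⟨d, rfl⟩ := Incident.mem_sub.1 hy
      exact Incident.mem_sub.2 ⟨_, (P.tv_commutator Q b c d).symm⟩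
    · rw [← hcl1 1 one_ne_zero, Subgroup.closure_le]
      rintro _ ⟨y, hy, rfl⟩
      exact Subgroup.commutator_mem_commutator (Incident.mem_sub.2 ⟨1, rfl⟩) hy
  have hmP : ∀ c e, P.tv c * (P.meet Q b).tv e = (P.meet Q b).tv e * P.tv c :=
    P.tv_commute (P.meet Q b) P.incident b
  have hmQ : ∀ d e, Q.tv d * (P.meet Q b).tv e = (P.meet Q b).tv e * Q.tv d :=
    Q.tv_commute (P.meet Q b) b Q.incident
  refine ⟨⟨heq ▸ hS, ?_, ?_, ?_⟩, fun hr => ?_⟩
  · rw [heq]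
    intro z hz
    obtain ⟨e, rfl⟩ := Incident.mem_sub.1 hz
    have hle : P.sub ⊔ Q.sub ≤ Subgroup.centralizer {(P.meet Q b).tv e} := by
      refine sup_le ?_ ?_ <;> intro x hx <;> obtain ⟨c, rfl⟩ := Incident.mem_sub.1 hx <;>
        rw [Subgroup.mem_centralizer_singleton_iff]
      · exact hmP c e
      · exact hmQ c e
    intro x hx
    exact (Subgroup.mem_centralizer_singleton_iff.1 (hle hx)).symm
  · intro x hx hx1
    obtain ⟨c, rfl⟩ := Incident.mem_sub.1 hx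
    rw [heq]
    exact hcl1 c fun h => hx1 (by rw [h, P.tv_zero])
  · intro x hx hx1
    obtain ⟨d, rfl⟩ := Incident.mem_sub.1 hx
    rw [heq]
    exact hcl2 d fun h => hx1 (by rw [h, Q.tv_zero])
  · -- conjugates of `P.sub` and `Q.sub` cannot coincide
    obtain ⟨y, hy, -, he⟩ := hr.cond_left (P.tv 1) (Incident.mem_sub.2 ⟨1, rfl⟩) (P.tv_ne_one one_ne_zero)
    obtain ⟨d, rfl⟩ := Incident.mem_sub.1 hy
    have hmem : (Q.tv d)⁻¹ * P.tv 1 * (Q.tv d)⁻¹⁻¹ ∈ Cfsg.conjBy P.sub (Q.tv d)⁻¹ :=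
      conj_mem_conjBy (Incident.mem_sub.2 ⟨1, rfl⟩)
    rw [he, mem_conjBy] at hmem
    obtain ⟨r, hr'⟩ := Incident.mem_sub.1 hmem
    have h3 : Q.tv r * Q.tv d = P.tv 1 * ((Q.tv d)⁻¹ * P.tv 1 * (Q.tv d)⁻¹⁻¹) * (P.tv 1)⁻¹ * Q.tv d := by
      rw [hr']; group
    have hM := congrArg (fun g : SpecialLinearGroup N k => (g : Matrix N N k) *ᵥ Q.vec) h3
    simp only [inv_inv, P.tv_inv, Q.tv_inv, sl_mul, Incident.tv_val, ← mulVec_mulVec, tvMat_mulVec,
      dotProduct_add, dotProduct_smul, Q.incident, P.incident, b, smul_eq_mul, mul_zero, zero_smul,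
      add_zero, zero_add, one_mul] at hM
    have h4 : (P.cov ⬝ᵥ Q.vec) • P.vec = 0 := by
      have h5 := sub_eq_zero.2 hM.symm
      rw [← h5]
      module
    exact P.vec_ne ((smul_eq_zero.1 h4).resolve_left a)

/-- Let k be a field and n a natural number. In SL_{n+3}(k) (so in every dimension at least 3) the conjugates of the root subgroup of elementary transvections 1 + c E₁₂ (c ∈ k) — that is, the groups of transvections attached to an incident point–hyperplane pair — form a non-degenerate class of abstract k-root subgroups of SL_{n+3}(k) whose graph of rank one pairs is connected. -/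
theorem result (k : Type*) [Field k] (n : ℕ) :
    Cfsg.IsRootSubgroupClass {A : Subgroup (Matrix.SpecialLinearGroup (Fin (n + 3)) k) |
        ∃ g : Matrix.SpecialLinearGroup (Fin (n + 3)) k,
          A = Cfsg.conjBy (Subgroup.closure {t : Matrix.SpecialLinearGroup (Fin (n + 3)) k |
            ∃ c : k, (t : Matrix (Fin (n + 3)) (Fin (n + 3)) k) = Matrix.transvection 0 1 c}) g} ∧
    Cfsg.IsNondegenerateRootSet {A : Subgroup (Matrix.SpecialLinearGroup (Fin (n + 3)) k) |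
        ∃ g : Matrix.SpecialLinearGroup (Fin (n + 3)) k,
          A = Cfsg.conjBy (Subgroup.closure {t : Matrix.SpecialLinearGroup (Fin (n + 3)) k |
            ∃ c : k, (t : Matrix (Fin (n + 3)) (Fin (n + 3)) k) = Matrix.transvection 0 1 c}) g} ∧
    Cfsg.IsKRootSubgroupSet k {A : Subgroup (Matrix.SpecialLinearGroup (Fin (n + 3)) k) |
        ∃ g : Matrix.SpecialLinearGroup (Fin (n + 3)) k,
          A = Cfsg.conjBy (Subgroup.closure {t : Matrix.SpecialLinearGroup (Fin (n + 3)) k |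
            ∃ c : k, (t : Matrix (Fin (n + 3)) (Fin (n + 3)) k) = Matrix.transvection 0 1 c}) g} ∧
    Cfsg.IsConnectedFamily (Cfsg.FAdj {A : Subgroup (Matrix.SpecialLinearGroup (Fin (n + 3)) k) |
        ∃ g : Matrix.SpecialLinearGroup (Fin (n + 3)) k,
          A = Cfsg.conjBy (Subgroup.closure {t : Matrix.SpecialLinearGroup (Fin (n + 3)) k |
            ∃ c : k, (t : Matrix (Fin (n + 3)) (Fin (n + 3)) k) = Matrix.transvection 0 1 c}) g})
      {A : Subgroup (Matrix.SpecialLinearGroup (Fin (n + 3)) k) |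
        ∃ g : Matrix.SpecialLinearGroup (Fin (n + 3)) k,
          A = Cfsg.conjBy (Subgroup.closure {t : Matrix.SpecialLinearGroup (Fin (n + 3)) k |
            ∃ c : k, (t : Matrix (Fin (n + 3)) (Fin (n + 3)) k) = Matrix.transvection 0 1 c}) g} := by
  have h01 : (0 : Fin (n + 3)) ≠ 1 := by simp [Fin.ext_iff]
  have h02 : (0 : Fin (n + 3)) ≠ ⟨2, by omega⟩ := by simp [Fin.ext_iff]
  have h12 : (1 : Fin (n + 3)) ≠ ⟨2, by omega⟩ := by simp [Fin.ext_iff]
  set E : Incident (Fin (n + 3)) k := Incident.single 0 1 h01 with hE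
  have hbase : Subgroup.closure {t : Matrix.SpecialLinearGroup (Fin (n + 3)) k |
      ∃ c : k, (t : Matrix (Fin (n + 3)) (Fin (n + 3)) k) = Matrix.transvection 0 1 c} = E.sub := by
    refine le_antisymm ((Subgroup.closure_le _).2 ?_) fun g hg => ?_
    · rintro t ⟨c, hc⟩
      exact Incident.mem_sub.2 ⟨c, Subtype.ext ((Incident.single_tv h01 c).trans hc.symm)⟩
    · obtain ⟨c, rfl⟩ := Incident.mem_sub.1 hg
      exact Subgroup.subset_closure ⟨c, Incident.single_tv h01 c⟩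
  have hset : {A : Subgroup (Matrix.SpecialLinearGroup (Fin (n + 3)) k) |
        ∃ g : Matrix.SpecialLinearGroup (Fin (n + 3)) k,
          A = Cfsg.conjBy (Subgroup.closure {t : Matrix.SpecialLinearGroup (Fin (n + 3)) k |
            ∃ c : k, (t : Matrix (Fin (n + 3)) (Fin (n + 3)) k) = Matrix.transvection 0 1 c}) g} =
      {A | ∃ P : Incident (Fin (n + 3)) k, A = P.sub} := by
    rw [hbase]
    ext A
    constructor
    · rintro ⟨g, rfl⟩
      exact ⟨E.act g, Incident.sub_act g E⟩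
    · rintro ⟨P, rfl⟩
      obtain ⟨g, h1, h2⟩ := P.exists_act_single h01 h02 h12
      refine ⟨g⁻¹, ?_⟩
      rw [show E = P.act g from Incident.tv_congr h1.symm h2.symm, ← Incident.sub_act, conjBy_inv_conjBy]
  rw [hset]
  set S := {A : Subgroup (Matrix.SpecialLinearGroup (Fin (n + 3)) k) |
    ∃ P : Incident (Fin (n + 3)) k, A = P.sub} with hS
  have hroot : IsRootSubgroupSet S := by
    refine ⟨?_, ?_, ?_, ?_, ?_⟩
    · rintro A ⟨P, rfl⟩; exact P.sub_commutative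
    · rintro A ⟨P, rfl⟩; exact P.sub_ne_bot
    · rw [eq_top_iff, ← CfsgLib.Linear.closure_elemTransvections_eq_top, Subgroup.closure_le]
      rintro g ⟨i, j, h, c, rfl⟩
      refine Subgroup.mem_iSup_of_mem (Incident.single i j h).sub
        (Subgroup.mem_iSup_of_mem ⟨_, rfl⟩ (Incident.mem_sub.2 ⟨c, Subtype.ext ?_⟩))
      rw [Incident.single_tv]
      rfl
    · rintro A ⟨P, rfl⟩ g
      exact ⟨P.act g, Incident.sub_act g P⟩
    · rintro A ⟨P, rfl⟩ B ⟨Q, rfl⟩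
      by_cases a : P.cov ⬝ᵥ Q.vec = 0
      · by_cases b : Q.cov ⬝ᵥ P.vec = 0
        · exact Or.inl (P.sub_commute Q a b)
        · exact Or.inr (Or.inr (commutatorCase_symm (commutator_case (S := S) Q P b a ⟨_, rfl⟩).1))
      · by_cases b : Q.cov ⬝ᵥ P.vec = 0
        · exact Or.inr (Or.inr (commutator_case (S := S) P Q a b ⟨_, rfl⟩).1)
        · exact Or.inr (Or.inl (P.r1_of_general Q a b).1)
  refine ⟨⟨hroot, ⟨⟨E.sub, E, rfl⟩, ?_⟩⟩, ⟨?_, ?_, ?_⟩, ⟨hroot, ?_⟩, ?_⟩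
  · rintro A ⟨P, rfl⟩ B ⟨Q, rfl⟩
    obtain ⟨g, h1, h2⟩ := P.exists_act_single h01 h02 h12
    obtain ⟨f, h3, h4⟩ := Q.exists_act_single h01 h02 h12
    refine ⟨f⁻¹ * g, ?_⟩
    rw [← conjBy_conjBy, Incident.sub_act g P,
      show P.act g = Q.act f from Incident.tv_congr (h1.trans h3.symm) (h2.trans h4.symm),
      ← Incident.sub_act, conjBy_inv_conjBy]
  · refine ⟨_, ⟨E, rfl⟩, _, ⟨Incident.single 0 ⟨2, by omega⟩ h02, rfl⟩, fun h => ?_,
      E.sub_commute _ (by simp [hE, Incident.single, dotProduct_single, h01])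
        (by simp [hE, Incident.single, dotProduct_single, h02])⟩
    obtain ⟨c, hc⟩ := Incident.mem_sub.1 (h ▸ Incident.mem_sub.2 ⟨(1 : k), rfl⟩ :
      E.tv 1 ∈ (Incident.single (k := k) 0 ⟨2, by omega⟩ h02).sub)
    have h' := congrArg (fun g : SpecialLinearGroup (Fin (n + 3)) k =>
      (g : Matrix (Fin (n + 3)) (Fin (n + 3)) k) *ᵥ (Pi.single 1 1 : Fin (n + 3) → k)) hc
    simp only [hE, Incident.tv_val, tvMat_mulVec, Incident.single, dotProduct_single] at h'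
    simpa [h12, h01] using congrFun h' 0
  · exact ⟨_, ⟨E, rfl⟩, _, ⟨Incident.single 1 0 h01.symm, rfl⟩,
      (E.r1_of_general _ (by simp [hE, Incident.single, dotProduct_single])
        (by simp [hE, Incident.single, dotProduct_single])).1⟩
  · exact ⟨_, ⟨E, rfl⟩, _, ⟨Incident.single 1 ⟨2, by omega⟩ h12, rfl⟩,
      (commutator_case (S := S) E _ (by simp [hE, Incident.single, dotProduct_single])
        (by simp [hE, Incident.single, dotProduct_single, h02]) ⟨_, rfl⟩).1⟩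
  · rintro A ⟨P, rfl⟩ B ⟨Q, rfl⟩ hr
    by_cases a : P.cov ⬝ᵥ Q.vec = 0
    · by_cases b : Q.cov ⬝ᵥ P.vec = 0
      · exact absurd hr (not_r1_of_commute (P.sub_commute Q a b))
      · exact absurd (r1_symm hr) (commutator_case (S := S) Q P b a ⟨_, rfl⟩).2
    · by_cases b : Q.cov ⬝ᵥ P.vec = 0
      · exact absurd hr (commutator_case (S := S) P Q a b ⟨_, rfl⟩).2
      · exact (P.r1_of_general Q a b).2
  · rintro A ⟨P, rfl⟩ B ⟨Q, rfl⟩
    have two : ∀ a b : Fin (n + 3) → k, a ≠ 0 → b ≠ 0 → ∃ u, a ⬝ᵥ u ≠ 0 ∧ b ⬝ᵥ u ≠ 0 := by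
      intro a b ha hb
      obtain ⟨x, hx⟩ := exists_dot_ne_zero ha
      obtain ⟨y, hy⟩ := exists_dot_ne_zero hb
      by_cases h1 : b ⬝ᵥ x = 0
      · by_cases h2 : a ⬝ᵥ y = 0
        · exact ⟨x + y, by rw [dotProduct_add, h2, add_zero]; exact hx,
            by rw [dotProduct_add, h1, zero_add]; exact hy⟩
        · exact ⟨y, h2, hy⟩
      · exact ⟨x, hx, h1⟩
    obtain ⟨u, hu1, hu2⟩ := two P.cov Q.cov P.cov_ne Q.cov_ne
    have hu0 : u ≠ 0 := fun h => hu1 (by rw [h, dotProduct_zero])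
    have sep : ∀ (v l : Fin (n + 3) → k), v ≠ 0 → l ⬝ᵥ v = 0 → l ⬝ᵥ u ≠ 0 →
        ∃ m : Fin (n + 3) → k, m ⬝ᵥ u = 0 ∧ m ⬝ᵥ v ≠ 0 := by
      intro v l hv hlv hlu
      obtain ⟨x, hx⟩ := exists_dot_ne_zero hv
      refine ⟨(l ⬝ᵥ u) • x - (u ⬝ᵥ x) • l, ?_, ?_⟩
      · simp only [sub_dotProduct, smul_dotProduct, smul_eq_mul, dotProduct_comm x u]
        ring
      · simp only [sub_dotProduct, smul_dotProduct, smul_eq_mul, hlv, mul_zero, sub_zero]
        exact mul_ne_zero hlu (dotProduct_comm v x ▸ hx)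
    obtain ⟨m₁, h11, h12'⟩ := sep P.vec P.cov P.vec_ne P.incident hu1
    obtain ⟨m₂, h21, h22⟩ := sep Q.vec Q.cov Q.vec_ne Q.incident hu2
    obtain ⟨m, hmu, hmP, hmQ⟩ : ∃ m, m ⬝ᵥ u = 0 ∧ m ⬝ᵥ P.vec ≠ 0 ∧ m ⬝ᵥ Q.vec ≠ 0 := by
      by_cases e1 : m₁ ⬝ᵥ Q.vec = 0
      · by_cases e2 : m₂ ⬝ᵥ P.vec = 0
        · exact ⟨m₁ + m₂, by rw [add_dotProduct, h11, h21, add_zero],
            by rw [add_dotProduct, e2, add_zero]; exact h12',
            by rw [add_dotProduct, e1, zero_add]; exact h22⟩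
        · exact ⟨m₂, h21, e2, h22⟩
      · exact ⟨m₁, h11, h12', e1⟩
    have hm0 : m ≠ 0 := fun h => hmP (by rw [h, zero_dotProduct])
    let R : Incident (Fin (n + 3)) k := ⟨u, m, hu0, hm0, hmu⟩
    exact Relation.ReflTransGen.head ⟨⟨P, rfl⟩, ⟨R, rfl⟩, (P.r1_of_general R hu1 hmP).1⟩
      (Relation.ReflTransGen.single ⟨⟨R, rfl⟩, ⟨Q, rfl⟩, (R.r1_of_general Q hmQ hu2).1⟩)

end Cfsg.Agent.S5043
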