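import Cfsg.Statements.S5049
import Cfsg.Agent.Lib.RootSub.Involutions
import Cfsg.Agent.Lib.CharP.PCore

set_option autoImplicit false
open Cfsg CfsgLib.RootSub

namespace Cfsg.Agent.S5049

/-- Let G be a finite group generated by a set D of odd transpositions (root involutions with no product of order 4), Q = O₂(G), and for a ∈ D let Q_a be the commutator subgroup of Q with a. Then every member of D commuting with a centralizes Q_a; and for b ∈ D with ab of odd order greater than 1, the centralizer of ab in Q is the intersection of the centralizers of a and b in Q. -/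
theorem result {G : Type*} [Group G] [Finite G] {D : Set G} (hD : Cfsg.IsOddTranspositionSet D) {a : G} (ha : a ∈ D) :
    (∀ e ∈ Cfsg.commutingMembers D a, ∀ q ∈ ⁅Cfsg.pCore 2 G, Subgroup.zpowers a⁆, e * q = q * e) ∧
    (∀ b ∈ Cfsg.oddPartners D a,
      Cfsg.pCore 2 G ⊓ Subgroup.centralizer {a * b} = Cfsg.pCore 2 G ⊓ Subgroup.centralizer {a} ⊓ Subgroup.centralizer {b}) := by

  haveI hN : (Cfsg.pCore 2 G).Normal := CfsgLib.CharP.pCore_normal'
  have hQ : IsPGroup 2 (Cfsg.pCore 2 G) := CfsgLib.CharP.pCore_isPGroup'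
  have hcong : ∀ q ∈ Cfsg.pCore 2 G, q * a * q⁻¹ * a ∈ Cfsg.pCore 2 G := fun q hq => by
    rw [show q * a * q⁻¹ * a = q * (a * q⁻¹ * a) by group]
    refine mul_mem hq ?_
    have := hN.conj_mem _ (inv_mem hq) a
    rwa [ri_inv hD.1 ha] at this
  refine ⟨fun e he q hq => ?_, fun b hb => ?_⟩
  · have hle : ⁅Cfsg.pCore 2 G, Subgroup.zpowers a⁆ ≤ Subgroup.centralizer {e} := by
      rw [Subgroup.commutator_le]
      intro x hx y hy
      obtain ⟨n, rfl⟩ := Subgroup.mem_zpowers_iff.1 hy
      rw [Subgroup.mem_centralizer_singleton_iff]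
      rcases Int.even_or_odd' n with ⟨m, rfl | rfl⟩
      · simp [commutatorElement_def, zpow_mul, pow_two, ri_sq hD.1 ha]
      · have h1 : a ^ (2 * m + 1) = a := by simp [zpow_add, zpow_mul, pow_two, ri_sq hD.1 ha]
        rw [h1, commutatorElement_def, ri_inv hD.1 ha]
        have he1 : Commute e a := he.2
        have he2 : Commute e (x * a * x⁻¹) :=
          odd_commute_of_congr hD hQ ha (hD.1.conj_mem a ha x) he.1 he.2 (hcong x hx)
        exact (he2.mul_right he1).symm.eq
    exact (Subgroup.mem_centralizer_singleton_iff.1 (hle hq)).symm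
  · obtain ⟨hbD, hne, hodd⟩ := hb
    refine le_antisymm (fun q hq => ?_) (fun q hq => ?_)
    · rw [Subgroup.mem_inf, Subgroup.mem_centralizer_singleton_iff] at hq
      obtain ⟨hqQ, hqc⟩ := hq
      obtain ⟨t, ht⟩ : ∃ t, t = q * a * q⁻¹ * a := ⟨_, rfl⟩
      have ha' := hD.1.conj_mem a ha q
      have hb' := hD.1.conj_mem b hbD q
      have htb : t = q * b * q⁻¹ * b := by
        have h1 : q * a * q⁻¹ * (q * b * q⁻¹) = a * b := by
          calc q * a * q⁻¹ * (q * b * q⁻¹) = q * (a * b) * q⁻¹ := by group
            _ = _ := by rw [hqc, mul_inv_cancel_right]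
        have h2 : q * a * q⁻¹ = a * b * (q * b * q⁻¹)⁻¹ := eq_mul_inv_of_mul_eq h1
        rw [ri_inv hD.1 hb'] at h2
        have h3 : a * b * (q * b * q⁻¹) * a = b * (q * b * q⁻¹) := by
          rw [← h2]
          have h4 : a * (q * a * q⁻¹) = q * a * q⁻¹ * a :=
            (odd_commute_of_congr hD hQ ha ha' ha rfl (hcong q hqQ)).trans rfl
          calc q * a * q⁻¹ * a = a * (q * a * q⁻¹) := h4.symm
            _ = a * (a * b * (q * b * q⁻¹)) := by rw [h2]
            _ = (a * a) * (b * (q * b * q⁻¹)) := by group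
            _ = _ := by rw [ri_sq hD.1 ha, one_mul]
        rw [ht, h2, h3]
        refine odd_commute_of_congr hD hQ hbD hb' hbD rfl ?_
        rw [show q * b * q⁻¹ * b = q * (b * q⁻¹ * b) by group]
        refine mul_mem hqQ ?_
        have := hN.conj_mem _ (inv_mem hqQ) b
        rwa [ri_inv hD.1 hbD] at this
      have hta : Commute t a := by
        rw [ht]
        exact Commute.mul_left (odd_commute_of_congr hD hQ ha ha' ha rfl (hcong q hqQ)).symm
          (Commute.refl a)
      have htb' : Commute t b := by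
        rw [htb]
        refine Commute.mul_left (odd_commute_of_congr hD hQ hbD hb' hbD rfl ?_).symm
          (Commute.refl b)
        rw [show q * b * q⁻¹ * b = q * (b * q⁻¹ * b) by group]
        refine mul_mem hqQ ?_
        have := hN.conj_mem _ (inv_mem hqQ) b
        rwa [ri_inv hD.1 hbD] at this
      have htab : Commute t (a * b) := hta.mul_right htb'
      have ht2 : t ^ 2 = 1 := by
        rw [ht, (show Commute (q * a * q⁻¹) a from
          (odd_commute_of_congr hD hQ ha ha' ha rfl (hcong q hqQ)).symm).mul_pow, pow_two, pow_two,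
          ri_sq hD.1 ha', ri_sq hD.1 ha, one_mul]
      have e1 : q * a * q⁻¹ * b = t * (a * b) := by
        rw [ht, show q * a * q⁻¹ * a * (a * b) = q * a * q⁻¹ * (a * a) * b by group, ri_sq hD.1 ha,
          mul_one]
      have ht1 : t = 1 := by
        obtain ⟨k, hk⟩ := hodd
        have hn : (t * (a * b)) ^ (2 * k + 1) = t := by
          rw [htab.mul_pow, ← hk, pow_orderOf_eq_one, hk, mul_one, pow_succ, pow_mul, ht2, one_pow,
            one_mul]
        rcases odd_comm_or_odd hD ha' hbD with hc | hc
        · exfalso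
          have h1 : (t * (a * b)) ^ 2 = 1 := by
            rw [← e1, (show Commute _ _ from hc).mul_pow, pow_two, pow_two, ri_sq hD.1 ha',
              ri_sq hD.1 hbD, one_mul]
          rw [htab.mul_pow, ht2, one_mul] at h1
          have h2 := pow_orderOf_eq_one (a * b)
          rw [hk, pow_succ, pow_mul, h1, one_pow, one_mul] at h2
          exact ri_mul_ne_one hD.1 ha hne h2
        · rw [e1] at hc
          have hd : orderOf (t * (a * b)) ∣ 2 * (2 * k + 1) := orderOf_dvd_of_pow_eq_one (by
            rw [mul_comm 2, pow_mul, hn, ht2])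
          have hd' := Nat.Coprime.dvd_of_dvd_mul_left (Nat.coprime_two_right.2 hc) hd
          rw [← hn]
          exact orderOf_dvd_iff_pow_eq_one.1 hd'
      have conj_eq : ∀ {u : G}, u ∈ D → t = q * u * q⁻¹ * u → q * u = u * q := fun {u} hu h => by
        rw [ht1] at h
        have := eq_inv_of_mul_eq_one_left h.symm
        rw [ri_inv hD.1 hu, mul_inv_eq_iff_eq_mul] at this
        exact this
      simp only [Subgroup.mem_inf, Subgroup.mem_centralizer_singleton_iff]
      exact ⟨⟨hqQ, conj_eq ha ht⟩, conj_eq hbD htb⟩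
    · simp only [Subgroup.mem_inf, Subgroup.mem_centralizer_singleton_iff] at hq ⊢
      exact ⟨hq.1.1, (show Commute q (a * b) from Commute.mul_right hq.1.2 hq.2).eq⟩

end Cfsg.Agent.S5049
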