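import Cfsg.Statements.S5057
import Cfsg.Agent.Lib.RootSub.Involutions

set_option autoImplicit false
open Cfsg CfsgLib.RootSub

namespace Cfsg.Agent.S5057

/-- The involutions of the alternating group of degree 6 form a class of root involutions (a single conjugacy class of involutions generating the group, any two of which commute, have product of odd order, or have product of order 4 whose square is again an involution of the class), and the product of any two of them has order at most 5. -/
theorem result :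
    Cfsg.IsRootInvolutionClass {g : ↥(alternatingGroup (Fin 6)) | orderOf g = 2} ∧
    ∀ d ∈ {g : ↥(alternatingGroup (Fin 6)) | orderOf g = 2}, ∀ e ∈ {g : ↥(alternatingGroup (Fin 6)) | orderOf g = 2},
      orderOf (d * e) ≤ 5 := by
  haveI hsimple : IsSimpleGroup (alternatingGroup (Fin 6)) := alternatingGroup.isSimpleGroup (by simp)
  set D : Set ↥(alternatingGroup (Fin 6)) := {g | orderOf g = 2} with hDdef
  have hcases : ∀ g : ↥(alternatingGroup (Fin 6)),
      orderOf g ≤ 5 ∧ (orderOf g = 2 → (g : Equiv.Perm (Fin 6)).cycleType = {2, 2}) := by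
    intro g
    rw [← Subgroup.orderOf_coe]
    have hs : Equiv.Perm.sign (g : Equiv.Perm (Fin 6)) = 1 := Equiv.Perm.mem_alternatingGroup.1 g.2
    rw [Equiv.Perm.sign_of_cycleType] at hs
    have hsum := Equiv.Perm.sum_cycleType_le (g : Equiv.Perm (Fin 6))
    rw [Fintype.card_fin] at hsum
    have h2 : ∀ n ∈ (g : Equiv.Perm (Fin 6)).cycleType, 2 ≤ n := fun n hn =>
      Equiv.Perm.two_le_of_mem_cycleType hn
    rw [← Equiv.Perm.lcm_cycleType]
    revert hs hsum h2
    generalize (g : Equiv.Perm (Fin 6)).cycleType = m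
    refine Quotient.inductionOn m ?_
    intro l hs hsum h2
    rcases l with _ | ⟨x, _ | ⟨y, _ | ⟨z, _ | ⟨w, t⟩⟩⟩⟩ <;>
      simp [Multiset.quot_mk_to_coe, ← Multiset.cons_coe] at hs hsum h2 ⊢
    · obtain ⟨n1, n2⟩ : 2 ≤ x ∧ x ≤ 6 := by omega
      interval_cases x <;> simp_all (config := {decide := true})
    · obtain ⟨n1, n2, n3, n4⟩ : 2 ≤ x ∧ x ≤ 4 ∧ 2 ≤ y ∧ y ≤ 4 := by omega
      interval_cases x <;> interval_cases y <;> simp_all (config := {decide := true})
    · obtain ⟨rfl, rfl, rfl⟩ : x = 2 ∧ y = 2 ∧ z = 2 := by omega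
      simp_all (config := {decide := true})
    · omega
  have hconj : ∀ a ∈ D, ∀ b ∈ D, ∃ g : ↥(alternatingGroup (Fin 6)), b = g * a * g⁻¹ := by
    let d0 : Equiv.Perm (Fin 6) := Equiv.swap 0 1 * Equiv.swap 2 3
    let s : Equiv.Perm (Fin 6) := Equiv.swap 0 1
    have hsd : s * d0 * s⁻¹ = d0 := by decide
    have hd0 : d0 ∈ alternatingGroup (Fin 6) := Equiv.Perm.mem_alternatingGroup.2 (by decide)
    have h1 : ∀ b ∈ D, ∃ g : ↥(alternatingGroup (Fin 6)), b = g * ⟨d0, hd0⟩ * g⁻¹ := by
      intro b hb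
      have hd2 : orderOf (⟨d0, hd0⟩ : ↥(alternatingGroup (Fin 6))) = 2 :=
        orderOf_eq_prime (Subtype.ext (by show d0 ^ 2 = 1; decide)) (fun h => absurd (congrArg Subtype.val h) (by show ¬ d0 = 1; decide))
      have hc : IsConj d0 (b : Equiv.Perm (Fin 6)) := by
        rw [Equiv.Perm.isConj_iff_cycleType_eq, (hcases b).2 hb]
        exact (hcases ⟨d0, hd0⟩).2 hd2
      obtain ⟨c, hc⟩ := isConj_iff.1 hc
      rcases Int.units_eq_one_or (Equiv.Perm.sign c) with h | h
      · exact ⟨⟨c, Equiv.Perm.mem_alternatingGroup.2 h⟩, Subtype.ext hc.symm⟩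
      · refine ⟨⟨c * s, Equiv.Perm.mem_alternatingGroup.2 (by simp [map_mul, h, s])⟩, Subtype.ext ?_⟩
        show (b : Equiv.Perm (Fin 6)) = c * s * d0 * (c * s)⁻¹
        rw [← hc]
        conv_lhs => rw [← hsd]
        group
    intro a ha b hb
    obtain ⟨g, rfl⟩ := h1 a ha
    obtain ⟨h, rfl⟩ := h1 b hb
    exact ⟨h * g⁻¹, by group⟩
  have hne : D.Nonempty := by
    obtain ⟨d, hd⟩ : ∃ d : ↥(alternatingGroup (Fin 6)), orderOf d = 2 := by
      refine ⟨⟨Equiv.swap 0 1 * Equiv.swap 2 3, Equiv.Perm.mem_alternatingGroup.2 (by decide)⟩, ?_⟩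
      exact orderOf_eq_prime (Subtype.ext (by decide)) (fun h => absurd (congrArg Subtype.val h) (by decide))
    exact ⟨d, hd⟩
  have hcm : ∀ d ∈ D, ∀ g : ↥(alternatingGroup (Fin 6)), g * d * g⁻¹ ∈ D := fun d hd g => by
    show orderOf (MulAut.conj g d) = 2
    rw [MulEquiv.orderOf_eq]
    exact hd
  refine ⟨⟨⟨fun d hd => hd, ?_, hcm, ?_⟩, hne, hconj⟩, fun d _ e _ => (hcases (d * e)).1⟩
  · obtain ⟨d, hd⟩ := hne
    refine (hsimple.eq_bot_or_eq_top_of_normal _ ?_).resolve_left ?_
    · constructor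
      intro x hx g
      induction hx using Subgroup.closure_induction with
      | mem y hy => exact Subgroup.subset_closure (hcm y hy g)
      | one => simp
      | mul y z _ _ hy hz =>
        rw [show g * (y * z) * g⁻¹ = g * y * g⁻¹ * (g * z * g⁻¹) by group]
        exact mul_mem hy hz
      | inv y _ hy =>
        rw [show g * y⁻¹ * g⁻¹ = (g * y * g⁻¹)⁻¹ by group]
        exact inv_mem hy
    · intro h
      have : d ∈ Subgroup.closure D := Subgroup.subset_closure hd
      rw [h, Subgroup.mem_bot] at this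
      rw [hDdef, Set.mem_setOf_eq, this, orderOf_one] at hd
      exact absurd hd (by norm_num)
  · intro a ha b hb
    have h5 := (hcases (a * b)).1
    have hpos := orderOf_pos (a * b)
    have hcomm : (a * b) ^ 2 = 1 → a * b = b * a := by
      intro h
      have ha' : a⁻¹ = a := inv_eq_of_mul_eq_one_left (by
        rw [← pow_two, ← (show orderOf a = 2 from ha), pow_orderOf_eq_one])
      have hb' : b⁻¹ = b := inv_eq_of_mul_eq_one_left (by
        rw [← pow_two, ← (show orderOf b = 2 from hb), pow_orderOf_eq_one])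
      have := eq_inv_of_mul_eq_one_left (pow_two (a * b) ▸ h)
      rwa [mul_inv_rev, ha', hb'] at this
    obtain h | h | h | h | h : orderOf (a * b) = 1 ∨ orderOf (a * b) = 2 ∨ orderOf (a * b) = 3 ∨
        orderOf (a * b) = 4 ∨ orderOf (a * b) = 5 := by omega
    · exact Or.inr (Or.inl (by rw [h]; decide))
    · exact Or.inl (hcomm (by rw [← h, pow_orderOf_eq_one]))
    · exact Or.inr (Or.inl (by rw [h]; decide))
    · refine Or.inr (Or.inr ⟨h, ?_⟩)
      show orderOf ((a * b) ^ 2) = 2
      rw [orderOf_pow' (a * b) (by norm_num), h]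
      decide
    · exact Or.inr (Or.inl (by rw [h]; decide))

end Cfsg.Agent.S5057
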