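import Cfsg.Statements.S5058
import Cfsg.Agent.Lib.RootSub.IncidentPairs

set_option autoImplicit false
open Cfsg

namespace Cfsg.Agent.S5058

open Matrix CfsgLib.RootSub

variable {N : Type*} [Fintype N] [DecidableEq N] {F : Type*} [Field F]

/-- Scaling the vector of an incident pair. -/
def scale (P : Incident N F) (c : F) (hc : c ≠ 0) : Incident N F :=
  ⟨c • P.vec, P.cov, smul_ne_zero hc P.vec_ne, P.cov_ne, by rw [dotProduct_smul, P.incident, smul_zero]⟩

theorem scale_tv (P : Incident N F) (c : F) (hc : c ≠ 0) : (scale P c hc).tv 1 = P.tv c := by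
  apply Subtype.ext
  refine mat_ext fun x => ?_
  simp only [Incident.tv_val, tvMat_mulVec, scale]
  module

variable [CharP F 2]

theorem tv_sq (P : Incident N F) (c : F) : P.tv c * P.tv c = 1 := by
  rw [P.tv_add, CharTwo.add_self_eq_zero, P.tv_zero]

theorem tv_orderOf (P : Incident N F) : orderOf (P.tv (1 : F)) = 2 :=
  orderOf_eq_prime (p := 2) (by rw [pow_two]; exact tv_sq P 1) (P.tv_ne_one one_ne_zero)

/-- The product of an upper and a lower elementary matrix. -/
def X (s : F) : SpecialLinearGroup (Fin 2) F := slU 1 * slL s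

theorem X_val (s : F) : (X s : Matrix (Fin 2) (Fin 2) F) = !![1 + s, 1; s, 1] := by
  show (slU 1 : SpecialLinearGroup (Fin 2) F).1 * (slL s).1 = _
  simp [slU_val, slL_val, Matrix.mul_fin_two]

theorem X_pow (s : F) (m : ℕ) : ∃ α β : F,
    ((X s ^ m : SpecialLinearGroup (Fin 2) F) : Matrix (Fin 2) (Fin 2) F) =
      !![α + β * (1 + s), β; β * s, α + β] := by
  induction m with
  | zero => exact ⟨1, 0, by simp [Matrix.one_fin_two]⟩
  | succ m ih =>
    obtain ⟨α, β, h⟩ := ih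
    refine ⟨β, α + β * s, ?_⟩
    rw [pow_succ]
    show (X s ^ m : SpecialLinearGroup (Fin 2) F).1 * (X s).1 = _
    rw [h, X_val, Matrix.mul_fin_two]
    have h2 : (2 : F) = 0 := CharTwo.two_eq_zero
    ext i j
    fin_cases i <;> fin_cases j <;> simp
    all_goals first
      | ring1
      | linear_combination β * h2
      | linear_combination -β * h2
      | linear_combination (β * s) * h2
      | linear_combination -(β * s) * h2

theorem X_odd [Finite F] {s : F} (hs : s ≠ 0) : Odd (orderOf (X s)) := by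
  rw [← Nat.not_even_iff_odd]
  intro he
  obtain ⟨m, hm⟩ := he
  have hpos := orderOf_pos (X s)
  have hY : X s ^ m * X s ^ m = 1 := by rw [← pow_add, ← hm, pow_orderOf_eq_one]
  obtain ⟨α, β, h⟩ := X_pow s m
  have hY' : !![α + β * (1 + s), β; β * s, α + β] * !![α + β * (1 + s), β; β * s, α + β] =
      (1 : Matrix (Fin 2) (Fin 2) F) := by
    rw [← h]
    exact congrArg Subtype.val hY
  have h2 : (2 : F) = 0 := CharTwo.two_eq_zero
  rw [Matrix.mul_fin_two, Matrix.one_fin_two] at hY'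
  have h01 := congrFun (congrFun hY' 0) 1
  have h11 := congrFun (congrFun hY' 1) 1
  simp at h01 h11
  have hb : β = 0 := by
    have : β ^ 2 * s = 0 := by linear_combination h01 - (β * α + β ^ 2) * h2
    simpa [hs] using this
  subst hb
  have ha : α = 1 := by
    have : (α - 1) ^ 2 = 0 := by linear_combination h11 + (1 - α) * h2
    exact sub_eq_zero.1 (pow_eq_zero_iff (n := 2) (by norm_num) |>.1 this)
  refine pow_ne_one_of_lt_orderOf (by omega : m ≠ 0) (by omega : m < orderOf (X s)) ?_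
  apply Subtype.ext
  rw [h, ha]
  simp [Matrix.one_fin_two]

theorem X_one_cube : X (1 : F) ^ 3 = 1 := by
  apply Subtype.ext
  rw [pow_succ, pow_two]
  show (X (1 : F)).1 * (X 1).1 * (X 1).1 = 1
  have h2 : (2 : F) = 0 := CharTwo.two_eq_zero
  rw [X_val, Matrix.mul_fin_two, Matrix.mul_fin_two, Matrix.one_fin_two]
  ext i j
  fin_cases i <;> fin_cases j <;> simp [one_add_one_eq_two, h2]

variable [Finite F]

/-- Two general pairs. -/
theorem general_product (P Q : Incident N F) (a : P.cov ⬝ᵥ Q.vec ≠ 0) (b : Q.cov ⬝ᵥ P.vec ≠ 0) :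
    Odd (orderOf (P.tv 1 * Q.tv 1)) ∧ (Nat.card F = 2 → orderOf (P.tv 1 * Q.tv 1) ∣ 3) := by
  have h : P.tv 1 * Q.tv 1 = P.planeHom Q a b (X ((P.cov ⬝ᵥ Q.vec) * (Q.cov ⬝ᵥ P.vec))) := by
    rw [X, map_mul, P.planeHom_slU, P.planeHom_slL]
    congr 2
    field_simp
  rw [h, orderOf_injective _ (P.planeHom_injective Q a b)]
  refine ⟨X_odd (mul_ne_zero a b), fun h2 => ?_⟩
  have h1 : ∀ x : F, x ≠ 0 → x = 1 := by
    intro x hx
    obtain ⟨y, hy, huniq⟩ := (Nat.card_eq_two_iff' (0 : F)).1 h2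
    exact (huniq x hx).trans (huniq 1 one_ne_zero).symm
  rw [h1 _ (mul_ne_zero a b)]
  exact orderOf_dvd_of_pow_eq_one X_one_cube

/-- Two pairs with one incidence. -/
theorem four_product (P Q : Incident N F) (a : P.cov ⬝ᵥ Q.vec ≠ 0) (b : Q.cov ⬝ᵥ P.vec = 0) :
    orderOf (P.tv 1 * Q.tv 1) = 4 ∧ ∃ R : Incident N F, (P.tv 1 * Q.tv 1) ^ 2 = R.tv 1 := by
  have hinv : ∀ R : Incident N F, (R.tv 1)⁻¹ = R.tv 1 := fun R => inv_eq_of_mul_eq_one_left (tv_sq R 1)
  have hsq : (P.tv 1 * Q.tv 1) ^ 2 = (P.meet Q b).tv (P.cov ⬝ᵥ Q.vec) := by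
    have := P.tv_commutator Q b 1 1
    rw [hinv, hinv, one_mul, one_mul] at this
    rw [pow_two, ← mul_assoc]
    exact this
  refine ⟨orderOf_eq_prime_pow (p := 2) (n := 1) ?_ ?_, scale _ _ a, by rw [scale_tv]; exact hsq⟩
  · rw [pow_one, hsq]
    exact (P.meet Q b).tv_ne_one a
  · rw [show (2 : ℕ) ^ (1 + 1) = 2 * 2 by norm_num, pow_mul, hsq, pow_two]
    exact tv_sq _ _

theorem pair_product (P Q : Incident N F) :
    P.tv 1 * Q.tv 1 = Q.tv 1 * P.tv 1 ∨
    (Odd (orderOf (P.tv 1 * Q.tv 1)) ∧ (Nat.card F = 2 → orderOf (P.tv 1 * Q.tv 1) ∣ 3)) ∨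
    (orderOf (P.tv 1 * Q.tv 1) = 4 ∧ ∃ R : Incident N F, (P.tv 1 * Q.tv 1) ^ 2 = R.tv 1) := by
  by_cases a : P.cov ⬝ᵥ Q.vec = 0
  · by_cases b : Q.cov ⬝ᵥ P.vec = 0
    · exact Or.inl (P.tv_commute Q a b 1 1)
    · obtain ⟨h4, R, hR⟩ := four_product Q P b a
      have hinv : ∀ R : Incident N F, (R.tv 1)⁻¹ = R.tv 1 := fun R =>
        inv_eq_of_mul_eq_one_left (tv_sq R 1)
      have he : P.tv 1 * Q.tv 1 = (Q.tv 1 * P.tv 1)⁻¹ := by
        rw [_root_.mul_inv_rev, hinv, hinv]
      refine Or.inr (Or.inr ⟨by rw [he, orderOf_inv, h4], R, ?_⟩)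
      rw [he, inv_pow, hR, hinv]
  · by_cases b : Q.cov ⬝ᵥ P.vec = 0
    · exact Or.inr (Or.inr (four_product P Q a b))
    · exact Or.inr (Or.inl (general_product P Q a b))

/-- Let F be a finite field of characteristic 2 and n a natural number. Then the transvections of SL_{n+3}(F) (so in every dimension at least 3) (the conjugates of the elementary matrices 1 + c E₁₂, c ≠ 0) form a class of root involutions of SL_{n+3}(F); when F has two elements they form a class of {3,4}⁺-transpositions (every product of odd order has order 1 or 3). -/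
theorem result (F : Type*) [Field F] [Fintype F] [CharP F 2] (n : ℕ) :
    Cfsg.IsRootInvolutionClass {t : Matrix.SpecialLinearGroup (Fin (n + 3)) F | ∃ c : F, c ≠ 0 ∧
        ∃ g : Matrix.SpecialLinearGroup (Fin (n + 3)) F, ((g⁻¹ * t * g : Matrix.SpecialLinearGroup (Fin (n + 3)) F) :
          Matrix (Fin (n + 3)) (Fin (n + 3)) F) = Matrix.transvection 0 1 c} ∧
    (Fintype.card F = 2 → Cfsg.IsThreeFourPlusTranspositionSet {t : Matrix.SpecialLinearGroup (Fin (n + 3)) F | ∃ c : F, c ≠ 0 ∧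
        ∃ g : Matrix.SpecialLinearGroup (Fin (n + 3)) F, ((g⁻¹ * t * g : Matrix.SpecialLinearGroup (Fin (n + 3)) F) :
          Matrix (Fin (n + 3)) (Fin (n + 3)) F) = Matrix.transvection 0 1 c}) := by
  have h01 : (0 : Fin (n + 3)) ≠ 1 := by simp
  have h02 : (0 : Fin (n + 3)) ≠ ⟨2, by omega⟩ := by simp [Fin.ext_iff]
  have h12 : (1 : Fin (n + 3)) ≠ ⟨2, by omega⟩ := by simp [Fin.ext_iff]
  set E : Incident (Fin (n + 3)) F := Incident.single 0 1 h01 with hE
  have hset : {t : Matrix.SpecialLinearGroup (Fin (n + 3)) F | ∃ c : F, c ≠ 0 ∧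
        ∃ g : Matrix.SpecialLinearGroup (Fin (n + 3)) F, ((g⁻¹ * t * g : Matrix.SpecialLinearGroup (Fin (n + 3)) F) :
          Matrix (Fin (n + 3)) (Fin (n + 3)) F) = Matrix.transvection 0 1 c} =
      {t | ∃ P : Incident (Fin (n + 3)) F, t = P.tv 1} := by
    ext t
    constructor
    · rintro ⟨c, hc, g, hg⟩
      refine ⟨(scale E c hc).act g, ?_⟩
      rw [← Incident.tv_act, scale_tv,
        show E.tv c = g⁻¹ * t * g from Subtype.ext ((Incident.single_tv h01 c).trans hg.symm)]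
      group
    · rintro ⟨P, rfl⟩
      obtain ⟨g, h1, h2⟩ := P.exists_act_single h01 h02 h12
      refine ⟨1, one_ne_zero, g⁻¹, ?_⟩
      rw [inv_inv, Incident.tv_act, show P.act g = E from Incident.tv_congr h1 h2, hE]
      exact Incident.single_tv h01 1
  rw [hset]
  have hroot : IsRootInvolutionSet {t : Matrix.SpecialLinearGroup (Fin (n + 3)) F |
      ∃ P : Incident (Fin (n + 3)) F, t = P.tv 1} := by
    refine ⟨?_, ?_, ?_, ?_⟩
    · rintro d ⟨P, rfl⟩; exact tv_orderOf P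
    · rw [eq_top_iff, ← CfsgLib.Linear.closure_elemTransvections_eq_top, Subgroup.closure_le]
      rintro g ⟨i, j, h, c, rfl⟩
      have he : SpecialLinearGroup.transvection h c = (Incident.single (k := F) i j h).tv c :=
        Subtype.ext (Incident.single_tv h c).symm
      rw [he]
      by_cases hc : c = 0
      · rw [hc, Incident.tv_zero]
        exact one_mem _
      · exact Subgroup.subset_closure ⟨scale _ c hc, (scale_tv _ c hc).symm⟩
    · rintro d ⟨P, rfl⟩ g
      exact ⟨P.act g, Incident.tv_act g P 1⟩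
    · rintro a ⟨P, rfl⟩ b ⟨Q, rfl⟩
      rcases pair_product P Q with h | ⟨h, -⟩ | ⟨h, R, hR⟩
      · exact Or.inl h
      · exact Or.inr (Or.inl h)
      · exact Or.inr (Or.inr ⟨h, R, hR⟩)
  refine ⟨⟨hroot, ⟨E.tv 1, E, rfl⟩, ?_⟩, fun h2 => ⟨hroot, ?_⟩⟩
  · rintro a ⟨P, rfl⟩ b ⟨Q, rfl⟩
    obtain ⟨g, h1, h2⟩ := P.exists_act_single h01 h02 h12
    obtain ⟨f, h3, h4⟩ := Q.exists_act_single h01 h02 h12
    refine ⟨f⁻¹ * g, ?_⟩
    calc Q.tv 1 = f⁻¹ * (f * Q.tv 1 * f⁻¹) * f := by group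
      _ = f⁻¹ * (g * P.tv 1 * g⁻¹) * f := by
        rw [Incident.tv_act, Incident.tv_act,
          show P.act g = Q.act f from Incident.tv_congr (h1.trans h3.symm) (h2.trans h4.symm)]
      _ = _ := by group
  · rintro a ⟨P, rfl⟩ b ⟨Q, rfl⟩ hodd
    have key : ∀ d, d ∣ 3 → d = 1 ∨ d = 3 := fun d hd => (Nat.dvd_prime Nat.prime_three).1 hd
    rcases pair_product P Q with h | ⟨-, h⟩ | ⟨h, -⟩
    · refine Or.inl ?_
      have hsq : (P.tv 1 * Q.tv 1) ^ 2 = 1 := by
        rw [(show Commute (P.tv 1) (Q.tv 1) from h).mul_pow, pow_two, pow_two, tv_sq, tv_sq, one_mul]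
      rcases (Nat.dvd_prime Nat.prime_two).1 (orderOf_dvd_of_pow_eq_one hsq) with h' | h'
      · exact h'
      · rw [h'] at hodd
        exact absurd hodd (by decide)
    · exact key _ (h (by rw [Nat.card_eq_fintype_card, h2]))
    · rw [h] at hodd
      exact absurd hodd (by decide)

end Cfsg.Agent.S5058
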