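import Cfsg.Statements.S5059
import Cfsg.Agent.Lib.RootSub.QuadraticBasic

set_option autoImplicit false
universe u
open Cfsg CfsgLib.RootSub

namespace Cfsg.Agent.S5059

/-- Let k be a field of characteristic not 2 with k not of order 3, M a finite-dimensional k-vector space and G ≤ GL(M) such that (G, M) is a quadratic pair (M irreducible for G, and G generated by its quadratically acting elements σ whose scalar family 1 + c(σ − 1), c ∈ k, lies in G). Write 𝒬_d for the quadratic elements of G of minimal commutator rank, E(σ) for the subgroup generated by the members of 𝒬_d with the same fixed space and commutator space as σ, and Σ for the set of these subgroups. Then for σ ∈ 𝒬_d the subgroup E(σ) consists exactly of those members together with the identity, it is abelian, and if k has prime characteristic p every element of E(σ) has order dividing p. -/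
theorem result {k : Type u} [Field k] (hk2 : ringChar k ≠ 2) (hk3 : Nat.card k ≠ 3)
    {M : Type u} [AddCommGroup M] [Module k M] [FiniteDimensional k M]
    {G : Subgroup (LinearMap.GeneralLinearGroup k M)} (hG : Cfsg.IsQuadraticPair G)
    {σ : LinearMap.GeneralLinearGroup k M} (hσ : σ ∈ Cfsg.minimalQuadraticElements G) :
    (Cfsg.sameActionSubgroup G σ : Set (LinearMap.GeneralLinearGroup k M)) = Cfsg.sameActionClass G σ ∪ {1} ∧
    IsMulCommutative ↥(Cfsg.sameActionSubgroup G σ) ∧
    (∀ p : ℕ, p.Prime → ringChar k = p → ∀ x ∈ Cfsg.sameActionSubgroup G σ, x ^ p = 1) := by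
  have heq := sameActionSubgroup_eq G σ
  have hprod : ∀ x ∈ sameActionSubgroup G σ, ∀ y ∈ sameActionSubgroup G σ, qmove x * qmove y = 0 := by
    intro x hx y hy
    have hx' : x ∈ sameActionClass G σ ∪ {1} := heq ▸ hx
    have hy' : y ∈ sameActionClass G σ ∪ {1} := heq ▸ hy
    rcases hx' with hx' | rfl
    · rcases hy' with hy' | rfl
      · exact sameActionClass_qmove_mul hx' hy'
      · rw [qmove_one, mul_zero]
    · rw [qmove_one, zero_mul]
  refine ⟨heq, ⟨⟨fun x y => Subtype.ext (qmove_injective ?_)⟩⟩, fun p hp hchar x hx => ?_⟩
  · show qmove (x.1 * y.1) = qmove (y.1 * x.1)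
    rw [qmove_mul_of_mul_eq_zero (hprod _ x.2 _ y.2), qmove_mul_of_mul_eq_zero (hprod _ y.2 _ x.2),
      add_comm]
  · have hpow : ∀ n : ℕ, qmove (x ^ n) = (n : k) • qmove x := by
      intro n
      induction n with
      | zero => simp [qmove_one]
      | succ n ih =>
        rw [pow_succ, qmove_mul, ih, smul_mul_assoc, hprod x hx x hx, smul_zero, add_zero,
          Nat.cast_succ, add_smul, one_smul]
    refine qmove_injective ?_
    rw [hpow, qmove_one, ← hchar, ringChar.Nat.cast_ringChar, zero_smul]

end Cfsg.Agent.S5059
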