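import Cfsg.Statements.S5060
import Cfsg.Agent.Lib.RootSub.SL2GenSimple
import Cfsg.Agent.Lib.RootSub.SL2GenFinite
import Cfsg.Agent.Lib.Linear.DicksonSL

set_option autoImplicit false
open Cfsg CfsgLib.RootSub

namespace Cfsg.Agent.S5060

/-- Let k ⊆ K be fields with the characteristic of k not 2 and k not of order 3, and let α ∈ K be a non-zero element algebraic over k. Then the subgroup of SL₂(K) generated by the upper unitriangular matrices with entry c and the lower unitriangular matrices with entry cα, c ranging over k, is exactly the group of matrices of SL₂(K) with all entries in k(α). -/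
theorem result {k K : Type*} [Field k] [Field K] [Algebra k K] (hk2 : ringChar k ≠ 2) (hk3 : Nat.card k ≠ 3)
    (α : K) (hα : IsAlgebraic k α) (hα0 : α ≠ 0) :
    (Subgroup.closure ({g : Matrix.SpecialLinearGroup (Fin 2) K | ∃ c : k, (g : Matrix (Fin 2) (Fin 2) K) = !![1, algebraMap k K c; 0, 1]} ∪
        {g : Matrix.SpecialLinearGroup (Fin 2) K | ∃ c : k, (g : Matrix (Fin 2) (Fin 2) K) = !![1, 0; algebraMap k K c * α, 1]}) :
      Set (Matrix.SpecialLinearGroup (Fin 2) K)) =
    {g : Matrix.SpecialLinearGroup (Fin 2) K | ∀ i j : Fin 2, (g : Matrix (Fin 2) (Fin 2) K) i j ∈ IntermediateField.adjoin k ({α} : Set K)} := by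
  classical
  haveI hdim : FiniteDimensional k (IntermediateField.adjoin k ({α} : Set K)) :=
    IntermediateField.adjoin.finiteDimensional hα.isIntegral
  let pb := IntermediateField.adjoin.powerBasis hα.isIntegral
  let L := IntermediateField.adjoin k ({α} : Set K)
  have h2k : (2 : k) ≠ 0 := Ring.two_ne_zero hk2
  let f := Matrix.SpecialLinearGroup.map (n := Fin 2) (algebraMap L K)
  obtain ⟨H0, hH0⟩ : ∃ H0, H0 = Subgroup.closure ({g : Matrix.SpecialLinearGroup (Fin 2) K | ∃ c : k, (g : Matrix (Fin 2) (Fin 2) K) = !![1, algebraMap k K c; 0, 1]} ∪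
        {g : Matrix.SpecialLinearGroup (Fin 2) K | ∃ c : k, (g : Matrix (Fin 2) (Fin 2) K) = !![1, 0; algebraMap k K c * α, 1]}) := ⟨_, rfl⟩
  rw [← hH0]
  have hgen : pb.gen ≠ 0 := fun h => hα0 (by simpa [pb] using congrArg Subtype.val h)
  have hU : ∀ c : k, slU (algebraMap k L c) ∈ H0.comap f := fun c => by
    rw [Subgroup.mem_comap, hH0]
    refine Subgroup.subset_closure (Or.inl ⟨c, ?_⟩)
    ext i j
    fin_cases i <;> fin_cases j <;> simp [f, slU_val, ← IsScalarTower.algebraMap_apply]
  have hL : ∀ c : k, slL (algebraMap k L c * pb.gen) ∈ H0.comap f := fun c => by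
    rw [Subgroup.mem_comap, hH0]
    refine Subgroup.subset_closure (Or.inr ⟨c, ?_⟩)
    ext i j
    fin_cases i <;> fin_cases j <;> simp [f, pb, slL_val, ← IsScalarTower.algebraMap_apply]
  have htop : H0.comap f = ⊤ := by
    rcases finite_or_infinite k with hk | hk
    · haveI := hk
      haveI : Finite L := Module.finite_of_finite k
      -- exchange the roles of the two root groups by a dilation
      let D : Matrix.SpecialLinearGroup (Fin 2) L ≃* Matrix.SpecialLinearGroup (Fin 2) L :=
        CfsgLib.Linear.Dickson.dilate (Units.mk0 pb.gen hgen)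
      have hDU : ∀ x : L, D (slU (x * pb.gen)) = slU x := fun x => by
        apply Subtype.ext
        ext i j
        fin_cases i <;> fin_cases j <;>
          simp [D, CfsgLib.Linear.Dickson.dilate, CfsgLib.SL2Trace.coe_mk2, slU_val, hgen]
      have hDL : ∀ x : L, D (slL x) = slL (x * pb.gen) := fun x => by
        apply Subtype.ext
        ext i j
        fin_cases i <;> fin_cases j <;>
          simp [D, CfsgLib.Linear.Dickson.dilate, CfsgLib.SL2Trace.coe_mk2, slL_val]
      have h1 : (H0.comap f).comap D.toMonoidHom = ⊤ := by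
        refine sl2_gen_finite_aux (k := k) (Ring.two_ne_zero ?_) hk3 hgen
          pb.adjoin_gen_eq_top _ (fun c => ?_) (fun c => ?_)
        · rw [← Algebra.ringChar_eq k L]; exact hk2
        · show D _ ∈ H0.comap f
          rw [hDU]; exact hU c
        · show D _ ∈ H0.comap f
          rw [hDL]; exact hL c
      rw [eq_top_iff]
      intro x _
      obtain ⟨y, rfl⟩ := D.surjective x
      have : y ∈ (H0.comap f).comap D.toMonoidHom := h1 ▸ Subgroup.mem_top y
      exact this
    · exact sl2_gen_infinite h2k pb hgen hU hL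
  apply Set.Subset.antisymm
  · intro g hg
    have hg' : g ∈ f.range := by
      rw [hH0] at hg
      refine (Subgroup.closure_le _).2 ?_ hg
      rintro x (⟨c, hx⟩ | ⟨c, hx⟩)
      · refine ⟨slU (algebraMap k L c), ?_⟩
        apply Subtype.ext
        rw [hx]
        ext i j
        fin_cases i <;> fin_cases j <;> simp [f, slU_val, ← IsScalarTower.algebraMap_apply]
      · refine ⟨slL (algebraMap k L c * pb.gen), ?_⟩
        apply Subtype.ext
        rw [hx]
        ext i j
        fin_cases i <;> fin_cases j <;> simp [f, pb, slL_val, ← IsScalarTower.algebraMap_apply]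
    obtain ⟨x, rfl⟩ := hg'
    intro i j
    exact ((x : Matrix (Fin 2) (Fin 2) L) i j).2
  · intro g hg
    let x : Matrix.SpecialLinearGroup (Fin 2) L :=
      ⟨Matrix.of fun i j => (⟨(g : Matrix (Fin 2) (Fin 2) K) i j, hg i j⟩ : L), by
        apply Subtype.ext
        have := g.2
        simp only [Matrix.det_fin_two] at this ⊢
        simpa using this⟩
    have : f x = g := Subtype.ext (by ext i j; rfl)
    rw [← this]
    have hx : x ∈ H0.comap f := htop ▸ Subgroup.mem_top x
    exact hx

end Cfsg.Agent.S5060
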