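import Cfsg.Statements.S5065
import Cfsg.Agent.Lib.RootSub.QPModel
import Cfsg.Agent.Lib.RootSub.QPCore

set_option autoImplicit false
universe u
open Cfsg CfsgLib.RootSub

namespace Cfsg.Agent.S5065

/-- Let k be a field of characteristic not 2 with k not of order 3, M a finite-dimensional k-vector space and G ≤ GL(M) such that (G, M) is a quadratic pair (M irreducible for G, and G generated by its quadratically acting elements σ whose scalar family 1 + c(σ − 1), c ∈ k, lies in G). Write 𝒬_d for the quadratic elements of G of minimal commutator rank, E(σ) for the subgroup generated by the members of 𝒬_d with the same fixed space and commutator space as σ, and Σ for the set of these subgroups. For σ, τ ∈ 𝒬_d put A = E(σ), B = E(τ) and X = ⟨A, B⟩. Then either X acts unipotently on M, or A and B are the unipotent subgroups of a special rank one group X; in the latter case X contains exactly one central involution acting as −1 on the commutator space [M, X] and trivially on the fixed space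 C_M(X), and M is the direct sum of C_M(X) and [M, X]. -/
theorem result {k : Type u} [Field k] (hk2 : ringChar k ≠ 2) (hk3 : Nat.card k ≠ 3)
    {M : Type u} [AddCommGroup M] [Module k M] [FiniteDimensional k M]
    {G : Subgroup (LinearMap.GeneralLinearGroup k M)} (hG : Cfsg.IsQuadraticPair G)
    {σ τ : LinearMap.GeneralLinearGroup k M} (hσ : σ ∈ Cfsg.minimalQuadraticElements G) (hτ : τ ∈ Cfsg.minimalQuadraticElements G) :
    Cfsg.IsUnipotentOn (Cfsg.sameActionSubgroup G σ ⊔ Cfsg.sameActionSubgroup G τ) ∨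
    (Cfsg.IsSpecialRankOnePair (Cfsg.sameActionSubgroup G σ) (Cfsg.sameActionSubgroup G τ) ∧
      (∃! i : LinearMap.GeneralLinearGroup k M, i ∈ Cfsg.sameActionSubgroup G σ ⊔ Cfsg.sameActionSubgroup G τ ∧ i ≠ 1 ∧ i * i = 1 ∧
        (∀ x ∈ Cfsg.sameActionSubgroup G σ ⊔ Cfsg.sameActionSubgroup G τ, i * x = x * i) ∧
        (∀ m ∈ Cfsg.commutatorSubmodule (Cfsg.sameActionSubgroup G σ ⊔ Cfsg.sameActionSubgroup G τ), (i : M →ₗ[k] M) m = -m) ∧
        (∀ m ∈ Cfsg.fixedSubmodule (Cfsg.sameActionSubgroup G σ ⊔ Cfsg.sameActionSubgroup G τ), (i : M →ₗ[k] M) m = m)) ∧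
      IsCompl (Cfsg.fixedSubmodule (Cfsg.sameActionSubgroup G σ ⊔ Cfsg.sameActionSubgroup G τ))
        (Cfsg.commutatorSubmodule (Cfsg.sameActionSubgroup G σ ⊔ Cfsg.sameActionSubgroup G τ))) := by
  classical
  have h2 : (2 : k) ≠ 0 := Ring.two_ne_zero hk2
  have hσ' := qmin_iff.1 hσ
  have hτ' := qmin_iff.1 hτ
  by_cases h0 : qmove σ * qmove τ * qmove σ = 0
  · exact Or.inl (qp_pair_unipotent h2 hk3 hσ' hτ' h0)
  refine Or.inr ⟨qp_special h2 hk3 hσ' hτ' h0, ?_⟩
  obtain ⟨X, hX⟩ : ∃ X, X = sameActionSubgroup G σ ⊔ sameActionSubgroup G τ := ⟨_, rfl⟩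
  rw [← hX]
  obtain ⟨z, hz, hxzx, hzxz⟩ := qp_exists_inverse h2 hk3 hσ' hτ' h0
  obtain ⟨x, hx⟩ : ∃ x, x = qmove σ := ⟨_, rfl⟩
  have hz0 : z ≠ 0 := fun e => hσ'.ne (by rw [← hxzx, e, mul_zero, zero_mul])
  obtain ⟨hzr, hzk⟩ := qcls_range_ker hτ' hz hz0
  have hzz := qcls_mul hz hz
  have hxx := hσ'.sq
  obtain ⟨b, hb, eb⟩ := sas_exists hτ' hz
  have hσE : σ ∈ sameActionSubgroup G σ := (mem_sas_iff hσ').2 hσ'.self_mem
  have hτF : τ ∈ sameActionSubgroup G τ := (mem_sas_iff hτ').2 hτ'.self_mem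
  obtain ⟨i, hi, ei, hii⟩ := qp_involution (H := X) hxx hzz hxzx hzxz
    (hX ▸ Subgroup.mem_sup_left hσE) (hX ▸ Subgroup.mem_sup_right hb) rfl eb
  rw [← hx] at hxzx hzxz hxx ei
  obtain ⟨J, hJ⟩ : ∃ J, J = x * z + z * x := ⟨_, rfl⟩
  rw [← hJ] at ei
  have hJx : J * x = x := by rw [hJ, add_mul, mul_assoc z, hxx, hxzx, mul_zero, add_zero]
  have hJz : J * z = z := by rw [hJ, add_mul, mul_assoc x, hzz, hzxz, mul_zero, zero_add]
  have hxJ : x * J = x := by
    rw [hJ, mul_add, ← mul_assoc, ← mul_assoc, hxx, hxzx, zero_mul, zero_add]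
  have hzJ : z * J = z := by
    rw [hJ, mul_add, ← mul_assoc, ← mul_assoc, hzz, hzxz, zero_mul, add_zero]
  -- the two invariant subspaces
  have hmoved : commutatorSubmodule X = LinearMap.range x ⊔ LinearMap.range z := by
    refine le_antisymm ?_ ?_
    · let K : Subgroup (LinearMap.GeneralLinearGroup k M) :=
        { carrier := {g | ∀ m, (g : M →ₗ[k] M) m - m ∈ LinearMap.range x ⊔ LinearMap.range z}
          one_mem' := fun m => by simp
          mul_mem' := fun {g g'} hg hg' m => by
            rw [gl_mul_apply, show (g : M →ₗ[k] M) ((g' : M →ₗ[k] M) m) - m =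
              ((g : M →ₗ[k] M) ((g' : M →ₗ[k] M) m) - (g' : M →ₗ[k] M) m) +
                ((g' : M →ₗ[k] M) m - m) by abel]
            exact add_mem (hg _) (hg' _)
          inv_mem' := fun {g} hg m => by
            have := neg_mem (hg (((g⁻¹ : LinearMap.GeneralLinearGroup k M) : M →ₗ[k] M) m))
            rwa [gl_apply_inv_cancel, neg_sub] at this }
      have hXK : X ≤ K := hX ▸ sup_le
        (fun g hg m => Submodule.mem_sup_left (hx ▸ ((mem_sas_iff hσ').1 hg).2.1
          (LinearMap.mem_range_self (qmove g) m)))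
        (fun g hg m => Submodule.mem_sup_right (hzr ▸ ((mem_sas_iff hτ').1 hg).2.1
          (LinearMap.mem_range_self (qmove g) m)))
      refine iSup₂_le fun g hg => ?_
      rintro _ ⟨m, rfl⟩
      exact hXK hg m
    · refine sup_le ?_ ?_
      · rw [hx]
        exact le_iSup₂ (f := fun g (_ : g ∈ X) => LinearMap.range ((g : M →ₗ[k] M) - 1)) σ
          (hX ▸ Subgroup.mem_sup_left hσE)
      · rw [← eb]
        exact le_iSup₂ (f := fun g (_ : g ∈ X) => LinearMap.range ((g : M →ₗ[k] M) - 1)) b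
          (hX ▸ Subgroup.mem_sup_right hb)
  have hfixed : fixedSubmodule X = LinearMap.ker x ⊓ LinearMap.ker z := by
    refine le_antisymm (le_inf ?_ ?_) ?_
    · rw [hx]; exact iInf₂_le σ (hX ▸ Subgroup.mem_sup_left hσE)
    · rw [← eb]; exact iInf₂_le b (hX ▸ Subgroup.mem_sup_right hb)
    · let K : Subgroup (LinearMap.GeneralLinearGroup k M) :=
        { carrier := {g | ∀ m ∈ LinearMap.ker x ⊓ LinearMap.ker z, (g : M →ₗ[k] M) m = m}
          one_mem' := fun m _ => rfl
          mul_mem' := fun {g g'} hg hg' m hm => by rw [gl_mul_apply, hg' m hm, hg m hm]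
          inv_mem' := fun {g} hg m hm => by
            conv_lhs => rw [← hg m hm]
            exact gl_inv_apply_cancel g m }
      have hXK : X ≤ K := hX ▸ sup_le
        (fun g hg m hm => sub_eq_zero.1 (LinearMap.mem_ker.1 (((mem_sas_iff hσ').1 hg).2.2
          (hx ▸ hm.1))))
        (fun g hg m hm => sub_eq_zero.1 (LinearMap.mem_ker.1 (((mem_sas_iff hτ').1 hg).2.2
          (hzk ▸ hm.2))))
      refine le_iInf₂ fun g hg m hm => ?_
      rw [LinearMap.mem_ker]
      exact sub_eq_zero.2 (hXK hg m hm)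
  have hJfix : ∀ m ∈ fixedSubmodule X, J m = 0 := fun m hm => by
    rw [hfixed] at hm
    rw [hJ, LinearMap.add_apply, Module.End.mul_apply, Module.End.mul_apply,
      LinearMap.mem_ker.1 hm.1, LinearMap.mem_ker.1 hm.2, map_zero, map_zero, add_zero]
  have hJmov : ∀ m ∈ commutatorSubmodule X, J m = m := fun m hm => by
    rw [hmoved] at hm
    obtain ⟨_, ⟨a, rfl⟩, _, ⟨c, rfl⟩, rfl⟩ := Submodule.mem_sup.1 hm
    rw [map_add, ← Module.End.mul_apply J x, ← Module.End.mul_apply J z, hJx, hJz]
  have hcompl : IsCompl (fixedSubmodule X) (commutatorSubmodule X) := by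
    refine ⟨Submodule.disjoint_def.2 fun m h1 h3 => (hJmov m h3).symm.trans (hJfix m h1),
      codisjoint_iff.2 (eq_top_iff.2 fun m _ => ?_)⟩
    rw [show m = (m - J m) + J m by abel, hfixed, hmoved]
    refine Submodule.add_mem_sup ⟨?_, ?_⟩ ?_
    · show x (m - J m) = 0
      rw [map_sub, ← Module.End.mul_apply, hxJ, sub_self]
    · show z (m - J m) = 0
      rw [map_sub, ← Module.End.mul_apply, hzJ, sub_self]
    · rw [hJ, LinearMap.add_apply]
      exact Submodule.add_mem_sup (LinearMap.mem_range_self x _) (LinearMap.mem_range_self z _)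
  have hiapp : ∀ m, (i : M →ₗ[k] M) m = m - (2 : k) • J m := fun m => by rw [ei]; rfl
  have hneg : ∀ m ∈ commutatorSubmodule X, (i : M →ₗ[k] M) m = -m := fun m hm => by
    rw [hiapp, hJmov m hm, two_smul]; abel
  have hpos : ∀ m ∈ fixedSubmodule X, (i : M →ₗ[k] M) m = m := fun m hm => by
    rw [hiapp, hJfix m hm, smul_zero, sub_zero]
  have hJcomm : ∀ g ∈ X, i * g = g * i := by
    have hle : X ≤ Subgroup.centralizer {i} := hX ▸ sup_le (fun g hg => ?_) (fun g hg => ?_)
    · exact fun g hg => (Subgroup.mem_centralizer_singleton_iff.1 (hle hg)).symm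
    all_goals
      rw [Subgroup.mem_centralizer_singleton_iff, qp_commute_iff]
      have hiq : qmove i = (-2 : k) • J := by rw [qmove, ei, sub_sub_cancel_left, neg_smul]
      suffices hh : qmove g * J = qmove g ∧ J * qmove g = qmove g by
        rw [hiq, mul_smul_comm, smul_mul_assoc, hh.1, hh.2]
      constructor
    · have h' := ((mem_sas_iff hσ').1 hg).2.2
      rw [← hx] at h'
      refine LinearMap.ext fun m => (sub_eq_zero.1 ?_).symm
      show qmove g m - qmove g (J m) = 0
      rw [← map_sub]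
      refine h' ?_
      rw [LinearMap.mem_ker, map_sub, ← Module.End.mul_apply, hxJ, sub_self]
    · refine LinearMap.ext fun m => ?_
      obtain ⟨n, hn⟩ := ((mem_sas_iff hσ').1 hg).2.1 (LinearMap.mem_range_self (qmove g) m)
      show J (qmove g m) = qmove g m
      rw [← hn, ← hx, ← Module.End.mul_apply, hJx]
    · have h' := ((mem_sas_iff hτ').1 hg).2.2
      rw [← hzk] at h'
      refine LinearMap.ext fun m => (sub_eq_zero.1 ?_).symm
      show qmove g m - qmove g (J m) = 0
      rw [← map_sub]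
      refine h' ?_
      rw [LinearMap.mem_ker, map_sub, ← Module.End.mul_apply, hzJ, sub_self]
    · refine LinearMap.ext fun m => ?_
      obtain ⟨n, hn⟩ := hzr.ge (((mem_sas_iff hτ').1 hg).2.1 (LinearMap.mem_range_self (qmove g) m))
      show J (qmove g m) = qmove g m
      rw [← hn, ← Module.End.mul_apply, hJz]
  refine ⟨⟨i, ⟨hi, ?_, hii, hJcomm, hneg, hpos⟩, ?_⟩, hcompl⟩
  · intro e
    apply hσ'.ne
    have : x = 0 := LinearMap.ext fun m => by
      have h3 := hneg (x m) (hmoved ▸ Submodule.mem_sup_left (LinearMap.mem_range_self x m))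
      rw [e, gl_one_apply, ← sub_eq_zero, sub_neg_eq_add, ← two_smul k, smul_eq_zero] at h3
      exact h3.resolve_left h2
    rw [← hx, this]
  · rintro j ⟨-, -, -, -, hjneg, hjpos⟩
    refine Units.ext (LinearMap.ext fun m => ?_)
    obtain ⟨p, hp, q, hq, rfl⟩ := Submodule.mem_sup.1
      (hcompl.sup_eq_top.symm ▸ Submodule.mem_top : m ∈ fixedSubmodule X ⊔ commutatorSubmodule X)
    rw [map_add, map_add, hjpos p hp, hpos p hp, hjneg q hq, hneg q hq]

end Cfsg.Agent.S5065
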