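import Cfsg.Statements.S5066
import Cfsg.Agent.Lib.RootSub.QPCore
import Cfsg.Agent.Lib.RootSub.Simple
import Cfsg.Agent.Lib.RootSub.Chain

set_option autoImplicit false
universe u
open Cfsg CfsgLib.RootSub

namespace Cfsg.Agent.S5066

/-- Let k be a field of characteristic not 2 with k not of order 3, M a finite-dimensional k-vector space and G ≤ GL(M) such that (G, M) is a quadratic pair (M irreducible for G, and G generated by its quadratically acting elements σ whose scalar family 1 + c(σ − 1), c ∈ k, lies in G). Write 𝒬_d for the quadratic elements of G of minimal commutator rank, E(σ) for the subgroup generated by the members of 𝒬_d with the same fixed space and commutator space as σ, and Σ for the set of these subgroups. Let E, F ∈ Σ generate a subgroup that is nilpotent of class exactly two. Then D = ⁅E, F⁆ belongs to Σ, equals the subgroup generated by the commutators of e with F, and also of E with f, for every non-identity e ∈ E, f ∈ F, and ⟨E, F⟩ lies in U(D), the set of elements g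 of G normalizing D with (g − 1)M inside the fixed space of D, (g − 1) mapping that fixed space into the commutator space of D, and g acting trivially on the commutator space of D. -/
theorem result {k : Type u} [Field k] (hk2 : ringChar k ≠ 2) (hk3 : Nat.card k ≠ 3)
    {M : Type u} [AddCommGroup M] [Module k M] [FiniteDimensional k M]
    {G : Subgroup (LinearMap.GeneralLinearGroup k M)} (hG : Cfsg.IsQuadraticPair G)
    {E F : Subgroup (LinearMap.GeneralLinearGroup k M)} (hE : E ∈ Cfsg.quadraticRootSubgroups G) (hF : F ∈ Cfsg.quadraticRootSubgroups G)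
    (h2 : ⁅E ⊔ F, E ⊔ F⁆ ≠ ⊥ ∧ ⁅⁅E ⊔ F, E ⊔ F⁆, E ⊔ F⁆ = ⊥) :
    ⁅E, F⁆ ∈ Cfsg.quadraticRootSubgroups G ∧
    (∀ e ∈ E, e ≠ 1 → Subgroup.closure ((fun f : LinearMap.GeneralLinearGroup k M => e * f * e⁻¹ * f⁻¹) '' (F : Set (LinearMap.GeneralLinearGroup k M))) = ⁅E, F⁆) ∧
    (∀ f ∈ F, f ≠ 1 → Subgroup.closure ((fun e : LinearMap.GeneralLinearGroup k M => e * f * e⁻¹ * f⁻¹) '' (E : Set (LinearMap.GeneralLinearGroup k M))) = ⁅E, F⁆) ∧
    ((E ⊔ F : Subgroup (LinearMap.GeneralLinearGroup k M)) : Set (LinearMap.GeneralLinearGroup k M)) ⊆ Cfsg.quadraticUnipotentCore G ⁅E, F⁆ := by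
  have h2' : (2 : k) ≠ 0 := Ring.two_ne_zero hk2
  obtain ⟨σ, hσ', rfl⟩ := hE
  obtain ⟨τ, hτ', rfl⟩ := hF
  have hσ := qmin_iff.1 hσ'
  have hτ := qmin_iff.1 hτ'
  have hsE : σ ∈ sameActionSubgroup G σ := (mem_sas_iff hσ).2 hσ.self_mem
  have htF : τ ∈ sameActionSubgroup G τ := (mem_sas_iff hτ).2 hτ.self_mem
  have h0 : qmove σ * qmove τ * qmove σ = 0 := by
    by_contra h0
    obtain ⟨w, hw, hne⟩ := r1_commutator_not_central (qp_special h2' hk3 hσ hτ h0).1 hsE
      (fun e => hσ.ne (by rw [e, qmove_one])) htF (fun e => hτ.ne (by rw [e, qmove_one]))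
    exact hne (CfsgLib.RootSub.commutator_eq_bot_iff.1 h2.2 _ (Subgroup.commutator_mem_commutator
      (Subgroup.mem_sup_left hsE) (Subgroup.mem_sup_right htF)) w hw)
  have hne : qmove σ * qmove τ ≠ qmove τ * qmove σ := by
    intro e
    have hb := sas_commute h2' hk3 hσ hτ e
    refine h2.1 (le_bot_iff.1 ?_)
    refine (pair_class_two (isMulCommutative_iff_commutator.1 (sas_commutative hσ))
      (isMulCommutative_iff_commutator.1 (sas_commutative hτ))
      (by rw [hb, Subgroup.commutator_bot_left])).trans hb.le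
  obtain ⟨e, h1, h3⟩ := qp_root_case h2' hk3 hG hσ hτ h0 hne
  exact ⟨⟨_, qmin_iff.2 (qp_root_qmin h2' hk3 hσ hτ h0 hne), e⟩, h1, h3,
    qp_core_le h2' hk3 hG hσ hτ h0 hne⟩

end Cfsg.Agent.S5066
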