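import Cfsg.Statements.S5067
import Cfsg.Agent.Lib.RootSub.Involutions

set_option autoImplicit false
open Cfsg CfsgLib.RootSub

namespace Cfsg.Agent.S5067

open scoped commutatorElement

private theorem key {P : Type*} [Group P] [Group.IsNilpotent P] (hna : ¬ IsMulCommutative P)
    {E : Subgroup P} (hE : IsMulCommutative ↥E) :
    Group.nilpotencyClass ↥(Subgroup.normalClosure (E : Set P)) < Group.nilpotencyClass P := by
  have h1 : ¬ Group.nilpotencyClass P ≤ 1 := fun h =>
    hna (Group.IsNilpotent.nilpotencyClass_le_one_iff.1 h)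
  set N := Subgroup.normalClosure (E : Set P)
  set T := (⊤ : Subgroup P)
  have hN : N ≤ E ⊔ T.lowerCentralSeries 1 := by
    haveI : (E ⊔ T.lowerCentralSeries 1).Normal := by
      constructor
      intro x hx g
      rw [show g * x * g⁻¹ = ⁅g, x⁆ * x by rw [commutatorElement_def]; group]
      refine mul_mem (Subgroup.mem_sup_right ?_) hx
      rw [Subgroup.top_lowerCentralSeries_one, commutator_def]
      exact Subgroup.commutator_mem_commutator (Subgroup.mem_top _) (Subgroup.mem_top _)
    exact Subgroup.normalClosure_le_normal (fun x hx => Subgroup.mem_sup_left hx)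
  have hNN : ⁅N, N⁆ ≤ T.lowerCentralSeries 2 := by
    set γ := T.lowerCentralSeries 2
    set π := QuotientGroup.mk' γ
    have hcen : ∀ x ∈ T.lowerCentralSeries 1, ∀ y : P, π x * π y = π y * π x := fun x hx y => by
      have h : ⁅x, y⁆ ∈ γ := Subgroup.commutator_mem_commutator hx (Subgroup.mem_top y)
      have h' : ⁅π x, π y⁆ = 1 := by
        rw [← map_commutatorElement]; exact (QuotientGroup.eq_one_iff _).2 h
      exact commutatorElement_eq_one_iff_mul_comm.1 h'
    let C : ∀ z : P, Subgroup P := fun z => (Subgroup.centralizer {π z}).comap π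
    have hC : ∀ {z w : P}, w ∈ C z ↔ π w * π z = π z * π w := fun {z w} => by
      simp only [C, Subgroup.mem_comap, Subgroup.mem_centralizer_singleton_iff]
    have hall : ∀ x ∈ E ⊔ T.lowerCentralSeries 1, ∀ y ∈ E ⊔ T.lowerCentralSeries 1,
        π y * π x = π x * π y := by
      have hEK : ∀ x ∈ E, E ⊔ T.lowerCentralSeries 1 ≤ C x := fun x hx =>
        sup_le (fun y hy => hC.2 (by
            rw [← map_mul, ← map_mul]
            exact congrArg π (congrArg Subtype.val (hE.is_comm.comm ⟨y, hy⟩ ⟨x, hx⟩))))
          (fun y hy => hC.2 (hcen y hy x))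
      intro x hx y hy
      have h2 : E ⊔ T.lowerCentralSeries 1 ≤ C y :=
        sup_le (fun z hz => hC.2 (hC.1 (hEK z hz hy)).symm) (fun z hz => hC.2 (hcen z hz y))
      exact (hC.1 (h2 hx)).symm
    rw [Subgroup.commutator_le]
    intro x hx y hy
    refine (QuotientGroup.eq_one_iff _).1 ?_
    show π ⁅x, y⁆ = 1
    rw [map_commutatorElement]
    exact commutatorElement_eq_one_iff_mul_comm.2 (hall y (hN hy) x (hN hx))
  have hstep : ∀ i, 1 ≤ i → N.lowerCentralSeries i ≤ T.lowerCentralSeries (i + 1) := by
    intro i hi
    induction i, hi using Nat.le_induction with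
    | base =>
      rw [Subgroup.lowerCentralSeries_succ, Subgroup.lowerCentralSeries_zero]
      exact hNN
    | succ i hi ih => exact Subgroup.commutator_mono ih le_top
  have hbot : N.lowerCentralSeries (Group.nilpotencyClass P - 1) = ⊥ := by
    refine le_bot_iff.1 (le_trans (hstep _ (by omega)) ?_)
    rw [Nat.sub_add_cancel (by omega), Subgroup.lowerCentralSeries_nilpotencyClass]
  have h2 : Group.nilpotencyClass N ≤ Group.nilpotencyClass P - 1 := by
    rw [← Subgroup.lowerCentralSeries_eq_bot_iff_nilpotencyClass_le,
      ← (Subgroup.map_injective N.subtype_injective).eq_iff, Subgroup.map_bot,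
      Subgroup.top_subtype_lowerCentralSeries]
    exact hbot
  omega

/-- Let P be a non-abelian nilpotent p-group (every element of p-power order; P possibly infinite) generated by two abelian subgroups E and F. Then the normal closure of E in P, and likewise that of F, has nilpotency class strictly smaller than that of P. -/
theorem result {P : Type*} [Group P] {p : ℕ} [Fact p.Prime] (hP : IsPGroup p P) [Group.IsNilpotent P]
    (hna : ¬ IsMulCommutative P) {E F : Subgroup P} (hE : IsMulCommutative ↥E) (hF : IsMulCommutative ↥F) (hgen : E ⊔ F = ⊤) :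
    Group.nilpotencyClass ↥(Subgroup.normalClosure (E : Set P)) < Group.nilpotencyClass P ∧
    Group.nilpotencyClass ↥(Subgroup.normalClosure (F : Set P)) < Group.nilpotencyClass P := by
  exact ⟨key hna hE, key hna hF⟩

end Cfsg.Agent.S5067
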