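import Cfsg.Statements.S5068
import Cfsg.Agent.Lib.RootSub.QPCore
import Cfsg.Agent.Lib.RootSub.Simple
import Cfsg.Agent.Lib.RootSub.Chain

set_option autoImplicit false
universe u
open Cfsg CfsgLib.RootSub

namespace Cfsg.Agent.S5068

/-- Let k be a field of characteristic not 2 with k not of order 3, M a finite-dimensional k-vector space and G ≤ GL(M) such that (G, M) is a quadratic pair (M irreducible for G, and G generated by its quadratically acting elements σ whose scalar family 1 + c(σ − 1), c ∈ k, lies in G). Write 𝒬_d for the quadratic elements of G of minimal commutator rank, E(σ) for the subgroup generated by the members of 𝒬_d with the same fixed space and commutator space as σ, and Σ for the set of these subgroups. Let E, F ∈ Σ generate a subgroup acting unipotently on M. Then either E and F commute elementwise, or L = ⁅E, F⁆ belongs to Σ, equals the subgroup generated by the commutators of e with F, and of E with f, for all non-identity e ∈ E, f ∈ F, the group ⟨E, F⟩ is nilpotent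 of class two, and ⟨E, F⟩ lies in U(L), the set of elements g of G normalizing L with (g − 1)M inside the fixed space of L, (g − 1) mapping that fixed space into the commutator space of L, and g acting trivially on the commutator space of L. -/
theorem result {k : Type u} [Field k] (hk2 : ringChar k ≠ 2) (hk3 : Nat.card k ≠ 3)
    {M : Type u} [AddCommGroup M] [Module k M] [FiniteDimensional k M]
    {G : Subgroup (LinearMap.GeneralLinearGroup k M)} (hG : Cfsg.IsQuadraticPair G)
    {E F : Subgroup (LinearMap.GeneralLinearGroup k M)} (hE : E ∈ Cfsg.quadraticRootSubgroups G) (hF : F ∈ Cfsg.quadraticRootSubgroups G)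
    (hu : Cfsg.IsUnipotentOn (E ⊔ F)) :
    ⁅E, F⁆ = ⊥ ∨
    (⁅E, F⁆ ∈ Cfsg.quadraticRootSubgroups G ∧
      (∀ e ∈ E, e ≠ 1 → Subgroup.closure ((fun f : LinearMap.GeneralLinearGroup k M => e * f * e⁻¹ * f⁻¹) '' (F : Set (LinearMap.GeneralLinearGroup k M))) = ⁅E, F⁆) ∧
      (∀ f ∈ F, f ≠ 1 → Subgroup.closure ((fun e : LinearMap.GeneralLinearGroup k M => e * f * e⁻¹ * f⁻¹) '' (E : Set (LinearMap.GeneralLinearGroup k M))) = ⁅E, F⁆) ∧
      ⁅E ⊔ F, E ⊔ F⁆ ≠ ⊥ ∧ ⁅⁅E ⊔ F, E ⊔ F⁆, E ⊔ F⁆ = ⊥ ∧
      ((E ⊔ F : Subgroup (LinearMap.GeneralLinearGroup k M)) : Set (LinearMap.GeneralLinearGroup k M)) ⊆ Cfsg.quadraticUnipotentCore G ⁅E, F⁆) := by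
  have h2 : (2 : k) ≠ 0 := Ring.two_ne_zero hk2
  rcases qp_trichotomy h2 hk3 hG hE hF with ⟨hb, -⟩ | ⟨-, hn⟩ | ⟨hb, cc, -⟩
  · exact Or.inl hb
  · exact absurd hu hn
  · obtain ⟨σ, hσ', rfl⟩ := hE
    obtain ⟨τ, hτ', rfl⟩ := hF
    have hσ := qmin_iff.1 hσ'
    have hτ := qmin_iff.1 hτ'
    have h0 : qmove σ * qmove τ * qmove σ = 0 := by
      by_contra h0
      exact qp_pair_not_unipotent h2 hk3 hσ hτ h0 hu
    have hne : qmove σ * qmove τ ≠ qmove τ * qmove σ := fun e => hb (sas_commute h2 hk3 hσ hτ e)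
    have h1 : ⁅⁅sameActionSubgroup G σ, sameActionSubgroup G τ⁆,
        sameActionSubgroup G σ ⊔ sameActionSubgroup G τ⁆ = ⊥ :=
      CfsgLib.RootSub.commutator_eq_bot_iff.2 cc.2.1
    refine Or.inr ⟨cc.1, cc.2.2.1, cc.2.2.2, fun e => hb ?_, ?_, qp_core_le h2 hk3 hG hσ hτ h0 hne⟩
    · exact commutator_bot_mono e le_sup_left le_sup_right
    · exact commutator_bot_mono h1 (pair_class_two
        (isMulCommutative_iff_commutator.1 (sas_commutative hσ))
        (isMulCommutative_iff_commutator.1 (sas_commutative hτ)) h1) le_rfl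

end Cfsg.Agent.S5068
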