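import Cfsg.Statements.S5069
import Cfsg.Agent.Lib.RootSub.QPDistinct

set_option autoImplicit false
universe u
open Cfsg CfsgLib.RootSub

namespace Cfsg.Agent.S5069

/-- Let k be a field of characteristic not 2 with k not of order 3, M a finite-dimensional k-vector space and G ≤ GL(M) such that (G, M) is a quadratic pair (M irreducible for G, and G generated by its quadratically acting elements σ whose scalar family 1 + c(σ − 1), c ∈ k, lies in G). Write 𝒬_d for the quadratic elements of G of minimal commutator rank, E(σ) for the subgroup generated by the members of 𝒬_d with the same fixed space and commutator space as σ, and Σ for the set of these subgroups. Then Σ is a disjoint union of finitely many parts Σ₁, …, Σ_r such that the subgroups G_i generated by the Σ_i commute pairwise, each G_i is quasisimple, and inside G_i the members of Σ_i form a class of abstract root subgroups in which every rank one pair A, B contains subgroups A₀ ≤ A, B₀ ≤ B generating an image of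 SL₂(k₁) with central kernel on unitriangular subgroups for some field k₁ with at least four elements. -/
theorem result {k : Type u} [Field k] (hk2 : ringChar k ≠ 2) (hk3 : Nat.card k ≠ 3)
    {M : Type u} [AddCommGroup M] [Module k M] [FiniteDimensional k M]
    {G : Subgroup (LinearMap.GeneralLinearGroup k M)} (hG : Cfsg.IsQuadraticPair G) :
    ∃ (r : ℕ) (part : Fin r → Set (Subgroup (LinearMap.GeneralLinearGroup k M))),
      (⋃ i, part i) = Cfsg.quadraticRootSubgroups G ∧ (∀ i j, i ≠ j → Disjoint (part i) (part j)) ∧ (∀ i, (part i).Nonempty) ∧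
      (∀ i j, i ≠ j → ⁅(⨆ A ∈ part i, A), (⨆ A ∈ part j, A)⁆ = ⊥) ∧
      (∀ i, Cfsg.IsQuasisimple ↥(⨆ A ∈ part i, A) ∧
        Cfsg.IsRootSubgroupClass ((fun A : Subgroup (LinearMap.GeneralLinearGroup k M) => A.subgroupOf (⨆ B ∈ part i, B)) '' (part i)) ∧
        ∀ A ∈ part i, ∀ B ∈ Cfsg.rankOnePartners (part i) A, ∃ A₀ B₀ : Subgroup (LinearMap.GeneralLinearGroup k M), A₀ ≤ A ∧ B₀ ≤ B ∧
          ∃ (k₁ : Type u) (_ : Field k₁), 3 < ENat.card k₁ ∧ Cfsg.IsPSL2PairOver k₁ A₀ B₀) := by
  classical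
  have h2 : (2 : k) ≠ 0 := Ring.two_ne_zero hk2
  haveI hfin : Finite ((qpart G) '' quadraticRootSubgroups G) := (qp_finite_parts h2 hk3 hG).to_subtype
  obtain ⟨r, ⟨e⟩⟩ := Finite.exists_equiv_fin ((qpart G) '' quadraticRootSubgroups G)
  have hmem : ∀ i, ∃ A ∈ quadraticRootSubgroups G, qpart G A = (e.symm i).1 := fun i => (e.symm i).2
  choose rep hrep hpart using hmem
  refine ⟨r, fun i => qpart G (rep i), ?_, ?_, fun i => ⟨rep i, hrep i, .refl⟩, ?_, fun i => ?_⟩
  · refine Set.Subset.antisymm (Set.iUnion_subset fun i A hA => hA.1) fun A hA => ?_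
    refine Set.mem_iUnion.2 ⟨e ⟨_, A, hA, rfl⟩, ?_⟩
    rw [hpart, Equiv.symm_apply_apply]
    exact ⟨hA, .refl⟩
  · intro i j hij
    rw [Set.disjoint_left]
    intro A hA hA'
    refine hij (e.symm.injective (Subtype.ext ?_))
    rw [← hpart, ← hpart]
    exact (componentOf_eq hA.2).trans (componentOf_eq hA'.2).symm
  · intro i j hij
    rw [Subgroup.commutator_eq_bot_iff_le_centralizer]
    refine iSup₂_le fun A hA => Subgroup.le_centralizer_iff.1 (iSup₂_le fun B hB => ?_)
    rw [← Subgroup.commutator_eq_bot_iff_le_centralizer]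
    refine qpart_commute h2 hk3 hG hA hB.1 fun hB' => hij (e.symm.injective (Subtype.ext ?_))
    rw [← hpart, ← hpart]
    exact (componentOf_eq hB'.2).trans (componentOf_eq hB.2).symm
  obtain ⟨hc, hP⟩ := qpart_rootClass h2 hk3 hG (hrep i)
  have hle : ∀ {C}, C ∈ qpart G (rep i) → C ≤ ⨆ C ∈ qpart G (rep i), C :=
    fun hC => le_biSup (fun B : Subgroup (LinearMap.GeneralLinearGroup k M) => B) hC
  refine ⟨rs_quasisimple hc.1 hc.2 ?_ ?_ ?_ hP, hc,
    fun A hA B hB => qp_r1_psl2 h2 hk3 hG hA.1 hB.1.1 hB.2⟩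
  · rintro _ ⟨A, hA, rfl⟩ _ ⟨C, hC, rfl⟩ hne heq
    refine hne (congrArg (fun B : Subgroup (LinearMap.GeneralLinearGroup k M) =>
      B.subgroupOf (⨆ C ∈ qpart G (rep i), C)) ?_)
    refine qp_centralizing_inj h2 hk3 hG hA.1 ⟨hC.1, (freach_symm hA.2).trans hC.2⟩ fun E hE => ?_
    by_cases hEP : E ∈ qpart G (rep i)
    · have h := Set.ext_iff.1 heq (E.subgroupOf (⨆ C ∈ qpart G (rep i), C))
      simp only [mem_centralizingMembers, commutator_subgroupOf_eq_bot (hle hEP) (hle hA),
        commutator_subgroupOf_eq_bot (hle hEP) (hle hC)] at h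
      have hEm : E.subgroupOf (⨆ C ∈ qpart G (rep i), C) ∈ (fun B : Subgroup (LinearMap.GeneralLinearGroup k M) =>
          B.subgroupOf (⨆ C ∈ qpart G (rep i), C)) '' qpart G (rep i) := ⟨E, hEP, rfl⟩
      exact ⟨fun h' => (h.1 ⟨hEm, h'⟩).2, fun h' => (h.2 ⟨hEm, h'⟩).2⟩
    · exact ⟨fun _ => qpart_commute h2 hk3 hG hC hE hEP, fun _ => qpart_commute h2 hk3 hG hA hE hEP⟩
  · rintro - _ ⟨A, hA, rfl⟩
    show 3 < ENat.card (A.subgroupOf (⨆ C ∈ qpart G (rep i), C))
    rw [ENat.card_congr (Subgroup.subgroupOfEquivOfLe (hle hA)).toEquiv]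
    exact qp_sigma_card h2 hk3 hA.1
  · rintro _ ⟨A, hA, rfl⟩ _ ⟨⟨B, hB, rfl⟩, r⟩
    exact (special_subgroupOf_iff (hle hA) (hle hB)).2
      (qp_r1_special h2 hk3 hG hA.1 hB.1 ((r1_subgroupOf_iff (hle hA) (hle hB)).1 r))

end Cfsg.Agent.S5069
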