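import Cfsg.Statements.S5070
import Cfsg.Agent.Lib.Linear.Symplectic
import Cfsg.Agent.Lib.RootSub.PlaneHom

set_option autoImplicit false
open Cfsg

namespace Cfsg.Agent.S5070

open Matrix CfsgLib.RootSub CfsgLib.Linear.Symp
open scoped commutatorElement

variable {F : Type*} [Field F] {M : ℕ}

/-- `c ↦ tv p c`. -/
def tvHom (p : Fin M ⊕ Fin M → F) : Multiplicative F →* symplecticGroup (Fin M) F :=
  MonoidHom.mk' (fun c => tv p c.toAdd) fun _ _ => (tv_add p _ _).symm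

/-- The transvection group of `p`. -/
def T (p : Fin M ⊕ Fin M → F) : Subgroup (symplecticGroup (Fin M) F) := (tvHom p).range

theorem mem_T {p : Fin M ⊕ Fin M → F} {g : symplecticGroup (Fin M) F} : g ∈ T p ↔ ∃ c, tv p c = g :=
  ⟨fun ⟨c, h⟩ => ⟨c.toAdd, h⟩, fun ⟨c, h⟩ => ⟨Multiplicative.ofAdd c, h⟩⟩

theorem tv_mem_T (p : Fin M ⊕ Fin M → F) (c : F) : tv p c ∈ T p := mem_T.2 ⟨c, rfl⟩

theorem T_commute {p q : Fin M ⊕ Fin M → F} (h : sympForm M F p q = 0) : ⁅T p, T q⁆ = ⊥ := by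
  rw [CfsgLib.RootSub.commutator_eq_bot_iff]
  intro a ha b hb
  obtain ⟨c, rfl⟩ := mem_T.1 ha
  obtain ⟨d, rfl⟩ := mem_T.1 hb
  exact tv_commute h c d

theorem T_smul {p : Fin M ⊕ Fin M → F} {a : F} (ha : a ≠ 0) : T (a • p) = T p := by
  ext g
  rw [mem_T, mem_T]
  constructor
  · rintro ⟨c, rfl⟩
    exact ⟨a * a * c, (tv_smul_vec a p c).symm⟩
  · rintro ⟨c, rfl⟩
    exact ⟨c / (a * a), by rw [tv_smul_vec]; congr 1; field_simp⟩

theorem T_conj (g : symplecticGroup (Fin M) F) (p : Fin M ⊕ Fin M → F) :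
    Cfsg.conjBy (T p) g = T (g • p) := by
  ext x
  rw [mem_conjBy, mem_T, mem_T]
  constructor
  · rintro ⟨c, hc⟩
    exact ⟨c, by rw [← tv_conj, hc]; group⟩
  · rintro ⟨c, rfl⟩
    exact ⟨c, by rw [← tv_conj]; group⟩

/-- The plane spanned by a hyperbolic pair. -/
def plane (p q : Fin M ⊕ Fin M → F) (h : sympForm M F p q = 1) : Plane (Fin M ⊕ Fin M) F where
  v := p
  w := q
  l := -(Matrix.J (Fin M) F *ᵥ p)
  m := Matrix.J (Fin M) F *ᵥ q
  lv := by rw [neg_dotProduct, dotProduct_comm, ← sympForm, form_self, neg_zero]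
  lw := by rw [neg_dotProduct, dotProduct_comm, ← sympForm, form_swap, h, neg_neg]
  mv := by rw [dotProduct_comm]; exact h
  mw := by rw [dotProduct_comm]; exact form_self q

theorem plane_slU (p q : Fin M ⊕ Fin M → F) (h : sympForm M F p q = 1) (t : F) :
    (plane p q h).hom (slU t) = (tv p (-t) : symplecticGroup (Fin M) F).1 := by
  rw [Plane.hom_slU]
  refine mat_ext fun x => ?_
  rw [tvMat_mulVec]
  show _ = sympTransvection M p (-t) *ᵥ x
  rw [transvection_mulVec, sympForm]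
  simp [plane, neg_dotProduct, dotProduct_comm x]

theorem plane_slL (p q : Fin M ⊕ Fin M → F) (h : sympForm M F p q = 1) (t : F) :
    (plane p q h).hom (slL t) = (tv q t : symplecticGroup (Fin M) F).1 := by
  rw [Plane.hom_slL]
  refine mat_ext fun x => ?_
  rw [tvMat_mulVec]
  show _ = sympTransvection M q t *ᵥ x
  rw [transvection_mulVec, sympForm]
  simp [plane, dotProduct_comm x]

theorem plane_mem (p q : Fin M ⊕ Fin M → F) (h : sympForm M F p q = 1)
    (g : SpecialLinearGroup (Fin 2) F) : (plane p q h).hom g ∈ symplecticGroup (Fin M) F := by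
  induction g using sl2_induction with
  | h1 => rw [map_one]; exact one_mem _
  | hU t => rw [plane_slU]; exact (tv p (-t)).2
  | hL t => rw [plane_slL]; exact (tv q t).2
  | hmul a b ha hb => rw [map_mul]; exact mul_mem ha hb

/-- SL₂ inside the symplectic group. -/
def planeHom (p q : Fin M ⊕ Fin M → F) (h : sympForm M F p q = 1) :
    SpecialLinearGroup (Fin 2) F →* symplecticGroup (Fin M) F :=
  (plane p q h).hom.codRestrict (symplecticGroup (Fin M) F) (plane_mem p q h)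

theorem planeHom_injective (p q : Fin M ⊕ Fin M → F) (h : sympForm M F p q = 1) :
    Function.Injective (planeHom p q h) :=
  fun _ _ e => (plane p q h).hom_injective (congrArg Subtype.val e)

theorem planeHom_slU (p q : Fin M ⊕ Fin M → F) (h : sympForm M F p q = 1) (t : F) :
    planeHom p q h (slU t) = tv p (-t) := Subtype.ext (plane_slU p q h t)

theorem planeHom_slL (p q : Fin M ⊕ Fin M → F) (h : sympForm M F p q = 1) (t : F) :
    planeHom p q h (slL t) = tv q t := Subtype.ext (plane_slL p q h t)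

theorem map_upper (p q : Fin M ⊕ Fin M → F) (h : sympForm M F p q = 1) :
    (upperUnipotentSL2 F).map (planeHom p q h) = T p := by
  ext g
  rw [Subgroup.mem_map, mem_T]
  constructor
  · rintro ⟨x, hx, rfl⟩
    obtain ⟨t, rfl⟩ := mem_upperUnipotent.1 hx
    exact ⟨-t, (planeHom_slU p q h t).symm⟩
  · rintro ⟨c, rfl⟩
    exact ⟨slU (-c), slU_mem _, by rw [planeHom_slU, neg_neg]⟩

theorem map_lower (p q : Fin M ⊕ Fin M → F) (h : sympForm M F p q = 1) :
    (lowerUnipotentSL2 F).map (planeHom p q h) = T q := by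
  ext g
  rw [Subgroup.mem_map, mem_T]
  constructor
  · rintro ⟨x, hx, rfl⟩
    obtain ⟨t, rfl⟩ := mem_lowerUnipotent.1 hx
    exact ⟨t, (planeHom_slL p q h t).symm⟩
  · rintro ⟨c, rfl⟩
    exact ⟨slL c, slL_mem _, planeHom_slL p q h c⟩

theorem exists_scaled {p q : Fin M ⊕ Fin M → F} (h : sympForm M F p q ≠ 0) :
    ∃ q', T q' = T q ∧ sympForm M F p q' = 1 :=
  ⟨(sympForm M F p q)⁻¹ • q, T_smul (inv_ne_zero h), by rw [form_smul_right, inv_mul_cancel₀ h]⟩

theorem T_r1 {p q : Fin M ⊕ Fin M → F} (h : sympForm M F p q ≠ 0) :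
    IsRankOnePair (T p) (T q) ∧ IsPSL2PairOver F (T p) (T q) := by
  obtain ⟨q', hq, h1⟩ := exists_scaled h
  rw [← hq, ← map_upper p q' h1, ← map_lower p q' h1]
  exact ⟨r1_of_sl2 _ (planeHom_injective p q' h1), psl2_of_sl2 _ (planeHom_injective p q' h1)⟩

/-- Let F be a field, m a natural number and V = F^{2(m+1)} with the standard non-degenerate alternating form f(u, v) = uᵀ J v. For a non-zero vector p let T(p) be the group of symplectic transvections v ↦ v + c f(v, p) p, c ∈ F. Then the subgroups T(p), p ≠ 0, generate the symplectic group Sp_{2(m+1)}(F) and form a degenerate class of abstract F-root subgroups of it (any two of them either commute elementwise or are the unipotent subgroups of a rank one group that is an image of SL₂(F) with central kernel, never the commutator case), and their graph of rank one pairs is connected. -/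
theorem result (F : Type*) [Field F] (m : ℕ) :
    Cfsg.IsRootSubgroupClass {A : Subgroup ↥(Matrix.symplecticGroup (Fin (m + 1)) F) | ∃ p : Fin (m + 1) ⊕ Fin (m + 1) → F, p ≠ 0 ∧
        A = Subgroup.closure {g : ↥(Matrix.symplecticGroup (Fin (m + 1)) F) | ∃ c : F, ∀ v : Fin (m + 1) ⊕ Fin (m + 1) → F,
          (g : Matrix (Fin (m + 1) ⊕ Fin (m + 1)) (Fin (m + 1) ⊕ Fin (m + 1)) F) *ᵥ v =
            v + (c * (v ⬝ᵥ (Matrix.J (Fin (m + 1)) F *ᵥ p))) • p}} ∧
    Cfsg.IsDegenerateRootSet {A : Subgroup ↥(Matrix.symplecticGroup (Fin (m + 1)) F) | ∃ p : Fin (m + 1) ⊕ Fin (m + 1) → F, p ≠ 0 ∧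
        A = Subgroup.closure {g : ↥(Matrix.symplecticGroup (Fin (m + 1)) F) | ∃ c : F, ∀ v : Fin (m + 1) ⊕ Fin (m + 1) → F,
          (g : Matrix (Fin (m + 1) ⊕ Fin (m + 1)) (Fin (m + 1) ⊕ Fin (m + 1)) F) *ᵥ v =
            v + (c * (v ⬝ᵥ (Matrix.J (Fin (m + 1)) F *ᵥ p))) • p}} ∧
    Cfsg.IsKRootSubgroupSet F {A : Subgroup ↥(Matrix.symplecticGroup (Fin (m + 1)) F) | ∃ p : Fin (m + 1) ⊕ Fin (m + 1) → F, p ≠ 0 ∧
        A = Subgroup.closure {g : ↥(Matrix.symplecticGroup (Fin (m + 1)) F) | ∃ c : F, ∀ v : Fin (m + 1) ⊕ Fin (m + 1) → F,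
          (g : Matrix (Fin (m + 1) ⊕ Fin (m + 1)) (Fin (m + 1) ⊕ Fin (m + 1)) F) *ᵥ v =
            v + (c * (v ⬝ᵥ (Matrix.J (Fin (m + 1)) F *ᵥ p))) • p}} ∧
    Cfsg.IsConnectedFamily (Cfsg.FAdj {A : Subgroup ↥(Matrix.symplecticGroup (Fin (m + 1)) F) | ∃ p : Fin (m + 1) ⊕ Fin (m + 1) → F, p ≠ 0 ∧
        A = Subgroup.closure {g : ↥(Matrix.symplecticGroup (Fin (m + 1)) F) | ∃ c : F, ∀ v : Fin (m + 1) ⊕ Fin (m + 1) → F,
          (g : Matrix (Fin (m + 1) ⊕ Fin (m + 1)) (Fin (m + 1) ⊕ Fin (m + 1)) F) *ᵥ v =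
            v + (c * (v ⬝ᵥ (Matrix.J (Fin (m + 1)) F *ᵥ p))) • p}})
      {A : Subgroup ↥(Matrix.symplecticGroup (Fin (m + 1)) F) | ∃ p : Fin (m + 1) ⊕ Fin (m + 1) → F, p ≠ 0 ∧
        A = Subgroup.closure {g : ↥(Matrix.symplecticGroup (Fin (m + 1)) F) | ∃ c : F, ∀ v : Fin (m + 1) ⊕ Fin (m + 1) → F,
          (g : Matrix (Fin (m + 1) ⊕ Fin (m + 1)) (Fin (m + 1) ⊕ Fin (m + 1)) F) *ᵥ v =
            v + (c * (v ⬝ᵥ (Matrix.J (Fin (m + 1)) F *ᵥ p))) • p}} := by
  have hgen : ∀ p : Fin (m + 1) ⊕ Fin (m + 1) → F,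
      Subgroup.closure {g : ↥(Matrix.symplecticGroup (Fin (m + 1)) F) | ∃ c : F, ∀ v : Fin (m + 1) ⊕ Fin (m + 1) → F,
        (g : Matrix (Fin (m + 1) ⊕ Fin (m + 1)) (Fin (m + 1) ⊕ Fin (m + 1)) F) *ᵥ v =
          v + (c * (v ⬝ᵥ (Matrix.J (Fin (m + 1)) F *ᵥ p))) • p} = T p := by
    intro p
    refine le_antisymm ((Subgroup.closure_le _).2 ?_) fun g hg => ?_
    · rintro g ⟨c, hc⟩
      exact mem_T.2 ⟨c, group_ext fun x => (tv_smul p x c).trans (hc x).symm⟩
    · obtain ⟨c, rfl⟩ := mem_T.1 hg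
      exact Subgroup.subset_closure ⟨c, fun v => tv_smul p v c⟩
  simp only [hgen]
  set S := {A : Subgroup ↥(Matrix.symplecticGroup (Fin (m + 1)) F) |
    ∃ p : Fin (m + 1) ⊕ Fin (m + 1) → F, p ≠ 0 ∧ A = T p} with hS
  have hroot : IsRootSubgroupSet S := by
    refine ⟨?_, ?_, ?_, ?_, ?_⟩
    · rintro A ⟨p, -, rfl⟩
      exact inferInstanceAs (IsMulCommutative (tvHom p).range)
    · rintro A ⟨p, hp, rfl⟩ hb
      exact tv_ne_one hp one_ne_zero (Subgroup.mem_bot.1 (hb ▸ tv_mem_T p (1 : F)))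
    · rw [eq_top_iff, ← transvectionSubgroup_eq_top, transvectionSubgroup, Subgroup.closure_le]
      rintro g ⟨w, c, hg⟩
      by_cases hw : w = 0
      · have : g = 1 := group_ext fun x => by
          show (g : Matrix (Fin (m + 1) ⊕ Fin (m + 1)) (Fin (m + 1) ⊕ Fin (m + 1)) F) *ᵥ x = _
          rw [hg, transvection_mulVec, hw, smul_zero, add_zero]
          exact (one_mulVec x).symm
        rw [this]
        exact one_mem _
      · exact Subgroup.mem_iSup_of_mem (T w) (Subgroup.mem_iSup_of_mem ⟨w, hw, rfl⟩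
          (mem_T.2 ⟨c, Subtype.ext hg.symm⟩))
    · rintro A ⟨p, hp, rfl⟩ g
      exact ⟨g • p, fun h => hp (by simpa using congrArg (fun y => g⁻¹ • y) h), T_conj g p⟩
    · rintro A ⟨p, -, rfl⟩ B ⟨q, -, rfl⟩
      by_cases h : sympForm (m + 1) F p q = 0
      · exact Or.inl (T_commute h)
      · exact Or.inr (Or.inl (T_r1 h).1)
  refine ⟨⟨hroot, ?_, ?_⟩, ?_, ⟨hroot, ?_⟩, ?_⟩
  · refine ⟨T (Pi.single (Sum.inl 0) 1), _, ?_, rfl⟩
    intro h
    simpa using congrFun h (Sum.inl 0)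
  · rintro A ⟨p, hp, rfl⟩ B ⟨q, hq, rfl⟩
    obtain ⟨g, hg⟩ := exists_smul_eq_of_ne_zero hp hq
    exact ⟨g, by rw [T_conj, hg]⟩
  · rintro A ⟨p, hp, rfl⟩ B ⟨q, hq, rfl⟩ ⟨hmem, hcen, -, -⟩
    by_cases h : sympForm (m + 1) F p q = 0
    · exact hroot.ne_bot _ hmem (T_commute h)
    obtain ⟨q', hq', h1⟩ := exists_scaled h
    rw [← hq', ← map_upper p q' h1, ← map_lower p q' h1, ← Subgroup.map_commutator] at hcen
    have hK : ⁅slU (1 : F), slL (1 : F)⁆ * slU 1 = slU 1 * ⁅slU (1 : F), slL (1 : F)⁆ := by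
      apply planeHom_injective p q' h1
      rw [map_mul, map_mul]
      exact hcen _ ⟨_, Subgroup.commutator_mem_commutator (slU_mem 1) (slL_mem 1), rfl⟩ _
        (Subgroup.mem_sup_left ⟨_, slU_mem 1, rfl⟩)
    rw [commutatorElement_def, ← slU_neg, ← slL_neg] at hK
    have := congrArg (fun g : SpecialLinearGroup (Fin 2) F => (g : Matrix (Fin 2) (Fin 2) F) 1 1) hK
    simp [slU_val, slL_val, Matrix.mul_fin_two] at this
  · rintro A ⟨p, -, rfl⟩ B ⟨q, -, rfl⟩ hr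
    exact (T_r1 fun h => not_r1_of_commute (T_commute h) hr).2
  · rintro A ⟨p, hp, rfl⟩ B ⟨q, hq, rfl⟩
    obtain ⟨a, ha⟩ := exists_form_ne_zero hp
    obtain ⟨b, hb⟩ := exists_form_ne_zero hq
    obtain ⟨r, hr, hr'⟩ : ∃ r, sympForm (m + 1) F p r ≠ 0 ∧ sympForm (m + 1) F r q ≠ 0 := by
      by_cases h1 : sympForm (m + 1) F q a = 0
      · by_cases h2 : sympForm (m + 1) F p b = 0
        · exact ⟨a + b, by rw [form_add_right, h2, add_zero]; exact ha,
            by rw [form_swap q (a + b), form_add_right, h1, zero_add, neg_ne_zero]; exact hb⟩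
        · exact ⟨b, h2, by rw [form_swap q b, neg_ne_zero]; exact hb⟩
      · exact ⟨a, ha, by rw [form_swap q a, neg_ne_zero]; exact h1⟩
    have hr0 : r ≠ 0 := fun h => hr (by rw [h, form_zero_right])
    exact Relation.ReflTransGen.head ⟨⟨p, hp, rfl⟩, ⟨r, hr0, rfl⟩, (T_r1 hr).1⟩
      (Relation.ReflTransGen.single ⟨⟨r, hr0, rfl⟩, ⟨q, hq, rfl⟩, (T_r1 hr').1⟩)

end Cfsg.Agent.S5070
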