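import Cfsg.Statements.S5071
import Cfsg.Agent.Lib.RootSub.IncidentPairs
import Cfsg.Agent.Lib.RootSub.Graph

set_option autoImplicit false
open Cfsg

namespace Cfsg.Agent.S5071

open Matrix CfsgLib.RootSub Polynomial
open scoped commutatorElement

variable {F : Type*} [Field F] [Fintype F] {q : ℕ}

omit [Fintype F] in
theorem card_roots_le [Finite F] (hq : 2 ≤ q) (a : F) : Nat.card {x : F // x ^ q = a * x} ≤ q := by
  classical
  have : Fintype F := Fintype.ofFinite F
  set f : F[X] := X ^ q - C a * X with hf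
  have hd : f.degree = q := by
    rw [hf, degree_sub_eq_left_of_degree_lt] <;> rw [degree_X_pow]
    exact lt_of_le_of_lt (degree_C_mul_X_le a) (by exact_mod_cast hq)
  have hf0 : f ≠ 0 := fun h => by simp [h] at hd
  have hsub : (Finset.univ.filter fun x : F => x ^ q = a * x) ⊆ f.roots.toFinset := by
    intro x hx
    rw [Finset.mem_filter] at hx
    rw [Multiset.mem_toFinset, mem_roots hf0]
    simp [hf, hx.2]
  rw [Nat.card_eq_fintype_card, Fintype.card_subtype]
  refine (Finset.card_le_card hsub).trans ((Multiset.toFinset_card_le _).trans ?_)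
  exact (card_roots' f).trans (le_of_eq (natDegree_eq_of_degree_eq_some hd))

/-- The field data of a Hermitian form. -/
structure Conj (F : Type*) [Field F] (q : ℕ) where
  /-- the involutory automorphism -/
  φ : F →+* F
  apply : ∀ x, φ x = x ^ q
  invol : ∀ x, φ (φ x) = x
  two_le : 2 ≤ q
  /-- a non-zero element of trace zero -/
  δ : F
  δ_ne : δ ≠ 0
  δ_trace : φ δ = -δ
  trace_surj : ∀ a, φ a = a → ∃ c, c + φ c = a
  card_fixed : Nat.card {x : F // φ x = x} = q
  norm_surj : ∃ a, a * φ a = -1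

theorem nonempty_conj (hF : Fintype.card F = q ^ 2) : Nonempty (Conj F q) := by
  classical
  obtain ⟨p, hchar⟩ := CharP.exists F
  have hp : Fact p.Prime := ⟨CharP.char_is_prime F p⟩
  obtain ⟨N, -, hN⟩ := FiniteField.card F p
  have hq2 : 2 ≤ q := by
    have := Fintype.one_lt_card (α := F)
    rw [hF] at this
    by_contra hcon
    interval_cases q <;> simp at this
  obtain ⟨e, -, he⟩ := (Nat.dvd_prime_pow hp.out).1 (Dvd.intro q (by rw [← pow_two, ← hF, hN]) : q ∣ p ^ (N : ℕ))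
  let φ := iterateFrobenius F p e
  have happly : ∀ x, φ x = x ^ q := fun x => by rw [iterateFrobenius_def, he]
  have hinv : ∀ x, φ (φ x) = x := fun x => by
    rw [happly, happly, ← pow_mul, ← pow_two, ← hF, FiniteField.pow_card]
  have hfix : Nat.card {x : F // φ x = x} ≤ q := by
    rw [Nat.card_congr (Equiv.subtypeEquivRight fun x => by rw [happly, one_mul] :
      {x : F // φ x = x} ≃ {x : F // x ^ q = 1 * x})]
    exact card_roots_le hq2 1
  obtain ⟨y, hy⟩ : ∃ y, φ y ≠ y := by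
    by_contra hcon
    push Not at hcon
    rw [Nat.card_congr (Equiv.subtypeUnivEquiv hcon), Nat.card_eq_fintype_card, hF] at hfix
    nlinarith
  -- the trace onto the fixed field
  let t : F →+ F := (AddMonoidHom.id F) + φ.toAddMonoidHom
  have ht : ∀ x, t x = x + φ x := fun x => rfl
  have hker : Nat.card t.ker ≤ q := by
    rw [Nat.card_congr (Equiv.subtypeEquivRight fun x => by
      rw [AddMonoidHom.mem_ker, ht, happly, neg_one_mul, eq_neg_iff_add_eq_zero, add_comm] :
      t.ker ≃ {x : F // x ^ q = -1 * x})]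
    exact card_roots_le hq2 (-1)
  have hrange : (t.range : Set F) ⊆ {x | φ x = x} := by
    rintro _ ⟨x, rfl⟩
    show φ (t x) = t x
    rw [ht, map_add, hinv, add_comm]
  have hcard : Nat.card t.range * Nat.card t.ker = q ^ 2 := by
    rw [← AddSubgroup.index_ker, AddSubgroup.index_mul_card, Nat.card_eq_fintype_card, hF]
  have hle : Nat.card t.range ≤ Nat.card {x : F // φ x = x} :=
    Nat.card_le_card_of_injective (fun x => ⟨x.1, hrange x.2⟩)
      fun a b h => Subtype.ext (congrArg (fun z : {x : F // φ x = x} => z.1) h)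
  have hqr : q ≤ Nat.card t.range := by
    by_contra hcon
    push Not at hcon
    have := Nat.mul_lt_mul_of_lt_of_le hcon hker (by omega : 0 < q)
    rw [hcard, pow_two] at this
    exact lt_irrefl _ this
  have hfixq : Nat.card {x : F // φ x = x} = q := le_antisymm hfix (hqr.trans hle)
  refine ⟨⟨φ, happly, hinv, hq2, y - φ y, sub_ne_zero.2 (Ne.symm hy), by rw [map_sub, hinv]; ring, ?_, hfixq, ?_⟩⟩
  · intro a ha
    have hbij : Function.Bijective (fun x : t.range => (⟨x.1, hrange x.2⟩ : {x : F // φ x = x})) :=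
      Function.Injective.bijective_of_nat_card_le
        (fun a b h => Subtype.ext (congrArg (fun z : {x : F // φ x = x} => z.1) h)) (hfixq.trans_le hqr)
    obtain ⟨⟨_, c, rfl⟩, hc⟩ := hbij.2 ⟨a, ha⟩
    exact ⟨c, congrArg Subtype.val hc⟩
  · obtain ⟨g, hg⟩ := IsCyclic.exists_generator (α := Fˣ)
    obtain ⟨k, hk⟩ : (-1 : Fˣ) ∈ Submonoid.powers g := mem_powers_iff_mem_zpowers.2 (hg _)
    replace hk : g ^ k = -1 := hk
    have hord : orderOf g = q ^ 2 - 1 := by
      rw [orderOf_eq_card_of_forall_mem_zpowers hg, Nat.card_units, Nat.card_eq_fintype_card, hF]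
    have h1 : (-1 : Fˣ) ^ (q - 1) = 1 := by
      apply Units.ext
      rw [Units.val_pow_eq_pow_val, Units.val_one, Units.val_neg, Units.val_one]
      have h2 : ((-1 : F)) ^ q = (-1) ^ 1 := by rw [← happly, map_neg, map_one, pow_one]
      have h3 : ((-1 : F)) ^ (q - 1) * (-1) = 1 * (-1) := by
        rw [← pow_succ, Nat.sub_add_cancel (by omega), h2, pow_one, one_mul]
      exact mul_right_cancel₀ (neg_ne_zero.2 one_ne_zero) h3
    rw [← hk, ← pow_mul] at h1
    have hdvd : (q + 1) * (q - 1) ∣ k * (q - 1) := by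
      have := orderOf_dvd_of_pow_eq_one h1
      rwa [hord, show q ^ 2 - 1 = (q + 1) * (q - 1) by rw [← Nat.sq_sub_sq q 1, one_pow]] at this
    obtain ⟨j, hj⟩ := Nat.dvd_of_mul_dvd_mul_right (by omega) hdvd
    refine ⟨((g ^ j : Fˣ) : F), ?_⟩
    rw [happly, ← Units.val_pow_eq_pow_val, ← Units.val_mul, ← pow_mul, ← pow_add,
      show j + j * q = k by rw [hj]; ring, hk]
    simp

variable {N : ℕ} (C : Conj F q)

omit [Fintype F] in
/-- The covector of a vector. -/
def cj (p : Fin N → F) : Fin N → F := fun i => p i ^ q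

omit [Fintype F] in
theorem herm_eq (u p : Fin N → F) : hermForm N F q u p = cj (q := q) p ⬝ᵥ u := by
  simp only [hermForm, dotProduct, cj, mul_comm]

include C in
omit [Fintype F] in
theorem herm_swap (u v : Fin N → F) : hermForm N F q v u = C.φ (hermForm N F q u v) := by
  simp only [hermForm, map_sum, map_mul, ← C.apply, C.invol, mul_comm]

include C in
omit [Fintype F] in
theorem herm_add_right (u v w : Fin N → F) :
    hermForm N F q u (v + w) = hermForm N F q u v + hermForm N F q u w := by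
  simp only [hermForm, Pi.add_apply, ← C.apply, map_add, mul_add, Finset.sum_add_distrib]

omit [Fintype F] in
theorem herm_add_left (u v w : Fin N → F) :
    hermForm N F q (u + v) w = hermForm N F q u w + hermForm N F q v w := by
  simp only [hermForm, Pi.add_apply, add_mul, Finset.sum_add_distrib]

omit [Fintype F] in
theorem herm_smul_left (a : F) (u w : Fin N → F) :
    hermForm N F q (a • u) w = a * hermForm N F q u w := by
  simp only [hermForm, Pi.smul_apply, smul_eq_mul, Finset.mul_sum, mul_assoc]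

include C in
omit [Fintype F] in
theorem herm_smul_right (a : F) (u w : Fin N → F) :
    hermForm N F q u (a • w) = C.φ a * hermForm N F q u w := by
  simp only [hermForm, Pi.smul_apply, smul_eq_mul, mul_pow, C.apply, Finset.mul_sum]
  exact Finset.sum_congr rfl fun i _ => by ring

include C in
omit [Fintype F] in
theorem cj_ne {p : Fin N → F} (hp : p ≠ 0) : cj (q := q) p ≠ 0 := fun h => hp (funext fun i => by
  have h' := congrFun h i
  simp only [cj, Pi.zero_apply, ← C.apply] at h'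
  exact C.φ.injective (h'.trans (map_zero _).symm))

/-- A non-zero isotropic vector. -/
structure Isotropic (N : ℕ) (F : Type*) [Field F] (q : ℕ) where
  /-- the vector -/
  vec : Fin N → F
  ne : vec ≠ 0
  iso : hermForm N F q vec vec = 0

omit [Fintype F] in
theorem Isotropic.lv (P : Isotropic N F q) : cj (q := q) P.vec ⬝ᵥ P.vec = 0 := by
  rw [← herm_eq]; exact P.iso

/-- The underlying matrix. -/
abbrev mat (g : SU N F q) : Matrix (Fin N) (Fin N) F :=
  ((g : SpecialLinearGroup (Fin N) F) : Matrix (Fin N) (Fin N) F)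

omit [Fintype F] in
theorem mem_SU {g : SpecialLinearGroup (Fin N) F} :
    g ∈ SU N F q ↔ ∀ u v, hermForm N F q ((g : Matrix (Fin N) (Fin N) F) *ᵥ u) ((g : Matrix (Fin N) (Fin N) F) *ᵥ v) =
      hermForm N F q u v := Iff.rfl

include C in
omit [Fintype F] in
theorem tv_preserves (P : Isotropic N F q) {c : F} (hc : C.φ c = -c) :
    (⟨tvMat P.vec (cj (q := q) P.vec) c, tvMat_det P.lv c⟩ : SpecialLinearGroup (Fin N) F) ∈ SU N F q := by
  refine mem_SU.2 fun u v => ?_
  show hermForm N F q (tvMat P.vec (cj (q := q) P.vec) c *ᵥ u) (tvMat P.vec (cj (q := q) P.vec) c *ᵥ v) = _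
  simp only [tvMat_mulVec, herm_add_left, herm_add_right C, herm_smul_left, herm_smul_right C,
    ← herm_eq, P.iso, map_mul, ← herm_swap C, hc]
  ring

/-- The group of transvections with centre spanned by an isotropic vector. -/
def Tsub (C : Conj F q) (P : Isotropic N F q) : Subgroup (SU N F q) where
  carrier := {g | ∃ c, C.φ c = -c ∧ mat g = tvMat P.vec (cj (q := q) P.vec) c}
  one_mem' := ⟨0, by simp, (tvMat_zero _ _).symm⟩
  mul_mem' := by
    rintro g h ⟨c, hc, hg⟩ ⟨d, hd, hh⟩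
    refine ⟨c + d, by rw [map_add, hc, hd]; ring, ?_⟩
    show mat g * mat h = _
    rw [hg, hh, tvMat_add P.lv]
  inv_mem' := by
    rintro g ⟨c, hc, hg⟩
    refine ⟨-c, by rw [map_neg, hc], ?_⟩
    have h1 : mat g⁻¹ * mat g = 1 := sl_inv_mul (g : SpecialLinearGroup (Fin N) F)
    calc mat g⁻¹ = mat g⁻¹ * (tvMat P.vec (cj (q := q) P.vec) c * tvMat P.vec (cj (q := q) P.vec) (-c)) := by
          rw [tvMat_add P.lv, add_neg_cancel, tvMat_zero, mul_one]
      _ = _ := by rw [← mul_assoc, ← hg, h1, one_mul]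

/-- The transvection with coefficient `c`. -/
def tvU (C : Conj F q) (P : Isotropic N F q) (c : F) (hc : C.φ c = -c) : SU N F q :=
  ⟨⟨tvMat P.vec (cj (q := q) P.vec) c, tvMat_det P.lv c⟩, tv_preserves C P hc⟩

omit [Fintype F] in
theorem mat_ext' {g h : SU N F q} (e : mat g = mat h) : g = h := Subtype.ext (Subtype.ext e)

omit [Fintype F] in
theorem tvU_mem (P : Isotropic N F q) (c : F) (hc : C.φ c = -c) : tvU C P c hc ∈ Tsub C P := ⟨c, hc, rfl⟩

omit [Fintype F] in
theorem Tsub_ne_bot (P : Isotropic N F q) : Tsub C P ≠ ⊥ := by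
  intro h
  have h' := tvU_mem C P C.δ C.δ_trace
  rw [h, Subgroup.mem_bot] at h'
  have h1 : tvMat P.vec (cj (q := q) P.vec) C.δ = 1 := congrArg mat h'
  exact C.δ_ne (tvMat_inj P.ne (cj_ne C P.ne) (h1.trans (tvMat_zero _ _).symm))

omit [Fintype F] in
theorem Tsub_commute (P R : Isotropic N F q) (h : hermForm N F q R.vec P.vec = 0) :
    ⁅Tsub C P, Tsub C R⁆ = ⊥ := by
  rw [CfsgLib.RootSub.commutator_eq_bot_iff]
  rintro g ⟨c, -, hg⟩ f ⟨d, -, hf⟩
  refine mat_ext' ?_
  show mat g * mat f = mat f * mat g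
  rw [hg, hf]
  refine tvMat_commute ?_ ?_ c d
  · rw [← herm_eq]; exact h
  · rw [← herm_eq, herm_swap C, h, map_zero]

omit [Fintype F] in
theorem Tsub_congr (P R : Isotropic N F q) {a : F} (ha : a ≠ 0) (h : R.vec = a • P.vec) :
    Tsub C R = Tsub C P := by
  have hcj : cj (q := q) R.vec = C.φ a • cj (q := q) P.vec := by
    funext i
    simp [h, cj, mul_pow, C.apply]
  have hmat : ∀ c, tvMat R.vec (cj (q := q) R.vec) c = tvMat P.vec (cj (q := q) P.vec) (a * C.φ a * c) := by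
    intro c
    refine mat_ext fun x => ?_
    rw [tvMat_mulVec, tvMat_mulVec, hcj, h]
    simp only [smul_dotProduct, smul_eq_mul]
    module
  ext g
  constructor
  · rintro ⟨c, hc, hg⟩
    exact ⟨a * C.φ a * c, by rw [map_mul, map_mul, hc, C.invol]; ring, by rw [hg, hmat]⟩
  · rintro ⟨c, hc, hg⟩
    refine ⟨c / (a * C.φ a), by rw [map_div₀, map_mul, hc, C.invol, mul_comm a (C.φ a)]; ring, ?_⟩
    have ha' : C.φ a ≠ 0 := fun e => ha (C.φ.injective (e.trans (map_zero _).symm))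
    rw [hmat, mul_div_cancel₀ _ (mul_ne_zero ha ha'), hg]

/-- The generated subgroup. -/
def G0 (C : Conj F q) (N : ℕ) : Subgroup (SU N F q) :=
  ⨆ B ∈ {A | ∃ P : Isotropic N F q, A = Tsub C P}, B

omit [Fintype F] in
theorem Tsub_le (P : Isotropic N F q) : Tsub C P ≤ G0 C N :=
  le_biSup (fun B => B) (show Tsub C P ∈ {A | ∃ P : Isotropic N F q, A = Tsub C P} from ⟨P, rfl⟩)

/-- The root subgroup inside the generated subgroup. -/
def T0 (C : Conj F q) (P : Isotropic N F q) : Subgroup (G0 C N) := (Tsub C P).subgroupOf (G0 C N)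

omit [Fintype F] in
theorem T0_ne_bot (P : Isotropic N F q) : T0 C P ≠ ⊥ := by
  intro h
  apply Tsub_ne_bot C P
  rw [← Subgroup.map_subgroupOf_eq_of_le (Tsub_le C P)]
  show (T0 C P).map _ = ⊥
  rw [h, Subgroup.map_bot]

omit [Fintype F] in
theorem T0_commute (P R : Isotropic N F q) (h : hermForm N F q R.vec P.vec = 0) :
    ⁅T0 C P, T0 C R⁆ = ⊥ := by
  rw [CfsgLib.RootSub.commutator_eq_bot_iff]
  intro a ha b hb
  exact Subtype.ext (CfsgLib.RootSub.commutator_eq_bot_iff.1 (Tsub_commute C P R h) a ha b hb)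

variable {L : Type} [Field L] (ι : L →+* F) (hι : ∀ x, C.φ (ι x) = ι x)
  (hsurj : ∀ y, C.φ y = y → ∃ x, ι x = y)

omit [Fintype F] in
include hι hsurj in
theorem T0_pair (P R : Isotropic N F q) (h : hermForm N F q R.vec P.vec ≠ 0) :
    ∃ φ : SpecialLinearGroup (Fin 2) L →* G0 C N, Function.Injective φ ∧
      (upperUnipotentSL2 L).map φ = T0 C P ∧ (lowerUnipotentSL2 L).map φ = T0 C R := by
  set a := (C.δ * hermForm N F q R.vec P.vec)⁻¹ with hadef
  have ha : a ≠ 0 := inv_ne_zero (mul_ne_zero C.δ_ne h)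
  let R' : Isotropic N F q := ⟨a • R.vec, smul_ne_zero ha R.ne, by
    rw [herm_smul_left, herm_smul_right C, R.iso, mul_zero, mul_zero]⟩
  have hR : Tsub C R' = Tsub C R := Tsub_congr C R R' ha rfl
  have h1 : C.δ * hermForm N F q R'.vec P.vec = 1 := by
    show C.δ * hermForm N F q (a • R.vec) P.vec = 1
    rw [herm_smul_left, hadef]
    field_simp
    exact div_self C.δ_ne
  have h2 : -C.δ * hermForm N F q P.vec R'.vec = 1 := by
    rw [herm_swap C, ← C.δ_trace, ← map_mul, h1, map_one]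
  let π : Plane (Fin N) F :=
    { v := P.vec
      w := R'.vec
      l := C.δ • cj (q := q) P.vec
      m := (-C.δ) • cj (q := q) R'.vec
      lv := by rw [smul_dotProduct, P.lv, smul_zero]
      lw := by rw [smul_dotProduct, ← herm_eq, smul_eq_mul, h1]
      mv := by rw [smul_dotProduct, ← herm_eq, smul_eq_mul, h2]
      mw := by rw [smul_dotProduct, R'.lv, smul_zero] }
  let η : SpecialLinearGroup (Fin 2) L →* Matrix (Fin N) (Fin N) F :=
    π.hom.comp (SpecialLinearGroup.map ι)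
  have hmapU : ∀ t : L, SpecialLinearGroup.map ι (slU t) = slU (ι t) := fun t => by
    apply Subtype.ext
    ext i j
    fin_cases i <;> fin_cases j <;> simp [slU_val]
  have hmapL : ∀ t : L, SpecialLinearGroup.map ι (slL t) = slL (ι t) := fun t => by
    apply Subtype.ext
    ext i j
    fin_cases i <;> fin_cases j <;> simp [slL_val]
  have hηU : ∀ t, η (slU t) = tvMat P.vec (cj (q := q) P.vec) (ι t * C.δ) := fun t => by
    show π.hom (SpecialLinearGroup.map ι (slU t)) = _
    rw [hmapU, Plane.hom_slU]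
    refine mat_ext fun x => ?_
    simp only [tvMat_mulVec, π, smul_dotProduct, smul_eq_mul, mul_assoc]
  have hηL : ∀ t, η (slL t) = tvMat R'.vec (cj (q := q) R'.vec) (ι t * -C.δ) := fun t => by
    show π.hom (SpecialLinearGroup.map ι (slL t)) = _
    rw [hmapL, Plane.hom_slL]
    refine mat_ext fun x => ?_
    simp only [tvMat_mulVec, π, smul_dotProduct, smul_eq_mul, mul_assoc]
  have htrU : ∀ t, C.φ (ι t * C.δ) = -(ι t * C.δ) := fun t => by
    rw [map_mul, hι, C.δ_trace, mul_neg]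
  have htrL : ∀ t, C.φ (ι t * -C.δ) = -(ι t * -C.δ) := fun t => by
    rw [map_mul, hι, map_neg, C.δ_trace, mul_neg]
  have hex : ∀ g, ∃ x : G0 C N, mat (x : SU N F q) = η g := by
    intro g
    induction g using sl2_induction with
    | h1 => exact ⟨1, (map_one η).symm⟩
    | hU t => exact ⟨⟨_, Tsub_le C P (tvU_mem C P _ (htrU t))⟩, (hηU t).symm⟩
    | hL t => exact ⟨⟨_, Tsub_le C R' (tvU_mem C R' _ (htrL t))⟩, (hηL t).symm⟩
    | hmul x y hx hy =>
      obtain ⟨a, ha⟩ := hx
      obtain ⟨b, hb⟩ := hy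
      refine ⟨a * b, ?_⟩
      rw [map_mul, ← ha, ← hb]
      rfl
  choose ψ hψ using hex
  have hψinj : ∀ x y : G0 C N, mat (x : SU N F q) = mat (y : SU N F q) → x = y :=
    fun x y e => Subtype.ext (mat_ext' e)
  let Φ : SpecialLinearGroup (Fin 2) L →* G0 C N := MonoidHom.mk' ψ fun g g' => hψinj _ _ (by
    show _ = mat (ψ g : SU N F q) * mat (ψ g' : SU N F q)
    rw [hψ, hψ, hψ, map_mul])
  refine ⟨Φ, fun g g' e => ?_, ?_, ?_⟩
  · have e' : η g = η g' := by rw [← hψ, ← hψ, show ψ g = ψ g' from e]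
    have := π.hom_injective e'
    apply Subtype.ext
    ext i j
    have h' := congrFun (congrFun (congrArg Subtype.val this) i) j
    exact ι.injective h'
  · ext x
    rw [Subgroup.mem_map]
    constructor
    · rintro ⟨y, hy, rfl⟩
      obtain ⟨t, rfl⟩ := mem_upperUnipotent.1 hy
      exact ⟨_, htrU t, (hψ _).trans (hηU t)⟩
    · rintro ⟨c, hc, hx⟩
      obtain ⟨t, ht⟩ := hsurj (c / C.δ) (by rw [map_div₀, hc, C.δ_trace, neg_div_neg_eq])
      refine ⟨slU t, slU_mem t, hψinj _ _ ?_⟩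
      show mat (ψ (slU t) : SU N F q) = _
      rw [hψ, hηU, ht, div_mul_cancel₀ _ C.δ_ne]
      exact hx.symm
  · ext x
    rw [Subgroup.mem_map]
    constructor
    · rintro ⟨y, hy, rfl⟩
      obtain ⟨t, rfl⟩ := mem_lowerUnipotent.1 hy
      show (Φ (slL t) : SU N F q) ∈ Tsub C R
      rw [← hR]
      exact ⟨_, htrL t, (hψ _).trans (hηL t)⟩
    · intro hx
      obtain ⟨c, hc, hx⟩ : (x : SU N F q) ∈ Tsub C R' := hR.symm ▸ hx
      obtain ⟨t, ht⟩ := hsurj (c / -C.δ) (by
        rw [map_div₀, hc, map_neg, C.δ_trace, neg_neg, neg_div, div_neg])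
      refine ⟨slL t, slL_mem t, hψinj _ _ ?_⟩
      show mat (ψ (slL t) : SU N F q) = _
      rw [hψ, hηL, ht, div_mul_cancel₀ _ (neg_ne_zero.2 C.δ_ne)]
      exact hx.symm

/-- Let F be a finite field with q² elements, n a natural number, and h the Hermitian form Σ uᵢ vᵢ^q on F^{n+2}. For a non-zero isotropic vector p let T(p) be the group of unitary transvections with centre ⟨p⟩: the elements of SU_{n+2}(q) moving every vector by a multiple of p and fixing every vector perpendicular to p. Let Σ be the set of these T(p) and G₀ the subgroup they generate. Then, viewed inside G₀, the members of Σ form a degenerate class of abstract k-root subgroups of G₀ for some field k with q elements (any two commute or are the unipotent subgroups of a rank one group that is an image of SL₂(k) with central kernel, never the commutator case), and their graph of rank one pairs is connected. -/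
theorem result (F : Type*) [Field F] [Fintype F] (q n : ℕ) (hF : Fintype.card F = q ^ 2) :
    Cfsg.IsRootSubgroupClass ((fun A : Subgroup ↥(Cfsg.SU (n + 2) F q) => A.subgroupOf (⨆ B ∈ {A : Subgroup ↥(Cfsg.SU (n + 2) F q) | ∃ p : Fin (n + 2) → F, p ≠ 0 ∧ Cfsg.hermForm (n + 2) F q p p = 0 ∧
          A = Subgroup.closure {g : ↥(Cfsg.SU (n + 2) F q) |
            (∀ v : Fin (n + 2) → F, ∃ c : F, ((g : Matrix.SpecialLinearGroup (Fin (n + 2)) F) : Matrix (Fin (n + 2)) (Fin (n + 2)) F) *ᵥ v = v + c • p) ∧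
            ∀ v : Fin (n + 2) → F, Cfsg.hermForm (n + 2) F q v p = 0 →
              ((g : Matrix.SpecialLinearGroup (Fin (n + 2)) F) : Matrix (Fin (n + 2)) (Fin (n + 2)) F) *ᵥ v = v}}, B)) ''
      {A : Subgroup ↥(Cfsg.SU (n + 2) F q) | ∃ p : Fin (n + 2) → F, p ≠ 0 ∧ Cfsg.hermForm (n + 2) F q p p = 0 ∧
          A = Subgroup.closure {g : ↥(Cfsg.SU (n + 2) F q) |
            (∀ v : Fin (n + 2) → F, ∃ c : F, ((g : Matrix.SpecialLinearGroup (Fin (n + 2)) F) : Matrix (Fin (n + 2)) (Fin (n + 2)) F) *ᵥ v = v + c • p) ∧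
            ∀ v : Fin (n + 2) → F, Cfsg.hermForm (n + 2) F q v p = 0 →
              ((g : Matrix.SpecialLinearGroup (Fin (n + 2)) F) : Matrix (Fin (n + 2)) (Fin (n + 2)) F) *ᵥ v = v}}) ∧
    Cfsg.IsDegenerateRootSet ((fun A : Subgroup ↥(Cfsg.SU (n + 2) F q) => A.subgroupOf (⨆ B ∈ {A : Subgroup ↥(Cfsg.SU (n + 2) F q) | ∃ p : Fin (n + 2) → F, p ≠ 0 ∧ Cfsg.hermForm (n + 2) F q p p = 0 ∧
          A = Subgroup.closure {g : ↥(Cfsg.SU (n + 2) F q) |
            (∀ v : Fin (n + 2) → F, ∃ c : F, ((g : Matrix.SpecialLinearGroup (Fin (n + 2)) F) : Matrix (Fin (n + 2)) (Fin (n + 2)) F) *ᵥ v = v + c • p) ∧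
            ∀ v : Fin (n + 2) → F, Cfsg.hermForm (n + 2) F q v p = 0 →
              ((g : Matrix.SpecialLinearGroup (Fin (n + 2)) F) : Matrix (Fin (n + 2)) (Fin (n + 2)) F) *ᵥ v = v}}, B)) ''
      {A : Subgroup ↥(Cfsg.SU (n + 2) F q) | ∃ p : Fin (n + 2) → F, p ≠ 0 ∧ Cfsg.hermForm (n + 2) F q p p = 0 ∧
          A = Subgroup.closure {g : ↥(Cfsg.SU (n + 2) F q) |
            (∀ v : Fin (n + 2) → F, ∃ c : F, ((g : Matrix.SpecialLinearGroup (Fin (n + 2)) F) : Matrix (Fin (n + 2)) (Fin (n + 2)) F) *ᵥ v = v + c • p) ∧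
            ∀ v : Fin (n + 2) → F, Cfsg.hermForm (n + 2) F q v p = 0 →
              ((g : Matrix.SpecialLinearGroup (Fin (n + 2)) F) : Matrix (Fin (n + 2)) (Fin (n + 2)) F) *ᵥ v = v}}) ∧
    (∃ (L : Type) (_ : Field L) (_ : Fintype L), Fintype.card L = q ∧ Cfsg.IsKRootSubgroupSet L ((fun A : Subgroup ↥(Cfsg.SU (n + 2) F q) => A.subgroupOf (⨆ B ∈ {A : Subgroup ↥(Cfsg.SU (n + 2) F q) | ∃ p : Fin (n + 2) → F, p ≠ 0 ∧ Cfsg.hermForm (n + 2) F q p p = 0 ∧
          A = Subgroup.closure {g : ↥(Cfsg.SU (n + 2) F q) |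
            (∀ v : Fin (n + 2) → F, ∃ c : F, ((g : Matrix.SpecialLinearGroup (Fin (n + 2)) F) : Matrix (Fin (n + 2)) (Fin (n + 2)) F) *ᵥ v = v + c • p) ∧
            ∀ v : Fin (n + 2) → F, Cfsg.hermForm (n + 2) F q v p = 0 →
              ((g : Matrix.SpecialLinearGroup (Fin (n + 2)) F) : Matrix (Fin (n + 2)) (Fin (n + 2)) F) *ᵥ v = v}}, B)) ''
      {A : Subgroup ↥(Cfsg.SU (n + 2) F q) | ∃ p : Fin (n + 2) → F, p ≠ 0 ∧ Cfsg.hermForm (n + 2) F q p p = 0 ∧
          A = Subgroup.closure {g : ↥(Cfsg.SU (n + 2) F q) |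
            (∀ v : Fin (n + 2) → F, ∃ c : F, ((g : Matrix.SpecialLinearGroup (Fin (n + 2)) F) : Matrix (Fin (n + 2)) (Fin (n + 2)) F) *ᵥ v = v + c • p) ∧
            ∀ v : Fin (n + 2) → F, Cfsg.hermForm (n + 2) F q v p = 0 →
              ((g : Matrix.SpecialLinearGroup (Fin (n + 2)) F) : Matrix (Fin (n + 2)) (Fin (n + 2)) F) *ᵥ v = v}})) ∧
    Cfsg.IsConnectedFamily (Cfsg.FAdj ((fun A : Subgroup ↥(Cfsg.SU (n + 2) F q) => A.subgroupOf (⨆ B ∈ {A : Subgroup ↥(Cfsg.SU (n + 2) F q) | ∃ p : Fin (n + 2) → F, p ≠ 0 ∧ Cfsg.hermForm (n + 2) F q p p = 0 ∧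
          A = Subgroup.closure {g : ↥(Cfsg.SU (n + 2) F q) |
            (∀ v : Fin (n + 2) → F, ∃ c : F, ((g : Matrix.SpecialLinearGroup (Fin (n + 2)) F) : Matrix (Fin (n + 2)) (Fin (n + 2)) F) *ᵥ v = v + c • p) ∧
            ∀ v : Fin (n + 2) → F, Cfsg.hermForm (n + 2) F q v p = 0 →
              ((g : Matrix.SpecialLinearGroup (Fin (n + 2)) F) : Matrix (Fin (n + 2)) (Fin (n + 2)) F) *ᵥ v = v}}, B)) ''
      {A : Subgroup ↥(Cfsg.SU (n + 2) F q) | ∃ p : Fin (n + 2) → F, p ≠ 0 ∧ Cfsg.hermForm (n + 2) F q p p = 0 ∧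
          A = Subgroup.closure {g : ↥(Cfsg.SU (n + 2) F q) |
            (∀ v : Fin (n + 2) → F, ∃ c : F, ((g : Matrix.SpecialLinearGroup (Fin (n + 2)) F) : Matrix (Fin (n + 2)) (Fin (n + 2)) F) *ᵥ v = v + c • p) ∧
            ∀ v : Fin (n + 2) → F, Cfsg.hermForm (n + 2) F q v p = 0 →
              ((g : Matrix.SpecialLinearGroup (Fin (n + 2)) F) : Matrix (Fin (n + 2)) (Fin (n + 2)) F) *ᵥ v = v}})) ((fun A : Subgroup ↥(Cfsg.SU (n + 2) F q) => A.subgroupOf (⨆ B ∈ {A : Subgroup ↥(Cfsg.SU (n + 2) F q) | ∃ p : Fin (n + 2) → F, p ≠ 0 ∧ Cfsg.hermForm (n + 2) F q p p = 0 ∧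
          A = Subgroup.closure {g : ↥(Cfsg.SU (n + 2) F q) |
            (∀ v : Fin (n + 2) → F, ∃ c : F, ((g : Matrix.SpecialLinearGroup (Fin (n + 2)) F) : Matrix (Fin (n + 2)) (Fin (n + 2)) F) *ᵥ v = v + c • p) ∧
            ∀ v : Fin (n + 2) → F, Cfsg.hermForm (n + 2) F q v p = 0 →
              ((g : Matrix.SpecialLinearGroup (Fin (n + 2)) F) : Matrix (Fin (n + 2)) (Fin (n + 2)) F) *ᵥ v = v}}, B)) ''
      {A : Subgroup ↥(Cfsg.SU (n + 2) F q) | ∃ p : Fin (n + 2) → F, p ≠ 0 ∧ Cfsg.hermForm (n + 2) F q p p = 0 ∧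
          A = Subgroup.closure {g : ↥(Cfsg.SU (n + 2) F q) |
            (∀ v : Fin (n + 2) → F, ∃ c : F, ((g : Matrix.SpecialLinearGroup (Fin (n + 2)) F) : Matrix (Fin (n + 2)) (Fin (n + 2)) F) *ᵥ v = v + c • p) ∧
            ∀ v : Fin (n + 2) → F, Cfsg.hermForm (n + 2) F q v p = 0 →
              ((g : Matrix.SpecialLinearGroup (Fin (n + 2)) F) : Matrix (Fin (n + 2)) (Fin (n + 2)) F) *ᵥ v = v}}) := by
  obtain ⟨C⟩ := nonempty_conj hF
  -- identify the transvection groups
  have hgen : ∀ P : Isotropic (n + 2) F q, Subgroup.closure {g : ↥(Cfsg.SU (n + 2) F q) |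
      (∀ v : Fin (n + 2) → F, ∃ c : F, mat g *ᵥ v = v + c • P.vec) ∧
      ∀ v : Fin (n + 2) → F, Cfsg.hermForm (n + 2) F q v P.vec = 0 → mat g *ᵥ v = v} = Tsub C P := by
    intro P
    refine le_antisymm ((Subgroup.closure_le _).2 ?_) fun g hg => Subgroup.subset_closure ?_
    · rintro g ⟨hg1, hg2⟩
      obtain ⟨x, hx⟩ := exists_dot_ne_zero (cj_ne C P.ne)
      rw [← herm_eq] at hx
      set u := (hermForm (n + 2) F q x P.vec)⁻¹ • x with hu
      have hu1 : hermForm (n + 2) F q u P.vec = 1 := by rw [hu, herm_smul_left, inv_mul_cancel₀ hx]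
      obtain ⟨c, hc⟩ := hg1 u
      refine ⟨c, ?_, mat_ext fun v => ?_⟩
      · have h' := (mem_SU.1 g.2) u u
        rw [hc] at h'
        simp only [herm_add_left, herm_add_right C, herm_smul_left, herm_smul_right C, P.iso, hu1,
          herm_swap C u P.vec, map_one, mul_one, mul_zero, add_zero] at h'
        linear_combination h'
      · rw [tvMat_mulVec, ← herm_eq]
        have h0 : hermForm (n + 2) F q (v + (-hermForm (n + 2) F q v P.vec) • u) P.vec = 0 := by
          rw [herm_add_left, herm_smul_left, hu1]; ring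
        have h' := hg2 _ h0
        rw [mulVec_add, mulVec_smul, hc] at h'
        have h'' := sub_eq_zero.2 h'
        rw [← sub_eq_zero, ← h'']
        module
    · obtain ⟨c, -, hg⟩ := hg
      refine ⟨fun v => ⟨c * (cj (q := q) P.vec ⬝ᵥ v), by rw [hg, tvMat_mulVec]⟩, fun v hv => ?_⟩
      rw [hg, tvMat_mulVec, ← herm_eq, hv, mul_zero, zero_smul, add_zero]
  have hset : {A : Subgroup ↥(Cfsg.SU (n + 2) F q) | ∃ p : Fin (n + 2) → F, p ≠ 0 ∧ Cfsg.hermForm (n + 2) F q p p = 0 ∧
          A = Subgroup.closure {g : ↥(Cfsg.SU (n + 2) F q) |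
            (∀ v : Fin (n + 2) → F, ∃ c : F, mat g *ᵥ v = v + c • p) ∧
            ∀ v : Fin (n + 2) → F, Cfsg.hermForm (n + 2) F q v p = 0 → mat g *ᵥ v = v}} =
      {A | ∃ P : Isotropic (n + 2) F q, A = Tsub C P} := by
    ext A
    constructor
    · rintro ⟨p, hp, hpp, rfl⟩
      exact ⟨⟨p, hp, hpp⟩, hgen ⟨p, hp, hpp⟩⟩
    · rintro ⟨P, rfl⟩
      exact ⟨P.vec, P.ne, P.iso, (hgen P).symm⟩
  rw [hset]
  change IsRootSubgroupClass ((fun A : Subgroup (SU (n + 2) F q) => A.subgroupOf (G0 C (n + 2))) '' _) ∧ _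
  set S := ((fun A : Subgroup (SU (n + 2) F q) => A.subgroupOf (G0 C (n + 2))) ''
    {A | ∃ P : Isotropic (n + 2) F q, A = Tsub C P}) with hS
  have hSmem : ∀ A, A ∈ S ↔ ∃ P, A = T0 C P := by
    intro A
    constructor
    · rintro ⟨_, ⟨P, rfl⟩, rfl⟩; exact ⟨P, rfl⟩
    · rintro ⟨P, rfl⟩; exact ⟨_, ⟨P, rfl⟩, rfl⟩
  -- the field
  let K : Subfield F :=
    { carrier := {x | C.φ x = x}
      mul_mem' := fun {a b} ha hb => by simp only [Set.mem_setOf_eq, map_mul] at *; rw [ha, hb]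
      one_mem' := map_one _
      add_mem' := fun {a b} ha hb => by simp only [Set.mem_setOf_eq, map_add] at *; rw [ha, hb]
      zero_mem' := map_zero _
      neg_mem' := fun {a} ha => by simp only [Set.mem_setOf_eq, map_neg] at *; rw [ha]
      inv_mem' := fun a ha => by simp only [Set.mem_setOf_eq, map_inv₀] at *; rw [ha] }
  let e : Fin q ≃ K := ((Finite.equivFin K).trans (finCongr C.card_fixed)).symm
  letI : Field (Fin q) := e.field
  let ι : Fin q →+* F := K.subtype.comp e.ringEquiv.toRingHom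
  have hι : ∀ x, C.φ (ι x) = ι x := fun x => (e x).2
  have hsurj : ∀ y, C.φ y = y → ∃ x, ι x = y := fun y hy =>
    ⟨e.symm ⟨y, hy⟩, by show ((e (e.symm ⟨y, hy⟩) : K) : F) = y; rw [Equiv.apply_symm_apply]⟩
  have hpair : ∀ P R : Isotropic (n + 2) F q,
      (⁅T0 C P, T0 C R⁆ = ⊥) ∨ (IsRankOnePair (T0 C P) (T0 C R) ∧ IsPSL2PairOver (Fin q) (T0 C P) (T0 C R) ∧
        ∃ φ : SpecialLinearGroup (Fin 2) (Fin q) →* G0 C (n + 2), Function.Injective φ ∧
          (upperUnipotentSL2 (Fin q)).map φ = T0 C P ∧ (lowerUnipotentSL2 (Fin q)).map φ = T0 C R) := by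
    intro P R
    by_cases h : hermForm (n + 2) F q R.vec P.vec = 0
    · exact Or.inl (T0_commute C P R h)
    · obtain ⟨φ, hφ, h1, h2⟩ := T0_pair C ι hι hsurj P R h
      refine Or.inr ⟨?_, ?_, φ, hφ, h1, h2⟩ <;> rw [← h1, ← h2]
      · exact r1_of_sl2 φ hφ
      · exact psl2_of_sl2 φ hφ
  have hconj : ∀ (P : Isotropic (n + 2) F q) (g : SU (n + 2) F q), ∃ R, Cfsg.conjBy (Tsub C P) g = Tsub C R := by
    intro P g
    let R : Isotropic (n + 2) F q := ⟨mat g *ᵥ P.vec, mulVec_ne_zero _ P.ne, by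
      rw [(mem_SU.1 g.2)]; exact P.iso⟩
    refine ⟨R, ?_⟩
    have hmat : ∀ c, mat g * tvMat P.vec (cj (q := q) P.vec) c * mat g⁻¹ = tvMat R.vec (cj (q := q) R.vec) c := by
      intro c
      refine mat_ext fun x => ?_
      rw [← mulVec_mulVec, ← mulVec_mulVec, tvMat_mulVec, tvMat_mulVec, mulVec_add, mulVec_smul,
        mulVec_mulVec]
      have h1 : mat g * mat g⁻¹ = 1 := sl_mul_inv (g : SpecialLinearGroup (Fin (n + 2)) F)
      rw [h1, one_mulVec, ← herm_eq, ← herm_eq]
      congr 2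
      show c * hermForm (n + 2) F q _ P.vec = c * hermForm (n + 2) F q x (mat g *ᵥ P.vec)
      rw [← (mem_SU.1 g.2) _ P.vec, mulVec_mulVec, h1, one_mulVec]
    ext x
    rw [mem_conjBy]
    constructor
    · rintro ⟨c, hc, hx⟩
      refine ⟨c, hc, ?_⟩
      calc mat x = mat (g * (g⁻¹ * x * g) * g⁻¹) := by rw [show g * (g⁻¹ * x * g) * g⁻¹ = x by group]
        _ = mat g * mat (g⁻¹ * x * g) * mat g⁻¹ := rfl
        _ = _ := by rw [hx, hmat]
    · rintro ⟨c, hc, hx⟩
      refine ⟨c, hc, ?_⟩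
      show mat g⁻¹ * mat x * mat g = _
      rw [hx, ← hmat]
      have h1 : mat g⁻¹ * mat g = 1 := sl_inv_mul (g : SpecialLinearGroup (Fin (n + 2)) F)
      simp only [mul_assoc, h1, mul_one]
      rw [← mul_assoc, h1, one_mul]
  have hcomm : ∀ P : Isotropic (n + 2) F q, IsMulCommutative (T0 C P) := fun P =>
    ⟨⟨fun a b => Subtype.ext (CfsgLib.RootSub.commutator_eq_bot_iff.1 (T0_commute C P P P.iso) a a.2 b b.2)⟩⟩
  have hroot : IsRootSubgroupSet S := by
    refine ⟨?_, ?_, ?_, ?_, ?_⟩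
    · intro A hA
      obtain ⟨P, rfl⟩ := (hSmem A).1 hA
      exact hcomm P
    · intro A hA
      obtain ⟨P, rfl⟩ := (hSmem A).1 hA
      exact T0_ne_bot C P
    · rw [eq_top_iff]
      intro x _
      have hle : G0 C (n + 2) ≤ (⨆ A ∈ S, A).map (G0 C (n + 2)).subtype := by
        refine iSup₂_le ?_
        rintro _ ⟨P, rfl⟩
        intro y hy
        exact ⟨⟨y, Tsub_le C P hy⟩, Subgroup.mem_iSup_of_mem (T0 C P)
          (Subgroup.mem_iSup_of_mem ((hSmem _).2 ⟨P, rfl⟩) hy), rfl⟩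
      obtain ⟨y, hy, hyx⟩ := hle x.2
      rwa [← Subtype.ext hyx]
    · intro A hA g
      obtain ⟨P, rfl⟩ := (hSmem A).1 hA
      obtain ⟨R, hR⟩ := hconj P (g : SU (n + 2) F q)
      refine (hSmem _).2 ⟨R, ?_⟩
      ext x
      rw [mem_conjBy]
      show ((g⁻¹ * x * g : G0 C (n + 2)) : SU (n + 2) F q) ∈ Tsub C P ↔ (x : SU (n + 2) F q) ∈ Tsub C R
      rw [← hR, mem_conjBy]
      rfl
    · intro A hA B hB
      obtain ⟨P, rfl⟩ := (hSmem A).1 hA
      obtain ⟨R, rfl⟩ := (hSmem B).1 hB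
      rcases hpair P R with h | h
      · exact Or.inl h
      · exact Or.inr (Or.inl h.1)
  have hne : S.Nonempty := by
    obtain ⟨a, ha⟩ := C.norm_surj
    refine ⟨T0 C ⟨Fin.cons 1 (Fin.cons a 0), ?_, ?_⟩, (hSmem _).2 ⟨_, rfl⟩⟩
    · intro h
      have := congrFun h 0
      simp at this
    · rw [hermForm, Fin.sum_univ_succ, Fin.sum_univ_succ]
      rw [C.apply] at ha
      simp [ha, zero_pow (show q ≠ 0 by have := C.two_le; omega)]
  have hcon : IsConnectedFamily (FAdj S) S := by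
    intro A hA B hB
    obtain ⟨P, rfl⟩ := (hSmem A).1 hA
    obtain ⟨R, rfl⟩ := (hSmem B).1 hB
    by_cases hdep : ∃ a : F, a ≠ 0 ∧ R.vec = a • P.vec
    · obtain ⟨a, ha, he⟩ := hdep
      rw [show T0 C R = T0 C P from congrArg (fun A => A.subgroupOf (G0 C (n + 2))) (Tsub_congr C P R ha he)]
    · have hindep : ∀ c : F, cj (q := q) R.vec ≠ c • cj (q := q) P.vec := by
        intro c h
        by_cases hc : c = 0
        · exact cj_ne C R.ne (by rw [h, hc, zero_smul])
        refine hdep ⟨C.φ c, fun e => hc (C.φ.injective (e.trans (map_zero _).symm)), funext fun i => ?_⟩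
        have := congrArg C.φ (congrFun h i)
        simpa [cj, ← C.apply, C.invol] using this
      obtain ⟨u, hu1, hu2⟩ := exists_common_one (cj_ne C P.ne) hindep
      rw [← herm_eq] at hu1 hu2
      obtain ⟨c, hc⟩ := C.trace_surj (-hermForm (n + 2) F q u u) (by rw [map_neg, ← herm_swap C])
      set w := u + c • P.vec with hw
      have hwP : hermForm (n + 2) F q w P.vec = 1 := by
        rw [hw, herm_add_left, herm_smul_left, P.iso, hu1]; ring
      have hw0 : w ≠ 0 := fun h => by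
        rw [h, herm_eq, dotProduct_zero] at hwP
        exact zero_ne_one hwP
      let W : Isotropic (n + 2) F q := ⟨w, hw0, by
        simp only [hw, herm_add_left, herm_add_right C, herm_smul_left, herm_smul_right C, P.iso, hu1,
          herm_swap C u P.vec, map_one]
        linear_combination hc⟩
      by_cases hPR : hermForm (n + 2) F q R.vec P.vec = 0
      · have hwR : hermForm (n + 2) F q W.vec R.vec ≠ 0 := by
          show hermForm (n + 2) F q w R.vec ≠ 0
          rw [hw, herm_add_left, herm_smul_left, hu2, herm_swap C R.vec P.vec, hPR, map_zero, mul_zero,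
            add_zero]
          exact one_ne_zero
        have adj : ∀ X Y : Isotropic (n + 2) F q, hermForm (n + 2) F q Y.vec X.vec ≠ 0 →
            FAdj S (T0 C X) (T0 C Y) := by
          intro X Y h
          refine ⟨(hSmem _).2 ⟨X, rfl⟩, (hSmem _).2 ⟨Y, rfl⟩, ?_⟩
          obtain ⟨φ, hφ, h1, h2⟩ := T0_pair C ι hι hsurj X Y h
          rw [← h1, ← h2]
          exact r1_of_sl2 φ hφ
        exact Relation.ReflTransGen.head (adj P W (by show hermForm (n + 2) F q w P.vec ≠ 0; rw [hwP]; exact one_ne_zero))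
          (Relation.ReflTransGen.single (adj W R (by
            rw [herm_swap C]
            exact fun e => hwR (C.φ.injective (e.trans (map_zero _).symm)))))
      · obtain ⟨φ, hφ, h1, h2⟩ := T0_pair C ι hι hsurj P R hPR
        exact Relation.ReflTransGen.single ⟨hA, hB, h1 ▸ h2 ▸ r1_of_sl2 φ hφ⟩
  refine ⟨⟨hroot, rs_class_of_connected hne hcon⟩, ?_,
    ⟨Fin q, inferInstance, inferInstance, Fintype.card_fin q, hroot, ?_⟩, hcon⟩
  · intro A hA B hB
    obtain ⟨P, rfl⟩ := (hSmem A).1 hA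
    obtain ⟨R, rfl⟩ := (hSmem B).1 hB
    rintro ⟨hmem, hcen, -, -⟩
    rcases hpair P R with h | ⟨-, -, φ, hφ, h1, h2⟩
    · exact hroot.ne_bot _ hmem h
    rw [← h1, ← h2] at hcen
    have hK : ⁅slU (1 : Fin q), slL (1 : Fin q)⁆ * slU 1 = slU 1 * ⁅slU (1 : Fin q), slL (1 : Fin q)⁆ := by
      apply hφ
      rw [map_mul, map_mul]
      exact hcen _ (by
        rw [map_commutatorElement]
        exact Subgroup.commutator_mem_commutator ⟨_, slU_mem 1, rfl⟩ ⟨_, slL_mem 1, rfl⟩) _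
        (Subgroup.mem_sup_left ⟨_, slU_mem 1, rfl⟩)
    rw [commutatorElement_def, ← slU_neg, ← slL_neg] at hK
    have := congrArg (fun g : SpecialLinearGroup (Fin 2) (Fin q) => (g : Matrix (Fin 2) (Fin 2) (Fin q)) 1 1) hK
    simp [slU_val, slL_val, Matrix.mul_fin_two] at this
  · intro A hA B hB hr
    obtain ⟨P, rfl⟩ := (hSmem A).1 hA
    obtain ⟨R, rfl⟩ := (hSmem B).1 hB
    rcases hpair P R with h | h
    · exact absurd hr (not_r1_of_commute h)
    · exact h.2.1

end Cfsg.Agent.S5071
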