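import Cfsg.Statements.S5072
import Cfsg.Agent.Lib.RootSub.SiegelGraph

set_option autoImplicit false
open Matrix
open Cfsg

namespace Cfsg.Agent.S5072

open CfsgLib.RootSub CfsgLib.RootSub.Siegel
open scoped commutatorElement

section Generic

variable {G : Type*} [Group G]

theorem not_r1_of_rootCommutatorCase {S : Set (Subgroup G)} {A B : Subgroup G}
    (hB : IsMulCommutative B) (h : RootCommutatorCase S A B) : ¬ IsRankOnePair A B := by
  intro hr
  refine r1_left_ne_bot hr (eq_bot_iff.2 fun a ha => ?_)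
  by_contra ha1
  rw [Subgroup.mem_bot] at ha1
  obtain ⟨b, hb, -, he⟩ := hr.cond_left a ha ha1
  have hmem : b⁻¹ * a * b ∈ conjBy B a⁻¹ := he ▸ conj_mem_conjBy_inv ha
  rw [mem_conjBy, inv_inv] at hmem
  set c := a⁻¹ * b⁻¹ * a * b with hc
  have hcm : c ∈ ⁅A, B⁆ := by
    have := Subgroup.commutator_mem_commutator (inv_mem ha) (inv_mem hb)
    rwa [commutatorElement_def, inv_inv, inv_inv] at this
  have hca : ∀ x ∈ A ⊔ B, c * x = x * c := h.2.1 c hcm
  have hac : a * c ∈ B := by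
    have e : a * (b⁻¹ * a * b) * a⁻¹ = a * c := by
      calc a * (b⁻¹ * a * b) * a⁻¹ = a * (a * c) * a⁻¹ := by rw [hc]; group
        _ = a * (c * a) * a⁻¹ := by rw [hca a (Subgroup.mem_sup_left ha)]
        _ = a * c := by group
    rwa [e] at hmem
  refine ha1 (r1_eq_one_of_normalizes hr ha (conjBy_of_commutes fun y hy => ?_))
  calc a * y = a * c * (c⁻¹ * y) := by group
    _ = a * c * (y * c⁻¹) := by
        rw [show c⁻¹ * y = y * c⁻¹ from
          (Commute.inv_left (hca y (Subgroup.mem_sup_right hy))).eq]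
    _ = y * (a * c) * c⁻¹ := by rw [← mul_assoc, mul_comm_of_commutative hB hac hy]
    _ = y * a := by group

variable (K : Subgroup G)

theorem map_subgroupOf_of_le {A : Subgroup G} (hA : A ≤ K) : (A.subgroupOf K).map K.subtype = A := by
  rw [Subgroup.subgroupOf_map_subtype, inf_eq_left.2 hA]

theorem commutator_subgroupOf {A B : Subgroup G} (hA : A ≤ K) (hB : B ≤ K) :
    ⁅A.subgroupOf K, B.subgroupOf K⁆ = ⁅A, B⁆.subgroupOf K := by
  refine Subgroup.map_injective K.subtype_injective ?_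
  rw [Subgroup.map_commutator, map_subgroupOf_of_le K hA, map_subgroupOf_of_le K hB,
    map_subgroupOf_of_le K]
  rw [Subgroup.commutator_le]
  exact fun x hx y hy => mul_mem (mul_mem (mul_mem (hA hx) (hB hy)) (inv_mem (hA hx))) (inv_mem (hB hy))

theorem commute_transfer {A B : Subgroup G} (hA : A ≤ K) (hB : B ≤ K) (h : ⁅A, B⁆ = ⊥) :
    ⁅A.subgroupOf K, B.subgroupOf K⁆ = ⊥ := by
  rw [commutator_subgroupOf K hA hB, h, Subgroup.bot_subgroupOf]

theorem cc_transfer {S : Set (Subgroup G)} {A B : Subgroup G} (hA : A ≤ K) (hB : B ≤ K)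
    (h : RootCommutatorCase S A B) :
    RootCommutatorCase ((fun C : Subgroup G => C.subgroupOf K) '' S) (A.subgroupOf K) (B.subgroupOf K) := by
  obtain ⟨h1, h2, h3, h4⟩ := h
  have hle : ⁅A, B⁆ ≤ K := by
    rw [Subgroup.commutator_le]
    exact fun x hx y hy => mul_mem (mul_mem (mul_mem (hA hx) (hB hy)) (inv_mem (hA hx))) (inv_mem (hB hy))
  rw [RootCommutatorCase, commutator_subgroupOf K hA hB]
  refine ⟨⟨_, h1, rfl⟩, fun c hc x hx => Subtype.ext (h2 c hc x ?_), fun a ha ha1 => ?_, fun b hb hb1 => ?_⟩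
  · have := Subgroup.mem_map_of_mem K.subtype hx
    rwa [Subgroup.map_sup, map_subgroupOf_of_le K hA, map_subgroupOf_of_le K hB] at this
  · refine Subgroup.map_injective K.subtype_injective ?_
    rw [map_subgroupOf_of_le K hle, MonoidHom.map_closure, ← h3 a ha (fun e => ha1 (Subtype.ext e))]
    congr 1
    ext z
    simp only [Set.mem_image, SetLike.mem_coe, Subgroup.mem_subgroupOf]
    exact ⟨fun ⟨_, ⟨y, hy, hy'⟩, hz⟩ => ⟨y, hy, by rw [← hz, ← hy']; rfl⟩,
      fun ⟨y, hy, hz⟩ => ⟨_, ⟨⟨y, hB hy⟩, hy, rfl⟩, hz⟩⟩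
  · refine Subgroup.map_injective K.subtype_injective ?_
    rw [map_subgroupOf_of_le K hle, MonoidHom.map_closure, ← h4 b hb (fun e => hb1 (Subtype.ext e))]
    congr 1
    ext z
    simp only [Set.mem_image, SetLike.mem_coe, Subgroup.mem_subgroupOf]
    exact ⟨fun ⟨_, ⟨y, hy, hy'⟩, hz⟩ => ⟨y, hy, by rw [← hz, ← hy']; rfl⟩,
      fun ⟨y, hy, hz⟩ => ⟨_, ⟨⟨y, hA hy⟩, hy, rfl⟩, hz⟩⟩

theorem conjBy_subgroupOf (A : Subgroup G) (g : K) :
    conjBy (A.subgroupOf K) g = (conjBy A (g : G)).subgroupOf K := by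
  ext x
  rw [mem_conjBy, Subgroup.mem_subgroupOf, Subgroup.mem_subgroupOf, mem_conjBy]
  rfl

theorem sl2_transfer {k : Type*} [Field k] (φ : SpecialLinearGroup (Fin 2) k →* G)
    (hφ : Function.Injective φ) {A B : Subgroup G} (hA : A ≤ K) (hB : B ≤ K)
    (e1 : (upperUnipotentSL2 k).map φ = A) (e2 : (lowerUnipotentSL2 k).map φ = B) :
    IsRankOnePair (A.subgroupOf K) (B.subgroupOf K) ∧
      IsPSL2PairOver k (A.subgroupOf K) (B.subgroupOf K) := by
  have hr : ∀ x, φ x ∈ K := fun x => by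
    have h1 : φ.range ≤ K := by
      rw [MonoidHom.range_eq_map, ← sl2_sup_eq_top, Subgroup.map_sup, e1, e2]
      first | exact sup_le hA hB | exact sup_le hB hA
    exact h1 ⟨x, rfl⟩
  set ψ := φ.codRestrict K hr
  have hψ : Function.Injective ψ := fun x y h => hφ (congrArg Subtype.val h)
  have e1' : (upperUnipotentSL2 k).map ψ = A.subgroupOf K := by
    refine Subgroup.map_injective K.subtype_injective ?_
    rw [map_subgroupOf_of_le K hA, Subgroup.map_map, ← e1]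
    rfl
  have e2' : (lowerUnipotentSL2 k).map ψ = B.subgroupOf K := by
    refine Subgroup.map_injective K.subtype_injective ?_
    rw [map_subgroupOf_of_le K hB, Subgroup.map_map, ← e2]
    rfl
  rw [← e1', ← e2']
  exact ⟨r1_of_sl2 ψ hψ, psl2_of_sl2 ψ hψ⟩

end Generic

variable {M : ℕ} {F : Type*} [Field F]

/-- The image of a line under an isometry. -/
def lineAct (g : isometryGroup F (quadFormPlus M F)) (l : Line M F) : Line M F where
  p := mat g *ᵥ l.p
  r := mat g *ᵥ l.r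
  indep a b h := by
    refine l.indep a b (eq_of_bil fun w => ?_)
    rw [← iso_bil g, mulVec_add, mulVec_smul, mulVec_smul, h]
    simp [bil]
  pp := by rw [iso_Q, l.pp]
  rr := by rw [iso_Q, l.rr]
  pr := by rw [iso_bil, l.pr]

theorem mat_mul (g h : isometryGroup F (quadFormPlus M F)) : mat (g * h) = mat g * mat h := rfl

theorem conjBy_T (g : isometryGroup F (quadFormPlus M F)) (l : Line M F) :
    conjBy (T l) g = T (lineAct g l) := by
  have key : ∀ c, g * sv l c * g⁻¹ = sv (lineAct g l) c := by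
    intro c
    refine mul_inv_eq_iff_eq_mul.2 (mat_ext' (CfsgLib.RootSub.mat_ext fun x => ?_))
    rw [mat_mul, mat_mul, mat_sv, mat_sv, ← mulVec_mulVec, ← mulVec_mulVec, sMat_mulVec, sMat_mulVec]
    simp only [lineAct, iso_bil, mulVec_add, mulVec_smul, mulVec_sub]
  refine le_antisymm ?_ fun x hx => ?_
  · rintro x ⟨y, hy, rfl⟩
    obtain ⟨c, rfl⟩ := Siegel.mem_T.1 hy
    exact Siegel.mem_T.2 ⟨c, (key c).symm⟩
  · obtain ⟨c, rfl⟩ := Siegel.mem_T.1 hx
    rw [← key]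
    exact conj_mem_conjBy (sv_mem l c)

theorem T_comm (l : Line M F) : IsMulCommutative (T l) := by
  refine ⟨⟨fun a b => Subtype.ext ?_⟩⟩
  obtain ⟨c, hc⟩ := Siegel.mem_T.1 a.2
  obtain ⟨d, hd⟩ := Siegel.mem_T.1 b.2
  show (a : isometryGroup F (quadFormPlus M F)) * b = b * a
  rw [← hc, ← hd, sv_add, sv_add, add_comm]

theorem line_commutator_case {S : Set (Subgroup (isometryGroup F (quadFormPlus M F)))}
    (a b n : Line M F) (e : F) (he : e ≠ 0) (hn : T n ∈ S)
    (h1 : bil a.p n.p = 0) (h2 : bil a.p n.r = 0) (h3 : bil a.r n.p = 0) (h4 : bil a.r n.r = 0)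
    (h5 : bil b.p n.p = 0) (h6 : bil b.p n.r = 0) (h7 : bil b.r n.p = 0) (h8 : bil b.r n.r = 0)
    (hf : ∀ c d, sv a c * sv b d * (sv a c)⁻¹ * (sv b d)⁻¹ = sv n (c * d * e)) :
    RootCommutatorCase S (T a) (T b) := by
  have hcl1 : ∀ c : F, c ≠ 0 → Subgroup.closure ((fun y : isometryGroup F (quadFormPlus M F) =>
      sv a c * y * (sv a c)⁻¹ * y⁻¹) '' (T b : Set (isometryGroup F (quadFormPlus M F)))) = T n := by
    intro c hc
    refine le_antisymm ((Subgroup.closure_le _).2 ?_) fun g hg => ?_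
    · rintro _ ⟨y, hy, rfl⟩
      obtain ⟨d, rfl⟩ := Siegel.mem_T.1 hy
      exact Siegel.mem_T.2 ⟨_, (hf c d).symm⟩
    · obtain ⟨f, rfl⟩ := Siegel.mem_T.1 hg
      refine Subgroup.subset_closure ⟨sv b (f / (c * e)), sv_mem b _, ?_⟩
      show sv a c * sv b _ * (sv a c)⁻¹ * (sv b _)⁻¹ = _
      rw [hf]
      congr 1
      field_simp
  have hcl2 : ∀ d : F, d ≠ 0 → Subgroup.closure ((fun x : isometryGroup F (quadFormPlus M F) =>
      x * sv b d * x⁻¹ * (sv b d)⁻¹) '' (T a : Set (isometryGroup F (quadFormPlus M F)))) = T n := by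
    intro d hd
    refine le_antisymm ((Subgroup.closure_le _).2 ?_) fun g hg => ?_
    · rintro _ ⟨y, hy, rfl⟩
      obtain ⟨c, rfl⟩ := Siegel.mem_T.1 hy
      exact Siegel.mem_T.2 ⟨_, (hf c d).symm⟩
    · obtain ⟨f, rfl⟩ := Siegel.mem_T.1 hg
      refine Subgroup.subset_closure ⟨sv a (f / (d * e)), sv_mem a _, ?_⟩
      show sv a _ * sv b d * (sv a _)⁻¹ * (sv b d)⁻¹ = _
      rw [hf]
      congr 1
      field_simp
  have heq : ⁅T a, T b⁆ = T n := by
    refine le_antisymm ?_ ?_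
    · rw [Subgroup.commutator_le]
      intro x hx y hy
      obtain ⟨c, rfl⟩ := Siegel.mem_T.1 hx
      obtain ⟨d, rfl⟩ := Siegel.mem_T.1 hy
      exact Siegel.mem_T.2 ⟨_, (hf c d).symm⟩
    · rw [← hcl1 1 one_ne_zero, Subgroup.closure_le]
      rintro _ ⟨y, hy, rfl⟩
      exact Subgroup.commutator_mem_commutator (sv_mem a _) hy
  have ca := T_commute_of_zero a n h1 h2 h3 h4
  have cb := T_commute_of_zero b n h5 h6 h7 h8
  rw [CfsgLib.RootSub.commutator_eq_bot_iff] at ca cb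
  refine ⟨heq ▸ hn, ?_, ?_, ?_⟩
  · rw [heq]
    intro z hz
    have hle : T a ⊔ T b ≤ Subgroup.centralizer {z} := by
      refine sup_le ?_ ?_ <;> intro x hx <;> rw [Subgroup.mem_centralizer_singleton_iff]
      · exact ca x hx z hz
      · exact cb x hx z hz
    intro x hx
    exact (Subgroup.mem_centralizer_singleton_iff.1 (hle hx)).symm
  · intro x hx hx1
    obtain ⟨c, rfl⟩ := Siegel.mem_T.1 hx
    rw [heq]
    exact hcl1 c fun h => hx1 (by rw [h, sv_zero])
  · intro x hx hx1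
    obtain ⟨d, rfl⟩ := Siegel.mem_T.1 hx
    rw [heq]
    exact hcl2 d fun h => hx1 (by rw [h, sv_zero])

theorem root_set_and_connected (hM : 3 ≤ M) (S : Set (Subgroup (isometryGroup F (quadFormPlus M F))))
    (hS : S = {A | ∃ l : Line M F, A = T l}) :
    IsKRootSubgroupSet F ((fun A => A.subgroupOf (⨆ B ∈ S, B)) '' S) ∧
      IsConnectedFamily (FAdj S) S := by
  set K := ⨆ B ∈ S, B with hK
  have hle : ∀ A ∈ S, A ≤ K := fun A hA => le_iSup₂_of_le A hA le_rfl
  have hT : ∀ l : Line M F, T l ∈ S := fun l => hS ▸ ⟨l, rfl⟩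
  have hmem : ∀ A ∈ S, ∃ l : Line M F, A = T l := fun A hA => by rwa [hS] at hA
  have hcomm : ∀ l : Line M F, IsMulCommutative ((T l).subgroupOf K) := fun l =>
    ⟨⟨fun a b => Subtype.ext (Subtype.ext (mul_comm_of_commutative (T_comm l)
      (a := ((a : K) : isometryGroup F (quadFormPlus M F))) (b := ((b : K) : isometryGroup F (quadFormPlus M F)))
      a.2 b.2))⟩⟩
  have htri : ∀ l l' : Line M F,
      ⁅(T l).subgroupOf K, (T l').subgroupOf K⁆ = ⊥ ∨
      (IsRankOnePair ((T l).subgroupOf K) ((T l').subgroupOf K) ∧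
        IsPSL2PairOver F ((T l).subgroupOf K) ((T l').subgroupOf K)) ∨
      RootCommutatorCase ((fun A => A.subgroupOf K) '' S) ((T l).subgroupOf K) ((T l').subgroupOf K) := by
    intro l l'
    rcases pair_cases l l' with h | ⟨φ, hφ, e1, e2⟩ |
      ⟨a, b, n, e, he, ha, hb, -, h1, h2, h3, h4, h5, h6, h7, h8, hf⟩
    · exact Or.inl (commute_transfer K (hle _ (hT l)) (hle _ (hT l')) h)
    · exact Or.inr (Or.inl (sl2_transfer K φ hφ (hle _ (hT l)) (hle _ (hT l')) e1 e2))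
    · refine Or.inr (Or.inr (cc_transfer K (hle _ (hT l)) (hle _ (hT l')) ?_))
      rw [← ha, ← hb]
      exact line_commutator_case a b n e he (hT n) h1 h2 h3 h4 h5 h6 h7 h8 hf
  refine ⟨⟨⟨?_, ?_, ?_, ?_, ?_⟩, ?_⟩, ?_⟩
  · rintro _ ⟨A, hA, rfl⟩
    obtain ⟨l, rfl⟩ := hmem A hA
    exact hcomm l
  · rintro _ ⟨A, hA, rfl⟩ h
    obtain ⟨l, rfl⟩ := hmem A hA
    replace h : (T l).subgroupOf K = ⊥ := h
    exact T_ne_bot l (by rw [← map_subgroupOf_of_le K (hle _ hA), h, Subgroup.map_bot])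
  · refine Subgroup.map_injective K.subtype_injective ?_
    rw [iSup_image, Subgroup.map_iSup, ← MonoidHom.range_eq_map, Subgroup.range_subtype]
    refine le_antisymm (iSup_le fun A => ?_) (iSup₂_le fun A hA => ?_)
    · rw [Subgroup.map_iSup]
      exact iSup_le fun hA => (map_subgroupOf_of_le K (hle A hA)).le.trans (hle A hA)
    · refine le_iSup_of_le A ?_
      rw [Subgroup.map_iSup]
      exact le_iSup_of_le hA (map_subgroupOf_of_le K (hle A hA)).ge
  · rintro _ ⟨A, hA, rfl⟩ g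
    obtain ⟨l, rfl⟩ := hmem A hA
    exact ⟨T (lineAct (g : isometryGroup F (quadFormPlus M F)) l), hT _, by
      rw [conjBy_subgroupOf, conjBy_T]⟩
  · rintro _ ⟨A, hA, rfl⟩ _ ⟨B, hB, rfl⟩
    obtain ⟨l, rfl⟩ := hmem A hA
    obtain ⟨l', rfl⟩ := hmem B hB
    exact (htri l l').imp_right (Or.imp_left And.left)
  · rintro _ ⟨A, hA, rfl⟩ _ ⟨B, hB, rfl⟩ hr
    obtain ⟨l, rfl⟩ := hmem A hA
    obtain ⟨l', rfl⟩ := hmem B hB
    rcases htri l l' with h | h | h
    · exact absurd hr (not_r1_of_commute h)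
    · exact h.2
    · exact absurd hr (not_r1_of_rootCommutatorCase (hcomm l') h)
  · intro A hA B hB
    obtain ⟨l, rfl⟩ := hmem A hA
    obtain ⟨l', rfl⟩ := hmem B hB
    obtain ⟨n, hn, hn'⟩ := exists_opposite hM l l'
    obtain ⟨φ, hφ, e1, e2⟩ := opposite_sl2 l n hn
    obtain ⟨ψ, hψ, f1, f2⟩ := opposite_sl2 l' n hn'
    have r1 : IsRankOnePair (T l) (T n) := e1 ▸ e2 ▸ r1_of_sl2 φ hφ
    have r2 : IsRankOnePair (T n) (T l') := r1_symm (f1 ▸ f2 ▸ r1_of_sl2 ψ hψ)
    exact Relation.ReflTransGen.head ⟨hA, hT n, r1⟩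
      (Relation.ReflTransGen.single ⟨hT n, hB, r2⟩)

/-- Let F be a field, m a natural number and V = F^{2(m+3)} with the hyperbolic quadratic form q(x, y) = Σ xᵢ yᵢ (non-degenerate, Witt index m + 3 ≥ 3). For a singular line ℓ (a 2-dimensional subspace on which q vanishes) let T(ℓ) be the group of isometries of q fixing every vector of ℓ^⊥ (the Siegel transvection group of ℓ), let Σ be the set of these groups and G₀ the subgroup they generate. Then, viewed inside G₀, the members of Σ form a set of abstract F-root subgroups of G₀ (any two commute, or are the unipotent subgroups of a rank one group that is an image of SL₂(F) with central kernel, or satisfy the commutator case), and their graph of rank one pairs is connected. -/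
theorem result (F : Type*) [Field F] (m : ℕ) :
    Cfsg.IsKRootSubgroupSet F ((fun A : Subgroup ↥(Cfsg.isometryGroup F (Cfsg.quadFormPlus (m + 3) F)) => A.subgroupOf (⨆ B ∈ {A : Subgroup ↥(Cfsg.isometryGroup F (Cfsg.quadFormPlus (m + 3) F)) | ∃ p r : Fin (m + 3) ⊕ Fin (m + 3) → F, LinearIndependent F ![p, r] ∧
          Cfsg.quadFormPlus (m + 3) F p = 0 ∧ Cfsg.quadFormPlus (m + 3) F r = 0 ∧
          Cfsg.quadFormPlus (m + 3) F (p + r) = 0 ∧
          A = Subgroup.closure {σ : ↥(Cfsg.isometryGroup F (Cfsg.quadFormPlus (m + 3) F)) | ∀ v : Fin (m + 3) ⊕ Fin (m + 3) → F,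
            Cfsg.quadFormPlus (m + 3) F (v + p) - Cfsg.quadFormPlus (m + 3) F v - Cfsg.quadFormPlus (m + 3) F p = 0 →
            Cfsg.quadFormPlus (m + 3) F (v + r) - Cfsg.quadFormPlus (m + 3) F v - Cfsg.quadFormPlus (m + 3) F r = 0 →
              ((σ : Matrix.GeneralLinearGroup (Fin (m + 3) ⊕ Fin (m + 3)) F) : Matrix (Fin (m + 3) ⊕ Fin (m + 3)) (Fin (m + 3) ⊕ Fin (m + 3)) F) *ᵥ v = v}}, B)) ''
      {A : Subgroup ↥(Cfsg.isometryGroup F (Cfsg.quadFormPlus (m + 3) F)) | ∃ p r : Fin (m + 3) ⊕ Fin (m + 3) → F, LinearIndependent F ![p, r] ∧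
          Cfsg.quadFormPlus (m + 3) F p = 0 ∧ Cfsg.quadFormPlus (m + 3) F r = 0 ∧
          Cfsg.quadFormPlus (m + 3) F (p + r) = 0 ∧
          A = Subgroup.closure {σ : ↥(Cfsg.isometryGroup F (Cfsg.quadFormPlus (m + 3) F)) | ∀ v : Fin (m + 3) ⊕ Fin (m + 3) → F,
            Cfsg.quadFormPlus (m + 3) F (v + p) - Cfsg.quadFormPlus (m + 3) F v - Cfsg.quadFormPlus (m + 3) F p = 0 →
            Cfsg.quadFormPlus (m + 3) F (v + r) - Cfsg.quadFormPlus (m + 3) F v - Cfsg.quadFormPlus (m + 3) F r = 0 →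
              ((σ : Matrix.GeneralLinearGroup (Fin (m + 3) ⊕ Fin (m + 3)) F) : Matrix (Fin (m + 3) ⊕ Fin (m + 3)) (Fin (m + 3) ⊕ Fin (m + 3)) F) *ᵥ v = v}}) ∧
    Cfsg.IsConnectedFamily (Cfsg.FAdj {A : Subgroup ↥(Cfsg.isometryGroup F (Cfsg.quadFormPlus (m + 3) F)) | ∃ p r : Fin (m + 3) ⊕ Fin (m + 3) → F, LinearIndependent F ![p, r] ∧
          Cfsg.quadFormPlus (m + 3) F p = 0 ∧ Cfsg.quadFormPlus (m + 3) F r = 0 ∧
          Cfsg.quadFormPlus (m + 3) F (p + r) = 0 ∧
          A = Subgroup.closure {σ : ↥(Cfsg.isometryGroup F (Cfsg.quadFormPlus (m + 3) F)) | ∀ v : Fin (m + 3) ⊕ Fin (m + 3) → F,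
            Cfsg.quadFormPlus (m + 3) F (v + p) - Cfsg.quadFormPlus (m + 3) F v - Cfsg.quadFormPlus (m + 3) F p = 0 →
            Cfsg.quadFormPlus (m + 3) F (v + r) - Cfsg.quadFormPlus (m + 3) F v - Cfsg.quadFormPlus (m + 3) F r = 0 →
              ((σ : Matrix.GeneralLinearGroup (Fin (m + 3) ⊕ Fin (m + 3)) F) : Matrix (Fin (m + 3) ⊕ Fin (m + 3)) (Fin (m + 3) ⊕ Fin (m + 3)) F) *ᵥ v = v}})
      {A : Subgroup ↥(Cfsg.isometryGroup F (Cfsg.quadFormPlus (m + 3) F)) | ∃ p r : Fin (m + 3) ⊕ Fin (m + 3) → F, LinearIndependent F ![p, r] ∧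
          Cfsg.quadFormPlus (m + 3) F p = 0 ∧ Cfsg.quadFormPlus (m + 3) F r = 0 ∧
          Cfsg.quadFormPlus (m + 3) F (p + r) = 0 ∧
          A = Subgroup.closure {σ : ↥(Cfsg.isometryGroup F (Cfsg.quadFormPlus (m + 3) F)) | ∀ v : Fin (m + 3) ⊕ Fin (m + 3) → F,
            Cfsg.quadFormPlus (m + 3) F (v + p) - Cfsg.quadFormPlus (m + 3) F v - Cfsg.quadFormPlus (m + 3) F p = 0 →
            Cfsg.quadFormPlus (m + 3) F (v + r) - Cfsg.quadFormPlus (m + 3) F v - Cfsg.quadFormPlus (m + 3) F r = 0 →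
              ((σ : Matrix.GeneralLinearGroup (Fin (m + 3) ⊕ Fin (m + 3)) F) : Matrix (Fin (m + 3) ⊕ Fin (m + 3)) (Fin (m + 3) ⊕ Fin (m + 3)) F) *ᵥ v = v}} := by
  refine root_set_and_connected (M := m + 3) (by omega) _ ?_
  have hcl : ∀ l : Line (m + 3) F, Subgroup.closure
      {σ : isometryGroup F (quadFormPlus (m + 3) F) | ∀ v : Fin (m + 3) ⊕ Fin (m + 3) → F,
        quadFormPlus (m + 3) F (v + l.p) - quadFormPlus (m + 3) F v - quadFormPlus (m + 3) F l.p = 0 →
        quadFormPlus (m + 3) F (v + l.r) - quadFormPlus (m + 3) F v - quadFormPlus (m + 3) F l.r = 0 →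
          mat σ *ᵥ v = v} = T l := by
    intro l
    convert Subgroup.closure_eq (T l) using 2
    ext σ
    simp only [bil_eq, Set.mem_setOf_eq, SetLike.mem_coe]
    exact T_eq l σ
  ext A
  constructor
  · rintro ⟨p, r, hind, hp, hr, hpr, rfl⟩
    have hb : bil p r = 0 := by rw [← bil_eq, hp, hr, hpr]; ring
    exact ⟨⟨p, r, LinearIndependent.pair_iff.1 hind, hp, hr, hb⟩, hcl ⟨p, r, _, hp, hr, hb⟩⟩
  · rintro ⟨l, rfl⟩
    refine ⟨l.p, l.r, LinearIndependent.pair_iff.2 l.indep, l.pp, l.rr, ?_, (hcl l).symm⟩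
    rw [Q_add, l.pp, l.rr, l.pr]
    ring

end Cfsg.Agent.S5072
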