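import Cfsg.Statements.S5073
import Cfsg.Agent.Lib.RootSub.QPCore
import Cfsg.Agent.Lib.RootSub.Simple
import Cfsg.Agent.Lib.RootSub.Chain

set_option autoImplicit false
universe u
open Cfsg CfsgLib.RootSub

namespace Cfsg.Agent.S5073

/-- Let k be a field of characteristic not 2 with k not of order 3, M a finite-dimensional k-vector space and G ≤ GL(M) such that (G, M) is a quadratic pair (M irreducible for G, and G generated by its quadratically acting elements σ whose scalar family 1 + c(σ − 1), c ∈ k, lies in G). Write 𝒬_d for the quadratic elements of G of minimal commutator rank, E(σ) for the subgroup generated by the members of 𝒬_d with the same fixed space and commutator space as σ, and Σ for the set of these subgroups. Let E, F ∈ Σ. If some non-identity element of E commutes with some non-identity element of F, or some non-identity element of E normalizes F, then E and F commute elementwise. -/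
theorem result {k : Type u} [Field k] (hk2 : ringChar k ≠ 2) (hk3 : Nat.card k ≠ 3)
    {M : Type u} [AddCommGroup M] [Module k M] [FiniteDimensional k M]
    {G : Subgroup (LinearMap.GeneralLinearGroup k M)} (hG : Cfsg.IsQuadraticPair G)
    {E F : Subgroup (LinearMap.GeneralLinearGroup k M)} (hE : E ∈ Cfsg.quadraticRootSubgroups G) (hF : F ∈ Cfsg.quadraticRootSubgroups G)
    (h : (∃ e ∈ E, e ≠ 1 ∧ ∃ f ∈ F, f ≠ 1 ∧ e * f = f * e) ∨ E ⊓ Subgroup.normalizer (F : Set (LinearMap.GeneralLinearGroup k M)) ≠ ⊥) :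
    ⁅E, F⁆ = ⊥ := by
  have h2 : (2 : k) ≠ 0 := Ring.two_ne_zero hk2
  obtain ⟨σ, hσ', rfl⟩ := hE
  obtain ⟨τ, hτ', rfl⟩ := hF
  have hσ := qmin_iff.1 hσ'
  have hτ := qmin_iff.1 hτ'
  rcases h with ⟨e, he, he1, f, hf, hf1, hc⟩ | h
  · have he' := (mem_sas_iff hσ).1 he
    have hf' := (mem_sas_iff hτ).1 hf
    have hem := qcls_qmin hσ he' fun h0 => he1 (qmove_injective (h0.trans qmove_one.symm))
    have hfm := qcls_qmin hτ hf' fun h0 => hf1 (qmove_injective (h0.trans qmove_one.symm))
    rw [← sas_eq_of_cls hσ hem he', ← sas_eq_of_cls hτ hfm hf']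
    exact sas_commute h2 hk3 hem hfm (qp_commute_iff.1 hc)
  · rcases qp_trichotomy h2 hk3 hG ⟨σ, hσ', rfl⟩ ⟨τ, hτ', rfl⟩ with ⟨hb, -⟩ | ⟨r, -⟩ | ⟨hb, cc, hu⟩
    · exact hb
    · refine absurd ?_ h
      rw [eq_bot_iff]
      rintro a ⟨ha, hn⟩
      exact Subgroup.mem_bot.2 (r1_eq_one_of_normalizes r.1 ha (conjBy_eq_iff_mem_normalizer.2 hn))
    · obtain ⟨a, ha, ha1⟩ := (Subgroup.bot_or_exists_ne_one _).resolve_left h
      have h0 : qmove σ * qmove τ * qmove σ = 0 := by
        by_contra h0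
        exact qp_pair_not_unipotent h2 hk3 hσ hτ h0 hu
      by_contra hne
      have hne' : qmove σ * qmove τ ≠ qmove τ * qmove σ := fun e => hne (sas_commute h2 hk3 hσ hτ e)
      have hle : ⁅sameActionSubgroup G σ, sameActionSubgroup G τ⁆ ≤ sameActionSubgroup G τ := by
        rw [← cc.2.2.1 a ha.1 ha1, Subgroup.closure_le]
        rintro _ ⟨b, hb', rfl⟩
        exact mul_mem ((Subgroup.mem_normalizer_iff.1 ha.2 b).1 hb') (inv_mem hb')
      have hR := qp_root_qmin h2 hk3 hσ hτ h0 hne'
      have hm : qmove (σ * τ * σ⁻¹ * τ⁻¹) ∈ qcls G (qmove τ) hτ.sq := (mem_sas_iff hτ).1 (hle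
        (Subgroup.commutator_mem_commutator ((mem_sas_iff hσ).2 hσ.self_mem) ((mem_sas_iff hτ).2 hτ.self_mem)))
      refine hne' (qp_commute_iff.1 ?_)
      refine (qp_root_commutes h2 hk3 hσ hτ h0 hne' (d := τ) ?_ (Subgroup.mem_sup_left
        ((mem_sas_iff hσ).2 hσ.self_mem))).symm
      rw [sas_eq_of_cls hτ hR hm]
      exact (mem_sas_iff hτ).2 hτ.self_mem

end Cfsg.Agent.S5073
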