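import Cfsg.Statements.S5088
import Cfsg.Agent.Lib.FusionQuot.NormalClosed

set_option autoImplicit false
open Cfsg

namespace Cfsg.Agent.S5088

/-- In a saturated fusion system over a finite p-group, a subgroup Q is normal in the system if and only if there is a chain of subgroups 1 = Q₀ ≤ Q₁ ≤ ⋯ ≤ Qₙ = Q such that each Qᵢ with i ≥ 1 is strongly closed in the system and [Q, Qᵢ] ≤ Qᵢ₋₁. -/
theorem result {Ω : Type*} [Group Ω] {S : Subgroup Ω} [Finite S] (p : ℕ) [Fact p.Prime] (hS : IsPGroup p S) (F : Cfsg.FusionSystem S) (hF : F.IsSaturated p) (Q : Subgroup Ω) : F.IsNormal Q ↔ ∃ (n : ℕ) (Qs : Fin (n + 1) → Subgroup Ω), Qs 0 = ⊥ ∧ Qs (Fin.last n) = Q ∧ Monotone Qs ∧ ∀ i : Fin n, F.StronglyClosed (Qs i.succ) ∧ ⁅Q, Qs i.succ⁆ ≤ Qs (Fin.castSucc i) := by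
  constructor
  · intro hQ
    obtain ⟨n, hn, hsc, hc⟩ := CfsgLib.FusionQuot.exists_series_of_isNormal hS hQ
    refine ⟨n, fun i => Q.lowerCentralSeries (n - i), by simpa using hn, by simp,
      fun i j hij => Q.lowerCentralSeries_antitone (by
        have : (i : ℕ) ≤ (j : ℕ) := hij
        omega), fun i => ⟨hsc _, ?_⟩⟩
    have := hc (n - ((i : ℕ) + 1))
    have hi := i.isLt
    rw [show n - ((i : ℕ) + 1) + 1 = n - (i : ℕ) by omega] at this
    simpa using this
  · rintro ⟨n, Qs, h0, hl, hm, hc⟩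
    have hsc : ∀ i : Fin (n + 1), F.StronglyClosed (Qs i) := fun i => by
      induction i using Fin.cases with
      | zero => rw [h0]; exact CfsgLib.FusionQuot.stronglyClosed_bot F
      | succ j => exact (hc j).1
    let A : ℕ → Subgroup Ω := fun i => Qs ⟨n - i, by omega⟩
    have hA : A 0 = Q := hl
    rw [← hA]
    refine CfsgLib.FusionQuot.isNormal_of_series hS hF A n ?_ (fun i hi => hm ?_) (fun i _ => hsc _) ?_
    · show Qs ⟨n - n, _⟩ = ⊥
      rw [← h0]
      congr 1
      ext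
      simp
    · exact Fin.mk_le_mk.2 (by omega)
    · intro i hi
      rw [hA]
      have := (hc ⟨n - i - 1, by omega⟩).2
      have e1 : A i = Qs (⟨n - i - 1, by omega⟩ : Fin n).succ :=
        congrArg Qs (Fin.ext (show n - i = n - i - 1 + 1 by omega))
      have e2 : A (i + 1) = Qs (Fin.castSucc ⟨n - i - 1, by omega⟩) :=
        congrArg Qs (Fin.ext (show n - (i + 1) = n - i - 1 by omega))
      rw [e1, e2]
      exact this

end Cfsg.Agent.S5088
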