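import Cfsg.Statements.S5089
import Cfsg.Agent.Lib.FusionQuot.NormalClosed

set_option autoImplicit false
open Cfsg

namespace Cfsg.Agent.S5089

/-- A saturated fusion system over a finite p-group has a nontrivial subgroup that is normal in the system (O_p(F) ≠ 1) if and only if some nontrivial abelian subgroup is strongly closed in the system. -/
theorem result {Ω : Type*} [Group Ω] {S : Subgroup Ω} [Finite S] (p : ℕ) [Fact p.Prime] (hS : IsPGroup p S) (F : Cfsg.FusionSystem S) (hF : F.IsSaturated p) : F.core ≠ ⊥ ↔ ∃ Q : Subgroup Ω, Q ≠ ⊥ ∧ IsMulCommutative Q ∧ F.StronglyClosed Q := by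
  constructor
  · intro h
    have hN := CfsgLib.FusionQuot.isNormal_core F
    refine ⟨_, CfsgLib.FusionQuot.inf_centralizer_ne_bot hS hN.1 h, ⟨⟨fun a b => Subtype.ext ?_⟩⟩,
      CfsgLib.FusionQuot.stronglyClosed_of_isNormal (CfsgLib.FusionQuot.isNormal_center_of_isNormal hN)⟩
    exact Subgroup.mem_centralizer_iff.1 b.2.2 _ a.2.1
  · rintro ⟨Q, hne, hab, hQ⟩ hcore
    refine hne (le_bot_iff.1 ?_)
    rw [← hcore]
    refine CfsgLib.FusionQuot.le_core F (CfsgLib.FusionQuot.isNormal_of_abelian hS hF hQ ?_)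
    rw [Subgroup.commutator_eq_bot_iff_le_centralizer]
    exact fun x hx => Subgroup.mem_centralizer_iff.2 fun y hy =>
      congrArg Subtype.val (hab.is_comm.comm (⟨y, hy⟩ : Q) ⟨x, hx⟩)

end Cfsg.Agent.S5089
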