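import Cfsg.Statements.S5102
import Cfsg.Agent.Lib.Fusion.Group

set_option autoImplicit false
open Cfsg

namespace Cfsg.Agent.S5102

/-- A normal p-subgroup of a finite group G is normal in the fusion system of G on a Sylow p-subgroup. -/
theorem result {G : Type*} [Group G] [Finite G] (p : ℕ) [Fact p.Prime] (S : Sylow p G) (R : Subgroup G) [R.Normal] (hR : IsPGroup p R) : (Cfsg.groupFusionSystem (S : Subgroup G)).IsNormal R := by
  have hRS : R ≤ (S : Subgroup G) := hR.le_sylow_of_normal S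
  refine ⟨hRS, fun P φ hφ => ?_⟩
  obtain ⟨hP, hφS, g, hg⟩ := hφ
  have hconj : ∀ x ∈ P ⊔ R, g * x * g⁻¹ ∈ (S : Subgroup G) := by
    have hle : P ⊔ R ≤ ((S : Subgroup G)).comap (MulAut.conj g).toMonoidHom :=
      sup_le (fun x hx => by have := hφS ⟨x, hx⟩; rw [hg] at this; exact this)
        (fun x hx => hRS (Subgroup.Normal.conj_mem ‹R.Normal› x hx g))
    exact fun x hx => hle hx
  refine ⟨Cfsg.conjHom (P ⊔ R) g,
    ⟨sup_le hP hRS, fun x => hconj x x.2, g, fun _ => rfl⟩, fun x => (hg x).symm, ?_⟩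
  ext y
  rw [CfsgLib.Fusion.mem_map_subgroupOf]
  constructor
  · rintro ⟨x, -, hx, rfl⟩
    exact Subgroup.Normal.conj_mem ‹R.Normal› x hx g
  · intro hy
    have hy' := Subgroup.Normal.conj_mem ‹R.Normal› y hy g⁻¹
    exact ⟨_, le_sup_right (a := P) hy', hy', by simp [CfsgLib.Fusion.conjHom_apply, mul_assoc]⟩

end Cfsg.Agent.S5102
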