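import Cfsg.Statements.S5105
import Cfsg.Agent.Lib.Fusion.Realized

set_option autoImplicit false
open Cfsg

namespace Cfsg.Agent.S5105

/-- Model Theorem, rigidity: if G is a model of a constrained fusion system over a finite p-group S (through ι : S → G), then every automorphism of G fixing ι(S) elementwise is conjugation by ι(z) for some z in the centre of S. -/
theorem result {Ω : Type*} [Group Ω] {S : Subgroup Ω} [Finite S] (p : ℕ) [Fact p.Prime] (hS : IsPGroup p S) (F : Cfsg.FusionSystem S) (hF : F.IsConstrained p) {G : Type*} [Group G] (ι : S →* G) (hG : F.IsModel p G ι) (ψ : G ≃* G) (hψ : ∀ x : S, ψ (ι x) = ι x) : ∃ z : S, z ∈ Subgroup.center S ∧ ∀ g : G, ψ g = ι z * g * (ι z)⁻¹ := by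
  classical
  have hfin : Finite G := hG.1
  obtain ⟨T, hT⟩ := hG.2.2.1
  have hι := hG.2.1
  set O := Cfsg.pCore p G
  have hOT : O ≤ ι.range := CfsgLib.Fusion.pCore_le_range hG
  have hn : O.Normal := CfsgLib.Solvable.pCore_normal p G
  set A := Subgroup.centralizer ((O : Subgroup G) : Set G) with hA
  have hAO : A ≤ O := hG.2.2.2
  have hψO : ∀ o ∈ O, ψ o = o := by
    intro o ho
    obtain ⟨x, rfl⟩ := hOT ho
    exact hψ x
  have hc : ∀ g : G, ψ g * g⁻¹ ∈ A := by
    intro g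
    rw [hA, Subgroup.mem_centralizer_iff]
    intro o ho
    have h1 : g⁻¹ * o * g ∈ O := by simpa using hn.conj_mem o ho g⁻¹
    have h2 := hψO _ h1
    rw [map_mul, map_mul, map_inv, hψO o ho] at h2
    calc o * (ψ g * g⁻¹) = ψ g * ((ψ g)⁻¹ * o * ψ g) * g⁻¹ := by simp [mul_assoc]
      _ = ψ g * (g⁻¹ * o * g) * g⁻¹ := by rw [h2]
      _ = ψ g * g⁻¹ * o := by simp [mul_assoc]
  have hAn : ∀ (g : G) (a : G), a ∈ A → g * a * g⁻¹ ∈ A := by
    intro g a ha
    rw [hA, Subgroup.mem_centralizer_iff] at ha ⊢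
    intro o ho
    have h1 : g⁻¹ * o * g ∈ O := by simpa using hn.conj_mem o ho g⁻¹
    have h2 := ha _ h1
    calc o * (g * a * g⁻¹) = g * (g⁻¹ * o * g * a) * g⁻¹ := by simp [mul_assoc]
      _ = g * (a * (g⁻¹ * o * g)) * g⁻¹ := by rw [h2]
      _ = g * a * g⁻¹ * o := by simp [mul_assoc]
  let _ : CommGroup A :=
    { (inferInstance : Group A) with
      mul_comm := fun a b => Subtype.ext
        (Subgroup.mem_centralizer_iff.1 b.2 a (hAO a.2)) }
  let _ : Fintype (G ⧸ (T : Subgroup G)) := Fintype.ofFinite _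
  let c : G → A := fun g => ⟨ψ g * g⁻¹, hc g⟩
  let act : G → A →* A := fun g =>
    { toFun := fun a => ⟨g * a * g⁻¹, hAn g a a.2⟩
      map_one' := Subtype.ext (by simp)
      map_mul' := fun a b => Subtype.ext (by simp [mul_assoc]) }
  have hcmul : ∀ g h, c (g * h) = c g * act g (c h) := fun g h =>
    Subtype.ext (by show ψ (g * h) * (g * h)⁻¹ = ψ g * g⁻¹ * (g * (ψ h * h⁻¹) * g⁻¹); simp [mul_assoc])
  have hψT : ∀ t ∈ (T : Subgroup G), ψ t = t := by
    intro t ht
    rw [hT] at ht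
    obtain ⟨x, rfl⟩ := ht
    exact hψ x
  have hwd : ∀ a b : G, a⁻¹ * b ∈ (T : Subgroup G) → c a = c b := by
    intro a b hab
    have h1 : ψ b = ψ a * (a⁻¹ * b) := by rw [← hψT _ hab, ← map_mul, mul_inv_cancel_left]
    exact Subtype.ext (by show ψ a * a⁻¹ = ψ b * b⁻¹; rw [h1]; simp [mul_assoc])
  let cq : G ⧸ (T : Subgroup G) → A := fun q => Quotient.liftOn' q c fun a b hab =>
    hwd a b (QuotientGroup.leftRel_apply.1 hab)
  set a := ∏ q, cq q with ha
  have hkey : ∀ g, c g ^ Nat.card (G ⧸ (T : Subgroup G)) = a * (act g a)⁻¹ := by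
    intro g
    rw [eq_mul_inv_iff_mul_eq, Nat.card_eq_fintype_card]
    calc c g ^ Fintype.card (G ⧸ (T : Subgroup G)) * act g a = ∏ q, c g * act g (cq q) := by
          rw [Finset.prod_mul_distrib, Finset.prod_const, Finset.card_univ, ha, map_prod]
      _ = ∏ q, cq (g • q) := Finset.prod_congr rfl fun q _ =>
          Quotient.inductionOn' q fun x => (hcmul g x).symm
      _ = a := Equiv.prod_comp (MulAction.toPerm g : Equiv.Perm (G ⧸ (T : Subgroup G))) cq
  have hcop : (Nat.card A).Coprime (Nat.card (G ⧸ (T : Subgroup G))) := by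
    obtain ⟨k, hk⟩ := IsPGroup.iff_card.1 ((CfsgLib.Solvable.pCore_isPGroup p G).to_le hAO)
    rw [hk]
    exact ((Fact.out : p.Prime).coprime_iff_not_dvd.2 T.not_dvd_index).pow_left k
  obtain ⟨b, hb⟩ : ∃ b : A, b ^ Nat.card (G ⧸ (T : Subgroup G)) = a :=
    ⟨_, (powCoprime hcop).apply_symm_apply a⟩
  have hconj : ∀ g, ψ g = b * g * (b : G)⁻¹ := by
    intro g
    have h1 : c g = b * (act g b)⁻¹ := (powCoprime hcop).injective (by
      show c g ^ _ = (b * (act g b)⁻¹) ^ _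
      rw [hkey g, mul_pow, inv_pow, ← map_pow, hb])
    have h2 : ψ g * g⁻¹ = b * (g * b * g⁻¹)⁻¹ := congrArg Subtype.val h1
    rw [mul_inv_eq_iff_eq_mul] at h2
    rw [h2]
    simp [mul_assoc]
  obtain ⟨z, hz⟩ := hOT (hAO b.2)
  refine ⟨z, Subgroup.mem_center_iff.2 fun x => hι.1 ?_, fun g => by rw [hz]; exact hconj g⟩
  have := hconj (ι x)
  rw [hψ, eq_mul_inv_iff_mul_eq, ← hz] at this
  rw [map_mul, map_mul]
  exact this

end Cfsg.Agent.S5105
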