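import Cfsg.Statements.S5106
import Cfsg.Agent.Lib.Fusion.Normal
import Cfsg.Agent.Lib.FusionQuot.NormalClosed

set_option autoImplicit false
open Cfsg

namespace Cfsg.Agent.S5106

/-- In a saturated fusion system over a finite p-group S, a subgroup R ≤ S is normal in the system if and only if every map of the system whose source is a subgroup of R is the restriction of an element of Aut_F(R). -/
theorem result {Ω : Type*} [Group Ω] {S : Subgroup Ω} [Finite S] (p : ℕ) [Fact p.Prime] (hS : IsPGroup p S) (F : Cfsg.FusionSystem S) (hF : F.IsSaturated p) (R : Subgroup Ω) (hRS : R ≤ S) : F.IsNormal R ↔ ∀ (P : Subgroup Ω) (hPR : P ≤ R) (φ : P →* Ω), φ ∈ F.Hom P → ∃ α ∈ F.autGroup R, ∀ x : P, ((α (Subgroup.inclusion hPR x) : R) : Ω) = φ x := by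
  constructor
  · intro hR P hPR φ hφ
    obtain ⟨ψ, hψ, hag, hRψ⟩ := hR.2 P φ hφ
    obtain ⟨α, hα, hαψ⟩ := CfsgLib.Fusion.exists_aut
      (CfsgLib.Fusion.restrict_mem hψ (le_sup_right : R ≤ P ⊔ R))
      ((CfsgLib.Fusion.range_comp_inclusion le_sup_right).trans hRψ)
    exact ⟨α, hα, fun x => (hαψ _).trans ((congrArg ψ (Subtype.ext rfl)).trans (hag x))⟩
  · intro h
    have : Finite R := CfsgLib.Fusion.finite_of_le hRS
    obtain ⟨n, hn⟩ := (Subgroup.isNilpotent_iff_lowerCentralSeries R).1
      (CfsgLib.Fusion.isPGroup_of_le hS hRS).isNilpotent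
    have hle : ∀ i, R.lowerCentralSeries i ≤ R := CfsgLib.FusionQuot.lowerCentralSeries_le_self R
    refine CfsgLib.FusionQuot.isNormal_of_series hS hF (fun i => R.lowerCentralSeries i) n hn
      (fun i _ => R.lowerCentralSeries_antitone (Nat.le_succ i))
      (fun i _ => ⟨(hle i).trans hRS, fun T hT φ hφ x => ?_⟩)
      (fun i _ => (Subgroup.commutator_comm _ _).le)
    obtain ⟨α, -, hαφ⟩ := h T (hT.trans (hle i)) φ hφ
    rw [← hαφ x]
    have hmap : (R.subgroupOf R).map (R.subtype.comp α.toMonoidHom) = R := by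
      rw [CfsgLib.Fusion.map_subgroupOf_self]
      exact CfsgLib.Fusion.range_subtype_comp α
    have := CfsgLib.FusionQuot.map_subgroupOf_lowerCentralSeries le_rfl
      (R.subtype.comp α.toMonoidHom) hmap i
    exact this.le (CfsgLib.Fusion.apply_mem_map_subgroupOf (φ := R.subtype.comp α.toMonoidHom)
      (Subgroup.inclusion (hT.trans (hle i)) x) (hT x.2))

end Cfsg.Agent.S5106
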