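import Cfsg.Statements.S5107
import Cfsg.Agent.Lib.Fusion.Group
import Cfsg.Agent.Lib.Fusion.Normal
import Cfsg.Agent.Lib.FusionQuot.SCSeries

set_option autoImplicit false
open Cfsg

namespace Cfsg.Agent.S5107

/-- If a Sylow p-subgroup S of a finite group G has nilpotency class at most two and its centre is strongly closed in S with respect to G, then every map of the fusion system of G on S is conjugation by an element of N_G(S), and S is the largest subgroup normal in that fusion system. -/
theorem result {G : Type*} [Group G] [Finite G] (p : ℕ) [Fact p.Prime] (S : Sylow p G) (hcl : ⁅(S : Subgroup G), (S : Subgroup G)⁆ ≤ (S : Subgroup G) ⊓ Subgroup.centralizer ((S : Subgroup G) : Set G)) (hZ : Cfsg.IsStronglyClosed ((S : Subgroup G) ⊓ Subgroup.centralizer ((S : Subgroup G) : Set G)) (S : Subgroup G)) : (∀ (P : Subgroup G) (φ : P →* G), φ ∈ (Cfsg.groupFusionSystem (S : Subgroup G)).Hom P → ∃ g ∈ Subgroup.normalizer ((S : Subgroup G) : Set G), ∀ x : P, φ x = g * (x : G) * g⁻¹) ∧ (Cfsg.groupFusionSystem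 (S : Subgroup G)).core = S := by
  set Z := (S : Subgroup G) ⊓ Subgroup.centralizer ((S : Subgroup G) : Set G)
  set F := Cfsg.groupFusionSystem (S : Subgroup G)
  have hS : IsPGroup p (S : Subgroup G) := S.2
  have hsc : F.StronglyClosed Z := by
    refine ⟨inf_le_left, fun R hR φ hφ x => ?_⟩
    obtain ⟨-, hφS, g, hg⟩ := hφ
    rw [hg x]
    exact hZ.2 _ (hR x.2) g (hg x ▸ hφS x)
  have hscS : F.StronglyClosed (S : Subgroup G) :=
    ⟨le_rfl, fun R _ φ hφ x => CfsgLib.Fusion.map_mem hφ x⟩
  have hbot : F.StronglyClosed ⊥ := by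
    refine ⟨bot_le, fun R hR φ _ x => ?_⟩
    obtain rfl : x = 1 := Subtype.ext (Subgroup.mem_bot.1 (hR x.2))
    simp
  let A : ℕ → Subgroup G := fun i =>
    if i = 0 then (S : Subgroup G) else if i = 1 then Z else ⊥
  have hnorm : F.IsNormal (S : Subgroup G) := by
    refine CfsgLib.FusionQuot.isNormal_of_series hS
      (CfsgLib.Fusion.groupFusionSystem_isSaturated S) A 2 (by simp [A]) ?_ ?_ ?_
    · intro i hi
      interval_cases i
      · show Z ≤ _
        exact inf_le_left
      · show ⊥ ≤ _
        exact bot_le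
    · intro i hi
      interval_cases i
      · exact hscS
      · exact hsc
      · exact hbot
    · intro i hi
      interval_cases i
      · exact hcl
      · show ⁅(S : Subgroup G), Z⁆ ≤ ⊥
        rw [Subgroup.commutator_comm, le_bot_iff, Subgroup.commutator_eq_bot_iff_le_centralizer]
        exact inf_le_right
  refine ⟨fun P φ hφ => ?_, le_antisymm (sSup_le fun Q hQ => hQ.1) (le_sSup hnorm)⟩
  obtain ⟨ψ, hψ, hag, hmap⟩ := hnorm.2 P φ hφ
  obtain ⟨-, -, g, hg⟩ := hψ
  have hle : (S : Subgroup G).map (MulAut.conj g).toMonoidHom ≤ (S : Subgroup G) := by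
    rintro _ ⟨x, hx, rfl⟩
    have := CfsgLib.Fusion.mem_of_map_subgroupOf_sup_eq hmap ⟨x, hx⟩
    rw [hg] at this
    exact this
  refine ⟨g, Subgroup.mem_normalizer_iff_map_conj_eq.2 (Subgroup.eq_of_le_of_card_ge hle
    (Subgroup.card_map_of_injective (MulAut.conj g).injective).ge), fun x => ?_⟩
  rw [← hag x, hg]
  rfl

end Cfsg.Agent.S5107
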