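import Cfsg.Statements.S5112
import Cfsg.Agent.Lib.Fusion.Normal
import Mathlib.GroupTheory.SpecificGroups.Dihedral
import Mathlib.GroupTheory.SpecificGroups.Quaternion
import Mathlib.FieldTheory.Finite.Basic
import Mathlib.Tactic.Ring

set_option autoImplicit false
open Cfsg

namespace Cfsg.Agent.S5112

theorem pow_two_pow_eq_one (m : ℕ) (hm : 1 ≤ m) {j : ZMod (2 ^ m)} (hj : IsUnit j) : j ^ 2 ^ m = 1 := by
  obtain ⟨u, rfl⟩ := hj
  have h2 : Fact (Nat.Prime 2) := ⟨Nat.prime_two⟩
  have hcard : Nat.card (ZMod (2 ^ m))ˣ = 2 ^ (m - 1) := by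
    rw [Nat.card_eq_fintype_card, ZMod.card_units_eq_totient, Nat.totient_prime_pow Nat.prime_two hm]
    simp
  have h1 : u ^ 2 ^ m = 1 := by
    rw [← orderOf_dvd_iff_pow_eq_one]
    exact (orderOf_dvd_natCard u).trans (hcard ▸ pow_dvd_pow 2 (Nat.sub_le m 1))
  rw [← Units.val_pow_eq_pow_val, h1, Units.val_one]

theorem isPGroup_mulAut_dihedral (m : ℕ) (hm : 3 ≤ m) :
    IsPGroup 2 (MulAut (DihedralGroup (2 ^ m))) := by
  intro f
  refine ⟨m + m, ?_⟩
  have hbig : 8 ≤ 2 ^ m := le_trans (by norm_num) (Nat.pow_le_pow_right (by norm_num) hm)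
  have hord : orderOf (f (DihedralGroup.r 1)) = 2 ^ m := by
    rw [MulEquiv.orderOf_eq, DihedralGroup.orderOf_r_one]
  obtain ⟨j, hj⟩ : ∃ j, f (DihedralGroup.r 1) = DihedralGroup.r j := by
    cases h : f (DihedralGroup.r 1) with
    | r j => exact ⟨j, rfl⟩
    | sr j =>
      rw [h, DihedralGroup.orderOf_sr] at hord
      omega
  have hr : ∀ i : ZMod (2 ^ m), f (DihedralGroup.r i) = DihedralGroup.r (i * j) := by
    intro i
    obtain ⟨k, rfl⟩ : ∃ k : ℕ, (k : ZMod (2 ^ m)) = i := ⟨i.val, ZMod.natCast_rightInverse i⟩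
    rw [← DihedralGroup.r_one_pow, map_pow, hj]
    induction k with
    | zero => rw [pow_zero, Nat.cast_zero, zero_mul]; rfl
    | succ k ih => rw [pow_succ, ih, DihedralGroup.r_mul_r, Nat.cast_succ, add_mul, one_mul]
  have hju : IsUnit j := by
    obtain ⟨x, hx⟩ := f.surjective (DihedralGroup.r 1)
    cases x with
    | r i =>
      rw [hr] at hx
      exact IsUnit.of_mul_eq_one i (by rw [mul_comm j i]; exact DihedralGroup.r.inj hx)
    | sr i =>
      have := congrArg orderOf hx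
      rw [MulEquiv.orderOf_eq, DihedralGroup.orderOf_r_one, DihedralGroup.orderOf_sr] at this
      omega
  have hpow : ∀ (k : ℕ) (i : ZMod (2 ^ m)),
      (f ^ k) (DihedralGroup.r i) = DihedralGroup.r (i * j ^ k) := by
    intro k
    induction k with
    | zero => intro i; simp
    | succ k ih => intro i; rw [pow_succ, MulAut.mul_apply, hr, ih, mul_assoc i, ← pow_succ' j]
  have hg : ∀ i, (f ^ 2 ^ m) (DihedralGroup.r i) = DihedralGroup.r i := fun i => by
    rw [hpow, pow_two_pow_eq_one m (by omega) hju, mul_one]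
  obtain ⟨s, hs⟩ : ∃ s, (f ^ 2 ^ m) (DihedralGroup.sr 0) = DihedralGroup.sr s := by
    cases h : (f ^ 2 ^ m) (DihedralGroup.sr 0) with
    | r i => exact absurd ((f ^ 2 ^ m).injective (h.trans (hg i).symm)) (by simp)
    | sr i => exact ⟨i, rfl⟩
  have hgsr : ∀ i, (f ^ 2 ^ m) (DihedralGroup.sr i) = DihedralGroup.sr (s + i) := fun i => by
    have : (DihedralGroup.sr i : DihedralGroup (2 ^ m)) = DihedralGroup.sr 0 * DihedralGroup.r i := by
      rw [DihedralGroup.sr_mul_r, zero_add]
    rw [this, map_mul, hs, hg, DihedralGroup.sr_mul_r]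
  have hk : ∀ (k : ℕ) (i : ZMod (2 ^ m)),
      ((f ^ 2 ^ m) ^ k) (DihedralGroup.r i) = DihedralGroup.r i ∧
      ((f ^ 2 ^ m) ^ k) (DihedralGroup.sr i) = DihedralGroup.sr ((k : ZMod (2 ^ m)) * s + i) := by
    intro k
    induction k with
    | zero => intro i; simp
    | succ k ih =>
      intro i
      constructor
      · rw [pow_succ', MulAut.mul_apply, (ih i).1, hg]
      · rw [pow_succ', MulAut.mul_apply, (ih i).2, hgsr, Nat.cast_succ, add_mul, one_mul]
        congr 1
        ring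
  rw [pow_add, pow_mul]
  refine MulEquiv.ext fun x => ?_
  cases x with
  | r i => exact (hk _ i).1
  | sr i =>
    rw [(hk _ i).2, ZMod.natCast_self, zero_mul, zero_add]
    rfl

theorem isPGroup_mulAut_quaternion (m : ℕ) (hm : 2 ≤ m) :
    IsPGroup 2 (MulAut (QuaternionGroup (2 ^ m))) := by
  intro f
  refine ⟨(m + 1) + (m + 1), ?_⟩
  have hbig : 4 ≤ 2 ^ m := le_trans (by norm_num) (Nat.pow_le_pow_right (by norm_num) hm)
  have : NeZero (2 ^ m) := ⟨by omega⟩
  have hcast : 2 * 2 ^ m = 2 ^ (m + 1) := by rw [pow_succ]; ring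
  have hord : orderOf (f (QuaternionGroup.a 1)) = 2 * 2 ^ m := by
    rw [MulEquiv.orderOf_eq, QuaternionGroup.orderOf_a_one]
  obtain ⟨j, hj⟩ : ∃ j, f (QuaternionGroup.a 1) = QuaternionGroup.a j := by
    cases h : f (QuaternionGroup.a 1) with
    | a j => exact ⟨j, rfl⟩
    | xa j =>
      rw [h, QuaternionGroup.orderOf_xa] at hord
      omega
  have hr : ∀ i : ZMod (2 * 2 ^ m), f (QuaternionGroup.a i) = QuaternionGroup.a (i * j) := by
    intro i
    obtain ⟨k, rfl⟩ : ∃ k : ℕ, (k : ZMod (2 * 2 ^ m)) = i := ⟨i.val, ZMod.natCast_rightInverse i⟩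
    rw [← QuaternionGroup.a_one_pow, map_pow, hj]
    induction k with
    | zero => rw [pow_zero, Nat.cast_zero, zero_mul]; rfl
    | succ k ih => rw [pow_succ, ih, QuaternionGroup.a_mul_a, Nat.cast_succ, add_mul, one_mul]
  have hju : IsUnit j := by
    obtain ⟨x, hx⟩ := f.surjective (QuaternionGroup.a 1)
    cases x with
    | a i =>
      rw [hr] at hx
      exact IsUnit.of_mul_eq_one i (by rw [mul_comm j i]; exact QuaternionGroup.a.inj hx)
    | xa i =>
      have := congrArg orderOf hx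
      rw [MulEquiv.orderOf_eq, QuaternionGroup.orderOf_a_one, QuaternionGroup.orderOf_xa] at this
      omega
  have hpow : ∀ (k : ℕ) (i : ZMod (2 * 2 ^ m)),
      (f ^ k) (QuaternionGroup.a i) = QuaternionGroup.a (i * j ^ k) := by
    intro k
    induction k with
    | zero => intro i; simp
    | succ k ih => intro i; rw [pow_succ, MulAut.mul_apply, hr, ih, mul_assoc i, ← pow_succ' j]
  have hju' : j ^ 2 ^ (m + 1) = 1 := by
    have key : ∀ (N : ℕ), N = 2 ^ (m + 1) → ∀ u : ZMod N, IsUnit u → u ^ 2 ^ (m + 1) = 1 := by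
      rintro _ rfl u hu
      exact pow_two_pow_eq_one _ (by omega) hu
    exact key _ hcast j hju
  have hg : ∀ i, (f ^ 2 ^ (m + 1)) (QuaternionGroup.a i) = QuaternionGroup.a i := fun i => by
    rw [hpow, hju', mul_one]
  obtain ⟨s, hs⟩ : ∃ s, (f ^ 2 ^ (m + 1)) (QuaternionGroup.xa 0) = QuaternionGroup.xa s := by
    cases h : (f ^ 2 ^ (m + 1)) (QuaternionGroup.xa 0) with
    | a i => exact absurd ((f ^ 2 ^ (m + 1)).injective (h.trans (hg i).symm)) (by simp)
    | xa i => exact ⟨i, rfl⟩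
  have hgsr : ∀ i, (f ^ 2 ^ (m + 1)) (QuaternionGroup.xa i) = QuaternionGroup.xa (s + i) := fun i => by
    have : (QuaternionGroup.xa i : QuaternionGroup (2 ^ m)) =
        QuaternionGroup.xa 0 * QuaternionGroup.a i := by
      rw [QuaternionGroup.xa_mul_a, zero_add]
    rw [this, map_mul, hs, hg, QuaternionGroup.xa_mul_a]
  have hk : ∀ (k : ℕ) (i : ZMod (2 * 2 ^ m)),
      ((f ^ 2 ^ (m + 1)) ^ k) (QuaternionGroup.a i) = QuaternionGroup.a i ∧
      ((f ^ 2 ^ (m + 1)) ^ k) (QuaternionGroup.xa i) =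
        QuaternionGroup.xa ((k : ZMod (2 * 2 ^ m)) * s + i) := by
    intro k
    induction k with
    | zero => intro i; simp
    | succ k ih =>
      intro i
      constructor
      · rw [pow_succ', MulAut.mul_apply, (ih i).1, hg]
      · rw [pow_succ', MulAut.mul_apply, (ih i).2, hgsr, Nat.cast_succ, add_mul, one_mul]
        congr 1
        ring
  rw [pow_add, pow_mul]
  refine MulEquiv.ext fun x => ?_
  cases x with
  | a i => exact (hk _ i).1
  | xa i =>
    rw [(hk _ i).2, ← hcast, ZMod.natCast_self, zero_mul, zero_add]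
    rfl

theorem isPGroup_of_shape {Ω : Type*} [Group Ω] {S : Subgroup Ω} (n : ℕ)
    (h : Nonempty (S ≃* DihedralGroup (2 ^ (n - 1))) ∨ Nonempty (S ≃* QuaternionGroup (2 ^ (n - 2)))) :
    IsPGroup 2 S := by
  rcases h with ⟨⟨e⟩⟩ | ⟨⟨e⟩⟩
  · refine IsPGroup.of_card (n := (n - 1) + 1) ?_
    rw [Nat.card_congr e.toEquiv, DihedralGroup.nat_card, pow_succ, mul_comm]
  · refine IsPGroup.of_card (n := (n - 2) + 2) ?_
    rw [Nat.card_congr e.toEquiv, Nat.card_eq_fintype_card, QuaternionGroup.card, pow_add]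
    ring

/-- If S is a dihedral or generalized quaternion 2-group of order at least 16, then in every saturated fusion system over S (at the prime 2) the automorphism group Aut_F(S) consists of the inner automorphisms of S. -/
theorem result {Ω : Type*} [Group Ω] {S : Subgroup Ω} [Finite S] (n : ℕ) (hn : 4 ≤ n) (hshape : Nonempty (S ≃* DihedralGroup (2 ^ (n - 1))) ∨ Nonempty (S ≃* QuaternionGroup (2 ^ (n - 2)))) (F : Cfsg.FusionSystem S) (hF : F.IsSaturated 2) : F.autGroup S = Cfsg.Inn S := by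
  have hA : IsPGroup 2 (MulAut S) := by
    rcases hshape with ⟨⟨e⟩⟩ | ⟨⟨e⟩⟩
    · exact IsPGroup.of_injective (isPGroup_mulAut_dihedral (n - 1) (by omega))
        (MulAut.congr e).toMonoidHom (MulAut.congr e).injective
    · exact IsPGroup.of_injective (isPGroup_mulAut_quaternion (n - 2) (by omega))
        (MulAut.congr e).toMonoidHom (MulAut.congr e).injective
  have hfin : Finite (MulAut S) := CfsgLib.Fusion.finite_mulAut
  obtain ⟨-, T, hT⟩ := CfsgLib.Fusion.isFullyAutomized_of_isFullyNormalized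
    (isPGroup_of_shape n hshape) hF (CfsgLib.Fusion.isFullyNormalized_top F)
  refine le_antisymm (fun α hα => ?_) (CfsgLib.Fusion.inn_le_autGroup F le_rfl)
  have htop : (⊤ : Subgroup (F.autGroup S)) ≤ (T : Subgroup (F.autGroup S)) :=
    (T.3 (IsPGroup.to_subgroup (hA.to_subgroup _) _) le_top).le
  have := htop (Subgroup.mem_top ⟨α, hα⟩)
  rw [hT, Subgroup.mem_subgroupOf, ← CfsgLib.Fusion.inn_eq_autInducedBy] at this
  exact this

end Cfsg.Agent.S5112
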