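import Cfsg.Statements.S5125
import Cfsg.Agent.Lib.Fusion.Normal
import Cfsg.Agent.Lib.Fusion.PGroupSeries
import Cfsg.Agent.Lib.FusionQuot.SCSeries

set_option autoImplicit false
open Cfsg

namespace Cfsg.Agent.S5125

/-- Let F be a saturated fusion system over a finite p-group S and Q a subgroup strongly closed in F. If Q has a subgroup Q₁ that is normal in F, with Q/Q₁ abelian and Aut_F(Q₁) a p-group, then Q is normal in F. -/
theorem result {Ω : Type*} [Group Ω] {S : Subgroup Ω} [Finite S] (p : ℕ) [Fact p.Prime] (hS : IsPGroup p S) (F : Cfsg.FusionSystem S) (hF : F.IsSaturated p) (Q Q₁ : Subgroup Ω) (hQ : F.StronglyClosed Q) (hQ₁Q : Q₁ ≤ Q) (hQ₁ : F.IsNormal Q₁) (hab : ⁅Q, Q⁆ ≤ Q₁) (hAut : IsPGroup p ↥(F.autGroup Q₁)) : F.IsNormal Q := by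
  have hQ₁S : Q₁ ≤ S := hQ₁.1
  have : Finite Q₁ := CfsgLib.Fusion.finite_of_le hQ₁S
  obtain ⟨n, B, hB0, hBn, hmono, hinv, hfix⟩ := CfsgLib.Fusion.exists_fixed_series
    (CfsgLib.Fusion.isPGroup_of_le hS hQ₁S) hAut (CfsgLib.Fusion.inn_le_autGroup F hQ₁S)
  let C : ℕ → Subgroup Ω := fun i => (B i).map Q₁.subtype
  have hCsc : ∀ i, F.StronglyClosed (C i) := by
    refine fun i => ⟨(Subgroup.map_subtype_le _).trans hQ₁S, fun R hR φ hφ x => ?_⟩
    obtain ⟨ψ, hψ, hag, hmap⟩ := hQ₁.2 R φ hφ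
    obtain ⟨α, hα, hαψ⟩ := CfsgLib.Fusion.exists_aut
      (CfsgLib.Fusion.restrict_mem hψ (le_sup_right : Q₁ ≤ R ⊔ Q₁))
      ((CfsgLib.Fusion.range_comp_inclusion le_sup_right).trans hmap)
    obtain ⟨z, hz, hzx⟩ := hR x.2
    refine ⟨α z, hinv i α hα z hz, (hαψ z).trans ?_⟩
    rw [← hag x]
    exact congrArg ψ (Subtype.ext hzx)
  let A : ℕ → Subgroup Ω := fun j => if j = 0 then Q else C (n + 1 - j)
  have hA0 : A 0 = Q := rfl
  have hAs : ∀ j, A (j + 1) = C (n - j) := fun j => by simp [A]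
  have hCn : C n = Q₁ := by
    simp only [C, hBn]
    rw [← MonoidHom.range_eq_map, Subgroup.range_subtype]
  rw [← hA0]
  refine CfsgLib.FusionQuot.isNormal_of_series hS hF A (n + 1) ?_ ?_ ?_ ?_
  · rw [hAs, Nat.sub_self]
    simp [C, hB0]
  · intro i _
    match i with
    | 0 => rw [hA0, hAs, Nat.sub_zero, hCn]; exact hQ₁Q
    | j + 1 => rw [hAs, hAs]; exact Subgroup.map_mono (hmono (by omega))
  · intro i _
    match i with
    | 0 => exact hA0 ▸ hQ
    | j + 1 => rw [hAs]; exact hCsc _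
  · intro i hi
    match i with
    | 0 => rw [hA0, hAs, Nat.sub_zero, hCn]; exact hab
    | j + 1 =>
      rw [hA0, hAs, hAs]
      rw [Subgroup.commutator_le]
      rintro q hq _ ⟨x, hx, rfl⟩
      have hqS : q ∈ S := hQ.1 hq
      have hqN : q ∈ Subgroup.normalizer (Q₁ : Set Ω) :=
        CfsgLib.Fusion.stronglyClosed_le_normalizer (CfsgLib.Fusion.isNormal_stronglyClosed hQ₁) hqS
      have h1 : n - j = n - (j + 1) + 1 := by omega
      rw [h1] at hx
      have h2 := hfix _ x⁻¹ ((B _).inv_mem hx) _ (CfsgLib.Fusion.autInducedBy_le_autGroup F hQ₁S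
        (CfsgLib.Fusion.conjAut_mem_autInducedBy hqS hqN))
      refine ⟨_, (B _).inv_mem h2, ?_⟩
      simp [commutatorElement_def, CfsgLib.Fusion.conjAut_apply, mul_assoc]

end Cfsg.Agent.S5125
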