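import Cfsg.Statements.S5126
import Cfsg.Agent.Lib.Fusion.LocalSaturation
import Cfsg.Agent.Lib.Fusion.Realized

set_option autoImplicit false
open Cfsg

namespace Cfsg.Agent.S5126

/-- In a saturated fusion system over a finite p-group S, the normalizer system of a fully normalized, centric, radical subgroup R is constrained, and in every model of that normalizer system the largest normal p-subgroup is the image of R. -/
theorem result {Ω : Type*} [Group Ω] {S : Subgroup Ω} [Finite S] (p : ℕ) [Fact p.Prime] (hS : IsPGroup p S) (F : Cfsg.FusionSystem S) (hF : F.IsSaturated p) (R : Subgroup Ω) (hRn : F.IsFullyNormalized R) (hRc : F.IsCentric R) (hRr : F.IsRadical p R) (E : Cfsg.FusionSystem (Cfsg.FusionSystem.normalizerIn S R)) (hE : F.IsNormalizerSystem R E) {G : Type*} [Group G] (ι : ↥(Cfsg.FusionSystem.normalizerIn S R) →* G) : E.IsConstrained p ∧ (E.IsModel p G ι → (Cfsg.pCore p G : Subgroup G) = (R.subgroupOf (Cfsg.FusionSystem.normalizerIn S R)).map ι) := by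
  have hRS : R ≤ S := hRn.1
  have : Finite (Cfsg.FusionSystem.normalizerIn S R) := CfsgLib.Fusion.finite_of_le (CfsgLib.Fusion.normalizerIn_le S R)
  have hNp : IsPGroup p (Cfsg.FusionSystem.normalizerIn S R) := hS.to_le (CfsgLib.Fusion.normalizerIn_le S R)
  have hRN : R ≤ (Cfsg.FusionSystem.normalizerIn S R) := CfsgLib.Fusion.le_normalizerIn hRS
  have hnormal : E.IsNormal R := by
    refine ⟨hRN, fun P φ hφ => ?_⟩
    rw [hE] at hφ
    obtain ⟨-, hPN, hφN, ψ, hψ, hag, hmap⟩ := hφ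
    have hvals : ∀ x, ψ x ∈ (Cfsg.FusionSystem.normalizerIn S R) := CfsgLib.Fusion.forall_mem_of_sup
      (fun x => by rw [hag]; exact hφN x)
      (fun x => hRN (CfsgLib.Fusion.mem_of_map_subgroupOf_sup_eq hmap x))
    refine ⟨ψ, ?_, hag, hmap⟩
    rw [hE]
    refine ⟨hψ, sup_le hPN hRN, hvals, _,
      CfsgLib.Fusion.restrict_mem hψ (sup_le le_rfl le_sup_right), fun x => rfl, ?_⟩
    ext y
    rw [CfsgLib.Fusion.mem_map_subgroupOf]
    constructor
    · rintro ⟨x, hx, hxR, rfl⟩
      exact CfsgLib.Fusion.mem_of_map_subgroupOf_sup_eq hmap ⟨x, hxR⟩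
    · intro hy
      rw [← hmap] at hy
      obtain ⟨x, hx, hxR, rfl⟩ := CfsgLib.Fusion.mem_map_subgroupOf.1 hy
      exact ⟨x, le_sup_left (b := R) hx, hxR, rfl⟩
  have hcentric : E.IsCentric R := by
    refine ⟨hRN, fun Q hQ => ?_⟩
    rw [CfsgLib.FusionQuot.eq_of_isConj_of_stronglyClosed
      (CfsgLib.Fusion.isNormal_stronglyClosed hnormal) hQ]
    exact fun c hc => CfsgLib.Fusion.centralizerIn_le_of_isCentric hRc ⟨hc.1.1, hc.2⟩
  refine ⟨⟨CfsgLib.Fusion.isSaturated_normalizerSystem hS hF hRn hE, R, hnormal, hcentric⟩,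
    fun hG => ?_⟩
  have : Finite G := hG.1
  rw [CfsgLib.Fusion.pCore_eq_map_modelCore hG]
  have hsub : ∀ Q : Subgroup Ω, E.Hom Q ⊆ F.Hom Q := fun Q φ hφ => by
    rw [hE] at hφ
    exact hφ.1
  have hauto : E.autGroup R = F.autGroup R := by
    ext α
    rw [CfsgLib.Fusion.mem_autGroup_iff_hom hRN, CfsgLib.Fusion.mem_autGroup_iff_hom hRS]
    refine ⟨fun h => hsub R h, fun h => ?_⟩
    rw [hE]
    refine CfsgLib.Fusion.mem_normalizerHom_of_aut le_rfl hRN
      ((CfsgLib.Fusion.mem_autGroup_iff_hom hRS).2 h) ?_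
    rw [Subgroup.subgroupOf_self]
    exact Subgroup.map_top_of_surjective _ α.surjective
  have hrad : E.IsRadical p R := by
    refine ⟨hRN, ?_⟩
    rw [hauto]
    exact hRr.2
  rw [le_antisymm
    (CfsgLib.Fusion.isNormal_le_of_centric_radical hNp (CfsgLib.Fusion.isNormal_modelCore hG) hcentric hrad)
    (CfsgLib.Fusion.isNormal_le_modelCore hNp hG hnormal)]

end Cfsg.Agent.S5126
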