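import Cfsg.Statements.S5135
import Cfsg.Agent.Lib.FusionQuot.Factor
import Cfsg.Agent.Lib.Fusion.Saturation

set_option autoImplicit false
open Cfsg Cfsg.FusionSystem CfsgLib.Fusion

namespace Cfsg.Agent.S5135

/-- Let G be a finite group, S a Sylow p-subgroup and H a normal subgroup of G. Then the fusion system of G/H on the image SH/H of S is the factor system of the fusion system of G on S modulo S ∩ H, read through the quotient map restricted to S: for each subgroup P' of SH/H, the conjugation maps by elements of G/H defined on P' with values in SH/H are exactly the homomorphisms induced by the conjugation maps by elements of G defined on the full preimage of P' in S with values in S. -/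
theorem result {G : Type*} [Group G] [Finite G] (p : ℕ) [Fact p.Prime] (S : Sylow p G) (H : Subgroup G) [H.Normal] : (Cfsg.groupFusionSystem (S : Subgroup G)).IsFactorSystem ((S : Subgroup G) ⊓ H) ((QuotientGroup.mk' H).comp (S : Subgroup G).subtype) (Cfsg.groupFusionSystem ((S : Subgroup G).map (QuotientGroup.mk' H))) := by
  classical
  set θ := (QuotientGroup.mk' H).comp (S : Subgroup G).subtype with hθ
  refine ⟨inf_le_left, fun s => ?_, ?_, fun P' φ' => ⟨?_, ?_⟩⟩
  · exact (QuotientGroup.eq_one_iff (s : G)).trans ⟨fun h => ⟨s.2, h⟩, fun h => h.2⟩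
  · rw [hθ, MonoidHom.range_comp, Subgroup.range_subtype]
  · rintro ⟨hP', hφ', c, hc⟩
    refine ⟨hP', ?_⟩
    obtain ⟨g, rfl⟩ := QuotientGroup.mk'_surjective H c
    set SH := ((S : Subgroup G).map (QuotientGroup.mk' H)).comap (QuotientGroup.mk' H) with hSH
    have hS : (S : Subgroup G) ≤ SH := Subgroup.le_comap_map _ _
    set Q := preimageAlong θ P' with hQ
    have hQS : ∀ x ∈ Q, g * x * g⁻¹ ∈ SH := by
      intro x hx
      obtain ⟨hxS, hxP⟩ := CfsgLib.FusionQuot.mem_preimageAlong.1 hx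
      have h1 := hφ' ⟨_, hxP⟩
      rw [hc] at h1
      rw [hSH, Subgroup.mem_comap, map_mul, map_mul, map_inv]
      exact h1
    let U : Subgroup SH := (Q.map (MulAut.conj g).toMonoidHom).subgroupOf SH
    have hU : IsPGroup p U :=
      ((S.2.to_le (CfsgLib.FusionQuot.preimageAlong_le P')).map _).comap_subtype
    obtain ⟨m, hm⟩ := CfsgLib.Fusion.exists_conj_le_sylow (S.subtype hS) hU
    obtain ⟨s, hs, hsm⟩ := Subgroup.mem_map.1 (Subgroup.mem_comap.1 m.2)
    let h : G := s⁻¹ * (m : G)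
    have hh : QuotientGroup.mk' H h = 1 := by
      rw [map_mul, map_inv, ← hsm, inv_mul_cancel]
    have hval : ∀ x : Q, (h * g) * (x : G) * (h * g)⁻¹ ∈ (S : Subgroup G) := by
      intro x
      have h1 := hm ⟨g * x * g⁻¹, hQS x x.2⟩ ⟨x, x.2, rfl⟩
      have h2 : (m : G) * (g * x * g⁻¹) * (m : G)⁻¹ ∈ (S : Subgroup G) := h1
      have h3 := (S : Subgroup G).mul_mem ((S : Subgroup G).mul_mem ((S : Subgroup G).inv_mem hs) h2) hs
      convert h3 using 1
      simp only [h]
      group
    refine ⟨conjHom Q (h * g), ⟨CfsgLib.FusionQuot.preimageAlong_le P', hval, h * g, fun x => rfl⟩,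
      CfsgLib.FusionQuot.preimageAlong_le P', hval,
      fun x => (CfsgLib.FusionQuot.mem_preimageAlong.1 x.2).2, fun x => ?_⟩
    rw [hc]
    show QuotientGroup.mk' H g * QuotientGroup.mk' H (x : G) * (QuotientGroup.mk' H g)⁻¹ =
      QuotientGroup.mk' H (h * g * (x : G) * (h * g)⁻¹)
    rw [map_mul, map_mul, map_inv, map_mul, hh, one_mul]
  · rintro ⟨hP', φ, ⟨-, hφS, g, hg⟩, hP, hφ, hPm, hi⟩
    have key : ∀ y : P', φ' y = QuotientGroup.mk' H g * (y : G ⧸ H) * (QuotientGroup.mk' H g)⁻¹ := by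
      rintro ⟨y, hy⟩
      obtain ⟨x, hxS, rfl⟩ := hP' hy
      have hxQ : x ∈ preimageAlong θ P' := CfsgLib.FusionQuot.mem_preimageAlong.2 ⟨hxS, hy⟩
      have h2 := hi ⟨x, hxQ⟩
      show φ' ⟨QuotientGroup.mk' H x, hy⟩ = _
      refine h2.trans ?_
      show QuotientGroup.mk' H (φ ⟨x, hxQ⟩) = _
      rw [hg, map_mul, map_mul, map_inv]
    refine ⟨hP', fun y => ?_, QuotientGroup.mk' H g, key⟩
    obtain ⟨y, hy⟩ := y
    obtain ⟨x, hxS, rfl⟩ := hP' hy
    have hxQ : x ∈ preimageAlong θ P' := CfsgLib.FusionQuot.mem_preimageAlong.2 ⟨hxS, hy⟩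
    rw [key]
    refine ⟨φ ⟨x, hxQ⟩, hφS _, ?_⟩
    rw [hg, map_mul, map_mul, map_inv]

end Cfsg.Agent.S5135
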