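import Cfsg.Statements.S5139
import Cfsg.Agent.Lib.FusionHyperfocal.Group
import Cfsg.Agent.Lib.Fusion.PPowerIndex.Build

set_option autoImplicit false
open Cfsg

namespace Cfsg.Agent.S5139

/-- Let G be a finite group with Sylow p-subgroup S and O^p(G) the subgroup generated by the elements of order prime to p. Then the p-residual subsystem of the fusion system of G on S — the saturated subsystem of p-power index over the hyperfocal subgroup — is the fusion system of O^p(G) on S ∩ O^p(G): its maps are exactly the conjugation maps by elements of O^p(G) between subgroups of S ∩ O^p(G). -/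
theorem result {G : Type*} [Group G] [Finite G] (p : ℕ) [Fact p.Prime] (S : Sylow p G) (E : Cfsg.FusionSystem ((Cfsg.groupFusionSystem (S : Subgroup G)).hyperfocalSubgroup p)) (hE : (Cfsg.groupFusionSystem (S : Subgroup G)).IsPResidual p E) : ∃ h : (S : Subgroup G) ⊓ Cfsg.pResidual p G ≤ Cfsg.pResidual p G, ∀ P : Subgroup G, E.Hom P = (Cfsg.fusionSystemOfSubgroup (Cfsg.pResidual p G) ((S : Subgroup G) ⊓ Cfsg.pResidual p G) h).Hom P := by
  have hKn : (Cfsg.pResidual p G).Normal := CfsgLib.Transfer.pResidual_normal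
  have heq : (Cfsg.groupFusionSystem (S : Subgroup G)).hyperfocalSubgroup p = (S : Subgroup G) ⊓ Cfsg.pResidual p G := CfsgLib.FusionHyperfocal.hyperfocal_eq S
  refine ⟨inf_le_right, fun P => ?_⟩
  have key : ∀ (T : Subgroup G) (hT : T = (S : Subgroup G) ⊓ Cfsg.pResidual p G) (E : Cfsg.FusionSystem T),
      E.IsSaturated p → E.HasPPowerIndexIn (Cfsg.groupFusionSystem (S : Subgroup G)) p →
      E.Hom P = (Cfsg.fusionSystemOfSubgroup (Cfsg.pResidual p G) ((S : Subgroup G) ⊓ Cfsg.pResidual p G)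
        inf_le_right).Hom P := by
    rintro _ rfl E hEs hEi
    set D := Cfsg.fusionSystemOfSubgroup (Cfsg.pResidual p G) ((S : Subgroup G) ⊓ Cfsg.pResidual p G) inf_le_right
    have hD : D.IsSaturated p :=
      CfsgLib.Fusion.fusionSystemOfSubgroup_isSaturated _ (CfsgLib.Fusion.isSylowIn_inf_normal S _)
    have hDi : D.HasPPowerIndexIn (Cfsg.groupFusionSystem (S : Subgroup G)) p := by
      refine ⟨fun Q φ hφ => ⟨hφ.1.trans inf_le_left, fun x => (hφ.2.1 x).1, ?_⟩, heq.le, fun Q hQ => ?_⟩
      · obtain ⟨g, -, hg⟩ := hφ.2.2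
        exact ⟨g, hg⟩
      refine (CfsgLib.FusionHyperfocal.pResidual_autGroup_le (S : Subgroup G) (hQ.trans inf_le_left)).trans ?_
      intro α hα
      obtain ⟨g, hg, he⟩ := CfsgLib.Fusion.mem_autInducedBy_iff.1 hα
      exact (CfsgLib.Fusion.mem_autGroup_iff_hom hQ).2 ⟨hQ, fun x => hQ (α x).2, g, hg, he⟩
    rw [CfsgLib.Fusion.PPowerIndex.eq_of_pPowerIndex (S.2.to_le inf_le_left) inf_le_left hEs hEi hD hDi]
  exact key _ heq E hE.1 hE.2

end Cfsg.Agent.S5139
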