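import Cfsg.Statements.S5143
import Cfsg.Agent.Lib.Fusion.NormalProduct.Unique

set_option autoImplicit false
open Cfsg

namespace Cfsg.Agent.S5143

open Cfsg.FusionSystem CfsgLib.Fusion CfsgLib.Fusion.PPowerIndex CfsgLib.Fusion.NormalProduct

theorem hom_eq_of_index {Ω : Type*} [Group Ω] {S U U' : Subgroup Ω} {G : Cfsg.FusionSystem S} {p : ℕ}
    [Finite U] [Fact p.Prime] (h : U = U') (hU : IsPGroup p U) (hUS : U ≤ S)
    {A : Cfsg.FusionSystem U} {B : Cfsg.FusionSystem U'} (hA : A.IsSaturated p)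
    (hAi : A.HasPPowerIndexIn G p) (hB : B.IsSaturated p) (hBi : B.HasPPowerIndexIn G p) :
    ∀ P, A.Hom P = B.Hom P := by
  subst h
  intro P
  rw [eq_of_pPowerIndex hU hUS hA hAi hB hBi]

/-- Let F be a saturated fusion system over a finite p-group S, E a normal subsystem over T, and R a subgroup with T ≤ R ≤ S. Then there is exactly one saturated subsystem D of F over R (exactly one family of map sets) whose p-residual subsystem is that of E: the hyperfocal subgroups of D and E coincide and the p-residual subsystems of D and of E have the same maps. -/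
theorem result {Ω : Type*} [Group Ω] {S : Subgroup Ω} [Finite S] (p : ℕ) [Fact p.Prime] (hS : IsPGroup p S) (F : Cfsg.FusionSystem S) (hF : F.IsSaturated p) {T : Subgroup Ω} (E : Cfsg.FusionSystem T) (hE : E.IsNormalIn F p) (R : Subgroup Ω) (hTR : T ≤ R) (hRS : R ≤ S) : ∃ D : Cfsg.FusionSystem R, (D.IsSaturated p ∧ D.IsSubsystemOf F ∧ D.hyperfocalSubgroup p = E.hyperfocalSubgroup p ∧ ∀ (D₁ : Cfsg.FusionSystem (D.hyperfocalSubgroup p)) (E₁ : Cfsg.FusionSystem (E.hyperfocalSubgroup p)), D.IsPResidual p D₁ → E.IsPResidual p E₁ → ∀ P : Subgroup Ω, D₁.Hom P = E₁.Hom P) ∧ ∀ D' : Cfsg.FusionSystem R, D'.IsSaturated p → D'.IsSubsystemOf F → D'.hyperfocalSubgroup p = E.hyperfocalSubgroup p → (∀ (D₁ : Cfsg.FusionSystem (D'.hyperfocalSubgroup p)) (E₁ : Cfsg.FusionSystem (E.hyperfocalSubgroup p)), D'.IsPResidual p D₁ → E.IsPResidual p E₁ → ∀ P : Subgroup Ω, D₁.Hom P = E₁.Hom P) → ∀ P : Subgroup Ω, D'.Hom P = D.Hom P := by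
  have hinv := hE.1.2.2
  have hTS : T ≤ S := hinv.2.1.1
  have : Finite T := finite_of_le hTS
  have : Finite R := finite_of_le hRS
  have hTp : IsPGroup p T := hS.to_le hTS
  have hRp : IsPGroup p R := hS.to_le hRS
  have hG := prodSys_isSaturated hS hF hE
  have hEG := hasPPowerIndexIn_prodSys hS hF hE
  set G := prodSys F E p 0
  have hHEG : E.hyperfocalSubgroup p = G.hyperfocalSubgroup p :=
    hyperfocal_eq_of_pPowerIndex hS hG hTS hEG
  obtain ⟨D, hD, hDi, -⟩ := exists_pPowerIndex hS hG hRS (hEG.2.1.trans hTR)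
  have hHD : D.hyperfocalSubgroup p = E.hyperfocalSubgroup p :=
    (hyperfocal_eq_of_pPowerIndex hS hG hRS hDi).trans hHEG.symm
  have hDF : D.IsSubsystemOf F := fun P φ hφ => prodSys_sub 0 P (hDi.1 P hφ)
  have hHT : E.hyperfocalSubgroup p ≤ T := hyperfocalSubgroup_le_S E p
  refine ⟨D, ⟨hD, hDF, hHD, fun D₁ E₁ hD₁ hE₁ P => ?_⟩, fun D' hD' hD'F hHD' hres => ?_⟩
  · have hle : D.hyperfocalSubgroup p ≤ R := hyperfocalSubgroup_le_S D p
    have : Finite (D.hyperfocalSubgroup p) := finite_of_le (hle.trans hRS)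
    exact hom_eq_of_index hHD (hS.to_le (hle.trans hRS)) (hle.trans hRS) hD₁.1
      (pPowerIndex_trans hle hDi hD₁.2 (hHEG.ge.trans hHD.ge)) hE₁.1
      (pPowerIndex_trans hHT hEG hE₁.2 hHEG.ge) P
  obtain ⟨E₁, hE₁, hE₁i, hE₁c⟩ := exists_pPowerIndex hTp hE.1.1 hHT le_rfl
  obtain ⟨D₁, hD₁, hD₁i, -⟩ := exists_pPowerIndex hRp hD' (hyperfocalSubgroup_le_S D' p) le_rfl
  have heq := hres D₁ E₁ ⟨hD₁, hD₁i⟩ ⟨hE₁, hE₁i⟩
  have hto : ∀ U, E₁.Hom U ⊆ D'.Hom U := fun U φ hφ => hD₁i.1 U (by rw [heq U]; exact hφ)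
  have hD'G : D'.IsSubsystemOf G := by
    refine le_prodSys_of_residual hS hF hE hRS hTR hD' hD'F hHD' (fun V hV α hα => ?_) fun U φ hφ hU => ?_
    · have hV' : V ≤ D'.hyperfocalSubgroup p := hV.trans hHD'.ge
      have h1 := (mem_autGroup_iff_hom hV').1 (hD₁i.2.2 V hV' hα)
      rw [heq V] at h1
      exact (mem_autGroup_iff_hom (hV.trans hHT)).2 (hE₁i.1 V h1)
    · obtain ⟨t, ht, h⟩ := hE₁c U φ hφ hU
      exact ⟨t, ht, hto U h⟩
  have hD'D : D'.IsSubsystemOf D := le_of_hasPPowerIndexIn hS hRS hD' hD'G le_rfl hDi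
  have hDD' : ∀ U, D.Hom U ⊆ D'.Hom U := by
    refine le_of_agree_hyperfocal hRp hD hD' hD'D fun V hV a ha hco => ?_
    have hVR : V ≤ R := hV.trans (hyperfocalSubgroup_le_S D p)
    have hVH : V ≤ E.hyperfocalSubgroup p := hV.trans hHD.le
    have hVS : V ≤ S := hVR.trans hRS
    have haG : a ∈ G.autGroup V := CfsgLib.FusionQuot.autGroup_le_of_subsystem hDi.1 V ha
    have h1 := (pPowerIndex_trans hHT hEG hE₁i hHEG.ge).2.2 V hVH ⟨⟨a, haG⟩,
      CfsgLib.Transfer.mem_pResidual_of_coprime (by rw [← Subgroup.orderOf_coe]; exact hco), rfl⟩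
    exact (mem_autGroup_iff_hom hVR).2 (hto V ((mem_autGroup_iff_hom hVH).1 h1))
  exact fun P => subset_antisymm (hD'D P) (hDD' P)

end Cfsg.Agent.S5143
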