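import Cfsg.Statements.S5147
import Cfsg.Agent.Lib.Fusion.SubnormalConstrained
import Cfsg.Agent.Lib.Fusion.ConstrainedFactor
import Cfsg.Agent.S5135

set_option autoImplicit false
open Cfsg

namespace Cfsg.Agent.S5147

/-- Let G be a finite group with Sylow 2-subgroup S whose 2-fusion system on S is constrained, and L a component of G (a subnormal quasisimple subgroup). Then the 2-fusion system of L/Z(L) on the image of S ∩ L is constrained. -/
theorem result {G : Type*} [Group G] [Finite G] (S : Sylow 2 G) (hF : (Cfsg.groupFusionSystem (S : Subgroup G)).IsConstrained 2) (L : Subgroup G) (hL : Cfsg.IsComponent L) : (Cfsg.groupFusionSystem (((S : Subgroup G).subgroupOf L).map (QuotientGroup.mk' (Subgroup.center L)))).IsConstrained 2 := by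
  obtain ⟨R, hR, hc⟩ := CfsgLib.Fusion.constrained_of_subnormal_subgroup S hF L hL.1
  rw [← hR] at hc ⊢
  set K : Subgroup L := (R : Subgroup L) ⊓ Subgroup.center L with hK
  have hfix : ∀ (g : L), ∀ z ∈ K, g * z * g⁻¹ = z := fun g z hz => by
    rw [Subgroup.mem_center_iff.1 hz.2 g, mul_inv_cancel_right]
  have hcen : (Cfsg.groupFusionSystem (R : Subgroup L)).IsCentral K := by
    refine ⟨inf_le_left, fun P φ hφ => ?_⟩
    obtain ⟨hP, hφR, g, hg⟩ := hφ
    refine ⟨Cfsg.conjHom (P ⊔ K) g, ⟨sup_le hP inf_le_left, fun z => ?_, g, fun _ => rfl⟩,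
      fun x => (hg x).symm, fun z => hfix g z z.2⟩
    obtain ⟨y, hy⟩ := z
    show g * y * g⁻¹ ∈ (R : Subgroup L)
    haveI : K.Normal := ⟨fun z hz h => by rw [hfix h z hz]; exact hz⟩
    rw [Subgroup.mem_sup_of_normal_right] at hy
    obtain ⟨x, hx, z, hz, rfl⟩ := hy
    rw [show g * (x * z) * g⁻¹ = (g * x * g⁻¹) * (g * z * g⁻¹) by group, hfix g z hz]
    exact mul_mem (by rw [← hg ⟨x, hx⟩]; exact hφR _) hz.1
  have hsc : (Cfsg.groupFusionSystem (R : Subgroup L)).StronglyClosed K := by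
    refine ⟨inf_le_left, fun Q hQ φ hφ x => ?_⟩
    obtain ⟨-, -, g, hg⟩ := hφ
    rw [hg, hfix g _ (hQ x.2)]
    exact hQ x.2
  exact CfsgLib.Fusion.isConstrained_factor_center R.2 hc (le_sSup hcen) hsc
    (Cfsg.Agent.S5135.result 2 R (Subgroup.center L))

end Cfsg.Agent.S5147
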