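import Cfsg.Statements.S5152
import Cfsg.Agent.Lib.Fusion.CharPLocal
import Cfsg.Agent.Lib.Fusion.CentralLift.Components

set_option autoImplicit false
open Cfsg

namespace Cfsg.Agent.S5152

/-- Dichotomy for saturated fusion systems: a saturated fusion system over a finite p-group is of characteristic p-type (the normalizer system of every nontrivial fully normalized subgroup is constrained) or of component type (the centralizer system of some fully normalized subgroup of order p has a component). -/
theorem result {Ω : Type*} [Group Ω] {S : Subgroup Ω} [Finite S] (p : ℕ) [Fact p.Prime] (hS : IsPGroup p S) (F : Cfsg.FusionSystem S) (hF : F.IsSaturated p) : F.IsOfCharacteristicPType p ∨ F.IsOfComponentType p := by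
  refine or_iff_not_imp_right.2 fun hn U hUne hU E hE => ?_
  have h := CfsgLib.Fusion.CharPType.isConstrained_normalizerSystem_of_centralizers hS hF
    (fun X hX hcard => ?_) hUne hU
  · obtain rfl : E = CfsgLib.Fusion.normalizerSystem F U hU.1 :=
      CfsgLib.Fusion.Transport.fusionSystem_ext fun P => hE P
    exact h
  · have : Finite (Cfsg.FusionSystem.centralizerIn S X) :=
      CfsgLib.Fusion.finite_of_le (CfsgLib.Fusion.centralizerIn_le S X)
    refine (CfsgLib.Fusion.Components.isConstrained_iff_no_component
      (hS.to_le (CfsgLib.Fusion.centralizerIn_le S X))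
      (CfsgLib.Fusion.isSaturated_centralizerSystem hS hF
        (CfsgLib.Fusion.isFullyCentralized_of_isFullyNormalized hS hF hX)
        (CfsgLib.Fusion.isCentralizerSystem_centralizerSystem F X hX.1))).2 ?_
    rintro ⟨T, D, hD⟩
    exact hn ⟨X, hcard, hX, _,
      CfsgLib.Fusion.isCentralizerSystem_centralizerSystem F X hX.1, T, D, hD⟩

end Cfsg.Agent.S5152
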