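import Cfsg.Statements.S5154
import Cfsg.Agent.Lib.Fusion.ConjugateSubnormal
import Cfsg.Agent.Lib.FusionQuot.Factor

set_option autoImplicit false
open Cfsg

namespace Cfsg.Agent.S5154

/-- Let F be a saturated fusion system over a finite p-group S, C a component of F over T, and γ a map of F with source T. Then the image of C under γ — the fusion system over γ(T) whose maps are the homomorphisms induced along γ by the maps of C — is again a component of F. -/
theorem result {Ω : Type*} [Group Ω] {S : Subgroup Ω} [Finite S] (p : ℕ) [Fact p.Prime] (hS : IsPGroup p S) (F : Cfsg.FusionSystem S) (hF : F.IsSaturated p) {T : Subgroup Ω} (C : Cfsg.FusionSystem T) (hC : C.IsComponentIn F p) (γ : T →* Ω) (hγ : γ ∈ F.Hom T) (E : Cfsg.FusionSystem γ.range) (hE : C.IsFactorSystem ⊥ γ E) : E.IsComponentIn F p := by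
  classical
  obtain ⟨hsub, hqs⟩ := hC
  have hTS : T ≤ S := CfsgLib.Fusion.Transport.subnormal_le hsub
  have : Finite T := CfsgLib.Fusion.finite_of_le hTS
  have hT : IsPGroup p T := hS.to_le hTS
  have hinj := F.injective_of_mem hγ
  obtain ⟨-, hker, hrange, hiff⟩ := hE
  have hpC := CfsgLib.Fusion.Transport.isPush_self C
  have hpE : CfsgLib.Fusion.Transport.IsPush γ (CfsgLib.Fusion.Transport.self C) E := by
    refine ⟨by rw [← MonoidHom.range_eq_map], hinj, fun {P φ P' φ'} hr => ?_⟩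
    obtain ⟨ψ, hψ⟩ := CfsgLib.Fusion.Transport.exists_rel_right T.subtype_injective φ
    rw [hpC.iff hψ, hiff]
    have hP' : P' ≤ γ.range := hr.1 ▸ Subgroup.map_le_range γ P
    have hpre : Cfsg.FusionSystem.preimageAlong γ P' = P.map T.subtype := by
      rw [Cfsg.FusionSystem.preimageAlong, ← hr.1, Subgroup.comap_map_eq_self_of_injective hinj]
    rw [hpre]
    constructor
    · intro hm
      refine ⟨hP', ψ, hm, Subgroup.map_subtype_le P, CfsgLib.Fusion.map_mem hm, fun x => ?_, fun x => ?_⟩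
      all_goals obtain ⟨_, ⟨x, hx, rfl⟩⟩ := x
      · exact hr.1 ▸ ⟨x, hx, rfl⟩
      · refine (hr.2 ⟨x, hx⟩ (hr.1 ▸ ⟨x, hx, rfl⟩)).trans (congrArg γ (Subtype.ext ?_))
        exact (hψ.2 ⟨x, hx⟩ ⟨x, hx, rfl⟩).symm
    · rintro ⟨-, χ, hχ, hP, hχT, hP'', hi⟩
      convert hχ using 1
      refine MonoidHom.ext fun z => ?_
      obtain ⟨_, x, hx, rfl⟩ := z
      refine (hψ.2 ⟨x, hx⟩ ⟨x, hx, rfl⟩).trans ?_
      have h1 := hi ⟨x, x, hx, rfl⟩
      have h2 := hr.2 ⟨x, hx⟩ (hr.1 ▸ ⟨x, hx, rfl⟩)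
      exact congrArg Subtype.val (hinj (h2.symm.trans h1))
  have hT0 : IsPGroup p (⊤ : Subgroup T) := hT.to_subgroup _
  refine ⟨CfsgLib.Fusion.Transport.isSubnormalIn_conjugate hsub hS γ hγ E hpE, ?_⟩
  exact (hpE.quasisimple_iff hT0).1 ((hpC.quasisimple_iff hT0).2 hqs)

end Cfsg.Agent.S5154
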