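import Cfsg.Statements.S5172
import Cfsg.Agent.Lib.LieFusion.UnitModel

set_option autoImplicit false
open Cfsg

namespace Cfsg.Agent.S5172

/-- For a finite field K with q² elements of characteristic p and n ≥ 4, the p-fusion system of the projective special unitary group PSU_n(q) (realised over K) on a Sylow p-subgroup is simple. -/
theorem result {K : Type*} [Field K] [Fintype K] (p q : ℕ) [Fact p.Prime] [CharP K p] (hK : Fintype.card K = q ^ 2) (n : ℕ) (hn : 4 ≤ n) (S : Sylow p (Cfsg.PSU n K q)) : (Cfsg.groupFusionSystem (S : Subgroup (Cfsg.PSU n K q))).IsSimple p := by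
  classical
  open CfsgLib.LieFusion.Unit in
  have hI : Invol (CfsgLib.Classical.Herm.qPow hK) :=
    ⟨CfsgLib.Classical.Herm.qPow_qPow hK, CfsgLib.Classical.Herm.exists_qPow_ne hK,
      CfsgLib.Classical.Herm.exists_norm_eq hK⟩
  have : Fact (∀ x, CfsgLib.Classical.Herm.qPow hK (CfsgLib.Classical.Herm.qPow hK x) = x) := ⟨hI.invol⟩
  obtain ⟨f, hf⟩ := CfsgLib.LieFusion.Unit.exists_iso (m := n / 2) (e := n % 2) (n := n) (q := q) hI
    (fun x => rfl) (Nat.div_add_mod n 2)
  refine CfsgLib.LieFusion.Unit.isSimple_of_surjective p hI (m := n / 2) (e := n % 2) (by omega) (by omega)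
    ((QuotientGroup.mk' _).comp f) ((QuotientGroup.mk'_surjective _).comp hf.2) ?_ S
  ext g
  rw [MonoidHom.mem_ker, MonoidHom.comp_apply, QuotientGroup.mk'_apply, QuotientGroup.eq_one_iff,
    Subgroup.mem_center_iff, Subgroup.mem_center_iff]
  refine ⟨fun h x => hf.1 (by rw [map_mul, map_mul, h]), fun h y => ?_⟩
  obtain ⟨x, rfl⟩ := hf.2 y
  rw [← map_mul, h, map_mul]

end Cfsg.Agent.S5172
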