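import Cfsg.Statements.S5178
import Cfsg.Agent.Lib.FusionExtraspecial.Normal
import Cfsg.Agent.Lib.FusionExtraspecial.Basic

set_option autoImplicit false
universe u
open Cfsg
open scoped commutatorElement

namespace Cfsg.Agent.S5178

/-- Let p be an odd prime, S a finite p-group containing an extraspecial subgroup Q of index p, and F a saturated fusion system over S whose largest subgroup normal in F is trivial. Then the centre of S equals the centre of Q. -/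
theorem result {Ω : Type u} [Group Ω] {S : Subgroup Ω} [Finite S] (p : ℕ) [Fact p.Prime] (hp : Odd p) (hS : IsPGroup p S)
    (Q : Subgroup Ω) (hQS : Q ≤ S) (hQ : Cfsg.IsExtraspecial p ↥Q) (hQi : (Q.subgroupOf S).index = p)
    (F : Cfsg.FusionSystem S) (hF : F.IsSaturated p) (hO : F.core = ⊥) :
    S ⊓ Subgroup.centralizer (S : Set Ω) = Q ⊓ Subgroup.centralizer (Q : Set Ω) := by
  classical
  set Z := Q ⊓ Subgroup.centralizer (Q : Set Ω) with hZ
  have hmapZ : (Subgroup.center Q).map Q.subtype = Z := by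
    ext x
    constructor
    · rintro ⟨y, hy, rfl⟩
      exact ⟨y.2, Subgroup.mem_centralizer_iff.2 fun g hg =>
        congrArg Subtype.val (Subgroup.mem_center_iff.1 hy ⟨g, hg⟩)⟩
    · rintro ⟨hxQ, hx⟩
      exact ⟨⟨x, hxQ⟩, Subgroup.mem_center_iff.2 fun g =>
        Subtype.ext (Subgroup.mem_centralizer_iff.1 hx g g.2), rfl⟩
  have hcard : Nat.card Z = p := by
    rw [← hmapZ, ← hQ.2]
    exact (Nat.card_congr ((Subgroup.center Q).equivMapOfInjective _ Q.subtype_injective).toEquiv).symm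
  have hcommQ : ∀ g ∈ Q, ∀ k ∈ Q, g * k * g⁻¹ * k⁻¹ ∈ Z := fun g hg k hk => by
    have h1 : ⁅(⟨g, hg⟩ : Q), (⟨k, hk⟩ : Q)⁆ ∈ Subgroup.center Q := by
      rw [← hQ.1.2.2]
      exact Subgroup.commutator_mem_commutator (Subgroup.mem_top _) (Subgroup.mem_top _)
    exact hmapZ ▸ ⟨_, h1, rfl⟩
  have hnab : ∃ g ∈ S, ∃ k ∈ S, g * k ≠ k * g := by
    by_contra hh
    push Not at hh
    have h1 : commutator Q = ⊥ := by
      rw [eq_bot_iff, commutator_def, Subgroup.commutator_le]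
      intro g _ k _
      rw [Subgroup.mem_bot, commutatorElement_eq_one_iff_mul_comm]
      exact Subtype.ext (hh g (hQS g.2) k (hQS k.2))
    have h2 := hQ.2
    rw [← hQ.1.2.2, h1, Subgroup.card_bot] at h2
    exact (Fact.out : p.Prime).one_lt.ne h2
  have hZS : Z ≤ S := inf_le_left.trans hQS
  -- `Z` is normal of order `p`, hence central
  have hQn : (Q.subgroupOf S).Normal := by
    have : Group.IsNilpotent S := IsPGroup.isNilpotent hS
    have hp' := (Fact.out : p.Prime)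
    exact CfsgLib.FusionExtraspecial.normal_of_index_eq hS hQi
  have hZn : (Z.subgroupOf S).Normal := by
    refine ⟨fun x hx g => ⟨hQn.conj_mem x hx.1 g, Subgroup.mem_centralizer_iff.2 fun q hq => ?_⟩⟩
    have hq' : ((g⁻¹ * ⟨q, hQS hq⟩ * g : S) : Ω) ∈ Q := by
      simpa [Subgroup.mem_subgroupOf] using hQn.conj_mem ⟨q, hQS hq⟩ hq g⁻¹
    have e := Subgroup.mem_centralizer_iff.1 hx.2 _ hq'
    simp only [Subgroup.coe_mul, Subgroup.coe_inv, Subgroup.coe_subtype] at e ⊢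
    calc q * ((g : Ω) * x * (g : Ω)⁻¹) = g * (((g : Ω)⁻¹ * q * g) * x) * (g : Ω)⁻¹ := by group
      _ = g * ((x : Ω) * ((g : Ω)⁻¹ * q * g)) * (g : Ω)⁻¹ := by rw [e]
      _ = _ := by group
  have hcentral : Z.subgroupOf S ≤ Subgroup.center S := CfsgLib.FusionExtraspecial.le_center_of_card_eq hS hZn
    ((Nat.card_congr (Subgroup.subgroupOfEquivOfLe hZS).toEquiv).trans hcard)
  have hZc : ∀ z ∈ Z, ∀ g ∈ S, g * z = z * g := fun z hz g hg =>
    congrArg Subtype.val (Subgroup.mem_center_iff.1 (hcentral (show (⟨z, hZS hz⟩ : S) ∈ Z.subgroupOf S from hz)) ⟨g, hg⟩)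
  have hZW : Z ≤ S ⊓ Subgroup.centralizer (S : Set Ω) := fun z hz =>
    ⟨hZS hz, Subgroup.mem_centralizer_iff.2 fun g hg => hZc z hz g hg⟩
  refine le_antisymm (fun w hw => ?_) hZW
  by_contra hwZ
  have hwQ : w ∉ Q := fun hwQ => hwZ ⟨hwQ, Subgroup.centralizer_le hQS hw.2⟩
  -- the commutators of `S` are those of `Q`
  have hU : ∀ k ∈ S, (∀ g ∈ Q, g * k * g⁻¹ * k⁻¹ ∈ Z) → ∀ g ∈ S, g * k * g⁻¹ * k⁻¹ ∈ Z := by
    intro k hk hq g hg
    let U : Subgroup S :=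
      { carrier := {x | (x : Ω) * k * (x : Ω)⁻¹ * k⁻¹ ∈ Z}
        one_mem' := by simp
        mul_mem' := fun {a b} ha hb => by
          have e : (a : Ω) * ((b : Ω) * k * (b : Ω)⁻¹ * k⁻¹) * k * (a : Ω)⁻¹ * k⁻¹ =
              ((b : Ω) * k * (b : Ω)⁻¹ * k⁻¹) * ((a : Ω) * k * (a : Ω)⁻¹ * k⁻¹) := by
            rw [hZc _ hb _ a.2]; group
          show ((a * b : S) : Ω) * k * ((a * b : S) : Ω)⁻¹ * k⁻¹ ∈ Z
          rw [Subgroup.coe_mul, show (a : Ω) * b * k * ((a : Ω) * b)⁻¹ * k⁻¹ =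
            (a : Ω) * ((b : Ω) * k * (b : Ω)⁻¹ * k⁻¹) * k * (a : Ω)⁻¹ * k⁻¹ by group, e]
          exact Z.mul_mem hb ha
        inv_mem' := fun {a} ha => by
          show ((a⁻¹ : S) : Ω) * k * ((a⁻¹ : S) : Ω)⁻¹ * k⁻¹ ∈ Z
          have e := hZc _ (Z.inv_mem ha) _ (S.inv_mem a.2)
          rw [Subgroup.coe_inv, show (a : Ω)⁻¹ * k * (a : Ω)⁻¹⁻¹ * k⁻¹ =
            (a : Ω)⁻¹ * ((a : Ω) * k * (a : Ω)⁻¹ * k⁻¹)⁻¹ * (a : Ω) by group, e, inv_mul_cancel_right]
          exact Z.inv_mem ha }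
    exact CfsgLib.FusionExtraspecial.mem_of_prime_index hQi (U := U) (fun x hx => hq x hx) (g := ⟨w, hw.1⟩)
      (show w * k * w⁻¹ * k⁻¹ ∈ Z by rw [← Subgroup.mem_centralizer_iff.1 hw.2 k hk]; simp) hwQ ⟨g, hg⟩
  have hcomm : ∀ g ∈ S, ∀ k ∈ S, g * k * g⁻¹ * k⁻¹ ∈ Z := fun g hg k hk =>
    hU k hk (fun q hq => by
      have h1 := Z.inv_mem (hU q (hQS hq) (fun q' hq' => hcommQ q' hq' q hq) k hk)
      rwa [mul_inv_rev, mul_inv_rev, mul_inv_rev, inv_inv, inv_inv, ← mul_assoc, ← mul_assoc] at h1) g hg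
  exact CfsgLib.FusionExtraspecial.core_ne_bot
    (⟨hS, hZS, hcard, hcomm, hZc, hnab, fun hle => hwZ (hle hw)⟩ :
      CfsgLib.FusionExtraspecial.Setting S Z p) hp hF hO

end Cfsg.Agent.S5178
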