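import Cfsg.Statements.S5185
import Cfsg.Agent.Lib.EssSmall.Plane

set_option autoImplicit false
universe u
open Cfsg

namespace Cfsg.Agent.S5185

open CfsgLib.Fusion in
/-- Let F be a saturated fusion system over a finite p-group S and H an essential subgroup of order p². Then H is elementary abelian (isomorphic to C_p × C_p) and its F-automorphism group contains a subgroup isomorphic to SL(2,p). -/
theorem result {Ω : Type u} [Group Ω] {S : Subgroup Ω} [Finite S] (p : ℕ) [Fact p.Prime] (hS : IsPGroup p S)
    (F : Cfsg.FusionSystem S) (hF : F.IsSaturated p) (H : Subgroup Ω) (hH : F.IsEssential p H) (hcard : Nat.card H = p ^ 2) :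
    Cfsg.IsElementaryAbelian p H ∧
      ∃ K : Subgroup ↥(F.autGroup H), Nonempty (↥K ≃* Matrix.SpecialLinearGroup (Fin 2) (ZMod p)) := by
  have hp := (Fact.out : p.Prime)
  have : Finite H := finite_of_le hH.1.1
  have hab : ∀ a b : H, a * b = b * a := IsPGroup.commutative_of_card_eq_prime_sq hcard
  have : IsMulCommutative H := ⟨⟨hab⟩⟩
  have hnc := CfsgLib.EssSmall.not_isCyclic_of_isEssential hS hF hH
  have hexp : ∀ a : H, a ^ p = 1 := by
    intro a
    obtain ⟨i, hi, hi'⟩ := (Nat.dvd_prime_pow hp).1 (hcard ▸ orderOf_dvd_natCard a)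
    apply orderOf_dvd_iff_pow_eq_one.1
    interval_cases i
    · rw [hi', pow_zero]; exact one_dvd p
    · rw [hi', pow_one]
    · exact absurd (isCyclic_of_orderOf_eq_card a (by rw [hi', hcard])) hnc
  refine ⟨⟨inferInstance, fun a ha => congrArg Subtype.val (hexp ⟨a, ha⟩)⟩, ?_⟩
  have hrad := isRadical_of_isEssential hS hF hH
  have hcore : pCore p (F.autGroup H) = ⊥ := by
    have h := hrad.2
    rw [CfsgLib.FusionIndexP.inn_eq_bot, Subgroup.map_eq_bot_iff_of_injective _ Subtype.val_injective] at h
    exact h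
  refine CfsgLib.EssSmall.exists_sl2_subgroup hab hexp hcard _ hcore ?_
  have : Finite (MulAut H) := Finite.of_injective _ DFunLike.coe_injective
  obtain ⟨-, -, hn, E, hdvd, -⟩ := hH
  exact hdvd.trans (Subgroup.card_quotient_dvd_card _)

end Cfsg.Agent.S5185
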