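import Cfsg.Statements.S5186
import Cfsg.Agent.Lib.EssSmall.Series
import Cfsg.Agent.Lib.StdForm.OrderEight
import Cfsg.Agent.Lib.Transfer.ClassTwo

set_option autoImplicit false
universe u
open Cfsg

namespace Cfsg.Agent.S5186

open scoped commutatorElement

variable {H : Type*} [Group H] [Finite H] {p : ℕ} [Fact p.Prime]

/-- Two subgroups with the product of orders `p³`, the first contained in the second. -/
theorem series_facts {R K : Subgroup H} (hc : Nat.card H = p ^ 3) (hRK : R ≤ K)
    (hmul : Nat.card R * Nat.card K = p ^ 3) (hR : Nat.card R ≠ 1) :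
    Nat.card R = p ∧ R.relIndex K = p ∧ K.index = p := by
  have hp := (Fact.out : p.Prime)
  obtain ⟨i, hi, hi'⟩ := (Nat.dvd_prime_pow hp).1 (hc ▸ R.card_subgroup_dvd_card)
  obtain ⟨j, hj, hj'⟩ := (Nat.dvd_prime_pow hp).1 (hc ▸ K.card_subgroup_dvd_card)
  have hij : i + j = 3 := Nat.pow_right_injective hp.two_le
    (show p ^ (i + j) = p ^ 3 by rw [pow_add, ← hi', ← hj', hmul])
  have hle : i ≤ j := (Nat.pow_le_pow_iff_right hp.one_lt).1
    (hi' ▸ hj' ▸ Nat.card_le_card_of_injective _ (Subgroup.inclusion_injective hRK))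
  have hi0 : i ≠ 0 := fun h => hR (by rw [hi', h, pow_zero])
  obtain ⟨rfl, rfl⟩ : i = 1 ∧ j = 2 := by omega
  refine ⟨by rw [hi', pow_one], ?_, ?_⟩
  · have h := Subgroup.relIndex_mul_relIndex ⊥ R K bot_le hRK
    rw [Subgroup.relIndex_bot_left, Subgroup.relIndex_bot_left, hi', hj', pow_one, sq] at h
    exact Nat.eq_of_mul_eq_mul_left hp.pos h
  · have h := K.card_mul_index
    rw [hj', hc, pow_succ] at h
    exact Nat.eq_of_mul_eq_mul_left (pow_pos hp.pos 2) h

theorem dihedral_facts : ∀ x : DihedralGroup 4, x * x ≠ 1 →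
    x = DihedralGroup.r 1 ∨ x = DihedralGroup.r 1 * (DihedralGroup.r 1 * DihedralGroup.r 1) := by
  decide

theorem dihedral_pow_facts :
    ((DihedralGroup.r 1 : DihedralGroup 4) * DihedralGroup.r 1 ≠ 1) ∧
    orderOf (DihedralGroup.r 1 : DihedralGroup 4) = 4 := by
  exact ⟨by decide, DihedralGroup.orderOf_r_one⟩

open CfsgLib.Fusion in
/-- Let F be a saturated fusion system over a finite p-group S and H an essential subgroup of order p³. Then H is elementary abelian, or p is odd and H is extraspecial of exponent p, or p = 2 and H is the quaternion group of order 8. -/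
theorem result {Ω : Type u} [Group Ω] {S : Subgroup Ω} [Finite S] (p : ℕ) [Fact p.Prime] (hS : IsPGroup p S)
    (F : Cfsg.FusionSystem S) (hF : F.IsSaturated p) (H : Subgroup Ω) (hH : F.IsEssential p H) (hcard : Nat.card H = p ^ 3) :
    Cfsg.IsElementaryAbelian p H ∨ (Odd p ∧ Cfsg.IsExtraspecial p ↥H ∧ ∀ x ∈ H, x ^ p = 1) ∨
      (p = 2 ∧ Nonempty (↥H ≃* QuaternionGroup 2)) := by
  have hp := (Fact.out : p.Prime)
  have : Finite H := finite_of_le hH.1.1
  have hHp : IsPGroup p H := IsPGroup.of_card hcard
  have hnc := CfsgLib.EssSmall.not_isCyclic_of_isEssential hS hF hH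
  by_cases hcomm : IsMulCommutative H
  · left
    refine ⟨hcomm, fun a ha => ?_⟩
    by_contra hne
    let f : H →* H :=
      { toFun := fun x => x ^ p
        map_one' := one_pow p
        map_mul' := fun x y => (show Commute x y from mul_comm' x y).mul_pow p }
    have hsq : ∀ x : H, x ^ (p ^ 2) = 1 := by
      intro x
      obtain ⟨i, hi, hi'⟩ := (Nat.dvd_prime_pow hp).1 (hcard ▸ orderOf_dvd_natCard x)
      apply orderOf_dvd_iff_pow_eq_one.1
      rw [hi']
      refine pow_dvd_pow p ?_
      by_contra h3
      exact hnc (isCyclic_of_orderOf_eq_card x (by rw [hi', hcard]; congr 1; omega))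
    have hRK : f.range ≤ f.ker := by
      rintro _ ⟨x, rfl⟩
      show (x ^ p) ^ p = 1
      rw [← pow_mul, ← sq, hsq]
    have hmul : Nat.card f.range * Nat.card f.ker = p ^ 3 := by
      rw [← Subgroup.index_ker, mul_comm, Subgroup.card_mul_index, hcard]
    have hR1 : Nat.card f.range ≠ 1 := by
      intro h
      have h2 : f ⟨a, ha⟩ ∈ (⊥ : Subgroup H) := Subgroup.card_eq_one.1 h ▸ ⟨⟨a, ha⟩, rfl⟩
      exact hne (congrArg Subtype.val (Subgroup.mem_bot.1 h2))
    obtain ⟨h1, h2, h3⟩ := series_facts hcard hRK hmul hR1
    refine CfsgLib.EssSmall.false_of_series hS hF hH hRK h1 h2 (Or.inr h3) ?_ ?_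
    · rintro g - _ ⟨x, rfl⟩
      exact ⟨g x, (map_pow g x p).symm⟩
    · intro g _ x (hx : x ^ p = 1)
      show (g x) ^ p = 1
      rw [← map_pow, hx, map_one]
  · right
    obtain ⟨a, b, hab⟩ : ∃ a b : H, a * b ≠ b * a := by
      by_contra hc; push Not at hc; exact hcomm ⟨⟨hc⟩⟩
    have : Nontrivial H := ⟨⟨a, b, fun h => hab (by rw [h])⟩⟩
    have hZn : Subgroup.center H ≠ ⊤ := fun h => hab
      (Subgroup.mem_center_iff.1 (h ▸ Subgroup.mem_top b) a)
    obtain ⟨i, hi, hi'⟩ := (Nat.dvd_prime_pow hp).1 (hcard ▸ (Subgroup.center H).card_subgroup_dvd_card)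
    have hidx := (Subgroup.center H).card_mul_index
    rw [hcard, hi'] at hidx
    have hZcard : Nat.card (Subgroup.center H) = p := by
      interval_cases i
      · exfalso
        have := hHp.center_nontrivial
        exact absurd hi' (by rw [pow_zero]; exact (Finite.one_lt_card).ne')
      · rw [hi', pow_one]
      · exfalso
        have h2 : (Subgroup.center H).index = p := by
          rw [show p ^ 3 = p ^ 2 * p by ring] at hidx
          exact Nat.eq_of_mul_eq_mul_left (pow_pos hp.pos 2) hidx
        have : IsCyclic (H ⧸ Subgroup.center H) := isCyclic_of_prime_card (p := p) h2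
        exact hab (commutative_of_cyclic_center_quotient (QuotientGroup.mk' _)
          (QuotientGroup.ker_mk' (Subgroup.center H)).le a b)
      · exact absurd (Subgroup.eq_top_of_card_eq _ (hi'.trans hcard.symm)) hZn
    have hqcard : Nat.card (H ⧸ Subgroup.center H) = p ^ 2 := by
      have := (Subgroup.center H).card_mul_index
      rw [hcard, hZcard, pow_succ'] at this
      exact Nat.eq_of_mul_eq_mul_left hp.pos this
    have hqab := IsPGroup.commutative_of_card_eq_prime_sq hqcard
    have hc : ∀ x y : H, ⁅x, y⁆ ∈ Subgroup.center H := fun x y => by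
      rw [← QuotientGroup.eq_one_iff]
      show QuotientGroup.mk' (Subgroup.center H) ⁅x, y⁆ = 1
      rw [map_commutatorElement, commutatorElement_eq_one_iff_commute]
      exact hqab _ _
    have hpow : ∀ x : H, x ^ p ∈ Subgroup.center H := fun x => by
      rw [← QuotientGroup.eq_one_iff, QuotientGroup.mk_pow]
      obtain ⟨j, hj, hj'⟩ := (Nat.dvd_prime_pow hp).1
        (hqcard ▸ orderOf_dvd_natCard (x : H ⧸ Subgroup.center H))
      apply orderOf_dvd_iff_pow_eq_one.1
      interval_cases j
      · rw [hj', pow_zero]; exact one_dvd p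
      · rw [hj', pow_one]
      · exfalso
        have : IsCyclic (H ⧸ Subgroup.center H) :=
          isCyclic_of_orderOf_eq_card _ (by rw [hj', hqcard])
        exact hab (commutative_of_cyclic_center_quotient (QuotientGroup.mk' _)
          (QuotientGroup.ker_mk' (Subgroup.center H)).le a b)
    have hcZ : commutator H = Subgroup.center H := by
      have hle : commutator H ≤ Subgroup.center H := Subgroup.commutator_le.2 fun x _ y _ => hc x y
      refine Subgroup.eq_of_le_of_card_ge hle ?_
      rw [hZcard]
      rcases (Nat.dvd_prime hp).1 (hZcard ▸ Subgroup.card_dvd_of_le hle) with h | h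
      · exfalso
        apply hab
        rw [← commutatorElement_eq_one_iff_mul_comm, ← Subgroup.mem_bot, ← Subgroup.card_eq_one.1 h]
        exact Subgroup.commutator_mem_commutator (Subgroup.mem_top _) (Subgroup.mem_top _)
      · exact h.ge
    have hfr : frattini H = Subgroup.center H :=
      le_antisymm (CfsgLib.PGroup.frattini_le_of_elementary hc hpow)
        (hcZ ▸ CfsgLib.PGroup.commutator_le_frattini hHp)
    have hex : Cfsg.IsExtraspecial p H := ⟨⟨hHp, hfr, hcZ⟩, hZcard⟩
    rcases hp.eq_two_or_odd' with rfl | hodd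
    · right
      refine ⟨rfl, ?_⟩
      rcases CfsgLib.StdForm.dihedral_or_quaternion_of_card_eight (by rw [hcard]; norm_num) hab with
        ⟨⟨e⟩⟩ | h
      · exfalso
        set c := e.symm (DihedralGroup.r 1) with hc'
        have hord : orderOf c = 4 := (MulEquiv.orderOf_eq e.symm _).trans dihedral_pow_facts.2
        have hord2 : orderOf (c ^ 2) = 2 := by
          rw [orderOf_pow, hord]; norm_num
        have hgc : ∀ g : MulAut H, g c = c ∨ g c = c ^ 3 := by
          intro g
          rcases dihedral_facts (e (g c)) (fun h => by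
            rw [← map_mul, ← map_mul, MulEquiv.map_eq_one_iff, MulEquiv.map_eq_one_iff, ← sq] at h
            rw [h, orderOf_one] at hord2
            norm_num at hord2) with h | h
          · exact Or.inl (e.injective (h.trans (by rw [hc', MulEquiv.apply_symm_apply])))
          · right
            apply e.injective
            rw [h, map_pow, hc', MulEquiv.apply_symm_apply, pow_succ', sq]
        have hidx4 : (Subgroup.zpowers c).index = 2 := by
          have := (Subgroup.zpowers c).card_mul_index
          rw [Nat.card_zpowers, hord, hcard] at this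
          omega
        refine CfsgLib.EssSmall.false_of_series hS hF hH (Z₁ := Subgroup.zpowers (c ^ 2))
          (Z₂ := Subgroup.zpowers c) (Subgroup.zpowers_le.2 (pow_mem (Subgroup.mem_zpowers c) 2))
          (by rw [Nat.card_zpowers, hord2]) ?_ (Or.inr hidx4) ?_ ?_
        · have h := Subgroup.relIndex_mul_relIndex ⊥ (Subgroup.zpowers (c ^ 2)) (Subgroup.zpowers c)
            bot_le (Subgroup.zpowers_le.2 (pow_mem (Subgroup.mem_zpowers c) 2))
          rw [Subgroup.relIndex_bot_left, Subgroup.relIndex_bot_left, Nat.card_zpowers,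
            Nat.card_zpowers, hord, hord2] at h
          omega
        · rintro g - _ ⟨i, rfl⟩
          show g ((c ^ 2) ^ i) ∈ _
          rw [map_zpow, map_pow]
          refine Subgroup.zpow_mem _ ?_ i
          rcases hgc g with h | h <;> rw [h]
          · exact Subgroup.mem_zpowers _
          · rw [← pow_mul, show 3 * 2 = 2 * 3 by rfl, pow_mul]
            exact pow_mem (Subgroup.mem_zpowers _) 3
        · rintro g - _ ⟨i, rfl⟩
          show g (c ^ i) ∈ _
          rw [map_zpow]
          refine Subgroup.zpow_mem _ ?_ i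
          rcases hgc g with h | h <;> rw [h]
          · exact Subgroup.mem_zpowers _
          · exact pow_mem (Subgroup.mem_zpowers _) 3
      · exact h
    · left
      refine ⟨hodd, hex, fun x hx => ?_⟩
      by_contra hne
      have hcp : ∀ z ∈ Subgroup.center H, z ^ p = 1 := fun z hz =>
        congrArg Subtype.val (show (⟨z, hz⟩ : Subgroup.center H) ^ p = 1 by
          rw [← hZcard]; exact pow_card_eq_one')
      let f : H →* H :=
        { toFun := fun x => x ^ p
          map_one' := one_pow p
          map_mul' := fun x y => by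
            have hz := hc y x
            rw [CfsgLib.Transfer.mul_pow_of_commute_commutator (Subgroup.mem_center_iff.1 hz x).symm
              (Subgroup.mem_center_iff.1 hz y).symm p]
            obtain ⟨k, hk⟩ : p ∣ p.choose 2 :=
              hp.dvd_choose_self two_ne_zero (lt_of_le_of_ne hp.two_le fun h => by
                rw [← h] at hodd; exact absurd hodd (by decide))
            rw [hk, pow_mul, hcp _ hz, one_pow, mul_one] }
      have hRK : f.range ≤ f.ker := by
        rintro _ ⟨y, rfl⟩
        exact hcp _ (hpow y)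
      have hmul : Nat.card f.range * Nat.card f.ker = p ^ 3 := by
        rw [← Subgroup.index_ker, mul_comm, Subgroup.card_mul_index, hcard]
      have hR1 : Nat.card f.range ≠ 1 := by
        intro h
        have h2 : f ⟨x, hx⟩ ∈ (⊥ : Subgroup H) := Subgroup.card_eq_one.1 h ▸ ⟨⟨x, hx⟩, rfl⟩
        exact hne (congrArg Subtype.val (Subgroup.mem_bot.1 h2))
      obtain ⟨h1, h2, h3⟩ := series_facts hcard hRK hmul hR1
      refine CfsgLib.EssSmall.false_of_series hS hF hH hRK h1 h2 (Or.inr h3) ?_ ?_
      · rintro g - _ ⟨y, rfl⟩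
        exact ⟨g y, (map_pow g y p).symm⟩
      · intro g _ y (hy : y ^ p = 1)
        show (g y) ^ p = 1
        rw [← map_pow, hy, map_one]

end Cfsg.Agent.S5186
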