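import Cfsg.Statements.S5187
import Cfsg.Agent.Lib.EssSmall.RankTwo
import Cfsg.Agent.Lib.PGroup.KulakoffTwo

set_option autoImplicit false
universe u
open Cfsg

namespace Cfsg.Agent.S5187

open CfsgLib.Fusion in
open scoped IsMulCommutative in
/-- Let F be a saturated fusion system over a finite p-group S and H an abelian essential subgroup that can be generated by two elements (its Frattini quotient has order at most p²). Then H is elementary abelian of order p², or p ≤ 3 and H is homocyclic of rank two, that is isomorphic to C_{pᵏ} × C_{pᵏ} for some k. -/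
theorem result {Ω : Type u} [Group Ω] {S : Subgroup Ω} [Finite S] (p : ℕ) [Fact p.Prime] (hS : IsPGroup p S)
    (F : Cfsg.FusionSystem S) (hF : F.IsSaturated p) (H : Subgroup Ω) (hH : F.IsEssential p H) (hab : IsMulCommutative ↥H) (hrk : (frattini ↥H).index ≤ p ^ 2) :
    (Cfsg.IsElementaryAbelian p H ∧ Nat.card H = p ^ 2) ∨
      (p ≤ 3 ∧ ∃ k : ℕ, Nonempty (↥H ≃* Multiplicative (ZMod (p ^ k) × ZMod (p ^ k)))) := by
  have hp := (Fact.out : p.Prime)
  have : Finite H := finite_of_le hH.1.1
  have : Finite (MulAut H) := Finite.of_injective _ DFunLike.coe_injective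
  have hHp : IsPGroup p H := hS.to_le hH.1.1
  obtain ⟨e, he⟩ := CfsgLib.Kulakoff.sq_dvd_frattini_index hHp
    (CfsgLib.EssSmall.not_isCyclic_of_isEssential hS hF hH)
  have hidx : (frattini ↥H).index = p ^ 2 := by
    rw [he] at hrk ⊢
    have := (Nat.pow_le_pow_iff_right hp.one_lt).1 hrk
    congr 1
    omega
  have hcore : pCore p (F.autGroup H) = ⊥ := by
    have h := (isRadical_of_isEssential hS hF hH).2
    rw [CfsgLib.FusionIndexP.inn_eq_bot, Subgroup.map_eq_bot_iff_of_injective _ Subtype.val_injective] at h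
    exact h
  have hdvd : p ∣ Nat.card (F.autGroup H) := by
    obtain ⟨-, -, hn, E, hdvd, -⟩ := hH
    exact hdvd.trans (Subgroup.card_quotient_dvd_card _)
  by_cases h5 : 5 ≤ p
  · left
    have hexp : ∀ y : H, y ^ p = 1 := fun y =>
      CfsgLib.EssSmall.pow_prime_eq_one hHp hcore hdvd hidx h5 y
    refine ⟨⟨hab, fun a ha => congrArg Subtype.val (hexp ⟨a, ha⟩)⟩, ?_⟩
    have hbot : frattini ↥H = ⊥ := le_bot_iff.1 (CfsgLib.PGroup.frattini_le_of_elementary
      (fun x y => Subgroup.mem_bot.2 (commutatorElement_eq_one_iff_mul_comm.2 (mul_comm x y)))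
      fun x => Subgroup.mem_bot.2 (hexp x))
    rw [hbot, Subgroup.index_bot] at hidx
    exact hidx
  · right
    refine ⟨?_, CfsgLib.EssSmall.exists_homocyclic hHp hcore hdvd hidx⟩
    by_contra h3
    have h4 : p = 4 := by omega
    rw [h4] at hp
    exact absurd hp (by decide)

end Cfsg.Agent.S5187
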