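import Cfsg.Statements.S5188
import Mathlib.Algebra.Group.TransferInstance
import Cfsg.Agent.Lib.EssSmall.Frattini
import Cfsg.Agent.Lib.EssSmall.RankTwo
import Cfsg.Agent.Lib.PGroup.KulakoffTwo
import Cfsg.Agent.Lib.Extraspecial.Card
import Cfsg.Agent.Lib.StdForm.OrderEight
import Cfsg.Agent.Lib.Transfer.ClassTwo

set_option autoImplicit false
universe u
open Cfsg

namespace Cfsg.Agent.S5188

open scoped commutatorElement

/-- A central element of order `p` outside a subgroup of index `p` splits off. -/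
theorem exists_split_iso {H : Type*} [Group H] [Finite H] {p : ℕ} [Fact p.Prime] (E : Subgroup H)
    {t : H} (ht : t ∈ Subgroup.center H) (htp : t ^ p = 1) (htE : t ∉ E)
    (hcard : Nat.card E * p = Nat.card H) :
    Nonempty (↥E × Multiplicative (ZMod p) ≃* H) := by
  have hp := (Fact.out : p.Prime)
  let lt : ZMod p →+ Additive H := ZMod.lift p ⟨zmultiplesHom _ (Additive.ofMul t), by
    rw [zmultiplesHom_apply, natCast_zsmul]; exact congrArg Additive.ofMul htp⟩
  let τ : Multiplicative (ZMod p) →* H := AddMonoidHom.toMultiplicativeLeft lt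
  have hτ : ∀ i : ℤ, τ (Multiplicative.ofAdd (i : ZMod p)) = t ^ i := fun i => by
    show Additive.toMul (lt (i : ZMod p)) = _
    rw [ZMod.lift_coe]
    rfl
  have hτc : ∀ a : Multiplicative (ZMod p), τ a ∈ Subgroup.center H := fun a => by
    obtain ⟨i, hi⟩ := ZMod.intCast_surjective (Multiplicative.toAdd a)
    have ha : a = Multiplicative.ofAdd (i : ZMod p) := by rw [hi]; rfl
    rw [ha, hτ]
    exact Subgroup.zpow_mem _ ht i
  let φ : ↥E × Multiplicative (ZMod p) →* H :=
    { toFun := fun z => (z.1 : H) * τ z.2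
      map_one' := by simp
      map_mul' := fun a b => by
        show ((a.1 * b.1 : E) : H) * τ (a.2 * b.2) = (a.1 : H) * τ a.2 * ((b.1 : H) * τ b.2)
        rw [map_mul, Subgroup.coe_mul]
        have := Subgroup.mem_center_iff.1 (hτc a.2) (b.1 : H)
        calc (a.1 : H) * b.1 * (τ a.2 * τ b.2) = a.1 * (b.1 * τ a.2) * τ b.2 := by group
          _ = a.1 * (τ a.2 * b.1) * τ b.2 := by rw [this]
          _ = _ := by group }
  have hinj : Function.Injective φ := by
    rw [injective_iff_map_eq_one]
    rintro ⟨e, a⟩ h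
    obtain ⟨i, hi⟩ := ZMod.intCast_surjective (Multiplicative.toAdd a)
    obtain rfl : a = Multiplicative.ofAdd (i : ZMod p) := by rw [hi]; rfl
    have h' : (e : H) * t ^ i = 1 := hτ i ▸ h
    have hti : t ^ i ∈ E := by
      rw [← inv_mul_cancel_left (e : H) (t ^ i), h', mul_one]
      exact inv_mem e.2
    have hdvd : (p : ℤ) ∣ i := by
      by_contra hni
      obtain ⟨u, v, huv⟩ : IsCoprime (p : ℤ) i :=
        (Nat.prime_iff_prime_int.1 hp).coprime_iff_not_dvd.2 hni
      apply htE
      have : t = (t ^ (p : ℤ)) ^ u * (t ^ i) ^ v := by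
        rw [← zpow_mul, ← zpow_mul, ← zpow_add, mul_comm _ u, mul_comm _ v, huv, zpow_one]
      rw [this, zpow_natCast, htp, one_zpow, one_mul]
      exact Subgroup.zpow_mem _ hti v
    have h0 : (i : ZMod p) = 0 := (ZMod.intCast_zmod_eq_zero_iff_dvd i p).2 hdvd
    rw [orderOf_dvd_iff_zpow_eq_one.1 ((Int.natCast_dvd_natCast.2 (orderOf_dvd_of_pow_eq_one htp)).trans
      hdvd), mul_one] at h'
    exact Prod.ext (Subtype.ext h') (by rw [h0]; rfl)
  refine ⟨MulEquiv.ofBijective φ ((Nat.bijective_iff_injective_and_card φ).2 ⟨hinj, ?_⟩)⟩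
  rw [Nat.card_prod, show Nat.card (Multiplicative (ZMod p)) = Nat.card (ZMod p) from rfl,
    Nat.card_zmod, hcard]

/-- The rank three abelian groups of order `p⁴` that are not elementary. -/
theorem exists_iso_rank_three {H : Type*} [CommGroup H] [Finite H] {p : ℕ} [Fact p.Prime]
    (hc : Nat.card H = p ^ 4) (hr : Nat.card (powMonoidHom p : H →* H).range = p)
    (hsq : ∀ x : H, x ^ (p ^ 2) = 1) :
    Nonempty (H ≃* Multiplicative (ZMod (p ^ 2) × ZMod p × ZMod p)) := by
  have hp := (Fact.out : p.Prime)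
  set f : H →* H := powMonoidHom p with hf
  obtain ⟨x, hx⟩ : ∃ x : H, x ^ p ≠ 1 := by
    by_contra h
    push Not at h
    have : f.range = ⊥ := (Subgroup.eq_bot_iff_forall _).2 (by rintro _ ⟨y, rfl⟩; exact h y)
    rw [this, Subgroup.card_bot] at hr
    exact hp.one_lt.ne hr
  have hK : Nat.card f.ker = p ^ 3 := by
    have := f.ker.card_mul_index
    rw [Subgroup.index_ker, hr, hc, pow_succ] at this
    exact Nat.eq_of_mul_eq_mul_right hp.pos this
  set Z := Subgroup.zpowers (x ^ p)
  have hxp : (x ^ p) ^ p = 1 := by rw [← pow_mul, ← sq, hsq]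
  have hZc : Nat.card Z = p := by rw [Nat.card_zpowers]; exact orderOf_eq_prime hxp hx
  have hZK : Z ≤ f.ker := Subgroup.zpowers_le.2 hxp
  obtain ⟨a, haK, haZ⟩ : ∃ a ∈ f.ker, a ∉ Z := by
    by_contra h
    push Not at h
    have := Subgroup.card_le_of_le (show f.ker ≤ Z from h)
    rw [hK, hZc] at this
    exact absurd this (not_le.2 (by
      conv_lhs => rw [← pow_one p]
      exact Nat.pow_lt_pow_right hp.one_lt (by norm_num)))
  have hap : a ^ p = 1 := haK
  obtain ⟨b, hbK, hbA⟩ : ∃ b ∈ f.ker, b ∉ Z ⊔ Subgroup.zpowers a := by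
    by_contra h
    push Not at h
    have := Subgroup.card_le_of_le (show f.ker ≤ Z ⊔ Subgroup.zpowers a from h)
    rw [hK, CfsgLib.PGroup.card_sup_zpowers haZ (hap ▸ one_mem Z : a ^ p ∈ Z), hZc, ← sq] at this
    exact absurd this (not_le.2 (Nat.pow_lt_pow_right hp.one_lt (by norm_num)))
  have hbp : b ^ p = 1 := hbK
  let lx : ZMod (p ^ 2) →+ Additive H := ZMod.lift (p ^ 2) ⟨zmultiplesHom _ (Additive.ofMul x), by
    rw [zmultiplesHom_apply, natCast_zsmul]; exact congrArg Additive.ofMul (hsq x)⟩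
  let la : ZMod p →+ Additive H := ZMod.lift p ⟨zmultiplesHom _ (Additive.ofMul a), by
    rw [zmultiplesHom_apply, natCast_zsmul]; exact congrArg Additive.ofMul hap⟩
  let lb : ZMod p →+ Additive H := ZMod.lift p ⟨zmultiplesHom _ (Additive.ofMul b), by
    rw [zmultiplesHom_apply, natCast_zsmul]; exact congrArg Additive.ofMul hbp⟩
  let θ : ZMod (p ^ 2) × ZMod p × ZMod p →+ Additive H := lx.coprod (la.coprod lb)
  have hθ : ∀ i j l : ℤ, θ ((i : ZMod (p ^ 2)), (j : ZMod p), (l : ZMod p)) =
      Additive.ofMul (x ^ i * (a ^ j * b ^ l)) := by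
    intro i j l
    show lx (i : ZMod (p ^ 2)) + (la (j : ZMod p) + lb (l : ZMod p)) = _
    rw [ZMod.lift_coe, ZMod.lift_coe, ZMod.lift_coe]
    rfl
  have hdiv : ∀ (y : H) (U : Subgroup H) (i : ℤ), y ^ p ∈ U → y ^ i ∈ U → ¬ (p : ℤ) ∣ i → y ∈ U := by
    intro y U i hyp hyi hni
    obtain ⟨u, v, huv⟩ : IsCoprime (p : ℤ) i :=
      (Nat.prime_iff_prime_int.1 hp).coprime_iff_not_dvd.2 hni
    have : y = (y ^ (p : ℤ)) ^ u * (y ^ i) ^ v := by
      rw [← zpow_mul, ← zpow_mul, ← zpow_add, mul_comm _ u, mul_comm _ v, huv, zpow_one]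
    rw [this]
    exact mul_mem (Subgroup.zpow_mem _ (by simpa using hyp) _) (Subgroup.zpow_mem _ hyi _)
  have hinj : Function.Injective θ := by
    rw [injective_iff_map_eq_zero]
    rintro ⟨a', b', c'⟩ h
    obtain ⟨i, rfl⟩ := ZMod.intCast_surjective a'
    obtain ⟨j, rfl⟩ := ZMod.intCast_surjective b'
    obtain ⟨l, rfl⟩ := ZMod.intCast_surjective c'
    rw [hθ] at h
    have h1 : x ^ i * (a ^ j * b ^ l) = 1 := Additive.ofMul.injective h
    have hip : (p : ℤ) ∣ i := by
      by_contra hni
      have h2 := congrArg (fun y : H => y ^ p) h1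
      simp only [mul_pow, one_pow] at h2
      rw [← zpow_natCast (a ^ j), ← zpow_natCast (b ^ l), ← zpow_mul, ← zpow_mul, mul_comm j,
        mul_comm l, zpow_mul, zpow_mul, zpow_natCast, zpow_natCast, hap, hbp, one_zpow, one_zpow,
        mul_one, mul_one, ← zpow_natCast, ← zpow_mul, mul_comm i, zpow_mul, zpow_natCast] at h2
      exact hx (Subgroup.mem_bot.1 (hdiv (x ^ p) ⊥ i (Subgroup.mem_bot.2 hxp) (Subgroup.mem_bot.2 h2) hni))
    obtain ⟨i', rfl⟩ := hip
    have hxi : x ^ ((p : ℤ) * i') ∈ Z := by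
      rw [zpow_mul, zpow_natCast]; exact Subgroup.zpow_mem _ (Subgroup.mem_zpowers _) _
    have hlp : (p : ℤ) ∣ l := by
      by_contra hnl
      refine hbA (hdiv b _ l (by rw [hbp]; exact one_mem _) ?_ hnl)
      have : b ^ l = (x ^ ((p : ℤ) * i') * a ^ j)⁻¹ := by
        rw [eq_inv_iff_mul_eq_one, mul_comm, mul_assoc, h1]
      rw [this]
      exact inv_mem (mul_mem (Subgroup.mem_sup_left hxi)
        (Subgroup.mem_sup_right (Subgroup.zpow_mem _ (Subgroup.mem_zpowers a) _)))
    have hb1 : b ^ l = 1 := orderOf_dvd_iff_zpow_eq_one.1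
      ((Int.natCast_dvd_natCast.2 (orderOf_dvd_of_pow_eq_one hbp)).trans hlp)
    rw [hb1, mul_one] at h1
    have hjp : (p : ℤ) ∣ j := by
      by_contra hnj
      refine haZ (hdiv a _ j (by rw [hap]; exact one_mem _) ?_ hnj)
      rw [eq_inv_of_mul_eq_one_right h1]
      exact inv_mem hxi
    have ha1 : a ^ j = 1 := orderOf_dvd_iff_zpow_eq_one.1
      ((Int.natCast_dvd_natCast.2 (orderOf_dvd_of_pow_eq_one hap)).trans hjp)
    rw [ha1, mul_one, zpow_mul, zpow_natCast] at h1
    have hi' : (p : ℤ) ∣ i' := by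
      by_contra hni
      exact hx (Subgroup.mem_bot.1 (hdiv (x ^ p) ⊥ i' (Subgroup.mem_bot.2 hxp) (Subgroup.mem_bot.2 h1) hni))
    refine Prod.ext ?_ (Prod.ext ?_ ?_)
    · show (((p : ℤ) * i' : ℤ) : ZMod (p ^ 2)) = 0
      rw [ZMod.intCast_zmod_eq_zero_iff_dvd, Nat.cast_pow, sq]
      exact mul_dvd_mul_left _ hi'
    · exact (ZMod.intCast_zmod_eq_zero_iff_dvd j p).2 hjp
    · exact (ZMod.intCast_zmod_eq_zero_iff_dvd l p).2 hlp
  refine ⟨(AddEquiv.toMultiplicativeLeft (AddEquiv.ofBijective θ
    ((Nat.bijective_iff_injective_and_card θ).2 ⟨hinj, ?_⟩))).symm⟩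
  rw [show Nat.card (Additive H) = Nat.card H from rfl, Nat.card_prod, Nat.card_prod, Nat.card_zmod,
    Nat.card_zmod, hc]
  ring

/-- The flag of an element of `D₈ × C₂` outside the invariant abelian subgroup. -/
def dihedralFlag : DihedralGroup 4 × Multiplicative (ZMod 2) →* Multiplicative (ZMod 2) where
  toFun w := match w.1 with
    | .r _ => 1
    | .sr _ => Multiplicative.ofAdd 1
  map_one' := rfl
  map_mul' := by decide

theorem dihedralFlag_facts :
    (∀ w : DihedralGroup 4 × Multiplicative (ZMod 2), w * w ≠ 1 → dihedralFlag w = 1) ∧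
    (∀ w : DihedralGroup 4 × Multiplicative (ZMod 2), dihedralFlag w = 1 →
      w * w ≠ 1 ∨ ∃ a b, a * a ≠ 1 ∧ b * b ≠ 1 ∧ w = a * b) ∧
    (∀ w : DihedralGroup 4 × Multiplicative (ZMod 2), (∀ v, v * w = w * v) → dihedralFlag w = 1) ∧
    Function.Surjective dihedralFlag := by
  refine ⟨by decide, by decide, by decide, by unfold Function.Surjective; decide⟩

open CfsgLib.Fusion in
open scoped IsMulCommutative in
/-- Let F be a saturated fusion system over a finite p-group S and H an essential subgroup of order p⁴. Then H is isomorphic to one of: C_p⁴ or C_{p²} × C_p × C_p (any p); C_{p²} × C_{p²} with p ∈ {2, 3}; p^{1+2}_+ × C_p with p odd (the direct product of an extraspecial group of order p³ and exponent p with a group of order p); Q₈ × C₂ (p = 2); or the non-abelian group of order p⁴ of exponent p² whose centre is cyclic of order p² (the central product of an extraspecial group of order p³ with a cyclic group of order p²; for p = 2 this is D₈ ∘ C₄). -/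
theorem result {Ω : Type u} [Group Ω] {S : Subgroup Ω} [Finite S] (p : ℕ) [Fact p.Prime] (hS : IsPGroup p S)
    (F : Cfsg.FusionSystem S) (hF : F.IsSaturated p) (H : Subgroup Ω) (hH : F.IsEssential p H) (hcard : Nat.card H = p ^ 4) :
    Cfsg.IsElementaryAbelian p H ∨
      Nonempty (↥H ≃* Multiplicative (ZMod (p ^ 2) × ZMod p × ZMod p)) ∨
      ((p = 2 ∨ p = 3) ∧ Nonempty (↥H ≃* Multiplicative (ZMod (p ^ 2) × ZMod (p ^ 2)))) ∨
      (Odd p ∧ ∃ (E : Type) (_ : Group E) (_ : Finite E), Cfsg.IsExtraspecial p E ∧ Nat.card E = p ^ 3 ∧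
        (∀ x : E, x ^ p = 1) ∧ Nonempty (↥H ≃* E × Multiplicative (ZMod p))) ∨
      (p = 2 ∧ Nonempty (↥H ≃* QuaternionGroup 2 × Multiplicative (ZMod 2))) ∨
      (¬ IsMulCommutative ↥H ∧ (∀ x ∈ H, x ^ (p ^ 2) = 1) ∧ IsCyclic ↥(Subgroup.center ↥H) ∧
        Nat.card (Subgroup.center ↥H) = p ^ 2) := by
  have hp := (Fact.out : p.Prime)
  have : Finite H := finite_of_le hH.1.1
  have : Finite (MulAut H) := Finite.of_injective _ DFunLike.coe_injective
  have hHp : IsPGroup p H := IsPGroup.of_card hcard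
  have hnc := CfsgLib.EssSmall.not_isCyclic_of_isEssential hS hF hH
  obtain ⟨e, he⟩ := CfsgLib.Kulakoff.sq_dvd_frattini_index hHp hnc
  have hΦmul := (frattini ↥H).card_mul_index
  rw [he, hcard] at hΦmul
  have he2 : e ≤ 2 := by
    by_contra h
    have : p ^ 4 < p ^ (e + 2) := Nat.pow_lt_pow_right hp.one_lt (by omega)
    have := Nat.le_of_dvd (pow_pos hp.pos 4) (hΦmul ▸ Dvd.intro_left _ rfl : p ^ (e + 2) ∣ p ^ 4)
    omega
  have hΦc : Nat.card (frattini ↥H) = p ^ (2 - e) := by
    rw [show p ^ 4 = p ^ (2 - e) * p ^ (e + 2) by rw [← pow_add]; congr 1; omega] at hΦmul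
    exact Nat.eq_of_mul_eq_mul_right (pow_pos hp.pos _) hΦmul
  by_cases hcomm : IsMulCommutative H
  · interval_cases e
    · right; right; left
      have hcore : pCore p (F.autGroup H) = ⊥ := by
        have h := (isRadical_of_isEssential hS hF hH).2
        rw [CfsgLib.FusionIndexP.inn_eq_bot, Subgroup.map_eq_bot_iff_of_injective _ Subtype.val_injective] at h
        exact h
      have hdvd : p ∣ Nat.card (F.autGroup H) := by
        obtain ⟨-, -, hn, E, hdvd, -⟩ := hH
        exact hdvd.trans (Subgroup.card_quotient_dvd_card _)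
      obtain ⟨k, ⟨f⟩⟩ := CfsgLib.EssSmall.exists_homocyclic hHp hcore hdvd he
      have hk : k = 2 := by
        have h := Nat.card_congr f.toEquiv
        rw [hcard, show Nat.card (Multiplicative (ZMod (p ^ k) × ZMod (p ^ k))) =
          Nat.card (ZMod (p ^ k) × ZMod (p ^ k)) from rfl, Nat.card_prod, Nat.card_zmod, ← pow_add] at h
        have := Nat.pow_right_injective hp.two_le h
        omega
      subst hk
      refine ⟨?_, ⟨f⟩⟩
      by_contra h23
      push Not at h23
      have h5 : 5 ≤ p := by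
        rcases Nat.lt_or_ge p 5 with h | h
        · have h2 := hp.two_le
          interval_cases p <;> first | omega | norm_num at hp
        · exact h
      have hexp : ∀ y : H, y ^ p = 1 := fun y =>
        CfsgLib.EssSmall.pow_prime_eq_one hHp hcore hdvd he h5 y
      have hbot : frattini ↥H = ⊥ := le_bot_iff.1 (CfsgLib.PGroup.frattini_le_of_elementary
        (fun x y => Subgroup.mem_bot.2 (commutatorElement_eq_one_iff_mul_comm.2 (mul_comm x y)))
        fun x => Subgroup.mem_bot.2 (hexp x))
      rw [hbot, Subgroup.card_bot] at hΦc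
      exact (Nat.one_lt_pow (by norm_num) hp.one_lt).ne hΦc
    · right; left
      have hfr := CfsgLib.EssSmall.frattini_eq_powRange (H := H) hHp
      refine exists_iso_rank_three hcard (by rw [← hfr, hΦc]; exact pow_one p) fun x => ?_
      have h1 : x ^ p ∈ frattini ↥H := CfsgLib.PGroup.pow_mem_frattini hHp x
      have h2 : (⟨x ^ p, h1⟩ : frattini ↥H) ^ Nat.card (frattini ↥H) = 1 := pow_card_eq_one'
      have h3 := congrArg Subtype.val h2
      rw [hΦc, Subgroup.coe_pow, Subgroup.coe_one, ← pow_mul] at h3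
      simpa [sq] using h3
    · left
      have hbot : frattini ↥H = ⊥ := Subgroup.card_eq_one.1 (hΦc.trans (pow_zero p))
      refine ⟨hcomm, fun a ha => ?_⟩
      have h1 : (⟨a, ha⟩ : H) ^ p ∈ frattini ↥H := CfsgLib.PGroup.pow_mem_frattini hHp _
      rw [hbot, Subgroup.mem_bot] at h1
      exact congrArg Subtype.val h1
  right; right; right
  obtain ⟨a, b, hab⟩ : ∃ a b : H, a * b ≠ b * a := by
    by_contra hc; push Not at hc; exact hcomm ⟨⟨hc⟩⟩
  have : Nontrivial H := ⟨⟨a, b, fun h => hab (by rw [h])⟩⟩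
  obtain ⟨i, hi, hi'⟩ := (Nat.dvd_prime_pow hp).1 (hcard ▸ (Subgroup.center H).card_subgroup_dvd_card)
  have hZmul := (Subgroup.center H).card_mul_index
  rw [hcard, hi'] at hZmul
  have hncycZ : ∀ (_ : IsCyclic (H ⧸ Subgroup.center H)), False := fun _ =>
    hab (commutative_of_cyclic_center_quotient (QuotientGroup.mk' _)
      (QuotientGroup.ker_mk' (Subgroup.center H)).le a b)
  have hi12 : i = 1 ∨ i = 2 := by
    interval_cases i
    · exfalso
      have := hHp.center_nontrivial
      exact absurd hi' (by rw [pow_zero]; exact (Finite.one_lt_card).ne')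
    · exact Or.inl rfl
    · exact Or.inr rfl
    · exfalso
      have h2 : (Subgroup.center H).index = p := by
        rw [show p ^ 4 = p ^ 3 * p by ring] at hZmul
        exact Nat.eq_of_mul_eq_mul_left (pow_pos hp.pos 3) hZmul
      exact hncycZ (isCyclic_of_prime_card (p := p) h2)
    · exact absurd (Subgroup.eq_top_of_card_eq _ (hi'.trans hcard.symm)) fun h => hab
        (Subgroup.mem_center_iff.1 (h ▸ Subgroup.mem_top b) a)
  have hΦH : commutator H ≤ frattini H := CfsgLib.PGroup.commutator_le_frattini hHp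
  have hcomm1 : ⁅a, b⁆ ≠ 1 := fun h => hab (commutatorElement_eq_one_iff_mul_comm.1 h)
  have habc : ⁅a, b⁆ ∈ commutator H :=
    Subgroup.commutator_mem_commutator (Subgroup.mem_top _) (Subgroup.mem_top _)
  rcases hi12 with rfl | rfl
  · -- centre of order `p`: excluded
    exfalso
    rw [pow_one] at hi'
    interval_cases e
    · -- Frattini subgroup of order `p²`
      set Z := Subgroup.center ↥H
      set Φ := frattini ↥H
      have hZΦ : Z ≤ Φ := by
        have hne : Φ ≠ ⊥ := fun h => hcomm1 (Subgroup.mem_bot.1 (h ▸ hΦH habc))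
        obtain ⟨z, hzΦ, hzc, hz⟩ := CfsgLib.PGroup.exists_central_orderOf_eq hHp Φ hne
        have : Subgroup.zpowers z = Z := Subgroup.eq_of_le_of_card_ge (Subgroup.zpowers_le.2 hzc)
          (by rw [Nat.card_zpowers, hz, hi'])
        rw [← this]; exact Subgroup.zpowers_le.2 hzΦ
      obtain ⟨f, hfΦ, hfZ⟩ : ∃ f ∈ Φ, f ∉ Z := by
        by_contra h
        push Not at h
        have := Subgroup.card_le_of_le (show Φ ≤ Z from h)
        rw [hΦc, hi'] at this
        exact absurd this (not_le.2 (by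
          conv_lhs => rw [← pow_one p]
          exact Nat.pow_lt_pow_right hp.one_lt (by norm_num)))
      have hrel : Z.relIndex Φ = p := by
        have h := Subgroup.relIndex_mul_relIndex ⊥ Z Φ bot_le hZΦ
        rw [Subgroup.relIndex_bot_left, Subgroup.relIndex_bot_left, hi', hΦc, sq] at h
        exact Nat.eq_of_mul_eq_mul_left hp.pos h
      have hχ : ∀ g : H, f⁻¹ * (g * f * g⁻¹) ∈ Z := by
        intro g
        obtain ⟨m, hm⟩ := hHp g
        exact CfsgLib.EssSmall.inv_mul_apply_mem_of_relIndex (g := MulAut.conj g) (m := m)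
          (by rw [← map_pow, hm, map_one]) hZΦ hrel
          (fun u _ l hl => (inferInstance : Z.Normal).conj_mem l hl u)
          (fun u hu => (inferInstance : Φ.Normal).conj_mem u hu g)
          (fun l hl => (inferInstance : Z.Normal).conj_mem l hl g) hfΦ
      let χ : H →* Z :=
        { toFun := fun g => ⟨_, hχ g⟩
          map_one' := Subtype.ext (by simp)
          map_mul' := fun g g' => Subtype.ext (by
            show f⁻¹ * (g * g' * f * (g * g')⁻¹) =
              f⁻¹ * (g * f * g⁻¹) * (f⁻¹ * (g' * f * g'⁻¹))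
            have h := Subgroup.mem_center_iff.1 (hχ g') g
            calc f⁻¹ * (g * g' * f * (g * g')⁻¹)
                = f⁻¹ * g * f * (f⁻¹ * (g' * f * g'⁻¹)) * g⁻¹ := by group
              _ = f⁻¹ * g * f * g⁻¹ * (g * (f⁻¹ * (g' * f * g'⁻¹))) * g⁻¹ := by group
              _ = f⁻¹ * g * f * g⁻¹ * ((f⁻¹ * (g' * f * g'⁻¹)) * g) * g⁻¹ := by rw [h]
              _ = _ := by group) }
      have hsurj : Function.Surjective χ := by
        rw [← MonoidHom.range_eq_top]
        rcases (Nat.dvd_prime hp).1 (hi' ▸ χ.range.card_subgroup_dvd_card) with h | h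
        · exfalso
          apply hfZ
          refine Subgroup.mem_center_iff.2 fun g => ?_
          have h2 : χ g ∈ (⊥ : Subgroup Z) := Subgroup.card_eq_one.1 h ▸ ⟨g, rfl⟩
          have h3 : f⁻¹ * (g * f * g⁻¹) = 1 := congrArg Subtype.val (Subgroup.mem_bot.1 h2)
          exact mul_inv_eq_iff_eq_mul.1 (inv_mul_eq_one.1 h3).symm
        · exact Subgroup.eq_top_of_card_eq _ (h.trans hi'.symm)
      have hker : χ.ker = Subgroup.centralizer (Φ : Set H) := by
        ext g
        constructor
        · intro hg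
          have h3 : f⁻¹ * (g * f * g⁻¹) = 1 := congrArg Subtype.val (show χ g = 1 from hg)
          have h4 : g * f = f * g := mul_inv_eq_iff_eq_mul.1 (inv_mul_eq_one.1 h3).symm
          have htop : Z ⊔ Subgroup.zpowers f = Φ := by
            refine Subgroup.eq_of_le_of_card_ge (sup_le hZΦ (Subgroup.zpowers_le.2 hfΦ)) ?_
            have hfp : f ^ p ∈ Z := by
              have h5 := (Z.subgroupOf Φ).pow_index_mem ⟨f, hfΦ⟩
              rwa [Subgroup.mem_subgroupOf, show (Z.subgroupOf Φ).index = p from hrel] at h5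
            rw [hΦc, CfsgLib.PGroup.card_sup_zpowers hfZ hfp, hi', sq]
          rw [← htop]
          have hle : Z ⊔ Subgroup.zpowers f ≤ Subgroup.centralizer {g} :=
            sup_le (fun z hz => Subgroup.mem_centralizer_singleton_iff.2
              (Subgroup.mem_center_iff.1 hz g).symm)
              (Subgroup.zpowers_le.2 (Subgroup.mem_centralizer_singleton_iff.2 h4.symm))
          exact Subgroup.mem_centralizer_iff.2 fun z hz =>
            Subgroup.mem_centralizer_singleton_iff.1 (hle hz)
        · intro hg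
          refine Subtype.ext ?_
          show f⁻¹ * (g * f * g⁻¹) = 1
          rw [← Subgroup.mem_centralizer_iff.1 hg f hfΦ, mul_inv_cancel_right, inv_mul_cancel]
      have hM : (Subgroup.centralizer (Φ : Set H)).index = p := by
        rw [← hker, Subgroup.index_ker, MonoidHom.range_eq_top.2 hsurj, Subgroup.card_top, hi']
      refine CfsgLib.EssSmall.false_of_frattini_line hS hF hH (M := Subgroup.centralizer (Φ : Set H))
        ?_ hM he ?_
      · intro z hz
        refine Subgroup.mem_centralizer_iff.2 fun y hy => ?_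
        have h := IsPGroup.commutative_of_card_eq_prime_sq (G := Φ) hΦc ⟨y, hy⟩ ⟨z, hz⟩
        exact congrArg Subtype.val h
      · intro g _ z hz
        refine Subgroup.mem_centralizer_iff.2 fun y hy => ?_
        have hy' : g⁻¹ y ∈ Φ := frattini_le_comap_frattini_of_surjective
          (φ := (g⁻¹).toMonoidHom) (g⁻¹).surjective hy
        have h := congrArg g (Subgroup.mem_centralizer_iff.1 hz _ hy')
        rwa [map_mul, map_mul, MulAut.apply_inv_self] at h
    · -- Frattini subgroup of order `p`: extraspecial of even rank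
      have hΦp : Nat.card (frattini ↥H) = p := by rw [hΦc]; exact pow_one p
      have hΦZ : frattini ↥H = Subgroup.center ↥H :=
        Subgroup.eq_of_le_of_card_ge (CfsgLib.FusionExtraspecial.le_center_of_card_eq hHp inferInstance hΦp)
          (by rw [hΦp, hi'])
      have hc1 : commutator H = Subgroup.center ↥H := by
        refine Subgroup.eq_of_le_of_card_ge (hΦH.trans hΦZ.le) ?_
        rw [hi']
        rcases (Nat.dvd_prime hp).1 (hΦp ▸ Subgroup.card_dvd_of_le hΦH) with h | h
        · exact absurd (Subgroup.mem_bot.1 (Subgroup.card_eq_one.1 h ▸ habc)) hcomm1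
        · exact h.ge
      obtain ⟨m, -, hm⟩ := CfsgLib.Extraspecial.exists_card (Q := H) (p := p)
        ⟨⟨hHp, hΦZ, hc1⟩, hi'⟩
      rw [hcard] at hm
      have := Nat.pow_right_injective hp.two_le hm
      omega
    · -- trivial Frattini subgroup
      exact hcomm1 (Subgroup.mem_bot.1 ((Subgroup.card_eq_one.1 (by rw [hΦc]; rfl) :
        frattini ↥H = ⊥) ▸ hΦH habc))
  -- centre of order `p²`
  set Z := Subgroup.center ↥H
  have hZidx : Z.index = p ^ 2 := by
    rw [show p ^ 4 = p ^ 2 * p ^ 2 by ring] at hZmul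
    exact Nat.eq_of_mul_eq_mul_left (pow_pos hp.pos 2) hZmul
  have hqab := IsPGroup.commutative_of_card_eq_prime_sq (G := H ⧸ Z) hZidx
  have hcc : ∀ x y : H, ⁅x, y⁆ ∈ Z := fun x y => by
    rw [← QuotientGroup.eq_one_iff]
    show QuotientGroup.mk' Z ⁅x, y⁆ = 1
    rw [map_commutatorElement, commutatorElement_eq_one_iff_commute]
    exact hqab _ _
  have hpow : ∀ x : H, x ^ p ∈ Z := fun x => by
    rw [← QuotientGroup.eq_one_iff, QuotientGroup.mk_pow]
    obtain ⟨j, hj, hj'⟩ := (Nat.dvd_prime_pow hp).1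
      ((orderOf_dvd_natCard (x : H ⧸ Z)).trans (dvd_of_eq hZidx))
    apply orderOf_dvd_iff_pow_eq_one.1
    interval_cases j
    · rw [hj', pow_zero]; exact one_dvd p
    · rw [hj', pow_one]
    · exact (hncycZ (isCyclic_of_orderOf_eq_card _ (by rw [hj']; exact hZidx.symm))).elim
  set c := ⁅a, b⁆ with hc
  have hcZ : c ∈ Z := hcc a b
  have hcp : c ^ p = 1 := by
    let χb : H →* H :=
      { toFun := fun x => ⁅x, b⁆
        map_one' := commutatorElement_one_left b
        map_mul' := fun x y => by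
          rw [show ⁅x * y, b⁆ = x * ⁅y, b⁆ * x⁻¹ * ⁅x, b⁆ by simp [commutatorElement_def]; group,
            Subgroup.mem_center_iff.1 (hcc y b) x, mul_inv_cancel_right,
            Subgroup.mem_center_iff.1 (hcc x b) ⁅y, b⁆] }
    show (χb a) ^ p = 1
    rw [← map_pow]
    exact commutatorElement_eq_one_iff_mul_comm.2 (Subgroup.mem_center_iff.1 (hpow a) b).symm
  set C := Subgroup.zpowers c with hC
  have hCc : Nat.card C = p := by rw [Nat.card_zpowers]; exact orderOf_eq_prime hcp hcomm1
  have hCZ : C ≤ Z := Subgroup.zpowers_le.2 hcZ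
  have hCn : C.Normal := ⟨fun x hx g => by
    rw [Subgroup.mem_center_iff.1 (hCZ hx) g, mul_inv_cancel_right]; exact hx⟩
  have haZ : a ∉ Z := fun h => hab (Subgroup.mem_center_iff.1 h b).symm
  have hbZ : b ∉ Z ⊔ Subgroup.zpowers a := by
    intro h
    have hle : Z ⊔ Subgroup.zpowers a ≤ Subgroup.centralizer {a} :=
      sup_le (fun z hz => Subgroup.mem_centralizer_singleton_iff.2
        (Subgroup.mem_center_iff.1 hz a).symm)
        (Subgroup.zpowers_le.2 (Subgroup.mem_centralizer_singleton_iff.2 rfl))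
    exact hab (Subgroup.mem_centralizer_singleton_iff.1 (hle h)).symm
  have hZa : (Z ⊔ Subgroup.zpowers a).Normal := ⟨fun n hn g => by
    have := mul_mem (Subgroup.mem_sup_left (T := Subgroup.zpowers a) (hcc g n)) hn
    rwa [commutatorElement_def, inv_mul_cancel_right] at this⟩
  have hgen : Z ⊔ Subgroup.zpowers a ⊔ Subgroup.zpowers b = ⊤ := by
    refine Subgroup.eq_top_of_card_eq _ ?_
    rw [CfsgLib.PGroup.card_sup_zpowers hbZ (Subgroup.mem_sup_left (hpow b)),
      CfsgLib.PGroup.card_sup_zpowers haZ (hpow a), hi', hcard]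
    ring
  have hCall : ∀ x y : H, ⁅x, y⁆ ∈ C := by
    intro x y
    rw [← QuotientGroup.eq_one_iff]
    show QuotientGroup.mk' C ⁅x, y⁆ = 1
    rw [map_commutatorElement, commutatorElement_eq_one_iff_mul_comm]
    have hab' : Commute (QuotientGroup.mk' C a) (QuotientGroup.mk' C b) := by
      rw [← commutatorElement_eq_one_iff_commute, ← map_commutatorElement, ← hc]
      exact (QuotientGroup.eq_one_iff c).2 (Subgroup.mem_zpowers c)
    have hle : (⊤ : Subgroup H) ≤ (Subgroup.center (H ⧸ C)).comap (QuotientGroup.mk' C) := by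
      rw [← hgen]
      have hz : ∀ z : H, Commute (QuotientGroup.mk' C z) (QuotientGroup.mk' C a) →
          Commute (QuotientGroup.mk' C z) (QuotientGroup.mk' C b) →
          z ∈ (Subgroup.center (H ⧸ C)).comap (QuotientGroup.mk' C) := by
        intro z h1 h2
        refine Subgroup.mem_center_iff.2 fun q => ?_
        obtain ⟨q, rfl⟩ := QuotientGroup.mk'_surjective C q
        have hle : Z ⊔ Subgroup.zpowers a ⊔ Subgroup.zpowers b ≤
            (Subgroup.centralizer {QuotientGroup.mk' C z}).comap (QuotientGroup.mk' C) := by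
          refine sup_le (sup_le ?_ (Subgroup.zpowers_le.2 ?_)) (Subgroup.zpowers_le.2 ?_)
          · intro w hw
            refine Subgroup.mem_centralizer_singleton_iff.2 ?_
            rw [← map_mul, ← map_mul, Subgroup.mem_center_iff.1 hw z]
          · exact Subgroup.mem_centralizer_singleton_iff.2 h1.eq.symm
          · exact Subgroup.mem_centralizer_singleton_iff.2 h2.eq.symm
        exact Subgroup.mem_centralizer_singleton_iff.1 (hle (hgen.ge (Subgroup.mem_top q)))
      refine sup_le (sup_le ?_ (Subgroup.zpowers_le.2 (hz a (Commute.refl _) hab')))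
        (Subgroup.zpowers_le.2 (hz b hab'.symm (Commute.refl _)))
      intro w hw
      refine hz w ?_ ?_ <;>
      · show _ * _ = _ * _
        rw [← map_mul, ← map_mul, Subgroup.mem_center_iff.1 hw]
    exact (Subgroup.mem_center_iff.1 (hle (Subgroup.mem_top x)) _).symm
  have hCinv : ∀ g ∈ F.autGroup H, ∀ z ∈ C, g z ∈ C := by
    intro g _ z hz
    obtain ⟨n, rfl⟩ := Subgroup.mem_zpowers_iff.1 hz
    rw [map_zpow, hc, map_commutatorElement]
    exact Subgroup.zpow_mem _ (hCall _ _) n
  have hmulpow : ∀ x y : H, (x * y) ^ p = x ^ p * y ^ p * ⁅y, x⁆ ^ (p.choose 2) := fun x y =>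
    CfsgLib.Transfer.mul_pow_of_commute_commutator (Subgroup.mem_center_iff.1 (hcc y x) x).symm
      (Subgroup.mem_center_iff.1 (hcc y x) y).symm p
  have hCrel : C.relIndex Z = p := by
    have h := Subgroup.relIndex_mul_relIndex ⊥ C Z bot_le hCZ
    rw [Subgroup.relIndex_bot_left, Subgroup.relIndex_bot_left, hi', hCc, sq] at h
    exact Nat.eq_of_mul_eq_mul_left hp.pos h
  have hZpC : ∀ z ∈ Z, z ^ p ∈ C := fun z hz => by
    have h := Subgroup.pow_index_mem (C.subgroupOf Z) (⟨z, hz⟩ : Z)
    rw [show (C.subgroupOf Z).index = p from hCrel] at h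
    exact h
  -- all p-th powers lie in the commutator subgroup
  have hpC : ∀ x : H, x ^ p ∈ C := by
    by_contra hne
    push Not at hne
    obtain ⟨x₀, hx₀⟩ := hne
    let σ : H →* H ⧸ C :=
      { toFun := fun x => QuotientGroup.mk' C (x ^ p)
        map_one' := by simp
        map_mul' := fun x y => by
          rw [hmulpow, map_mul, map_mul, map_pow _ ⁅y, x⁆,
            show QuotientGroup.mk' C ⁅y, x⁆ = 1 from (QuotientGroup.eq_one_iff _).2 (hCall y x),
            one_pow, mul_one] }
    have hsub : σ.range ≤ Z.map (QuotientGroup.mk' C) := by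
      rintro _ ⟨x, rfl⟩; exact ⟨x ^ p, hpow x, rfl⟩
    have hmapc : Nat.card (Z.map (QuotientGroup.mk' C)) = p := by
      rw [← Subgroup.relIndex_ker, QuotientGroup.ker_mk', hCrel]
    have hrange : Nat.card σ.range = p := by
      rcases (Nat.dvd_prime hp).1 (hmapc ▸ Subgroup.card_dvd_of_le hsub) with h | h
      · exfalso
        apply hx₀
        have h2 : σ x₀ ∈ (⊥ : Subgroup (H ⧸ C)) := Subgroup.card_eq_one.1 h ▸ ⟨x₀, rfl⟩
        exact (QuotientGroup.eq_one_iff _).1 (Subgroup.mem_bot.1 h2)
      · exact h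
    have hΦZ : frattini ↥H = Z := by
      refine Subgroup.eq_of_le_of_card_ge (CfsgLib.PGroup.frattini_le_of_elementary hcc hpow) ?_
      rw [hi', hΦc]
      refine Nat.pow_le_pow_right hp.pos ?_
      by_contra h
      have hle : C ≤ frattini ↥H := Subgroup.zpowers_le.2 (hΦH habc)
      have : C = frattini ↥H := Subgroup.eq_of_le_of_card_ge hle (by
        rw [hΦc, hCc]
        conv_rhs => rw [← pow_one p]
        exact Nat.pow_le_pow_right hp.pos (by omega))
      exact hx₀ (this ▸ CfsgLib.PGroup.pow_mem_frattini hHp x₀)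
    refine CfsgLib.EssSmall.false_of_frattini_line hS hF hH (M := σ.ker) ?_
      (by rw [Subgroup.index_ker, hrange]) (by rw [hΦZ, hZidx]) ?_
    · rw [hΦZ]
      exact fun z hz => (QuotientGroup.eq_one_iff _).2 (hZpC z hz)
    · intro g hg x hx
      refine (QuotientGroup.eq_one_iff _).2 ?_
      rw [← map_pow]
      exact hCinv g hg _ ((QuotientGroup.eq_one_iff _).1 hx)
  have hCp : ∀ z ∈ C, z ^ p = 1 := fun z hz =>
    congrArg Subtype.val (show (⟨z, hz⟩ : C) ^ p = 1 by rw [← hCc]; exact pow_card_eq_one')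
  by_cases hcyc : IsCyclic Z
  · right; right
    refine ⟨hcomm, fun x hx => ?_, hcyc, hi'⟩
    have h := hCp _ (hpC ⟨x, hx⟩)
    rw [← pow_mul, ← sq] at h
    exact congrArg Subtype.val h
  have hZp : ∀ z ∈ Z, z ^ p = 1 := by
    intro z hz
    obtain ⟨j, hj, hj'⟩ := (Nat.dvd_prime_pow hp).1 (hi' ▸ orderOf_dvd_natCard (⟨z, hz⟩ : Z))
    refine congrArg Subtype.val (show (⟨z, hz⟩ : Z) ^ p = 1 from orderOf_dvd_iff_pow_eq_one.1 ?_)
    interval_cases j
    · rw [hj', pow_zero]; exact one_dvd p
    · rw [hj', pow_one]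
    · exact absurd (isCyclic_of_orderOf_eq_card _ (hj'.trans hi'.symm)) hcyc
  have hΦC : frattini ↥H = C := le_antisymm
    (CfsgLib.PGroup.frattini_le_of_elementary hCall hpC) (Subgroup.zpowers_le.2 (hΦH habc))
  obtain ⟨t, htZ, htC⟩ : ∃ t ∈ Z, t ∉ C := by
    by_contra h
    push Not at h
    have := Subgroup.card_le_of_le (show Z ≤ C from h)
    rw [hi', hCc] at this
    exact absurd this (not_le.2 (by
      conv_lhs => rw [← pow_one p]
      exact Nat.pow_lt_pow_right hp.one_lt (by norm_num)))
  have haC : a ∉ C := fun h => haZ (hCZ h)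
  have hCa : (C ⊔ Subgroup.zpowers a).Normal := ⟨fun n hn g => by
    have := mul_mem (Subgroup.mem_sup_left (T := Subgroup.zpowers a) (hCall g n)) hn
    rwa [commutatorElement_def, inv_mul_cancel_right] at this⟩
  set E := C ⊔ Subgroup.zpowers a ⊔ Subgroup.zpowers b with hE
  have hEc : Nat.card E = p ^ 3 := by
    rw [hE, CfsgLib.PGroup.card_sup_zpowers (fun h => hbZ (sup_le_sup_right hCZ _ h))
      (Subgroup.mem_sup_left (hpC b)), CfsgLib.PGroup.card_sup_zpowers haC (hpC a), hCc]
    ring
  have htE : t ∉ E := by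
    intro ht
    have hZE : Z ≤ E := by
      have hle : C ⊔ Subgroup.zpowers t ≤ Z := sup_le hCZ (Subgroup.zpowers_le.2 htZ)
      have : C ⊔ Subgroup.zpowers t = Z := Subgroup.eq_of_le_of_card_ge hle (by
        rw [CfsgLib.PGroup.card_sup_zpowers htC (hpC t), hCc, hi', sq])
      rw [← this]
      exact sup_le (le_sup_left.trans le_sup_left) (Subgroup.zpowers_le.2 ht)
    have htop : E = ⊤ := top_unique (hgen ▸
      sup_le (sup_le hZE (le_sup_right.trans le_sup_left)) le_sup_right)
    rw [htop, Subgroup.card_top, hcard] at hEc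
    have := Nat.pow_right_injective hp.two_le hEc
    omega
  obtain ⟨ψ⟩ := exists_split_iso E htZ (hZp t htZ) htE (by rw [hEc, hcard]; ring)
  have haE : a ∈ E := Subgroup.mem_sup_left (Subgroup.mem_sup_right (Subgroup.mem_zpowers a))
  have hbE : b ∈ E := Subgroup.mem_sup_right (Subgroup.mem_zpowers b)
  have hEab : (⟨a, haE⟩ : E) * ⟨b, hbE⟩ ≠ ⟨b, hbE⟩ * ⟨a, haE⟩ :=
    fun h => hab (congrArg Subtype.val h)
  have hZrel : (frattini ↥H).relIndex Z = p := by rw [hΦC, hCrel]
  have hZinv : ∀ g ∈ F.autGroup H, ∀ z ∈ Z, g z ∈ Z := fun g _ z hz =>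
    Subgroup.mem_center_iff.2 fun y => by
      have h := congrArg g (Subgroup.mem_center_iff.1 hz (g⁻¹ y))
      rwa [map_mul, map_mul, MulAut.apply_inv_self] at h
  have hseries : ∀ K : Subgroup H, Z ≤ K → K.index = p →
      (∀ g ∈ F.autGroup H, ∀ x ∈ K, g x ∈ K) → False := by
    intro K hZK hK hKinv
    refine CfsgLib.EssSmall.false_of_frattini_series hS hF hH (hΦC ▸ hCZ) hZK hZrel ?_ (Or.inr hK)
      hZinv hKinv
    have h := Subgroup.relIndex_mul_index hZK
    rw [hK, hZidx, sq] at h
    exact Nat.eq_of_mul_eq_mul_right hp.pos h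
  rcases hp.eq_two_or_odd' with rfl | hodd
  · right; left
    refine ⟨rfl, ?_⟩
    rcases CfsgLib.StdForm.dihedral_or_quaternion_of_card_eight (by rw [hEc]; norm_num) hEab with
      ⟨⟨e'⟩⟩ | ⟨⟨e'⟩⟩
    · exfalso
      let Φ' : H ≃* DihedralGroup 4 × Multiplicative (ZMod 2) :=
        ψ.symm.trans (e'.prodCongr (MulEquiv.refl _))
      let χ := dihedralFlag.comp Φ'.toMonoidHom
      obtain ⟨h1, h2, h3, h4⟩ := dihedralFlag_facts
      have hK : χ.ker.index = 2 := by
        have hsj : Function.Surjective χ := fun y => by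
          obtain ⟨w, hw⟩ := h4 y
          exact ⟨Φ'.symm w, (congrArg dihedralFlag (Φ'.apply_symm_apply w)).trans hw⟩
        rw [Subgroup.index_ker, MonoidHom.range_eq_top.2 hsj, Subgroup.card_top]
        exact Nat.card_zmod 2
      have hKeq : χ.ker = Subgroup.closure {x : H | x * x ≠ 1} := by
        refine le_antisymm (fun x hx => ?_) ((Subgroup.closure_le _).2 fun x hx => h1 _ fun h => hx ?_)
        · rcases h2 _ hx with h | ⟨v, w, hv, hw, hvw⟩
          · exact Subgroup.subset_closure fun h' => h (by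
              show Φ' x * Φ' x = 1
              rw [← map_mul, h', map_one])
          · have hx' : x = Φ'.symm v * Φ'.symm w := Φ'.injective (by
              rw [map_mul, MulEquiv.apply_symm_apply, MulEquiv.apply_symm_apply]; exact hvw)
            rw [hx']
            refine mul_mem (Subgroup.subset_closure fun h' => hv ?_)
              (Subgroup.subset_closure fun h' => hw ?_)
            · rw [← Φ'.apply_symm_apply v, ← map_mul, h', map_one]
            · rw [← Φ'.apply_symm_apply w, ← map_mul, h', map_one]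
        · exact Φ'.injective (by rw [map_mul, map_one]; exact h)
      refine hseries χ.ker (fun z hz => h3 _ fun v => ?_) hK fun g _ x hx => ?_
      · show v * Φ' z = Φ' z * v
        rw [← Φ'.apply_symm_apply v, ← map_mul, ← map_mul, Subgroup.mem_center_iff.1 hz]
      · rw [hKeq] at hx ⊢
        have hle : Subgroup.closure {x : H | x * x ≠ 1} ≤
            (Subgroup.closure {x : H | x * x ≠ 1}).comap g.toMonoidHom :=
          (Subgroup.closure_le _).2 fun y hy => Subgroup.subset_closure fun h => hy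
            (g.injective (by rw [map_mul, map_one]; exact h))
        exact hle hx
    · exact ⟨ψ.symm.trans (e'.prodCongr (MulEquiv.refl _))⟩
  · left
    have hexp : ∀ x : H, x ^ p = 1 := by
      by_contra hne
      push Not at hne
      obtain ⟨x₀, hx₀⟩ := hne
      let τ : H →* H :=
        { toFun := fun x => x ^ p
          map_one' := one_pow p
          map_mul' := fun x y => by
            obtain ⟨k, hk⟩ : p ∣ p.choose 2 :=
              hp.dvd_choose_self two_ne_zero (lt_of_le_of_ne hp.two_le fun h => by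
                rw [← h] at hodd; exact absurd hodd (by decide))
            rw [hmulpow, hk, pow_mul, hCp _ (hCall y x), one_pow, mul_one] }
      refine hseries τ.ker (fun z hz => hZp z hz) ?_ fun g _ x (hx : x ^ p = 1) => ?_
      · rw [Subgroup.index_ker]
        have hsub : τ.range ≤ C := by rintro _ ⟨x, rfl⟩; exact hpC x
        rcases (Nat.dvd_prime hp).1 (hCc ▸ Subgroup.card_dvd_of_le hsub) with h | h
        · exfalso
          have h2 : τ x₀ ∈ (⊥ : Subgroup H) := Subgroup.card_eq_one.1 h ▸ ⟨x₀, rfl⟩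
          exact hx₀ (Subgroup.mem_bot.1 h2)
        · exact h
      · show (g x) ^ p = 1
        rw [← map_pow, hx, map_one]
    let e1 : Shrink.{0} E ≃* E := Shrink.mulEquiv
    have hcE : Nat.card (Shrink.{0} E) = p ^ 3 := by rw [Nat.card_congr e1.toEquiv, hEc]
    have : Finite (Shrink.{0} E) := Finite.of_equiv _ e1.symm.toEquiv
    refine ⟨hodd, Shrink.{0} E, inferInstance, inferInstance, ?_, hcE, fun x => ?_,
      ⟨ψ.symm.trans (e1.symm.prodCongr (MulEquiv.refl _))⟩⟩
    · exact CfsgLib.EssSmall.isExtraspecial_of_card_cube hcE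
        (a := e1.symm ⟨a, haE⟩) (b := e1.symm ⟨b, hbE⟩) fun h => hEab
          (e1.symm.injective (by rw [map_mul, map_mul]; exact h))
    · exact e1.injective (by rw [map_pow, map_one]; exact Subtype.ext (hexp _))

end Cfsg.Agent.S5188
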