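import Cfsg.Statements.S5192
import Cfsg.Agent.Lib.Fusion.TateInner
import Cfsg.Agent.Lib.Fusion.ThompsonTransfer

set_option autoImplicit false
set_option maxHeartbeats 1000000
set_option linter.style.haveILetI false
set_option linter.unusedVariables false
open Cfsg

namespace Cfsg.Agent.S5192

open Cfsg.FusionSystem CfsgLib.Fusion CfsgLib.Fusion.Realize CfsgLib.Fusion.Biset CfsgLib.Marks MulAction

universe v

variable {Ω : Type v} [Group Ω] {S : Subgroup Ω}

theorem normalizerIn_involution {x : S} (hx : x * x = 1) :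
    normalizerIn S (Subgroup.zpowers (x : Ω)) =
      (Subgroup.centralizer ({x} : Set S)).map S.subtype := by
  have hsq : (x : Ω) * x = 1 := congrArg Subtype.val hx
  have hinv : (x : Ω)⁻¹ = x := inv_eq_of_mul_eq_one_right hsq
  have hall : ∀ y ∈ Subgroup.zpowers (x : Ω), y = 1 ∨ y = x := by
    rintro _ ⟨n, rfl⟩
    rcases Int.even_or_odd n with ⟨k, rfl⟩ | ⟨k, rfl⟩
    · left; simp [zpow_add, ← (Commute.refl (x : Ω)).mul_zpow, hsq]
    · right; simp [zpow_add, two_mul, ← (Commute.refl (x : Ω)).mul_zpow, hsq]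
  ext g
  constructor
  · rintro ⟨hg, hgn⟩
    refine ⟨⟨g, hg⟩, Subgroup.mem_centralizer_singleton_iff.2 (Subtype.ext ?_), rfl⟩
    rcases hall _ ((Subgroup.mem_normalizer_iff.1 hgn _).1 (Subgroup.mem_zpowers _)) with h | h
    · have h1 : (x : Ω) = 1 := by simpa using h
      simp [h1]
    · show g * x = x * g
      exact mul_inv_eq_iff_eq_mul.1 h
  · rintro ⟨g, hg, rfl⟩
    refine ⟨g.2, ?_⟩
    have h1 : (g : Ω) * x = x * g :=
      congrArg Subtype.val (Subgroup.mem_centralizer_singleton_iff.1 hg)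
    exact Subgroup.centralizer_le_normalizer _ (Subgroup.mem_centralizer_iff.2 fun y hy => by
      rcases hall y hy with rfl | rfl
      · simp
      · exact h1.symm)

theorem dvd_card_of_free {C α : Type*} [Group C] [Finite C] [Finite α] [MulAction C α]
    (h : ∀ (c : C) (x : α), c • x = x → c = 1) : Nat.card C ∣ Nat.card α := by
  classical
  haveI := Fintype.ofFinite (Quotient (MulAction.orbitRel C α))
  rw [Nat.card_congr (MulAction.selfEquivSigmaOrbitsQuotientStabilizer C α), Nat.card_sigma]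
  refine Finset.dvd_sum fun w _ => ?_
  have hb : MulAction.stabilizer C w.out = ⊥ := (Subgroup.eq_bot_iff_forall _).2 fun c hc => h c _ hc
  rw [← Subgroup.index_eq_card, hb, Subgroup.index_bot]

theorem main [Finite S] (hS : IsPGroup 2 S) (F : Cfsg.FusionSystem S) (hF : F.IsSaturated 2)
    (χ : S →* ℤˣ) (i : S) (hi2 : i * i = 1) (hi1 : i ≠ 1)
    (h : ∀ s : S, F.IsConjElt (i : Ω) s → χ s = 1 →
      ¬ F.IsFullyNormalized (Subgroup.zpowers (s : Ω))) :
    (i : Ω) ∉ F.hyperfocalSubgroup 2 := by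
  classical
  haveI : Fact (Nat.Prime 2) := ⟨Nat.prime_two⟩
  obtain ⟨c, hc, hreal, hp⟩ := CfsgLib.Fusion.TateInner.exists_realizing hS hF
  obtain ⟨Q, hQ, e, he, hcardQ⟩ := Cfsg.Agent.S5329.exists_orbit_basis hc hS
  set G := rightCentralizer c
  set L := leftHom c with hL
  have hcomm : ∀ (g : G) (b : S) (x : GSet c),
      g.1 (((1, b) : S × S) • x) = ((1, b) : S × S) • g.1 x := fun g b x =>
    (Equiv.ext_iff.1 (Subgroup.mem_centralizer_iff.1 g.2 _ ⟨b, rfl⟩) x).symm
  let act : G → Q → Q × S := fun g q => e.symm (g.1 (e (q, 1)))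
  have hact : ∀ (g : G) (q : Q) (b : S), g.1 (e (q, b)) = e ((act g q).1, b * (act g q).2) := by
    intro g q b
    have h1 := he q b 1
    rw [mul_one] at h1
    rw [h1, hcomm, he]
    congr 1
    exact (e.apply_symm_apply _).symm
  let σ : G → Q ≃ Q := fun g => Equiv.ofBijective (fun q => (act g q).1)
    ((Finite.injective_iff_bijective).1 fun q q' h => by
      have h1 := hact g q (act g q).2⁻¹
      have h2 := hact g q' (act g q').2⁻¹
      rw [inv_mul_cancel] at h1 h2
      replace h : (act g q).1 = (act g q').1 := h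
      rw [h, ← h2] at h1
      exact congrArg Prod.fst (e.injective (g.1.injective h1)))
  let Φ : G →* ℤˣ := MonoidHom.mk' (fun g => ∏ q, χ (act g q).2) (by
    intro g h
    have key : ∀ q, (act (g * h) q).2 = (act h q).2 * (act g (act h q).1).2 := by
      intro q
      have h1 : (g * h).1 (e (q, 1)) = g.1 (h.1 (e (q, 1))) := rfl
      rw [hact h q 1, one_mul, hact g] at h1
      show (e.symm ((g * h).1 (e (q, 1)))).2 = _
      rw [h1, Equiv.symm_apply_apply]
    show ∏ q, χ (act (g * h) q).2 = (∏ q, χ (act g q).2) * ∏ q, χ (act h q).2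
    rw [← Equiv.prod_comp (σ h) fun q => χ (act g q).2, ← Finset.prod_mul_distrib]
    refine Finset.prod_congr rfl fun q _ => ?_
    rw [key, map_mul, mul_comm]
    rfl)
  set τ : S →* ℤˣ := Φ.comp L with hτ
  have hfoc : F.hyperfocalSubgroup 2 ≤ τ.ker.map S.subtype := by
    refine (Subgroup.closure_le _).2 ?_
    rintro _ ⟨P, α, x, hP, -, rfl⟩
    have hφ := (mem_autGroup_iff_hom hP).1 α.2
    refine ⟨⟨x, hP x.2⟩⁻¹ * ⟨((α : MulAut P) x : P), map_mem hφ x⟩, ?_, rfl⟩
    obtain ⟨g, hg⟩ := (hreal.2 P hP _ (map_mem hφ)).1 hφ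
    have hgx : L ⟨((α : MulAut P) x : P), map_mem hφ x⟩ = g * L ⟨x, hP x.2⟩ * g⁻¹ := hg x
    rw [SetLike.mem_coe, MonoidHom.mem_ker, map_mul, map_inv, hτ, MonoidHom.comp_apply,
      MonoidHom.comp_apply, hgx, map_mul Φ, map_mul Φ, map_inv Φ, mul_inv_cancel_comm,
      inv_mul_cancel]
  intro hmem
  obtain ⟨w, hw, hwi⟩ := hfoc hmem
  obtain rfl : w = i := Subtype.ext hwi
  -- the action of the involution
  set b : Q → S := fun q => (act (L w) q).2 with hb
  set sg : Q → Q := fun q => (act (L w) q).1 with hsg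
  have hstep : ∀ q (a : S), ((w, 1) : S × S) • e (q, a) = e (sg q, a * b q) := fun q a => hact (L w) q a
  have htwo : ∀ q, sg (sg q) = q ∧ b q * b (sg q) = 1 := by
    intro q
    have h1 : ((w, 1) : S × S) • ((w, 1) : S × S) • e (q, 1) = e (q, 1) := by
      rw [smul_smul, Prod.mk_mul_mk, hi2, one_mul, Prod.mk_one_one, one_smul]
    rw [hstep, hstep, one_mul] at h1
    exact Prod.ext_iff.1 (e.injective h1)
  have hpair : ∀ f : Q → ℤˣ, (∀ q, f q * f (sg q) = 1) →
      ∏ q ∈ Finset.univ.filter (fun q => ¬ sg q = q), f q = 1 := by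
    intro f hf
    refine Finset.prod_involution (fun q _ => sg q) (fun q _ => hf q)
      (fun q hq _ => (Finset.mem_filter.1 hq).2) (fun q hq => ?_) (fun q _ => (htwo q).1)
    refine Finset.mem_filter.2 ⟨Finset.mem_univ _, fun h' => (Finset.mem_filter.1 hq).2 ?_⟩
    rw [(htwo q).1] at h'
    exact h'.symm
  set Fx := Finset.univ.filter (fun q => sg q = q) with hFx
  have h1 : ∏ q ∈ Fx, χ (b q) = 1 := by
    have h0 : ∏ q, χ (b q) = 1 := hw
    rwa [← Finset.prod_filter_mul_prod_filter_not Finset.univ (fun q => sg q = q),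
      hpair (fun q => χ (b q)) (fun q => by rw [← map_mul, (htwo q).2, map_one]), mul_one] at h0
  have h2 : ∏ _q ∈ Fx, (-1 : ℤˣ) = -1 := by
    have hodd : Odd (Fintype.card Q) := by
      rw [← Nat.card_eq_fintype_card, hcardQ, ← Nat.not_even_iff_odd, even_iff_two_dvd]
      exact hp
    have h0 : ∏ _q : Q, (-1 : ℤˣ) = -1 := by
      rw [Finset.prod_const, Finset.card_univ, hodd.neg_one_pow]
    rwa [← Finset.prod_filter_mul_prod_filter_not Finset.univ (fun q => sg q = q),
      hpair (fun _ => -1) (fun q => by simp), mul_one] at h0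
  have h3 : ∏ q ∈ Fx, (-1 : ℤˣ) * χ (b q) = 1 := by
    rw [← Finset.prod_fiberwise_of_maps_to (g := fun q => ConjClasses.mk (b q))
      (t := Fx.image fun q => ConjClasses.mk (b q)) (fun q hq => Finset.mem_image_of_mem _ hq)]
    refine Finset.prod_eq_one fun K hK => ?_
    obtain ⟨q₀, hq₀, rfl⟩ := Finset.mem_image.1 hK
    set s := b q₀ with hs
    set A := Fx.filter (fun q => ConjClasses.mk (b q) = ConjClasses.mk s) with hA
    have hconst : ∀ q ∈ A, χ (b q) = χ s := fun q hq => by
      obtain ⟨r, hr⟩ := isConj_iff.1 (ConjClasses.mk_eq_mk_iff_isConj.1 (Finset.mem_filter.1 hq).2)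
      rw [← hr, map_mul, map_mul, map_inv, mul_inv_cancel_comm]
    rw [Finset.prod_congr rfl fun q hq => by rw [hconst q hq], Finset.prod_const]
    rcases Int.units_eq_one_or (χ s) with hχ | hχ
    swap
    · simp [hχ]
    rw [hχ, mul_one]
    refine Even.neg_one_pow ?_
    have hq₀' : sg q₀ = q₀ := (Finset.mem_filter.1 hq₀).2
    have hss : s * s = 1 := by
      have := (htwo q₀).2
      rwa [hq₀'] at this
    have hfix : ((w, s) : S × S) ∈ stabilizer (S × S) (e (q₀, 1)) := by
      rw [mem_stabilizer_iff,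
        show ((w, s) : S × S) = (1, s) * (w, 1) by simp, mul_smul, hstep, hq₀', one_mul, ← he, hss]
    obtain ⟨P, φ₀, hφ₀, hg₀⟩ := stabilizer_gset_mem F (fun D hD => (hc D hD).1) (e (q₀, 1))
    obtain ⟨hsP, hv⟩ := hg₀ _ hfix
    have hP := dom_le hφ₀
    -- a conjugate with larger centralizer
    have hconj : F.IsConjElt (w : Ω) s := by
      obtain ⟨ψ, hψ, hψx⟩ := F.inv_mem hφ₀
      have hle : Subgroup.zpowers (w : Ω) ≤ φ₀.range := Subgroup.zpowers_le.2 ⟨⟨_, hsP⟩, hv⟩
      refine ⟨_, restrict_mem hψ hle, ?_⟩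
      refine Eq.trans ?_ (hψx ⟨_, hsP⟩)
      exact congrArg ψ (Subtype.ext hv.symm)
    have hnfn := h s hconj hχ
    have hsS : Subgroup.zpowers (s : Ω) ≤ S := Subgroup.zpowers_le.2 s.2
    obtain ⟨R, ⟨φ, hφ, hR⟩, hlt⟩ : ∃ R : Subgroup Ω, F.IsConj (Subgroup.zpowers (s : Ω)) R ∧
        Nat.card (normalizerIn S (Subgroup.zpowers (s : Ω))) < Nat.card (normalizerIn S R) := by
      by_contra hno
      exact hnfn ⟨hsS, fun R hR => not_lt.1 fun hlt => hno ⟨R, hR, hlt⟩⟩
    set a : S := ⟨φ ⟨s, Subgroup.mem_zpowers _⟩, map_mem hφ _⟩ with ha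
    have haa : a * a = 1 := Subtype.ext (by
      show φ _ * φ _ = 1
      rw [← map_mul, ← map_one φ]
      exact congrArg φ (Subtype.ext (show (s : Ω) * s = 1 from congrArg Subtype.val hss)))
    have hRa : R = Subgroup.zpowers (a : Ω) := by
      refine le_antisymm ?_ (Subgroup.zpowers_le.2 (hR ▸ ⟨_, rfl⟩))
      rw [← hR]
      rintro _ ⟨⟨y, n, rfl⟩, rfl⟩
      refine ⟨n, ?_⟩
      show φ ⟨(s : Ω), Subgroup.mem_zpowers _⟩ ^ n = _
      rw [← map_zpow]
      rfl
    rw [hRa, normalizerIn_involution hss, normalizerIn_involution haa,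
      Subgroup.card_map_of_injective S.subtype_injective,
      Subgroup.card_map_of_injective S.subtype_injective] at hlt
    set Cs := Subgroup.centralizer ({s} : Set S) with hCs
    set Ca := Subgroup.centralizer ({a} : Set S) with hCa
    -- count the fixed points of `(w, s)`
    let Fix : S → Type v := fun u => {x : GSet c // ((u, s) : S × S) • x = x}
    have hcount : Nat.card (Fix w) = A.card * Nat.card Cs := by
      have hr : ∀ q : {q // q ∈ A}, ∃ r : S, r * b q * r⁻¹ = s := fun q =>
        isConj_iff.1 (ConjClasses.mk_eq_mk_iff_isConj.1 (Finset.mem_filter.1 q.2).2)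
      choose r hr using hr
      have hiff : ∀ q (y : S), ((w, s) : S × S) • e (q, y) = e (q, y) ↔
          sg q = q ∧ s * (y * b q) = y := by
        intro q y
        rw [show ((w, s) : S × S) = (1, s) * (w, 1) by simp, mul_smul, hstep, ← he,
          e.apply_eq_iff_eq, Prod.ext_iff]
      let F' : {q // q ∈ A} × Cs → Fix w := fun x => ⟨e (x.1.1, x.2.1 * r x.1), (hiff _ _).2
        ⟨(Finset.mem_filter.1 (Finset.mem_filter.1 x.1.2).1).2, by
          have hz : s * (x.2.1 : S) = x.2.1 * s :=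
            (Subgroup.mem_centralizer_singleton_iff.1 x.2.2).symm
          have hrb : r x.1 * b x.1.1 = s * r x.1 := mul_inv_eq_iff_eq_mul.1 (hr x.1)
          calc s * (x.2.1 * r x.1 * b x.1.1) = s * x.2.1 * (r x.1 * b x.1.1) := by group
            _ = x.2.1 * s * (s * r x.1) := by rw [hz, hrb]
            _ = x.2.1 * (s * s) * r x.1 := by group
            _ = x.2.1 * r x.1 := by rw [hss, mul_one]⟩⟩
      have hF' : Function.Bijective F' := by
        constructor
        · intro x y hxy
          have h4 := Prod.ext_iff.1 (e.injective (congrArg Subtype.val hxy))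
          have h5 : x.1 = y.1 := Subtype.ext h4.1
          refine Prod.ext h5 (Subtype.ext ?_)
          have h6 := h4.2
          simp only [h5] at h6
          exact mul_right_cancel h6
        · rintro ⟨x, hx⟩
          obtain ⟨⟨q, y⟩, rfl⟩ := e.surjective x
          obtain ⟨hq, hy⟩ := (hiff q y).1 hx
          have hyb : y * b q * y⁻¹ = s := by
            have hy' : y * b q = s⁻¹ * y := eq_inv_mul_iff_mul_eq.2 hy
            rw [hy', mul_assoc, mul_inv_cancel, mul_one]
            exact inv_eq_of_mul_eq_one_right hss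
          have hqA : q ∈ A := Finset.mem_filter.2 ⟨Finset.mem_filter.2 ⟨Finset.mem_univ _, hq⟩,
            ConjClasses.mk_eq_mk_iff_isConj.2 (isConj_iff.2 ⟨y, hyb⟩)⟩
          refine ⟨(⟨q, hqA⟩, ⟨y * (r ⟨q, hqA⟩)⁻¹, Subgroup.mem_centralizer_singleton_iff.2 ?_⟩),
            Subtype.ext (congrArg e (Prod.ext rfl (inv_mul_cancel_right _ _)))⟩
          have hr' : b q = (r ⟨q, hqA⟩)⁻¹ * s * r ⟨q, hqA⟩ := by
            rw [← hr ⟨q, hqA⟩]; group
          rw [← mul_inv_eq_iff_eq_mul]
          conv_rhs => rw [← hyb, hr']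
          group
      rw [← Nat.card_congr (Equiv.ofBijective F' hF'), Nat.card_prod, Nat.card_eq_fintype_card,
        Fintype.card_coe]
    -- the same number for the conjugate
    obtain ⟨g₀, hg₀'⟩ := (hreal.2 P hP φ₀ (map_mem hφ₀)).1 hφ₀
    obtain ⟨g₁, hg₁⟩ := (hreal.2 _ hsS φ (map_mem hφ)).1 hφ
    have e0 : L w = g₀ * L s * g₀⁻¹ := by
      refine Eq.trans ?_ (hg₀' ⟨_, hsP⟩)
      exact congrArg L (Subtype.ext hv.symm)
    have e1 : L a = g₁ * L s * g₁⁻¹ := hg₁ ⟨_, Subgroup.mem_zpowers _⟩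
    set g := g₁ * g₀⁻¹ with hg
    have hga : L a * g = g * L w := by rw [hg, e0, e1]; group
    have hFix : Nat.card (Fix w) = Nat.card (Fix a) := by
      refine Nat.card_congr (Equiv.subtypeEquiv g.1 fun x => ?_)
      have key : ((a, s) : S × S) • g.1 x = g.1 (((w, s) : S × S) • x) := by
        rw [show ((a, s) : S × S) = (1, s) * (a, 1) by simp,
          show ((w, s) : S × S) = (1, s) * (w, 1) by simp, mul_smul, mul_smul, hcomm]
        exact congrArg (((1, s) : S × S) • ·)
          (Equiv.ext_iff.1 (congrArg Subtype.val hga) x)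
      rw [key]
      exact g.1.injective.eq_iff.symm
    have hdvd : Nat.card Ca ∣ A.card * Nat.card Cs := by
      rw [← hcount, hFix]
      letI : MulAction Ca (Fix a) :=
        { smul := fun z x => ⟨((z.1, 1) : S × S) • x.1, by
            rw [smul_smul]
            conv_rhs => rw [← x.2, smul_smul]
            congr 1
            simp [(Subgroup.mem_centralizer_singleton_iff.1 z.2)]⟩
          one_smul := fun x => Subtype.ext (one_smul (S × S) x.1)
          mul_smul := fun z z' x => Subtype.ext (by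
            show ((z.1 * z'.1, 1) : S × S) • x.1 = ((z.1, 1) : S × S) • ((z'.1, 1) : S × S) • x.1
            rw [smul_smul, Prod.mk_mul_mk, one_mul]) }
      refine dvd_card_of_free fun z x hzx => ?_
      obtain ⟨P', φ', hφ', hg'⟩ := stabilizer_gset_mem F (fun D hD => (hc D hD).1) x.1
      obtain ⟨h1', hv'⟩ := hg' ((z.1, 1) : S × S) (congrArg Subtype.val hzx)
      refine Subtype.ext (Subtype.ext (hv'.symm.trans ?_))
      exact map_one φ'
    obtain ⟨m, hm⟩ := IsPGroup.iff_card.1 (hS.to_subgroup Ca)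
    obtain ⟨n, hn⟩ := IsPGroup.iff_card.1 (hS.to_subgroup Cs)
    rw [hm, hn] at hdvd hlt
    have hnm : n < m := (Nat.pow_lt_pow_iff_right one_lt_two).1 hlt
    have h4 : 2 ^ (n + 1) ∣ A.card * 2 ^ n := (pow_dvd_pow 2 hnm).trans hdvd
    rw [pow_succ', Nat.mul_dvd_mul_iff_right (pow_pos two_pos n)] at h4
    exact even_iff_two_dvd.2 h4
  rw [Finset.prod_mul_distrib, h1, h2, mul_one] at h3
  exact absurd h3 (by decide)

/-- A Thompson-type transfer for saturated fusion systems. Let F be a saturated fusion system on a finite 2-group S, T a subgroup of S of index 2, and i an involution of S such that every fully normalized F-conjugate of i lies in S but outside T. Then i does not lie in the hyperfocal subgroup of F (the Sylow group of the 2-residual subsystem). -/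
theorem result {Ω : Type*} [Group Ω] [Finite Ω] {S : Subgroup Ω}
    (hS : IsPGroup 2 ↥S) (F : Cfsg.FusionSystem S) (hF : F.IsSaturated 2)
    (T : Subgroup Ω) (hTS : T ≤ S) (hT : T.relIndex S = 2)
    (i : Ω) (hi : i ∈ S) (hi2 : orderOf i = 2)
    (h : ∀ j : Ω, F.IsConjElt i j → F.IsFullyNormalized (Subgroup.zpowers j) → j ∉ T) :
    i ∉ F.hyperfocalSubgroup 2 := by
  refine main hS F hF (CfsgLib.ThompsonTransfer.indexTwoSign (T.subgroupOf S) hT) ⟨i, hi⟩
    (Subtype.ext ?_) (fun h1 => ?_) fun s hs hχ hfn => h s hs hfn ?_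
  · show i * i = 1
    rw [← pow_two, ← hi2, pow_orderOf_eq_one]
  · rw [show i = 1 from congrArg Subtype.val h1, orderOf_one] at hi2
    exact absurd hi2 (by norm_num)
  · by_contra hns
    rw [CfsgLib.ThompsonTransfer.indexTwoSign_eq_neg_one hT
      (fun h' => hns (Subgroup.mem_subgroupOf.1 h'))] at hχ
    exact absurd hχ (by decide)

end Cfsg.Agent.S5192
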