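import Cfsg.Statements.S5193
import Cfsg.Agent.S5220
import Cfsg.Agent.S2799
import Cfsg.Agent.Lib.FusionControl.CenterStep
import Cfsg.Agent.Lib.Fusion.Local

set_option autoImplicit false
open Cfsg

namespace Cfsg.Agent.S5193

open Cfsg.FusionSystem CfsgLib.Fusion CfsgLib.FusionControl

universe u
variable {Ω : Type u} [Group Ω] {S : Subgroup Ω}

theorem image_eq_of_inv {L : Type*} [Group L] {K : Subgroup L} {l : L}
    (hl : l ∈ Subgroup.normalizer (K : Set L)) {x : L} (hx : x ∈ K) : l * x * l⁻¹ ∈ K :=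
  (Subgroup.mem_normalizer_iff.1 hl x).1 hx

/-- Elements central in the normalizer system of `J(S)` and meeting the hypothesis are central. -/
theorem le_center_of [Finite S] {p : ℕ} [Fact p.Prime] (hS : IsPGroup p S)
    {F : Cfsg.FusionSystem S} (hF : F.IsSaturated p)
    {N : Cfsg.FusionSystem (Cfsg.FusionSystem.normalizerIn S (Cfsg.thompsonSubgroupAOf S))}
    (hN : F.IsNormalizerSystem (Cfsg.thompsonSubgroupAOf S) N) {A : Subgroup Ω} (hA : A ≤ N.center)
    (hcase : ∀ a ∈ A, p ≠ 2 ∨ (∃ z ∈ S ⊓ Subgroup.centralizer (S : Set Ω), z ^ p = a) ∨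
      F.IsSectionFree p (Equiv.Perm (Fin 4))) : A ≤ F.center := by
  have hJ : Cfsg.thompsonSubgroupAOf S = CfsgLib.PLoc.joinMaxAb 0 S := CfsgLib.PLoc.joinMaxAb_zero S
  have hSJ : S ≤ Subgroup.normalizer (Cfsg.thompsonSubgroupAOf S : Set Ω) := by
    rw [hJ]
    exact Subgroup.le_normalizer.trans (CfsgLib.PLoc.normalizer_le_normalizer_joinMaxAb 0 S)
  have hNS := normalizerIn_eq_of_le hSJ
  have : Finite (normalizerIn S (Cfsg.thompsonSubgroupAOf S)) := finite_of_le (normalizerIn_le _ _)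
  have hcN := CfsgLib.FusionQuot.isCentral_center N
  have hAN : A ≤ normalizerIn S (Cfsg.thompsonSubgroupAOf S) := hA.trans hcN.1
  have hAS : A ≤ S := hAN.trans (normalizerIn_le _ _)
  have hfixN : ∀ {P : Subgroup Ω} {φ : P →* Ω}, φ ∈ N.Hom P → ∀ (a : Ω) (haP : a ∈ P), a ∈ A →
      φ ⟨a, haP⟩ = a := by
    intro P φ hφ a haP ha
    obtain ⟨ψ, -, hag, hfix⟩ := hcN.2 P φ hφ
    rw [← hag ⟨a, haP⟩]
    exact hfix ⟨a, hA ha⟩
  have hAc : A ≤ Subgroup.centralizer (S : Set Ω) := fun a ha =>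
    Subgroup.mem_centralizer_iff.2 fun s hs => by
      have h : s * a * s⁻¹ = a :=
        hfixN (N.conj_mem (P := A) hAN (by rw [hNS]; exact hs)) a ha ha
      exact mul_inv_eq_iff_eq_mul.1 h
  have hCA : centralizerIn S A = S :=
    inf_eq_left.2 fun x hx => Subgroup.mem_centralizer_iff.2 fun a ha =>
      (Subgroup.mem_centralizer_iff.1 (hAc ha) x hx).symm
  obtain ⟨G, hG⟩ : ∃ G : Cfsg.FusionSystem S, ∀ P, G.Hom P = F.centralizerHom A P := by
    have h : ∃ G : Cfsg.FusionSystem (centralizerIn S A), ∀ P, G.Hom P = F.centralizerHom A P :=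
      ⟨centralizerSystem F A hAS, fun P => rfl⟩
    rwa [hCA] at h
  have hle : S ≤ centralizerIn S A := hCA.ge
  -- it suffices that every map extends to a map fixing `A`
  suffices hFG : F.IsSubsystemOf G by
    refine CfsgLib.FusionQuot.le_center F ⟨hAS, fun P φ hφ => ?_⟩
    have h := hFG P hφ
    rw [hG] at h
    exact h.2.2.2
  have hCh := isGoodChoice_liftSub (S := S) hS (W := Cfsg.Agent.S5220.jW)
    Cfsg.Agent.S5220.jW_ne_bot Cfsg.Agent.S5220.jW_natural
  refine control_top hS hF hCh (fun {T} E Z hE hZ hp hlt hC hcov _ => ?_) ?_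
  · obtain ⟨D⟩ := exists_coreData hS hF hE hC
    have := hE.finite
    have hT := hE.isPGroup hS
    have hY := CfsgLib.FusionQuot.isNormal_core E
    have hn : ((Z.subgroupOf T).map D.ι).Normal := D.normal_map hZ hlt.le
    obtain ⟨U, hU⟩ := liftSub_nonempty (W := Cfsg.Agent.S5220.jW) hZ
    obtain ⟨-, hUT, hUn⟩ := hCh Z T U (hlt.trans_le D.hle) hE.le_S hU
    have hTU : T ≤ Subgroup.normalizer (U : Set Ω) := fun t ht =>
      hUn t (Subgroup.le_normalizer ht)
        (stronglyClosed_le_normalizer (isNormal_stronglyClosed hZ) ht)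
    have hAY : ∀ a ∈ A, a ∈ E.core := fun a ha => center_mem_core hE hC (hAS ha) (hAc ha)
    set mk := QuotientGroup.mk' ((Z.subgroupOf T).map D.ι) with hmk
    have hmks : Function.Surjective mk := QuotientGroup.mk'_surjective _
    obtain ⟨P₀, hP₀⟩ := D.model.2.2.1
    set P := P₀.mapSurjective hmks with hPdef
    have hP : (P : Subgroup (D.L ⧸ (Z.subgroupOf T).map D.ι)) = D.ι.range.map mk := by
      rw [hPdef, Sylow.coe_mapSurjective, hP₀]
    -- automorphisms of the core fix `A`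
    have hτ : ∀ a (ha : a ∈ A) (l : D.L),
        (D.τ l : MulAut E.core) ⟨a, hAY a ha⟩ = ⟨a, hAY a ha⟩ := by
      intro a ha
      set u := mk (D.ι (Subgroup.inclusion D.hle ⟨a, hAY a ha⟩)) with hu
      have huP : u ∈ (P : Subgroup (D.L ⧸ (Z.subgroupOf T).map D.ι)) := hP ▸ Subgroup.mem_map_of_mem mk ⟨_, rfl⟩
      have huz : ∀ q ∈ Subgroup.normalizer
          ((Cfsg.thompsonSubgroupAOf (P : Subgroup (D.L ⧸ (Z.subgroupOf T).map D.ι))) : Set _), q * u = u * q := by
        intro q hq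
        obtain ⟨l, rfl⟩ := hmks q
        rw [CfsgLib.PLoc.joinMaxAb_zero, ← Cfsg.Agent.S5220.jW_map] at hq
        have hl := (mem_normalizer_liftSub Cfsg.Agent.S5220.jW_natural hT D.model.2.1.1 hU
          (P : Subgroup (D.L ⧸ (Z.subgroupOf T).map D.ι)) hP l).1 hq
        have hYr : ∀ x : E.core, l * D.ι ⟨x, D.hle x.2⟩ * l⁻¹ ∈ D.ι.range := fun x =>
          ⟨_, (D.equiv l x).symm⟩
        have hUr : ∀ x : U, l * D.ι ⟨x, hUT x.2⟩ * l⁻¹ ∈ (U.subgroupOf T).map D.ι := fun x =>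
          image_eq_of_inv hl ⟨_, x.2, rfl⟩
        obtain ⟨χ, hχ, hχl⟩ := realized_subgroup_conj D.model.2.1 (sup_le D.hle hUT) l
          (realized_conj_mem_range_of_sup D.model.2.1 D.hle hUT hYr
            fun x => Subgroup.map_le_range _ _ (hUr x))
        have hN : χ ∈ E.normalizerHom U (E.core ⊔ U) := by
          refine ⟨hχ, le_inf (sup_le D.hle hUT) ((sup_le D.hle hUT).trans hTU),
            fun x => ⟨map_mem hχ x, hTU (map_mem hχ x)⟩,
            χ.comp (Subgroup.inclusion (sup_le le_rfl le_sup_right)), restrict_mem hχ _,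
            fun x => rfl, ?_⟩
          have : Finite U := finite_of_le hUT
          rw [← range_comp_inclusion le_sup_right]
          refine range_eq_of_le (hom_inj (restrict_mem (restrict_mem hχ _) le_sup_right))
            fun x => ?_
          obtain ⟨w, hw, hwx⟩ := hUr x
          have h2 : χ (Subgroup.inclusion le_sup_right x) = (w : Ω) :=
            realized_inj D.model.2.1 (x := ⟨_, map_mem hχ _⟩)
              ((hχl (Subgroup.inclusion le_sup_right x) (map_mem hχ _)).trans hwx.symm)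
          show χ (Subgroup.inclusion le_sup_right x) ∈ U
          rw [h2]
          exact hw
        have h1 := hcov (hlt.trans_le D.hle) U hU _ hN
        rw [hG] at h1
        have h2 := centralizerHom_fix h1 ha (le_sup_left (b := U) (hAY a ha))
        have h3 := hχl ⟨a, le_sup_left (b := U) (hAY a ha)⟩ (map_mem hχ _)
        rw [show (⟨χ _, _⟩ : T) = ⟨a, D.hle (hAY a ha)⟩ from Subtype.ext h2] at h3
        have h4 : l * D.ι (Subgroup.inclusion D.hle ⟨a, hAY a ha⟩) =
            D.ι (Subgroup.inclusion D.hle ⟨a, hAY a ha⟩) * l :=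
          mul_inv_eq_iff_eq_mul.1 h3.symm
        rw [hu, ← map_mul, h4, map_mul]
      have hcentral : ∀ x : D.L ⧸ (Z.subgroupOf T).map D.ι, x * u = u * x := by
        have hPn : (P : Subgroup (D.L ⧸ (Z.subgroupOf T).map D.ι)) ≤ Subgroup.normalizer
            ((Cfsg.thompsonSubgroupAOf (P : Subgroup (D.L ⧸ (Z.subgroupOf T).map D.ι))) : Set (D.L ⧸ (Z.subgroupOf T).map D.ι)) := by
          rw [CfsgLib.PLoc.joinMaxAb_zero]
          exact Subgroup.le_normalizer.trans (CfsgLib.PLoc.normalizer_le_normalizer_joinMaxAb 0 _)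
        have hor : p ≠ 2 ∨ (∃ z ∈ (P : Subgroup (D.L ⧸ (Z.subgroupOf T).map D.ι)) ⊓ Subgroup.centralizer
            ((P : Subgroup (D.L ⧸ (Z.subgroupOf T).map D.ι)) : Set _), z ^ p = u) ∨
            ¬ Cfsg.Involves (Equiv.Perm (Fin 4)) (D.L ⧸ (Z.subgroupOf T).map D.ι) := by
          rcases hcase a ha with h | ⟨z, hz, hza⟩ | h
          · exact Or.inl h
          · refine Or.inr (Or.inl ?_)
            have hzY := center_mem_core hE hC hz.1 hz.2
            refine ⟨mk (D.ι (Subgroup.inclusion D.hle ⟨z, hzY⟩)),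
              ⟨hP ▸ Subgroup.mem_map_of_mem mk ⟨_, rfl⟩, Subgroup.mem_centralizer_iff.2 ?_⟩, ?_⟩
            · intro w hw
              rw [hP] at hw
              obtain ⟨_, ⟨t, rfl⟩, rfl⟩ := hw
              rw [← map_mul, ← map_mul, ← map_mul, ← map_mul]
              congr 2
              exact Subtype.ext (Subgroup.mem_centralizer_iff.1 hz.2 _ (hE.le_S t.2))
            · rw [← map_pow, ← map_pow, ← map_pow]
              exact congrArg (fun y => mk (D.ι (Subgroup.inclusion D.hle y))) (Subtype.ext hza)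
          · exact Or.inr (Or.inr fun hi => D.not_involves h (involves_of_quotient _ hi))
        have hwc := Cfsg.Agent.S2799.result P u huP
          ⟨⟨u, hPn huP⟩, Subgroup.mem_center_iff.2 fun g => Subtype.ext (huz _ g.2), rfl⟩ hor
        intro x
        obtain ⟨l, rfl⟩ := hmks x
        refine mul_inv_eq_iff_eq_mul.1 (hwc (mk l) ?_)
        rw [hP, hu, ← map_inv, ← map_mul, ← map_mul, D.equiv]
        exact Subgroup.mem_map_of_mem mk ⟨_, rfl⟩
      exact fix_of_central_mod hS hE hZ hp hlt D (a := ⟨a, hAY a ha⟩) (hAc ha) hcentral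
    intro Q φ hφ
    obtain ⟨ψ, hψ, hag, -⟩ := hY.2 Q φ hφ
    obtain ⟨g, hg⟩ := realized_exists_conj D.model.2.1 hψ
    rw [hG]
    refine ⟨hE.1 _ hφ, ((dom_le hφ).trans hE.le_S).trans hle,
      fun x => hle (hE.le_S (map_mem hφ x)),
      ψ.comp (Subgroup.inclusion (sup_le_sup le_rfl hAY)), restrict_mem (hE.1 _ hψ) _,
      fun x => hag x, fun a => ?_⟩
    have h1 := hg ⟨a, le_sup_right (a := Q) (hAY a a.2)⟩
    have h2 := D.equiv g ⟨a, hAY a a.2⟩
    rw [hτ a a.2 g] at h2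
    exact realized_inj D.model.2.1 (x := ⟨_, map_mem hψ _⟩) (h1.trans h2)
  · intro _ U hU P φ hφ
    rw [eq_of_mem_liftSub_bot hS Cfsg.Agent.S5220.jW_natural hU, Cfsg.Agent.S5220.jW_map,
      ← CfsgLib.PLoc.joinMaxAb_zero] at hφ
    have hφN : φ ∈ N.Hom P := (hN P).symm ▸ hφ
    obtain ⟨ψ, hψ, hag, hfix⟩ := hcN.2 P φ hφN
    rw [hN] at hψ
    rw [hG]
    refine ⟨hφ.1, (dom_le hφ.1).trans hle, fun x => hle (map_mem hφ.1 x),
      ψ.comp (Subgroup.inclusion (sup_le_sup le_rfl hA)), restrict_mem hψ.1 _, fun x => hag x,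
      fun a => hfix ⟨a, hA a.2⟩⟩

/-- The centre of `F` is central in the normalizer system of any subgroup. -/
theorem center_le_center [Finite S]
    {F : Cfsg.FusionSystem S} {J : Subgroup Ω} (hJ : S ≤ Subgroup.normalizer (J : Set Ω))
    {N : Cfsg.FusionSystem (normalizerIn S J)} (hN : F.IsNormalizerSystem J N) :
    F.center ≤ N.center := by
  have hc := CfsgLib.FusionQuot.isCentral_center F
  refine CfsgLib.FusionQuot.le_center N ⟨hc.1.trans (normalizerIn_eq_of_le hJ).ge, fun P φ hφ => ?_⟩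
  rw [hN] at hφ
  obtain ⟨-, hP, hv, ψ, hψ, hag, hJψ⟩ := hφ
  obtain ⟨χ, hχ, hχag, hfix⟩ := hc.2 _ ψ hψ
  have hPS : P ≤ S := hP.trans (normalizerIn_le _ _)
  have h1 : P ⊔ F.center ≤ P ⊔ J ⊔ F.center := sup_le_sup le_sup_left le_rfl
  have h2 : P ⊔ F.center ⊔ J ≤ P ⊔ J ⊔ F.center :=
    sup_le h1 ((le_sup_right : J ≤ P ⊔ J).trans le_sup_left)
  refine ⟨χ.comp (Subgroup.inclusion h1), ?_, fun x => (hχag _).trans (hag x), fun x => hfix x⟩
  rw [hN]
  refine ⟨restrict_mem hχ h1, (sup_le hPS hc.1).trans (normalizerIn_eq_of_le hJ).ge,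
    fun x => (normalizerIn_eq_of_le hJ).ge (map_mem hχ _),
    χ.comp (Subgroup.inclusion h2), restrict_mem hχ h2, fun x => rfl, ?_⟩
  conv_rhs => rw [← hJψ]
  ext y
  simp only [mem_map_subgroupOf]
  constructor
  · rintro ⟨x, _, hxJ, rfl⟩
    exact ⟨x, le_sup_right (a := P) hxJ, hxJ, (hχag ⟨x, le_sup_right (a := P) hxJ⟩).symm⟩
  · rintro ⟨x, _, hxJ, rfl⟩
    exact ⟨x, le_sup_right (a := P ⊔ F.center) hxJ, hxJ, hχag ⟨x, le_sup_right (a := P) hxJ⟩⟩

/-- Glauberman's Theorem for fusion systems. -/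
theorem result {Ω : Type*} [Group Ω] {S : Subgroup Ω} [Finite S] (p : ℕ) [Fact p.Prime] (hS : IsPGroup p S) (F : Cfsg.FusionSystem S) (hF : F.IsSaturated p) (N : Cfsg.FusionSystem (Cfsg.FusionSystem.normalizerIn S (Cfsg.thompsonSubgroupAOf S))) (hN : F.IsNormalizerSystem (Cfsg.thompsonSubgroupAOf S) N) : Subgroup.closure ((fun z : Ω => z ^ p) '' ((S ⊓ Subgroup.centralizer (S : Set Ω) : Subgroup Ω) : Set Ω)) ⊓ N.center ≤ F.center ∧ (p ≠ 2 ∨ F.IsSectionFree p (Equiv.Perm (Fin 4)) → N.center = F.center) := by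
  have key : ∀ x ∈ Subgroup.closure ((fun z : Ω => z ^ p) '' ((S ⊓ Subgroup.centralizer (S : Set Ω) : Subgroup Ω) : Set Ω)),
      ∃ z ∈ S ⊓ Subgroup.centralizer (S : Set Ω), z ^ p = x := by
    intro x hx
    induction hx using Subgroup.closure_induction with
    | mem x hx =>
      obtain ⟨z, hz, rfl⟩ := hx
      exact ⟨z, hz, rfl⟩
    | one => exact ⟨1, one_mem _, one_pow p⟩
    | mul x y _ _ hx hy =>
      obtain ⟨z, hz, rfl⟩ := hx
      obtain ⟨w, hw, rfl⟩ := hy
      have hc : Commute z w := Subgroup.mem_centralizer_iff.1 hw.2 z hz.1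
      exact ⟨z * w, mul_mem hz hw, hc.mul_pow p⟩
    | inv x _ hx =>
      obtain ⟨z, hz, rfl⟩ := hx
      exact ⟨z⁻¹, inv_mem hz, inv_pow z p⟩
  refine ⟨le_center_of hS hF hN inf_le_right fun a ha => Or.inr (Or.inl (key a ha.1)), fun h => ?_⟩
  · have hJ : S ≤ Subgroup.normalizer (Cfsg.thompsonSubgroupAOf S : Set Ω) := by
      rw [CfsgLib.PLoc.joinMaxAb_zero]
      exact Subgroup.le_normalizer.trans (CfsgLib.PLoc.normalizer_le_normalizer_joinMaxAb 0 S)
    exact le_antisymm (le_center_of hS hF hN le_rfl fun a _ => h.imp id Or.inr)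
      (center_le_center hJ hN)

end Cfsg.Agent.S5193
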