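import Cfsg.Statements.S5194
import Cfsg.Agent.Lib.FusionControl.ThompsonStep

set_option autoImplicit false
open Cfsg

namespace Cfsg.Agent.S5194

open Cfsg.FusionSystem CfsgLib.Fusion CfsgLib.FusionControl

universe u

/-- Thompson criterion for a system to be inner. -/
theorem result {Ω : Type*} [Group Ω] {S : Subgroup Ω} [Finite S] (p : ℕ) [Fact p.Prime] (hS : IsPGroup p S) (F : Cfsg.FusionSystem S) (hF : F.IsSaturated p) (hp : p ≠ 2 ∨ F.IsSectionFree p (Equiv.Perm (Fin 4))) (hC : ∀ C : Cfsg.FusionSystem (Cfsg.FusionSystem.centralizerIn S (S ⊓ Subgroup.centralizer (S : Set Ω))), F.IsCentralizerSystem (S ⊓ Subgroup.centralizer (S : Set Ω)) C → ∀ P : Subgroup Ω, C.Hom P = (Cfsg.innerFusionSystem (Cfsg.FusionSystem.centralizerIn S (S ⊓ Subgroup.centralizer (S : Set Ω)))).Hom P) (hN : ∀ N : Cfsg.FusionSystem (Cfsg.FusionSystem.normalizerIn S (Cfsg.thompsonSubgroupAOf S)), F.IsNormalizerSystem (Cfsg.thompsonSubgroupAOf S) N → ∀ P :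 Subgroup Ω, N.Hom P = (Cfsg.innerFusionSystem (Cfsg.FusionSystem.normalizerIn S (Cfsg.thompsonSubgroupAOf S))).Hom P) : ∀ P : Subgroup Ω, F.Hom P = (Cfsg.innerFusionSystem S).Hom P := by
  have hC' : ∀ P, F.centralizerHom (S ⊓ Subgroup.centralizer (S : Set Ω)) P ⊆
      (Cfsg.innerFusionSystem S).Hom P := fun P φ hφ => by
    obtain ⟨hP, g, hg, hv⟩ := (hC (centralizerSystem F _ inf_le_left) (fun _ => rfl) P).subset hφ
    exact ⟨hP.trans (centralizerIn_le _ _), g, centralizerIn_le _ _ hg, hv⟩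
  refine fun P => eq_inner_of_le (control_top hS hF (isGoodChoice_jcChoice hS False)
    (fun E Z hE hZ hpZ hlt hCT hcov _ =>
      hcons_thompson hS hF hp False (fun _ => hC') E Z hE hZ hpZ hlt hCT hcov) ?_) P
  rintro - U (hU | ⟨(h | h), -⟩) Q φ hφ
  · rw [eq_of_mem_liftSub_bot hS Cfsg.Agent.S5220.jW_natural hU, Cfsg.Agent.S5220.jW_map,
      ← CfsgLib.PLoc.joinMaxAb_zero] at hφ
    have hJS : Cfsg.thompsonSubgroupAOf S ≤ S := Subgroup.map_subtype_le _
    obtain ⟨hQ, g, hg, hv⟩ := (hN (normalizerSystem F _ hJS)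
      (isNormalizerSystem_normalizerSystem F _ hJS) Q).subset hφ
    exact ⟨hQ.trans (normalizerIn_le _ _), g, normalizerIn_le _ _ hg, hv⟩
  · exact h.elim
  · exact absurd rfl h

end Cfsg.Agent.S5194
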