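import Cfsg.Statements.S5195
import Cfsg.Agent.Lib.FusionControl.ThompsonStep

set_option autoImplicit false
open Cfsg

namespace Cfsg.Agent.S5195

open Cfsg.FusionSystem CfsgLib.Fusion CfsgLib.FusionControl

universe u

/-- If all characteristic subgroups of `S` have p-group automizers the system is inner. -/
theorem result {Ω : Type*} [Group Ω] {S : Subgroup Ω} [Finite S] (p : ℕ) [Fact p.Prime] (hS : IsPGroup p S) (F : Cfsg.FusionSystem S) (hF : F.IsSaturated p) (hp : p ≠ 2 ∨ F.IsSectionFree p (Equiv.Perm (Fin 4))) (h : ∀ Q : Subgroup Ω, Q ≤ S → Q ≠ ⊥ → (Q.subgroupOf S).Characteristic → IsPGroup p (F.autGroup Q)) : ∀ P : Subgroup Ω, F.Hom P = (Cfsg.innerFusionSystem S).Hom P := by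
  have hCh := isGoodChoice_jcChoice (S := S) hS True
  have hchar : ∀ Z U : Subgroup Ω, (Z.subgroupOf S).Characteristic → U ∈ jcChoice True Z S →
      (U.subgroupOf S).Characteristic := by
    rintro Z U hZ (hU | ⟨-, hU⟩)
    · exact liftSub_characteristic hS Cfsg.Agent.S5220.jW_natural hZ hU
    · exact liftSub_characteristic hS cW_natural hZ hU
  have claim : ∀ (k : ℕ) (Q : Subgroup Ω), Nat.card S ≤ Nat.card Q + k → Q ≤ S → Q ≠ ⊥ →
      (Q.subgroupOf S).Characteristic → ∀ P, F.normalizerHom Q P ⊆ (Cfsg.innerFusionSystem S).Hom P := by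
    intro k
    induction k using Nat.strong_induction_on with
    | _ k ih =>
      intro Q hk hQS hQ1 hQc
      have hSQ := normalizer_of_characteristic hQS hQc
      have hfn : F.IsFullyNormalized Q := isFullyNormalized_of_le_normalizer hQS hSQ
      have hNS : normalizerIn S Q = S := normalizerIn_eq_of_le hSQ
      have : Finite (normalizerIn S Q) := finite_of_le (normalizerIn_le S Q)
      refine control (E := normalizerSystem F Q hQS) hS hCh
        (fun E Z hE hZ hpZ hlt hCT hcov _ => hcons_thompson hS hF hp True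
          (fun hn => absurd trivial hn) E Z hE hZ hpZ hlt hCT hcov)
        (isLocal_normalizerSystem hS (isLocal_self hF) hfn
          (le_inf (CfsgLib.FusionQuot.isNormal_core F).1
            ((CfsgLib.FusionQuot.isNormal_core F).1.trans hSQ)))
        (isNormal_normalizer_self hQS)
        (isPGroup_autGroup_mono (normalizerSystem_le hQS) (le_normalizerIn hQS) hQS (h Q hQS hQ1 hQc))
        ?_
      intro hlt U hU
      rw [hNS] at hlt hU
      obtain ⟨hQU, hUS, -⟩ := hCh Q S U hlt le_rfl hU
      have hcard := Descent.card_lt_card_of_lt hUS hQU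
      intro P φ hφ
      refine ih (Nat.card S - Nat.card U) (by have := Descent.card_le_of_le (S := S) hUS; omega) U
        (by omega) hUS (fun h0 => (h0 ▸ hQU).not_ge bot_le) (hchar Q U hQc hU) P ?_
      obtain ⟨hφE, hP, hv, ψ, hψ, hag, hUψ⟩ := hφ
      exact ⟨hφE.1, hP.trans (inf_le_inf_right _ (normalizerIn_le S Q)),
        fun x => inf_le_inf_right _ (normalizerIn_le S Q) (hv x), ψ, hψ.1, hag, hUψ⟩
  refine fun P => eq_inner_of_le (control_top hS hF hCh (fun E Z hE hZ hpZ hlt hCT hcov _ =>
    hcons_thompson hS hF hp True (fun hn => absurd trivial hn) E Z hE hZ hpZ hlt hCT hcov) ?_) P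
  intro hbot U hU
  obtain ⟨h1, hUS, -⟩ := hCh ⊥ S U hbot le_rfl hU
  refine claim (Nat.card S) U (Nat.le_add_left _ _) hUS h1.ne' (hchar ⊥ U ?_ hU)
  rw [Subgroup.bot_subgroupOf]
  exact Subgroup.botCharacteristic

end Cfsg.Agent.S5195
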