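import Cfsg.Statements.S5196
import Cfsg.Agent.Lib.FusionControl.CenterStep

set_option autoImplicit false
open Cfsg

namespace Cfsg.Agent.S5196

open Cfsg.FusionSystem CfsgLib.Fusion CfsgLib.FusionControl

universe u

/-- Characteristic functors controlling central elements of groups control centres of systems. -/
theorem result {p : ℕ} [Fact p.Prime] (hp : p ≠ 2) (W : ∀ (Q : Type u) [Group Q], Subgroup Q) (hW1 : ∀ (Q : Type u) [Group Q] [Finite Q], IsPGroup p Q → Nontrivial Q → W Q ≠ ⊥) (hW2 : ∀ (Q R : Type u) [Group Q] [Group R] [Finite Q], IsPGroup p Q → ∀ φ : Q ≃* R, (W Q).map φ.toMonoidHom = W R) (hWZ : ∀ (Q : Type u) [Group Q] [Finite Q], IsPGroup p Q → Subgroup.center Q ≤ W Q) (hC : ∀ (G : Type u) [Group G] [Finite G] (P : Sylow p G), Cfsg.pCore p G ⊓ Subgroup.center G = Cfsg.pCore p G ⊓ (Subgroup.center ↥(Subgroup.normalizer (((W ↥(P : Subgroup G)).map (P : Subgroup G).subtype : Subgroup G) : Set G))).map (Subgroup.normalizer (((W ↥(P : Subgroup G)).map (P : Subgroup G).subtype :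 Subgroup G) : Set G)).subtype) {Ω : Type u} [Group Ω] {S : Subgroup Ω} [Finite S] (hS : IsPGroup p S) (F : Cfsg.FusionSystem S) (hF : F.IsSaturated p) (N : Cfsg.FusionSystem (Cfsg.FusionSystem.normalizerIn S ((W ↥S).map S.subtype))) (hN : F.IsNormalizerSystem ((W ↥S).map S.subtype) N) : N.center = F.center := by
  generalize hVdef : (W S).map S.subtype = V at N hN ⊢
  have hVS : V ≤ S := hVdef ▸ Subgroup.map_subtype_le _
  have hCh := isGoodChoice_liftSub (S := S) hS hW1 hW2
  have hSV : S ≤ Subgroup.normalizer (V : Set Ω) := by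
    intro g hg
    refine mem_normalizer_of_map ?_
    have hmap := hW2 S S hS (conjAut S g (Subgroup.le_normalizer hg))
    rw [← hVdef, Subgroup.map_map]
    conv_rhs => rw [← hmap, Subgroup.map_map]
    exact congrArg (fun f => (W S).map f)
      (MonoidHom.ext fun x => (conjAut_apply (Subgroup.le_normalizer hg) x).symm)
  have hNS : normalizerIn S V = S := normalizerIn_eq_of_le hSV
  have : Finite (normalizerIn S V) := finite_of_le (normalizerIn_le S V)
  have hcN := CfsgLib.FusionQuot.isCentral_center N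
  have hcF := CfsgLib.FusionQuot.isCentral_center F
  have hZS : ∀ {T : Subgroup Ω} (K : Cfsg.FusionSystem T) (A : Subgroup Ω), K.IsCentral A →
      A ≤ Subgroup.centralizer (T : Set Ω) := by
    intro T K A hA a ha
    refine Subgroup.mem_centralizer_iff.2 fun g hg => ?_
    obtain ⟨ψ, -, hag, hfix⟩ := hA.2 T (conjHom T g) (K.conj_mem le_rfl hg)
    have h1 := hag ⟨a, hA.1 ha⟩
    have h2 := hfix ⟨a, ha⟩
    have h3 : g * a * g⁻¹ = a := h1.symm.trans h2
    exact (mul_inv_eq_iff_eq_mul.1 h3)
  refine le_antisymm ?_ ?_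
  · set A := N.center
    have hAS : A ≤ S := hcN.1.trans (normalizerIn_le S V)
    have hAZ : A ≤ Subgroup.centralizer (S : Set Ω) := fun a ha => by
      have := hZS N A hcN ha
      rwa [hNS] at this
    have hSA : centralizerIn S A = S := le_antisymm (centralizerIn_le S A)
      (le_inf le_rfl fun g hg => Subgroup.mem_centralizer_iff.2 fun a ha =>
        (Subgroup.mem_centralizer_iff.1 (hAZ ha) g hg).symm)
    have hfc : F.IsFullyCentralized A := ⟨hAS, fun B _ => by
      rw [hSA]
      exact Nat.card_le_card_of_injective _ (Subgroup.inclusion_injective (centralizerIn_le S B))⟩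
    set G := copyOver (centralizerSystem F A hAS) hSA
    have hG : G.IsSaturated p := (isSaturated_copyOver _ hSA).2
      (isSaturated_centralizerSystem hS hF hfc fun _ => rfl)
    refine CfsgLib.FusionQuot.le_center F ⟨hAS, fun P φ hφ => ?_⟩
    have hFG : F.IsSubsystemOf G := control_top hS hF hCh (fun {T} E Z hE hZ hp hlt hCy hcov _ =>
      hcons_of_step hS hF hG (fun P φ hφ => hφ.1) hCh (fun {T} E Z hE hZ hpZ hlt D hD => ?_)
        E Z hE hZ hp hlt hCy hcov) ?_
    · obtain ⟨-, -, -, ψ, hψ, hag, hfix⟩ := hFG P hφ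
      exact ⟨ψ, hψ, hag, hfix⟩
    · have := hE.finite
      have hT := hE.isPGroup hS
      have hn : ((Z.subgroupOf T).map D.ι).Normal := D.normal_map hZ hlt.le
      set mk := QuotientGroup.mk' ((Z.subgroupOf T).map D.ι) with hmk
      obtain ⟨P₀, hP₀⟩ := D.model.2.2.1
      set P := P₀.mapSurjective (QuotientGroup.mk'_surjective ((Z.subgroupOf T).map D.ι)) with hPdef
      have hP : (P : Subgroup _) = D.ι.range.map mk := by
        rw [hPdef, ← hP₀]
        rfl
      obtain ⟨U, hU⟩ := liftSub_nonempty (W := W) hZ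
      obtain ⟨-, hUT, hinv⟩ := hCh Z T U (hlt.trans_le D.hle) hE.le_S hU
      have hcl : centralizerIn T E.core ≤ E.core := by
        intro c hc
        obtain ⟨z, hz, hzv⟩ := D.ker (D.ι ⟨c, hc.1⟩) (Subtype.ext (MulEquiv.ext fun y =>
          Subtype.ext (by
            rw [D.τ_ι, ← Subgroup.mem_centralizer_iff.1 hc.2 y y.2, mul_inv_cancel_right]
            rfl)))
        have h1 := congrArg Subtype.val (D.model.2.1.1 hzv)
        exact (show (z : Ω) = c from h1) ▸ z.2
      have key : ∀ (a : Ω) (ha : a ∈ A) (hay : a ∈ E.core) (l : D.L),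
          (D.τ l : MulAut E.core) ⟨a, hay⟩ = ⟨a, hay⟩ := by
        intro a ha hay l
        refine fix_of_central_mod hS hE hZ hpZ hlt D (a := ⟨a, hay⟩) (hAZ ha) (fun x => ?_) l
        set aT : T := Subgroup.inclusion D.hle ⟨a, hay⟩
        have haO : mk (D.ι aT) ∈ Cfsg.pCore p (D.L ⧸ (Z.subgroupOf T).map D.ι) := by
          have hUn : (((D.ι.comp (Subgroup.inclusion D.hle)).range).map mk).Normal := by
            refine Subgroup.Normal.map ⟨?_⟩ _ (QuotientGroup.mk'_surjective _)
            rintro _ ⟨y, rfl⟩ g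
            exact ⟨_, (D.equiv g y).symm⟩
          have hle : ((D.ι.comp (Subgroup.inclusion D.hle)).range).map mk ≤
              Cfsg.pCore p (D.L ⧸ (Z.subgroupOf T).map D.ι) := le_sSup
            ⟨hUn, ((D.isPGroup_range hT).to_le (by rintro _ ⟨y, rfl⟩; exact ⟨_, rfl⟩)).map mk⟩
          exact hle ⟨_, ⟨⟨a, hay⟩, rfl⟩, rfl⟩
        have hmem : mk (D.ι aT) ∈ Cfsg.pCore p _ ⊓ Subgroup.center _ := by
          rw [hC _ P]
          refine ⟨haO, ⟨⟨mk (D.ι aT), (mem_normalizer_liftSub hW2 hT D.model.2.1.1 hU _ hP _).2 ?_⟩,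
            Subgroup.mem_center_iff.2 fun g => Subtype.ext ?_, rfl⟩⟩
          · rw [Subgroup.mem_normalizer_iff]
            intro w
            have hTU : T ≤ Subgroup.normalizer (U : Set Ω) := fun g hg => hinv g
              (Subgroup.le_normalizer hg)
              (stronglyClosed_le_normalizer (isNormal_stronglyClosed hZ) hg)
            constructor
            · rintro ⟨u, hu, rfl⟩
              exact ⟨aT * u * aT⁻¹, (Subgroup.mem_normalizer_iff.1 (hTU aT.2) _).1 hu, by simp⟩
            · rintro ⟨u, hu, huw⟩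
              refine ⟨aT⁻¹ * u * aT, (Subgroup.mem_normalizer_iff''.1 (hTU aT.2) _).1 hu, ?_⟩
              rw [map_mul, map_mul, map_inv, huw]
              simp [mul_assoc]
          · obtain ⟨l, hl⟩ := QuotientGroup.mk'_surjective _ g.1
            have hlU := (mem_normalizer_liftSub hW2 hT D.model.2.1.1 hU _ hP l).1
              (hl.symm ▸ g.2)
            have hfix := centralizerHom_fix
              ((mem_autGroup_iff (D.hle.trans hE.le_S)).1 (hD U hU l hlU)) ha hay
            have he := D.equiv l ⟨a, hay⟩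
            rw [show (D.τ l : MulAut E.core) ⟨a, hay⟩ = ⟨a, hay⟩ from Subtype.ext hfix] at he
            show g.1 * mk (D.ι aT) = mk (D.ι aT) * g.1
            rw [← hl, ← map_mul, ← map_mul]
            exact congrArg mk (mul_inv_eq_iff_eq_mul.1 he)
        exact Subgroup.mem_center_iff.1 hmem.2 x
      intro α hα
      obtain ⟨l, hl⟩ := D.surj ⟨α, hα⟩
      have hYS : E.core ≤ S := D.hle.trans hE.le_S
      have hαE : IsFIso E (α : E.core ≃* E.core) := (mem_autGroup_iff D.hle).1 hα
      refine (mem_autGroup_iff hYS).2 ⟨hE.1 _ hαE, hYS.trans hSA.ge, fun x =>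
        hSA.ge (hE.le_S (map_mem hαE x)),
        (E.core.subtype.comp α.toMonoidHom).comp (Subgroup.inclusion (sup_le le_rfl fun a ha =>
          center_mem_core hE hcl (hAS ha) (hAZ ha))),
        restrict_mem (hE.1 _ hαE) _, fun x => rfl, fun x => ?_⟩
      have hxy : (x : Ω) ∈ E.core := center_mem_core hE hcl (hAS x.2) (hAZ x.2)
      have := key x x.2 hxy l
      rw [hl] at this
      exact congrArg Subtype.val this
    · intro _ U hU P φ hφ
      rw [eq_of_mem_liftSub_bot hS hW2 hU, hVdef] at hφ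
      obtain ⟨ψ, hψ, hag, hfix⟩ := hcN.2 P φ (hN P ▸ hφ)
      exact ⟨hφ.1, hSA.symm ▸ dom_le hφ.1, fun x => hSA.ge (map_mem hφ.1 x), ψ,
        (hN _ ▸ hψ : ψ ∈ F.normalizerHom V _).1, hag, hfix⟩
  · set A := F.center
    have hAV : A ≤ V := fun a ha => hVdef.le ⟨⟨a, hcF.1 ha⟩, hWZ S hS (Subgroup.mem_center_iff.2 fun g =>
      Subtype.ext (Subgroup.mem_centralizer_iff.1 (hZS F A hcF ha) g g.2)), rfl⟩
    refine CfsgLib.FusionQuot.le_center N ⟨(hcF.1).trans hNS.ge, fun P φ hφ => ?_⟩
    rw [hN P] at hφ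
    obtain ⟨hφF, hP, hv, χ, hχ, hag, hVχ⟩ := hφ
    have hle : P ⊔ A ≤ P ⊔ V := sup_le_sup_left hAV P
    have hfix : ∀ a : A, χ (Subgroup.inclusion hle (Subgroup.inclusion le_sup_right a)) = a := by
      intro a
      obtain ⟨χ', -, hag', hfix'⟩ := hcF.2 _ χ hχ
      rw [← hag']
      exact hfix' a
    refine ⟨χ.comp (Subgroup.inclusion hle), ?_, fun x => hag x, hfix⟩
    rw [hN]
    refine ⟨restrict_mem hχ hle, sup_le hP (hcF.1.trans hNS.ge), fun x => hNS.ge (map_mem hχ _),
      χ.comp (Subgroup.inclusion (sup_le hle le_sup_right)), restrict_mem hχ _, fun x => rfl, ?_⟩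
    have : Finite V := finite_of_le hVS
    rw [← range_comp_inclusion le_sup_right]
    refine range_eq_of_le ((hom_inj hχ).comp ((Subgroup.inclusion_injective _).comp
      (Subgroup.inclusion_injective _))) fun x => ?_
    exact mem_of_map_subgroupOf_sup_eq hVχ x

end Cfsg.Agent.S5196
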