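import Cfsg.Statements.S5199
import Cfsg.Agent.Lib.Fusion.Hyperfocal
-- import your own Cfsg.Agent.* helpers here

set_option autoImplicit false
set_option linter.style.haveILetI false
set_option linter.unusedVariables false
open Cfsg

namespace Cfsg.Agent.S5199

open Cfsg.FusionSystem CfsgLib.Fusion

/-- The maps of a system with source and image inside a smaller subgroup. -/
def cutSys {Ω : Type*} [Group Ω] {U : Subgroup Ω} (D : Cfsg.FusionSystem U) (T : Subgroup Ω) (hTU : T ≤ U) :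
    Cfsg.FusionSystem T where
  Hom P := {φ | φ ∈ D.Hom P ∧ P ≤ T ∧ ∀ x : P, φ x ∈ T}
  le_of_mem h := h.2
  injective_of_mem h := D.injective_of_mem h.1
  conj_mem {P g} hP hg := ⟨D.conj_mem (hP.trans hTU) (hTU hg), hP, fun x =>
    T.mul_mem (T.mul_mem hg (hP x.2)) (T.inv_mem hg)⟩
  comp_mem := fun hφ hψ h => ⟨D.comp_mem hφ.1 hψ.1 h, hφ.2.1, fun x => hψ.2.2 _⟩
  inv_mem := by
    rintro P φ ⟨hφ, hP, hv⟩
    obtain ⟨ψ, hψ, hinv⟩ := D.inv_mem hφ
    refine ⟨ψ, ⟨hψ, ?_, ?_⟩, hinv⟩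
    · rintro _ ⟨x, rfl⟩
      exact hv x
    · rintro ⟨_, x, rfl⟩
      rw [hinv x]
      exact hP x.2

/-- Let F be a saturated fusion system over a finite p-group S, E a normal subsystem of F over T, and F₀ a normal subsystem of F over a subgroup U containing both T and the hyperfocal subgroup of F, such that F₀ has p-power index in F. Then E is a subsystem of F₀. -/
theorem result {Ω : Type*} [Group Ω] {S : Subgroup Ω} [Finite S] (p : ℕ) [Fact p.Prime] (hS : IsPGroup p S) (F : Cfsg.FusionSystem S) (hF : F.IsSaturated p) {T U : Subgroup Ω} (E : Cfsg.FusionSystem T) (hE : E.IsNormalIn F p) (F₀ : Cfsg.FusionSystem U) (hF₀ : F₀.IsNormalIn F p) (hU : T ⊔ F.hyperfocalSubgroup p ≤ U) (hidx : F₀.HasPPowerIndexIn F p) : E.IsSubsystemOf F₀ := by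
  have hTU : T ≤ U := le_sup_left.trans hU
  obtain ⟨⟨hEsat, -, hEsub, hTcl, -⟩, -⟩ := hE
  have hTS : T ≤ S := hTcl.1
  haveI : Finite T := finite_of_le hTS
  have hT : IsPGroup p T := hS.to_le hTS
  obtain ⟨-, -, hpow⟩ := hidx
  suffices hle : E ≤ cutSys F₀ T hTU from fun P φ hφ => (hle P hφ).1
  refine alperin hT hEsat _ fun R hR α hα => ?_
  have hn : E.IsFullyNormalized R := by
    rcases hR with rfl | hR
    exacts [isFullyNormalized_top E, hR.2.1]
  have hRT : R ≤ T := hn.1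
  haveI : Finite R := finite_of_le hRT
  haveI : Finite (MulAut R) := finite_mulAut
  obtain ⟨-, W, hW⟩ := isFullyAutomized_of_isFullyNormalized hT hEsat hn
  have hmem : (⟨α, hα⟩ : E.autGroup R) ∈
      (↑(Cfsg.pResidual p (E.autGroup R) ⊔ (W : Subgroup (E.autGroup R))) : Set _) := by
    rw [CfsgLib.Transfer.pResidual_sup_of_sylow W]; trivial
  rw [Subgroup.normal_mul] at hmem
  obtain ⟨β, hβ, t, ht, hβt⟩ := hmem
  have hle : E.autGroup R ≤ F.autGroup R := fun γ hγ =>
    (mem_autGroup_iff_hom (hRT.trans hTS)).2 (hEsub R ((mem_autGroup_iff_hom hRT).1 hγ))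
  have hβ0 : (β : MulAut R) ∈ F₀.autGroup R := by
    refine hpow R (hRT.trans hTU) ⟨Subgroup.inclusion hle β, ?_, rfl⟩
    have hmap : (Cfsg.pResidual p (E.autGroup R)).map (Subgroup.inclusion hle) ≤
        Cfsg.pResidual p (F.autGroup R) := by
      rw [Cfsg.pResidual, MonoidHom.map_closure]
      refine Subgroup.closure_mono ?_
      rintro _ ⟨g, hg, rfl⟩
      show (orderOf (Subgroup.inclusion hle g)).Coprime p
      rw [orderOf_injective _ (Subgroup.inclusion_injective hle)]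
      exact hg
    exact hmap ⟨β, hβ, rfl⟩
  have ht0 : (t : MulAut R) ∈ F₀.autGroup R := by
    have ht' : t ∈ (W : Subgroup (E.autGroup R)) := ht
    rw [hW] at ht'
    obtain ⟨g, hg, hgx⟩ := mem_autInducedBy_iff.1 (ht' : (t : MulAut R) ∈ autInducedBy T R)
    exact autInducedBy_le_autGroup F₀ (hRT.trans hTU)
      (mem_autInducedBy_iff.2 ⟨g, hTU hg, hgx⟩)
  have hα0 : α ∈ F₀.autGroup R := by
    have h2 : α = (β : MulAut R) * (t : MulAut R) := (congrArg Subtype.val hβt).symm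
    rw [h2]
    exact mul_mem hβ0 ht0
  exact (mem_autGroup_iff_hom hRT).2 ⟨(mem_autGroup_iff_hom (hRT.trans hTU)).1 hα0, hRT, fun x => hRT (α x).2⟩


end Cfsg.Agent.S5199
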