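import Cfsg.Statements.S5202
import Cfsg.Agent.Lib.Fusion.Envelope.Main

set_option autoImplicit false
open Cfsg

namespace Cfsg.Agent.S5202

/-- Let F be a saturated fusion system over a finite p-group S and E a normal subsystem of F over T such that Aut_F(T)/Aut_E(T) is p-solvable. Then there is a normal subsystem F₀ of F over T·C_S(T) containing E, with Aut_{F₀}(T) = Aut_E(T), containing every residual limit of F, and whose residual limits have the same maps as those of F. -/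
theorem result {Ω : Type*} [Group Ω] {S : Subgroup Ω} [Finite S] (p : ℕ) [Fact p.Prime] (hS : IsPGroup p S) (F : Cfsg.FusionSystem S) (hF : F.IsSaturated p) {T : Subgroup Ω} (E : Cfsg.FusionSystem T) (hE : E.IsNormalIn F p) [hn : ((E.autGroup T).subgroupOf (F.autGroup T)).Normal] (hsolv : Cfsg.IsPSolvable p (↥(F.autGroup T) ⧸ (E.autGroup T).subgroupOf (F.autGroup T))) : ∃ F₀ : Cfsg.FusionSystem (T ⊔ Cfsg.FusionSystem.centralizerIn S T), F₀.IsNormalIn F p ∧ E.IsSubsystemOf F₀ ∧ F₀.autGroup T = E.autGroup T ∧ ∀ {U : Subgroup Ω} (Finf : Cfsg.FusionSystem U), Finf.IsResidualLimitOf F p → Finf.IsSubsystemOf F₀ ∧ ∀ {V : Subgroup Ω} (L : Cfsg.FusionSystem V), L.IsResidualLimitOf F₀ p → ∀ P : Subgroup Ω, L.Hom P = Finf.Hom P := by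
  obtain ⟨F₀, h₀, hN, hA⟩ := CfsgLib.Fusion.Envelope.exists_envelope hS hF hE.1.1 hE.1.2.2 hsolv
  refine ⟨F₀, hN, h₀.le, hA, fun Finf hFinf => ?_⟩
  have h1 := (h₀.limit Finf).1 hFinf
  refine ⟨CfsgLib.Fusion.Envelope.residualLimit_le h1, fun L hL => ?_⟩
  have hUS : T ⊔ Cfsg.FusionSystem.centralizerIn S T ≤ S :=
    sup_le hE.1.2.2.2.1.1 (CfsgLib.Fusion.centralizerIn_le S T)
  exact (CfsgLib.Fusion.PPowerIndex.residualLimit_unique hL (CfsgLib.Fusion.finite_of_le hUS) inferInstance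
    (hS.to_le hUS) h₀.sat h1).2


end Cfsg.Agent.S5202
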