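import Cfsg.Statements.S5204
import Cfsg.Agent.Lib.FusionControl.InnerStep
import Cfsg.Agent.S0659

set_option autoImplicit false
open Cfsg

namespace Cfsg.Agent.S5204

open Cfsg.FusionSystem CfsgLib.Fusion CfsgLib.FusionControl

universe u

/-- Over an odd prime a saturated system is the inner one iff the normalizer system of Z(J(S)) is. -/
theorem result {Ω : Type*} [Group Ω] {S : Subgroup Ω} [Finite S] (p : ℕ) [Fact p.Prime] (hS : IsPGroup p S) (F : Cfsg.FusionSystem S) (hF : F.IsSaturated p) (hp : p ≠ 2) : (∀ P : Subgroup Ω, F.Hom P = (Cfsg.innerFusionSystem S).Hom P) ↔ ∀ N : Cfsg.FusionSystem (Cfsg.FusionSystem.normalizerIn S (Cfsg.centerThompsonAOf S)), F.IsNormalizerSystem (Cfsg.centerThompsonAOf S) N → ∀ P : Subgroup Ω, N.Hom P = (Cfsg.innerFusionSystem (Cfsg.FusionSystem.normalizerIn S (Cfsg.centerThompsonAOf S))).Hom P := by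
  have hVS : Cfsg.centerThompsonAOf S ≤ S := by
    rw [← zjW_map S]
    exact Subgroup.map_subtype_le _
  have hNS : normalizerIn S (Cfsg.centerThompsonAOf S) = S := by
    refine le_antisymm (normalizerIn_le _ _) (le_inf le_rfl ?_)
    rw [← zjW_map S, zjW, CfsgLib.ZJCenter.zj_map S.subtype_injective, ← MonoidHom.range_eq_map,
      Subgroup.range_subtype]
    exact (Subgroup.le_normalizer).trans (CfsgLib.ZJCenter.normalizer_le_normalizer_zj 0 S)
  constructor
  · intro h N hN P
    refine Set.Subset.antisymm (fun φ hφ => ?_) (inner_le N P)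
    obtain ⟨hP, g, hg, hv⟩ := (h P).subset (hN P ▸ hφ : φ ∈ F.normalizerHom _ P).1
    exact ⟨hP.trans hNS.ge, g, hNS.ge hg, hv⟩
  · intro h
    have hCh := isGoodChoice_liftSub (S := S) hS (W := zjW) zjW_ne_bot zjW_natural
    refine fun P => eq_inner_of_le (control_top hS hF hCh (fun {T} E Z hE hZ hpZ hlt hC hcov _ =>
      hcons_of_step hS hF (inner_isSaturated hS) (inner_le F) hCh
        (fun E Z hE hZ hpZ hlt D hD => innerStep hS zjW_natural hE hZ hpZ hlt D ?_ hD)
        E Z hE hZ hpZ hlt hC hcov) ?_) P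
    · intro H _ _ Q K _ _ hNp
      refine Cfsg.Agent.S0659.result hp Q ?_
      rw [← zjW_map (Q : Subgroup H)]
      exact CfsgLib.NPC.hasNormalPComplement_iff.2
        ⟨⊥, inferInstance, by rw [Subgroup.card_bot]; exact Nat.coprime_one_left _, by rw [Subgroup.index_bot]; exact IsPGroup.iff_card.1 hNp⟩
    · intro _ U hU P φ hφ
      rw [eq_of_mem_liftSub_bot hS zjW_natural hU, zjW_map] at hφ
      obtain ⟨hP, g, hg, hv⟩ := (h (normalizerSystem F _ hVS)
        (isNormalizerSystem_normalizerSystem F _ hVS) P).subset hφ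
      exact ⟨hP.trans (normalizerIn_le _ _), g, normalizerIn_le _ _ hg, hv⟩

end Cfsg.Agent.S5204
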