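import Cfsg.Statements.S5205
import Cfsg.Agent.Lib.FusionControl.NormalStep

set_option autoImplicit false
open Cfsg

namespace Cfsg.Agent.S5205

universe u

/-- Glauberman functors control qd(p)-free saturated systems. -/
theorem result {p : ℕ} [Fact p.Prime] (hp : p ≠ 2) (W : ∀ (Q : Type u) [Group Q], Subgroup Q) (hW1 : ∀ (Q : Type u) [Group Q] [Finite Q], IsPGroup p Q → Nontrivial Q → W Q ≠ ⊥) (hW2 : ∀ (Q R : Type u) [Group Q] [Group R] [Finite Q], IsPGroup p Q → ∀ φ : Q ≃* R, (W Q).map φ.toMonoidHom = W R) (hW3 : ∀ (L : Type u) [Group L] [Finite L] (P : Sylow p L), Subgroup.centralizer ((Cfsg.pCore p L : Subgroup L) : Set L) = Cfsg.pCore p L ⊓ Subgroup.centralizer ((Cfsg.pCore p L : Subgroup L) : Set L) → ¬ Cfsg.Involves ↥(Cfsg.qd p) L → (((W ↥(P : Subgroup L)).map (P : Subgroup L).subtype : Subgroup L)).Normal) {Ω : Type u} [Group Ω] {S : Subgroup Ω} [Finite S] (hS : IsPGroup p S) (F : Cfsg.FusionSystem S) (hF : F.IsSaturated p) (hfree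 : F.IsSectionFree p ↥(Cfsg.qd p)) (N : Cfsg.FusionSystem (Cfsg.FusionSystem.normalizerIn S ((W ↥S).map S.subtype))) (hN : F.IsNormalizerSystem ((W ↥S).map S.subtype) N) : ∀ P : Subgroup Ω, N.Hom P = F.Hom P := by
  intro P
  rw [hN P]
  refine Set.Subset.antisymm (fun φ hφ => hφ.1) ?_
  exact CfsgLib.FusionControl.le_normalizerHom hS hF hW1 hW2 (fun E D H _ _ Q hc hinv =>
    hW3 H Q (le_antisymm (le_inf hc le_rfl) inf_le_right)
      fun h => D.not_involves hfree (hinv h)) P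

end Cfsg.Agent.S5205
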