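import Cfsg.Statements.S5214
import Cfsg.Agent.Lib.SuzukiTwo.Higman
import Cfsg.Agent.Lib.Fusion.Normal

set_option autoImplicit false
open Cfsg

namespace Cfsg.Agent.S5214

open CfsgLib.Fusion

/-- Let S be a Suzuki 2-group (a finite nonabelian 2-group with more than one involution admitting a cyclic group of automorphisms permuting its involutions regularly). Then S is normal in every saturated fusion system over S (such a group is resistant). -/
theorem result {Ω : Type*} [Group Ω] {S : Subgroup Ω} [Finite S] (hS : IsPGroup 2 S) (F : Cfsg.FusionSystem S) (hF : F.IsSaturated 2) (hsz : Cfsg.IsSuzukiTwoGroup ↥S) : F.IsNormal S := by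
  haveI : Fact (Nat.Prime 2) := ⟨Nat.prime_two⟩
  obtain ⟨hfin, hp, hna, h2, K, hcyc, hreg⟩ := hsz
  have hR : CfsgLib.SuzukiTwo.RegularInv K := ⟨hfin, hp, h2, hcyc, hreg⟩
  refine (isNormal_iff_essential hS hF).2 fun P hP => ?_
  by_cases hPne : P = S
  · subst hPne
    refine ⟨le_rfl, fun α _ => ?_⟩
    rw [Subgroup.subgroupOf_self]
    exact Subgroup.map_top_of_surjective _ α.surjective
  replace hP := hP.resolve_left hPne
  exfalso
  have hPS : P ≤ S := hP.1.1
  -- involutions of `S` are central, commutators are involutions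
  have hcen : ∀ x ∈ S, x * x = 1 → ∀ y ∈ S, y * x = x * y := fun x hx hxx y hy =>
    congrArg Subtype.val (Subgroup.mem_center_iff.1
      (CfsgLib.SuzukiTwo.mem_omega_of_sq hR (x := ⟨x, hx⟩) (Subtype.ext hxx)).1 ⟨y, hy⟩)
  have hcomm : ∀ x ∈ S, ∀ y ∈ S, (x * y * x⁻¹ * y⁻¹) * (x * y * x⁻¹ * y⁻¹) = 1 := fun x hx y hy =>
    congrArg Subtype.val (CfsgLib.SuzukiTwo.commutator_mem_omega hR hna ⟨x, hx⟩ ⟨y, hy⟩).2
  obtain ⟨g, ⟨hgS, hgN⟩, hgP⟩ := SetLike.exists_of_lt
    (CfsgLib.Fusion.lt_normalizerIn hS (lt_of_le_of_ne hPS hPne))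
  have : Finite P := finite_of_le hPS
  -- the stabiliser of the series
  let k : Subgroup (MulAut P) :=
    { carrier := {α | (∀ x : P, x * x = 1 → α x = x) ∧ ∀ x : P, (x⁻¹ * α x) * (x⁻¹ * α x) = 1}
      one_mem' := ⟨fun x _ => rfl, fun x => by simp⟩
      mul_mem' := fun {α β} ha hb => ⟨fun x hx => by
          rw [MulAut.mul_apply, hb.1 x hx, ha.1 x hx], fun x => by
          have h1 := hb.2 x
          have h2 := ha.2 x
          have hc : (x⁻¹ * α x) * (x⁻¹ * β x) = (x⁻¹ * β x) * (x⁻¹ * α x) :=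
            Subtype.ext (hcen _ (hPS (x⁻¹ * β x).2) (congrArg Subtype.val h1) _
              (hPS (x⁻¹ * α x).2))
          have h3 : α (β x) = α x * (x⁻¹ * β x) := by
            rw [← ha.1 _ h1, ← map_mul, mul_inv_cancel_left]
          rw [MulAut.mul_apply, h3]
          calc x⁻¹ * (α x * (x⁻¹ * β x)) * (x⁻¹ * (α x * (x⁻¹ * β x)))
              = (x⁻¹ * α x) * ((x⁻¹ * β x) * (x⁻¹ * α x)) * (x⁻¹ * β x) := by group
            _ = (x⁻¹ * α x) * ((x⁻¹ * α x) * (x⁻¹ * β x)) * (x⁻¹ * β x) := by rw [← hc]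
            _ = ((x⁻¹ * α x) * (x⁻¹ * α x)) * ((x⁻¹ * β x) * (x⁻¹ * β x)) := by group
            _ = 1 := by rw [h1, h2, one_mul]⟩
      inv_mem' := fun {α} ha => ⟨fun x hx => α.injective (by
          rw [MulAut.apply_inv_self, ha.1 x hx]), fun x => by
          have h := ha.2 (α⁻¹ x)
          rw [MulAut.apply_inv_self] at h
          have e : x⁻¹ * α⁻¹ x = ((α⁻¹ x)⁻¹ * x)⁻¹ := by group
          rw [e, ← mul_inv_rev, h, inv_one]⟩ }
  set A := F.autGroup P with hA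
  have hkn : (k.subgroupOf A).Normal := ⟨fun α hα β => by
    obtain ⟨h1, h2⟩ := hα
    refine ⟨fun x hx => ?_, fun x => ?_⟩
    · show (β : MulAut P) ((α : MulAut P) ((β : MulAut P)⁻¹ x)) = x
      refine (congrArg (β : MulAut P) (h1 ((β : MulAut P)⁻¹ x) ?_)).trans (MulAut.apply_inv_self _ _ _)
      rw [← map_mul, hx, map_one]
    · show x⁻¹ * (β : MulAut P) ((α : MulAut P) ((β : MulAut P)⁻¹ x)) * _ = 1
      have h := congrArg (β : MulAut P) (h2 ((β : MulAut P)⁻¹ x))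
      rw [map_mul, map_mul, map_one, map_inv, MulAut.apply_inv_self] at h
      exact h⟩
  have hkp : IsPGroup 2 (k.subgroupOf A) := by
    rintro ⟨⟨α, hαA⟩, h1, h2⟩
    refine ⟨1, Subtype.ext (Subtype.ext (MulEquiv.ext fun x => ?_))⟩
    show (α ^ 2 ^ 1) x = x
    have h3 : α x = x * (x⁻¹ * α x) := by rw [mul_inv_cancel_left]
    rw [pow_one, sq, MulAut.mul_apply]
    have h4 : α (x⁻¹ * α x) = x⁻¹ * α x := h1 _ (h2 x)
    have h5 : x⁻¹ * α x * (x⁻¹ * α x) = 1 := h2 x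
    calc α (α x) = α (x * (x⁻¹ * α x)) := by rw [← h3]
      _ = α x * (x⁻¹ * α x) := by rw [map_mul, h4]
      _ = x * (x⁻¹ * α x * (x⁻¹ * α x)) := by group
      _ = x := by rw [h5, mul_one]
  have hgA : conjAut P g hgN ∈ A :=
    autInducedBy_le_autGroup F hPS (conjAut_mem_autInducedBy hgS hgN)
  have hgk : conjAut P g hgN ∈ k := by
    refine ⟨fun x hx => Subtype.ext ?_, fun x => Subtype.ext ?_⟩
    · rw [conjAut_apply, hcen x (hPS x.2) (congrArg Subtype.val hx) g hgS, mul_inv_cancel_right]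
    · show (x : Ω)⁻¹ * (g * x * g⁻¹) * ((x : Ω)⁻¹ * (g * x * g⁻¹)) = 1
      have h := hcomm (x : Ω)⁻¹ (S.inv_mem (hPS x.2)) g hgS
      rw [inv_inv] at h
      simpa only [mul_assoc] using h
  have hcore : (⟨_, hgA⟩ : A) ∈ pCore 2 A := CfsgLib.Solvable.le_pCore hkn hkp hgk
  have hinn : conjAut P g hgN ∈ Cfsg.Inn P :=
    (isRadical_of_isEssential hS hF hP).2 ▸ ⟨_, hcore, rfl⟩
  rw [inn_eq_autInducedBy] at hinn
  obtain ⟨h, hhP, hh⟩ := mem_autInducedBy_iff.1 hinn
  refine hgP ?_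
  have hgh : h⁻¹ * g ∈ Cfsg.FusionSystem.centralizerIn S P := by
    refine ⟨S.mul_mem (S.inv_mem (hPS hhP)) hgS, Subgroup.mem_centralizer_iff.2 fun x hx => ?_⟩
    have e := hh ⟨x, hx⟩
    rw [conjAut_apply] at e
    calc x * (h⁻¹ * g) = h⁻¹ * (h * x * h⁻¹) * g := by group
      _ = h⁻¹ * (g * x * g⁻¹) * g := by rw [e]
      _ = _ := by group
  have := P.mul_mem hhP (hP.1.2 P (IsFIso.refl hPS).isConj hgh)
  simpa using this

end Cfsg.Agent.S5214
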