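import Cfsg.Statements.S5218
import Cfsg.Agent.Lib.FusionControl.AgemoLift
import Cfsg.Agent.Lib.FusionControl.GroupAgemo

set_option autoImplicit false
open Cfsg

namespace Cfsg.Agent.S5218

open Cfsg.FusionSystem CfsgLib.Fusion CfsgLib.FusionControl
open scoped commutatorElement

universe u

/-- A `p`-element acting on `V` with bounded class fixes the `p ^ n`-th powers. -/
theorem fix_pow {H : Type*} [Group H] {p n : ℕ} [Fact p.Prime] {V : Subgroup H} [hVn : V.Normal]
    [IsMulCommutative V] {P : Subgroup H} (hVP : V ≤ P) {a : H} (ha : a ∈ P)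
    (hap : ∀ v ∈ V, Commute (a ^ p) v)
    (hcl : P.lowerCentralSeries (n * (p - 1) + 1) = ⊥) : ∀ v ∈ V, Commute a (v ^ p ^ n) := by
  let _ : CommGroup V :=
    { (inferInstance : Group V) with
      mul_comm := fun x y => Subtype.ext (setLike_mul_comm (s := V) x.2 y.2) }
  let c : V →* V := (MulAut.conjNormal a : MulAut V).toMonoidHom
  let φ : AddMonoid.End (Additive V) := MonoidHom.toAdditive c
  have hφ : ∀ (k : ℕ) (w : Additive V), ((Additive.toMul ((φ ^ k) w) : V) : H) =
      a ^ k * ((Additive.toMul w : V) : H) * (a ^ k)⁻¹ := by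
    intro k
    induction k with
    | zero => intro w; simp
    | succ k ih =>
      intro w
      rw [pow_succ']
      show a * ((Additive.toMul ((φ ^ k) w) : V) : H) * a⁻¹ = _
      rw [ih, pow_succ']
      simp [mul_assoc]
  set x : AddMonoid.End (Additive V) := φ - 1 with hx
  have hxv : ∀ w : Additive V, ((Additive.toMul (x w) : V) : H) = ⁅a, ((Additive.toMul w : V) : H)⁆ := by
    intro w
    have e : x w = φ w - w := rfl
    rw [e, toMul_sub, div_eq_mul_inv, Subgroup.coe_mul, Subgroup.coe_inv, commutatorElement_def]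
    rfl
  have hxk : ∀ (k : ℕ) (w : Additive V),
      ((Additive.toMul ((x ^ k) w) : V) : H) ∈ P.lowerCentralSeries k := by
    intro k
    induction k with
    | zero => intro w; exact hVP (Additive.toMul w).2
    | succ k ih =>
      intro w
      rw [pow_succ', Subgroup.lowerCentralSeries_succ]
      show ((Additive.toMul (x ((x ^ k) w)) : V) : H) ∈ _
      rw [hxv, Subgroup.commutator_comm]
      exact Subgroup.commutator_mem_commutator ha (ih w)
  have hnil : x ^ (n * (p - 1) + 1) = 0 := by
    ext w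
    have := hxk (n * (p - 1) + 1) w
    rw [hcl, Subgroup.mem_bot] at this
    exact this
  have h1 : (1 + x) ^ p = 1 := by
    rw [hx, add_sub_cancel]
    ext w
    refine (hφ p w).trans ?_
    rw [(hap _ (Additive.toMul w).2).eq, mul_inv_cancel_right]
    rfl
  have h2 := pow_mul_eq_zero_of_unipotent h1 hnil
  intro v hv
  have h3 : (p ^ n) • x (Additive.ofMul ⟨v, hv⟩) = 0 := by
    have h4 := congrArg (fun f : AddMonoid.End (Additive V) => f (Additive.ofMul ⟨v, hv⟩)) h2
    rw [← Nat.cast_pow] at h4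
    exact h4
  have h5 : ⁅a, v⁆ ^ p ^ n = 1 := by
    have h6 := congrArg (fun w : Additive V => ((Additive.toMul w : V) : H)) h3
    simp only [toMul_nsmul, Subgroup.coe_pow, hxv, toMul_zero, Subgroup.coe_one] at h6
    exact h6
  have hd : ⁅a, v⁆ ∈ V := V.mul_mem (hVn.conj_mem v hv a) (V.inv_mem hv)
  have hcomm : Commute ⁅a, v⁆ v := setLike_mul_comm (s := V) hd hv
  refine mul_inv_eq_iff_eq_mul.1 ?_
  rw [← conj_pow, show a * v * a⁻¹ = ⁅a, v⁆ * v by rw [commutatorElement_def, inv_mul_cancel_right],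
    hcomm.mul_pow, h5, one_mul]

theorem result {Ω : Type*} [Group Ω] {S : Subgroup Ω} [Finite S] (p : ℕ) [Fact p.Prime] (hS : IsPGroup p S) (F : Cfsg.FusionSystem S) (hF : F.IsSaturated p) (n : ℕ) (hS1 : S ≠ ⊥) (hcl : Subgroup.lowerCentralSeries S (n * (p - 1) + 1) = ⊥) : F.IsNormal (Cfsg.powerClosure p n (S ⊓ Subgroup.centralizer (S : Set Ω))) := by
  set A := Cfsg.powerClosure p n (S ⊓ Subgroup.centralizer (S : Set Ω))
  have hAS : A ≤ S := powerClosure_le.trans inf_le_left
  have hAc : A ≤ Subgroup.centralizer (S : Set Ω) := powerClosure_le.trans inf_le_right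
  have hSA : S ≤ Subgroup.normalizer (A : Set Ω) := fun g hg =>
    CfsgLib.Fusion.centralizer_le_normalizer A (Subgroup.mem_centralizer_iff.2 fun a ha =>
      (Subgroup.mem_centralizer_iff.1 (hAc ha) g hg).symm)
  have hNS : normalizerIn S A = S := normalizerIn_eq_of_le hSA
  have hAfin : Finite A := finite_of_le hAS
  set G := copyOver (normalizerSystem F A hAS) hNS
  have hCh : IsGoodChoice S (fun _ R => {R}) := by
    rintro Z R U hZR - (rfl : U = R)
    exact ⟨hZR, le_rfl, fun g hg _ => hg⟩
  have hFG : F.IsSubsystemOf G := by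
    refine control_centralizer hS hF hAS hAc hCh (fun {T} E Z hE hZ hp hlt hC D => ?_) ?_ ?_
    · have := hE.finite
      have hT := hE.isPGroup hS
      rcases eq_or_lt_of_le D.hle with he | hYT
      · exact Or.inl ⟨T, rfl, (congrArg E.IsNormal he).mp (CfsgLib.FusionQuot.isNormal_core E)⟩
      have hn : ((Z.subgroupOf T).map D.ι).Normal := D.normal_map hZ hlt.le
      set mk := QuotientGroup.mk' ((Z.subgroupOf T).map D.ι)
      set P := D.ι.range.map mk with hP
      set Q := coreImage D Z with hQ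
      have hQn : Q.Normal := coreImage_normal D
      have hQP : Q ≤ P := Subgroup.map_mono (Subgroup.map_le_range _ _)
      obtain ⟨t, htT, htY⟩ := SetLike.exists_of_lt hYT
      have ht : mk (D.ι ⟨t, htT⟩) ∉ Q := by
        rintro ⟨_, ⟨y, hy, rfl⟩, hyt⟩
        obtain ⟨z, hz, hzv⟩ := QuotientGroup.eq.1 hyt
        rw [← map_inv, ← map_mul] at hzv
        have h1 : (z : Ω) = (y : Ω)⁻¹ * t := congrArg Subtype.val (D.model.2.1.1 hzv)
        refine htY ?_
        rw [show t = (y : Ω) * z by rw [h1, mul_inv_cancel_left]]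
        exact mul_mem hy (hlt.le hz)
      have hPp : IsPGroup p P := (D.isPGroup_range hT).map mk
      obtain ⟨j, hj⟩ := hPp ⟨mk (D.ι ⟨t, htT⟩), ⟨_, ⟨_, rfl⟩, rfl⟩⟩
      -- the last power outside `Q`
      have hex : ∃ i, (mk (D.ι ⟨t, htT⟩)) ^ p ^ i ∈ Q := ⟨j, by
        have h1 : (mk (D.ι ⟨t, htT⟩)) ^ p ^ j = 1 := congrArg Subtype.val hj
        rw [h1]; exact Q.one_mem⟩
      classical
      have hi0 : Nat.find hex ≠ 0 := fun h => ht (by simpa [h] using Nat.find_spec hex)
      set a := (mk (D.ι ⟨t, htT⟩)) ^ p ^ (Nat.find hex - 1)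
      have haP : a ∈ P := P.pow_mem ⟨_, ⟨_, rfl⟩, rfl⟩ _
      have haQ : a ∉ Q := Nat.find_min hex (by omega)
      have hapQ : a ^ p ∈ Q := by
        rw [← pow_mul, ← pow_succ, show Nat.find hex - 1 + 1 = Nat.find hex by omega]
        exact Nat.find_spec hex
      have hVc : IsMulCommutative ↥(Q ⊓ Subgroup.centralizer (Q : Set _)) :=
        IsMulCommutative.of_setLike_mul_comm fun x hx y hy =>
          Subgroup.mem_centralizer_iff.1 hy.2 x hx.1
      have hPcl : P.lowerCentralSeries (n * (p - 1) + 1) = ⊥ := by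
        have h1 : ((⊤ : Subgroup T).lowerCentralSeries (n * (p - 1) + 1)) = ⊥ := by
          apply Subgroup.map_injective T.subtype_injective
          rw [Subgroup.top_subtype_lowerCentralSeries, Subgroup.map_bot, eq_bot_iff, ← hcl]
          exact Subgroup.lowerCentralSeries_mono _ hE.le_S
        rw [hP, MonoidHom.range_eq_map, Subgroup.map_map, ← Subgroup.map_lowerCentralSeries, h1,
          Subgroup.map_bot]
      obtain ⟨M, hMn, hMQ, hMfix⟩ := exists_normal_fix (V := Q ⊓ Subgroup.centralizer (Q : Set _))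
        (Q := Q) (P := P) (k := p ^ n) haP haQ
        (fix_pow (inf_le_left.trans hQP) haP
          (fun v hv => Subgroup.mem_centralizer_iff.1 hv.2 _ hapQ) hPcl)
      exact Or.inr (exists_fix_of_quotient hS hE hZ hp hlt hC D n M hMQ fun m hm _ v hv =>
        hMfix m hm v hv)
    · rintro P φ ⟨hφ, hP, hv, ψ, hψ, hag, hfix⟩
      refine ⟨hφ, hP.trans ((centralizerIn_le S A).trans hNS.ge),
        fun x => hNS.ge ((centralizerIn_le S A) (hv x)), ψ, hψ, hag, ?_⟩
      rw [← range_comp_inclusion le_sup_right]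
      exact range_eq_of_le (hom_inj (restrict_mem hψ le_sup_right)) fun a => by
        show ψ (Subgroup.inclusion le_sup_right a) ∈ A
        rw [hfix a]
        exact a.2
    · rintro - U (rfl : U = S) P φ ⟨hφ, hP, hv, ψ, hψ, hag, hUψ⟩
      have hle : P ⊔ A ≤ P ⊔ U := sup_le_sup_left hAS P
      refine ⟨hφ, (dom_le hφ).trans hNS.ge, fun x => hNS.ge (map_mem hφ x),
        ψ.comp (Subgroup.inclusion hle), restrict_mem hψ _, fun x => hag x, ?_⟩
      rw [← range_comp_inclusion le_sup_right]
      refine range_eq_of_le ((hom_inj hψ).comp ((Subgroup.inclusion_injective _).comp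
        (Subgroup.inclusion_injective _))) fun a => ?_
      -- `ψ` is surjective on `S`, so it preserves the centre
      let f : A →* Ω := ψ.comp (Subgroup.inclusion (hAS.trans le_sup_right))
      have hA : A ≤ (A.comap f).map A.subtype := by
        refine (Subgroup.closure_le _).2 ?_
        rintro _ ⟨z, hz, rfl⟩
        refine ⟨⟨z ^ p ^ n, Subgroup.subset_closure ⟨z, hz, rfl⟩⟩, ?_, rfl⟩
        show ψ ⟨z ^ p ^ n, _⟩ ∈ A
        refine Subgroup.subset_closure ⟨ψ ⟨z, le_sup_right (a := P) hz.1⟩, ⟨map_mem hψ _, ?_⟩, ?_⟩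
        · show ψ _ ∈ Subgroup.centralizer _
          refine Subgroup.mem_centralizer_iff.2 fun g hg => ?_
          obtain ⟨g', hg', hgg, rfl⟩ := mem_map_subgroupOf.1 (hUψ.ge hg)
          rw [← map_mul, ← map_mul]
          exact congrArg ψ (Subtype.ext (Subgroup.mem_centralizer_iff.1 hz.2 g' hgg))
        · rw [← map_pow]
          rfl
      obtain ⟨b, hb, hba⟩ := hA a.2
      exact (Subtype.ext hba : b = a) ▸ hb
  exact ⟨hAS, fun P φ hφ => (hFG P hφ).2.2.2⟩

end Cfsg.Agent.S5218
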