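import Cfsg.Statements.S5219
import Cfsg.Agent.S5218

set_option autoImplicit false
open Cfsg

namespace Cfsg.Agent.S5219

open scoped commutatorElement

universe u

/-- Exponents of the upper central factors divide the exponent of the centre. -/
theorem pow_mem_upper {G : Type u} [Group G] {k : ℕ}
    (hk : ∀ z ∈ Subgroup.center G, z ^ k = 1) :
    ∀ i, ∀ x ∈ Subgroup.upperCentralSeries G (i + 1), x ^ k ∈ Subgroup.upperCentralSeries G i := by
  intro i
  induction i with
  | zero =>
    intro x hx
    rw [zero_add, Subgroup.upperCentralSeries_one] at hx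
    rw [hk x hx]
    exact one_mem _
  | succ i ih =>
    intro x hx
    rw [Subgroup.mem_upperCentralSeries_succ_iff]
    intro g
    have hc : ⁅x, g⁆ ∈ Subgroup.upperCentralSeries G (i + 1) :=
      Subgroup.mem_upperCentralSeries_succ_iff.1 hx g
    set mk := QuotientGroup.mk' (Subgroup.upperCentralSeries G i)
    have hcen : ∀ q, Commute (mk ⁅x, g⁆) q := by
      intro q
      obtain ⟨y, rfl⟩ := QuotientGroup.mk'_surjective _ q
      have h1 : mk ⁅⁅x, g⁆, y⁆ = 1 :=
        (QuotientGroup.eq_one_iff _).2 (Subgroup.mem_upperCentralSeries_succ_iff.1 hc y)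
      rw [map_commutatorElement] at h1
      exact commutatorElement_eq_one_iff_mul_comm.1 h1
    have hck : (mk ⁅x, g⁆) ^ k = 1 := by
      rw [← map_pow]
      exact (QuotientGroup.eq_one_iff _).2 (ih _ hc)
    have h2 : (mk g * mk x * (mk g)⁻¹) ^ k = (mk x) ^ k := by
      have h3 : mk g * mk x * (mk g)⁻¹ = (mk ⁅x, g⁆)⁻¹ * mk x := by
        rw [map_commutatorElement, commutatorElement_def]; simp [mul_assoc]
      rw [h3, (hcen (mk x)).inv_left.mul_pow, inv_pow, hck, inv_one, one_mul]
    refine (QuotientGroup.eq_one_iff (N := Subgroup.upperCentralSeries G i) _).1 ?_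
    show mk ⁅x ^ k, g⁆ = 1
    rw [map_commutatorElement, map_pow, commutatorElement_eq_one_iff_mul_comm]
    rw [conj_pow] at h2
    exact (mul_inv_eq_iff_eq_mul.1 h2).symm

/-- Exponent bound for a saturated system with trivial largest normal subgroup. -/
theorem result {Ω : Type*} [Group Ω] {S : Subgroup Ω} [Finite S] (p : ℕ) [Fact p.Prime] (hS : IsPGroup p S) (F : Cfsg.FusionSystem S) (hF : F.IsSaturated p) (n : ℕ) (hS1 : S ≠ ⊥) (hcl : Subgroup.lowerCentralSeries S (n * (p - 1) + 1) = ⊥) (hcore : F.core = ⊥) : Monoid.exponent ↥S ∣ p ^ (n ^ 2 * (p - 1) + n) := by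
  have hW := CfsgLib.FusionQuot.le_core F (Cfsg.Agent.S5218.result p hS F hF n hS1 hcl)
  rw [hcore] at hW
  have hk : ∀ z ∈ Subgroup.center S, z ^ p ^ n = 1 := fun z hz => by
    refine Subtype.ext (Subgroup.mem_bot.1 (hW (Subgroup.subset_closure ⟨(z : Ω), ⟨z.2,
      Subgroup.mem_centralizer_iff.2 fun g hg => ?_⟩, rfl⟩)))
    exact congrArg Subtype.val (Subgroup.mem_center_iff.1 hz ⟨g, hg⟩)
  have htop : Subgroup.upperCentralSeries S (n * (p - 1) + 1) = ⊤ := by
    rw [← Subgroup.lowerCentralSeries_eq_bot_iff_upperCentralSeries_eq_top]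
    apply Subgroup.map_injective S.subtype_injective
    rw [Subgroup.top_subtype_lowerCentralSeries, Subgroup.map_bot, hcl]
  have main : ∀ i, ∀ x ∈ Subgroup.upperCentralSeries S i, x ^ (p ^ n) ^ i = 1 := by
    intro i
    induction i with
    | zero => intro x hx; simpa using hx
    | succ i ih =>
      intro x hx
      rw [pow_succ', pow_mul]
      exact ih _ (pow_mem_upper hk i x hx)
  refine Monoid.exponent_dvd_of_forall_pow_eq_one fun x => ?_
  have h1 := main _ x (htop.ge (Subgroup.mem_top x))
  rwa [← pow_mul, show n * (n * (p - 1) + 1) = n ^ 2 * (p - 1) + n by ring] at h1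

end Cfsg.Agent.S5219
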