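import Cfsg.Statements.S5221
import Cfsg.Agent.Lib.FusionControl.ThompsonStep

set_option autoImplicit false
open Cfsg

namespace Cfsg.Agent.S5221

open Cfsg.FusionSystem CfsgLib.Fusion CfsgLib.FusionControl

/-- A sparse system is constrained. -/
theorem result {Ω : Type*} [Group Ω] {S : Subgroup Ω} [Finite S] (p : ℕ) [Fact p.Prime] (hS : IsPGroup p S) (F : Cfsg.FusionSystem S) (hF : F.IsSaturated p) (hsp : ¬ (∀ P : Subgroup Ω, F.Hom P = (Cfsg.innerFusionSystem S).Hom P) ∧ ∀ E : Cfsg.FusionSystem S, E.IsSaturated p → E.IsSubsystemOf F → (∀ P : Subgroup Ω, E.Hom P = F.Hom P) ∨ (∀ P : Subgroup Ω, E.Hom P = (Cfsg.innerFusionSystem S).Hom P)) (hp : p ≠ 2 ∨ F.IsSectionFree p (Equiv.Perm (Fin 4))) : F.IsConstrained p := by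
  set Y := F.core with hYdef
  have hY : F.IsNormal Y := CfsgLib.FusionQuot.isNormal_core F
  have hSY : S ≤ Subgroup.normalizer (Y : Set Ω) :=
    stronglyClosed_le_normalizer (isNormal_stronglyClosed hY)
  -- the system of a normalized subgroup outside the core is inner
  have hdich : ∀ U : Subgroup Ω, U ≤ S → S ≤ Subgroup.normalizer (U : Set Ω) → ¬ U ≤ Y →
      ∀ P, F.normalizerHom U P ⊆ (Cfsg.innerFusionSystem S).Hom P := by
    intro U hUS hSU hUY
    have hNS := normalizerIn_eq_of_le hSU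
    have hfn := isFullyNormalized_of_le_normalizer (E := F) hUS hSU
    have hloc := isLocal_normalizerSystem hS (isLocal_self hF) hfn
      (le_inf hY.1 (hY.1.trans hSU))
    obtain ⟨N, hNsat, hN⟩ : ∃ N : Cfsg.FusionSystem S,
        N.IsSaturated p ∧ ∀ P, N.Hom P = F.normalizerHom U P := by
      have h : ∃ N : Cfsg.FusionSystem (normalizerIn S U),
          N.IsSaturated p ∧ ∀ P, N.Hom P = F.normalizerHom U P :=
        ⟨normalizerSystem F U hUS, hloc.2.1, fun _ => rfl⟩
      rwa [hNS] at h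
    rcases hsp.2 N hNsat (fun P φ hφ => ((hN P) ▸ hφ : φ ∈ F.normalizerHom U P).1) with h | h
    · refine absurd (CfsgLib.FusionQuot.le_core F ⟨hUS, fun P φ hφ => ?_⟩) hUY
      rw [← h, hN] at hφ
      exact hφ.2.2.2
    · exact fun P φ hφ => h P ▸ ((hN P).symm ▸ hφ)
  by_contra hcon
  have hC : ¬ centralizerIn S Y ≤ Y := by
    refine fun hC => hcon ⟨hF, Y, hY, hY.1, fun Q hQ => ?_⟩
    rw [isConj_normal_eq hY hQ]
    exact hC
  set U0 := Y ⊔ centralizerIn S Y with hU0
  have hU0S : U0 ≤ S := sup_le hY.1 inf_le_left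
  have hSU0 : S ≤ Subgroup.normalizer (U0 : Set Ω) := fun s hs =>
    mem_normalizer_sup (hSY hs)
      (mem_normalizer_inf (Subgroup.le_normalizer hs) (mem_normalizer_centralizer (hSY hs)))
  have hYfn := isFullyNormalized_of_le_normalizer (E := F) hY.1 hSY
  have hrec := isReceptive_of_isFullyNormalized hS hF hYfn
  have hpY : IsPGroup p (F.autGroup Y) := by
    refine (isPGroup_autInducedBy hS Y).to_le fun α hα => ?_
    set φ := Y.subtype.comp α.toMonoidHom with hφdef
    have hφ : φ ∈ F.Hom Y := (mem_autGroup_iff_hom hY.1).1 hα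
    have hr : φ.range = Y := by
      ext y
      exact ⟨fun ⟨x, hx⟩ => hx ▸ (α x).2, fun hy => ⟨α.symm ⟨y, hy⟩, by simp [hφdef]⟩⟩
    obtain ⟨ψ, hψ, hag⟩ := hrec.2 Y φ hφ hr
    have hYe : Y ≤ extender S Y φ := fun y hy => Subgroup.subset_closure
      ⟨hY.1 hy, Subgroup.le_normalizer hy, φ ⟨y, hy⟩, hY.1 (α _).2, fun x hx => by
        rw [← map_inv, ← map_mul, ← map_mul]
        rfl⟩
    have hCe : centralizerIn S Y ≤ extender S Y φ := fun c hc => Subgroup.subset_closure
      ⟨hc.1, CfsgLib.Fusion.centralizer_le_normalizer _ hc.2, 1, S.one_mem, fun x hx => by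
        rw [one_mul, inv_one, mul_one]
        congr 1
        refine Subtype.ext ?_
        show c * (x : Ω) * c⁻¹ = x
        rw [← Subgroup.mem_centralizer_iff.1 hc.2 x x.2, mul_inv_cancel_right]⟩
    set χ := ψ.comp (Subgroup.inclusion (sup_le hYe hCe)) with hχdef
    have hχ : χ ∈ F.Hom U0 := restrict_mem hψ _
    have hχY : ∀ y : Y, χ (Subgroup.inclusion le_sup_left y) = α y := fun y => hag y y.2 _
    have hmem : ∀ x, χ x ∈ U0 := forall_mem_of_sup
      (fun y => by rw [hχY]; exact le_sup_left (b := centralizerIn S Y) (α y).2)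
      (fun c => le_sup_right (a := Y) ⟨map_mem hχ _, Subgroup.mem_centralizer_iff.2 fun y hy => by
        obtain ⟨y', rfl⟩ : ∃ y' : Y, ((α y' : Y) : Ω) = y := ⟨α.symm ⟨y, hy⟩, by simp⟩
        rw [← hχY, ← map_mul, ← map_mul]
        congr 1
        exact Subtype.ext (Subgroup.mem_centralizer_iff.1 c.2.2 y' y'.2)⟩)
    have hχN : χ ∈ F.normalizerHom U0 U0 := by
      refine ⟨hχ, le_inf hU0S (hU0S.trans hSU0), fun x => ⟨map_mem hχ x, hSU0 (map_mem hχ x)⟩,
        χ.comp (Subgroup.inclusion (sup_le le_rfl le_rfl)), restrict_mem hχ _, fun x => rfl, ?_⟩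
      have : Finite U0 := finite_of_le hU0S
      rw [← range_comp_inclusion le_sup_right]
      exact range_eq_of_le (hom_inj (restrict_mem (restrict_mem hχ _) le_sup_right))
        fun x => hmem _
    obtain ⟨-, g, hg, hgv⟩ := hdich U0 hU0S hSU0 (fun h => hC (le_sup_right.trans h)) U0 hχN
    exact mem_autInducedBy_iff.2 ⟨g, hg, fun y => (hχY y).symm.trans (hgv _)⟩
  refine hsp.1 fun P => eq_inner_of_le (control (E := F) hS (isGoodChoice_jcChoice hS True)
    (fun E Z hE hZ hpZ hlt hCT hcov _ => hcons_thompson hS hF hp True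
      (fun hn => absurd trivial hn) E Z hE hZ hpZ hlt hCT hcov)
    (isLocal_self hF) hY hpY ?_) P
  intro hlt U hU
  obtain ⟨hYU, hUS, hUn⟩ := isGoodChoice_jcChoice hS True Y S U hlt le_rfl hU
  exact hdich U hUS (fun s hs => hUn s (Subgroup.le_normalizer hs) (hSY hs)) hYU.not_ge

end Cfsg.Agent.S5221
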