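import Cfsg.Statements.S5222
import Cfsg.Agent.Lib.Fusion.TateNormalizer

set_option autoImplicit false
open Cfsg

namespace Cfsg.Agent.S5222

/-- Let F be a saturated fusion system over a finite p-group S whose normalizer fusion system of S is the inner fusion system of S (Aut_F(S) is a p-group). Then for every subgroup Q of S with [S, S] ≤ Q ≤ Φ(S), the normalizer fusion system of Q in F is the inner fusion system of N_S(Q) = S. -/
theorem result {Ω : Type*} [Group Ω] {S : Subgroup Ω} [Finite S] (p : ℕ) [Fact p.Prime] (hS : IsPGroup p S) (F : Cfsg.FusionSystem S) (hF : F.IsSaturated p) (hN : ∀ N : Cfsg.FusionSystem (Cfsg.FusionSystem.normalizerIn S S), F.IsNormalizerSystem S N → ∀ P : Subgroup Ω, N.Hom P = (Cfsg.innerFusionSystem (Cfsg.FusionSystem.normalizerIn S S)).Hom P) (Q : Subgroup Ω) (h1 : (commutator ↥S).map S.subtype ≤ Q) (h2 : Q ≤ (frattini ↥S).map S.subtype) : ∀ N : Cfsg.FusionSystem (Cfsg.FusionSystem.normalizerIn S Q), F.IsNormalizerSystem Q N → ∀ P : Subgroup Ω, N.Hom P = (Cfsg.innerFusionSystem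 (Cfsg.FusionSystem.normalizerIn S Q)).Hom P := by
  intro N hN' P
  have h1' : ⁅S, S⁆ ≤ Q := Subgroup.map_subtype_commutator S ▸ h1
  have hQS : Q ≤ S := h2.trans (Subgroup.map_subtype_le _)
  have hQn : S ≤ Subgroup.normalizer (Q : Set Ω) := by
    have key : ∀ a ∈ S, ∀ m ∈ Q, a * m * a⁻¹ ∈ Q := fun a ha m hm => by
      have h := Q.mul_mem (h1' (Subgroup.commutator_mem_commutator ha (hQS hm))) hm
      simpa [commutatorElement_def, mul_assoc] using h
    exact fun s hs => Subgroup.mem_normalizer_iff.2 fun m => ⟨key s hs m, fun h => by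
      simpa [mul_assoc] using key s⁻¹ (S.inv_mem hs) _ h⟩
  have heq : Cfsg.FusionSystem.normalizerIn S Q = S := inf_eq_left.2 hQn
  have hfn : F.IsFullyNormalized Q := ⟨hQS, fun R _ => by
    rw [heq]; exact Nat.card_le_card_of_injective _
      (Subgroup.inclusion_injective (inf_le_left : Cfsg.FusionSystem.normalizerIn S R ≤ S))⟩
  set N₁ := CfsgLib.Fusion.copyOver N heq with hN₁
  have hsat : N₁.IsSaturated p := by
    have h := CfsgLib.Fusion.isSaturated_normalizerSystem hS hF hfn hN'
    have key : ∀ {T : Subgroup Ω} (N : Cfsg.FusionSystem T) (he : T = S),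
        N.IsSaturated p → (CfsgLib.Fusion.copyOver N he).IsSaturated p := by
      rintro T N rfl h
      exact h
    exact key N heq h
  have hnor : N₁.IsNormal Q := by
    have h := CfsgLib.FusionModelSub.isNormal_normalizerSystem hQS hN'
    exact ⟨hQS, h.2⟩
  have hinn : N₁.autGroup S ≤ Cfsg.Inn S := by
    intro α hα
    have hαN := (CfsgLib.Fusion.mem_autGroup_iff_hom le_rfl).1 hα
    change _ ∈ N.Hom S at hαN
    rw [hN' S] at hαN
    have hαF := (CfsgLib.Fusion.mem_autGroup_iff_hom le_rfl).2 hαN.1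
    have hSn : S ≤ Cfsg.FusionSystem.normalizerIn S S := le_inf le_rfl Subgroup.le_normalizer
    have h0 := CfsgLib.Fusion.mem_normalizerHom_of_aut (F := F) (Q := S) le_rfl hSn hαF (by
      ext x
      constructor
      · intro _
        exact Subgroup.mem_subgroupOf.2 x.2
      · intro _
        exact ⟨α.symm x, Subgroup.mem_subgroupOf.2 (α.symm x).2, α.apply_symm_apply x⟩)
    have h := hN (CfsgLib.Fusion.normalizerSystem F S le_rfl)
      (CfsgLib.Fusion.isNormalizerSystem_normalizerSystem F S le_rfl) S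
    rw [show (CfsgLib.Fusion.normalizerSystem F S le_rfl).Hom S = F.normalizerHom S S from rfl] at h
    rw [h] at h0
    obtain ⟨-, g, hg, hv⟩ := h0
    exact ⟨⟨g, inf_le_left (b := Subgroup.normalizer (S : Set Ω)) hg⟩,
      MulEquiv.ext fun x => Subtype.ext (hv x).symm⟩
  have := CfsgLib.Fusion.Tate.eq_inner_of_normal hS hsat hnor h1' h2 hinn P
  calc N.Hom P = N₁.Hom P := rfl
    _ = (Cfsg.innerFusionSystem S).Hom P := this
    _ = _ := congrArg (fun T => (Cfsg.innerFusionSystem T).Hom P) heq.symm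

end Cfsg.Agent.S5222
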