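import Cfsg.Statements.S5223
import Cfsg.Agent.Lib.Fusion.Normal
import Cfsg.Agent.Lib.Fusion.Stability

set_option autoImplicit false
open Cfsg Cfsg.FusionSystem CfsgLib.Fusion CfsgLib.Fusion.Stability

namespace Cfsg.Agent.S5223

theorem result {Ω : Type*} [Group Ω] {S : Subgroup Ω} [Finite S] (p : ℕ) [Fact p.Prime] (hS : IsPGroup p S) (F : Cfsg.FusionSystem S) (hF : F.IsSaturated p) (n : ℕ) (Q : Fin (n + 1) → Subgroup Ω) (hQ0 : Q 0 = S) (hQn : Q (Fin.last n) = ⊥) (hstep : ∀ i : Fin n, Subgroup.closure {y : Ω | ∃ x ∈ Q i.castSucc, ∃ φ ∈ F.Hom (Subgroup.zpowers x), y = x⁻¹ * φ ⟨x, Subgroup.mem_zpowers x⟩} ≤ Q i.succ) : ∀ P : Subgroup Ω, F.Hom P = (Cfsg.innerFusionSystem S).Hom P := by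
  suffices h : F = innerFusionSystem S from fun P => by rw [h]
  refine eq_inner_of_isPGroup hS hF fun P hPS => ?_
  have : Finite P := finite_of_le hPS
  have : Finite (MulAut P) := finite_mulAut
  refine isPGroup_of_coprime_eq_one fun α hα => Subtype.ext (MulEquiv.ext fun x => ?_)
  have hord : (orderOf (α : MulAut P)).Coprime p := by rw [Subgroup.orderOf_coe]; exact hα
  refine eq_self_of_series (isPGroup_of_le hS hPS) _ hord
    (fun i => (Q ⟨min i n, by omega⟩).subgroupOf P) n ?_ ?_ 0 (Nat.zero_le n) x ?_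
  · show (Q ⟨min n n, _⟩).subgroupOf P = ⊥
    rw [show (⟨min n n, by omega⟩ : Fin (n + 1)) = Fin.last n from Fin.ext (min_self n), hQn,
      Subgroup.bot_subgroupOf]
  · intro i hi y hy
    have e1 : (⟨min i n, by omega⟩ : Fin (n + 1)) = (⟨i, hi⟩ : Fin n).castSucc :=
      Fin.ext (min_eq_left hi.le)
    have e2 : (⟨min (i + 1) n, by omega⟩ : Fin (n + 1)) = (⟨i, hi⟩ : Fin n).succ :=
      Fin.ext (min_eq_left hi)
    show _ ∈ Q _
    rw [e2]
    have hy' : (y : Ω) ∈ Q (⟨i, hi⟩ : Fin n).castSucc := e1 ▸ hy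
    refine hstep ⟨i, hi⟩ (Subgroup.subset_closure ⟨y, hy', _, restrict_mem
      ((mem_autGroup_iff_hom hPS).1 α.2) (show Subgroup.zpowers (y : Ω) ≤ P from
        Subgroup.zpowers_le.2 y.2), ?_⟩)
    simp
    rfl
  · show (x : Ω) ∈ Q ⟨min 0 n, _⟩
    rw [show (⟨min 0 n, by omega⟩ : Fin (n + 1)) = 0 from Fin.ext (Nat.zero_min n), hQ0]
    exact hPS x.2

end Cfsg.Agent.S5223
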