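import Cfsg.Statements.S5226
import Cfsg.Agent.Lib.Fusion.CentricSeries
import Mathlib.GroupTheory.Nilpotent
import Mathlib.GroupTheory.Commutator.Basic

set_option autoImplicit false
open Cfsg Cfsg.FusionSystem CfsgLib.Fusion CfsgLib.Fusion.Stability CfsgLib.FusionSeries
open scoped commutatorElement

namespace Cfsg.Agent.S5226

theorem result {Ω : Type*} [Group Ω] {S : Subgroup Ω} [Finite S] (p : ℕ) [Fact p.Prime] (hS : IsPGroup p S) (F : Cfsg.FusionSystem S) (hF : F.IsSaturated p) (Q : Subgroup Ω) : F.IsNormal Q ↔ F.StronglyClosed Q ∧ ∃ (n : ℕ) (C : Fin (n + 1) → Subgroup Ω), C 0 = ⊥ ∧ C (Fin.last n) = Q ∧ Monotone C ∧ (∀ i : Fin n, ⁅C i.succ, Q⁆ ≤ C i.castSucc) ∧ ∀ i : Fin n, F.WeaklyClosed (C i.castSucc) := by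
  constructor
  · intro hQ
    refine ⟨isNormal_stronglyClosed hQ, ?_⟩
    have : Finite Q := finite_of_le hQ.1
    obtain ⟨n, hn⟩ : ∃ n, Subgroup.upperCentralSeries Q n = ⊤ :=
      ((isPGroup_of_le hS hQ.1).isNilpotent).nilpotent
    refine ⟨n, fun i => (Subgroup.upperCentralSeries Q (i : ℕ)).map Q.subtype, by simp,
      by simp [hn, ← MonoidHom.range_eq_map], ?_, ?_, ?_⟩
    · intro i j hij
      exact Subgroup.map_mono (Subgroup.upperCentralSeries_mono Q hij)
    · intro i
      rw [Subgroup.commutator_le]
      rintro _ ⟨x, hx, rfl⟩ y hy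
      refine ⟨⁅x, (⟨y, hy⟩ : Q)⁆, ?_, rfl⟩
      exact (Subgroup.mem_upperCentralSeries_succ_iff (G := Q) (n := (i : ℕ))).1 (by simpa using hx) ⟨y, hy⟩
    · intro i
      set U := Subgroup.upperCentralSeries Q (i.castSucc : ℕ)
      have hUc : ((U.map Q.subtype).subgroupOf Q).Characteristic := by
        rw [show (U.map Q.subtype).subgroupOf Q = U from
          Subgroup.comap_map_eq_self_of_injective Q.subtype_injective U]
        infer_instance
      have hnor := isNormal_of_characteristic hQ (Subgroup.map_subtype_le U) hUc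
      refine ⟨hnor.1, fun φ hφ => ?_⟩
      have : Finite ↥(U.map Q.subtype) := finite_of_le hnor.1
      refine range_eq_of_le (hom_inj hφ) fun x => ?_
      exact (isNormal_stronglyClosed hnor).2 _ le_rfl φ hφ x
  · rintro ⟨hsc, n, C, hC0, hCn, hmono, hcomm, hwc⟩
    refine (isNormal_iff_centric_radical hS hF).2 ⟨hsc, fun P hPc hPr => ?_⟩
    have hPS := hPc.1
    have hQn := stronglyClosed_le_normalizer hsc
    have hle : ∀ i : Fin (n + 1), C i ≤ Q := fun i => hCn ▸ hmono (Fin.le_last i)
    suffices h : ∀ i : Fin (n + 1), C i ≤ P from hCn ▸ h (Fin.last n)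
    intro i
    induction i using Fin.induction with
    | zero => rw [hC0]; exact bot_le
    | succ i ih =>
      -- every earlier term lies in `P` and is invariant
      have hearly : ∀ j : Fin (n + 1), j ≤ i.castSucc → InvIn F P (C j) := by
        intro j hj
        have hjn : (j : ℕ) < n := lt_of_le_of_lt hj i.2
        have e : j = (⟨j, hjn⟩ : Fin n).castSucc := rfl
        rw [e]
        exact invIn_of_weaklyClosed hPS (hwc _) ((hmono (e ▸ hj)).trans ih)
      set L : Fin (i.val + 2) → Subgroup Ω := fun j =>
        if (j : ℕ) = 0 then P else if (j : ℕ) = 1 then Q else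
          C ⟨i.val - ((j : ℕ) - 2), by omega⟩
      set K : Fin (i.val + 2) → Subgroup Ω := fun j =>
        if (j : ℕ) = 0 then Q else C ⟨i.val - ((j : ℕ) - 1), by omega⟩
      have hLinv : ∀ j, InvIn F P (L j) := by
        intro j
        simp only [L]
        split_ifs
        · exact invIn_top_source
        · exact invIn_of_stronglyClosed hPS hsc
        · exact hearly _ (Fin.mk_le_mk.2 (Nat.sub_le _ _))
      have hKinv : ∀ j, InvIn F P (K j) := by
        intro j
        simp only [K]
        split_ifs
        · exact invIn_of_stronglyClosed hPS hsc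
        · exact hearly _ (Fin.mk_le_mk.2 (Nat.sub_le _ _))
      have key : ∀ g ∈ C i.succ, g ∈ Subgroup.normalizer (P : Set Ω) → g ∈ P := by
        intro g hg hgN
        have hgQ : g ∈ Q := hle _ hg
        refine mem_of_seriesStab hPc hPr L K hLinv hKinv ?_ (hsc.1 hgQ) hgN fun j => ?_
        · intro α hα hord hd
          refine MulEquiv.ext fun x => ?_
          have : Finite P := finite_of_le hPS
          refine eq_self_of_series (isPGroup_of_le hS hPS) α hord
            (fun j => if h : j < i.val + 2 then (L ⟨j, h⟩).subgroupOf P else ⊥) (i.val + 2) (by simp)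
            ?_ 0 (Nat.zero_le _) x ?_
          · intro j hj y hy
            rw [dif_pos hj] at hy
            have h1 := hd ⟨j, hj⟩ y hy
            by_cases hj' : j + 1 < i.val + 2
            · rw [dif_pos hj']
              show ((y⁻¹ * α y : P) : Ω) ∈ L ⟨j + 1, hj'⟩
              simp only [L, K] at h1 ⊢
              rcases Nat.eq_zero_or_pos j with rfl | hjpos
              · simpa using h1
              · rw [if_neg (by omega : ¬ j = 0)] at h1
                rw [if_neg (by omega : ¬ j + 1 = 0), if_neg (by omega : ¬ j + 1 = 1)]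
                rwa [show (⟨i.val - (j + 1 - 2), by omega⟩ : Fin (n + 1)) = ⟨i.val - (j - 1), by omega⟩ from
                  Fin.ext (by show _ - _ = _ - _; omega)]
            · rw [dif_neg hj']
              simp only [K] at h1
              rw [if_neg (by omega : ¬ j = 0), show (⟨i.val - (j - 1), by omega⟩ : Fin (n + 1)) = 0 from
                Fin.ext (by show _ - _ = 0; omega), hC0, Subgroup.mem_bot] at h1
              rw [Subgroup.mem_bot]
              exact Subtype.ext h1
          · rw [dif_pos (by omega : 0 < i.val + 2)]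
            show (x : Ω) ∈ L ⟨0, _⟩
            simp [L]
        · refine dispIn_conjAut hgN fun x hxP hxL => ?_
          by_cases hj0 : (j : ℕ) = 0
          · simp only [K, if_pos hj0]
            have h1 : x⁻¹ * g * x ∈ Q := (Subgroup.mem_normalizer_iff''.1 (hQn (hPS hxP)) g).1 hgQ
            have := Q.mul_mem h1 (Q.inv_mem hgQ)
            simpa [mul_assoc] using this
          · simp only [K, if_neg hj0]
            by_cases hj1 : (j : ℕ) = 1
            · simp only [L, if_neg hj0, if_pos hj1] at hxL
              have := hcomm i (Subgroup.commutator_mem_commutator hg (Q.inv_mem hxL))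
              rw [show (⟨i.val - ((j : ℕ) - 1), by omega⟩ : Fin (n + 1)) = i.castSucc from
                Fin.ext (by show _ - _ = i.val; omega)]
              have h2 : (⁅g, x⁻¹⁆)⁻¹ = x⁻¹ * (g * x * g⁻¹) := by
                simp [commutatorElement_def, mul_assoc]
              exact h2 ▸ inv_mem this
            · simp only [L, if_neg hj0, if_neg hj1] at hxL
              have hjlt := j.2
              have hidx : i.val - ((j : ℕ) - 1) < n := by omega
              have hxL' : x ∈ C (⟨i.val - ((j : ℕ) - 1), hidx⟩ : Fin n).succ := by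
                rwa [show (⟨i.val - ((j : ℕ) - 1), hidx⟩ : Fin n).succ =
                  ⟨i.val - ((j : ℕ) - 2), by omega⟩ from Fin.ext (by simp only [Fin.val_succ]; omega)]
              have := hcomm _ (Subgroup.commutator_mem_commutator (Subgroup.inv_mem _ hxL') hgQ)
              have h2 : ⁅x⁻¹, g⁆ = x⁻¹ * (g * x * g⁻¹) := by
                simp [commutatorElement_def, mul_assoc]
              rw [← h2]
              exact this
      have hCn' : S ≤ Subgroup.normalizer ((C i.succ : Subgroup Ω) : Set Ω) := by
        by_cases hlast : (i : ℕ) + 1 < n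
        · have e : i.succ = (⟨(i : ℕ) + 1, hlast⟩ : Fin n).castSucc := rfl
          have hw := hwc ⟨(i : ℕ) + 1, hlast⟩
          rw [← e] at hw
          intro s hs
          have : Finite ↥(C i.succ) := finite_of_le hw.1
          have hsi : ∀ t ∈ S, ∀ x ∈ C i.succ, t * x * t⁻¹ ∈ C i.succ := fun t ht x hx =>
            (hw.2 _ (F.conj_mem hw.1 ht)).le ⟨⟨x, hx⟩, rfl⟩
          refine Subgroup.mem_normalizer_iff.2 fun x => ⟨hsi s hs x, fun hx => ?_⟩
          have := hsi s⁻¹ (S.inv_mem hs) _ hx
          simpa [mul_assoc] using this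
        · rw [show i.succ = Fin.last n from Fin.ext (by have := i.2; show (i : ℕ) + 1 = n; omega), hCn]
          exact hQn
      exact le_of_normalizer_inf_le hS hPS ((hle _).trans hsc.1) hCn' key

end Cfsg.Agent.S5226
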