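import Cfsg.Statements.S5236
import Cfsg.Agent.S0120
import Cfsg.Agent.Lib.Fusion.CentricSeries
import Mathlib.GroupTheory.Nilpotent
import Mathlib.GroupTheory.Commutator.Basic

set_option autoImplicit false
open Cfsg Cfsg.FusionSystem CfsgLib.Fusion CfsgLib.Fusion.Stability CfsgLib.FusionSeries
open scoped commutatorElement

namespace Cfsg.Agent.S5236

theorem result {Ω : Type*} [Group Ω] {S : Subgroup Ω} [Finite S] (p : ℕ) [Fact p.Prime] (hS : IsPGroup p S) (F : Cfsg.FusionSystem S) (hF : F.IsSaturated p) (hp : p ≠ 2) (P : Subgroup Ω) (hP : F.StronglyClosed P) : F.IsNormal P ↔ ∃ (n : ℕ) (Q : Fin (n + 1) → Subgroup Ω), Q 0 = ⊥ ∧ Q (Fin.last n) = Cfsg.omegaOne p P ∧ Monotone Q ∧ (∀ i : Fin (n + 1), F.StronglyClosed (Q i)) ∧ ∀ i : Fin n, ⁅Q i.succ, P⁆ ≤ Q i.castSucc := by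
  constructor
  · intro hN
    have : Finite P := finite_of_le hP.1
    obtain ⟨n, hn⟩ : ∃ n, Subgroup.upperCentralSeries P n = ⊤ :=
      ((isPGroup_of_le hS hP.1).isNilpotent).nilpotent
    set Om : Subgroup P := Subgroup.closure {x : P | x ^ p = 1}
    have hOchar : Om.Characteristic := by
      rw [Subgroup.characteristic_iff_map_le]
      intro φ
      rw [MonoidHom.map_closure]
      refine Subgroup.closure_mono ?_
      rintro _ ⟨x, hx, rfl⟩
      show φ x ^ p = 1
      rw [← map_pow, hx, map_one]
    have hO : Cfsg.omegaOne p P = Om.map P.subtype := by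
      rw [MonoidHom.map_closure]
      refine congrArg Subgroup.closure (Set.ext fun y => ⟨fun ⟨hy, hyp⟩ => ?_, ?_⟩)
      · exact ⟨⟨y, hy⟩, Subtype.ext hyp, rfl⟩
      · rintro ⟨x, hx, rfl⟩
        exact ⟨x.2, congrArg Subtype.val hx⟩
    refine ⟨n, fun i => (Subgroup.upperCentralSeries P (i : ℕ) ⊓ Om).map P.subtype, by simp,
      by simp [hn, hO], ?_, ?_, ?_⟩
    · intro i j hij
      exact Subgroup.map_mono (inf_le_inf_right _ (Subgroup.upperCentralSeries_mono P hij))
    · intro i
      refine isNormal_stronglyClosed (isNormal_of_characteristic hN (Subgroup.map_subtype_le _) ?_)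
      rw [show ((Subgroup.upperCentralSeries P (i : ℕ) ⊓ Om).map P.subtype).subgroupOf P =
        Subgroup.upperCentralSeries P (i : ℕ) ⊓ Om from
        Subgroup.comap_map_eq_self_of_injective P.subtype_injective _]
      rw [Subgroup.characteristic_iff_comap_eq]
      intro φ
      rw [Subgroup.comap_inf, Subgroup.characteristic_iff_comap_eq.1 inferInstance φ,
        Subgroup.characteristic_iff_comap_eq.1 hOchar φ]
    · intro i
      rw [Subgroup.commutator_le]
      rintro _ ⟨x, ⟨hxZ, hxO⟩, rfl⟩ y hy
      refine ⟨⁅x, (⟨y, hy⟩ : P)⁆, ⟨?_, ?_⟩, rfl⟩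
      · exact (Subgroup.mem_upperCentralSeries_succ_iff (G := P) (n := (i : ℕ))).1
          (by simpa using hxZ) ⟨y, hy⟩
      · have : Om.Normal := inferInstance
        have h1 := this.conj_mem _ (Om.inv_mem hxO) ⟨y, hy⟩
        have := Om.mul_mem hxO h1
        simpa [commutatorElement_def, mul_assoc] using this
  · rintro ⟨n, Q, hQ0, hQn, hmono, hsc, hcomm⟩
    refine (isNormal_iff_centric_radical hS hF).2 ⟨hP, fun R hRc hRr => ?_⟩
    have hRS := hRc.1
    have hPn := stronglyClosed_le_normalizer hP
    have hQP : ∀ j, Q j ≤ P := fun j =>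
      (hmono (Fin.le_last j)).trans (hQn.le.trans ((Subgroup.closure_le _).2 fun x hx => hx.1))
    refine le_of_normalizer_inf_le hS hRS hP.1 hPn fun g hg hgN => ?_
    set L : Fin (n + 1) → Subgroup Ω := Fin.cases R fun j => Q j.succ
    set K : Fin (n + 1) → Subgroup Ω := Fin.cases P fun j => Q j.castSucc
    refine mem_of_seriesStab hRc hRr L K ?_ ?_ ?_ (hP.1 hg) hgN fun j => ?_
    · intro j
      induction j using Fin.cases with
      | zero => exact invIn_top_source
      | succ j => exact invIn_of_stronglyClosed hRS (hsc _)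
    · intro j
      induction j using Fin.cases with
      | zero => exact invIn_of_stronglyClosed hRS hP
      | succ j => exact invIn_of_stronglyClosed hRS (hsc _)
    · intro α hα hord hd
      have : Finite R := finite_of_le hRS
      have hRp := isPGroup_of_le hS hRS
      -- fixed on the omega part
      have hfix : ∀ j : Fin (n + 1), ∀ x : R, (x : Ω) ∈ Q j → α x = x := by
        intro j
        induction j using Fin.induction with
        | zero =>
          intro x hx
          rw [hQ0, Subgroup.mem_bot] at hx
          rw [show x = 1 from Subtype.ext hx, map_one]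
        | succ j ih =>
          intro x hx
          exact eq_self_of_disp_fixed hRp α hord (ih _ (hd j.succ x hx))
      -- trivial on `P ⊓ R`
      set T : Subgroup R := P.subgroupOf R
      have hT : ∀ x : R, x ∈ T ↔ α x ∈ T := by
        intro x
        constructor
        · exact fun hx => aut_mem hP hRS hα hx
        · intro hx
          have := aut_mem hP hRS (inv_mem hα) (x := α x) hx
          rwa [MulAut.inv_apply_self] at this
      set β : MulAut T :=
        { toFun := fun x => ⟨α x, (hT x).1 x.2⟩
          invFun := fun x => ⟨α⁻¹ x, (hT _).2 (by rw [MulAut.apply_inv_self]; exact x.2)⟩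
          left_inv := fun x => Subtype.ext (α.symm_apply_apply x)
          right_inv := fun x => Subtype.ext (α.apply_symm_apply x)
          map_mul' := fun x y => Subtype.ext (map_mul α _ _) }
      have hβ1 : β = 1 := by
        refine Cfsg.Agent.S0120.result hp (hRp.to_subgroup T) β ?_ ?_
        · refine Nat.Coprime.coprime_dvd_left (orderOf_dvd_of_pow_eq_one ?_) hord
          have hpow : ∀ (m : ℕ) (x : T), (((β ^ m) x : T) : R) = (α ^ m) x := by
            intro m
            induction m with
            | zero => intro x; rfl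
            | succ m ih => intro x; rw [pow_succ', pow_succ', MulAut.mul_apply, MulAut.mul_apply, ← ih]; rfl
          exact MulEquiv.ext fun x => Subtype.ext (by rw [hpow, pow_orderOf_eq_one]; rfl)
        · intro x hx
          refine Subtype.ext (hfix (Fin.last n) x ?_)
          rw [hQn]
          refine Subgroup.subset_closure ⟨x.2, ?_⟩
          simpa using congrArg (fun t : T => ((t : R) : Ω)) hx
      refine MulEquiv.ext fun x => eq_self_of_disp_fixed hRp α hord ?_
      have hxT : x⁻¹ * α x ∈ T := hd 0 x x.2
      exact congrArg (fun t : MulAut T => ((t ⟨_, hxT⟩ : T) : R)) hβ1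
    · induction j using Fin.cases with
      | zero =>
        refine dispIn_conjAut hgN fun x hxR _ => ?_
        have h1 : x⁻¹ * g * x ∈ P := (Subgroup.mem_normalizer_iff''.1 (hPn (hRS hxR)) g).1 hg
        have := P.mul_mem h1 (P.inv_mem hg)
        simpa [K, mul_assoc] using this
      | succ j =>
        refine dispIn_conjAut hgN fun x _ hxL => ?_
        have := hcomm j (Subgroup.commutator_mem_commutator (Subgroup.inv_mem _ hxL) hg)
        simpa [K, commutatorElement_def, mul_assoc] using this

end Cfsg.Agent.S5236
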