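import Cfsg.Statements.S5238
import Cfsg.Agent.S4143
import Cfsg.Agent.Lib.PGroup.MaximalClass
import Cfsg.Agent.Lib.PGroup.MaximalClassPowers
import Cfsg.Agent.Lib.Fusion.Basic
import Mathlib.GroupTheory.Frattini

set_option autoImplicit false
open Cfsg

namespace Cfsg.Agent.S5238

open Subgroup in
/-- Modulo a subgroup of index at most `p ^ k`, a `p`-group is generated by `k` elements. -/
theorem exists_generators {X : Type*} [Group X] [Finite X] {p : ℕ} [Fact p.Prime] (hX : IsPGroup p X) :
    ∀ (k : ℕ) (K : Subgroup X), K.index ≤ p ^ k → ∃ T : Finset X, T.card ≤ k ∧ K ⊔ closure (T : Set X) = ⊤ := by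
  classical
  intro k
  induction k with
  | zero =>
    intro K hK
    refine ⟨∅, le_rfl, ?_⟩
    have h0 := index_ne_zero_of_finite (H := K)
    have h1 : K = ⊤ := index_eq_one.1 (by rw [pow_zero] at hK; omega)
    rw [h1, top_sup_eq]
  | succ k ih =>
    intro K hK
    by_cases hKt : K = ⊤
    · exact ⟨∅, Nat.zero_le _, by rw [hKt, top_sup_eq]⟩
    obtain ⟨x, -, hx⟩ := SetLike.exists_of_lt (lt_top_iff_ne_top.2 hKt)
    set L := K ⊔ zpowers x
    have hKL : K ≤ L := le_sup_left
    have hrel : p ≤ K.relIndex L := by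
      obtain ⟨j, hj⟩ := (hX.to_subgroup L).index (K.subgroupOf L)
      have hne : K.relIndex L ≠ 1 := fun h => hx ((relIndex_eq_one.1 h) (mem_sup_right (mem_zpowers x)))
      rw [relIndex, hj] at hne ⊢
      exact Nat.le_self_pow (fun h0 => hne (by rw [h0, pow_zero])) p
    have hL : L.index ≤ p ^ k := by
      have h1 := relIndex_mul_index hKL
      have h2 : p * L.index ≤ p * p ^ k := by
        rw [← pow_succ']
        exact (Nat.mul_le_mul_right _ hrel).trans (h1.le.trans hK)
      exact Nat.le_of_mul_le_mul_left h2 (Fact.out : p.Prime).pos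
    obtain ⟨T, hT, hTop⟩ := ih L hL
    refine ⟨insert x T, (Finset.card_insert_le _ _).trans (by omega), ?_⟩
    rw [Finset.coe_insert, Set.insert_eq, Subgroup.closure_union, ← zpowers_eq_closure, ← sup_assoc, ← hTop]


/-- Let p be an odd prime and F a saturated fusion system over a finite p-group S having a pearl: an F-essential subgroup E that is elementary abelian of order p² or nonabelian of order p³. Then S has maximal nilpotency class (if S has order pⁿ with n ≥ 3, the term of index n − 2 of its lower central series, counting S itself as the term of index 0, is nontrivial), and every subgroup of S can be generated by at most p elements (the sectional rank of S is at most p). -/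
theorem result {Ω : Type*} [Group Ω] {S : Subgroup Ω} [Finite S] (p : ℕ) [Fact p.Prime] (hS : IsPGroup p S) (F : Cfsg.FusionSystem S) (hF : F.IsSaturated p) (hp : p ≠ 2) (E : Subgroup Ω) (hE : F.IsEssential p E) (hpearl : (Nat.card E = p ^ 2 ∧ ∀ x ∈ E, x ^ p = 1 ∧ IsMulCommutative ↥E) ∨ (Nat.card E = p ^ 3 ∧ ¬ IsMulCommutative ↥E)) : (∀ n : ℕ, Nat.card S = p ^ n → 3 ≤ n → Subgroup.lowerCentralSeries S (n - 2) ≠ ⊥) ∧ ∀ H : Subgroup Ω, H ≤ S → ∃ T : Finset Ω, T.card ≤ p ∧ Subgroup.closure (T : Set Ω) = H := by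
  classical
  have hpp : p.Prime := Fact.out
  have hES : E ≤ S := hE.1.1
  have hCE : Cfsg.FusionSystem.centralizerIn S E ≤ E := hE.1.2 E (CfsgLib.Fusion.isConj_refl F hES)
  obtain ⟨N, hN⟩ := IsPGroup.iff_card.1 hS
  set B : Subgroup S := E.subgroupOf S
  have hBcard : Nat.card B = Nat.card E := Nat.card_congr (Subgroup.subgroupOfEquivOfLe hES).toEquiv
  have hCB : Subgroup.centralizer (B : Set S) ≤ B := fun x hx =>
    hCE ⟨x.2, Subgroup.mem_centralizer_iff.2 fun e he =>
      congrArg Subtype.val (Subgroup.mem_centralizer_iff.1 hx ⟨e, hES he⟩ he)⟩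
  have hN2 : 2 ≤ N := by
    have h1 := B.card_subgroup_dvd_card
    rcases hpearl with ⟨h, -⟩ | ⟨h, -⟩ <;> rw [hBcard, h, hN, Nat.pow_dvd_pow_iff_le_right hpp.one_lt] at h1 <;> omega
  have hclass : Group.nilpotencyClass S = N - 1 := by
    rcases hpearl with ⟨h, -⟩ | ⟨h, hna⟩
    · refine CfsgLib.PGroup.MaxClass.class_of_self_centralizing N S hN B (hBcard.trans h) (le_antisymm hCB ?_)
      have : IsMulCommutative B := IsPGroup.isMulCommutative_of_card_eq_prime_sq (hBcard.trans h)
      exact Subgroup.le_centralizer B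
    · refine Cfsg.Agent.S4143.result N hN B (hBcard.trans h) (fun hc => hna ?_) hCB
      exact ⟨⟨fun a b => (Subgroup.subgroupOfEquivOfLe hES).symm.injective (by
        rw [map_mul, map_mul]
        exact hc.is_comm.comm _ _)⟩⟩
  have : Group.IsNilpotent S := hS.isNilpotent
  refine ⟨fun n hn h3 hbot => ?_, fun H hH => ?_⟩
  · obtain rfl : N = n := Nat.pow_right_injective hpp.two_le (hN.symm.trans hn)
    have h1 : (⊤ : Subgroup S).lowerCentralSeries (N - 2) = ⊥ := by
      rw [← Subgroup.top_subtype_lowerCentralSeries] at hbot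
      exact (Subgroup.map_eq_bot_iff_of_injective _ S.subtype_injective).1 hbot
    rw [Subgroup.lowerCentralSeries_eq_bot_iff_nilpotencyClass_le, hclass] at h1
    omega
  · set H' : Subgroup S := H.subgroupOf S
    have hH'p : IsPGroup p H' := hS.to_subgroup H'
    have hpow := CfsgLib.PGroup.MaxClassPowers.relIndex_pow_le N hN2 hN hclass H'
    have hle : (Subgroup.closure {y : S | ∃ h ∈ H', y = h ^ p}).subgroupOf H' ≤ frattini H' := by
      have : Subgroup.closure {y : S | ∃ h ∈ H', y = h ^ p} ≤ (frattini H').map H'.subtype := by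
        rw [Subgroup.closure_le]
        rintro _ ⟨h, hh, rfl⟩
        exact ⟨(⟨h, hh⟩ : H') ^ p, CfsgLib.PGroup.pow_mem_frattini hH'p _, rfl⟩
      intro x hx
      obtain ⟨y, hy, hyx⟩ := this hx
      exact (Subtype.ext hyx : y = x) ▸ hy
    obtain ⟨T, hT, hTop⟩ := exists_generators hH'p p (frattini H')
      ((Nat.le_of_dvd (Nat.pos_of_ne_zero Subgroup.index_ne_zero_of_finite) (Subgroup.index_dvd_of_le hle)).trans hpow)
    have hgen : Subgroup.closure (T : Set H') = ⊤ := frattini_nongenerating (by rw [sup_comm]; exact hTop)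
    refine ⟨T.image (fun x : H' => ((x : S) : Ω)), Finset.card_image_le.trans hT, ?_⟩
    have h1 := congrArg (Subgroup.map (S.subtype.comp H'.subtype)) hgen
    rw [MonoidHom.map_closure, ← MonoidHom.range_eq_map, MonoidHom.range_comp, H'.range_subtype,
      Subgroup.map_subgroupOf_eq_of_le hH] at h1
    rw [Finset.coe_image]
    exact h1

end Cfsg.Agent.S5238
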