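import Cfsg.Statements.S5239
import Cfsg.Agent.Lib.PGroup.MaximalClassThree
import Cfsg.Agent.S5238
import Cfsg.Agent.Lib.FusionIndexP.SmallCenter

set_option autoImplicit false
open Cfsg
open scoped IsMulCommutative

namespace Cfsg.Agent.S5239

open CfsgLib.FusionIndexP in
/-- In order 27 a pearl of order 9 forces exponent 3. -/
theorem extraspecial_of_card {Ω : Type*} [Group Ω] {S : Subgroup Ω} [Finite S] [Fact (Nat.Prime 3)]
    (hS : IsPGroup 3 S) (F : Cfsg.FusionSystem S) (hF : F.IsSaturated 3) (E : Subgroup Ω)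
    (hE : F.IsEssential 3 E) (hEc : Nat.card E = 9) (hEx : ∀ x ∈ E, x ^ 3 = 1)
    (h27 : Nat.card S = 27) :
    Cfsg.IsExtraspecial 3 ↥S ∧ Monoid.exponent ↥S = 3 := by
  have h27' : Nat.card S = 3 ^ 3 := h27.trans (by norm_num)
  have hES : E ≤ S := hE.1.1
  have : Finite E := CfsgLib.Fusion.finite_of_le hES
  have hCE := CfsgLib.Fusion.centralizerIn_le_of_isCentric hE.1
  obtain ⟨hlt, -, -⟩ := exists_outer_of_isEssential hS hF hE
  have hna : ¬ IsMulCommutative S := fun hc => not_le_of_gt hlt fun s hs =>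
    hCE (CfsgLib.Fusion.mem_centralizerIn.2 ⟨hs, Subgroup.mem_centralizer_iff.2 fun y hy =>
      congrArg Subtype.val (hc.is_comm.comm (⟨y, hES hy⟩ : S) ⟨s, hs⟩)⟩)
  have hcen : Nat.card (Subgroup.center S) = 3 := by
    obtain ⟨k, hk, hk'⟩ := (Nat.dvd_prime_pow Nat.prime_three).1
      (h27' ▸ (Subgroup.center S).card_subgroup_dvd_card)
    have hmul := (Subgroup.center S).card_mul_index
    rw [hk', h27'] at hmul
    have : Nontrivial S := Finite.one_lt_card_iff_nontrivial.1 (by rw [h27]; norm_num)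
    have hk0 : k ≠ 0 := by
      rintro rfl
      have := hS.center_nontrivial
      have := Finite.one_lt_card_iff_nontrivial.2 this
      rw [hk'] at this
      norm_num at this
    rcases (by omega : k = 1 ∨ k = 2 ∨ k = 3) with rfl | rfl | rfl
    · simpa using hk'
    · exfalso
      have hq : Nat.card (S ⧸ Subgroup.center S) = 3 := by
        rw [← Subgroup.index_eq_card]; norm_num at hmul ⊢; omega
      have := isCyclic_of_prime_card hq
      exact hna (isMulCommutative_of_isCyclic_quotient_center_self S)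
    · exact absurd (Subgroup.center_eq_top_iff.1 (Subgroup.eq_top_of_card_eq _ (by rw [hk', h27']))) hna
  have hi : (Subgroup.center S).index = 3 ^ 2 := by
    have hmul := (Subgroup.center S).card_mul_index
    rw [hcen, h27] at hmul
    omega
  obtain ⟨hZE, hEcomm, hZi, hEi, hEn⟩ := essential_of_index_sq hS hF hi hE
  haveI := hEcomm
  obtain ⟨W, l, l₁, hsp, -, -⟩ := exists_split_of_essential hS hF hE hZE hZi
    (fun g hg z hz => (mem_centerIn.1 hz).2 g hg.1) hEn
  -- the automorphism inverting `E`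
  obtain ⟨τ, hτ, -, hτl, hτl₁⟩ := hsp.exists_neg
  have hZ'card : Nat.card ((centerIn S).subgroupOf E) = 3 := by
    rw [Nat.card_congr (Subgroup.subgroupOfEquivOfLe hZE).toEquiv, centerIn_eq_map,
      Subgroup.card_map_of_injective S.subtype_injective, hcen]
  have hinv : ∀ x : E, τ x = x⁻¹ := by
    let I : Subgroup E := MonoidHom.eqLocus τ.toMonoidHom (MulEquiv.inv E).toMonoidHom
    have hl : Subgroup.zpowers l ≤ I := Subgroup.zpowers_le.2 hτl
    have hZl : (centerIn S).subgroupOf E ≤ Subgroup.zpowers l := by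
      refine le_of_eq (Subgroup.eq_of_le_of_card_ge (Subgroup.zpowers_le.2 hsp.l_mem) ?_).symm
      rw [hZ'card, Nat.card_zpowers, orderOf_eq_prime hsp.l_pow hsp.l_ne_one]
    have htop : (⊤ : Subgroup E) ≤ I :=
      hsp.sup_top ▸ sup_le (hZl.trans hl) (Subgroup.zpowers_le.2 hτl₁)
    exact fun x => htop (Subgroup.mem_top x)
  -- it extends to `S`
  set φ : E →* Ω := E.subtype.comp τ.toMonoidHom with hφ
  have hφmem : φ ∈ F.Hom E := (CfsgLib.Fusion.mem_autGroup_iff_hom hES).1 hτ
  obtain ⟨ψ, hψ, hag⟩ := (CfsgLib.Fusion.isReceptive_of_isFullyNormalized hS hF hE.2.1).2 E φ hφmem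
    (CfsgLib.Fusion.range_subtype_comp τ)
  have hnorm : ∀ g ∈ S, g ∈ Subgroup.normalizer (E : Set Ω) := by
    intro g hg
    have hn : (E.subgroupOf S).Normal := Subgroup.normal_of_index_eq_minFac_card (by
      rw [show (E.subgroupOf S).index = 3 from hEi, h27]; norm_num)
    refine Subgroup.mem_normalizer_iff.2 fun x => ⟨fun hx => ?_, fun hx => ?_⟩
    · exact hn.conj_mem ⟨x, hES hx⟩ hx ⟨g, hg⟩
    · have hxS : x ∈ S := by
        have := S.mul_mem (S.mul_mem (S.inv_mem hg) (hES hx)) hg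
        simpa [mul_assoc] using this
      have := hn.conj_mem ⟨g * x * g⁻¹, hES hx⟩ hx ⟨g, hg⟩⁻¹
      have h2 : g⁻¹ * (g * x * g⁻¹) * g⁻¹⁻¹ ∈ E := this
      simpa [mul_assoc] using h2
  have hext : S ≤ Cfsg.FusionSystem.extender S E φ := by
    intro g hg
    refine Subgroup.subset_closure ⟨hg, hnorm g hg, g, hg, fun x hx => ?_⟩
    show ((τ ⟨g * x * g⁻¹, hx⟩ : E) : Ω) = g * (τ x : Ω) * g⁻¹
    rw [hinv, hinv]
    show (g * (x : Ω) * g⁻¹)⁻¹ = g * (x : Ω)⁻¹ * g⁻¹
    group
  set σ : S →* Ω := ψ.comp (Subgroup.inclusion hext) with hσ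
  have hσF : σ ∈ F.Hom S := CfsgLib.Fusion.restrict_mem hψ hext
  have hσE : ∀ (x : Ω) (hx : x ∈ E), σ ⟨x, hES hx⟩ = x⁻¹ := by
    intro x hx
    have := hag x hx (hext (hES hx))
    show ψ ⟨x, hext (hES hx)⟩ = x⁻¹
    rw [this, hφ]
    show ((τ ⟨x, hx⟩ : E) : Ω) = x⁻¹
    rw [hinv]
    rfl
  have hpow : ∀ g : S, g ^ 3 = 1 := by
    intro g
    set t := σ g with ht
    have htS : t ∈ S := CfsgLib.Fusion.map_mem hσF g
    set u := (g : Ω)⁻¹ * t with hu
    have huC : u ∈ Cfsg.FusionSystem.centralizerIn S E := by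
      refine CfsgLib.Fusion.mem_centralizerIn.2 ⟨S.mul_mem (S.inv_mem g.2) htS,
        Subgroup.mem_centralizer_iff.2 fun x hx => ?_⟩
      have hconj : (g : Ω) * x * (g : Ω)⁻¹ ∈ E := (Subgroup.mem_normalizer_iff.1 (hnorm g g.2) x).1 hx
      have h1 : σ ⟨_, hES hconj⟩ = t * x⁻¹ * t⁻¹ := by
        rw [show (⟨_, hES hconj⟩ : S) = g * ⟨x, hES hx⟩ * g⁻¹ from rfl, map_mul, map_mul, map_inv,
          hσE x hx]
      rw [hσE _ hconj] at h1
      have h2 : t * x * t⁻¹ = g * x * (g : Ω)⁻¹ := by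
        have := congrArg (·⁻¹) h1
        simp only [inv_inv] at this
        rw [this]; group
      calc x * u = (g : Ω)⁻¹ * (g * x * (g : Ω)⁻¹) * t := by rw [hu]; group
        _ = (g : Ω)⁻¹ * (t * x * t⁻¹) * t := by rw [h2]
        _ = u * x := by rw [hu]; group
    have huE : u ∈ E := hCE huC
    set c := u⁻¹ * ((g : Ω)⁻¹ * u * g) with hc
    have hcZ : c ∈ centerIn S := by
      have := comm_mem_center_of_index_sq hi (S.inv_mem g.2) (hES huE)
      rwa [inv_inv] at this
    have hcc : ∀ y ∈ S, y * c = c * y := (mem_centerIn.1 hcZ).2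
    have hg3 : (g : Ω) ^ 3 ∈ E := by
      have := pow_mem_center_of_index_sq hi g
      have h2 := mem_centerIn_coe.2 this
      rw [Subgroup.coe_pow] at h2
      exact hZE h2
    have ht3 : t ^ 3 = ((g : Ω) ^ 3)⁻¹ := by
      rw [ht, ← map_pow, show g ^ 3 = ⟨(g : Ω) ^ 3, hES hg3⟩ from rfl, hσE _ hg3]
    have hgu : t ^ 3 = (g : Ω) ^ 3 := by
      have e0 : t = g * u := by rw [hu, mul_inv_cancel_left]
      have e1 : u * g = g * (u * c) := by rw [hc]; group
      have hug : u * c = c * u := hcc u (hES huE)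
      have hgc : (g : Ω) * c = c * g := hcc g g.2
      calc t ^ 3 = g * (u * g) * (u * g) * u := by rw [e0]; simp only [pow_succ, pow_zero, one_mul]; group
        _ = g * (g * (u * c)) * (g * (u * c)) * u := by rw [e1]
        _ = g * g * (u * (c * g)) * u * c * u := by group
        _ = g * g * (u * g) * c * u * c * u := by rw [← hgc]; group
        _ = g * g * (g * (u * c)) * c * u * c * u := by rw [e1]
        _ = g * g * g * ((u * c) * (c * u) * (c * u)) := by group
        _ = (g : Ω) ^ 3 := by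
          rw [← hug, show (u * c) * (u * c) * (u * c) = (u * c) ^ 3 by simp [pow_succ],
            (show Commute u c from hug).mul_pow, hEx u huE, hEx c (hZE hcZ)]
          simp [pow_succ]
    rw [hgu] at ht3
    have h6 : (g : Ω) ^ 6 = 1 := by
      rw [show 6 = 3 + 3 by norm_num, pow_add]
      nth_rewrite 1 [ht3]
      exact inv_mul_cancel _
    have h9 : (g : Ω) ^ 9 = 1 := by
      rw [show 9 = 3 * 3 by norm_num, pow_mul]; exact hEx _ hg3
    refine Subtype.ext ?_
    rw [Subgroup.coe_pow, Subgroup.coe_one]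
    calc (g : Ω) ^ 3 = (g : Ω) ^ 3 * (g : Ω) ^ 6 := by rw [h6, mul_one]
      _ = 1 := by rw [← pow_add]; exact h9
  have hcomm3 := card_commutator_of_index_sq hi
  have hceq : commutator S = Subgroup.center S :=
    Subgroup.eq_of_le_of_card_ge (commutator_le_center_of_index_sq hi) (by rw [hcen, hcomm3])
  refine ⟨⟨⟨hS, frattini_eq_center_of_index_sq hS hi hceq.ge, hceq⟩, hcen⟩, ?_⟩
  have : Nontrivial S := Finite.one_lt_card_iff_nontrivial.1 (by rw [h27]; norm_num)
  exact (Monoid.exponent_eq_prime_iff Nat.prime_three).2 fun g hg =>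
    orderOf_eq_prime (hpow g) hg

/-- Let F be a saturated fusion system over a finite 3-group S having a pearl: an F-essential subgroup E that is elementary abelian of order 9 or nonabelian of order 27. Then either S is extraspecial of order 27 and exponent 3, or S has order at least 81 and every subgroup of S can be generated by at most two elements, or S is isomorphic to the wreath product C₃ ≀ C₃ (a Sylow 3-subgroup of the symmetric group of degree 9). -/
theorem result {Ω : Type*} [Group Ω] {S : Subgroup Ω} [Finite S] (hS : IsPGroup 3 S) (F : Cfsg.FusionSystem S) (hF : F.IsSaturated 3) [Fact (Nat.Prime 3)] (E : Subgroup Ω) (hE : F.IsEssential 3 E) (hpearl : (Nat.card E = 9 ∧ ∀ x ∈ E, x ^ 3 = 1 ∧ IsMulCommutative ↥E) ∨ (Nat.card E = 27 ∧ ¬ IsMulCommutative ↥E)) : (Cfsg.IsExtraspecial 3 ↥S ∧ Nat.card S = 27 ∧ Monoid.exponent ↥S = 3) ∨ (81 ≤ Nat.card S ∧ ∀ H : Subgroup Ω, H ≤ S → ∃ T : Finset Ω, T.card ≤ 2 ∧ Subgroup.closure (T : Set Ω) = H) ∨ (∃ W : Sylow 3 (Equiv.Perm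 (Fin 9)), Nonempty (↥S ≃* ↥(W : Subgroup (Equiv.Perm (Fin 9))))) := by
  classical
  have hES : E ≤ S := hE.1.1
  have hCE : Cfsg.FusionSystem.centralizerIn S E ≤ E :=
    CfsgLib.Fusion.centralizerIn_le_of_isCentric hE.1
  obtain ⟨hlt, -, -⟩ := CfsgLib.FusionIndexP.exists_outer_of_isEssential hS hF hE
  have : Finite E := CfsgLib.Fusion.finite_of_le hES
  obtain ⟨N, hN⟩ := IsPGroup.iff_card.1 hS
  set B : Subgroup S := E.subgroupOf S
  have hBcard : Nat.card B = Nat.card E := Nat.card_congr (Subgroup.subgroupOfEquivOfLe hES).toEquiv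
  have hBlt : Nat.card E < Nat.card S :=
    lt_of_le_of_ne (Subgroup.card_le_of_le hES) fun e =>
      hlt.ne (Subgroup.eq_of_le_of_card_ge hES e.ge)
  have hCB : Subgroup.centralizer (B : Set S) ≤ B := fun x hx =>
    hCE ⟨x.2, Subgroup.mem_centralizer_iff.2 fun e he =>
      congrArg Subtype.val (Subgroup.mem_centralizer_iff.1 hx ⟨e, hES he⟩ he)⟩
  have hN3 : 3 ≤ N := by
    rcases hpearl with ⟨h, -⟩ | ⟨h, -⟩ <;> rw [h, hN] at hBlt
    · by_contra hh
      have := Nat.pow_le_pow_right (show 0 < 3 by norm_num) (show N ≤ 2 by omega)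
      omega
    · by_contra hh
      have := Nat.pow_le_pow_right (show 0 < 3 by norm_num) (show N ≤ 2 by omega)
      omega
  rcases (by omega : N = 3 ∨ 4 ≤ N) with rfl | h4
  · left
    have h27 : Nat.card S = 27 := by rw [hN]; norm_num
    rcases hpearl with ⟨h, hx⟩ | ⟨h, -⟩
    · obtain ⟨h1, h2⟩ := extraspecial_of_card hS F hF E hE h (fun x hx' => (hx x hx').1) h27
      exact ⟨h1, h27, h2⟩
    · rw [h, h27] at hBlt
      exact absurd hBlt (lt_irrefl _)
  have hclass : Group.nilpotencyClass S = N - 1 := by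
    rcases hpearl with ⟨h, -⟩ | ⟨h, hna⟩
    · refine CfsgLib.PGroup.MaxClass.class_of_self_centralizing N S hN B
        (hBcard.trans (h.trans (by norm_num))) (le_antisymm hCB ?_)
      have : IsMulCommutative B := IsPGroup.isMulCommutative_of_card_eq_prime_sq
        (p := 3) (hBcard.trans (h.trans (by norm_num)))
      exact Subgroup.le_centralizer B
    · refine Cfsg.Agent.S4143.result (p := 3) N hN B (hBcard.trans (h.trans (by norm_num)))
        (fun hc => hna ?_) hCB
      exact ⟨⟨fun a b => (Subgroup.subgroupOfEquivOfLe hES).symm.injective (by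
        rw [map_mul, map_mul]
        exact hc.is_comm.comm _ _)⟩⟩
  haveI : Group.IsNilpotent S := hS.isNilpotent
  have hmc : Cfsg.Agent.S3806.MaxClass 3 N S := by
    refine ⟨hN, by omega, ?_, fun e => ?_⟩
    · rw [Subgroup.lowerCentralSeries_eq_bot_iff_nilpotencyClass_le, hclass]
    · rw [Subgroup.lowerCentralSeries_eq_bot_iff_nilpotencyClass_le, hclass] at e
      omega
  by_cases hall : ∀ H : Subgroup S, (frattini H).index ≤ 3 ^ 2
  · refine Or.inr (Or.inl ⟨?_, fun H hH => ?_⟩)
    · rw [hN]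
      exact le_trans (by norm_num) (Nat.pow_le_pow_right (show 0 < 3 by norm_num) h4)
    set H' : Subgroup S := H.subgroupOf S
    have hH'p : IsPGroup 3 H' := hS.to_subgroup H'
    obtain ⟨T, hT, hTop⟩ := Cfsg.Agent.S5238.exists_generators hH'p 2 (frattini H') (hall H')
    have hgen : Subgroup.closure (T : Set H') = ⊤ := frattini_nongenerating (by rw [sup_comm]; exact hTop)
    refine ⟨T.image (fun x : H' => ((x : S) : Ω)), Finset.card_image_le.trans hT, ?_⟩
    have h1 := congrArg (Subgroup.map (S.subtype.comp H'.subtype)) hgen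
    rw [MonoidHom.map_closure, ← MonoidHom.range_eq_map, MonoidHom.range_comp, H'.range_subtype,
      Subgroup.map_subgroupOf_eq_of_le hH] at h1
    rw [Finset.coe_image]
    exact h1
  · push Not at hall
    obtain ⟨H, hH⟩ := hall
    rcases CfsgLib.PGroup.MaxClassThree.frattini_index_le hmc h4 H with h | ⟨rfl, hc27, hc, he⟩
    · omega
    · exact Or.inr (Or.inr (CfsgLib.PGroup.MaxClassThree.equiv_sylow_perm_nine hmc H hc27 hc he))

end Cfsg.Agent.S5239
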