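import Cfsg.Statements.S5243
import Cfsg.Agent.Lib.Fusion.IndexCharSystem

set_option autoImplicit false
open Cfsg

namespace Cfsg.Agent.S5243

/-- Let F be a saturated fusion system over a finite p-group S, E a normal subsystem of F over T ≤ S, and χ a surjective homomorphism from Aut_F(T) onto a nontrivial finite group Δ of order prime to p whose kernel contains Aut_E(T). Then there is a proper normal subsystem F₀ of F over S containing E such that Aut_{F₀}(S) consists of those α ∈ Aut_F(S) whose restriction to T is an element of Aut_F(T) in the kernel of χ; moreover every p'-residual subsystem O^{p'}(F) of F is contained in F₀. -/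
theorem result {Ω : Type*} [Group Ω] {S : Subgroup Ω} [Finite S] (p : ℕ) [Fact p.Prime] (hS : IsPGroup p S) (F : Cfsg.FusionSystem S) (hF : F.IsSaturated p) {T : Subgroup Ω} (hTS : T ≤ S) (E : Cfsg.FusionSystem T) (hE : E.IsNormalIn F p) {Δ : Type*} [Group Δ] [Finite Δ] [Nontrivial Δ] (hΔ : (Nat.card Δ).Coprime p) (χ : ↥(F.autGroup T) →* Δ) (hχ : Function.Surjective χ) (hker : (E.autGroup T).subgroupOf (F.autGroup T) ≤ χ.ker) : ∃ F₀ : Cfsg.FusionSystem S, F₀.IsNormalIn F p ∧ ¬ (∀ P : Subgroup Ω, F₀.Hom P = F.Hom P) ∧ E.IsSubsystemOf F₀ ∧ (∀ α : MulAut ↥S, α ∈ F₀.autGroup S ↔ α ∈ F.autGroup S ∧ ∃ β : ↥(F.autGroup T), χ β = 1 ∧ ∀ t : ↥T, (((β : MulAut ↥T) t : ↥T) : Ω) = ((α ⟨(t : Ω), hTS t.2⟩ : ↥S) : Ω)) ∧ ∀ R : Cfsg.FusionSystem S, F.IsPPrimeResidual p R → R.IsSubsystemOf F₀ := by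

  have hs : CfsgLib.Fusion.IndexChar.Setup E F p χ := ⟨hS, hF, hE.1.1, hE.1.2.2, hΔ, hker⟩
  have hinv := CfsgLib.Fusion.IndexChar.genSystem_isInvariantIn hs hχ
  have hsat := CfsgLib.Fusion.IndexChar.genSystem_isSaturated hs hχ
  have hgood := CfsgLib.Fusion.IndexChar.good_top hs
  set F₀ := CfsgLib.Fusion.IndexChar.genSystem E F χ
  have hEF := hE.1.2.2.1
  have hext : ∀ a ∈ F₀.autGroup S, ∃ β ∈ F.autGroup (S ⊔ Cfsg.FusionSystem.centralizerIn S S),
      (∀ x : S, ((β (Subgroup.inclusion le_sup_left x) : ↥(S ⊔ Cfsg.FusionSystem.centralizerIn S S)) : Ω) =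
        ((a x : S) : Ω)) ∧
      ∀ c : ↥(S ⊔ Cfsg.FusionSystem.centralizerIn S S), (c : Ω) ∈ Cfsg.FusionSystem.centralizerIn S S →
        (c : Ω)⁻¹ * ((β c : ↥(S ⊔ Cfsg.FusionSystem.centralizerIn S S)) : Ω) ∈
          S ⊓ Subgroup.centralizer (S : Set Ω) := by
    intro a ha
    have hle : S ⊔ Cfsg.FusionSystem.centralizerIn S S ≤ S :=
      sup_le le_rfl (CfsgLib.Fusion.centralizerIn_le S S)
    have hah := hinv.1 S ((CfsgLib.Fusion.mem_autGroup_iff_hom le_rfl).1 ha)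
    have hres := CfsgLib.Fusion.restrict_mem hah hle
    have : Finite ↥(S ⊔ Cfsg.FusionSystem.centralizerIn S S) := CfsgLib.Fusion.finite_of_le hle
    obtain ⟨β, hβ, hβx⟩ := CfsgLib.Fusion.exists_aut hres
      (CfsgLib.Fusion.range_eq_of_le (CfsgLib.Fusion.hom_inj hres) fun x =>
        le_sup_left (b := Cfsg.FusionSystem.centralizerIn S S) (CfsgLib.Fusion.map_mem hres x))
    refine ⟨β, hβ, fun x => hβx _, fun c hc => ?_⟩
    have hcC : ((β c : ↥(S ⊔ Cfsg.FusionSystem.centralizerIn S S)) : Ω) ∈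
        Cfsg.FusionSystem.centralizerIn S S := by
      rw [hβx]
      refine ⟨CfsgLib.Fusion.map_mem hres c, Subgroup.mem_centralizer_iff.2 fun y hy => ?_⟩
      obtain ⟨z, hz⟩ := a.surjective ⟨y, hy⟩
      have h1 : z * ⟨(c : Ω), hle c.2⟩ = ⟨(c : Ω), hle c.2⟩ * z :=
        Subtype.ext (Subgroup.mem_centralizer_iff.1 hc.2 z z.2)
      have h2 := congrArg (fun w : S => ((a w : S) : Ω)) h1
      simp only [map_mul, hz] at h2
      exact h2
    exact (Cfsg.FusionSystem.centralizerIn S S).mul_mem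
      ((Cfsg.FusionSystem.centralizerIn S S).inv_mem hc) hcC
  have hnorm : F₀.IsNormalIn F p := ⟨⟨hsat, hF, hinv⟩, hext⟩
  refine ⟨F₀, hnorm, fun hall => ?_, CfsgLib.Fusion.IndexChar.le_genSystem hs hχ, fun α => ?_,
    fun R hR => hR.2.2 F₀ hsat ⟨hinv.1, fun P hP =>
      CfsgLib.Fusion.oPAut_le_autGroup_of_invariant hS hF hinv hP⟩⟩
  · obtain ⟨d, hd⟩ := exists_ne (1 : Δ)
    obtain ⟨γ, hγ, hγv⟩ := CfsgLib.Fusion.IndexChar.exists_aut_val hs hχ d
    have h1 := (CfsgLib.Fusion.mem_autGroup_iff_hom le_rfl).1 hγ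
    rw [← hall S] at h1
    exact hd (CfsgLib.Fusion.IndexChar.val_unique hs hgood hγv
      (CfsgLib.Fusion.IndexChar.val_of_mem hs hgood h1))
  · rw [CfsgLib.Fusion.mem_autGroup_iff_hom le_rfl, CfsgLib.Fusion.mem_autGroup_iff_hom le_rfl]
    constructor
    · intro h
      refine ⟨hinv.1 S h, ?_⟩
      obtain ⟨a, ha, φ₀, hφ₀, hx⟩ := CfsgLib.Fusion.IndexChar.val_of_mem hs hgood h
      have hTI : T ≤ S ⊓ T := le_inf hTS le_rfl
      have hφT := CfsgLib.Fusion.restrict_mem hφ₀ hTI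
      have : Finite T := CfsgLib.Fusion.finite_of_le hTS
      obtain ⟨e, he, hex⟩ := CfsgLib.Fusion.exists_aut hφT
        (CfsgLib.Fusion.range_eq_of_le (CfsgLib.Fusion.hom_inj hφT) (CfsgLib.Fusion.map_mem hφT))
      have heF : e ∈ F.autGroup T := CfsgLib.FusionQuot.autGroup_le_of_subsystem hEF T he
      refine ⟨a * ⟨e, heF⟩, by rw [map_mul, ha, one_mul]; exact hker he, fun t => ?_⟩
      have h2 := hx (Subgroup.inclusion hTI t) (CfsgLib.Fusion.map_mem hφ₀ _)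
      refine Eq.trans ?_ h2.symm
      exact congrArg (fun z : T => (((a : MulAut T) z : T) : Ω)) (Subtype.ext (hex t))
    · rintro ⟨h, β, hβ, hβt⟩
      exact CfsgLib.Fusion.IndexChar.mem_genSystem hgood h ⟨β, hβ, (S ⊓ T).subtype,
        CfsgLib.Fusion.subtype_mem E inf_le_right, fun x hx => (hβt ⟨x, hx⟩).symm⟩

end Cfsg.Agent.S5243
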