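import Cfsg.Statements.S5244
import Cfsg.Agent.Lib.FusionIndexP.CoreFree
import Cfsg.Agent.Lib.FusionIndexP.Series

set_option autoImplicit false
open Cfsg Cfsg.FusionSystem CfsgLib.Fusion CfsgLib.FusionIndexP
open scoped IsMulCommutative commutatorElement

namespace Cfsg.Agent.S5244

/-- Let p be an odd prime, S a finite nonabelian p-group with a unique abelian subgroup A of index p, and F a saturated fusion system over S with no nontrivial normal subgroup (O_p(F) = 1) in which A is not F-essential. Then some subgroup Z(S)⟨x⟩ with x ∈ S outside A is F-essential, the centre Z(S) is contained in the commutator subgroup of S, and S has maximal nilpotency class (if S has order pⁿ with n ≥ 3, the term of index n − 2 of its lower central series, counting S itself as the term of index 0, is nontrivial). -/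
theorem result {Ω : Type*} [Group Ω] {S : Subgroup Ω} [Finite S] (p : ℕ) [Fact p.Prime] (hS : IsPGroup p S) (F : Cfsg.FusionSystem S) (hF : F.IsSaturated p) (hp : p ≠ 2) (hna : ¬ IsMulCommutative ↥S) (A : Subgroup Ω) (hA : A ≤ S ∧ IsMulCommutative ↥A ∧ (A.subgroupOf S).index = p) (huniq : ∀ B : Subgroup Ω, B ≤ S → IsMulCommutative ↥B → (B.subgroupOf S).index = p → B = A) (hcore : F.core = ⊥) (hAe : ¬ F.IsEssential p A) : (∃ x ∈ S, x ∉ A ∧ F.IsEssential p ((S ⊓ Subgroup.centralizer (S : Set Ω)) ⊔ Subgroup.zpowers x)) ∧ (S ⊓ Subgroup.centralizer (S : Set Ω)) ≤ (commutator ↥S).map S.subtype ∧ ∀ n : ℕ, Nat.card S = p ^ n → 3 ≤ n → Subgroup.lowerCentralSeries S (n - 2) ≠ ⊥ := by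
  have h : CfsgLib.FusionIndexP.Setup p S A :=
    ⟨hS, hA.1, fun a ha b hb => congrArg Subtype.val (hA.2.1.is_comm.comm (⟨a, ha⟩ : A) ⟨b, hb⟩),
      hA.2.2, hna, huniq⟩
  have hp' := (Fact.out : p.Prime)
  have hne : ∀ P, F.IsEssential p P → P ≠ A := fun P hP e => hAe (e ▸ hP)
  have hnle : ∀ P, F.IsEssential p P → ¬ P ≤ A := fun P hP =>
    h.not_le_of_isEssential hP (hne P hP)
  have hcases : ∀ Q : Subgroup Ω, F.IsEssential p Q → centerIn S ≤ Q ∧
      ((IsMulCommutative Q ∧ (centerIn S).relIndex Q = p ∧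
          ∀ g ∈ normalizerIn S Q, ∀ x ∈ Q, x⁻¹ * (g * x * g⁻¹) ∈ centerIn S) ∨
        ∀ α ∈ F.autGroup Q, ∀ x : Q, (x : Ω) ∈ centerIn S → ((α x : Q) : Ω) ∈ centerIn S) := by
    intro Q hQ
    have hQS : Q ≤ S := hQ.1.1
    refine ⟨fun z hz => centralizerIn_le_of_isCentric hQ.1
      (mem_centralizerIn.2 ⟨hz.1, fun y hy => (mem_centerIn.1 hz).2 y (hQS hy)⟩), ?_⟩
    obtain ⟨x, hxS, hxA, hZ2, -, -, hcase⟩ := h.essential_cases hF hQ (hne Q hQ)
    rcases hcase with ⟨-, hQc, hQi⟩ | ⟨-, hQnc⟩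
    · haveI := hQc
      exact Or.inl ⟨hQc, hQi, fun g hg y hy => h.comm_mem_center hQS (hnle Q hQ) hg hy⟩
    · refine Or.inr fun α _ y hy => h.mem_center_of_central hQS (hnle Q hQ) hQnc fun u => ?_
      obtain ⟨u', rfl⟩ := α.surjective u
      rw [← map_mul, ← map_mul]
      exact congrArg α (Subtype.ext ((mem_centerIn.1 hy).2 u' (hQS u'.2)).symm)
  -- some essential subgroup is abelian
  obtain ⟨P, hP, x, hxS, hxA, hZ2, hM, hPe, hPc, hPi⟩ : ∃ P, F.IsEssential p P ∧ ∃ x ∈ S, x ∉ A ∧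
      secondCenterIn S ≤ A ∧ (centerIn S).relIndex (secondCenterIn S) = p ∧
      P = centerIn S ⊔ Subgroup.zpowers x ∧ IsMulCommutative P ∧
        (centerIn S).relIndex P = p := by
    by_contra hc
    have hnorm : F.IsNormal (centerIn S) := by
      refine (isNormal_iff_essential hS hF).2 fun Q hQ => ?_
      rcases hQ with rfl | hQ
      · exact ⟨centerIn_le _, fun α _ =>
          map_eq_of_invariant le_rfl (centerIn_le _) fun y hy => aut_mem_center hy⟩
      obtain ⟨hZQ, hcase⟩ := hcases Q hQ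
      refine ⟨hZQ, fun α hα => map_eq_of_invariant hQ.1.1 hZQ ?_⟩
      rcases hcase with ⟨hQc, -, -⟩ | hinv
      · exfalso
        obtain ⟨y, hyS, hyA, hZ2, hM, -, hcase'⟩ := h.essential_cases hF hQ (hne Q hQ)
        rcases hcase' with ⟨e, e1, e2⟩ | ⟨-, e1⟩
        · exact hc ⟨Q, hQ, y, hyS, hyA, hZ2, hM, e, e1, e2⟩
        · exact e1 hQc
      · exact hinv α hα
    have hZbot := eq_bot_of_isNormal_of_core hcore hnorm
    have : Nontrivial S := by
      by_contra hnt
      rw [not_nontrivial_iff_subsingleton] at hnt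
      exact hna ⟨⟨fun u v => Subsingleton.elim _ _⟩⟩
    have := hS.center_nontrivial
    obtain ⟨z, hz⟩ := exists_ne (1 : Subgroup.center S)
    have hzZ : ((z : S) : Ω) ∈ centerIn S := mem_centerIn.2 ⟨(z : S).2, fun s hs =>
      congrArg Subtype.val (Subgroup.mem_center_iff.1 z.2 ⟨s, hs⟩)⟩
    rw [hZbot, Subgroup.mem_bot] at hzZ
    exact hz (Subtype.ext (Subtype.ext hzZ))
  rw [h.secondCenter_eq hxS hxA hZ2] at hM
  have hL := h.card_center_inf_commutator hxS hxA hM
  haveI := hPc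
  have hZle := center_le_commutator_of_core_eq_bot hS hF hp hcore hL hP (hcases P hP).1 hPi
    (fun g hg y hy => h.comm_mem_center hP.1.1 (hnle P hP) hg hy) hcases
  refine ⟨⟨x, hxS, hxA, hPe ▸ hP⟩, hZle, fun n hn hn3 => ?_⟩
  intro hlcs
  have hcardZ : Nat.card (centerIn S) = p := by rw [← hL, inf_eq_left.2 hZle]
  have hrel : (centerIn S).relIndex S = p ^ (n - 1) := by
    have h1 := Subgroup.card_mul_index ((centerIn S).subgroupOf S)
    rw [Nat.card_congr (Subgroup.subgroupOfEquivOfLe (centerIn_le S)).toEquiv, hcardZ, hn,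
      ← Nat.sub_add_cancel (by omega : 1 ≤ n), pow_succ'] at h1
    exact Nat.eq_of_mul_eq_mul_left hp'.pos h1
  refine h.not_lowerCentralSeries_le_center hxS hxA hM hrel (by omega) fun g hg => ?_
  have hle : ∀ k, Subgroup.lowerCentralSeries S k ≤ S := by
    intro k
    induction k with
    | zero => exact le_rfl
    | succ k ih =>
      show ⁅Subgroup.lowerCentralSeries S k, S⁆ ≤ S
      rw [Subgroup.commutator_le]
      intro a ha b hb
      rw [commutatorElement_def]
      exact S.mul_mem (S.mul_mem (S.mul_mem (ih ha) hb) (S.inv_mem (ih ha))) (S.inv_mem hb)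
  refine mem_centerIn.2 ⟨hle _ hg, fun s hs => ?_⟩
  rcases (show n = 3 ∨ 4 ≤ n by omega) with rfl | hn4
  · have h1 : ⁅g, s⁆ ∈ Subgroup.lowerCentralSeries S (3 - 2) :=
      Subgroup.commutator_mem_commutator (show g ∈ Subgroup.lowerCentralSeries S 0 from hg) hs
    rw [hlcs, Subgroup.mem_bot, commutatorElement_eq_one_iff_mul_comm] at h1
    exact h1.symm
  · have h1 : ⁅g, s⁆ ∈ Subgroup.lowerCentralSeries S (n - 2) := by
      rw [show n - 2 = (n - 1 - 2) + 1 by omega]
      exact Subgroup.commutator_mem_commutator hg hs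
    rw [hlcs, Subgroup.mem_bot, commutatorElement_eq_one_iff_mul_comm] at h1
    exact h1.symm

end Cfsg.Agent.S5244
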