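import Cfsg.Statements.S5245
import Cfsg.Agent.Lib.FusionAut.Sparse

set_option autoImplicit false
open Cfsg CfsgLib.Fusion CfsgLib.FusionAut

namespace Cfsg.Agent.S5245

/-- Let F be an extremely sparse fusion system over a finite p-group S (saturated, not the inner system, and every saturated fusion system over any subgroup T of S contained in F is F itself or the inner system of T). Then S is normal in F, the focal and hyperfocal subgroups of F are both S, and Aut_F(S) is generated by the inner automorphisms of S together with a single automorphism of prime order q ≠ p (F is the fusion system of the semidirect product of S by a cyclic group of prime order). -/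
theorem result {Ω : Type*} [Group Ω] {S : Subgroup Ω} [Finite S] (p : ℕ) [Fact p.Prime] (hS : IsPGroup p S) (F : Cfsg.FusionSystem S) (hF : F.IsSaturated p) (hxs : ¬ (∀ P : Subgroup Ω, F.Hom P = (Cfsg.innerFusionSystem S).Hom P) ∧ ∀ (T : Subgroup Ω) (E : Cfsg.FusionSystem T), E.IsSaturated p → E.IsSubsystemOf F → (T = S ∧ ∀ P : Subgroup Ω, E.Hom P = F.Hom P) ∨ (∀ P : Subgroup Ω, E.Hom P = (Cfsg.innerFusionSystem T).Hom P)) : F.IsNormal S ∧ F.focalSubgroup = S ∧ F.hyperfocalSubgroup p = S ∧ ∃ (q : ℕ) (β : MulAut ↥S), q.Prime ∧ q ≠ p ∧ β ∈ F.autGroup S ∧ orderOf β = q ∧ (F.autGroup S : Subgroup (MulAut ↥S)) = Cfsg.Inn ↥S ⊔ Subgroup.zpowers β := by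
  obtain ⟨hni, hsp⟩ := hxs
  have hp := (Fact.out : p.Prime)
  obtain ⟨P, hP, hnp⟩ : ∃ P : Subgroup Ω, P ≤ S ∧ ¬ IsPGroup p (F.autGroup P) := by
    by_contra hc
    push Not at hc
    exact hni fun P => by rw [eq_inner_of_isPGroup hS hF hc]
  have : Finite P := finite_of_le hP
  have : Finite (MulAut P) := finite_mulAut
  obtain ⟨q, hq, hqdvd, hqp⟩ : ∃ q, q.Prime ∧ q ∣ Nat.card (F.autGroup P) ∧ q ≠ p := by
    by_contra hc
    push Not at hc
    exact hnp (IsPGroup.of_card (Nat.eq_prime_pow_of_unique_prime_dvd Nat.card_pos.ne'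
      fun {d} hd hdd => hc d hd hdd))
  have : Fact q.Prime := ⟨hq⟩
  obtain ⟨⟨β, hβ⟩, hord⟩ := exists_prime_orderOf_dvd_card' (G := F.autGroup P) q hqdvd
  replace hord : orderOf β = q := (Subgroup.orderOf_coe _).trans hord
  obtain ⟨hPS, hEF⟩ := eq_top_of_sparse hS hsp hP hq hqp hβ hord
  subst hPS
  have hFE : F = autSystem P (Cfsg.Inn P ⊔ Subgroup.zpowers β) le_sup_left :=
    fusionSystem_ext fun Q => (hEF Q).symm
  have hcop : (orderOf β).Coprime (Nat.card P) := by
    obtain ⟨N, hN⟩ := IsPGroup.iff_card.1 hS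
    rw [hord, hN]
    exact ((Nat.coprime_primes hq hp).2 hqp).pow_right N
  set U : Subgroup P := Subgroup.closure (Set.range fun x => x⁻¹ * β x) with hU
  have hUinv : ∀ u ∈ U, β u ∈ U := by
    intro u hu
    have h2 : U.map β.toMonoidHom ≤ U := by
      rw [hU, MonoidHom.map_closure, Subgroup.closure_le]
      rintro _ ⟨_, ⟨x, rfl⟩, rfl⟩
      refine Subgroup.subset_closure ⟨β x, ?_⟩
      show (β x)⁻¹ * β (β x) = β (x⁻¹ * β x)
      rw [map_mul, map_inv]
    exact h2 ⟨u, hu, rfl⟩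
  have hne : β ≠ 1 := fun h => hq.one_lt.ne (by rw [← hord, h, orderOf_one])
  obtain ⟨u, hu, hune⟩ : ∃ u ∈ U, β u ≠ u := by
    by_contra hc
    push Not at hc
    exact hne (MulEquiv.ext fun x => fix_of_coprime hcop hc (Subgroup.subset_closure ⟨x, rfl⟩))
  set U' := U.map P.subtype with hU'
  have hUP : U' ≤ P := Subgroup.map_subtype_le U
  have hφ := restrict_mem ((mem_autGroup_iff_hom le_rfl).1 hβ) hUP
  have hval : ∀ x : U', (P.subtype.comp β.toMonoidHom).comp (Subgroup.inclusion hUP) x =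
      ((β ⟨x, hUP x.2⟩ : P) : Ω) := fun x => rfl
  have hmemU : ∀ x : U', (⟨x, hUP x.2⟩ : P) ∈ U := by
    intro x
    obtain ⟨y, hy, hxy⟩ := x.2
    have : (⟨x, hUP x.2⟩ : P) = y := Subtype.ext hxy.symm
    rwa [this]
  have : Finite U' := finite_of_le hUP
  obtain ⟨α, hα, hαx⟩ := exists_aut hφ (range_eq_of_le (hom_inj hφ) fun x => by
    rw [hval]
    exact ⟨_, hUinv _ (hmemU x), rfl⟩)
  have hpow : ∀ (n : ℕ) (x : U'), ((α ^ n) x : Ω) = (((β ^ n) ⟨x, hUP x.2⟩ : P) : Ω) := by
    intro n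
    induction n with
    | zero => exact fun x => rfl
    | succ n ih =>
      intro x
      rw [pow_succ', MulAut.mul_apply, pow_succ', MulAut.mul_apply, hαx, hval]
      exact congrArg (fun t => ((β t : P) : Ω)) (Subtype.ext (ih x))
  have hαord : orderOf α = q := by
    refine orderOf_eq_prime (MulEquiv.ext fun x => Subtype.ext ?_) fun h => hune ?_
    · rw [hpow, ← hord, pow_orderOf_eq_one]
      rfl
    · have h1 := hpow 1 ⟨u, u, hu, rfl⟩
      rw [pow_one, pow_one, h] at h1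
      exact Subtype.ext h1.symm
  obtain ⟨hUS, -⟩ := eq_top_of_sparse hS hsp hUP hq hqp hα hαord
  have hres : (⟨β, hβ⟩ : F.autGroup P) ∈ pResidual p (F.autGroup P) :=
    Subgroup.subset_closure (by
      show Nat.Coprime (orderOf _) p
      rw [← Subgroup.orderOf_coe, hord]
      exact (Nat.coprime_primes hq hp).2 hqp)
  refine ⟨?_, le_antisymm ?_ ?_, le_antisymm ?_ ?_, q, β, hq, hqp, hβ, hord, ?_⟩
  · rw [hFE]; exact isNormal_autSystem
  · refine (Subgroup.closure_le _).2 ?_
    rintro _ ⟨R, φ, x, hφ', rfl⟩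
    exact mul_mem (inv_mem (dom_le hφ' x.2)) (map_mem hφ' x)
  · refine hUS.ge.trans ?_
    rw [hU', hU, MonoidHom.map_closure, Subgroup.closure_le]
    rintro _ ⟨_, ⟨x, rfl⟩, rfl⟩
    exact Subgroup.subset_closure ⟨P, _, x, (mem_autGroup_iff_hom le_rfl).1 hβ, rfl⟩
  · refine (Subgroup.closure_le _).2 ?_
    rintro _ ⟨R, a, x, hR, -, rfl⟩
    exact mul_mem (inv_mem (hR x.2)) (hR ((a : MulAut R) x).2)
  · refine hUS.ge.trans ?_
    rw [hU', hU, MonoidHom.map_closure, Subgroup.closure_le]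
    rintro _ ⟨_, ⟨x, rfl⟩, rfl⟩
    exact Subgroup.subset_closure ⟨P, ⟨β, hβ⟩, x, le_rfl, hres, rfl⟩
  · rw [hFE, autGroup_autSystem]

end Cfsg.Agent.S5245
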