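import Cfsg.Statements.S5247
import Cfsg.Agent.Lib.FusionPStable.Local

set_option autoImplicit false
open Cfsg

namespace Cfsg.Agent.S5247

/-- Let p be an odd prime and F a saturated fusion system over a finite p-group S. Call a fusion system E (over any subgroup) p-stable when, for every fully E-normalized subgroup Q and every χ ∈ Aut_E(Q) with χ(a⁻¹)·a·χ(a⁻¹)·χ(χ(a)) = 1 for all a ∈ Q (χ acts quadratically), χ lies in O_p(Aut_E(Q)). Then F is p-stable if and only if every normalizer fusion system N_F(R) of every non-cyclic fully F-normalized subgroup R of S is p-stable. -/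
theorem result {Ω : Type*} [Group Ω] {S : Subgroup Ω} [Finite S] (p : ℕ) [Fact p.Prime] (hS : IsPGroup p S) (F : Cfsg.FusionSystem S) (hF : F.IsSaturated p) (hp : p ≠ 2) : (∀ Q : Subgroup Ω, F.IsFullyNormalized Q → ∀ χ : MulAut ↥Q, χ ∈ F.autGroup Q → (∀ a : ↥Q, (χ a⁻¹) * a * (χ a⁻¹) * (χ (χ a)) = 1) → χ ∈ ((Cfsg.pCore p ↥(F.autGroup Q)).map (F.autGroup Q).subtype : Subgroup (MulAut ↥Q))) ↔ ∀ R : Subgroup Ω, F.IsFullyNormalized R → ¬ IsCyclic ↥R → ∀ N : Cfsg.FusionSystem (Cfsg.FusionSystem.normalizerIn S R), F.IsNormalizerSystem R N → (∀ Q : Subgroup Ω, N.IsFullyNormalized Q → ∀ χ : MulAut ↥Q, χ ∈ N.autGroup Q → (∀ a : ↥Q, (χ a⁻¹) * a * (χ a⁻¹) * (χ (χ a)) = 1) → χ ∈ ((Cfsg.pCore p ↥(N.autGroup Q)).map (N.autGroup Q).subtype : Subgroup (MulAut ↥Q))) := by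
  constructor
  · intro h R hR _ N hN
    exact CfsgLib.FusionPStable.isPStable_normalizer h hR.1 hN
  · intro h Q hQ χ hχ hq
    by_cases hc : IsCyclic Q
    · exact CfsgLib.FusionPStable.mem_autCore_of_isCyclic hS hQ.1 hc hχ hq
    · have hN := CfsgLib.Fusion.isNormalizerSystem_normalizerSystem F Q hQ.1
      set N := CfsgLib.Fusion.normalizerSystem F Q hQ.1
      have hQN : Q ≤ Cfsg.FusionSystem.normalizerIn S Q := CfsgLib.Fusion.le_normalizerIn hQ.1
      have heq : N.autGroup Q = F.autGroup Q := le_antisymm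
        (CfsgLib.FusionPStable.normalizer_autGroup_le hQ.1 hN hQN)
        ((CfsgLib.FusionPStable.Covers.refl F Q).autGroup_le hQ.1 hN)
      have hfn : N.IsFullyNormalized Q := by
        refine ⟨hQN, ?_⟩
        rintro X ⟨φ, hφ, rfl⟩
        rw [hN Q] at hφ
        obtain ⟨-, -, -, ψ, -, hag, hQQ⟩ := hφ
        have : φ.range = Q := by
          refine Eq.trans ?_ hQQ
          ext y
          rw [CfsgLib.Fusion.mem_map_subgroupOf]
          constructor
          · rintro ⟨x, rfl⟩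
            exact ⟨x, le_sup_left (b := Q) x.2, x.2, hag x⟩
          · rintro ⟨x, hx, hxQ, rfl⟩
            exact ⟨⟨x, hxQ⟩, (hag ⟨x, hxQ⟩).symm⟩
        rw [this]
      have := h Q hQ hc N hN Q hfn χ (heq.symm ▸ hχ) hq
      rwa [heq] at this

end Cfsg.Agent.S5247
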