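import Cfsg.Statements.S5253
import Cfsg.Agent.Lib.FusionControl.QuadraticStep
import Cfsg.Agent.Lib.FusionQuot.Joins

set_option autoImplicit false
universe u
open Cfsg Cfsg.FusionSystem CfsgLib.Fusion CfsgLib.FusionControl

namespace Cfsg.Agent.S5253

/-- Let p be a prime and W a positive characteristic p-functor with Z(Q) ≤ W(Q): W assigns to every finite p-group Q (in a fixed universe) a subgroup W(Q), nontrivial when Q is, carried to W(R) by every isomorphism Q ≅ R, and containing the centre of Q. Suppose that for every finite group G with Sylow p-subgroup P in which W(P) is not normal there is g ∈ P outside O_p(G) with [Z(O_p(G)), g, g] = 1. Then for every saturated fusion system F over a finite p-group S and every normalizer fusion system N of W(S) in F, every p-th power of an element of Z(S) that lies in the centre of N lies in the centre of F. -/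
theorem result {p : ℕ} [Fact p.Prime] (W : ∀ (Q : Type u) [Group Q], Subgroup Q) (hW1 : ∀ (Q : Type u) [Group Q] [Finite Q], IsPGroup p Q → Nontrivial Q → W Q ≠ ⊥) (hW2 : ∀ (Q R : Type u) [Group Q] [Group R] [Finite Q], IsPGroup p Q → ∀ φ : Q ≃* R, (W Q).map φ.toMonoidHom = W R) (hWZ : ∀ (Q : Type u) [Group Q] [Finite Q], IsPGroup p Q → Subgroup.center Q ≤ W Q) (hq : ∀ (G : Type u) [Group G] [Finite G] (P : Sylow p G), ¬ (((W ↥(P : Subgroup G)).map (P : Subgroup G).subtype : Subgroup G)).Normal → ∃ g : G, g ∈ (P : Subgroup G) ∧ g ∉ Cfsg.pCore p G ∧ ⁅⁅Subgroup.center ↥(Cfsg.pCore p G) |>.map (Cfsg.pCore p G).subtype, Subgroup.zpowers g⁆, Subgroup.zpowers g⁆ = ⊥) {Ω : Type u} [Group Ω] {S : Subgroup Ω} [Finite S] (hS : IsPGroup p S) (F : Cfsg.FusionSystem S) (hF : F.IsSaturated p) (N : Cfsg.FusionSystem (Cfsg.FusionSystem.normalizerIn S ((W ↥S).map S.subtype))) (hN : F.IsNormalizerSystem ((W ↥S).map S.subtype) N) : Subgroup.closure ((fun z => z ^ p) '' ((S ⊓ Subgroup.centralizer (S : Set Ω) :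 Subgroup Ω) : Set Ω)) ⊓ N.center ≤ F.center := by
  set A := Subgroup.closure ((fun z => z ^ p) ''
    ((S ⊓ Subgroup.centralizer (S : Set Ω) : Subgroup Ω) : Set Ω)) ⊓ N.center with hA
  have hpc : Subgroup.closure ((fun z => z ^ p) ''
      ((S ⊓ Subgroup.centralizer (S : Set Ω) : Subgroup Ω) : Set Ω)) ≤
      Cfsg.powerClosure p 1 (S ⊓ Subgroup.centralizer (S : Set Ω)) := by
    refine Subgroup.closure_mono ?_
    rintro _ ⟨z, hz, rfl⟩
    exact ⟨z, hz, by rw [pow_one]⟩
  have hAp : A ≤ Cfsg.powerClosure p 1 (S ⊓ Subgroup.centralizer (S : Set Ω)) := inf_le_left.trans hpc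
  have hAS : A ≤ S := hAp.trans (powerClosure_le.trans inf_le_left)
  have hAc : A ≤ Subgroup.centralizer (S : Set Ω) := hAp.trans (powerClosure_le.trans inf_le_right)
  have hCS : centralizerIn S A = S := le_antisymm (centralizerIn_le S A) fun x hx =>
    ⟨hx, Subgroup.mem_centralizer_iff.2 fun a ha =>
      (Subgroup.mem_centralizer_iff.1 (hAc ha) x hx).symm⟩
  set G := copyOver (centralizerSystem F A hAS) hCS
  have hCh := isGoodChoice_liftSub (S := S) hS hW1 hW2
  have hsub : F.IsSubsystemOf G := by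
    refine control_centralizer hS hF hAS hAc hCh
      (fun {T} E Z hE hZ hp hlt hC D => ?_) (fun P φ hφ => hφ) ?_
    · have := hE.finite
      have hT := hE.isPGroup hS
      have : Finite D.L := D.model.1
      have hn : ((Z.subgroupOf T).map D.ι).Normal := D.normal_map hZ hlt.le
      obtain ⟨U, hU⟩ := liftSub_nonempty (W := W) hZ
      obtain ⟨-, hUT, -⟩ := hCh Z T U (hlt.trans_le D.hle) hE.le_S hU
      set mk := QuotientGroup.mk' ((Z.subgroupOf T).map D.ι) with hmk
      obtain ⟨P₀, hP₀⟩ := D.model.2.2.1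
      set P := P₀.mapSurjective (QuotientGroup.mk'_surjective ((Z.subgroupOf T).map D.ι)) with hPdef
      have hP : (P : Subgroup _) = D.ι.range.map mk := by
        rw [hPdef, ← hP₀]
        rfl
      by_cases hnorm : (((W (P : Subgroup (D.L ⧸ (Z.subgroupOf T).map D.ι))).map
          (P : Subgroup (D.L ⧸ (Z.subgroupOf T).map D.ι)).subtype)).Normal
      · refine Or.inl ⟨U, hU, ?_⟩
        have : ((U.subgroupOf T).map D.ι).Normal := by
          rw [← Subgroup.normalizer_eq_top_iff, eq_top_iff]
          intro l _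
          refine (mem_normalizer_liftSub hW2 hT D.model.2.1.1 hU _ hP l).1 ?_
          rw [Subgroup.normalizer_eq_top_iff.2 hnorm]
          exact Subgroup.mem_top _
        exact isNormal_of_normal_map D.model.2.1 hUT
      · obtain ⟨g, hgP, hg, hgq⟩ := hq _ P hnorm
        obtain ⟨M, hMn, hMQ, hMfix⟩ := exists_normal_fix_of_quadratic P hgP hg hgq
        have hQp : coreImage D Z ≤ Cfsg.pCore p (D.L ⧸ (Z.subgroupOf T).map D.ι) :=
          CfsgLib.Solvable.le_pCore (coreImage_normal D)
            (((D.isPGroup_range hT).to_le (Subgroup.map_le_range _ _)).map _)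
        obtain ⟨K, hKn, hKQ, hKfix⟩ := exists_fix_of_quotient_center hS hE hZ hp hlt hC D 1 M
          (fun h => hMQ (by rw [hP]; exact h.trans hQp)) fun m hm _ v hv hvS => by
            rw [pow_one]
            refine hMfix v ⟨hQp hv, Subgroup.mem_centralizer_iff.2 fun z hz => ?_⟩
              (fun s hs => hvS s (hP ▸ hs)) m hm
            exact (hvS z (hP ▸ CfsgLib.Solvable.pCore_le_sylow P hz)).eq
        exact Or.inr ⟨K, hKn, hKQ, fun m hm hco a ha haY => hKfix m hm hco a (hAp ha) haY⟩
    · intro _ U hU P φ hφ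
      rw [eq_of_mem_liftSub_bot hS hW2 hU] at hφ
      have hφN : φ ∈ N.Hom P := by rw [hN P]; exact hφ
      have : Finite (normalizerIn S ((W S).map S.subtype)) := finite_of_le (normalizerIn_le S _)
      obtain ⟨ψ, hψ, hag, hfix⟩ := (CfsgLib.FusionQuot.isCentral_center N).2 P φ hφN
      rw [hN] at hψ
      have hψF : ψ ∈ F.Hom _ := hψ.1
      exact ⟨hφ.1, (dom_le hφ.1).trans hCS.ge, fun x => hCS.ge (map_mem hφ.1 x),
        ψ.comp (Subgroup.inclusion (sup_le_sup_left inf_le_right P)), restrict_mem hψF _,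
        fun x => hag x, fun a => hfix ⟨a, a.2.2⟩⟩
  refine CfsgLib.FusionQuot.le_center F ⟨hAS, fun P φ hφ => ?_⟩
  obtain ⟨-, -, -, ψ, hψ, hag, hfix⟩ := hsub P hφ
  exact ⟨ψ, hψ, hag, hfix⟩

end Cfsg.Agent.S5253
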