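import Cfsg.Statements.S5255
import Cfsg.Agent.Lib.FusionQuot.ModExtension

set_option autoImplicit false
open Cfsg Cfsg.FusionSystem CfsgLib.Fusion

namespace Cfsg.Agent.S5255

/-- Let F be a saturated fusion system over a finite p-group S and T a subgroup of S strongly closed in F. Then T·C_S(T) is strongly closed in F. -/
theorem result {Ω : Type*} [Group Ω] {S : Subgroup Ω} [Finite S] (p : ℕ) [Fact p.Prime] (hS : IsPGroup p S) (F : Cfsg.FusionSystem S) (hF : F.IsSaturated p) (T : Subgroup Ω) (hT : F.StronglyClosed T) : F.StronglyClosed (T ⊔ Cfsg.FusionSystem.centralizerIn S T) := by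
  set C := centralizerIn S T with hC
  have hTS := hT.1
  have hCS : C ≤ S := centralizerIn_le S T
  have hTC : T ⊔ C ≤ S := sup_le hTS hCS
  have : Finite T := finite_of_le hTS
  refine ⟨hTC, fun R hR φ hφ x => ?_⟩
  obtain ⟨χ, hχ, hχa⟩ := CfsgLib.FusionQuot.exists_extendsMod hS hF hT R φ hφ
  have hTle : T ≤ R ⊔ T := le_sup_right
  set χT := χ.comp (Subgroup.inclusion hTle) with hχT
  have hχTm : χT ∈ F.Hom T := restrict_mem hχ hTle
  have hTr : χT.range = T := range_eq_of_le (hom_inj hχTm) fun t => hT.2 T le_rfl χT hχTm t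
  obtain ⟨Q, hTQ, hQ⟩ := exists_isFullyNormalized F hTS
  have hQT : Q = T := by
    obtain ⟨ψ, hψ, rfl⟩ := hTQ
    exact range_eq_of_le (hom_inj hψ) fun t => hT.2 T le_rfl ψ hψ t
  subst hQT
  obtain ⟨ψ, hψ, hag⟩ := (isReceptive_of_isFullyNormalized hS hF hQ).2 _ χT hχTm hTr
  have hRN : ∀ (r : ↥(R ⊔ Q)), (r : Ω) ∈ extender S Q χT := by
    intro r
    have hn := CfsgLib.FusionQuot.le_normalizer_of_stronglyClosed hT (dom_le hχ) r.2
    refine mem_extender_iff.2 ⟨dom_le hχ r.2, hn, χ r, map_mem hχ r, fun t ht => ?_⟩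
    show χ ⟨_, _⟩ = χ r * χ (Subgroup.inclusion hTle t) * (χ r)⁻¹
    rw [← map_inv, ← map_mul, ← map_mul]
    rfl
  have hTN : Q ≤ extender S Q χT := le_extender hTS (map_mem hχTm)
  have hCN : C ≤ extender S Q χT := centralizerIn_le_extender χT
  have hψC : ∀ c : ↥(extender S Q χT), (c : Ω) ∈ C → ψ c ∈ C := by
    intro c hc
    refine mem_centralizerIn.2 ⟨map_mem hψ c, fun y hy => ?_⟩
    rw [← hTr] at hy
    obtain ⟨t, rfl⟩ := hy
    rw [← hag t t.2 (hTN t.2), ← map_mul, ← map_mul]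
    exact congrArg ψ (Subtype.ext ((mem_centralizerIn.1 hc).2 t t.2))
  have hψTC : ∀ c : ↥(extender S Q χT), (c : Ω) ∈ Q ⊔ C → ψ c ∈ Q ⊔ C := by
    intro c hc
    have hsub : (Q ⊔ C).subgroupOf (extender S Q χT) ≤ (Q ⊔ C).comap ψ := by
      rw [Subgroup.subgroupOf_sup hTN hCN]
      exact sup_le (fun d hd => Subgroup.mem_sup_left
        ((CfsgLib.FusionQuot.stronglyClosed_apply_iff hT hψ d).2 hd))
        fun d hd => Subgroup.mem_sup_right (hψC d hd)
    exact hsub (Subgroup.mem_subgroupOf.2 hc)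
  set r := Subgroup.inclusion (le_sup_left : R ≤ R ⊔ Q) x with hr
  have h1 := hψTC ⟨r, hRN r⟩ (hR x.2)
  have h2 : (ψ ⟨r, hRN r⟩)⁻¹ * χ r ∈ C := by
    refine mem_centralizerIn.2 ⟨mul_mem (inv_mem (map_mem hψ _)) (map_mem hχ r), fun y hy => ?_⟩
    rw [← hTr] at hy
    obtain ⟨t, rfl⟩ := hy
    have hn := CfsgLib.FusionQuot.le_normalizer_of_stronglyClosed hT (dom_le hχ) r.2
    have hct : (r : Ω) * t * (r : Ω)⁻¹ ∈ Q := conj_mem_of_mem_normalizer hn t.2
    have e1 : χT ⟨_, hct⟩ = χ r * χT t * (χ r)⁻¹ := by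
      show χ _ = χ r * χ _ * (χ r)⁻¹
      rw [← map_inv, ← map_mul, ← map_mul]
      rfl
    have e2 : χT ⟨_, hct⟩ = ψ ⟨r, hRN r⟩ * χT t * (ψ ⟨r, hRN r⟩)⁻¹ := by
      rw [← hag _ hct (hTN hct), ← hag t t.2 (hTN t.2), ← map_inv, ← map_mul, ← map_mul]
      rfl
    have e3 := e2.symm.trans e1
    rw [eq_mul_inv_iff_mul_eq] at e3
    rw [mul_assoc, ← e3]
    group
  have h3 : χ r ∈ Q ⊔ C := by
    have := mul_mem h1 (Subgroup.mem_sup_right (S := Q) h2)
    rwa [mul_inv_cancel_left] at this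
  have h4 : φ x = χ r * ((φ x)⁻¹ * χ r)⁻¹ := by group
  rw [h4]
  exact mul_mem h3 (inv_mem (Subgroup.mem_sup_left (hχa x)))

end Cfsg.Agent.S5255
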