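import Cfsg.Statements.S5264
import Cfsg.Agent.Lib.FusionPFive.Main

set_option autoImplicit false
open Cfsg

namespace Cfsg.Agent.S5264

/-- Let p be an odd prime other than 7, S a finite p-group of order p^5, and F a saturated fusion system over S with no nontrivial normal subgroup and with hyperfocal subgroup equal to S (so F is its own p-residual subsystem). Then S has an abelian subgroup of index p. -/
theorem result {Ω : Type*} [Group Ω] {S : Subgroup Ω} [Finite S] (p : ℕ) [Fact p.Prime] (hS : IsPGroup p ↥S) (F : Cfsg.FusionSystem S) (hF : F.IsSaturated p) (hp : p ≠ 2) (hp7 : p ≠ 7) (hcard : Nat.card S = p ^ 5) (hcore : F.core = ⊥) (hhyp : F.hyperfocalSubgroup p = S) : ∃ A : Subgroup Ω, A ≤ S ∧ IsMulCommutative ↥A ∧ (A.subgroupOf S).index = p := by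
  have hP : p.Prime := Fact.out
  by_contra hno
  push Not at hno
  have hab : CfsgLib.FusionPFive.NoAb p S := by
    intro A hA
    by_contra hge
    push Not at hge
    obtain ⟨i, hi⟩ := IsPGroup.iff_card.1 (hS.to_subgroup A)
    rw [hi, Nat.pow_le_pow_iff_right hP.one_lt] at hge
    obtain ⟨B, hB⟩ := Sylow.exists_subgroup_card_pow_prime (G := A) p (n := 4)
      (hi ▸ pow_dvd_pow p hge)
    set B' := B.map A.subtype with hB'
    have hB'c : Nat.card B' = p ^ 4 := by
      rw [Subgroup.card_map_of_injective A.subtype_injective, hB]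
    refine hno (B'.map S.subtype) (Subgroup.map_subtype_le B') ⟨⟨?_⟩⟩ ?_
    · rintro ⟨_, u, ⟨u₀, -, rfl⟩, rfl⟩ ⟨_, v, ⟨v₀, -, rfl⟩, rfl⟩
      exact Subtype.ext (congrArg Subtype.val (hA u₀ u₀.2 v₀ v₀.2) :)
    · rw [show (B'.map S.subtype).subgroupOf S = B' from
        Subgroup.comap_map_eq_self_of_injective S.subtype_injective B',
        CfsgLib.FusionPFive.index_of_card hcard (by omega) hB'c, pow_one]
  exact CfsgLib.FusionPFive.hyperfocal_ne ⟨hS, hF, hcard, hab, hp⟩ hp7 hcore hhyp

end Cfsg.Agent.S5264
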