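import Cfsg.Statements.S5265
import Cfsg.Agent.Lib.FusionIndexP.SmallCenterTwo
import Cfsg.Agent.Lib.Fusion.Stability
import Cfsg.Agent.Lib.Transfer.ClassTwo

set_option autoImplicit false
open Cfsg Cfsg.FusionSystem CfsgLib.Fusion CfsgLib.FusionIndexP
open scoped commutatorElement

namespace Cfsg.Agent.S5265

/-- Let p be a prime, S a nontrivial finite p-group whose centre has index at most p², and F a saturated fusion system over S with no nontrivial normal subgroup and with hyperfocal subgroup equal to S. Then S is extraspecial of order p³; for odd p it has exponent p, and for p = 2 it is dihedral of order 8. -/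
theorem result {Ω : Type*} [Group Ω] {S : Subgroup Ω} [Finite S] (p : ℕ) [Fact p.Prime] (hS : IsPGroup p ↥S) (F : Cfsg.FusionSystem S) (hF : F.IsSaturated p) (hS1 : S ≠ ⊥) (hcore : F.core = ⊥) (hhyp : F.hyperfocalSubgroup p = S) (hZ : (Subgroup.center ↥S).index ≤ p ^ 2) : Cfsg.IsExtraspecial p ↥S ∧ Nat.card S = p ^ 3 ∧ (p ≠ 2 → Monoid.exponent ↥S = p) ∧ (p = 2 → Nonempty (↥S ≃* DihedralGroup 4)) := by
  have hp := (Fact.out : p.Prime)
  -- the index of the centre is `p ^ 2`
  have hi : (Subgroup.center S).index = p ^ 2 := by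
    obtain ⟨N, hN⟩ := IsPGroup.iff_card.1 hS
    obtain ⟨k, -, hk⟩ := (Nat.dvd_prime_pow hp).1 (hN ▸ (Subgroup.center S).index_dvd_card)
    rcases (show k ≤ 1 ∨ k = 2 ∨ 3 ≤ k by omega) with h | rfl | h
    · exfalso
      have hcyc : IsCyclic (S ⧸ Subgroup.center S) := by
        rcases Nat.le_one_iff_eq_zero_or_eq_one.1 h with rfl | rfl
        · haveI : Subsingleton (S ⧸ Subgroup.center S) := (Nat.card_eq_one_iff_unique.1
            (by rw [← Subgroup.index_eq_card, hk, pow_zero])).1
          exact isCyclic_of_subsingleton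
        · exact isCyclic_of_prime_card (p := p) (by rw [← Subgroup.index_eq_card, hk, pow_one])
      have hab := isMulCommutative_of_isCyclic_quotient_center_self S
      refine hS1 (eq_bot_of_isNormal_of_core hcore ?_)
      exact Stability.isNormal_of_abelian hS hF ⟨le_rfl, fun R _ φ hφ x => map_mem hφ x⟩
        fun x hx y hy => congrArg Subtype.val (mul_comm' (⟨x, hx⟩ : S) ⟨y, hy⟩)
    · exact hk
    · exfalso
      have h1 := Nat.pow_lt_pow_right hp.one_lt (show 2 < k by omega)
      omega
  have hcomm := commutator_le_center_of_index_sq hi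
  have hcard : Nat.card (commutator S) = p := card_commutator_of_index_sq hi
  have hspecial : Subgroup.center S ≤ commutator S →
      Cfsg.IsExtraspecial p S ∧ Nat.card S = p ^ 3 := by
    intro hle
    have heq : commutator S = Subgroup.center S := le_antisymm hcomm hle
    have hc : Nat.card (Subgroup.center S) = p := by rw [← heq]; exact hcard
    refine ⟨⟨⟨hS, frattini_eq_center_of_index_sq hS hi hle, heq⟩, hc⟩, ?_⟩
    rw [← Subgroup.card_mul_index (Subgroup.center S), hc, hi]
    ring
  by_cases hp2 : p = 2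
  · subst hp2
    obtain ⟨he, hle⟩ := dihedral_of_index_sq hS hF hi hS1 hcore hhyp
    exact ⟨(hspecial hle).1, (hspecial hle).2, fun h => absurd rfl h, fun _ => he⟩
  obtain ⟨hle, hess⟩ := odd_index_sq hS hF hS1 hcore hi hp2
  have hle' : Subgroup.center S ≤ commutator S := fun z hz => by
    obtain ⟨c, hc, e⟩ := hle (mem_centerIn_coe.2 hz)
    rwa [← show c = z from Subtype.ext e]
  refine ⟨(hspecial hle').1, (hspecial hle').2, fun _ => ?_, fun h => absurd h hp2⟩
  have hmul : ∀ x y : S, (x * y) ^ p = x ^ p * y ^ p := by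
    intro x y
    have hz : ⁅y, x⁆ ∈ commutator S :=
      Subgroup.commutator_mem_commutator (Subgroup.mem_top y) (Subgroup.mem_top x)
    have hzc := hcomm hz
    rw [CfsgLib.Transfer.mul_pow_of_commute_commutator (Subgroup.mem_center_iff.1 hzc x).symm
      (Subgroup.mem_center_iff.1 hzc y).symm p]
    have h1 : ⁅y, x⁆ ^ p = 1 := by
      have := pow_card_eq_one' (x := (⟨⁅y, x⁆, hz⟩ : commutator S))
      rw [hcard] at this
      exact congrArg Subtype.val this
    obtain ⟨d, hd⟩ : p ∣ p.choose 2 := hp.dvd_choose_self (by norm_num)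
      (lt_of_le_of_ne hp.two_le (Ne.symm hp2))
    rw [hd, pow_mul, h1, one_pow, mul_one]
  by_cases hall : ∀ x : S, x ^ p = 1
  · refine Nat.dvd_antisymm (Monoid.exponent_dvd_of_forall_pow_eq_one hall) ?_
    obtain ⟨z, hz⟩ : ∃ z : S, z ≠ 1 := by
      by_contra h
      push Not at h
      exact hS1 ((Subgroup.eq_bot_iff_forall _).2 fun s hs => congrArg Subtype.val (h ⟨s, hs⟩))
    have h := Monoid.order_dvd_exponent z
    rwa [orderOf_eq_prime (hall z) hz] at h
  exfalso
  let f : S →* S := { toFun := fun x => x ^ p, map_one' := one_pow p, map_mul' := hmul }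
  have hrange : f.range ≤ Subgroup.center S := by
    rintro _ ⟨x, rfl⟩
    exact pow_mem_center_of_index_sq hi x
  have hcZ : Nat.card (Subgroup.center S) = p := by
    rw [← (le_antisymm hcomm hle' : commutator S = Subgroup.center S)]
    exact hcard
  have hker : f.ker.index = p := by
    rw [Subgroup.index_ker]
    have hd := Subgroup.card_dvd_of_le hrange
    rw [hcZ] at hd
    refine (hp.eq_one_or_self_of_dvd _ hd).resolve_left fun h => hall fun x => ?_
    have hx : f x ∈ f.range := ⟨x, rfl⟩
    rw [Subgroup.card_eq_one.1 h, Subgroup.mem_bot] at hx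
    exact hx
  have hPeq : ∀ P, F.IsEssential p P → f.ker.map S.subtype = P := by
    intro P hP
    obtain ⟨-, -, -, hPS, -⟩ := essential_of_index_sq hS hF hi hP
    have hle : P.subgroupOf S ≤ f.ker := fun x hx =>
      Subtype.ext (by
        show ((x ^ p : S) : Ω) = 1
        rw [Subgroup.coe_pow]; exact hess P hP x hx)
    have h : P.subgroupOf S = f.ker := by
      have h1 := Subgroup.relIndex_mul_index hle
      rw [hker, show (P.subgroupOf S).index = p from hPS] at h1
      exact le_antisymm hle (Subgroup.relIndex_eq_one.1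
        (Nat.eq_of_mul_eq_mul_right hp.pos (h1.trans (one_mul p).symm)))
    rw [← h, Subgroup.map_subgroupOf_eq_of_le hP.1.1]
  have hK : F.IsNormal (f.ker.map S.subtype) := by
    refine (isNormal_iff_essential hS hF).2 fun P hP => ?_
    rcases hP with rfl | hP
    · refine ⟨Subgroup.map_subtype_le _, fun α _ =>
        map_eq_of_invariant le_rfl (Subgroup.map_subtype_le _) fun x hx => ?_⟩
      obtain ⟨k, hk, e⟩ := hx
      rw [show k = x from Subtype.ext e] at hk
      refine ⟨α x, ?_, rfl⟩
      show (α x) ^ p = 1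
      rw [← map_pow, show x ^ p = 1 from hk, map_one]
    · rw [hPeq P hP]
      exact ⟨le_rfl, fun α _ => map_eq_of_invariant hP.1.1 le_rfl fun x _ => (α x).2⟩
  have hbot := (Subgroup.map_eq_bot_iff_of_injective _ S.subtype_injective).1
    (eq_bot_of_isNormal_of_core hcore hK)
  rw [hbot, Subgroup.index_bot, (hspecial hle').2] at hker
  have h := Nat.pow_lt_pow_right hp.one_lt (show 1 < 3 by norm_num)
  rw [pow_one] at h
  omega

end Cfsg.Agent.S5265
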