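import Cfsg.Statements.S5270
import Cfsg.Agent.Lib.FusionMaxClass.Basic
import Cfsg.Agent.Lib.Fusion.Normal
import Cfsg.Agent.Lib.Fusion.Alperin

set_option autoImplicit false
open Cfsg

namespace Cfsg.Agent.S5270

/-- Let p ≥ 5 be a prime, S a finite p-group of maximal class of order p^n with n ≥ 4, and F a saturated fusion system over S. If some map of F defined on the second centre Z₂(S) with image Z₂(S) does not carry Z(S) into itself, then the centralizer C_S(Z₂(S)) is an F-essential subgroup. -/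
theorem result {Ω : Type*} [Group Ω] {S : Subgroup Ω} [Finite S] (p : ℕ) [Fact p.Prime] (hS : IsPGroup p ↥S) (n : ℕ) (hn : Nat.card S = p ^ n) (h4 : 4 ≤ n) (hmax : Subgroup.lowerCentralSeries S (n - 2) ≠ ⊥) (F : Cfsg.FusionSystem S) (hF : F.IsSaturated p) (hp : 5 ≤ p) (φ : ↥((Subgroup.upperCentralSeries ↥S 2).map S.subtype) →* Ω) (hφ : φ ∈ F.Hom ((Subgroup.upperCentralSeries ↥S 2).map S.subtype)) (hφZ : φ.range = ((Subgroup.upperCentralSeries ↥S 2).map S.subtype)) (hmove : ∃ (z : Ω) (hz : z ∈ ((Subgroup.upperCentralSeries ↥S 2).map S.subtype)), z ∈ ((Subgroup.center ↥S).map S.subtype) ∧ φ ⟨z, hz⟩ ∉ ((Subgroup.center ↥S).map S.subtype)) : F.IsEssential p (S ⊓ Subgroup.centralizer (((Subgroup.upperCentralSeries ↥S 2).map S.subtype) : Set Ω)) := by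
  haveI : Finite ↥S := inferInstance
  have hmax' := CfsgLib.FusionMaxClass.top_lowerCentralSeries_ne_bot hmax
  have hZcard := CfsgLib.FusionMaxClass.card_center hn (by omega) hmax'
  have hZ2card := CfsgLib.FusionMaxClass.card_upperCentralSeries hn (by omega) hmax' (i := 2) (by omega)
  generalize hZ2 : (Subgroup.upperCentralSeries ↥S 2).map S.subtype = Z2 at φ hφ hφZ hmove ⊢
  generalize hZ : (Subgroup.center ↥S).map S.subtype = Z at hmove
  set C := S ⊓ Subgroup.centralizer (Z2 : Set Ω) with hC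
  have hpp : p.Prime := Fact.out
  have hZS : Z ≤ S := hZ ▸ Subgroup.map_subtype_le _
  have hZ2S : Z2 ≤ S := hZ2 ▸ Subgroup.map_subtype_le _
  have hcentral : ∀ z ∈ Z, ∀ s ∈ S, s * z = z * s := by
    subst hZ
    rintro _ ⟨z, hz, rfl⟩ s hs
    exact congrArg Subtype.val (Subgroup.mem_center_iff.1 hz ⟨s, hs⟩)
  have hmemZ : ∀ z ∈ S, (∀ s ∈ S, s * z = z * s) → z ∈ Z := fun z hz h => hZ ▸
    ⟨⟨z, hz⟩, Subgroup.mem_center_iff.2 fun s => Subtype.ext (h s s.2), rfl⟩
  have hcomm : ∀ w ∈ Z2, ∀ s ∈ S, s * w * s⁻¹ * w⁻¹ ∈ Z := by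
    subst hZ2 hZ
    rintro _ ⟨w, hw, rfl⟩ s hs
    have h1 := Subgroup.mem_upperCentralSeries_succ_iff.1 hw ⟨s, hs⟩
    rw [Subgroup.upperCentralSeries_one] at h1
    refine ⟨_, (Subgroup.center ↥S).inv_mem h1, ?_⟩
    simp [commutatorElement_def, mul_assoc]
  have hSN : S ≤ Subgroup.normalizer (Z2 : Set Ω) := by
    have key : ∀ s ∈ S, ∀ w ∈ Z2, s * w * s⁻¹ ∈ Z2 := by
      subst hZ2
      rintro s hs _ ⟨w, hw, rfl⟩
      exact ⟨_, Subgroup.Normal.conj_mem inferInstance w hw ⟨s, hs⟩, rfl⟩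
    intro s hs
    exact Subgroup.mem_normalizer_iff.2 fun w => ⟨key s hs w, fun hw => by
      simpa [mul_assoc] using key s⁻¹ (S.inv_mem hs) _ hw⟩
  have hCS : C ≤ S := inf_le_left
  have hcard2 : Nat.card Z2 = p ^ 2 :=
    hZ2 ▸ (Subgroup.card_map_of_injective S.subtype_injective).trans hZ2card
  have hcard1 : Nat.card Z = p :=
    hZ ▸ (Subgroup.card_map_of_injective S.subtype_injective).trans hZcard
  have hZZ2 : Z ≤ Z2 := by
    subst hZ2 hZ
    refine Subgroup.map_mono ?_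
    rw [← Subgroup.upperCentralSeries_one]
    exact Subgroup.upperCentralSeries_mono _ (by omega)
  haveI : Finite ↥Z2 := CfsgLib.Fusion.finite_of_le hZ2S
  obtain ⟨z, hz, hzZ, hmov⟩ := hmove
  set w : Ω := φ ⟨z, hz⟩ with hw
  have hwZ2 : w ∈ Z2 := by rw [← hφZ]; exact ⟨_, rfl⟩
  -- `Z2` is `Z` together with `w`
  have hgen : Z ⊔ Subgroup.zpowers w = Z2 := by
    have hle : Z ⊔ Subgroup.zpowers w ≤ Z2 := sup_le hZZ2 (Subgroup.zpowers_le.2 hwZ2)
    haveI : Finite ↥(Z ⊔ Subgroup.zpowers w) := CfsgLib.Fusion.finite_of_le (hle.trans hZ2S)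
    refine Subgroup.eq_of_le_of_card_ge hle ?_
    obtain ⟨k, hk⟩ := IsPGroup.iff_card.1 (hS.to_le (hle.trans hZ2S))
    rw [hcard2, hk]
    refine Nat.pow_le_pow_right hpp.pos ?_
    by_contra hk2
    have hZeq : Z = Z ⊔ Subgroup.zpowers w := by
      refine Subgroup.eq_of_le_of_card_ge le_sup_left ?_
      rw [hk, hcard1]
      exact (Nat.pow_le_pow_right hpp.pos (show k ≤ 1 by omega)).trans_eq (pow_one p)
    exact hmov (hZeq ▸ (le_sup_right (a := Z) (Subgroup.mem_zpowers w)))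
  have hCw : ∀ s ∈ S, s * w = w * s → s ∈ C := by
    intro s hs hsw
    refine ⟨hs, ?_⟩
    show s ∈ Subgroup.centralizer (Z2 : Set Ω)
    have : Z2 ≤ Subgroup.centralizer ({s} : Set Ω) := by
      rw [← hgen, sup_le_iff, Subgroup.zpowers_le]
      refine ⟨fun z hz => ?_, ?_⟩
      · rw [Subgroup.mem_centralizer_iff]
        intro t ht
        rw [Set.mem_singleton_iff.1 ht]
        exact hcentral z hz s hs
      · rw [Subgroup.mem_centralizer_iff]
        intro t ht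
        rw [Set.mem_singleton_iff.1 ht]
        exact hsw
    rw [Subgroup.mem_centralizer_iff]
    exact fun t ht => (Subgroup.mem_centralizer_iff.1 (this ht) s rfl).symm
  -- `C` has index `p`
  let f : ↥S →* ↥Z :=
    { toFun := fun s => ⟨(s : Ω) * w * (s : Ω)⁻¹ * w⁻¹, hcomm w hwZ2 s s.2⟩
      map_one' := Subtype.ext (by simp)
      map_mul' := fun s t => Subtype.ext (by
        have h := hcentral _ (hcomm w hwZ2 t t.2) s s.2
        show (↑(s * t) : Ω) * w * (↑(s * t) : Ω)⁻¹ * w⁻¹ =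
          ((s : Ω) * w * (s : Ω)⁻¹ * w⁻¹) * ((t : Ω) * w * (t : Ω)⁻¹ * w⁻¹)
        have h2 := hcentral _ (hcomm w hwZ2 t t.2) w (hZ2S hwZ2)
        have h3 := hcentral _ (hcomm w hwZ2 t t.2) ((s : Ω) * w * (s : Ω)⁻¹ * w⁻¹)
          (hZS (hcomm w hwZ2 s s.2))
        rw [h3]
        set d := (t : Ω) * w * (t : Ω)⁻¹ * w⁻¹ with hd
        calc (↑(s * t) : Ω) * w * (↑(s * t) : Ω)⁻¹ * w⁻¹
            = (s : Ω) * d * (w * (s : Ω)⁻¹ * w⁻¹) := by
              rw [hd, Subgroup.coe_mul]; simp [mul_assoc]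
          _ = d * (s : Ω) * (w * (s : Ω)⁻¹ * w⁻¹) := by rw [h]
          _ = d * ((s : Ω) * w * (s : Ω)⁻¹ * w⁻¹) := by simp [mul_assoc]) }
  have hker : f.ker = C.subgroupOf S := by
    ext s
    rw [MonoidHom.mem_ker, Subgroup.mem_subgroupOf]
    constructor
    · intro hs
      refine hCw s s.2 ?_
      have h1 : (s : Ω) * w * (s : Ω)⁻¹ * w⁻¹ = 1 := congrArg Subtype.val hs
      rw [mul_inv_eq_one, mul_inv_eq_iff_eq_mul] at h1
      exact h1
    · intro hs
      refine Subtype.ext ?_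
      show (s : Ω) * w * (s : Ω)⁻¹ * w⁻¹ = 1
      rw [← Subgroup.mem_centralizer_iff.1 hs.2 w hwZ2]
      simp
  have hidx : (C.subgroupOf S).index ∣ p := by
    rw [← hker, Subgroup.index_ker]
    exact hcard1 ▸ Subgroup.card_subgroup_dvd_card f.range
  have hCne : C < S := lt_of_le_of_ne hCS fun he => hmov (hmemZ w (hZ2S hwZ2) fun s hs =>
    ((Subgroup.mem_centralizer_iff.1 (he.ge hs).2 w hwZ2)).symm)
  have hmaxi : ∀ R : Subgroup Ω, C < R → R ≤ S → R = S := by
    intro R hCR hRS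
    have hmul := Subgroup.relIndex_mul_relIndex (C.subgroupOf S) (R.subgroupOf S) ⊤
      (fun x hx => hCR.le hx) le_top
    simp only [Subgroup.relIndex_top_right] at hmul
    rcases hpp.eq_one_or_self_of_dvd _ ((Dvd.intro _ hmul).trans hidx) with h1 | h1
    · refine absurd (fun x hx => ?_) hCR.not_ge
      have := Subgroup.relIndex_eq_one.1 h1 (show (⟨x, hRS hx⟩ : ↥S) ∈ R.subgroupOf S from hx)
      exact this
    · rw [h1] at hmul
      have h2 : p * (R.subgroupOf S).index ∣ p := hmul ▸ hidx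
      have h3 : (R.subgroupOf S).index = 1 := by
        have := Nat.dvd_of_mul_dvd_mul_left hpp.pos (h2.trans (dvd_of_eq (mul_one p).symm))
        exact Nat.dvd_one.1 this
      exact le_antisymm hRS fun x hx => by
        have h4 := Subgroup.index_eq_one.1 h3
        exact (h4.ge (Subgroup.mem_top (⟨x, hx⟩ : ↥S)) :)
  have hSNC : S ≤ Subgroup.normalizer (C : Set Ω) := by
    have key : ∀ s ∈ S, ∀ c ∈ C, s * c * s⁻¹ ∈ C := by
      intro s hs c hc
      refine ⟨S.mul_mem (S.mul_mem hs hc.1) (S.inv_mem hs), ?_⟩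
      show s * c * s⁻¹ ∈ Subgroup.centralizer (Z2 : Set Ω)
      rw [Subgroup.mem_centralizer_iff]
      intro t ht
      have ht' : s⁻¹ * t * s ∈ Z2 := (Subgroup.mem_normalizer_iff''.1 (hSN hs) t).1 ht
      have := Subgroup.mem_centralizer_iff.1 hc.2 _ ht'
      calc t * (s * c * s⁻¹) = s * (s⁻¹ * t * s * c) * s⁻¹ := by simp [mul_assoc]
        _ = s * (c * (s⁻¹ * t * s)) * s⁻¹ := by rw [this]
        _ = s * c * s⁻¹ * t := by simp [mul_assoc]
    intro s hs
    exact Subgroup.mem_normalizer_iff.2 fun c => ⟨key s hs c, fun hc => by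
      simpa [mul_assoc] using key s⁻¹ (S.inv_mem hs) _ hc⟩
  have hfnC : F.IsFullyNormalized C := ⟨hCS, fun R _ => by
    rw [show Cfsg.FusionSystem.normalizerIn S C = S from inf_eq_left.2 hSNC]
    exact Subgroup.card_le_of_le (CfsgLib.Fusion.normalizerIn_le S R)⟩
  refine CfsgLib.Fusion.isEssential_of_extendableAut_ne hS hF hCne hfnC fun heq => ?_
  -- the given map extends to `C`
  have hfn2 : F.IsFullyNormalized Z2 := ⟨hZ2S, fun R _ => by
    rw [show Cfsg.FusionSystem.normalizerIn S Z2 = S from inf_eq_left.2 hSN]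
    exact Subgroup.card_le_of_le (CfsgLib.Fusion.normalizerIn_le S R)⟩
  obtain ⟨ψ, hψ, hag⟩ := (CfsgLib.Fusion.isReceptive_of_isFullyNormalized hS hF hfn2).2 Z2 φ hφ hφZ
  have hle : C ≤ Cfsg.FusionSystem.extender S Z2 φ := CfsgLib.Fusion.centralizerIn_le_extender φ
  have hZ2C : Z2 ≤ C := by
    refine le_inf hZ2S ?_
    rw [← hgen, sup_le_iff, Subgroup.zpowers_le]
    refine ⟨fun t ht => ?_, ?_⟩
    · show t ∈ Subgroup.centralizer ((Z ⊔ Subgroup.zpowers w : Subgroup Ω) : Set Ω)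
      rw [Subgroup.mem_centralizer_iff]
      intro u hu
      rw [SetLike.mem_coe, hgen] at hu
      exact hcentral t ht u (hZ2S hu)
    · show w ∈ Subgroup.centralizer ((Z ⊔ Subgroup.zpowers w : Subgroup Ω) : Set Ω)
      rw [Subgroup.mem_centralizer_iff]
      intro u hu
      have : Z ⊔ Subgroup.zpowers w ≤ Subgroup.centralizer ({w} : Set Ω) := by
        rw [sup_le_iff, Subgroup.zpowers_le]
        refine ⟨fun z hz => ?_, ?_⟩
        · rw [Subgroup.mem_centralizer_iff]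
          intro t ht
          rw [Set.mem_singleton_iff.1 ht]
          exact hcentral z hz w (hZ2S hwZ2)
        · rw [Subgroup.mem_centralizer_iff]
          intro t ht
          rw [Set.mem_singleton_iff.1 ht]
      exact (Subgroup.mem_centralizer_iff.1 (this hu) w rfl).symm
  have hval : ∀ x : ↥C, ψ (Subgroup.inclusion hle x) ∈ C := by
    intro x
    refine ⟨CfsgLib.Fusion.map_mem hψ _, ?_⟩
    show ψ _ ∈ Subgroup.centralizer (Z2 : Set Ω)
    rw [Subgroup.mem_centralizer_iff]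
    intro t ht
    rw [SetLike.mem_coe, ← hφZ] at ht
    obtain ⟨u, rfl⟩ := ht
    rw [← hag u u.2 (hle (hZ2C u.2))]
    rw [← map_mul, ← map_mul]
    exact congrArg ψ (Subtype.ext (Subgroup.mem_centralizer_iff.1 x.2.2 u u.2))
  haveI : Finite ↥C := CfsgLib.Fusion.finite_of_le hCS
  obtain ⟨α, hα, hαψ⟩ := CfsgLib.Fusion.exists_aut (CfsgLib.Fusion.restrict_mem hψ hle)
    (CfsgLib.Fusion.range_eq_of_le (CfsgLib.Fusion.hom_inj (CfsgLib.Fusion.restrict_mem hψ hle)) hval)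
  -- automorphisms extending further preserve `Z`
  have hpres : ∀ β ∈ CfsgLib.Fusion.extendableAut F C, ∀ x : ↥C, (x : Ω) ∈ Z ↔ ((β x : ↥C) : Ω) ∈ Z := by
    intro β hβ
    refine Subgroup.closure_induction
      (p := fun (β : MulAut ↥C) _ => ∀ x : ↥C, (x : Ω) ∈ Z ↔ ((β x : ↥C) : Ω) ∈ Z) ?_ ?_ ?_ ?_ hβ
    · rintro β ⟨R, hR, χ, hχ, hχβ⟩ x
      have hRS : R = S := hmaxi R hR (CfsgLib.Fusion.dom_le hχ)
      subst hRS
      obtain ⟨γ, -, hγ⟩ := CfsgLib.Fusion.exists_aut hχ (CfsgLib.Fusion.range_eq_of_le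
        (CfsgLib.Fusion.hom_inj hχ) (CfsgLib.Fusion.map_mem hχ))
      have hval2 : ((β x : ↥C) : Ω) = ((γ ⟨x, hR.le x.2⟩ : ↥R) : Ω) := by
        rw [hγ]; exact (hχβ x).symm
      have hc : ∀ y : ↥R, (y : Ω) ∈ Z ↔ y ∈ Subgroup.center ↥R := fun y => hZ ▸
        ⟨by rintro ⟨y', hy', he⟩; rwa [← Subtype.ext he], fun h => ⟨y, h, rfl⟩⟩
      rw [hval2, hc, show (x : Ω) ∈ Z ↔ (⟨x, hR.le x.2⟩ : ↥R) ∈ Subgroup.center ↥R from hc ⟨x, _⟩]
      constructor
      · intro h
        have h5 := Subgroup.characteristic_iff_map_eq.1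
          (inferInstance : (Subgroup.center ↥R).Characteristic) γ
        exact h5 ▸ ⟨_, h, rfl⟩
      · intro h
        have h5 := Subgroup.characteristic_iff_comap_eq.1
          (inferInstance : (Subgroup.center ↥R).Characteristic) γ
        exact h5 ▸ h
    · intro x; rfl
    · intro β γ _ _ hβ hγ x
      exact (hγ x).trans (hβ (γ x))
    · intro β _ hβ x
      have := hβ (β⁻¹ x)
      rw [MulAut.apply_inv_self] at this
      exact this.symm
  have h6 := (hpres α (heq.symm ▸ hα) ⟨z, hZ2C hz⟩).1 hzZ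
  rw [hαψ] at h6
  exact hmov (by show φ ⟨z, hz⟩ ∈ Z; rw [← hag z hz (hle (hZ2C hz))]; exact h6)

end Cfsg.Agent.S5270
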