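import Cfsg.Statements.S5272
import Cfsg.Agent.S5195
import Cfsg.Agent.Lib.FusionControl.AxiomaticFusion
import Cfsg.Agent.Lib.Fusion.InnerCases

set_option autoImplicit false
open Cfsg Cfsg.FusionSystem CfsgLib.Fusion CfsgLib.FusionControl

namespace Cfsg.Agent.S5272

/-- The automizer of a fully normalized `U` is a p-group once that of `U C_S(U)` is. -/
theorem autGroup_isPGroup_of_sup {Ω : Type*} [Group Ω] {S : Subgroup Ω} [Finite S] {p : ℕ}
    {F : Cfsg.FusionSystem S} {U : Subgroup Ω} (hU : F.IsReceptive U)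
    (hX : IsPGroup p (F.autGroup (U ⊔ centralizerIn S U))) : IsPGroup p (F.autGroup U) := by
  rintro ⟨α, hα⟩
  have hUS : U ≤ S := hU.1
  have hR0S : U ⊔ centralizerIn S U ≤ S := sup_le hUS (centralizerIn_le S U)
  have : Finite ↥(U ⊔ centralizerIn S U) := finite_of_le hR0S
  set φ := U.subtype.comp α.toMonoidHom with hφdef
  have hφ : φ ∈ F.Hom U := (mem_autGroup_iff_hom hUS).1 hα
  obtain ⟨ψ, hψ, hag⟩ := hU.2 U φ hφ (range_subtype_comp (α : U ≃* U))
  have hext : U ⊔ centralizerIn S U ≤ extender S U φ :=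
    sup_le (le_extender hUS (map_mem hφ)) (centralizerIn_le_extender φ)
  set χ := ψ.comp (Subgroup.inclusion hext) with hχdef
  have hχU : ∀ u : U, χ (Subgroup.inclusion le_sup_left u) = (α u : Ω) := fun u => hag _ u.2 _
  have hχ : ∀ x, χ x ∈ U ⊔ centralizerIn S U := by
    refine forall_mem_of_sup (fun u => ?_) (fun c => ?_)
    · rw [hχU]
      exact le_sup_left (b := centralizerIn S U) (α u).2
    · refine le_sup_right (a := U) ⟨map_mem hψ _, Subgroup.mem_centralizer_iff.2 fun u hu => ?_⟩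
      have h1 : u = χ (Subgroup.inclusion le_sup_left (α.symm ⟨u, hu⟩)) := by
        rw [hχU, MulEquiv.apply_symm_apply]
      rw [h1, ← map_mul, ← map_mul]
      exact congrArg χ (Subtype.ext (Subgroup.mem_centralizer_iff.1 c.2.2 _ (α.symm ⟨u, hu⟩).2))
  obtain ⟨β, hβ, hβx⟩ := exists_aut (restrict_mem hψ hext)
    (range_eq_of_le (hom_inj (restrict_mem hψ hext)) hχ)
  obtain ⟨k, hk⟩ := hX ⟨β, hβ⟩
  have hpow : ∀ (n : ℕ) (u : U),
      (β ^ n) (Subgroup.inclusion le_sup_left u) = Subgroup.inclusion le_sup_left ((α ^ n) u) := by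
    intro n
    induction n with
    | zero => exact fun u => rfl
    | succ n ih =>
      intro u
      rw [pow_succ', MulAut.mul_apply, ih, pow_succ', MulAut.mul_apply]
      exact Subtype.ext ((hβx _).trans (hχU _))
  refine ⟨k, Subtype.ext (MulEquiv.ext fun u =>
    Subgroup.inclusion_injective (le_sup_left (b := centralizerIn S U)) ?_)⟩
  rw [SubgroupClass.coe_pow, ← hpow, show β ^ p ^ k = 1 from congrArg Subtype.val hk]
  rfl

/-- An axiomatic Glauberman–Thompson nilpotency criterion for fusion systems. Let p be an odd prime, F a saturated fusion system over a finite p-group S, and 𝒜 a nonempty family of abelian subgroups of S. For Q ≤ S write I(Q) for the intersection of the members of 𝒜 contained in Q. Assume (invariance) that for every Q ≤ S containing a member of 𝒜, every F-automorphism of Q maps I(Q) into itself, and (replacement) that for every subgroup B of S of nilpotency class at most 2, if some member of 𝒜 contains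 [B,B] but not B, then B normalizes some member of 𝒜 that contains [B,B] but not B. Then F is the inner fusion system of S if and only if the normalizer fusion system of I(S) in F is the inner fusion system of N_S(I(S)). -/
theorem result {Ω : Type*} [Group Ω] {S : Subgroup Ω} [Finite S] (p : ℕ) [Fact p.Prime] (hS : IsPGroup p ↥S) (F : Cfsg.FusionSystem S) (hF : F.IsSaturated p) (hp : p ≠ 2) (𝒜 : Set (Subgroup Ω)) (h𝒜 : ∀ A ∈ 𝒜, A ≤ S ∧ IsMulCommutative ↥A) (hne : 𝒜.Nonempty) (hinv : ∀ Q : Subgroup Ω, Q ≤ S → (∃ A ∈ 𝒜, A ≤ Q) → ∀ α ∈ F.autGroup Q, ∀ x : ↥Q, (x : Ω) ∈ (⨅ A ∈ {A : Subgroup Ω | A ∈ 𝒜 ∧ A ≤ Q}, A) → (((α : MulAut ↥Q) x : ↥Q) : Ω) ∈ (⨅ A ∈ {A : Subgroup Ω | A ∈ 𝒜 ∧ A ≤ Q}, A)) (hrep : ∀ B : Subgroup Ω, B ≤ S → ⁅⁅B, B⁆, B⁆ = ⊥ → (∃ A ∈ 𝒜, ⁅B, B⁆ ≤ A ∧ ¬ B ≤ A) → ∃ A ∈ 𝒜, ⁅B, B⁆ ≤ A ∧ ¬ B ≤ A ∧ B ≤ Subgroup.normalizer (A : Set Ω)) : (∀ P : Subgroup Ω, F.Hom P = (Cfsg.innerFusionSystem S).Hom P) ↔ ∀ N : Cfsg.FusionSystem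 (Cfsg.FusionSystem.normalizerIn S (⨅ A ∈ 𝒜, A)), F.IsNormalizerSystem (⨅ A ∈ 𝒜, A) N → ∀ P : Subgroup Ω, N.Hom P = (Cfsg.innerFusionSystem (Cfsg.FusionSystem.normalizerIn S (⨅ A ∈ 𝒜, A))).Hom P := by
  set I := (⨅ A ∈ 𝒜, A) with hIdef
  obtain ⟨A₀, hA₀⟩ := hne
  have hIS : I ≤ S := (iInf₂_le A₀ hA₀).trans (h𝒜 A₀ hA₀).1
  have hfam : (⨅ A ∈ {A : Subgroup Ω | A ∈ 𝒜 ∧ A ≤ S}, A) = I :=
    le_antisymm (le_iInf₂ fun A hA => iInf₂_le A (show A ∈ {A : Subgroup Ω | A ∈ 𝒜 ∧ A ≤ S} from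
      ⟨hA, (h𝒜 A hA).1⟩)) (le_iInf₂ fun A hA => iInf₂_le A hA.1)
  have hSI : S ≤ Subgroup.normalizer (I : Set Ω) := by
    have key : ∀ g ∈ S, ∀ x ∈ I, g * x * g⁻¹ ∈ I := by
      intro g hg x hx
      have hα : conjAut S g (Subgroup.le_normalizer hg) ∈ F.autGroup S :=
        autInducedBy_le_autGroup F le_rfl (conjAut_mem_autInducedBy hg _)
      have h1 := hinv S le_rfl ⟨A₀, hA₀, (h𝒜 A₀ hA₀).1⟩ _ hα ⟨x, hIS hx⟩ (by rw [hfam]; exact hx)
      rw [hfam, conjAut_apply] at h1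
      exact h1
    intro g hg
    rw [Subgroup.mem_normalizer_iff]
    exact fun x => ⟨key g hg x, fun h => by simpa [mul_assoc] using key g⁻¹ (S.inv_mem hg) _ h⟩
  have hNS : normalizerIn S I = S := normalizerIn_eq_of_le hSI
  constructor
  · intro hF' N hN P
    refine Set.Subset.antisymm ?_ (inner_le N P)
    intro φ hφ
    rw [hN P] at hφ
    have h1 : φ ∈ (Cfsg.innerFusionSystem S).Hom P := hF' P ▸ hφ.1
    obtain ⟨-, g, hg, hv⟩ := h1
    exact ⟨hφ.2.1, g, ⟨hg, hSI hg⟩, hv⟩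
  · intro h
    have hN := isNormalizerSystem_normalizerSystem F I hIS
    have hNI : ∀ P, F.normalizerHom I P ⊆ (Cfsg.innerFusionSystem S).Hom P := by
      intro P φ hφ
      rw [← hN P, h _ hN P] at hφ
      obtain ⟨hP, g, hg, hv⟩ := hφ
      exact ⟨hP.trans (normalizerIn_le S I), g, hg.1, hv⟩
    refine S5195.result p hS F hF (Or.inl hp) fun Q hQS _ hQc => ?_
    have hSQ := normalizer_of_characteristic hQS hQc
    have hfn : F.IsFullyNormalized Q := isFullyNormalized_of_le_normalizer hQS hSQ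
    refine autGroup_isPGroup_of_sup (isReceptive_of_isFullyNormalized hS hF hfn) ?_
    have hXS : Q ⊔ centralizerIn S Q ≤ S := sup_le hQS (centralizerIn_le S Q)
    have hSX : S ≤ Subgroup.normalizer ((Q ⊔ centralizerIn S Q : Subgroup Ω) : Set Ω) := fun g hg =>
      mem_normalizer_sup (hSQ hg)
        (mem_normalizer_inf (Subgroup.le_normalizer hg) (mem_normalizer_centralizer (hSQ hg)))
    refine isPGroup_autGroup_of_axiomatic hS hF hp 𝒜 h𝒜 ⟨A₀, hA₀⟩ hinv hrep hSI hNI ?_ hSX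
    refine Descent.isCentric_of_centralizerIn_le (isFullyCentralized_of_isFullyNormalized hS hF
      (isFullyNormalized_of_le_normalizer hXS hSX)) ?_
    intro g hg
    exact (le_sup_right : centralizerIn S Q ≤ Q ⊔ centralizerIn S Q) ⟨hg.1, Subgroup.centralizer_le
      (SetLike.coe_subset_coe.2 (le_sup_left : Q ≤ Q ⊔ centralizerIn S Q)) hg.2⟩

end Cfsg.Agent.S5272
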