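import Cfsg.Statements.S5296
import Cfsg.Agent.Lib.Fusion.CriticalSmall
import Cfsg.Agent.Lib.Fusion.Hyperfocal
import Cfsg.Agent.Lib.Fusion.Descent

set_option autoImplicit false
universe u
open Cfsg

namespace Cfsg.Agent.S5296

open Cfsg.FusionSystem CfsgLib.Fusion CfsgLib.Fusion.SmallFix CfsgLib.Fusion.Stability
open CfsgLib.Fusion.Descent (card_lt_card_of_lt)
open scoped commutatorElement

variable {Ω : Type*} [Group Ω] {S : Subgroup Ω} {F E : Cfsg.FusionSystem S} {p : ℕ}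
  {P : Subgroup Ω}

/-- the two systems have the same maps between small abelian subgroups of `R` -/
def AgreeSmall (E F : Cfsg.FusionSystem S) (R : Subgroup Ω) (p : ℕ) : Prop :=
  ∀ (A B : Subgroup Ω), A ≤ R → B ≤ R → IsMulCommutative A → IsMulCommutative B →
    (∀ a ∈ A, IsSmall p a) → (∀ b ∈ B, IsSmall p b) → F.homSet A B ⊆ E.homSet A B

theorem exists_abelian [Finite S] [Fact p.Prime] (hS : IsPGroup p S) (hPS : P ≤ S)
    (V : Subgroup P) (hV : ∀ t ∈ autInducedBy S P, ∀ x ∈ V, t x ∈ V) :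
    ∃ A : Subgroup P, A ≤ V ∧ (∀ a ∈ A, ∀ b ∈ A, a * b = b * a) ∧
      (∀ t ∈ autInducedBy S P, ∀ a ∈ A, t a ∈ A) ∧ ∀ x ∈ V, (∀ a ∈ A, a * x = x * a) → x ∈ A := by
  classical
  have : Finite P := finite_of_le hPS
  have : Group.IsNilpotent S := hS.isNilpotent
  obtain ⟨A, ⟨hAV, hA, hAt⟩, hmax⟩ := (Set.toFinite {A : Subgroup P | A ≤ V ∧
    (∀ a ∈ A, ∀ b ∈ A, a * b = b * a) ∧ ∀ t ∈ autInducedBy S P, ∀ a ∈ A, t a ∈ A}).exists_maximal
    ⟨⊥, bot_le, fun a ha b hb => by rw [Subgroup.mem_bot.1 ha, Subgroup.mem_bot.1 hb],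
      fun t _ a ha => by rw [Subgroup.mem_bot.1 ha, map_one]; exact one_mem _⟩
  refine ⟨A, hAV, hA, hAt, ?_⟩
  by_contra hc
  push Not at hc
  obtain ⟨x₀, hx₀V, hx₀c, hx₀A⟩ := hc
  have hex : ∃ i, ∃ c ∈ V, (∀ a ∈ A, a * c = c * a) ∧ c ∉ A ∧
      Subgroup.inclusion hPS c ∈ Subgroup.upperCentralSeries S i :=
    ⟨Group.nilpotencyClass S, x₀, hx₀V, hx₀c, hx₀A, by
      rw [Subgroup.upperCentralSeries_nilpotencyClass]; exact Subgroup.mem_top _⟩
  obtain ⟨c, hcV, hcA, hcA', hci⟩ := Nat.find_spec hex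
  obtain ⟨j, hj⟩ : ∃ j, Nat.find hex = j + 1 := by
    rcases h : Nat.find hex with _ | j
    · rw [h, Subgroup.upperCentralSeries_zero, Subgroup.mem_bot] at hci
      exact absurd (Subgroup.inclusion_injective hPS (hci.trans (map_one _).symm) ▸ A.one_mem) hcA'
    · exact ⟨j, rfl⟩
  rw [hj] at hci
  have hstep : ∀ t ∈ autInducedBy S P, c⁻¹ * t c ∈ A := by
    intro t ht
    by_contra hd
    refine Nat.find_min hex (m := j) (by omega) ⟨c⁻¹ * t c, mul_mem (inv_mem hcV) (hV t ht c hcV),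
      fun a ha => ?_, hd, ?_⟩
    · obtain ⟨b, hb⟩ : ∃ b, t b = a := t.surjective a
      have hbA : b ∈ A := by
        have := hAt t⁻¹ (inv_mem ht) a ha
        rwa [← hb, MulAut.inv_apply_self] at this
      have h1 : a * t c = t c * a := by rw [← hb, ← map_mul, ← map_mul, hcA b hbA]
      have h2 : a * c⁻¹ = c⁻¹ * a := by
        rw [eq_inv_mul_iff_mul_eq, ← mul_assoc, ← hcA a ha, mul_assoc, mul_inv_cancel, mul_one]
      rw [← mul_assoc, h2, mul_assoc, h1, mul_assoc]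
    · obtain ⟨g, hgn, hgS, rfl⟩ := exists_eq_conjAut ht
      have e : Subgroup.inclusion hPS (c⁻¹ * conjAut P g hgn c) =
          ⁅(Subgroup.inclusion hPS c)⁻¹, (⟨g, hgS⟩ : S)⁆ :=
        Subtype.ext (by simp [commutatorElement_def, conjAut_apply, mul_assoc])
      rw [e]
      exact Subgroup.mem_upperCentralSeries_succ_iff.1 (inv_mem hci) _
  set A₁ := A ⊔ Subgroup.zpowers c with hA₁
  have h1 : A₁ ≤ Subgroup.centralizer (A : Set P) :=
    sup_le (fun a ha => Subgroup.mem_centralizer_iff.2 fun b hb => hA b hb a ha)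
      (Subgroup.zpowers_le.2 (Subgroup.mem_centralizer_iff.2 fun b hb => hcA b hb))
  have h2 : A₁ ≤ Subgroup.centralizer ({c} : Set P) :=
    sup_le (fun a ha => Subgroup.mem_centralizer_singleton_iff.2 (hcA a ha))
      (Subgroup.zpowers_le.2 (Subgroup.mem_centralizer_singleton_iff.2 rfl))
  have h3 : A₁ ≤ Subgroup.centralizer (A₁ : Set P) := by
    refine sup_le (Subgroup.le_centralizer_iff.1 h1) (Subgroup.zpowers_le.2 ?_)
    exact Subgroup.mem_centralizer_iff.2 fun b hb =>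
      Subgroup.mem_centralizer_singleton_iff.1 (h2 hb)
  refine hcA' (hmax (y := A₁) ⟨sup_le hAV (Subgroup.zpowers_le.2 hcV),
    fun a ha b hb => (Subgroup.mem_centralizer_iff.1 (h3 hb) a ha), fun t ht => ?_⟩ le_sup_left
    (Subgroup.mem_sup_right (Subgroup.mem_zpowers c)))
  have h4 : A₁ ≤ A₁.comap t.toMonoidHom := by
    refine sup_le (fun a ha => Subgroup.mem_sup_left (hAt t ht a ha)) (Subgroup.zpowers_le.2 ?_)
    show t c ∈ A₁
    simpa using A₁.mul_mem (Subgroup.mem_sup_right (Subgroup.mem_zpowers c))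
      (Subgroup.mem_sup_left (hstep t ht))
  exact fun a ha => h4 ha

theorem fix_le_sylow [Finite S] [Fact p.Prime] (hS : IsPGroup p S) (hP : F.IsFullyAutomized p P)
    {A : Subgroup P} (hAt : ∀ t ∈ autInducedBy S P, ∀ a ∈ A, t a ∈ A)
    (hfaith : ∀ α ∈ F.autGroup P, (orderOf α).Coprime p → (∀ a ∈ A, α a = a) → α = 1)
    {α : MulAut P} (hα : α ∈ F.autGroup P) (hfix : ∀ a ∈ A, α a = a) : α ∈ autInducedBy S P := by
  have : Finite P := finite_of_le hP.1
  have : Finite (MulAut P) := finite_mulAut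
  obtain ⟨-, T, hT⟩ := hP
  let C : Subgroup (F.autGroup P) :=
    { carrier := {γ | ∀ a ∈ A, (γ : MulAut P) a = a}
      one_mem' := fun a _ => rfl
      mul_mem' := by
        intro γ δ hγ hδ a ha
        show (γ : MulAut P) ((δ : MulAut P) a) = a
        rw [hδ a ha, hγ a ha]
      inv_mem' := by
        intro γ hγ a ha
        show (γ : MulAut P)⁻¹ a = a
        conv_lhs => rw [← hγ a ha]
        exact MulAut.inv_apply_self _ _ _ }
  have hCp : IsPGroup p C := isPGroup_of_coprime_eq_one fun γ hγ =>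
    Subtype.ext (Subtype.ext (hfaith _ γ.1.2
      (by rw [Subgroup.orderOf_coe, Subgroup.orderOf_coe]; exact hγ) γ.2))
  have hTn : (T : Subgroup (F.autGroup P)) ≤ Subgroup.normalizer (C : Set (F.autGroup P)) := by
    refine Subgroup.le_normalizer_iff.2 fun t ht γ hγ a ha => ?_
    have ht' : (t : MulAut P) ∈ autInducedBy S P := by rw [hT] at ht; exact ht
    show (t : MulAut P) ((γ : MulAut P) ((t : MulAut P)⁻¹ a)) = a
    rw [hγ _ (hAt _ (inv_mem ht') a ha), MulAut.apply_inv_self]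
  have hsup : C ⊔ (T : Subgroup (F.autGroup P)) = T :=
    T.3 (IsPGroup.to_sup_of_normal_left' hCp T.2 hTn) le_sup_right
  have hmem : (⟨α, hα⟩ : F.autGroup P) ∈ (T : Subgroup (F.autGroup P)) :=
    hsup ▸ Subgroup.mem_sup_left (show (⟨α, hα⟩ : F.autGroup P) ∈ C from hfix)
  rw [hT] at hmem
  exact hmem

theorem aut_le [Finite S] [Fact p.Prime] (hS : IsPGroup p S) (hE : E.IsSaturated p)
    (hF : F.IsSaturated p) (hEF : ∀ X, E.Hom X ⊆ F.Hom X)
    (hag : AgreeSmall E F (F.hyperfocalSubgroup p) p) (hQ : F.IsFullyNormalized P)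
    (hbig : ∀ X : Subgroup Ω, Nat.card P < Nat.card X → F.Hom X ⊆ E.Hom X) :
    F.autGroup P ≤ E.autGroup P := by
  have hPS : P ≤ S := hQ.1
  have : Finite P := finite_of_le hPS
  have : Finite (MulAut P) := finite_mulAut
  have hPp := isPGroup_of_le hS hPS
  have hH := stronglyClosed_hyperfocal hS hF
  set R := F.hyperfocalSubgroup p with hR
  obtain ⟨D, hDc, hDs, hDf⟩ := exists_small_characteristic hPp
  have hDinv : ∀ (α : MulAut P), ∀ x ∈ D, α x ∈ D := fun α x hx =>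
    Subgroup.characteristic_iff_le_comap.1 hDc α hx
  obtain ⟨A, hAV, hAc, hAt, hAmax⟩ := exists_abelian hS hPS (R.subgroupOf P ⊓ D)
    fun t ht x hx => Subgroup.mem_inf.2
      ⟨aut_mem hH hPS (autInducedBy_le_autGroup F hPS ht) hx.1, hDinv t x hx.2⟩
  have hAn : ∀ x : P, ∀ a ∈ A, x * a * x⁻¹ ∈ A := by
    intro x a ha
    have := hAt _ (conjAut_mem_autInducedBy (K := S) (hPS x.2) (Subgroup.le_normalizer x.2)) a ha
    exact (show x * a * x⁻¹ = conjAut P x (Subgroup.le_normalizer x.2) a from Subtype.ext rfl) ▸ this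
  have hfaith : ∀ α ∈ F.autGroup P, (orderOf α).Coprime p → (∀ a ∈ A, α a = a) → α = 1 := by
    intro α hα hord hfix
    have hdisp : ∀ x : P, ((x⁻¹ * α x : P) : Ω) ∈ R := fun x => Subgroup.subset_closure
      ⟨P, ⟨α, hα⟩, x, hPS,
        Subgroup.subset_closure (by show Nat.Coprime _ p; rwa [← Subgroup.orderOf_coe]), rfl⟩
    have hV : ∀ x ∈ R.subgroupOf P ⊓ D, α x = x := by
      intro x hx
      refine eq_self_of_disp_fixed hPp α hord (hfix _ (hAmax _ ?_ fun a ha => ?_))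
      · exact mul_mem (inv_mem hx) (Subgroup.mem_inf.2 ⟨aut_mem hH hPS hα hx.1, hDinv α x hx.2⟩)
      · have h1 := hfix _ (hAn x a ha)
        rw [map_mul, map_mul, map_inv, hfix a ha] at h1
        calc a * (x⁻¹ * α x) = x⁻¹ * (x * a * x⁻¹) * α x := by simp [mul_assoc]
          _ = x⁻¹ * (α x * a * (α x)⁻¹) * α x := by rw [h1]
          _ = _ := by simp [mul_assoc]
    exact hDf α hord fun x hx => eq_self_of_disp_fixed hPp α hord (hV _ (Subgroup.mem_inf.2
      ⟨hdisp x, mul_mem (inv_mem hx) (hDinv α x hx)⟩))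
  have hfixT : ∀ α ∈ F.autGroup P, (∀ a ∈ A, α a = a) → α ∈ E.autGroup P := fun α hα hfix =>
    autInducedBy_le_autGroup E hPS
      (fix_le_sylow hS (isFullyAutomized_of_isFullyNormalized hS hF hQ) hAt hfaith hα hfix)
  -- the image of `A` in `Ω`
  set AΩ : Subgroup Ω := A.map P.subtype with hAΩ
  have hAP : AΩ ≤ P := Subgroup.map_subtype_le A
  -- a map in both systems moving `A` to a receptive subgroup
  obtain ⟨ψ, hψF, hψE, hψn⟩ : ∃ ψ : P →* Ω, ψ ∈ F.Hom P ∧ ψ ∈ E.Hom P ∧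
      E.IsFullyNormalized (A.map ψ) := by
    rcases eq_or_lt_of_le hPS with hPS' | hlt
    · refine ⟨P.subtype, subtype_mem F hPS, subtype_mem E hPS, hAP.trans hPS, fun B hB => ?_⟩
      have hN : normalizerIn S AΩ = S := inf_eq_left.2 (Subgroup.le_normalizer_iff.2 fun s hs => by
        subst hPS'
        rintro _ ⟨a, ha, rfl⟩
        exact ⟨_, hAn ⟨s, hs⟩ a ha, rfl⟩)
      rw [← hAΩ, hN]
      exact Nat.card_le_card_of_injective _ (Subgroup.inclusion_injective (normalizerIn_le S B))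
    · obtain ⟨A₀, hconj, hA₀⟩ := exists_isFullyNormalized F (hAP.trans hPS)
      obtain ⟨e, -, χ, hχ, -, hagχ⟩ := exists_normalizer_map hS hF hA₀ hconj
      have hUA : normalizerIn S P ≤ normalizerIn S AΩ :=
        le_inf (normalizerIn_le S P) (Subgroup.le_normalizer_iff.2 fun g hg => by
          rintro _ ⟨a, ha, rfl⟩
          exact ⟨_, hAt _ (conjAut_mem_autInducedBy hg.1 hg.2) a ha, rfl⟩)
      have hχU := restrict_mem hχ hUA
      have hcard := card_lt_card_of_lt (normalizerIn_le S P) (lt_normalizerIn hS hlt)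
      have hPU : P ≤ normalizerIn S P := le_normalizerIn hPS
      refine ⟨_, restrict_mem hχU hPU, restrict_mem (hbig _ hcard hχU) hPU, ?_⟩
      have heq : A.map ((χ.comp (Subgroup.inclusion hUA)).comp (Subgroup.inclusion hPU)) = A₀ := by
        ext y
        constructor
        · rintro ⟨a, ha, rfl⟩
          have : (e ⟨a, a, ha, rfl⟩ : Ω) = _ := (hagχ ⟨a, a, ha, rfl⟩).symm
          exact this ▸ (e _).2
        · intro hy
          obtain ⟨⟨z, a, ha, rfl⟩, hz⟩ := e.surjective ⟨y, hy⟩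
          refine ⟨a, ha, ?_⟩
          exact (hagχ ⟨_, a, ha, rfl⟩).trans (congrArg Subtype.val hz)
      rw [heq]
      exact ⟨hA₀.1, fun B ⟨φ, hφ, hr⟩ => hA₀.2 B ⟨φ, hEF _ hφ, hr⟩⟩
  intro g hg
  have hgF : IsFIso F (g : P ≃* P) := (mem_autGroup_iff hPS).1 hg
  set A' : Subgroup Ω := (A.map g.toMonoidHom).map P.subtype with hA'
  have hA'P : A' ≤ P := Subgroup.map_subtype_le _
  have hA'n : P ≤ normalizerIn S A' := le_inf hPS (Subgroup.le_normalizer_iff.2 fun x hx => by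
    rintro _ ⟨_, ⟨a, ha, rfl⟩, rfl⟩
    refine ⟨_, ⟨_, hAn (g⁻¹ ⟨x, hx⟩) a ha, rfl⟩, ?_⟩
    simp)
  obtain ⟨q, hq, hqx⟩ := exists_iso hψF rfl
  -- `ψ ∘ g⁻¹` on `A'`
  set χ₀ : P →* Ω := ψ.comp (g⁻¹).toMonoidHom with hχ₀
  have hχ₀F : χ₀ ∈ F.Hom P := mem_of_comp
    ((mem_autGroup_iff hPS).1 (inv_mem hg)) hψF (fun x => (g⁻¹ x).2) χ₀ fun _ => rfl
  set χ₁ : A' →* Ω := χ₀.comp (Subgroup.inclusion hA'P) with hχ₁
  have hr : χ₁.range = A.map ψ := by
    refine le_antisymm ?_ ?_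
    · rintro _ ⟨⟨_, _, ⟨a, ha, rfl⟩, rfl⟩, rfl⟩
      refine ⟨a, ha, ?_⟩
      show ψ a = ψ (g⁻¹ (g a))
      rw [MulAut.inv_apply_self]
    · rintro _ ⟨a, ha, rfl⟩
      refine ⟨⟨(g a : P), g a, ⟨a, ha, rfl⟩, rfl⟩, ?_⟩
      show ψ (g⁻¹ (g a)) = ψ a
      rw [MulAut.inv_apply_self]
  have hmem : ∀ a ∈ A, (a : Ω) ∈ R ∧ IsSmall p (a : Ω) := fun a ha =>
    ⟨(hAV ha).1, isSmall_coe.2 (hDs a (hAV ha).2)⟩
  have hχ₁E : χ₁ ∈ E.Hom A' := by
    refine (hag A' (A.map ψ) ?_ ?_ ?_ ?_ ?_ ?_ ⟨restrict_mem hχ₀F hA'P, fun x => hr ▸ ⟨x, rfl⟩⟩).1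
    · rintro _ ⟨_, ⟨a, ha, rfl⟩, rfl⟩
      exact aut_mem hH hPS hg (hmem a ha).1
    · rintro _ ⟨a, ha, rfl⟩
      exact stronglyClosed_apply_mem hH hψF a (hmem a ha).1
    · exact ⟨⟨by
        rintro ⟨_, _, ⟨a, ha, rfl⟩, rfl⟩ ⟨_, _, ⟨b, hb, rfl⟩, rfl⟩
        exact Subtype.ext (congrArg (fun x : P => (g x : Ω)) (hAc a ha b hb) |> fun h => by
          simpa using h)⟩⟩
    · exact ⟨⟨by
        rintro ⟨_, a, ha, rfl⟩ ⟨_, b, hb, rfl⟩
        exact Subtype.ext (by simpa using congrArg ψ (hAc a ha b hb))⟩⟩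
    · rintro _ ⟨_, ⟨a, ha, rfl⟩, rfl⟩
      exact isSmall_map (P.subtype.comp g.toMonoidHom) (hDs a (hAV ha).2)
    · rintro _ ⟨a, ha, rfl⟩
      exact isSmall_map ψ (hDs a (hAV ha).2)
  obtain ⟨e', he', he'x⟩ := exists_iso hχ₁E hr
  obtain ⟨φ, hφ, -, hφag⟩ := he'.exists_extension
    (isReceptive_of_isFullyNormalized hS hE hψn) hA'P hA'n fun x hx => by
      rw [congr_conjAut_eq_of_extends (ψ := χ₀) hA'P
        (fun y => show χ₀ ⟨y, hA'P y.2⟩ = _ from (he'x y).symm) hx (hA'n hx).2]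
      exact conjAut_mem_autInducedBy (map_mem hχ₀F _) _
  obtain ⟨P', hP'⟩ : ∃ P' : Subgroup Ω, φ.range = P' := ⟨_, rfl⟩
  obtain ⟨ee, hee, heex⟩ := exists_iso hφ hP'
  have heeF : IsFIso F ee := hEF _ hee
  set d : P ≃* P' := (g : P ≃* P).trans ee with hd
  have hdF : IsFIso F d := hgF.trans heeF
  have hdA : ∀ a ∈ A, (d a : Ω) = ψ a := by
    intro a ha
    show (ee (g a) : Ω) = ψ a
    have hga : ((g a : P) : Ω) ∈ A' := ⟨g a, ⟨a, ha, rfl⟩, rfl⟩
    rw [heex, show φ (g a) = φ ⟨_, hA'P hga⟩ from rfl, hφag ⟨_, hga⟩, he'x]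
    show ψ (g⁻¹ (g a)) = ψ a
    rw [MulAut.inv_apply_self]
  suffices hdE : IsFIso E d by
    have := hdE.trans hee.symm
    refine (mem_autGroup_iff hPS).2 ?_
    have e : d.trans ee.symm = (g : P ≃* P) := MulEquiv.ext fun x => by simp [hd]
    rwa [e] at this
  have hP'S : P' ≤ S := hP' ▸ range_le hφ
  set A₀ := A.map ψ with hA₀'
  have hA₀S : A₀ ≤ S := by rintro _ ⟨a, -, rfl⟩; exact map_mem hψF a
  set X : Subgroup Ω := centralizerIn S A₀ with hX
  by_cases hcase : X ⊓ Subgroup.normalizer (P' : Set Ω) ≤ P'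
  · have hnX : P' ≤ Subgroup.normalizer (X : Set Ω) := Subgroup.le_normalizer_iff.2 fun u hu c hc => by
      obtain ⟨x, hx⟩ := d.surjective ⟨u, hu⟩
      have hxu : (d x : Ω) = u := congrArg Subtype.val hx
      refine ⟨S.mul_mem (S.mul_mem (hP'S hu) hc.1) (S.inv_mem (hP'S hu)), ?_⟩
      rintro _ ⟨a, ha, rfl⟩
      have hb := hAn x⁻¹ a ha
      have h1 := hdA _ hb
      simp only [map_mul, map_inv, Subgroup.coe_mul, Subgroup.coe_inv, inv_inv, hdA a ha, hxu] at h1
      have h2 := Subgroup.mem_centralizer_iff.1 hc.2 _ ⟨x⁻¹ * a * x⁻¹⁻¹, hb, rfl⟩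
      simp only [map_mul, map_inv, inv_inv] at h2
      rw [← h1] at h2
      calc ψ a * (u * c * u⁻¹) = u * (u⁻¹ * ψ a * u * c) * u⁻¹ := by simp [mul_assoc]
        _ = u * (c * (u⁻¹ * ψ a * u)) * u⁻¹ := by rw [h2]
        _ = _ := by simp [mul_assoc]
    have hXP' : X ≤ P' := by
      by_contra hc
      have hlt : P' < P' ⊔ X := lt_of_le_of_ne le_sup_left fun he => hc (le_sup_right.trans_eq he.symm)
      have hle : P' ⊔ X ≤ S := sup_le hP'S (centralizerIn_le S A₀)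
      have : Finite (P' ⊔ X : Subgroup Ω) := finite_of_le hle
      obtain ⟨y, ⟨hy, hyn⟩, hyP⟩ := SetLike.exists_of_lt (lt_normalizerIn (isPGroup_of_le hS hle) hlt)
      have hy' : y ∈ ((P' ⊔ X : Subgroup Ω) : Set Ω) := hy
      rw [Subgroup.coe_mul_of_left_le_normalizer_right _ _ hnX] at hy'
      obtain ⟨u, hu, c, hc', rfl⟩ := hy'
      exact hyP (mul_mem hu (hcase ⟨hc', by
        simpa using (Subgroup.normalizer (P' : Set Ω)).mul_mem (inv_mem (Subgroup.le_normalizer hu)) hyn⟩))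
    have hψP' : ψ.range ≤ P' := by
      rintro _ ⟨x, rfl⟩
      have hc : (ψ x)⁻¹ * (d x : Ω) ∈ X := by
        refine ⟨S.mul_mem (S.inv_mem (map_mem hψF x)) (hP'S (d x).2), ?_⟩
        rintro _ ⟨a, ha, rfl⟩
        have h1 := hdA _ (hAn x a ha)
        simp only [map_mul, map_inv, Subgroup.coe_mul, Subgroup.coe_inv, hdA a ha] at h1
        calc ψ a * ((ψ x)⁻¹ * (d x : Ω)) = (ψ x)⁻¹ * (ψ x * ψ a * (ψ x)⁻¹) * (d x : Ω) := by
              simp [mul_assoc]
          _ = (ψ x)⁻¹ * ((d x : Ω) * ψ a * (d x : Ω)⁻¹) * (d x : Ω) := by rw [h1]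
          _ = _ := by simp [mul_assoc]
      have := P'.mul_mem (d x).2 (P'.inv_mem (hXP' hc))
      simpa [mul_assoc] using this
    have hψr : ψ.range = P' := by
      have : Finite P' := finite_of_le hP'S
      refine Subgroup.eq_of_le_of_card_ge hψP' (le_of_eq ?_)
      rw [← isConj_card_eq (isConj_of_mem hψF)]
      exact (Nat.card_congr d.toEquiv).symm
    obtain ⟨ψi, hψi, hψix⟩ := exists_iso hψF hψr
    have hψiE : IsFIso E ψi := by
      obtain ⟨ψj, hψj, hψjx⟩ := exists_iso hψE hψr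
      rwa [show ψi = ψj from MulEquiv.ext fun x => Subtype.ext ((hψix x).trans (hψjx x).symm)]
    have hγ : (d.trans ψi.symm : MulAut P) ∈ E.autGroup P := by
      refine hfixT _ ((mem_autGroup_iff hPS).2 (hdF.trans hψi.symm)) fun a ha => ?_
      show ψi.symm (d a) = a
      rw [MulEquiv.symm_apply_eq]
      exact Subtype.ext (by rw [hdA a ha, hψix])
    have := ((mem_autGroup_iff hPS).1 hγ).trans hψiE
    have e : (d.trans ψi.symm : P ≃* P).trans ψi = d := MulEquiv.ext fun x => by simp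
    exact e ▸ this
  · set R' : Subgroup Ω := P' ⊔ (X ⊓ Subgroup.normalizer (P' : Set Ω)) with hR'
    have hR'n : R' ≤ normalizerIn S P' :=
      sup_le (le_normalizerIn hP'S) (inf_le_inf_right _ (centralizerIn_le S A₀))
    have hext : R' ≤ extender S P' (P.subtype.comp d.symm.toMonoidHom) := by
      refine sup_le (le_extender hP'S fun x => hPS (d.symm x).2) fun c hc => ?_
      refine (mem_extender_iff_congr d.symm (fun _ => rfl) hc.1.1 hc.2).2 ?_
      refine fix_le_sylow hS (isFullyAutomized_of_isFullyNormalized hS hF hQ) hAt hfaith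
        (hdF.symm.congr_mem (autInducedBy_le_autGroup F hP'S
          (conjAut_mem_autInducedBy hc.1.1 hc.2))) fun a ha => ?_
      rw [congr_apply, MulEquiv.symm_apply_eq]
      refine Subtype.ext ?_
      rw [conjAut_apply, MulEquiv.symm_symm, hdA a ha]
      exact mul_inv_eq_iff_eq_mul.2 (Subgroup.mem_centralizer_iff.1 hc.1.2 _ ⟨a, ha, rfl⟩).symm
    obtain ⟨ω, hω, -, hωag⟩ := hdF.symm.exists_extension
      (isReceptive_of_isFullyNormalized hS hF hQ) le_sup_left hR'n fun c hc =>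
        (mem_extender_iff_congr d.symm (fun _ => rfl) (hR'n hc).1 (hR'n hc).2).1 (hext hc)
    have hlt : P' < R' := lt_of_le_of_ne le_sup_left fun he =>
      hcase (le_sup_right.trans_eq he.symm)
    have hcard : Nat.card P < Nat.card R' :=
      (Nat.card_congr d.toEquiv).trans_lt (card_lt_card_of_lt (hR'n.trans (normalizerIn_le S P')) hlt)
    have hdsE : IsFIso E d.symm :=
      mem_of_restrict (hbig _ hcard hω) le_sup_left _ fun x => (hωag x).symm
    exact hdsE.symm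

/-- Small-exponent abelian subgroups of the hyperfocal subgroup control fusion. Let E and F be saturated fusion systems over the same finite p-group S with E contained in F. Suppose that E and F have the same maps between A and B for all subgroups A, B of the hyperfocal subgroup of F that are elementary abelian when p is odd, respectively abelian of exponent dividing 4 when p = 2. Then E = F. -/
theorem result {Ω : Type u} [Group Ω] {S : Subgroup Ω} [Finite S] (p : ℕ) [Fact p.Prime] (hS : IsPGroup p S)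
    (E F : Cfsg.FusionSystem S) (hE : E.IsSaturated p) (hF : F.IsSaturated p) (hEF : E.IsSubsystemOf F)
    (hodd : p ≠ 2 → ∀ A B : Subgroup Ω, A ≤ (F.hyperfocalSubgroup p) → B ≤ (F.hyperfocalSubgroup p) →
      Cfsg.IsElementaryAbelian p A → Cfsg.IsElementaryAbelian p B → E.homSet A B = F.homSet A B)
    (htwo : p = 2 → ∀ A B : Subgroup Ω, A ≤ (F.hyperfocalSubgroup p) → B ≤ (F.hyperfocalSubgroup p) →
      IsMulCommutative ↥A → IsMulCommutative ↥B → (∀ a ∈ A, a ^ 4 = 1) → (∀ b ∈ B, b ^ 4 = 1) → E.homSet A B = F.homSet A B) :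
    ∀ P : Subgroup Ω, E.Hom P = F.Hom P := by
  intro P
  refine Set.Subset.antisymm (hEF P) ?_
  refine CfsgLib.Fusion.Descent.hom_le_of_aut hS hF (fun Q hQ hbig =>
    aut_le hS hE hF hEF ?_ hQ hbig) P
  intro A B hA hB hAc hBc hAs hBs
  rcases eq_or_ne p 2 with h2 | h2
  · exact (htwo h2 A B hA hB hAc hBc (fun a ha => by
      rcases hAs a ha with h | ⟨-, h⟩
      · rw [show (4 : ℕ) = 2 * 2 from rfl, pow_mul, ← h2, h, one_pow]
      · exact h) (fun a ha => by
      rcases hBs a ha with h | ⟨-, h⟩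
      · rw [show (4 : ℕ) = 2 * 2 from rfl, pow_mul, ← h2, h, one_pow]
      · exact h)).ge
  · exact (hodd h2 A B hA hB ⟨hAc, fun a ha => (hAs a ha).resolve_right fun h => h2 h.1⟩
      ⟨hBc, fun a ha => (hBs a ha).resolve_right fun h => h2 h.1⟩).ge

end Cfsg.Agent.S5296
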