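import Cfsg.Statements.S5274
import Cfsg.Agent.Lib.Fusion.Stability
import Cfsg.Agent.Lib.Fusion.Local

set_option autoImplicit false
set_option linter.style.haveILetI false
open Cfsg

namespace Cfsg.Agent.S5274

open Cfsg.FusionSystem CfsgLib.Fusion

variable {Ω : Type*} [Group Ω] {S : Subgroup Ω}

/-- A map of the system carrying an element to a central one, extended over a normal subgroup. -/
theorem exists_center_map {F : Cfsg.FusionSystem S}
    (h : ∀ x ∈ S, ∃ z ∈ S ⊓ Subgroup.centralizer (S : Set Ω), F.IsConjElt x z) {R : Subgroup Ω}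
    (hR : F.IsNormal R) {x : Ω} (hx : x ∈ S) :
    ∃ ψ ∈ F.Hom (Subgroup.zpowers x ⊔ R),
      ψ ⟨x, Subgroup.mem_sup_left (Subgroup.mem_zpowers x)⟩ ∈ Subgroup.centralizer (S : Set Ω) ∧
        (R.subgroupOf (Subgroup.zpowers x ⊔ R)).map ψ = R := by
  obtain ⟨z, hz, φ, hφ, hφx⟩ := h x hx
  obtain ⟨ψ, hψ, hag, hmap⟩ := hR.2 _ φ hφ
  refine ⟨ψ, hψ, ?_, hmap⟩
  have h1 := hag ⟨x, Subgroup.mem_zpowers x⟩
  rw [hφx] at h1
  exact (congrArg (· ∈ Subgroup.centralizer (S : Set Ω)) h1).mpr hz.2

theorem isMulCommutative_of_conj_center [Finite S] [Fact (Nat.Prime 2)] (hS : IsPGroup 2 S)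
    {F : Cfsg.FusionSystem S} (hF : F.IsSaturated 2)
    (h : ∀ x ∈ S, ∃ z ∈ S ⊓ Subgroup.centralizer (S : Set Ω), F.IsConjElt x z) :
    IsMulCommutative S := by
  classical
  suffices key : ∀ k : ℕ, ∀ x ∈ S, x ^ 2 ^ k = 1 → x ∈ Subgroup.centralizer (S : Set Ω) by
    obtain ⟨N, hN⟩ := IsPGroup.iff_card.1 hS
    refine ⟨⟨fun a b => Subtype.ext ?_⟩⟩
    have hb := key N b b.2 (by
      rw [← hN, ← Subgroup.coe_pow, pow_card_eq_one', OneMemClass.coe_one])
    exact Subgroup.mem_centralizer_iff.1 hb a a.2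
  intro k
  induction k with
  | zero =>
    intro x _ hx
    rw [pow_zero, pow_one] at hx
    rw [hx]
    exact one_mem _
  | succ k ih =>
    have hcomm : ∀ {x y : Ω}, x ∈ S → y ∈ S → x ^ 2 ^ k = 1 → Commute y x := fun {x y} hx hy hxk =>
      Subgroup.mem_centralizer_iff.1 (ih x hx hxk) y hy
    let V : Subgroup Ω :=
      { carrier := {x | x ∈ S ∧ x ^ 2 ^ k = 1}
        one_mem' := ⟨S.one_mem, one_pow _⟩
        mul_mem' := fun {a b} ha hb => ⟨S.mul_mem ha.1 hb.1, by
          rw [(hcomm hb.1 ha.1 hb.2).mul_pow, ha.2, hb.2, one_mul]⟩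
        inv_mem' := fun {a} ha => ⟨S.inv_mem ha.1, by rw [inv_pow, ha.2, inv_one]⟩ }
    have hVc : F.StronglyClosed V := by
      refine ⟨fun x hx => hx.1, fun R hR φ hφ x => ⟨map_mem hφ x, ?_⟩⟩
      have h1 : x ^ 2 ^ k = 1 := Subtype.ext (by rw [Subgroup.coe_pow]; exact (hR x.2).2)
      rw [← map_pow, h1, map_one]
    have hVn : F.IsNormal V := Stability.isNormal_of_abelian hS hF hVc
      fun x hx y hy => (hcomm hy.1 hx.1 hy.2).eq
    have hstep : ∀ a ∈ S, ∀ t ∈ S, ∀ v ∈ V, t * a * t⁻¹ = a⁻¹ * v → a ^ 2 ∈ V := by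
      intro a ha t ht v hv hta
      set P := Subgroup.zpowers a ⊔ V with hPdef
      obtain ⟨ψ, hψ, hzc, hmap⟩ := exists_center_map h hVn ha
      have hPS : P ≤ S := dom_le hψ
      have haP : a ∈ P := Subgroup.mem_sup_left (Subgroup.mem_zpowers a)
      set W := ψ.range with hW
      let e : P ≃* W := isoOfInjective (hom_inj hψ) rfl
      have he : IsFIso F e := isFIso_isoOfInjective hψ rfl
      have hWS : W ≤ S := range_le hψ
      have htn : t ∈ Subgroup.normalizer (P : Set Ω) := by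
        haveI : Finite P := finite_of_le hPS
        refine Subgroup.mem_normalizer_fintype fun m hm => ?_
        have hle : P ≤ P.comap (MulAut.conj t).toMonoidHom := by
          refine sup_le (Subgroup.zpowers_le.2 ?_) fun y hy => ?_
          · show t * a * t⁻¹ ∈ P
            rw [hta]
            exact P.mul_mem (P.inv_mem haP) (Subgroup.mem_sup_right hv)
          · show t * y * t⁻¹ ∈ P
            rw [(hcomm hy.1 ht hy.2).eq, mul_inv_cancel_right]
            exact Subgroup.mem_sup_right hy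
        exact hle hm
      set γ := MulAut.congr e (conjAut P t htn) with hγdef
      have hγ : γ ∈ F.autGroup W :=
        he.congr_mem (autInducedBy_le_autGroup F hPS (conjAut_mem_autInducedBy ht htn))
      set z : W := e ⟨a, haP⟩ with hz
      set v' : W := e ⟨v, Subgroup.mem_sup_right hv⟩ with hv'def
      have hv' : (v' : Ω) ∈ V :=
        hmap.le (apply_mem_map_subgroupOf (φ := ψ) ⟨v, Subgroup.mem_sup_right hv⟩ hv)
      have hγz : γ z = z⁻¹ * v' := by
        rw [hγdef, congr_apply, hz, MulEquiv.symm_apply_apply, hv'def, ← map_inv, ← map_mul]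
        exact congrArg e (Subtype.ext hta)
      have hWC : ∀ w ∈ W, w ∈ Subgroup.centralizer (S : Set Ω) := by
        rintro _ ⟨⟨y, hy⟩, rfl⟩
        have hle : P ≤ ((Subgroup.centralizer (S : Set Ω)).comap ψ).map P.subtype := by
          refine sup_le (Subgroup.zpowers_le.2 ⟨⟨a, haP⟩, hzc, rfl⟩) fun u hu => ?_
          refine ⟨⟨u, Subgroup.mem_sup_right hu⟩, ?_, rfl⟩
          have h1 : ψ ⟨u, Subgroup.mem_sup_right hu⟩ ∈ V :=
            hmap.le (apply_mem_map_subgroupOf (φ := ψ) ⟨u, Subgroup.mem_sup_right hu⟩ hu)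
          exact ih _ h1.1 h1.2
        obtain ⟨y', hy', hyy⟩ := hle hy
        rw [show (⟨y, hy⟩ : P) = y' from Subtype.ext hyy.symm]
        exact hy'
      have hbot : autInducedBy S W = ⊥ := by
        rw [eq_bot_iff]
        refine (Subgroup.closure_le _).2 ?_
        rintro α ⟨g, hg, hgα⟩
        refine Subgroup.mem_bot.2 (MulEquiv.ext fun w => Subtype.ext ?_)
        rw [hgα w, Subgroup.mem_centralizer_iff.1 (hWC w w.2) g hg, mul_inv_cancel_right]
        rfl
      have hWfn : F.IsFullyNormalized W := by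
        refine ⟨hWS, fun Q _ => ?_⟩
        have : S ≤ normalizerIn S W := fun g hg => by
          refine ⟨hg, ?_⟩
          haveI : Finite W := finite_of_le hWS
          refine Subgroup.mem_normalizer_fintype fun m hm => ?_
          rw [Subgroup.mem_centralizer_iff.1 (hWC m hm) g hg, mul_inv_cancel_right]
          exact hm
        haveI hfinN : Finite ↥(normalizerIn S W) := finite_of_le inf_le_left
        exact (Subgroup.card_le_of_le inf_le_left).trans (Subgroup.card_le_of_le this)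
      haveI : Finite W := finite_of_le hWS
      haveI : Finite (MulAut W) := finite_mulAut
      obtain ⟨-, T, hT⟩ := isFullyAutomized_of_isFullyNormalized hS hF hWfn
      have hodd : ¬ 2 ∣ Nat.card (F.autGroup W) := by
        have h1 := T.not_dvd_index
        rwa [hT, hbot, Subgroup.bot_subgroupOf, Subgroup.index_bot] at h1
      obtain ⟨j, hj⟩ : Odd (orderOf γ) := by
        rw [← Nat.not_even_iff_odd, even_iff_two_dvd]
        intro hd
        refine hodd (hd.trans ?_)
        have := orderOf_dvd_natCard (⟨γ, hγ⟩ : F.autGroup W)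
        rwa [← Subgroup.orderOf_coe] at this
      have hγV : ∀ w : W, (w : Ω) ∈ V → ((γ w : W) : Ω) ∈ V := fun w hw =>
        Stability.aut_mem hVc hWS hγ hw
      have hev : ∀ i : ℕ, ∃ c : W, (c : Ω) ∈ V ∧ (γ ^ (2 * i)) z = z * c := by
        intro i
        induction i with
        | zero => exact ⟨1, V.one_mem, by simp⟩
        | succ i ihi =>
          obtain ⟨c, hc, hci⟩ := ihi
          refine ⟨v'⁻¹ * γ v' * γ (γ c), ?_, ?_⟩
          · exact V.mul_mem (V.mul_mem (V.inv_mem hv') (hγV _ hv')) (hγV _ (hγV _ hc))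
          · rw [show 2 * (i + 1) = 2 * i + 1 + 1 by ring, pow_succ', MulAut.mul_apply, pow_succ',
              MulAut.mul_apply, hci, map_mul, map_mul, hγz, map_mul, map_inv, hγz, mul_inv_rev,
              inv_inv]
            have hcw : v'⁻¹ * z = z * v'⁻¹ := Subtype.ext
              (hcomm hv'.1 (hWS z.2) hv'.2).inv_right.eq.symm
            rw [hcw]
            simp only [mul_assoc]
      obtain ⟨c, hc, hcj⟩ := hev j
      have hfin : γ (z * c) = z := by
        rw [← hcj, ← MulAut.mul_apply, ← pow_succ', ← hj, pow_orderOf_eq_one]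
        rfl
      rw [map_mul, hγz] at hfin
      have hsq : ((z ^ 2 : W) : Ω) ∈ V := by
        have h1 : z ^ 2 = z * (z⁻¹ * v' * γ c) := by rw [hfin, pow_two]
        rw [h1, mul_assoc, mul_inv_cancel_left]
        exact V.mul_mem hv' (hγV _ hc)
      have h2 : ψ (⟨a, haP⟩ ^ 2) ∈ V := by
        rw [map_pow]
        exact hsq
      obtain ⟨y, hy, hya⟩ := hmap.ge h2
      have h3 := congrArg Subtype.val (hom_inj hψ hya)
      have h4 : (y : Ω) ∈ V := hy
      rw [h3, Subgroup.coe_pow] at h4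
      exact h4
    have hmemU : ∀ {x : Ω}, x ∈ S → (x ^ 2 ∈ V ↔ x ^ 2 ^ (k + 1) = 1) := fun {x} hx => by
      rw [show x ^ 2 ^ (k + 1) = (x ^ 2) ^ 2 ^ k by rw [← pow_mul, ← pow_succ']]
      exact ⟨fun h => h.2, fun h => ⟨pow_mem hx 2, h⟩⟩
    have hmul : ∀ t ∈ S, ∀ u ∈ S, t ^ 2 ∈ V → u ^ 2 ∈ V → (t * u) ^ 2 ∈ V := by
      intro t ht u hu ht2 hu2
      refine hstep _ (S.mul_mem ht hu) t ht (t ^ 2 * u ^ 2) (V.mul_mem ht2 hu2) ?_
      have hc : t ^ 2 * u = u * t ^ 2 := (hcomm ht2.1 hu ht2.2).eq.symm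
      have hc' : t * u ^ 2 = u ^ 2 * t := (hcomm hu2.1 ht hu2.2).eq
      have e1 : t * (t * u) * t⁻¹ = u * t := by
        rw [show t * (t * u) = t ^ 2 * u by rw [pow_two, mul_assoc], hc, pow_two]
        group
      rw [e1, mul_inv_rev, pow_two t, mul_assoc, mul_assoc t t, inv_mul_cancel_left, hc', pow_two]
      group
    let U : Subgroup Ω :=
      { carrier := {x | x ∈ S ∧ x ^ 2 ∈ V}
        one_mem' := ⟨S.one_mem, by rw [one_pow]; exact V.one_mem⟩
        mul_mem' := fun {a b} ha hb => ⟨S.mul_mem ha.1 hb.1, hmul a ha.1 b hb.1 ha.2 hb.2⟩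
        inv_mem' := fun {a} ha => ⟨S.inv_mem ha.1, by rw [inv_pow]; exact V.inv_mem ha.2⟩ }
    have hUc : F.StronglyClosed U := by
      refine ⟨fun x hx => hx.1, fun R hR φ hφ x => ⟨map_mem hφ x, (hmemU (map_mem hφ x)).2 ?_⟩⟩
      have h1 : x ^ 2 ^ (k + 1) = 1 :=
        Subtype.ext (by rw [Subgroup.coe_pow]; exact (hmemU (hR x.2).1).1 (hR x.2).2)
      rw [← map_pow, h1, map_one]
    let L : ℕ → Subgroup Ω := fun i => if i = 0 then U else if i = 1 then V else ⊥
    have hUn : F.IsNormal U := by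
      refine Stability.isNormal_of_series hS hF L 2 (fun i hi => ?_) rfl ?_
      · interval_cases i
        · exact hUc
        · exact hVc
        · exact ⟨bot_le, fun R hR φ hφ x => by
            have hx : x = 1 := Subtype.ext (Subgroup.mem_bot.1 (hR x.2))
            show φ x ∈ (⊥ : Subgroup Ω)
            rw [hx, map_one]
            exact one_mem _⟩
      · intro i hi r hr x hx
        interval_cases i
        · show x⁻¹ * (r * x * r⁻¹) ∈ V
          have hr' : r ∈ U := hr
          have hx' : x ∈ U := hx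
          have h1 : (x⁻¹ * r) ^ 2 ∈ V := (U.mul_mem (U.inv_mem hx') hr').2
          have h2 : x⁻¹ * (r * x * r⁻¹) = (x⁻¹ * r) ^ 2 * ((r ^ 2)⁻¹ * x ^ 2) := by
            have hcx : r⁻¹ * x ^ 2 = x ^ 2 * r⁻¹ :=
              (hcomm hx'.2.1 (S.inv_mem hr'.1) hx'.2.2).eq
            have e : (x⁻¹ * r) ^ 2 * ((r ^ 2)⁻¹ * x ^ 2) = x⁻¹ * r * x⁻¹ * (r⁻¹ * x ^ 2) := by
              rw [pow_two, pow_two]; group
            rw [e, hcx, pow_two]
            group
          rw [h2]
          exact V.mul_mem h1 (V.mul_mem (V.inv_mem hr'.2) hx'.2)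
        · show x⁻¹ * (r * x * r⁻¹) ∈ (⊥ : Subgroup Ω)
          have hr' : r ∈ U := hr
          have hx' : x ∈ V := hx
          rw [Subgroup.mem_bot, (hcomm hx'.1 hr'.1 hx'.2).eq]
          group
    intro x hx hxk
    have hxU : x ∈ U := ⟨hx, (hmemU hx).2 hxk⟩
    refine Subgroup.mem_centralizer_iff.2 fun s hs => ?_
    obtain ⟨ψ, hψ, hzc, -⟩ := exists_center_map h hUn (show s ∈ S from hs)
    have hc := Subgroup.mem_centralizer_iff.1 hzc _
      (map_mem hψ ⟨x, Subgroup.mem_sup_right hxU⟩)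
    rw [← map_mul, ← map_mul] at hc
    exact (congrArg Subtype.val (hom_inj hψ hc)).symm

/-- Let F be a saturated fusion system over a finite 2-group S. Suppose that every element of S is F-conjugate to an element of the centre Z(S) (some map of F defined on the cyclic subgroup it generates sends it into Z(S)). Then S is abelian. -/
theorem result {Ω : Type*} [Group Ω] {S : Subgroup Ω} [Finite S] (hS : IsPGroup 2 ↥S) (F : Cfsg.FusionSystem S) (hF : F.IsSaturated 2) (h : ∀ x ∈ S, ∃ z ∈ S ⊓ Subgroup.centralizer (S : Set Ω), F.IsConjElt x z) : IsMulCommutative ↥S := by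
  classical
  haveI : Fact (Nat.Prime 2) := ⟨Nat.prime_two⟩
  exact isMulCommutative_of_conj_center hS hF h

end Cfsg.Agent.S5274
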