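import Cfsg.Statements.S5275
import Cfsg.Agent.Lib.Fusion.InnerCriterion

open Cfsg.FusionSystem CfsgLib.Fusion CfsgLib.FusionZJ CfsgLib.ZJCenter CfsgLib.PLoc

set_option autoImplicit false
open Cfsg

namespace Cfsg.Agent.S5275

/-- A Glauberman–Thompson nilpotency criterion for fusion systems relative to a strongly closed subgroup. Let p be an odd prime, F a saturated fusion system over a finite p-group S, and D a subgroup of S that is strongly closed in F. Let Z(J(D)) be the centre of the subgroup of D generated by the abelian subgroups of D of largest order. Then F is the inner fusion system of S if and only if the normalizer fusion system of Z(J(D)) in F is the inner fusion system of N_S(Z(J(D))) = S. -/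
theorem result {Ω : Type*} [Group Ω] {S : Subgroup Ω} [Finite S] (p : ℕ) [Fact p.Prime] (hS : IsPGroup p ↥S) (F : Cfsg.FusionSystem S) (hF : F.IsSaturated p) (hp : p ≠ 2) (D : Subgroup Ω) (hD : F.StronglyClosed D) : (∀ P : Subgroup Ω, F.Hom P = (Cfsg.innerFusionSystem S).Hom P) ↔ ∀ N : Cfsg.FusionSystem (Cfsg.FusionSystem.normalizerIn S (Cfsg.centerThompsonAOf D)), F.IsNormalizerSystem (Cfsg.centerThompsonAOf D) N → ∀ P : Subgroup Ω, N.Hom P = (Cfsg.innerFusionSystem (Cfsg.FusionSystem.normalizerIn S (Cfsg.centerThompsonAOf D))).Hom P := by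
  have hz : centerThompsonAOf D = zj 0 D := by
    rw [centerThompsonAOf, joinMaxAb_zero]
    rfl
  have hWS : centerThompsonAOf D ≤ S := hz ▸ (zj_le 0 D).trans hD.1
  constructor
  · intro h N hN P
    refine Set.Subset.antisymm (fun φ hφ => ?_) fun φ hφ => ?_
    · rw [hN P] at hφ
      obtain ⟨hφF, hP, hv, ψ, hψ, hag, hWψ⟩ := hφ
      rw [h] at hψ
      obtain ⟨hle, g, hg, hgx⟩ := hψ
      refine ⟨hP, g, ⟨hg, ?_⟩, fun x => by rw [← hag x, hgx]; rfl⟩
      refine CfsgLib.ZJCenter.mem_normalizer_of_conj_eq ?_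
      conv_rhs => rw [← hWψ]
      ext y
      rw [mem_map_subgroupOf]
      constructor
      · rintro ⟨x, hx, rfl⟩
        exact ⟨x, le_sup_right (a := P) hx, hx, hgx _⟩
      · rintro ⟨x, hx, hxW, rfl⟩
        exact ⟨x, hxW, (hgx ⟨x, hx⟩).symm⟩
    · obtain ⟨hP, g, hg, hgx⟩ := hφ
      exact mem_of_eq_conj hP hg φ hgx
  · intro h P
    rw [eq_inner_of_good_zj (p := p) hp hS hF hD ?_]
    rw [← hz]
    refine good_of_inner hS fun R φ hφ => ?_
    rw [← h _ (isNormalizerSystem_normalizerSystem F _ hWS) R]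
    exact hφ

end Cfsg.Agent.S5275
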