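import Cfsg.Statements.S5276
import Cfsg.Agent.Lib.Fusion.TateInner
import Cfsg.Agent.Lib.Fusion.Descent

set_option autoImplicit false
open Cfsg

namespace Cfsg.Agent.S5276

open Cfsg.FusionSystem CfsgLib.Fusion

open scoped commutatorElement

theorem frattini_invariant {Ω : Type*} [Group Ω] {S : Subgroup Ω} {s : Ω} (hs : s ∈ S) {y : Ω}
    (hy : y ∈ (frattini ↥S).map S.subtype) : s * y * s⁻¹ ∈ (frattini ↥S).map S.subtype := by
  obtain ⟨z, hz, rfl⟩ := hy
  exact ⟨⟨s, hs⟩ * z * (⟨s, hs⟩ : S)⁻¹, Subgroup.Normal.conj_mem inferInstance z hz _, rfl⟩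

theorem conj_mod_frattini {Ω : Type*} [Group Ω] {S : Subgroup Ω} [Finite S] {p : ℕ} [Fact p.Prime]
    (hS : IsPGroup p S) {s x : Ω} (hs : s ∈ S) (hx : x ∈ S) :
    x⁻¹ * (s * x * s⁻¹) ∈ (frattini ↥S).map S.subtype := by
  refine ⟨⁅(⟨x, hx⟩ : S)⁻¹, ⟨s, hs⟩⁆, CfsgLib.PGroup.commutator_le_frattini hS
    (Subgroup.commutator_mem_commutator (Subgroup.mem_top _) (Subgroup.mem_top _)), ?_⟩
  simp [commutatorElement_def, mul_assoc]

/-- All maps are trivial modulo `Φ(S)`. -/
theorem hyperfocal_le_frattini {Ω : Type*} [Group Ω] {S : Subgroup Ω} [Finite S] {p : ℕ} [Fact p.Prime]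
    (hS : IsPGroup p S) {F : Cfsg.FusionSystem S} (hF : F.IsSaturated p)
    (htop : ∀ α ∈ F.autGroup S, ∃ g ∈ S, ∀ x : S, ((α x : S) : Ω) = g * (x : Ω) * g⁻¹)
    (hΦ : F.StronglyClosed ((frattini ↥S).map S.subtype)) :
    F.hyperfocalSubgroup p ≤ (frattini ↥S).map S.subtype := by
  set T : Subgroup Ω := (frattini ↥S).map S.subtype with hT
  set E := modSystem F T fun s hs y hy => frattini_invariant hs hy
  have hle := Descent.hom_le_of_aut (E := E) hS hF fun Q hQ hbig => by
    rcases eq_or_lt_of_le hQ.1 with rfl | hlt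
    · intro α hα
      obtain ⟨g, hg, hgx⟩ := htop α hα
      refine (mem_autGroup_iff_hom hQ.1).2 ⟨(mem_autGroup_iff_hom hQ.1).1 hα, g, hg, fun x => ?_⟩
      show (g * (x : Ω) * g⁻¹)⁻¹ * ((α x : Q) : Ω) ∈ T
      rw [hgx, inv_mul_cancel]
      exact T.one_mem
    · have : Finite Q := finite_of_le hQ.1
      have : Finite (MulAut Q) := finite_mulAut
      set L := F.autGroup Q with hL
      have hstab : ∀ β : L, ∀ y : Q, (y : Ω) ∈ T → (((β : MulAut Q) y : Q) : Ω) ∈ T := by
        intro β y hy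
        have h1 := restrict_mem ((mem_autGroup_iff_hom hQ.1).1 β.2) (inf_le_left : Q ⊓ T ≤ Q)
        exact hΦ.2 _ inf_le_right _ h1 ⟨y, y.2, hy⟩
      let K : Subgroup L :=
        { carrier := {β | ∀ u : Q, (u : Ω)⁻¹ * (((β : MulAut Q) u : Q) : Ω) ∈ T}
          one_mem' := fun u => by
            show (u : Ω)⁻¹ * (u : Ω) ∈ T
            rw [inv_mul_cancel]; exact T.one_mem
          mul_mem' := fun {β γ} hβ hγ u => by
            have h1 := T.mul_mem (hγ u) (hβ ((γ : MulAut Q) u))
            show (u : Ω)⁻¹ * (((β : MulAut Q) ((γ : MulAut Q) u) : Q) : Ω) ∈ T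
            simpa [mul_assoc] using h1
          inv_mem' := fun {β} hβ u => by
            have h1 := T.inv_mem (hβ (((β⁻¹ : L) : MulAut Q) u))
            rw [show (β : MulAut Q) (((β⁻¹ : L) : MulAut Q) u) = u from MulAut.apply_inv_self _ _ _] at h1
            simpa [mul_inv_rev] using h1 }
      have hKn : K.Normal := ⟨fun β hβ γ u => by
        obtain ⟨y, rfl⟩ := (γ : MulAut Q).surjective u
        have h1 := hstab γ (y⁻¹ * (β : MulAut Q) y) (hβ y)
        show ((γ : MulAut Q) y : Ω)⁻¹ *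
          (((γ : MulAut Q) ((β : MulAut Q) ((γ : MulAut Q)⁻¹ ((γ : MulAut Q) y))) : Q) : Ω) ∈ T
        rw [MulAut.inv_apply_self]
        simpa using h1⟩
      obtain ⟨-, R, hR⟩ := isFullyAutomized_of_isFullyNormalized hS hF hQ
      have hRK : (R : Subgroup L) ≤ K := by
        rw [hR]
        intro β hβ u
        obtain ⟨g, hg, hgx⟩ := mem_autInducedBy_iff.1 hβ
        rw [show (((β : MulAut Q) u : Q) : Ω) = g * (u : Ω) * g⁻¹ from hgx u]
        exact conj_mod_frattini hS hg (hQ.1 u.2)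
      have htopL : Subgroup.normalizer ((R : Subgroup L) : Set L) ⊔ K = ⊤ :=
        Sylow.normalizer_sup_eq_top' R hRK
      have hall : Subgroup.normalizer ((R : Subgroup L) : Set L) ⊔ K ≤ (E.autGroup Q).comap L.subtype := by
        refine sup_le (fun β hβ => ?_) (fun β hβ => ?_)
        · refine Descent.aut_mem_of_normalize hS (isReceptive_of_isFullyNormalized hS hF hQ) hlt hbig
            β.2 fun γ hγ => ?_
          have h1 : (⟨γ, autInducedBy_le_autGroup F hQ.1 hγ⟩ : L) ∈ (R : Subgroup L) := by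
            rw [hR]; exact hγ
          have h2 := (Subgroup.mem_normalizer_iff.1 hβ _).1 h1
          rwa [hR] at h2
        · refine (mem_autGroup_iff_hom hQ.1).2
            ⟨(mem_autGroup_iff_hom hQ.1).1 β.2, 1, S.one_mem, fun x => ?_⟩
          show (1 * (x : Ω) * 1⁻¹)⁻¹ * (((β : MulAut Q) x : Q) : Ω) ∈ T
          simpa using hβ x
      rw [htopL] at hall
      exact fun α hα => hall (show (⟨α, hα⟩ : L) ∈ ⊤ from trivial)
  refine (Subgroup.closure_le _).2 ?_
  rintro _ ⟨P, α, x, hP, -, rfl⟩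
  obtain ⟨-, s, hs, h⟩ := hle P ((mem_autGroup_iff_hom hP).1 α.2)
  have h1 := T.mul_mem (conj_mod_frattini hS hs (hP x.2)) (h x)
  simpa [mul_assoc] using h1

/-- Let p be a prime and F a saturated fusion system over a finite p-group S. Then F is the inner fusion system of S if and only if the normalizer fusion system of S itself in F is the inner fusion system (equivalently, Aut_F(S) is induced by S) and the Frattini subgroup Φ(S) is strongly closed in F. -/
theorem result {Ω : Type*} [Group Ω] {S : Subgroup Ω} [Finite S] (p : ℕ) [Fact p.Prime] (hS : IsPGroup p ↥S) (F : Cfsg.FusionSystem S) (hF : F.IsSaturated p) : (∀ P : Subgroup Ω, F.Hom P = (Cfsg.innerFusionSystem S).Hom P) ↔ (∀ N : Cfsg.FusionSystem (Cfsg.FusionSystem.normalizerIn S S), F.IsNormalizerSystem S N → ∀ P : Subgroup Ω, N.Hom P = (Cfsg.innerFusionSystem (Cfsg.FusionSystem.normalizerIn S S)).Hom P) ∧ F.StronglyClosed ((frattini ↥S).map S.subtype) := by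
  constructor
  · intro h
    refine ⟨fun N hN P => ?_, ?_⟩
    · ext φ
      constructor
      · intro hφ
        rw [hN P] at hφ
        obtain ⟨hφF, hPN, -, -⟩ := hφ
        rw [h P] at hφF
        obtain ⟨-, g, hg, hgx⟩ := hφF
        exact ⟨hPN, g, (normalizerIn_top S).ge hg, hgx⟩
      · rintro ⟨hPN, g, hg, hgx⟩
        exact mem_of_eq_conj hPN hg φ hgx
    · refine ⟨Subgroup.map_subtype_le _, fun R hR φ hφ x => ?_⟩
      rw [h R] at hφ
      obtain ⟨-, g, hg, hgx⟩ := hφ
      rw [hgx x]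
      exact frattini_invariant hg (hR x.2)
  · rintro ⟨hN, hΦ⟩ P
    have htop : ∀ α ∈ F.autGroup S, ∃ g ∈ S, ∀ x : S, ((α x : S) : Ω) = g * (x : Ω) * g⁻¹ := by
      intro α hα
      have hαF := (mem_autGroup_iff_hom le_rfl).1 hα
      have hNS := hN (normalizerSystem F S le_rfl)
        (isNormalizerSystem_normalizerSystem F S le_rfl) S
      have hmem : S.subtype.comp α.toMonoidHom ∈ F.normalizerHom S S := by
        refine ⟨hαF, (normalizerIn_top S).ge, fun x => (normalizerIn_top S).ge (map_mem hαF x),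
          (S.subtype.comp α.toMonoidHom).comp (Subgroup.inclusion (sup_le le_rfl le_rfl : S ⊔ S ≤ S)),
          restrict_mem hαF _, fun x => rfl, ?_⟩
        ext y
        rw [mem_map_subgroupOf]
        constructor
        · rintro ⟨x, hx, -, rfl⟩
          exact (α ⟨x, _⟩).2
        · intro hy
          obtain ⟨z, hz⟩ := α.surjective ⟨y, hy⟩
          exact ⟨z, le_sup_left (b := S) z.2, z.2, congrArg Subtype.val hz⟩
      have hmem' : S.subtype.comp α.toMonoidHom ∈
          (Cfsg.innerFusionSystem (normalizerIn S S)).Hom S := by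
        rw [← hNS]; exact hmem
      obtain ⟨-, g, hg, hgx⟩ := hmem'
      exact ⟨g, normalizerIn_le S S hg, hgx⟩
    have hbot := TateInner.hyperfocal_eq_bot hS hF (hyperfocal_le_frattini hS hF htop hΦ)
    ext φ
    constructor
    · intro hφ
      obtain ⟨s, hs, h⟩ := exists_conj_mod_hyperfocal hS hF hφ
      refine ⟨dom_le hφ, s, hs, fun x => ?_⟩
      have h1 := h x
      rw [hbot, Subgroup.mem_bot, inv_mul_eq_one] at h1
      exact h1.symm
    · rintro ⟨hP, g, hg, hgx⟩
      exact mem_of_eq_conj hP hg φ hgx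

end Cfsg.Agent.S5276
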