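import Cfsg.Statements.S5278
import Cfsg.Agent.Lib.FusionControl.CentralWeak

set_option autoImplicit false
open Cfsg Cfsg.FusionSystem CfsgLib.Fusion CfsgLib.FusionControl
open Cfsg.Agent.S5220 (jW jW_natural jW_ne_bot jW_map)

namespace Cfsg.Agent.S5278

/-- Let p be an odd prime, F a saturated fusion system over a finite p-group S, and T a subgroup of Z(S) such that the normalizer fusion system of J(S) in F is contained in the normalizer fusion system of T, J(S) being the subgroup generated by the abelian subgroups of S of largest order. Then either T is weakly closed in F, or Aut_F(T) has a nontrivial cyclic subgroup X of order prime to p that permutes transitively the non-identity elements of the commutator [T, X] (the subgroup of T generated by the elements ψ(t)·t⁻¹ with ψ in X and t in T). -/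
theorem result {Ω : Type*} [Group Ω] {S : Subgroup Ω} [Finite S] (p : ℕ) [Fact p.Prime] (hS : IsPGroup p ↥S) (F : Cfsg.FusionSystem S) (hF : F.IsSaturated p) (hp : p ≠ 2) (T : Subgroup Ω) (hT : T ≤ S ⊓ Subgroup.centralizer (S : Set Ω)) (hJT : ∀ NJ : Cfsg.FusionSystem (Cfsg.FusionSystem.normalizerIn S (Cfsg.thompsonSubgroupAOf S)), F.IsNormalizerSystem (Cfsg.thompsonSubgroupAOf S) NJ → ∀ NT : Cfsg.FusionSystem (Cfsg.FusionSystem.normalizerIn S T), F.IsNormalizerSystem T NT → NJ.IsSubsystemOf NT) : F.WeaklyClosed T ∨ ∃ X : Subgroup (MulAut ↥T), X ≤ F.autGroup T ∧ X ≠ ⊥ ∧ IsCyclic ↥X ∧ (Nat.card ↥X).Coprime p ∧ ∀ a b : ↥T, a ∈ Subgroup.closure {y : ↥T | ∃ ψ ∈ X, ∃ t : ↥T, y = ψ t * t⁻¹} → b ∈ Subgroup.closure {y : ↥T | ∃ ψ ∈ X, ∃ t : ↥T, y = ψ t * t⁻¹} → a ≠ 1 → b ≠ 1 → ∃ ψ ∈ X, ψ a = b := by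
  classical
  by_cases hX : HasTorus F p T
  · exact Or.inr hX
  refine Or.inl ?_
  have hTS : T ≤ S := hT.trans inf_le_left
  have hTc : T ≤ Subgroup.centralizer (S : Set _) := hT.trans inf_le_right
  have hNS : normalizerIn S T = S :=
    le_antisymm (normalizerIn_le S T) (le_inf le_rfl fun s hs =>
      Subgroup.mem_normalizer_iff.2 fun y => ⟨fun hy => by
        rwa [Subgroup.mem_centralizer_iff.1 (hTc hy) s hs, mul_inv_cancel_right], fun hy => by
        have h := Subgroup.mem_centralizer_iff.1 (hTc hy) s hs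
        have h2 : y = s * y * s⁻¹ := by
          rw [← mul_assoc, ← mul_assoc] at h
          have := mul_left_cancel (a := s) (b := y) (c := s * y * s⁻¹) (by
            simpa [mul_assoc] using h.symm)
          exact this
        exact h2 ▸ hy⟩)
  set N := normalizerSystem F T hTS
  set G := copyOver N hNS
  have hN := isNormalizerSystem_normalizerSystem F T hTS
  have hTn : F.IsFullyNormalized T := isFullyNormalized_of_le_normalizer hTS fun s hs =>
    (hNS.ge hs).2
  have hG : G.IsSaturated p :=
    (isSaturated_copyOver N hNS).2 (isSaturated_normalizerSystem hS hF hTn hN)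
  have hGF : G.IsSubsystemOf F := fun P φ hφ => hφ.1
  have hCh := isGoodChoice_liftSub (S := S) hS (W := jW) jW_ne_bot jW_natural
  have hsub : F.IsSubsystemOf G := by
    refine control_top hS hF hCh (fun {R} E Z hE hZ hZp hlt hC hcov _ =>
      hcons_of_step hS hF hG hGF hCh (fun {R} E Z hE hZ hZp hlt D hyp a ha => ?_)
        E Z hE hZ hZp hlt hC hcov) fun _ U hU P φ hφ => ?_
    · have hR := hE.isPGroup hS
      have hYR : E.core ≤ R := D.hle
      have hYS : E.core ≤ S := hYR.trans hE.le_S
      have hC : centralizerIn R E.core ≤ E.core := by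
        intro r hr
        have h1 : D.τ (D.ι ⟨r, hr.1⟩) = 1 := Subtype.ext (MulEquiv.ext fun y => Subtype.ext (by
          rw [D.τ_ι, OneMemClass.coe_one, MulAut.one_apply, ← Subgroup.mem_centralizer_iff.1 hr.2 _ y.2,
            mul_inv_cancel_right]))
        obtain ⟨z, -, hz⟩ := D.ker _ h1
        have h2 := congrArg Subtype.val (D.model.2.1.1 hz)
        exact (show (z : Ω) = r from h2) ▸ z.2
      have hTY : T ≤ E.core := fun t ht => center_mem_core hE hC (hTS ht) (hTc ht)
      have hmemG : ∀ b : MulAut E.core, b ∈ G.autGroup E.core → ∀ y : E.core, (y : Ω) ∈ T →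
          ((b y : E.core) : Ω) ∈ T := by
        intro b hb y hy
        obtain ⟨-, -, -, ψ, -, hag, hTψ⟩ := (mem_autGroup_iff_hom hYS).1 hb
        show (E.core.subtype.comp (b : E.core ≃* E.core).toMonoidHom) y ∈ T
        rw [← hag y]
        have h := apply_mem_map_subgroupOf (P := T) (φ := ψ) (Subgroup.inclusion le_sup_left y) hy
        rwa [hTψ] at h
      obtain ⟨l, hl⟩ := D.surj ⟨a, ha⟩
      have haF := hE.1 _ ((mem_autGroup_iff_hom hYR).1 ha)
      have hfinT : Finite T := finite_of_le hTS
      by_cases hall : ∀ y : E.core, (y : Ω) ∈ T → ((a y : E.core) : Ω) ∈ T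
      · refine (mem_autGroup_iff_hom hYS).2 ⟨haF, hYS.trans hNS.ge, fun x => hNS.ge (map_mem haF x),
          (E.core.subtype.comp (a : E.core ≃* E.core).toMonoidHom).comp
            (Subgroup.inclusion (sup_le le_rfl hTY)), restrict_mem haF _, fun x => rfl, ?_⟩
        rw [← range_comp_inclusion le_sup_right]
        exact range_eq_of_le ((Subtype.val_injective.comp (a : E.core ≃* E.core).injective).comp
          ((Subgroup.inclusion_injective _).comp (Subgroup.inclusion_injective _))) fun t =>
          hall ⟨t, hTY t.2⟩ t.2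
      · push Not at hall
        obtain ⟨y, hy, hny⟩ := hall
        obtain ⟨U, hU⟩ := liftSub_nonempty (W := jW) hZ
        refine absurd (exists_torus hS hp hE hZ hZp hlt D hTY hTc hU
          (fun l hl => hmemG _ (hyp U hU l hl)) (l₀ := l) hy ?_) hX
        rw [hl]
        exact hny
    · rw [eq_of_mem_liftSub_bot hS jW_natural hU, jW_map, ← CfsgLib.PLoc.joinMaxAb_zero] at hφ
      have hJS : Cfsg.thompsonSubgroupAOf S ≤ S := Subgroup.map_subtype_le _
      exact hJT _ (isNormalizerSystem_normalizerSystem F _ hJS) _ hN P hφ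
  refine ⟨hTS, fun φ hφ => ?_⟩
  obtain ⟨-, -, -, ψ, hψ, hag, hTψ⟩ := hsub T hφ
  have hfinT : Finite T := finite_of_le hTS
  refine range_eq_of_le (hom_inj hφ) fun t => ?_
  rw [← hag t]
  have h := apply_mem_map_subgroupOf (P := T) (φ := ψ) (Subgroup.inclusion le_sup_left t) t.2
  rwa [hTψ] at h

end Cfsg.Agent.S5278
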