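import Cfsg.Statements.S5281
import Cfsg.Agent.Lib.FusionPStable.Local

set_option autoImplicit false
open Cfsg

namespace Cfsg.Agent.S5281

/-- Let p be an odd prime and F a saturated fusion system over a finite p-group S. Call a fusion system E (over any subgroup) p-stable when, for every fully E-normalized subgroup Q and every χ in Aut_E(Q) with χ(a⁻¹)·a·χ(a⁻¹)·χ(χ(a)) = 1 for all a in Q (χ acts quadratically), χ lies in O_p(Aut_E(Q)). Then F is p-stable if and only if the normalizer fusion system of R in F is p-stable for every fully F-normalized, F-centric, F-radical subgroup R of S. -/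
theorem result {Ω : Type*} [Group Ω] {S : Subgroup Ω} [Finite S] (p : ℕ) [Fact p.Prime] (hS : IsPGroup p ↥S) (F : Cfsg.FusionSystem S) (hF : F.IsSaturated p) (hp : p ≠ 2) : (∀ Q : Subgroup Ω, F.IsFullyNormalized Q → ∀ χ : MulAut ↥Q, χ ∈ F.autGroup Q → (∀ a : ↥Q, (χ a⁻¹) * a * (χ a⁻¹) * (χ (χ a)) = 1) → χ ∈ ((Cfsg.pCore p ↥(F.autGroup Q)).map (F.autGroup Q).subtype : Subgroup (MulAut ↥Q))) ↔ ∀ R : Subgroup Ω, F.IsFullyNormalized R → F.IsCentric R → F.IsRadical p R → ∀ N : Cfsg.FusionSystem (Cfsg.FusionSystem.normalizerIn S R), F.IsNormalizerSystem R N → (∀ Q : Subgroup Ω, N.IsFullyNormalized Q → ∀ χ : MulAut ↥Q, χ ∈ N.autGroup Q → (∀ a : ↥Q, (χ a⁻¹) * a * (χ a⁻¹) * (χ (χ a)) = 1) → χ ∈ ((Cfsg.pCore p ↥(N.autGroup Q)).map (N.autGroup Q).subtype : Subgroup (MulAut ↥Q))) := by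
  constructor
  · intro h R hR _ _ N hN
    exact CfsgLib.FusionPStable.isPStable_normalizer h hR.1 hN
  · intro h Q hQ χ hχ hq
    show χ ∈ CfsgLib.FusionPStable.autCore F p Q
    obtain ⟨Q', R, hQQ', hcov, hR, hRc, hRr⟩ :=
      CfsgLib.FusionPStable.exists_covers_radical hS hF hQ.1
    obtain ⟨e, he⟩ := CfsgLib.Fusion.exists_iso_of_isConj hQQ'
    rw [← CfsgLib.FusionPStable.congr_mem_autCore_iff he]
    have hN := CfsgLib.Fusion.isNormalizerSystem_normalizerSystem F R hR.1
    set N := CfsgLib.Fusion.normalizerSystem F R hR.1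
    have hQN : Q' ≤ Cfsg.FusionSystem.normalizerIn S R :=
      hcov.choose.trans (CfsgLib.Fusion.le_normalizerIn hR.1)
    have heq : N.autGroup Q' = F.autGroup Q' := le_antisymm
      (CfsgLib.FusionPStable.normalizer_autGroup_le hR.1 hN hQN) (hcov.autGroup_le hR.1 hN)
    haveI : Finite (Cfsg.FusionSystem.normalizerIn S R) :=
      CfsgLib.Fusion.finite_of_le (CfsgLib.Fusion.normalizerIn_le S R)
    have h1 := CfsgLib.FusionPStable.IsPStable.of_le (F := N) (p := p) (h R hR hRc hRr N hN) hQN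
      (heq.symm ▸ he.congr_mem hχ) (CfsgLib.FusionPStable.IsQuadratic.congr e hq)
    unfold CfsgLib.FusionPStable.autCore at h1 ⊢
    rwa [heq] at h1

end Cfsg.Agent.S5281
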