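import Cfsg.Statements.S5284
import Cfsg.Agent.S5283
import Cfsg.Agent.Lib.FusionAut.AbelianCoprime
import Cfsg.Agent.Lib.Fusion.Stability

set_option autoImplicit false
open Cfsg

namespace Cfsg.Agent.S5284

/-- Let S be a finite abelian p-group. Every saturated fusion system over S is supersoluble (S has a chain of F-strongly closed subgroups from 1 to S with cyclic steps) if and only if the invariants of S are pairwise distinct, that is, S is not isomorphic to a direct product (Z/p^n × Z/p^n) × H with n ≥ 1. -/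
theorem result {Ω : Type*} [Group Ω] {S : Subgroup Ω} [Finite S] (p : ℕ) [Fact p.Prime] (hS : IsPGroup p ↥S) (hab : IsMulCommutative ↥S) : (∀ F : Cfsg.FusionSystem S, F.IsSaturated p → (∃ (m : ℕ) (c : Fin (m + 1) → Subgroup Ω), c 0 = ⊥ ∧ c (Fin.last m) = S ∧ (∀ i : Fin (m + 1), F.StronglyClosed (c i)) ∧ ∀ i : Fin m, c i.castSucc ≤ c i.succ ∧ ∃ x ∈ S, c i.succ = c i.castSucc ⊔ Subgroup.zpowers x)) ↔ ¬ ∃ (n : ℕ) (H : Type) (_ : CommGroup H), 0 < n ∧ Nonempty (↥S ≃* (Multiplicative (ZMod (p ^ n)) × Multiplicative (ZMod (p ^ n))) × H) := by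
  classical
  rw [Cfsg.Agent.S5283.result p hS]
  haveI := hab
  letI : CommGroup S := { (inferInstance : Group S) with mul_comm := mul_comm' }
  have hp := (Fact.out : p.Prime)
  constructor
  · rintro ⟨-, h⟩ ⟨n, H, iH, hn, ⟨e⟩⟩
    haveI : NeZero (p ^ n) := ⟨pow_ne_zero _ hp.ne_zero⟩
    haveI : Fact (1 < p ^ n) := ⟨Nat.one_lt_pow hn.ne' hp.one_lt⟩
    have hord : orderOf (Multiplicative.ofAdd (1 : ZMod (p ^ n))) = p ^ n := by
      rw [orderOf_ofAdd_eq_addOrderOf, ZMod.addOrderOf_one]
    obtain ⟨K, hK, hKne⟩ := CfsgLib.FusionAut.exists_coprime_not_abelian_exponent (p := p)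
      (g := Multiplicative.ofAdd (1 : ZMod (p ^ n)))
      (fun hg => (Fact.out : 1 < p ^ n).ne' (by rw [← hord, hg, orderOf_one]))
      (fun hodd hg => by
        have h2 := orderOf_dvd_of_pow_eq_one (x := Multiplicative.ofAdd (1 : ZMod (p ^ n))) (n := 2)
          (by rw [pow_two, mul_eq_one_iff_eq_inv, hg])
        rw [hord] at h2
        have h4 := (Nat.prime_dvd_prime_iff_eq hp Nat.prime_two).1 ((dvd_pow_self p hn.ne').trans h2)
        rcases hodd with ⟨q, hq⟩
        omega) e
    exact hKne (h K hK)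
  · intro hno
    refine ⟨fun F hF => CfsgLib.Fusion.Stability.isNormal_of_abelian hS hF ⟨le_rfl, fun R _ φ hφ x =>
      CfsgLib.Fusion.map_mem hφ x⟩ fun x hx y hy => congrArg Subtype.val (mul_comm (⟨x, hx⟩ : S) ⟨y, hy⟩), fun K hK => ?_⟩
    · obtain ⟨ι, hι, n, hn1, ⟨e⟩⟩ := CommGroup.equiv_prod_multiplicative_zmod_of_finite S
      refine CfsgLib.FusionAut.abelian_exponent_of_injective hS e (fun i j hij => ?_) hK
      by_contra hne
      obtain ⟨N, hN⟩ := IsPGroup.iff_card.1 hS
      have hdvd : n i ∣ p ^ N := by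
        have : orderOf (e.symm (Pi.mulSingle i (Multiplicative.ofAdd 1))) = n i := by
          rw [MulEquiv.orderOf_eq, orderOf_piMulSingle, orderOf_ofAdd_eq_addOrderOf,
            ZMod.addOrderOf_one]
        rw [← hN, ← this]
        exact orderOf_dvd_natCard _
      obtain ⟨k, -, hk⟩ := (Nat.dvd_prime_pow hp).1 hdvd
      have hk0 : 0 < k := Nat.pos_of_ne_zero fun h0 => (hn1 i).ne' (by rw [hk, h0, pow_zero])
      let cong : ∀ {m m' : ℕ}, m = m' → Multiplicative (ZMod m) ≃* Multiplicative (ZMod m') :=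
        fun h => AddEquiv.toMultiplicative (ZMod.ringEquivCongr h).toAddEquiv
      refine hno ⟨k, (l : {l : ι // l ≠ i ∧ l ≠ j}) → Multiplicative (ZMod (n l)), inferInstance,
        hk0, ⟨?_⟩⟩
      refine e.trans (MulEquiv.trans ?_
        (((cong hk).prodCongr (cong (hij.symm.trans hk))).prodCongr (MulEquiv.refl _)))
      exact
        { toFun := fun f => ((f i, f j), fun l => f l)
          invFun := fun q l => if hi : l = i then hi.symm ▸ q.1.1 else
            if hj : l = j then hj.symm ▸ q.1.2 else q.2 ⟨l, hi, hj⟩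
          left_inv := fun f => funext fun l => by
            by_cases hi : l = i
            · subst hi; simp
            · by_cases hj : l = j
              · subst hj; simp [hi]
              · simp [hi, hj]
          right_inv := fun q => by
            refine Prod.ext (Prod.ext ?_ ?_) (funext fun l => ?_)
            · simp
            · simp [Ne.symm hne]
            · simp [l.2.1, l.2.2]
          map_mul' := fun f g => rfl }

end Cfsg.Agent.S5284
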