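/-
Every fusion system on a finite group is realized by a virtually free group.
The group is the group of pairs (path, permutation) inside `FreeGroup edges ⋊ Perm S`.
-/
import Cfsg.Statements.S5286
import Mathlib.GroupTheory.FreeGroup.Reduce
import Mathlib.GroupTheory.FreeGroup.NielsenSchreier
import Mathlib.GroupTheory.SemidirectProduct
import Mathlib.GroupTheory.Perm.Subgroup
import Mathlib.GroupTheory.Coset.Card
import Mathlib.GroupTheory.Index
import Mathlib.SetTheory.Cardinal.Finite
import Mathlib.Tactic.Linarith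
import Mathlib.Tactic.Ring

set_option autoImplicit false
universe u
open Cfsg

namespace Cfsg.Agent.S5286

open FreeGroup (toWord mk reduce)

/-! ### Regular representations -/

theorem exists_split {A : Type u} [Group A] (K : Subgroup A) :
    ∃ e : A ≃ K × Quotient (QuotientGroup.rightRel K),
      ∀ (k : K) (x : A), e ((k : A) * x) = (k * (e x).1, (e x).2) := by
  classical
  let m : A → Quotient (QuotientGroup.rightRel K) := Quotient.mk''
  have hm : ∀ x : A, x * (m x).out⁻¹ ∈ K := fun x => by
    have := Quotient.exact ((m x).out_eq)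
    simpa [QuotientGroup.rightRel_apply] using this
  have hmk : ∀ (k : K) (x : A), m ((k : A) * x) = m x := fun k x => by
    refine Quotient.sound ?_
    show (QuotientGroup.rightRel K).r _ _
    refine QuotientGroup.rightRel_apply.mpr ?_
    simpa using K.inv_mem k.2
  refine ⟨{ toFun := fun x => (⟨x * (m x).out⁻¹, hm x⟩, m x)
            invFun := fun y => (y.1 : A) * y.2.out
            left_inv := fun x => by simp
            right_inv := ?_ }, ?_⟩
  · rintro ⟨k, c⟩
    have hc : m ((k : A) * c.out) = c := by rw [hmk]; exact c.out_eq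
    refine Prod.ext (Subtype.ext ?_) ?_
    · show (k : A) * c.out * (m ((k : A) * c.out)).out⁻¹ = (k : A)
      rw [hc, mul_inv_cancel_right]
    · exact hc
  · intro k x
    refine Prod.ext (Subtype.ext ?_) ?_
    · show (k : A) * x * (m ((k : A) * x)).out⁻¹ = (k : A) * (x * (m x).out⁻¹)
      rw [hmk, mul_assoc]
    · exact hmk k x

theorem exists_conjugating_perm {A : Type u} [Group A] [Finite A] (K : Subgroup A) (ψ : K →* A)
    (hψ : Function.Injective ψ) :
    ∃ t : Equiv.Perm A, ∀ k : K,
      t * Equiv.mulLeft (k : A) = Equiv.mulLeft (ψ k) * t := by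
  obtain ⟨eK, heK⟩ := exists_split K
  obtain ⟨eQ, heQ⟩ := exists_split ψ.range
  let f : K ≃* ψ.range := MonoidHom.ofInjective hψ
  have hcard : Nat.card (Quotient (QuotientGroup.rightRel K)) =
      Nat.card (Quotient (QuotientGroup.rightRel ψ.range)) := by
    have h1 := Nat.card_congr eK
    have h2 := Nat.card_congr eQ
    rw [Nat.card_prod] at h1 h2
    rw [← Nat.card_congr f.toEquiv] at h2
    exact Nat.eq_of_mul_eq_mul_left (Nat.card_pos (α := K)) (h1.symm.trans h2)
  let g := (Finite.equivFin (Quotient (QuotientGroup.rightRel K))).trans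
    ((finCongr hcard).trans (Finite.equivFin (Quotient (QuotientGroup.rightRel ψ.range))).symm)
  refine ⟨eK.trans ((f.toEquiv.prodCongr g).trans eQ.symm), fun k => ?_⟩
  ext x
  simp only [Equiv.Perm.mul_apply, Equiv.coe_mulLeft, Equiv.trans_apply]
  apply eQ.injective
  have : (ψ k : A) = ((f k : ψ.range) : A) := rfl
  rw [this, heQ, heK]
  simp [f.map_mul]

/-! ### Words -/

theorem length_cons_reduce {α : Type u} [DecidableEq α] (a : α × Bool) (y : FreeGroup α) :
    (toWord (mk [a] * y)).length = (toWord y).length + 1 ∨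
      ((toWord (mk [a] * y)).length + 1 = (toWord y).length ∧
        ∃ l, toWord y = (a.1, !a.2) :: l) := by
  have h : toWord (mk [a] * y) = reduce (a :: toWord y) := by
    conv_lhs => rw [← FreeGroup.mk_toWord (x := y)]
    rw [FreeGroup.mul_mk, FreeGroup.toWord_mk]; rfl
  rw [h, FreeGroup.reduce.cons, FreeGroup.reduce_toWord]
  cases hy : toWord y with
  | nil => left; simp
  | cons hd tl =>
    dsimp only
    split_ifs with hc
    · right
      refine ⟨by simp, tl, ?_⟩
      obtain ⟨h1, h2⟩ := hc
      congr 1
      exact Prod.ext h1.symm (by simp [h2])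
    · left; simp

theorem sq_convex_step {α : Type u} [DecidableEq α] (a b : α × Bool)
    (hab : a.1 = b.1 → a.2 = b.2) (y : FreeGroup α) :
    2 * (toWord y).length ^ 2 + 2 ≤
      (toWord (mk [a] * y)).length ^ 2 + (toWord (mk [(b.1, !b.2)] * y)).length ^ 2 := by
  rcases length_cons_reduce a y with ha | ⟨ha, la, hla⟩ <;>
    rcases length_cons_reduce (b.1, !b.2) y with hb | ⟨hb, lb, hlb⟩
  · rw [ha, hb]; ring_nf; omega
  · rw [ha, ← hb]; ring_nf; omega
  · rw [hb, ← ha]; ring_nf; omega
  · exfalso
    rw [hla] at hlb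
    obtain ⟨h, -⟩ := List.cons.inj hlb
    obtain ⟨h1, h2⟩ := Prod.ext_iff.mp h
    have h3 := hab h1
    simp at h2
    revert h3 h2
    cases a.2 <;> cases b.2 <;> simp

theorem increasing_of_convex (a : ℕ → ℕ) (n : ℕ) (hn : 2 ≤ n) (h01 : a 0 ≤ a 1)
    (hc : ∀ i, i + 2 ≤ n → 2 * a (i + 1) < a i + a (i + 2)) : a 0 < a n := by
  have : ∀ i, i + 2 ≤ n → a 0 < a (i + 2) ∧ a (i + 1) < a (i + 2) := by
    intro i
    induction i with
    | zero => intro h; have h2 := hc 0 h; simp only [Nat.zero_add] at h2 ⊢; omega
    | succ i ih =>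
      intro h
      have h1 := ih (by omega)
      have h2 := hc (i + 1) h
      have h3 : i + 1 + 2 = i + 3 := rfl
      have h4 : i + 1 + 1 = i + 2 := rfl
      rw [h3, h4] at h2 ⊢
      omega
  have h := (this (n - 2) (by omega)).1
  rwa [show n - 2 + 2 = n by omega] at h

theorem short_of_min {α : Type u} [DecidableEq α] {X : Type u} [Fintype X] [Nonempty X]
    (u : X → FreeGroup α) (w : List (α × Bool)) (hw : FreeGroup.IsReduced w)
    (hmin : ∑ h, (toWord (u h)).length ^ 2 ≤
      ∑ h, (toWord ((mk (w.take 1))⁻¹ * u h)).length ^ 2)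
    (heq : ∑ h, (toWord ((mk w)⁻¹ * u h)).length ^ 2 = ∑ h, (toWord (u h)).length ^ 2) :
    w.length ≤ 1 := by
  let a : ℕ → ℕ := fun m => ∑ h, (toWord ((mk (w.take m))⁻¹ * u h)).length ^ 2
  by_contra hn
  have h0 : a 0 = ∑ h, (toWord (u h)).length ^ 2 := by
    simp [a, ← FreeGroup.one_eq_mk]
  have hl : a w.length = a 0 := by
    rw [h0]; simpa [a] using heq
  refine lt_irrefl (a 0) (lt_of_lt_of_eq (increasing_of_convex a w.length (by omega) ?_ ?_) hl)
  · rw [h0]; exact hmin
  · intro m hm
    have h1 : w.take (m + 1) = w.take m ++ [w[m]] := (List.take_append_getElem (by omega)).symm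
    have h2 : w.take (m + 2) = w.take m ++ [w[m]] ++ [w[m + 1]] := by
      rw [← h1]; exact (List.take_append_getElem (by omega)).symm
    have hab : w[m].1 = w[m + 1].1 → w[m].2 = w[m + 1].2 :=
      List.IsChain.getElem hw m (by omega)
    simp only [a, h1, h2, ← FreeGroup.mul_mk, mul_inv_rev]
    rw [Finset.mul_sum, ← Finset.sum_add_distrib]
    refine Finset.sum_lt_sum_of_nonempty Finset.univ_nonempty fun h' _ => ?_
    have := sq_convex_step w[m] w[m + 1] hab ((mk [w[m]])⁻¹ * (mk (w.take m))⁻¹ * u h')
    have e1 : mk [w[m]] * ((mk [w[m]])⁻¹ * (mk (w.take m))⁻¹ * u h') =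
        (mk (w.take m))⁻¹ * u h' := by group
    have e2 : mk [(w[m + 1].1, !w[m + 1].2)] = (mk [w[m + 1]])⁻¹ := by
      simp [FreeGroup.inv_mk, FreeGroup.invRev]
    rw [e1, e2] at this
    simp only [mul_assoc] at this ⊢
    omega

/-! ### The graph -/

section Graph

variable {Γ : Type u} [Group Γ] {ι : Type u} (L : Subgroup Γ) (A : ι → Subgroup Γ)

/-- edges -/
abbrev Edge : Type u := (i : ι) × (Γ ⧸ A i)

variable (t : ι → Γ) (ht : ∀ i, ∀ a ∈ A i, t i * a * (t i)⁻¹ ∈ L)

def tgt : Edge A → Γ ⧸ L := fun e =>
  Quotient.liftOn' e.2 (fun c => QuotientGroup.mk (c * (t e.1)⁻¹)) (fun a b hab => by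
    refine QuotientGroup.eq.mpr ?_
    have := ht e.1 _ (QuotientGroup.leftRel_apply.mp hab)
    simpa [mul_assoc] using this)

variable (hA : ∀ i, A i ≤ L)

def src : Edge A → Γ ⧸ L := fun e =>
  Quotient.liftOn' e.2 (fun c => QuotientGroup.mk c) (fun a b hab => by
    exact QuotientGroup.eq.mpr (hA e.1 (QuotientGroup.leftRel_apply.mp hab)))

def start (l : Edge A × Bool) : Γ ⧸ L := if l.2 then src L A hA l.1 else tgt L A t ht l.1

def finish (l : Edge A × Bool) : Γ ⧸ L := if l.2 then tgt L A t ht l.1 else src L A hA l.1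

def IsPath : List (Edge A × Bool) → Γ ⧸ L → Γ ⧸ L → Prop
  | [], x, y => x = y
  | l :: ls, x, y => start L A t ht hA l = x ∧ IsPath ls (finish L A t ht hA l) y

theorem isPath_append (l₁ l₂ : List (Edge A × Bool)) (x z : Γ ⧸ L) :
    IsPath L A t ht hA (l₁ ++ l₂) x z ↔
      ∃ y, IsPath L A t ht hA l₁ x y ∧ IsPath L A t ht hA l₂ y z := by
  induction l₁ generalizing x with
  | nil => simp [IsPath]
  | cons a l ih => simp [IsPath, ih, and_assoc]

theorem isPath_reduce [DecidableEq (Edge A)] (l : List (Edge A × Bool)) (x y : Γ ⧸ L)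
    (h : IsPath L A t ht hA l x y) : IsPath L A t ht hA (reduce l) x y := by
  have hstep : ∀ l₁ l₂ : List (Edge A × Bool), FreeGroup.Red.Step l₁ l₂ →
      IsPath L A t ht hA l₁ x y → IsPath L A t ht hA l₂ x y := by
    rintro _ _ ⟨⟩ hp
    rename_i l₁ l₂ e b
    rw [isPath_append] at hp ⊢
    obtain ⟨z, h1, h2, h3, h4⟩ := hp
    refine ⟨z, h1, ?_⟩
    have : finish L A t ht hA (e, !b) = z := by
      rw [← h2]; cases b <;> simp [start, finish]
    rwa [this] at h4
  have hr : FreeGroup.Red l (reduce l) := FreeGroup.reduce.red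
  revert hr
  generalize reduce l = l'
  intro hr
  induction hr with
  | refl => exact h
  | tail _ hs ih => exact hstep _ _ hs ih

theorem isPath_invRev (l : List (Edge A × Bool)) (x y : Γ ⧸ L)
    (h : IsPath L A t ht hA l x y) : IsPath L A t ht hA (FreeGroup.invRev l) y x := by
  induction l generalizing x with
  | nil => simpa [FreeGroup.invRev, IsPath] using h.symm
  | cons a l ih =>
    obtain ⟨h1, h2⟩ := h
    have e : FreeGroup.invRev (a :: l) = FreeGroup.invRev l ++ [(a.1, !a.2)] := by
      simp [FreeGroup.invRev]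
    rw [e, isPath_append]
    refine ⟨_, ih _ h2, ?_, ?_⟩
    · obtain ⟨e', b⟩ := a; cases b <;> simp [start, finish]
    · show finish L A t ht hA (a.1, !a.2) = x
      rw [← h1]
      obtain ⟨e', b⟩ := a; cases b <;> simp [start, finish]

/-- left translation of edges -/
def moveEdge (s : Γ) : Equiv.Perm (Edge A) where
  toFun e := ⟨e.1, s • e.2⟩
  invFun e := ⟨e.1, s⁻¹ • e.2⟩
  left_inv e := by simp
  right_inv e := by simp

def act : Γ →* MulAut (FreeGroup (Edge A)) where
  toFun s := FreeGroup.freeGroupCongr (moveEdge A s)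
  map_one' := by
    have : moveEdge A 1 = Equiv.refl _ := by
      apply Equiv.ext; intro e; simp [moveEdge]
    rw [this, FreeGroup.freeGroupCongr_refl]; rfl
  map_mul' s s' := by
    rw [show moveEdge A (s * s') = (moveEdge A s').trans (moveEdge A s) from
      Equiv.ext fun e => by simp [moveEdge, mul_smul]]
    rw [← FreeGroup.freeGroupCongr_trans]; rfl

def moveWord (s : Γ) (l : List (Edge A × Bool)) : List (Edge A × Bool) :=
  l.map fun x => (moveEdge A s x.1, x.2)

theorem act_mk (s : Γ) (l : List (Edge A × Bool)) : act A s (mk l) = mk (moveWord A s l) := by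
  simp [act, moveWord, FreeGroup.freeGroupCongr]

theorem toWord_act [DecidableEq (Edge A)] (s : Γ) (x : FreeGroup (Edge A)) :
    toWord (act A s x) = moveWord A s (toWord x) := by
  conv_lhs => rw [← FreeGroup.mk_toWord (x := x), act_mk, FreeGroup.toWord_mk]
  refine FreeGroup.IsReduced.reduce_eq ?_
  have h : FreeGroup.IsReduced (toWord x) := FreeGroup.isReduced_toWord
  unfold moveWord
  unfold FreeGroup.IsReduced at h ⊢
  rw [List.isChain_map]
  refine h.imp ?_
  intro a b hab he
  exact hab ((moveEdge A s).injective he)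

theorem start_move (s : Γ) (e : Edge A × Bool) :
    start L A t ht hA (moveEdge A s e.1, e.2) = s • start L A t ht hA e := by
  obtain ⟨⟨i, c⟩, b⟩ := e
  induction c using QuotientGroup.induction_on with
  | _ c => cases b <;> simp [start, src, tgt, moveEdge, mul_assoc] <;> rfl

theorem finish_move (s : Γ) (e : Edge A × Bool) :
    finish L A t ht hA (moveEdge A s e.1, e.2) = s • finish L A t ht hA e := by
  obtain ⟨⟨i, c⟩, b⟩ := e
  induction c using QuotientGroup.induction_on with
  | _ c => cases b <;> simp [finish, src, tgt, moveEdge, mul_assoc] <;> rfl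

theorem isPath_move (s : Γ) (l : List (Edge A × Bool)) (x y : Γ ⧸ L)
    (h : IsPath L A t ht hA l x y) : IsPath L A t ht hA (moveWord A s l) (s • x) (s • y) := by
  induction l generalizing x with
  | nil => exact congrArg (s • ·) h
  | cons a l ih =>
    obtain ⟨h1, h2⟩ := h
    refine ⟨?_, ?_⟩
    · rw [← h1]; exact start_move L A t ht hA s a
    · have := ih _ h2
      rw [← finish_move L A t ht hA s a] at this
      exact this

/-- base vertex -/
def base : Γ ⧸ L := ((1 : Γ) : Γ ⧸ L)

/-- the realizing group -/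
def pathGroup [DecidableEq (Edge A)] : Subgroup (FreeGroup (Edge A) ⋊[act A] Γ) where
  carrier := {g | IsPath L A t ht hA (toWord g.left) (base L) (g.right • base L)}
  one_mem' := by simp [IsPath]
  mul_mem' {g g'} hg hg' := by
    show IsPath L A t ht hA (toWord (g.left * act A g.right g'.left)) (base L)
      ((g.right * g'.right) • base L)
    rw [FreeGroup.toWord_mul, toWord_act, mul_smul]
    refine isPath_reduce L A t ht hA _ _ _ ?_
    rw [isPath_append]
    exact ⟨_, hg, isPath_move L A t ht hA g.right _ _ _ hg'⟩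
  inv_mem' {g} hg := by
    show IsPath L A t ht hA (toWord (act A g.right⁻¹ g.left⁻¹)) (base L) (g.right⁻¹ • base L)
    rw [toWord_act, FreeGroup.toWord_inv]
    have := isPath_move L A t ht hA g.right⁻¹ _ _ _ (isPath_invRev L A t ht hA _ _ _ hg)
    rwa [inv_smul_smul] at this

theorem mk_smul_base (a : Γ) : a • base L = (a : Γ ⧸ L) := by
  simp [base]

theorem smul_base_eq {a : Γ} (h : a • base L = base L) : a ∈ L := by
  rw [mk_smul_base] at h
  simpa [base, QuotientGroup.eq] using h

end Graph

/-- Every fusion system F over a finite p-group S, saturated or not, is realized by a possibly infinite group: there are a group G and an injective homomorphism ι of S into G such that the maps of F are exactly the conjugations by elements of G between subgroups of ι(S), every finite subgroup of G is conjugate to a subgroup of ι(S), and G has a free normal subgroup whose index divides (#S)!. -/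
theorem result {Ω : Type u} [Group Ω] {S : Subgroup Ω} [Finite S] (p : ℕ) [Fact p.Prime] (hS : IsPGroup p ↥S) (F : Cfsg.FusionSystem S) : ∃ (G : Type u) (_ : Group G) (ι : ↥S →* G), F.IsRealizedBy ι ∧ (∀ H : Subgroup G, Finite ↥H → ∃ g : G, ∀ h ∈ H, g * h * g⁻¹ ∈ ι.range) ∧ ∃ N : Subgroup G, N.Normal ∧ IsFreeGroup ↥N ∧ N.index ∣ (Nat.card ↥S).factorial := by
  classical
  let I : Type u := {x : (P : Subgroup Ω) × (P →* Ω) // x.2 ∈ F.Hom x.1}
  let lam : ↥S →* Equiv.Perm ↥S :=
    { toFun := fun s => Equiv.mulLeft s
      map_one' := by ext x; simp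
      map_mul' := fun a b => by ext x; simp [mul_assoc] }
  have hlam : Function.Injective lam := fun a b h => by
    have h1 := Equiv.congr_fun h 1
    simpa [lam] using h1
  let ψ : (i : I) → ↥(i.1.1.subgroupOf S) →* ↥S := fun i =>
    { toFun := fun x => ⟨i.1.2 ⟨((x : ↥S) : Ω), x.2⟩, (F.le_of_mem i.2).2 _⟩
      map_one' := Subtype.ext (by
        show i.1.2 _ = 1
        exact (congrArg i.1.2 (Subtype.ext (by simp))).trans (map_one _))
      map_mul' := fun a b => Subtype.ext (by
        show i.1.2 _ = i.1.2 _ * i.1.2 _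
        rw [← map_mul]
        rfl) }
  have hψ : ∀ i, Function.Injective (ψ i) := by
    intro i a b h
    have h1 : i.1.2 ⟨((a : ↥S) : Ω), a.2⟩ = i.1.2 ⟨((b : ↥S) : Ω), b.2⟩ := congrArg Subtype.val h
    have h2 := congrArg Subtype.val (F.injective_of_mem i.2 h1)
    exact Subtype.ext (Subtype.ext h2)
  choose t ht0 using fun i => exists_conjugating_perm _ (ψ i) (hψ i)
  have ht1 : ∀ (i : I) (k : ↥(i.1.1.subgroupOf S)),
      t i * lam (k : ↥S) * (t i)⁻¹ = lam (ψ i k) := by
    intro i k
    rw [show t i * lam (k : ↥S) = lam (ψ i k) * t i from ht0 i k, mul_inv_cancel_right]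
  let L : Subgroup (Equiv.Perm ↥S) := lam.range
  let A : I → Subgroup (Equiv.Perm ↥S) := fun i => (i.1.1.subgroupOf S).map lam
  have hA : ∀ i, A i ≤ L := by
    rintro i _ ⟨k, -, rfl⟩; exact ⟨k, rfl⟩
  have ht : ∀ i, ∀ a ∈ A i, t i * a * (t i)⁻¹ ∈ L := by
    rintro i _ ⟨k, hk, rfl⟩
    exact ⟨ψ i ⟨k, hk⟩, (ht1 i ⟨k, hk⟩).symm⟩
  let G := pathGroup L A t ht hA
  let base0 : ↥S →* ↥G :=
    (SemidirectProduct.inr.comp lam).codRestrict G (fun s => by
      show IsPath L A t ht hA (toWord (1 : FreeGroup (Edge A))) (base L) (lam s • base L)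
      rw [FreeGroup.toWord_one]
      show base L = _
      rw [mk_smul_base]
      exact QuotientGroup.eq.mpr (by simp [L]))
  have hι : ∀ s, ((base0 s : ↥G) : FreeGroup (Edge A) ⋊[act A] _) = SemidirectProduct.inr (lam s) :=
    fun s => rfl
  have hιinj : Function.Injective base0 := fun a b h => hlam (by
    have := congrArg (fun g : ↥G => (g : FreeGroup (Edge A) ⋊[act A] _).right) h
    simpa [hι] using this)
  let e0 : (i : I) → Edge A := fun i => ⟨i, ((1 : Equiv.Perm ↥S) : Equiv.Perm ↥S ⧸ A i)⟩
  have hT : ∀ i, (⟨FreeGroup.of (e0 i), (t i)⁻¹⟩ : FreeGroup (Edge A) ⋊[act A] _) ∈ G := by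
    intro i
    show IsPath L A t ht hA (toWord (FreeGroup.of (e0 i))) (base L) _
    rw [FreeGroup.toWord_of]
    refine ⟨rfl, ?_⟩
    show tgt L A t ht (e0 i) = (t i)⁻¹ • base L
    simp [tgt, e0, base]
  let T : I → ↥G := fun i => ⟨_, hT i⟩
  have hTc : ∀ (i : I) (u : ↥S) (hu : (u : Ω) ∈ i.1.1),
      (T i)⁻¹ * base0 u * T i = base0 (ψ i ⟨u, hu⟩) := by
    intro i u hu
    rw [mul_assoc, inv_mul_eq_iff_eq_mul]
    apply Subtype.ext
    refine SemidirectProduct.ext ?_ ?_
    · show (1 : FreeGroup (Edge A)) * act A (lam u) (FreeGroup.of (e0 i)) =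
        FreeGroup.of (e0 i) * act A (t i)⁻¹ 1
      rw [map_one, mul_one, one_mul]
      show FreeGroup.freeGroupCongr _ _ = _
      simp only [FreeGroup.freeGroupCongr_apply, FreeGroup.map.of, moveEdge, Equiv.coe_fn_mk, e0]
      congr 1
      refine Sigma.ext rfl (heq_of_eq ?_)
      refine QuotientGroup.eq.mpr ?_
      have : lam u ∈ A i := ⟨u, hu, rfl⟩
      simpa using (A i).inv_mem this
    · show lam u * (t i)⁻¹ = (t i)⁻¹ * lam (ψ i ⟨u, hu⟩)
      rw [← ht1 i ⟨u, hu⟩]
      simp [mul_assoc]
  have key : ∀ (n : ℕ) (g : ↥G), (toWord (g : FreeGroup (Edge A) ⋊[act A] _).left).length ≤ n →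
      ∀ (P : Subgroup Ω) (hP : P ≤ S) (φ : P →* Ω) (hφ : ∀ x : P, φ x ∈ S),
        (∀ x : P, base0 ⟨φ x, hφ x⟩ = g * base0 ⟨x, hP x.2⟩ * g⁻¹) → φ ∈ F.Hom P := by
    intro n
    induction n with
    | zero =>
      intro g hg P hP φ hφ h
      have hw : (g : FreeGroup (Edge A) ⋊[act A] _).left = 1 :=
        FreeGroup.toWord_eq_nil_iff.mp (List.eq_nil_of_length_eq_zero (by omega))
      have hp := g.2
      change IsPath L A t ht hA (toWord _) _ _ at hp
      rw [hw, FreeGroup.toWord_one] at hp
      obtain ⟨y, hy⟩ := smul_base_eq L (hp.symm)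
      have hy' : ∀ x : P, φ x = (y : Ω) * x * (y : Ω)⁻¹ := by
        intro x
        have h1 := congrArg (fun g : ↥G => (g : FreeGroup (Edge A) ⋊[act A] _).right) (h x)
        simp [hι, ← hy, ← map_inv, ← map_mul] at h1
        exact congrArg Subtype.val (hlam h1)
      have : φ = conjHom P (y : Ω) := MonoidHom.ext fun x => by simp [conjHom, hy' x]
      rw [this]
      exact F.conj_mem hP y.2
    | succ n ih =>
      intro g hg P hP φ hφ h
      cases hl : toWord (g : FreeGroup (Edge A) ⋊[act A] _).left with
      | nil => exact ih g (by simp [hl]) P hP φ hφ h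
      | cons a l =>
        have hlen : l.length ≤ n := by rw [hl] at hg; simpa using hg
        have hw : (g : FreeGroup (Edge A) ⋊[act A] _).left = mk (a :: l) := by
          rw [← hl, FreeGroup.mk_toWord]
        have hg2 := g.2
        change IsPath L A t ht hA (toWord _) _ _ at hg2
        rw [hl] at hg2
        obtain ⟨hstart, -⟩ := hg2
        have hfix : ∀ x : P, moveEdge A (lam ⟨φ x, hφ x⟩) a.1 = a.1 := by
          intro x
          have h1 : base0 ⟨φ x, hφ x⟩ * g = g * base0 ⟨x, hP x.2⟩ := by
            rw [h x]; group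
          have h2 := congrArg (fun g : ↥G => (g : FreeGroup (Edge A) ⋊[act A] _).left) h1
          simp [hι] at h2
          have h3 := congrArg toWord h2
          rw [toWord_act, hl] at h3
          exact congrArg Prod.fst (List.cons.inj h3).1
        obtain ⟨⟨i, c⟩, b⟩ := a
        induction c using QuotientGroup.induction_on with
        | _ c =>
        cases b with
        | true =>
          obtain ⟨y, hy⟩ : c ∈ L := by
            have hs : ((c : Equiv.Perm ↥S) : _ ⧸ L) = base L := hstart
            exact smul_base_eq L (by rw [mk_smul_base]; exact hs)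
          have hz : ∀ x : P, ((y⁻¹ * ⟨φ x, hφ x⟩ * y : ↥S) : Ω) ∈ i.1.1 := by
            intro x
            have h1 := hfix x
            simp [moveEdge] at h1
            have h2 := QuotientGroup.eq.mp h1.symm
            rw [← hy, ← map_inv, ← map_mul, ← map_mul] at h2
            obtain ⟨k, hk, hk'⟩ := h2
            have hk2 := hlam hk'
            have : (y⁻¹ * ⟨φ x, hφ x⟩ * y : ↥S) = k := by rw [hk2]; group
            rw [this]; exact hk
          let c0 : P →* Ω := (MulAut.conj (y : Ω)⁻¹).toMonoidHom.comp φ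
          have hc0 : ∀ x : P, c0 x ∈ i.1.1 := fun x => by
            simpa [c0, mul_assoc] using hz x
          let χ : P →* Ω := i.1.2.comp (c0.codRestrict i.1.1 hc0)
          have hχS : ∀ x : P, χ x ∈ S := fun x => (F.le_of_mem i.2).2 _
          let g' : ↥G := (T i)⁻¹ * (base0 y)⁻¹ * g
          have hχ : χ ∈ F.Hom P := by
            refine ih g' ?_ P hP χ hχS ?_
            · have e1 : (g' : FreeGroup (Edge A) ⋊[act A] _).left =
                  act A (t i) (mk (moveWord A (lam y)⁻¹ l)) := by
                simp only [g', Subgroup.coe_mul, Subgroup.coe_inv, hι, T]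
                simp only [SemidirectProduct.mul_left, SemidirectProduct.inv_left,
                  SemidirectProduct.inv_right, SemidirectProduct.left_inr,
                  SemidirectProduct.right_inr, SemidirectProduct.mul_right, inv_inv, inv_one,
                  map_one, mul_one, map_mul, MulAut.mul_apply, hw]
                rw [← map_mul, act_mk]
                congr 1
                rw [inv_mul_eq_iff_eq_mul]
                show _ = mk [(e0 i, true)] * _
                rw [FreeGroup.mul_mk]
                simp [moveWord, moveEdge, ← hy, e0]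
              rw [e1, act_mk]
              refine le_trans FreeGroup.norm_mk_le ?_
              simp [moveWord, hlen]
            · intro x
              have hu : (y⁻¹ * ⟨φ x, hφ x⟩ * y : ↥S) = ⟨c0 x, (F.le_of_mem i.2).1 (hc0 x)⟩ := by
                apply Subtype.ext; simp [c0, mul_assoc]
              have e := hTc i ⟨c0 x, (F.le_of_mem i.2).1 (hc0 x)⟩ (hc0 x)
              have e2 : ψ i ⟨⟨c0 x, (F.le_of_mem i.2).1 (hc0 x)⟩, hc0 x⟩ = ⟨χ x, hχS x⟩ := rfl
              rw [e2] at e
              rw [← e, ← hu, map_mul, map_mul, map_inv, h x]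
              simp only [g']
              group
          obtain ⟨ψ', hψ', hψ'e⟩ := F.inv_mem i.2
          have hd : ∀ x : P, χ x ∈ i.1.2.range := fun x => ⟨_, rfl⟩
          have hc0m : c0 ∈ F.Hom P := by
            have := F.comp_mem hχ hψ' hd
            convert this using 1
            ext x
            exact (hψ'e ⟨c0 x, hc0 x⟩).symm
          have hr : ∀ x : P, c0 x ∈ S := fun x => (F.le_of_mem i.2).1 (hc0 x)
          have := F.comp_mem hc0m (F.conj_mem (P := S) le_rfl y.2) hr
          convert this using 1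
          ext x
          simp [c0, conjHom, mul_assoc]
        | false =>
          obtain ⟨y, hy⟩ : c * (t i)⁻¹ ∈ L := by
            have hs : ((c * (t i)⁻¹ : Equiv.Perm ↥S) : _ ⧸ L) = base L := hstart
            exact smul_base_eq L (by rw [mk_smul_base]; exact hs)
          have hc : c = lam y * t i := by rw [hy]; group
          let c0 : P →* Ω := (MulAut.conj (y : Ω)⁻¹).toMonoidHom.comp φ
          have hz : ∀ x : P, c0 x ∈ i.1.2.range := by
            intro x
            have h1 := hfix x
            simp [moveEdge] at h1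
            have h2 := QuotientGroup.eq.mp h1.symm
            rw [hc] at h2
            obtain ⟨k, hk, hk'⟩ := h2
            have h3 := ht1 i ⟨k, hk⟩
            simp only at h3
            rw [hk'] at h3
            have h4 : lam (ψ i ⟨k, hk⟩) = lam (y⁻¹ * ⟨φ x, hφ x⟩ * y) := by
              rw [← h3, map_mul, map_mul, map_inv]; group
            refine ⟨⟨(k : Ω), hk⟩, ?_⟩
            have h5 := congrArg Subtype.val (hlam h4)
            simpa [c0, ψ, mul_assoc] using h5
          obtain ⟨ψ', hψ', hψ'e⟩ := F.inv_mem i.2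
          let χ : P →* Ω := ψ'.comp (c0.codRestrict i.1.2.range hz)
          have hχP : ∀ x : P, χ x ∈ i.1.1 := by
            intro x
            obtain ⟨k, hk⟩ := hz x
            have : χ x = (k : Ω) := by
              rw [← hψ'e k]
              exact congrArg ψ' (Subtype.ext hk.symm)
            rw [this]; exact k.2
          have hcx : ∀ x : P, i.1.2 ⟨χ x, hχP x⟩ = c0 x := by
            intro x
            obtain ⟨k, hk⟩ := hz x
            have h0 : χ x = (k : Ω) := by
              rw [← hψ'e k]
              exact congrArg ψ' (Subtype.ext hk.symm)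
            rw [← hk]
            exact congrArg i.1.2 (Subtype.ext h0)
          have hχS : ∀ x : P, χ x ∈ S := fun x => (F.le_of_mem i.2).1 (hχP x)
          let g' : ↥G := T i * (base0 y)⁻¹ * g
          have hχ : χ ∈ F.Hom P := by
            refine ih g' ?_ P hP χ hχS ?_
            · have e1 : (g' : FreeGroup (Edge A) ⋊[act A] _).left =
                  mk (moveWord A ((t i)⁻¹ * (lam y)⁻¹) l) := by
                simp only [g', Subgroup.coe_mul, Subgroup.coe_inv, hι, T]
                simp only [SemidirectProduct.mul_left, SemidirectProduct.inv_left,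
                  SemidirectProduct.inv_right, SemidirectProduct.left_inr,
                  SemidirectProduct.right_inr, SemidirectProduct.mul_right, inv_one,
                  map_one, mul_one, hw, act_mk]
                show mk [(e0 i, true)] * _ = _
                rw [FreeGroup.mul_mk]
                simp only [List.cons_append, List.nil_append, moveWord, List.map_cons]
                have : moveEdge A ((t i)⁻¹ * (lam y)⁻¹)
                    ⟨i, ((c : Equiv.Perm ↥S) : _ ⧸ A i)⟩ = e0 i := by
                  simp [moveEdge, e0, hc, mul_assoc]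
                rw [this]
                exact Quot.sound (FreeGroup.Red.Step.cons_not (x := e0 i) (b := true))
              rw [e1]
              refine le_trans FreeGroup.norm_mk_le ?_
              simp [moveWord, hlen]
            · intro x
              have e := hTc i ⟨χ x, hχS x⟩ (hχP x)
              have e2 : ψ i ⟨⟨χ x, hχS x⟩, hχP x⟩ = (y⁻¹ * ⟨φ x, hφ x⟩ * y : ↥S) :=
                Subtype.ext ((hcx x).trans (by simp [c0, mul_assoc]))
              rw [e2, map_mul, map_mul, map_inv, h x] at e
              have e3 : base0 ⟨χ x, hχS x⟩ =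
                  T i * ((T i)⁻¹ * base0 ⟨χ x, hχS x⟩ * T i) * (T i)⁻¹ := by group
              rw [e3, e]
              simp only [g']
              group
          have hc0m : c0 ∈ F.Hom P := by
            have := F.comp_mem hχ i.2 hχP
            convert this using 1
            ext x
            exact (hcx x).symm
          have hr : ∀ x : P, c0 x ∈ S := fun x => by
            rw [← hcx x]; exact (F.le_of_mem i.2).2 _
          have := F.comp_mem hc0m (F.conj_mem (P := S) le_rfl y.2) hr
          convert this using 1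
          ext x
          simp [c0, conjHom, mul_assoc]
  refine ⟨↥G, inferInstance, base0, ⟨hιinj, fun P hP φ hφ => ⟨?_, ?_⟩⟩, ?_, ?_⟩
  · intro hmem
    let i : I := ⟨⟨P, φ⟩, hmem⟩
    refine ⟨(T i)⁻¹, fun x => ?_⟩
    rw [inv_inv]
    exact (hTc i ⟨x, hP x.2⟩ x.2).symm
  · rintro ⟨g, hg⟩
    exact key _ g le_rfl P hP φ hφ hg
  · intro H hHfin
    haveI : Fintype ↥H := Fintype.ofFinite _
    let len : ↥G → ℕ := fun g => (toWord (g : FreeGroup (Edge A) ⋊[act A] _).left).length
    let Φ : ↥G → ℕ := fun g => ∑ h : ↥H, len (g⁻¹ * (h : ↥G)) ^ 2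
    obtain ⟨g, hgmin⟩ : ∃ g, ∀ g', Φ g ≤ Φ g' := by
      have hex : ∃ n, ∃ g, Φ g = n := ⟨_, 1, rfl⟩
      obtain ⟨g, hg⟩ := Nat.find_spec hex
      exact ⟨g, fun g' => hg ▸ Nat.find_min' hex ⟨g', rfl⟩⟩
    refine ⟨g⁻¹, fun h hh => ?_⟩
    rw [inv_inv]
    let k : ↥G := g⁻¹ * h * g
    let v : FreeGroup (Edge A) := (k : FreeGroup (Edge A) ⋊[act A] _).left
    let w := toWord v
    let ff : FreeGroup (Edge A) → ℕ := fun x =>
      ∑ h : ↥H, (toWord (x⁻¹ * ((g⁻¹ * (h : ↥G) : ↥G) : FreeGroup (Edge A) ⋊[act A] _).left)).length ^ 2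
    have hlen : ∀ (k' k'' : ↥G), len (k'⁻¹ * k'') =
        (toWord ((k' : FreeGroup (Edge A) ⋊[act A] _).left⁻¹ *
          (k'' : FreeGroup (Edge A) ⋊[act A] _).left)).length := by
      intro k' k''
      simp only [len, Subgroup.coe_mul, Subgroup.coe_inv, SemidirectProduct.mul_left,
        SemidirectProduct.inv_left, SemidirectProduct.inv_right, ← map_mul, toWord_act, moveWord,
        List.length_map]
    have hΦ : ∀ k' : ↥G, Φ (g * k') = ff (k' : FreeGroup (Edge A) ⋊[act A] _).left := by
      intro k'
      refine Finset.sum_congr rfl fun h' _ => ?_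
      rw [mul_inv_rev, mul_assoc, hlen]
    have hk : Φ (g * k) = Φ g := by
      have e : g * k = h * g := by simp [k, mul_assoc]
      rw [e]
      refine Fintype.sum_equiv (Equiv.mulLeft (⟨h, hh⟩ : ↥H)⁻¹) _ _ fun h' => ?_
      simp [mul_assoc]
    have hff1 : ff 1 = Φ g := by
      have := hΦ 1
      simpa using this.symm
    have hffv : ff v = ff 1 := by rw [← hΦ k, hk, hff1]
    have hpath := k.2
    change IsPath L A t ht hA w (base L) _ at hpath
    have hpre : ∀ m, ff 1 ≤ ff (mk (w.take m)) := by
      intro m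
      have hp2 := hpath
      rw [← List.take_append_drop m w, isPath_append] at hp2
      obtain ⟨z, hz, -⟩ := hp2
      induction z using QuotientGroup.induction_on with
      | _ z =>
      have hred : reduce (w.take m) = w.take m := by
        refine FreeGroup.IsReduced.reduce_eq ?_
        exact List.IsChain.take (FreeGroup.isReduced_toWord (x := v)) m
      have hz' : (⟨mk (w.take m), z⟩ : FreeGroup (Edge A) ⋊[act A] _) ∈ G := by
        show IsPath L A t ht hA (toWord (mk (w.take m))) _ _
        rw [FreeGroup.toWord_mk, hred, mk_smul_base]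
        exact hz
      have := hgmin (g * ⟨_, hz'⟩)
      rwa [hΦ, ← hff1] at this
    haveI : Nonempty ↥H := ⟨1⟩
    let uu : ↥H → FreeGroup (Edge A) := fun h' =>
      ((g⁻¹ * (h' : ↥G) : ↥G) : FreeGroup (Edge A) ⋊[act A] _).left
    have hsum1 : ff 1 = ∑ h', (toWord (uu h')).length ^ 2 := by simp [ff, uu]
    have hshort : w.length ≤ 1 := by
      refine short_of_min uu w FreeGroup.isReduced_toWord ?_ ?_
      · rw [← hsum1]; exact hpre 1
      · rw [← hsum1, ← hffv, show mk w = v from FreeGroup.mk_toWord]
    have hone : v = 1 := by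
      by_contra hv
      have hw1 : w.length = 1 := by
        have : w ≠ [] := fun e => hv (FreeGroup.toWord_eq_nil_iff.mp e)
        have := List.length_pos_of_ne_nil this
        omega
      obtain ⟨a, ha⟩ := List.length_eq_one_iff.mp hw1
      have hk2 : (k * k : ↥G) = g⁻¹ * (h * h) * g := by simp [k, mul_assoc]
      let a' : Edge A × Bool := (moveEdge A (k : FreeGroup (Edge A) ⋊[act A] _).right a.1, a.2)
      have hv2 : ((k * k : ↥G) : FreeGroup (Edge A) ⋊[act A] _).left = mk [a, a'] := by
        show v * act A _ v = _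
        conv_lhs => rw [← FreeGroup.mk_toWord (x := v)]
        rw [show toWord v = [a] from ha, act_mk, FreeGroup.mul_mk]
        rfl
      have hred : FreeGroup.IsReduced [a, a'] := by
        simp [FreeGroup.IsReduced, a']
      -- word of `k*k` has length two, minimises `ff`, contradiction with convexity
      let v2 : FreeGroup (Edge A) := mk [a, a']
      have hk2' : Φ (g * (k * k)) = Φ g := by
        have e : g * (k * k) = h * h * g := by rw [hk2]; simp [mul_assoc]
        rw [e]
        refine Fintype.sum_equiv (Equiv.mulLeft (⟨h, hh⟩ * ⟨h, hh⟩ : ↥H)⁻¹) _ _ fun h' => ?_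
        simp [mul_assoc]
      rw [hΦ, hv2, ← hff1] at hk2'
      have h1 : ff 1 ≤ ff (mk [a]) := by
        have := hpre 1
        rwa [show w = [a] from ha] at this
      have := short_of_min uu [a, a'] hred (by rw [← hsum1]; exact h1)
        (by rw [← hsum1]; exact hk2')
      simp at this
    have hp0 := k.2
    change IsPath L A t ht hA (toWord v) (base L) _ at hp0
    rw [hone, FreeGroup.toWord_one] at hp0
    obtain ⟨y, hy⟩ := smul_base_eq L hp0.symm
    exact ⟨y, Subtype.ext (SemidirectProduct.ext hone.symm hy)⟩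
  · let proj : ↥G →* Equiv.Perm ↥S := SemidirectProduct.rightHom.comp G.subtype
    refine ⟨proj.ker, inferInstance, ?_, ?_⟩
    · let toFree : ↥proj.ker →* FreeGroup (Edge A) :=
        { toFun := fun g => ((g : ↥G) : FreeGroup (Edge A) ⋊[act A] _).left
          map_one' := rfl
          map_mul' := fun g g' => by
            have hg : ((g : ↥G) : FreeGroup (Edge A) ⋊[act A] _).right = 1 := g.2
            simp [hg] }
      have hinj : Function.Injective toFree := by
        intro a b hab
        have ha : ((a : ↥G) : FreeGroup (Edge A) ⋊[act A] _).right = 1 := a.2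
        have hb : ((b : ↥G) : FreeGroup (Edge A) ⋊[act A] _).right = 1 := b.2
        exact Subtype.ext (Subtype.ext (SemidirectProduct.ext hab (ha.trans hb.symm)))
      exact IsFreeGroup.ofMulEquiv (MonoidHom.ofInjective hinj).symm
    · rw [Subgroup.index_ker, ← Nat.card_perm]
      exact Subgroup.card_subgroup_dvd_card proj.range

end Cfsg.Agent.S5286
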