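import Cfsg.Statements.S5287
import Cfsg.Agent.Lib.FusionMetacyclic.Witness
import Cfsg.Agent.Lib.FusionMetacyclic.CoprimeAut
import Cfsg.Agent.Lib.FusionMetacyclic.TopNormal
import Cfsg.Agent.Lib.FusionMetacyclic.Two
import Cfsg.Agent.Lib.FusionMetacyclic.OddNormal
import Cfsg.Agent.S1896
import Mathlib.GroupTheory.SpecificGroups.KleinFour

set_option autoImplicit false
set_option linter.style.haveILetI false
open Cfsg

namespace Cfsg.Agent.S5287

theorem klein_sq :
    ∀ g : Multiplicative (ZMod (2 ^ 1)) × Multiplicative (ZMod (2 ^ 1)), g ^ 2 = 1 := by decide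

/-- Transport of the coprime automorphism condition along an isomorphism. -/
theorem coprime_transfer {X Y : Type*} [Group X] [Group Y] {p : ℕ} (e : X ≃* Y)
    (h : ∀ H : Subgroup (MulAut X), (Nat.card H).Coprime p →
      IsMulCommutative H ∧ ∀ a ∈ H, a ^ (p - 1) = 1)
    (H : Subgroup (MulAut Y)) (hH : (Nat.card H).Coprime p) :
    IsMulCommutative H ∧ ∀ a ∈ H, a ^ (p - 1) = 1 := by
  let L : MulAut Y →* MulAut X := (MulAut.congr e.symm).toMonoidHom
  have hL : Function.Injective L := (MulAut.congr e.symm).injective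
  obtain ⟨hab, hexp⟩ := h (H.map L) (by rwa [Subgroup.card_map_of_injective hL])
  refine ⟨⟨⟨fun a b => Subtype.ext (hL ?_)⟩⟩, fun a ha => hL ?_⟩
  · rw [Subgroup.coe_mul, Subgroup.coe_mul, map_mul, map_mul]
    exact congrArg Subtype.val (hab.is_comm.comm
      (⟨L (a : MulAut Y), Subgroup.mem_map_of_mem L a.2⟩ : H.map L)
      ⟨L (b : MulAut Y), Subgroup.mem_map_of_mem L b.2⟩)
  · rw [map_pow, map_one]
    exact hexp _ (Subgroup.mem_map_of_mem L ha)

/-- Let S be a finite metacyclic p-group (an extension of a cyclic group by a cyclic group). Every saturated fusion system over S is supersoluble (S has a chain of F-strongly closed subgroups from 1 to S with cyclic steps) if and only if S is not homocyclic of rank two (isomorphic to Z/p^n × Z/p^n with n ≥ 1) and, when p = 2, S is not dihedral of order at least 4, not quasi-dihedral (semidihedral) and not generalized quaternion of order at least 8. -/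
theorem result {Ω : Type*} [Group Ω] {S : Subgroup Ω} [Finite S] (p : ℕ) [Fact p.Prime] (hS : IsPGroup p ↥S) (hm : Cfsg.IsMetacyclic ↥S) : (∀ F : Cfsg.FusionSystem S, F.IsSaturated p → (∃ (m : ℕ) (c : Fin (m + 1) → Subgroup Ω), c 0 = ⊥ ∧ c (Fin.last m) = S ∧ (∀ i : Fin (m + 1), F.StronglyClosed (c i)) ∧ ∀ i : Fin m, c i.castSucc ≤ c i.succ ∧ ∃ x ∈ S, c i.succ = c i.castSucc ⊔ Subgroup.zpowers x)) ↔ ¬ ((∃ n : ℕ, 0 < n ∧ Nonempty (↥S ≃* Multiplicative (ZMod (p ^ n)) × Multiplicative (ZMod (p ^ n)))) ∨ (p = 2 ∧ ((∃ n : ℕ, 2 ≤ n ∧ Nonempty (↥S ≃* DihedralGroup n)) ∨ Cfsg.IsQuasiDihedral ↥S ∨ (∃ n : ℕ, 2 ≤ n ∧ Nonempty (↥S ≃* QuaternionGroup n))))) := by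
  classical
  have hp : p.Prime := Fact.out
  constructor
  · intro hall hbad
    have habs : ∀ H : Subgroup (MulAut S), (Nat.card H).Coprime p →
        IsMulCommutative H ∧ ∀ h ∈ H, h ^ (p - 1) = 1 :=
      fun H hH => CfsgLib.FusionAut.abelian_exponent_of_forall hS hall H hH
    have hhom : ∀ n : ℕ, 0 < n →
        Nonempty (S ≃* Multiplicative (ZMod (p ^ n)) × Multiplicative (ZMod (p ^ n))) → False := by
      rintro n hn ⟨e⟩
      haveI : NeZero (p ^ n) := ⟨pow_ne_zero _ hp.ne_zero⟩
      haveI : Fact (1 < p ^ n) := ⟨Nat.one_lt_pow hn.ne' hp.one_lt⟩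
      obtain ⟨H, hH, hne⟩ := CfsgLib.FusionAut.exists_coprime_pair (p := p)
        (g := Multiplicative.ofAdd (1 : ZMod (p ^ n)))
        (fun h => one_ne_zero (Multiplicative.ofAdd.injective (h.trans ofAdd_zero.symm)))
        (fun hodd h => by
          have h3 : 2 < p ^ n := by
            have h1 : 2 < p := by
              rcases hodd with ⟨c, hc⟩
              have := hp.two_le
              omega
            exact h1.trans_le (Nat.le_self_pow hn.ne' p)
          haveI : Fact (2 < p ^ n) := ⟨h3⟩
          rw [← ofAdd_neg] at h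
          exact ZMod.neg_one_ne_one (Multiplicative.ofAdd.injective h))
      exact hne (coprime_transfer e habs H hH)
    rcases hbad with ⟨n, hn, he⟩ | ⟨rfl, hbad⟩
    · exact hhom n hn he
    have hwit : CfsgLib.FusionMetacyclic.HasWitness S → False := by
      intro hw
      obtain ⟨F, hF, hns⟩ := CfsgLib.FusionMetacyclic.exists_not_supersoluble hw
      exact hns (hall F hF)
    obtain ⟨a, ha⟩ := IsPGroup.iff_card.1 hS
    rcases hbad with ⟨n, hn, ⟨e⟩⟩ | hq | ⟨n, hn, ⟨e⟩⟩
    · have hc := Nat.card_congr e.toEquiv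
      rw [ha, DihedralGroup.nat_card] at hc
      obtain ⟨k, -, rfl⟩ := (Nat.dvd_prime_pow Nat.prime_two).1 (Dvd.intro_left 2 hc.symm)
      rcases Nat.lt_or_ge k 2 with hk | hk
      · obtain rfl : k = 1 := by interval_cases k <;> simp at hn ⊢
        haveI : IsKleinFour (Multiplicative (ZMod (2 ^ 1)) × Multiplicative (ZMod (2 ^ 1))) := by
          refine ⟨by simp, ?_⟩
          rw [Monoid.exponent_eq_prime_iff Nat.prime_two]
          intro g hg
          refine orderOf_eq_prime ?_ hg
          clear hg
          revert g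
          exact klein_sq
        haveI : IsKleinFour (DihedralGroup (2 ^ 1)) := inferInstanceAs (IsKleinFour (DihedralGroup 2))
        obtain ⟨f⟩ := IsKleinFour.nonempty_mulEquiv (G₁ := DihedralGroup (2 ^ 1))
          (G₂ := Multiplicative (ZMod (2 ^ 1)) × Multiplicative (ZMod (2 ^ 1)))
        exact hhom 1 one_pos ⟨e.trans f⟩
      · exact hwit ((CfsgLib.FusionMetacyclic.witness_dihedral k hk).congr e)
    · exact hwit (CfsgLib.FusionMetacyclic.witness_quasiDihedral hq)
    · haveI : NeZero n := ⟨by omega⟩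
      have hc := Nat.card_congr e.toEquiv
      rw [ha, Nat.card_eq_fintype_card, QuaternionGroup.card] at hc
      obtain ⟨k, -, rfl⟩ := (Nat.dvd_prime_pow Nat.prime_two).1 (Dvd.intro_left 4 hc.symm)
      have hk : 1 ≤ k := by
        rcases Nat.eq_zero_or_pos k with rfl | h
        · norm_num at hn
        · exact h
      exact hwit ((CfsgLib.FusionMetacyclic.witness_quaternion k hk).congr e)
  · intro hgood F hF
    push Not at hgood
    have hN : F.IsNormal S := by
      rcases eq_or_ne p 2 with rfl | hp2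
      · refine CfsgLib.FusionMetacyclic.isNormal_two hS hF
          (CfsgLib.FusionMetacyclic.stronglyClosed_top F) hm ?_
        obtain ⟨hd, hq, hQ⟩ := hgood.2 rfl
        rintro (⟨k, hk⟩ | hk | ⟨k, hk⟩)
        · exact (hd (2 ^ (k + 2)) (Nat.le_self_pow (by omega) 2)).false (Classical.choice hk)
        · exact hq hk
        · exact (hQ (2 ^ (k + 1)) (Nat.le_self_pow (by omega) 2)).false (Classical.choice hk)
      · exact CfsgLib.FusionMetacyclic.isNormal_odd hp2 hS hF
          (CfsgLib.FusionMetacyclic.stronglyClosed_top F) hm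
    refine CfsgLib.FusionAut.isSupersoluble_of_isNormal hS hF hN fun H hH => ?_
    rcases eq_or_ne p 2 with rfl | hp2
    · suffices h : H = ⊥ by
        subst h
        exact ⟨inferInstance, fun h hh => by rw [Subgroup.mem_bot.1 hh, one_pow]⟩
      have haut : IsPGroup 2 (MulAut S) := by
        by_contra hA
        rcases Cfsg.Agent.S1896.result hS hm hA with hq | ⟨n, hn⟩
        · exact (hgood.2 rfl).2.2 2 le_rfl |>.false (Classical.choice hq)
        · rcases Nat.eq_zero_or_pos n with rfl | hn0
          · apply hA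
            obtain ⟨f⟩ := hn
            haveI : Subsingleton S := by
              haveI : Subsingleton (ZMod (2 ^ 0)) := by rw [pow_zero]; infer_instance
              exact f.injective.subsingleton
            intro α
            exact ⟨0, by rw [pow_zero, pow_one]; exact MulEquiv.ext fun x => Subsingleton.elim _ _⟩
          · exact (hgood.1 n hn0).false (Classical.choice hn)
      obtain ⟨k, hk⟩ := IsPGroup.iff_card.1 (haut.to_subgroup H)
      rw [Subgroup.eq_bot_iff_card, hk]
      rcases Nat.eq_zero_or_pos k with rfl | hk0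
      · rfl
      · rw [hk] at hH
        exact absurd (Nat.coprime_self 2 |>.1 (hH.coprime_dvd_left (dvd_pow_self 2 hk0.ne'))) (by norm_num)
    · exact CfsgLib.FusionMetacyclic.coprimeAut_odd hp2 hS hm
        (fun ⟨n, hn, he⟩ => (hgood.1 n hn).false (Classical.choice he)) hH

end Cfsg.Agent.S5287
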