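import Cfsg.Statements.S5289
import Cfsg.Agent.S3888
import Cfsg.Agent.Lib.FusionRankTwo.Resistant
import Cfsg.Agent.Lib.FusionMetacyclic.OddNormal
import Cfsg.Agent.Lib.FusionMetacyclic.TopNormal

set_option autoImplicit false
open Cfsg

namespace Cfsg.Agent.S5289

/-- Let p ≥ 5 be a prime and S a finite p-group of p-rank two (it has an elementary abelian subgroup of order p² and none of order p³) which is not the extraspecial group of order p³ and exponent p. Then S is resistant: for every saturated fusion system F over S, S is normal in F, that is, every map of F extends to an F-automorphism of S. -/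
theorem result {Ω : Type*} [Group Ω] {S : Subgroup Ω} [Finite S] (p : ℕ) [Fact p.Prime] (hS : IsPGroup p S)
    (F : Cfsg.FusionSystem S) (hF : F.IsSaturated p)
    (hp : 5 ≤ p)
    (hrank2 : ∃ E : Subgroup Ω, E ≤ S ∧ Cfsg.IsElementaryAbelian p E ∧ Nat.card E = p ^ 2)
    (hrank3 : ∀ E : Subgroup Ω, E ≤ S → Cfsg.IsElementaryAbelian p E → Nat.card E ≤ p ^ 2)
    (hnotE : ¬ (Nat.card S = p ^ 3 ∧ Monoid.exponent ↥S = p)) : F.IsNormal S := by
  classical
  have hp' : p.Prime := Fact.out
  have hp2 : p ≠ 2 := by omega
  obtain ⟨n, hn⟩ := IsPGroup.iff_card.1 hS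
  have hrk : Cfsg.PRankLE p 2 S := by
    intro A hA hAp
    have hAE : Cfsg.IsElementaryAbelian p (A.map S.subtype) := by
      refine ⟨⟨⟨fun a b => Subtype.ext ?_⟩⟩, fun x hx => ?_⟩
      · obtain ⟨a', ha', hae⟩ := a.2
        obtain ⟨b', hb', hbe⟩ := b.2
        rw [Subgroup.coe_mul, Subgroup.coe_mul, ← hae, ← hbe, ← map_mul, ← map_mul]
        exact congrArg S.subtype (congrArg Subtype.val (hA.is_comm.comm ⟨a', ha'⟩ ⟨b', hb'⟩))
      · obtain ⟨x', hx', rfl⟩ := hx
        rw [← map_pow, hAp x' hx', map_one]
    have := hrank3 _ (Subgroup.map_subtype_le A) hAE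
    rwa [Subgroup.card_map_of_injective (Subgroup.subtype_injective S)] at this
  have hclos : ∀ x y z : S, Subgroup.closure ({x, y, z} : Set S) = ⊤ →
      Subgroup.closure ({(x : Ω)⁻¹, (y : Ω), (z : Ω)} : Set Ω) = S := by
    intro x y z h
    have h1 := congrArg (Subgroup.map S.subtype) h
    rw [MonoidHom.map_closure, ← MonoidHom.range_eq_map, Subgroup.range_subtype] at h1
    simp only [Set.image_insert_eq, Set.image_singleton, Subgroup.coe_subtype] at h1
    conv_rhs => rw [← h1]
    refine le_antisymm ((Subgroup.closure_le _).2 ?_) ((Subgroup.closure_le _).2 ?_)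
    · intro u hu
      simp only [Set.mem_insert_iff, Set.mem_singleton_iff] at hu
      rcases hu with rfl | rfl | rfl
      · exact inv_mem (Subgroup.subset_closure (by simp))
      · exact Subgroup.subset_closure (by simp)
      · exact Subgroup.subset_closure (by simp)
    · intro u hu
      simp only [Set.mem_insert_iff, Set.mem_singleton_iff] at hu
      rcases hu with rfl | rfl | rfl
      · rw [← inv_inv ((x : Ω))]
        exact inv_mem (Subgroup.subset_closure (by simp))
      · exact Subgroup.subset_closure (by simp)
      · exact Subgroup.subset_closure (by simp)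
  rcases Cfsg.Agent.S3888.result hp2 n hn hrk with hm | ⟨hn3, x, y, z, hgen, hx, hy, hz, hxz, hyz, hxy⟩ |
    ⟨hn4, s, x, y, z, hs, hgen, hx, hy, hz, hyz, hxy, hxz⟩ | ⟨h3, -⟩
  · exact CfsgLib.FusionMetacyclic.isNormal_odd hp2 hS hF
      (CfsgLib.FusionMetacyclic.stronglyClosed_top F) hm
  · rcases hn3.eq_or_lt with rfl | hn4
    · exfalso
      rw [show 3 - 2 = 1 from rfl, pow_one] at hz
      rw [Nat.sub_self, pow_zero, pow_one] at hxy
      refine hnotE ⟨hn, ?_⟩
      have hcard1 : 1 < Nat.card S := by rw [hn]; exact Nat.one_lt_pow (by norm_num) hp'.one_lt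
      haveI : Nontrivial S := Finite.one_lt_card_iff_nontrivial.1 hcard1
      rw [Monoid.exponent_eq_prime_iff hp']
      intro g hg
      refine orderOf_eq_prime ?_ hg
      have hzc : ∀ u : S, Commute u z := by
        intro u
        have hu : u ∈ Subgroup.closure ({x, y, z} : Set S) := hgen ▸ Subgroup.mem_top u
        induction hu using Subgroup.closure_induction with
        | mem v hv =>
          simp only [Set.mem_insert_iff, Set.mem_singleton_iff] at hv
          rcases hv with rfl | rfl | rfl
          · exact hxz
          · exact hyz
          · exact Commute.refl _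
        | one => exact Commute.one_left _
        | mul a b _ _ ha hb => exact ha.mul_left hb
        | inv a _ ha => exact ha.inv_left
      have hu' : g ∈ Subgroup.closure ({x, y, z} : Set S) := hgen ▸ Subgroup.mem_top g
      have hcl : ∀ u v : S, ∃ i : ℤ, v⁻¹ * (u * v * u⁻¹) = z ^ i := by
        have hzn : (Subgroup.zpowers z).Normal := ⟨fun a ha b => by
          obtain ⟨i, rfl⟩ := Subgroup.mem_zpowers_iff.1 ha
          rw [((hzc b).zpow_right i).eq, mul_inv_cancel_right]
          exact zpow_mem (Subgroup.mem_zpowers _) i⟩
        intro u v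
        let π := QuotientGroup.mk' (Subgroup.zpowers z)
        have hπ : Commute (π x) (π y) := by
          have h1 : π (x⁻¹ * y * x) = π y := by
            rw [hxy, map_mul, show π z = 1 from (QuotientGroup.eq_one_iff _).2 (Subgroup.mem_zpowers z),
              mul_one]
          rw [map_mul, map_mul, map_inv] at h1
          show π x * π y = π y * π x
          conv_lhs => rw [← h1]
          group
        have hcen : ∀ a : S, ∀ b ∈ ({x, y, z} : Set S), Commute (π a) (π b) := by
          intro a b hb
          have ha : a ∈ Subgroup.closure ({x, y, z} : Set S) := hgen ▸ Subgroup.mem_top a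
          have hπz : π z = 1 := (QuotientGroup.eq_one_iff _).2 (Subgroup.mem_zpowers z)
          induction ha using Subgroup.closure_induction with
          | mem c hc =>
            simp only [Set.mem_insert_iff, Set.mem_singleton_iff] at hb hc
            rcases hb with rfl | rfl | rfl <;> rcases hc with rfl | rfl | rfl <;>
              first
              | exact Commute.refl _
              | exact hπ
              | exact hπ.symm
              | (rw [hπz]; exact Commute.one_left _)
              | (rw [hπz]; exact Commute.one_right _)
          | one => rw [map_one]; exact Commute.one_left _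
          | mul c d _ _ hc hd => rw [map_mul]; exact hc.mul_left hd
          | inv c _ hc => rw [map_inv]; exact hc.inv_left
        have hv : v ∈ Subgroup.closure ({x, y, z} : Set S) := hgen ▸ Subgroup.mem_top v
        have hc : Commute (π u) (π v) := by
          induction hv using Subgroup.closure_induction with
          | mem c hc => exact hcen u c hc
          | one => rw [map_one]; exact Commute.one_right _
          | mul c d _ _ hc hd => rw [map_mul]; exact hc.mul_right hd
          | inv c _ hc => rw [map_inv]; exact hc.inv_right
        have h2 : π (v⁻¹ * (u * v * u⁻¹)) = 1 := by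
          rw [map_mul, map_mul, map_mul, map_inv, map_inv, hc.eq, mul_inv_cancel_right, inv_mul_cancel]
        obtain ⟨i, hi⟩ := Subgroup.mem_zpowers_iff.1 ((QuotientGroup.eq_one_iff _).1 h2)
        exact ⟨i, hi.symm⟩
      induction hu' using Subgroup.closure_induction with
      | mem v hv =>
        simp only [Set.mem_insert_iff, Set.mem_singleton_iff] at hv
        rcases hv with rfl | rfl | rfl <;> assumption
      | one => exact one_pow p
      | mul a b _ _ ha hb =>
        have hap : a ^ p = 1 := by
          rcases eq_or_ne a 1 with rfl | h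
          · exact one_pow p
          · exact ha h
        have hbp : b ^ p = 1 := by
          rcases eq_or_ne b 1 with rfl | h
          · exact one_pow p
          · exact hb h
        obtain ⟨i, hi⟩ := hcl b a
        have hw : b * a * b⁻¹ = a * z ^ i := by rw [← hi, mul_inv_cancel_left]
        have hzfix : b * z ^ i * b⁻¹ = z ^ i := by
          rw [((hzc b).zpow_right i).eq, mul_inv_cancel_right]
        rw [CfsgLib.PGroup.RankTwo.mul_pow_unipotent hw (v := 1) (by rw [mul_one]; exact hzfix)
          (by simp) ((hzc a).zpow_right i) (Commute.one_right _) (Commute.one_right _) p, hap, hbp,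
          one_pow, one_mul, mul_one, mul_one]
        obtain ⟨q, hq⟩ := hp'.dvd_choose_self (k := 2) (by norm_num) (by omega)
        rw [hq, pow_mul, show (z ^ i) ^ p = 1 by
          rw [← zpow_natCast, ← zpow_mul, mul_comm, zpow_mul, zpow_natCast, hz, one_zpow], one_pow]
      | inv a _ ha =>
        rw [inv_pow, ha (fun h => hg (by rw [h, inv_one])), inv_one]
    obtain ⟨m, rfl⟩ : ∃ m, n = m + 3 := ⟨n - 3, by omega⟩
    rw [show m + 3 - 2 = m + 1 by omega] at hz
    rw [show m + 3 - 3 = m by omega] at hxy
    refine CfsgLib.FusionRankTwo.Data.isNormal hS hF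
      { x := (x : Ω)⁻¹, y := y, z := z, a := 0, s := 1, hp5 := hp, hm := by omega
        hxS := inv_mem x.2, hyS := y.2, hzS := z.2, gen := hclos x y z hgen, card := hn
        hxp := by rw [inv_pow, ← Subgroup.coe_pow, hx]; simp
        hyp := by rw [← Subgroup.coe_pow, hy]; rfl
        hzp := by rw [← Subgroup.coe_pow, hz]; rfl
        hyz := congrArg Subtype.val hyz
        ha := Or.inl rfl, hs := hp'.not_dvd_one
        hxz := by
          have h := congrArg Subtype.val hxz
          simp only [Subgroup.coe_mul] at h
          rw [pow_zero, one_mul, inv_inv, mul_assoc, ← h, inv_mul_cancel_left]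
        hxy := by
          have h := congrArg Subtype.val hxy
          simpa [pow_one] using h }
  · obtain ⟨m, rfl⟩ : ∃ m, n = m + 3 := ⟨n - 3, by omega⟩
    rw [show m + 3 - 2 = m + 1 by omega] at hz
    rw [show m + 3 - 3 = m by omega] at hxy
    refine CfsgLib.FusionRankTwo.Data.isNormal hS hF
      { x := (x : Ω)⁻¹, y := y, z := z, a := 1, s := s, hp5 := hp, hm := by omega
        hxS := inv_mem x.2, hyS := y.2, hzS := z.2, gen := hclos x y z hgen, card := hn
        hxp := by rw [inv_pow, ← Subgroup.coe_pow, hx]; simp
        hyp := by rw [← Subgroup.coe_pow, hy]; rfl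
        hzp := by rw [← Subgroup.coe_pow, hz]; rfl
        hyz := congrArg Subtype.val hyz
        ha := Or.inr rfl
        hs := by
          intro hd
          rcases hs with rfl | hs
          · exact hp'.not_dvd_one hd
          · apply hs
            rw [(ZMod.natCast_eq_zero_iff s p).2 hd]
            exact ⟨0, by simp⟩
        hxz := by
          have h := congrArg Subtype.val hxz
          simpa [pow_one] using h
        hxy := by
          have h := congrArg Subtype.val hxy
          simp only [Subgroup.coe_mul, Subgroup.coe_inv, Subgroup.coe_pow] at h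
          rw [inv_inv, h, mul_comm s, pow_mul] }
  · omega

end Cfsg.Agent.S5289
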