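import Cfsg.Statements.S5292
import Cfsg.Agent.S5191
import Cfsg.Agent.Lib.Fusion.Model
import Cfsg.Agent.Lib.Fusion.Realized
import Cfsg.Agent.Lib.PLocal.Constrained
import Cfsg.Agent.Lib.PLocal.HallHigman
import Cfsg.Agent.Lib.FusionQuot.Joins
-- import your own Cfsg.Agent.* helpers here

set_option autoImplicit false
set_option linter.style.haveILetI false
set_option linter.unusedVariables false
universe u
open Cfsg

namespace Cfsg.Agent.S5292

open Cfsg.FusionSystem CfsgLib.Fusion

theorem isPSolvable_of_pgroup_ker {G H : Type*} [Group G] [Group H] [Finite G] {p : ℕ} [Fact p.Prime]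
    {f : G →* H} (hf : Function.Surjective f) (hker : IsPGroup p f.ker) (hs : Cfsg.IsPSolvable p H) :
    Cfsg.IsPSolvable p G := by
  obtain ⟨n, S, h0, hl, hm, hn, hfac⟩ := hs
  refine ⟨n + 1, Fin.cons ⊥ fun i => (S i).comap f, rfl, ?_, ?_, ?_, ?_⟩
  · rw [← Fin.succ_last, Fin.cons_succ, hl, Subgroup.comap_top]
  · refine Fin.monotone_iff_le_succ.2 fun i => ?_
    induction i using Fin.cases with
    | zero => exact bot_le
    | succ j =>
      rw [← Fin.succ_castSucc, Fin.cons_succ, Fin.cons_succ]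
      exact Subgroup.comap_mono (hm (Fin.castSucc_lt_succ (i := j)).le)
  · intro i
    induction i using Fin.cases with
    | zero => exact inferInstanceAs (⊥ : Subgroup G).Normal
    | succ j =>
      rw [Fin.cons_succ]
      exact (hn j).comap f
  · intro i
    induction i using Fin.cases with
    | zero =>
      left
      rw [Fin.castSucc_zero, Fin.cons_zero, Fin.cons_succ, h0, Subgroup.relIndex_bot_left,
        MonoidHom.comap_bot]
      exact IsPGroup.iff_card.1 hker
    | succ j =>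
      rw [← Fin.succ_castSucc, Fin.cons_succ, Fin.cons_succ, Subgroup.relIndex_comap,
        Subgroup.map_comap_eq_self_of_surjective hf]
      exact hfac j

theorem isPSolvable_autGroup_modelCore {Ω : Type*} [Group Ω] {S : Subgroup Ω} [Finite S] {p : ℕ}
    [Fact p.Prime] {F : Cfsg.FusionSystem S} {G : Type*} [Group G] {ι : S →* G}
    (hG : F.IsModel p G ι) (hs : Cfsg.IsPSolvable p G) :
    Cfsg.IsPSolvable p ↥(F.autGroup (modelCore p ι)) := by
  have hfin : Finite G := hG.1
  have hι := hG.2.1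
  haveI hnorm : (pCore p G).Normal := CfsgLib.Solvable.pCore_normal p G
  set Q := modelCore p ι
  have hQS : Q ≤ S := modelCore_le p ι
  let ε : Q →* pCore p G := (ι.comp (Subgroup.inclusion hQS)).codRestrict (pCore p G)
    fun x => (mem_modelCore.1 x.2).2
  have hε : Function.Bijective ε := by
    refine ⟨fun x y h => Subtype.ext (realized_inj hι (congrArg Subtype.val h)), ?_⟩
    rintro ⟨o, ho⟩
    obtain ⟨x, rfl⟩ := pCore_le_range hG ho
    exact ⟨⟨x, mem_modelCore.2 ⟨x.2, ho⟩⟩, rfl⟩
  let e : Q ≃* pCore p G := MulEquiv.ofBijective ε hε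
  let f : G →* MulAut Q := (MulAut.congr e.symm).toMonoidHom.comp MulAut.conjNormal
  have hf : ∀ (g : G) (x : Q), ι ⟨(f g x : Q), hQS (f g x).2⟩ = g * ι ⟨x, hQS x.2⟩ * g⁻¹ := by
    intro g x
    have h1 : e (f g x) = MulAut.conjNormal g (e x) := e.apply_symm_apply _
    have h2 := congrArg Subtype.val h1
    rw [MulAut.conjNormal_apply] at h2
    exact h2
  have hmem : ∀ g, f g ∈ F.autGroup Q := fun g =>
    (mem_autGroup_iff_hom hQS).2
      ((hι.2 Q hQS _ (fun x => hQS (f g x).2)).2 ⟨g, fun x => hf g x⟩)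
  refine CfsgLib.PLoc.isPSolvable_of_surjective (f := f.codRestrict _ hmem) ?_ hs
  rintro ⟨α, hα⟩
  have hαF := (mem_autGroup_iff_hom hQS).1 hα
  obtain ⟨g, hg⟩ := (hι.2 Q hQS _ (map_mem hαF)).1 hαF
  refine ⟨g, Subtype.ext (MulEquiv.ext fun x => Subtype.ext ?_)⟩
  exact realized_inj hι (x := ⟨_, hQS (f g x).2⟩) (y := ⟨_, hQS (α x).2⟩) ((hf g x).trans (hg x).symm)

/-- Let F be a saturated fusion system over a finite p-group S. Then F is the fusion system of some finite p-solvable group on a Sylow p-subgroup if and only if F is constrained (some subgroup normal in F is centric in F) and the group of automorphisms that F induces on its largest normal subgroup O_p(F) is p-solvable. -/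
theorem result {Ω : Type u} [Group Ω] {S : Subgroup Ω} [Finite S] (p : ℕ) [Fact p.Prime] (hS : IsPGroup p S)
    (F : Cfsg.FusionSystem S) (hF : F.IsSaturated p) :
    (∃ (G : Type u) (_ : Group G) (_ : Finite G) (ι : S →* G), Cfsg.IsPSolvable p G ∧ F.IsRealizedBy ι ∧
        ∃ T : Sylow p G, (T : Subgroup G) = ι.range) ↔
      (F.IsConstrained p ∧ Cfsg.IsPSolvable p ↥(F.autGroup F.core)) := by
  constructor
  · rintro ⟨G, _, _, ι, hsol, hι, T, hT⟩
    set N := Cfsg.pPrimeCore p G
    haveI hN : N.Normal := CfsgLib.Solvable.pPrimeCore_normal p G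
    have hdisj : ∀ a ∈ ι.range, a ∈ N → a = 1 := by
      intro a ha haN
      obtain ⟨k, hk⟩ := T.isPGroup' ⟨a, hT.symm ▸ ha⟩
      have h1 : orderOf a ∣ p ^ k := orderOf_dvd_of_pow_eq_one (congrArg Subtype.val hk)
      have h2 : orderOf a ∣ Nat.card N := by
        rw [← Subgroup.orderOf_mk a haN]
        exact orderOf_dvd_natCard _
      exact orderOf_eq_one_iff.1 (Nat.eq_one_of_dvd_coprimes
        ((CfsgLib.PLoc.pPrimeCore_coprime p (G := G)).symm.pow_left k) h1 h2)
    set π := QuotientGroup.mk' N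
    have hπ : ∀ x y : S, π (ι x) = π (ι y) → x = y := fun x y h => by
      have h1 : ι (x⁻¹ * y) ∈ N := by
        rw [map_mul, map_inv]
        exact QuotientGroup.eq.1 h
      have h2 := hι.1 ((hdisj _ ⟨_, rfl⟩ h1).trans (map_one ι).symm)
      exact inv_mul_eq_one.1 h2
    have hmodel : F.IsModel p (G ⧸ N) (π.comp ι) := by
      refine ⟨inferInstance, ⟨fun x y h => hπ x y h, fun P hP φ hφ => ?_⟩,
        ⟨T.mapSurjective (QuotientGroup.mk'_surjective N), ?_⟩, ?_⟩
      · refine (hι.2 P hP φ hφ).trans ⟨fun ⟨g, hg⟩ => ⟨π g, fun x => ?_⟩, fun ⟨γ, hγ⟩ => ?_⟩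
        · show π (ι _) = _
          rw [hg x]
          simp
        · obtain ⟨g, hg⟩ := Cfsg.Agent.S5191.result T ((P.subgroupOf S).map ι)
            (by rw [hT]; exact Subgroup.map_le_range _ _) γ (by
              rintro _ ⟨x, hx, rfl⟩
              rw [hT]
              exact ⟨ι ⟨φ ⟨x, hx⟩, hφ _⟩, ⟨_, rfl⟩, hγ ⟨x, hx⟩⟩)
          refine ⟨g, fun x => ?_⟩
          obtain ⟨hgT, hgm⟩ := hg (ι ⟨x, hP x.2⟩) ⟨⟨x, hP x.2⟩, x.2, rfl⟩
          have hgT' : g * ι ⟨x, hP x.2⟩ * g⁻¹ ∈ (T : Subgroup G) := hgT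
          rw [hT] at hgT'
          obtain ⟨y, hy⟩ := hgT'
          rw [← hy]
          refine congrArg ι (hπ _ _ ?_)
          exact (hγ x).trans (hgm.symm.trans (congrArg π hy.symm))
      · rw [Sylow.coe_mapSurjective, hT, MonoidHom.range_comp]
      · exact CfsgLib.PLoc.centralizer_pCore_le_self
          (CfsgLib.PLoc.isPSolvable_of_surjective (QuotientGroup.mk'_surjective N) hsol)
          (CfsgLib.PLoc.pPrimeCore_quotient_eq_bot (QuotientGroup.mk'_surjective N) (QuotientGroup.ker_mk' N))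
    refine ⟨model_isConstrained hmodel, ?_⟩
    rw [← modelCore_eq_core hS hmodel]
    exact isPSolvable_autGroup_modelCore hmodel
      (CfsgLib.PLoc.isPSolvable_of_surjective (QuotientGroup.mk'_surjective N) hsol)
  · rintro ⟨⟨hsat, Q₀, hQ₀n, hQ₀c⟩, hsol⟩
    have hQn := CfsgLib.FusionQuot.isNormal_core F
    have hQc : F.IsCentric F.core := isCentric_mono hQ₀c (le_sSup hQ₀n) hQn.1
    have hnor := stronglyClosed_le_normalizer (isNormal_stronglyClosed hQn)
    have heq : Cfsg.FusionSystem.normalizerIn S F.core = S := inf_eq_left.2 hnor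
    have hfn : F.IsFullyNormalized F.core := ⟨hQn.1, fun R _ => by
      rw [heq]
      exact Nat.card_le_card_of_injective _
        (Subgroup.inclusion_injective (inf_le_left : Cfsg.FusionSystem.normalizerIn S R ≤ S))⟩
    have hE : F.IsNormalizerSystem F.core (copyOver F heq.symm) := fun P => by
      ext φ
      refine ⟨fun h => ?_, fun h => h.1⟩
      exact ⟨h, (F.le_of_mem h).1.trans heq.ge, fun x => heq.ge ((F.le_of_mem h).2 x), hQn.2 P φ h⟩
    obtain ⟨L, _, ι, τ, ⟨hfin, hreal, ⟨T, hT⟩, -⟩, hτ, -, -, hker⟩ :=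
      CfsgLib.FusionModel.exists_model hS hsat hQc hfn hQn.1 _ hE
    haveI : Finite L := hfin
    refine ⟨L, inferInstance, hfin, ι.comp (Subgroup.inclusion heq.ge), ?_,
      ⟨hreal.1.comp (Subgroup.inclusion_injective _),
      fun P hP φ hφ => hreal.2 P (hP.trans heq.ge) φ (fun x => heq.ge (hφ x))⟩, T, ?_⟩
    · refine isPSolvable_of_pgroup_ker hτ ?_ hsol
      rintro ⟨l, hl⟩
      obtain ⟨z, -, rfl⟩ := hker l hl
      obtain ⟨k, hk⟩ := (hS.to_le hQn.1) z
      exact ⟨k, Subtype.ext (by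
        show ι _ ^ p ^ k = 1
        rw [← map_pow, ← map_pow, hk, map_one, map_one])⟩
    · have hsurj : Function.Surjective (Subgroup.inclusion heq.ge) := fun y => ⟨⟨y, heq.le y.2⟩, rfl⟩
      rw [hT, MonoidHom.range_comp, MonoidHom.range_eq_top.2 hsurj, ← MonoidHom.range_eq_map]


end Cfsg.Agent.S5292
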