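import Cfsg.Statements.S5294
import Cfsg.Agent.Lib.Fusion.Normal
import Cfsg.Agent.Lib.FusionQuot.Joins
import Mathlib.Algebra.Group.Hom.Instances
import Mathlib.Algebra.BigOperators.Pi
import Mathlib.GroupTheory.Subgroup.Center

set_option autoImplicit false
universe u
open Cfsg

namespace Cfsg.Agent.S5294

open Cfsg.FusionSystem CfsgLib.Fusion

variable {Ω : Type*} [Group Ω] {S : Subgroup Ω} {F : Cfsg.FusionSystem S} {p : ℕ}

/-- the action of an automorphism of `Q` on its centre -/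
def actCenter {Q : Subgroup Ω} (g : MulAut Q) : Subgroup.center Q →* Subgroup.center Q :=
  (g.toMonoidHom.comp (Subgroup.center Q).subtype).codRestrict _ fun a => by
    rw [Subgroup.mem_center_iff]
    intro y
    obtain ⟨z, rfl⟩ := g.surjective y
    show g z * g a = g a * g z
    rw [← map_mul, ← map_mul, Subgroup.mem_center_iff.1 a.2 z]

theorem direct_factor [Finite S] [Fact p.Prime] (hS : IsPGroup p S) (hF : F.IsSaturated p)
    (hZ : (S ⊓ Subgroup.centralizer (S : Set Ω)) ≤ F.core) :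
    ∃ K : Subgroup Ω, K ≤ (S ⊓ Subgroup.centralizer (S : Set Ω)) ∧ F.center ⊓ K = ⊥ ∧
      F.center ⊔ K = (S ⊓ Subgroup.centralizer (S : Set Ω)) := by
  classical
  set Zs : Subgroup Ω := S ⊓ Subgroup.centralizer (S : Set Ω) with hZs
  set Q := F.core with hQdef
  have hQn : F.IsNormal Q := CfsgLib.FusionQuot.isNormal_core F
  have hQS : Q ≤ S := hQn.1
  have : Finite Q := finite_of_le hQS
  have : Finite (MulAut Q) := finite_mulAut
  have : Finite Zs := finite_of_le inf_le_left
  have hSN := stronglyClosed_le_normalizer (isNormal_stronglyClosed hQn)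
  have hQfn : F.IsFullyNormalized Q := by
    refine ⟨hQS, fun R _ => ?_⟩
    have hNQ : normalizerIn S Q = S := inf_eq_left.2 hSN
    rw [hNQ]
    exact Nat.card_le_card_of_injective _ (Subgroup.inclusion_injective (normalizerIn_le S R))
  obtain ⟨T, hT⟩ := (isFullyAutomized_of_isFullyNormalized hS hF hQfn).2
  haveI : Fintype (F.autGroup Q ⧸ (T : Subgroup (F.autGroup Q))) := Fintype.ofFinite _
  -- the central elements
  let ι : Zs →* Subgroup.center Q := (Subgroup.inclusion hZ).codRestrict _ fun a => by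
    rw [Subgroup.mem_center_iff]
    intro y
    exact Subtype.ext (Subgroup.mem_centralizer_iff.1 a.2.2 y (hQS y.2))
  have hTfix : ∀ t ∈ (T : Subgroup (F.autGroup Q)), ∀ a : Zs,
      actCenter (t : MulAut Q) (ι a) = ι a := by
    intro t ht a
    rw [hT] at ht
    obtain ⟨s, hs, hv⟩ := mem_autInducedBy_iff.1 ht
    refine Subtype.ext (Subtype.ext ?_)
    show (((t : MulAut Q) ⟨a, hZ a.2⟩ : Q) : Ω) = a
    refine (hv _).trans ?_
    show s * (a : Ω) * s⁻¹ = a
    rw [Subgroup.mem_centralizer_iff.1 a.2.2 s hs, mul_inv_cancel_right]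
  have hwd : ∀ (g h : F.autGroup Q) (a : Zs), (g : F.autGroup Q ⧸ (T : Subgroup (F.autGroup Q))) = h →
      actCenter (g : MulAut Q) (ι a) = actCenter (h : MulAut Q) (ι a) := by
    intro g h a hgh
    have h1 := hTfix _ (QuotientGroup.eq.1 hgh) a
    conv_lhs => rw [← h1]
    refine Subtype.ext ?_
    show (g : MulAut Q) (((g⁻¹ * h : F.autGroup Q) : MulAut Q) (ι a : Q)) = (h : MulAut Q) (ι a : Q)
    rw [Subgroup.coe_mul, Subgroup.coe_inv, MulAut.mul_apply, MulAut.apply_inv_self]
  letI : CommGroup (Subgroup.center Q) :=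
    { (inferInstance : Group (Subgroup.center Q)) with
      mul_comm := fun a b => Subtype.ext (Subgroup.mem_center_iff.1 b.2 a) }
  let tr : Zs →* Subgroup.center Q :=
    ∏ q : F.autGroup Q ⧸ (T : Subgroup (F.autGroup Q)), (actCenter (q.out : MulAut Q)).comp ι
  have htr : ∀ (g : F.autGroup Q) (a : Zs), actCenter (g : MulAut Q) (tr a) = tr a := by
    intro g a
    simp only [tr, MonoidHom.finsetProd_apply, map_prod, MonoidHom.comp_apply]
    refine Fintype.prod_equiv (MulAction.toPerm g) _ _ fun q => ?_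
    refine Eq.trans ?_ (hwd (g * q.out) ((g • q).out) a ?_)
    · rfl
    · rw [QuotientGroup.out_eq']
      conv_rhs => rw [← QuotientGroup.out_eq' q]
      rfl
  have htrmem : ∀ a : Zs, ((tr a : Q) : Ω) ∈ Zs := by
    intro a
    refine ⟨hQS (tr a : Q).2, ?_⟩
    show ((tr a : Q) : Ω) ∈ Subgroup.centralizer (S : Set Ω)
    rw [Subgroup.mem_centralizer_iff]
    intro s hs
    have h1 := congrArg (fun u : Subgroup.center Q => ((u : Q) : Ω))
      (htr ⟨_, autInducedBy_le_autGroup F hQS (conjAut_mem_autInducedBy hs (hSN hs))⟩ a)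
    have h2 : s * ((tr a : Q) : Ω) * s⁻¹ = ((tr a : Q) : Ω) := h1
    exact mul_inv_eq_iff_eq_mul.1 h2
  have hcentral : ∀ x ∈ F.center, ∀ y : Ω, F.IsConjElt x y → y = x :=
    ((isCentral_iff_forall_conjElt hS hF).1 (CfsgLib.FusionQuot.isCentral_center F)).2
  have hZF : F.center ≤ Zs := by
    refine le_inf (CfsgLib.FusionQuot.center_le F) fun x hx => Subgroup.mem_centralizer_iff.2 ?_
    intro s hs
    have h1 : s * x * s⁻¹ = x := hcentral x hx _
      ⟨_, F.conj_mem (Subgroup.zpowers_le.2 (CfsgLib.FusionQuot.center_le F hx)) hs, rfl⟩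
    exact mul_inv_eq_iff_eq_mul.1 h1
  have hfixed : ∀ (a : Zs), (a : Ω) ∈ F.center → ∀ g : F.autGroup Q,
      actCenter (g : MulAut Q) (ι a) = ι a := by
    intro a ha g
    refine Subtype.ext (Subtype.ext (hcentral a ha _ ?_))
    refine ⟨_, restrict_mem ((mem_autGroup_iff_hom hQS).1 g.2)
      (Subgroup.zpowers_le.2 (hZ a.2)), rfl⟩
  set Z0 : Subgroup Ω := (tr.range.map (Subgroup.center Q).subtype).map Q.subtype with hZ0
  have hZ0c : Z0 ≤ F.center := by
    refine le_sSup ((isCentral_iff_forall_conjElt hS hF).2 ⟨?_, ?_⟩)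
    · rintro _ ⟨_, ⟨_, ⟨a, rfl⟩, rfl⟩, rfl⟩
      exact hQS (tr a : Q).2
    · rintro _ ⟨_, ⟨_, ⟨a, rfl⟩, rfl⟩, rfl⟩ y ⟨φ, hφ, hφy⟩
      obtain ⟨ψ, hψ, hag, hψQ⟩ := hQn.2 _ φ hφ
      obtain ⟨α, hα, hαv⟩ := exists_aut (restrict_mem hψ le_sup_right)
        ((range_comp_inclusion _).trans hψQ)
      rw [← hφy, ← hag]
      have h1 := congrArg (fun u : Subgroup.center Q => ((u : Q) : Ω)) (htr ⟨α, hα⟩ a)
      refine Eq.trans ?_ h1
      show _ = ((α (tr a : Q) : Q) : Ω)
      rw [hαv]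
      rfl
  have hm : (Nat.card Zs).Coprime (T : Subgroup (F.autGroup Q)).index := by
    obtain ⟨n, hn⟩ := IsPGroup.iff_card.1 (hS.to_le (inf_le_left : Zs ≤ S))
    rw [hn]
    exact ((Fact.out : p.Prime).coprime_iff_not_dvd.2 T.not_dvd_index).pow_left n
  have hpow : ∀ a : Zs, (a : Ω) ∈ F.center →
      tr a = ι (a ^ (T : Subgroup (F.autGroup Q)).index) := by
    intro a ha
    simp only [tr, MonoidHom.finsetProd_apply, MonoidHom.comp_apply, hfixed a ha, Finset.prod_const,
      map_pow, Subgroup.index_eq_card, Nat.card_eq_fintype_card, Finset.card_univ]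
  have hιinj : Function.Injective ι := fun a b h =>
    Subtype.ext (congrArg (fun u : Subgroup.center Q => ((u : Q) : Ω)) h)
  refine ⟨(tr.ker).map Zs.subtype, Subgroup.map_subtype_le _, ?_, ?_⟩
  · rw [eq_bot_iff]
    rintro x ⟨hx, a, ha, rfl⟩
    rw [Subgroup.mem_bot]
    have h1 := hpow a hx
    rw [show tr a = 1 from ha] at h1
    have h2 : a ^ (T : Subgroup (F.autGroup Q)).index = 1 :=
      hιinj (h1.symm.trans (map_one ι).symm)
    have h3 : a = 1 := (powCoprime hm).injective (by simpa using h2)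
    rw [h3]
    rfl
  · refine le_antisymm (sup_le hZF (Subgroup.map_subtype_le _)) fun x hx => ?_
    let z : Zs := ⟨_, htrmem ⟨x, hx⟩⟩
    have hzc : (z : Ω) ∈ F.center :=
      hZ0c ⟨_, ⟨_, ⟨⟨x, hx⟩, rfl⟩, rfl⟩, rfl⟩
    let w : Zs := (powCoprime hm).symm z
    have hw : w ^ (T : Subgroup (F.autGroup Q)).index = z := (powCoprime hm).apply_symm_apply z
    have hwc : (w : Ω) ∈ F.center := by
      obtain ⟨k, hk⟩ := exists_pow_eq_self_of_coprime (x := w)
        (n := (T : Subgroup (F.autGroup Q)).index)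
        (Nat.Coprime.coprime_dvd_right (orderOf_dvd_natCard w) hm.symm)
      rw [hw] at hk
      rw [← hk, Subgroup.coe_pow]
      exact pow_mem hzc k
    have hker : w⁻¹ * ⟨x, hx⟩ ∈ tr.ker := by
      rw [MonoidHom.mem_ker, map_mul, map_inv, hpow w hwc, hw, inv_mul_eq_one]
      rfl
    have h1 := Subgroup.mul_mem_sup hwc (Subgroup.mem_map_of_mem Zs.subtype hker)
    simpa using h1


/-- Let F be a saturated fusion system over a finite p-group S whose centre Z(S) lies in the largest subgroup O_p(F) normal in F. Then the centre Z(F) of F is a direct factor of Z(S): there is a subgroup K of Z(S) with Z(F) ∩ K = 1 and Z(F)K = Z(S). -/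
theorem result {Ω : Type u} [Group Ω] {S : Subgroup Ω} [Finite S] (p : ℕ) [Fact p.Prime] (hS : IsPGroup p S)
    (F : Cfsg.FusionSystem S) (hF : F.IsSaturated p) (hZ : (S ⊓ Subgroup.centralizer (S : Set Ω)) ≤ F.core) :
    ∃ K : Subgroup Ω, K ≤ (S ⊓ Subgroup.centralizer (S : Set Ω)) ∧ F.center ⊓ K = ⊥ ∧ F.center ⊔ K = (S ⊓ Subgroup.centralizer (S : Set Ω)) := by
  exact direct_factor hS hF hZ

end Cfsg.Agent.S5294
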