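import Cfsg.Statements.S5295
import Cfsg.Agent.S5193
import Cfsg.Agent.Lib.FusionControl.TraceFactor
import Cfsg.Agent.Lib.Fusion.ZJCenter

set_option autoImplicit false
universe u
open Cfsg Cfsg.FusionSystem CfsgLib.Fusion CfsgLib.FusionControl

namespace Cfsg.Agent.S5295

set_option maxHeartbeats 1000000 in
/-- Let F be a saturated fusion system over a finite p-group S with p odd. Then the centre Z(F) of F is a direct factor of Z(S): there is a subgroup K of Z(S) with Z(F) ∩ K = 1 and Z(F)K = Z(S). (At the prime 2 this can fail.) -/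
theorem result {Ω : Type u} [Group Ω] {S : Subgroup Ω} [Finite S] (p : ℕ) [Fact p.Prime] (hp : p ≠ 2) (hS : IsPGroup p S)
    (F : Cfsg.FusionSystem S) (hF : F.IsSaturated p) :
    ∃ K : Subgroup Ω, K ≤ (S ⊓ Subgroup.centralizer (S : Set Ω)) ∧ F.center ⊓ K = ⊥ ∧ F.center ⊔ K = (S ⊓ Subgroup.centralizer (S : Set Ω)) := by
  have hSn : S ≤ Subgroup.normalizer (Cfsg.thompsonSubgroupAOf S : Set Ω) := by
    rw [CfsgLib.PLoc.joinMaxAb_zero]
    exact Subgroup.le_normalizer.trans (CfsgLib.PLoc.normalizer_le_normalizer_joinMaxAb 0 S)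
  have hJS : Cfsg.thompsonSubgroupAOf S ≤ S := by
    rw [CfsgLib.PLoc.joinMaxAb_zero]
    exact CfsgLib.PLoc.joinMaxAb_le 0 S
  have hN := isNormalizerSystem_normalizerSystem F (Cfsg.thompsonSubgroupAOf S) hJS
  have heq := (S5193.result p hS F hF _ hN).2 (Or.inl hp)
  have hCJ : S ⊓ Subgroup.centralizer (S : Set Ω) ≤ Cfsg.thompsonSubgroupAOf S := by
    intro x hx
    rw [CfsgLib.PLoc.joinMaxAb_zero, show CfsgLib.PLoc.joinMaxAb 0 S =
      (CfsgLib.PLoc.joinMaxAb 0 (⊤ : Subgroup S)).map S.subtype by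
        rw [CfsgLib.ZJCenter.joinMaxAb_map S.subtype_injective, ← MonoidHom.range_eq_map,
          Subgroup.range_subtype]]
    obtain ⟨A, hA⟩ := CfsgLib.PLoc.exists_isMaxAb 0 (⊤ : Subgroup S)
    exact ⟨⟨x, hx.1⟩, CfsgLib.PLoc.le_joinMaxAb hA (CfsgLib.PLoc.mem_of_commute hA
      (Subgroup.mem_top _) (pow_zero _) fun a _ => Subtype.ext
        (Subgroup.mem_centralizer_iff.1 hx.2 a a.2)), rfl⟩
  generalize hJdef : Cfsg.thompsonSubgroupAOf S = J at hSn hJS hN heq hCJ
  set N := normalizerSystem F J hJS with hNdef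
  have hfinJ : Finite J := finite_of_le hJS
  have : Finite (MulAut J) := finite_mulAut
  have hNS : normalizerIn S J = S := normalizerIn_eq_of_le hSn
  have : Finite (normalizerIn S J) := finite_of_le (normalizerIn_le S J)
  obtain ⟨-, P₀, hP₀⟩ := isFullyAutomized_of_isFullyNormalized hS hF
    (isFullyNormalized_of_le_normalizer (E := F) hJS hSn)
  set φ : F.autGroup J →* MulAut (Subgroup.center J) :=
    MonoidHom.mk' (fun a => Subgroup.centerCongr (a : MulAut J)) (fun a b => MulEquiv.ext fun x => Subtype.ext rfl)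
  set g : Subgroup.center J →* Ω := J.subtype.comp (Subgroup.center J).subtype with hg
  have hginj : Function.Injective g := fun a b h => Subtype.ext (Subtype.ext h)
  have hφ : ∀ (a : F.autGroup J) (x : Subgroup.center J), g (φ a x) = (((a : MulAut J) (x : J) : J) : Ω) :=
    fun a x => rfl
  -- `C_M(Aut_S J)` is `Z(S)`
  have h₁ : ∀ x : Subgroup.center J,
      x ∈ (S ⊓ Subgroup.centralizer (S : Set Ω)).comap g ↔ ∀ b ∈ (P₀ : Subgroup _), φ b x = x := by
    intro x
    constructor
    · intro hx b hb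
      rw [hP₀] at hb
      obtain ⟨t, ht, ht'⟩ := mem_autInducedBy_iff.1 hb
      refine hginj ?_
      rw [hφ]
      refine (ht' (x : J)).trans ?_
      show t * g x * t⁻¹ = g x
      rw [Subgroup.mem_centralizer_iff.1 hx.2 t ht, mul_inv_cancel_right]
    · intro h
      refine ⟨hJS (x : J).2, Subgroup.mem_centralizer_iff.2 fun s hs => ?_⟩
      have hmem : conjAut J s (hSn hs) ∈ F.autGroup J :=
        autInducedBy_le_autGroup F hJS (conjAut_mem_autInducedBy hs (hSn hs))
      have h2 := congrArg g (h ⟨_, hmem⟩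
        (hP₀ ▸ (conjAut_mem_autInducedBy hs (hSn hs) : conjAut J s (hSn hs) ∈ autInducedBy S J)))
      rw [hφ, conjAut_apply] at h2
      exact mul_inv_eq_iff_eq_mul.1 h2
  -- `C_M(Aut_F J)` is the centre
  have hNC : N.center ≤ S ⊓ Subgroup.centralizer (S : Set Ω) := by
    refine le_inf ((CfsgLib.FusionQuot.isCentral_center N).1.trans (normalizerIn_le S J)) ?_
    exact N.center_le_centralizer.trans (Subgroup.centralizer_le (SetLike.coe_subset_coe.2 hNS.ge))
  have h₀ : ∀ x : Subgroup.center J, x ∈ N.center.comap g ↔ ∀ a, φ a x = x := by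
    intro x
    constructor
    · intro hx a
      refine hginj ?_
      rw [hφ]
      have hα : J.subtype.comp (a : MulAut J).toMonoidHom ∈ N.Hom J := by
        rw [hN]
        refine ⟨(mem_autGroup_iff hJS).1 a.2, le_normalizerIn hJS,
          fun y => le_normalizerIn hJS ((a : MulAut J) y).2,
          (J.subtype.comp (a : MulAut J).toMonoidHom).comp (Subgroup.inclusion (sup_le le_rfl le_rfl)),
          restrict_mem ((mem_autGroup_iff hJS).1 a.2) _, fun y => rfl, ?_⟩
        rw [← range_comp_inclusion le_sup_right]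
        refine range_eq_of_le (fun u v h => ?_) fun y => ((a : MulAut J) _).2
        exact (a : MulAut J).injective (Subtype.ext h)
      obtain ⟨ψ, -, hag, hfix⟩ := (CfsgLib.FusionQuot.isCentral_center N).2 J _ hα
      have h1 := hag (x : J)
      rw [show Subgroup.inclusion (le_sup_left : J ≤ J ⊔ N.center) (x : J) =
        Subgroup.inclusion le_sup_right (⟨g x, hx⟩ : N.center) from Subtype.ext rfl, hfix] at h1
      exact h1.symm
    · intro h
      refine CfsgLib.FusionQuot.le_center N (Q := Subgroup.zpowers (g x)) ⟨?_, fun P φ' hφ' => ?_⟩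
        (Subgroup.mem_zpowers _)
      · exact Subgroup.zpowers_le.2 (le_normalizerIn hJS (x : J).2)
      · rw [hN] at hφ'
        obtain ⟨-, hP, hv, ψ, hψ, hag, hJψ⟩ := hφ'
        obtain ⟨α, hα, hαv⟩ := exists_aut (restrict_mem hψ (le_sup_right : J ≤ P ⊔ J))
          (range_eq_of_le (hom_inj (restrict_mem hψ le_sup_right)) fun y =>
            mem_of_map_subgroupOf_sup_eq hJψ y)
        have hle : P ⊔ Subgroup.zpowers (g x) ≤ P ⊔ J :=
          sup_le_sup le_rfl (Subgroup.zpowers_le.2 (x : J).2)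
        have hψN : ψ ∈ N.Hom (P ⊔ J) := by
          rw [hN]
          refine ⟨hψ, sup_le hP (le_normalizerIn hJS), ?_,
            ψ.comp (Subgroup.inclusion (sup_le le_rfl le_sup_right)), restrict_mem hψ _,
            fun y => rfl, ?_⟩
          · exact forall_mem_of_sup (fun y => by rw [hag]; exact hv y) fun y =>
              le_normalizerIn hJS (mem_of_map_subgroupOf_sup_eq hJψ y)
          · rw [← range_comp_inclusion le_sup_right]
            refine range_eq_of_le ((hom_inj hψ).comp ((Subgroup.inclusion_injective _).comp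
              (Subgroup.inclusion_injective _))) fun y => mem_of_map_subgroupOf_sup_eq hJψ y
        refine ⟨ψ.comp (Subgroup.inclusion hle), restrict_mem hψN hle, fun y => hag y, ?_⟩
        rintro ⟨y, n, rfl⟩
        have hv1 : ψ (Subgroup.inclusion le_sup_right (x : J)) = g x := by
          have h2 := congrArg g (h ⟨α, hα⟩)
          rw [hφ] at h2
          exact (hαv (x : J)).symm.trans h2
        show ψ ⟨g x ^ n, _⟩ = g x ^ n
        rw [show (⟨g x ^ n, _⟩ : ↥(P ⊔ J)) = (Subgroup.inclusion le_sup_right (x : J)) ^ n from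
          Subtype.ext rfl, map_zpow, hv1]
  have hM : IsPGroup p (Subgroup.center J) := (hS.to_le hJS).to_subgroup _
  obtain ⟨k, hk⟩ := IsPGroup.iff_card.1 hM
  have hidx : (P₀ : Subgroup (F.autGroup J)).index.Coprime (Nat.card (Subgroup.center J)) := by
    rw [hk]
    exact ((Nat.Prime.coprime_iff_not_dvd Fact.out).2 P₀.not_dvd_index).symm.pow_right k
  letI : CommGroup (Subgroup.center J) :=
    { (inferInstance : Group (Subgroup.center J)) with
      mul_comm := fun a b => Subtype.ext (Subgroup.mem_center_iff.1 b.2 a) }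
  obtain ⟨K, hK, hbot, hsup⟩ := @exists_factor_of_coprime (Subgroup.center J) _ _ (F.autGroup J) _ _ φ
    (P₀ : Subgroup (F.autGroup J)) hidx (N.center.comap g)
    ((S ⊓ Subgroup.centralizer (S : Set Ω)).comap g) h₀ h₁
  have hgr : S ⊓ Subgroup.centralizer (S : Set Ω) ≤ g.range := fun z hz =>
    ⟨⟨⟨z, hCJ hz⟩, Subgroup.mem_center_iff.2 fun y => Subtype.ext
      (Subgroup.mem_centralizer_iff.1 hz.2 y (hJS y.2))⟩, rfl⟩
  refine ⟨K.map g, (Subgroup.map_mono hK).trans (Subgroup.map_comap_le _ _), ?_, ?_⟩ <;> rw [← heq]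
  · rw [← Subgroup.map_comap_eq_self (hNC.trans hgr), ← Subgroup.map_inf _ _ _ hginj, hbot,
      Subgroup.map_bot]
  · rw [← Subgroup.map_comap_eq_self (hNC.trans hgr), ← Subgroup.map_sup, hsup,
      Subgroup.map_comap_eq_self hgr]

end Cfsg.Agent.S5295
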