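import Cfsg.Statements.S5326
import Cfsg.Agent.Lib.Fusion.Alperin

set_option autoImplicit false
open Cfsg

namespace Cfsg.Agent.S5326

open Cfsg.FusionSystem CfsgLib.Fusion

variable {Ω : Type*} [Group Ω] {S : Subgroup Ω} {F : Cfsg.FusionSystem S} {Q : Subgroup Ω}

/-- isomorphisms onto `Q` extending to the normalizer -/
def Nice (F : Cfsg.FusionSystem S) {P Q : Subgroup Ω} (a : P ≃* Q) : Prop :=
  IsFIso F a ∧ ∃ ψ ∈ F.Hom (normalizerIn S P),
    ∀ (x : P) (hx : (x : Ω) ∈ normalizerIn S P), ψ ⟨x, hx⟩ = (a x : Ω)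

/-- isomorphisms reading as extendable automorphisms of `Q` -/
def Good (F : Cfsg.FusionSystem S) (Q : Subgroup Ω) {P P' : Subgroup Ω} (e : P ≃* P') : Prop :=
  ∀ (a : P ≃* Q) (b : P' ≃* Q), Nice F a → Nice F b →
    ((a.symm.trans e).trans b : MulAut Q) ∈ extendableAut F Q

theorem exists_nice [Finite S] {p : ℕ} [Fact p.Prime] (hS : IsPGroup p S) (hF : F.IsSaturated p)
    (hQ : F.IsFullyNormalized Q) {P : Subgroup Ω} (hP : F.IsConj P Q) :
    ∃ a : P ≃* Q, Nice F a := by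
  obtain ⟨e, he, ψ, hψ, -, hag⟩ := exists_normalizer_map hS hF hQ hP
  exact ⟨e, he, ψ, hψ, fun x _ => hag x⟩

theorem good_of_extends [Finite S] {p : ℕ} [Fact p.Prime] (hS : IsPGroup p S)
    {P P' : Subgroup Ω} (e : P ≃* P') {R : Subgroup Ω} {φ : R →* Ω} (hφ : φ ∈ F.Hom R)
    (hPR : P < R) (hag : ∀ x : P, φ ⟨x, hPR.le x.2⟩ = (e x : Ω)) : Good F Q e := by
  intro a b ha hb
  obtain ⟨-, ψa, hψa, haga⟩ := ha
  obtain ⟨-, ψb, hψb, hagb⟩ := hb
  have hRS : R ≤ S := dom_le hφ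
  have : Finite R := finite_of_le hRS
  set R₁ := normalizerIn R P with hR₁
  have hR₁R : R₁ ≤ R := normalizerIn_le R P
  have hPR₁ : P < R₁ := lt_normalizerIn (isPGroup_of_le hS hRS) hPR
  have hR₁N : R₁ ≤ normalizerIn S P := inf_le_inf_right _ hRS
  have hR₁S : R₁ ≤ S := hR₁R.trans hRS
  have hφ₁ := restrict_mem hφ hR₁R
  have h1 : ∀ x : R₁, (φ.comp (Subgroup.inclusion hR₁R)) x ∈ normalizerIn S P' := fun x =>
    ⟨map_mem hφ₁ x, map_mem_normalizer_of_extends hPR.le hag (hR₁R x.2) (hR₁N x.2).2⟩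
  have hcomb := F.comp_mem hφ₁ hψb h1
  have hψa₁ := restrict_mem hψa hR₁N
  obtain ⟨χ, hχ, hχv⟩ := F.inv_mem hψa₁
  have h2 : ∀ x, χ x ∈ R₁ := by
    rintro ⟨_, y, rfl⟩
    rw [hχv]
    exact y.2
  have hfin := F.comp_mem hχ hcomb h2
  have hsub : Q ≤ (ψa.comp (Subgroup.inclusion hR₁N)).range := fun y hy =>
    ⟨⟨a.symm ⟨y, hy⟩, hPR₁.le (a.symm ⟨y, hy⟩).2⟩, (haga (a.symm ⟨y, hy⟩) _).trans (by simp)⟩
  have : Finite R₁ := finite_of_le hR₁S
  have : Finite (ψa.comp (Subgroup.inclusion hR₁N)).range := finite_of_le (range_le hψa₁)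
  have hlt : Q < (ψa.comp (Subgroup.inclusion hR₁N)).range := by
    refine lt_of_le_of_ne hsub fun he => hPR₁.ne (Subgroup.eq_of_le_of_card_ge hPR₁.le ?_)
    rw [Nat.card_congr a.toEquiv, Nat.card_congr (MonoidHom.ofInjective (hom_inj hψa₁)).toEquiv]
    exact le_of_eq (by rw [he])
  refine Subgroup.subset_closure ⟨_, hlt, _, hfin, fun y => ?_⟩
  obtain ⟨x, rfl⟩ := a.surjective y
  have e1 : (Subgroup.inclusion hlt.le (a x) : (ψa.comp (Subgroup.inclusion hR₁N)).range) =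
      ⟨(ψa.comp (Subgroup.inclusion hR₁N)) ⟨x, hPR₁.le x.2⟩, ⟨_, rfl⟩⟩ :=
    Subtype.ext (haga x (hR₁N (hPR₁.le x.2))).symm
  have e2 : χ (Subgroup.inclusion hlt.le (a x)) = (x : Ω) := by rw [e1, hχv]
  show ψb ⟨φ ⟨χ (Subgroup.inclusion hlt.le (a x)), _⟩, _⟩ = _
  have e3 : ∀ (y : Ω) (hy : y ∈ R), y = (x : Ω) → φ ⟨y, hy⟩ = (e x : Ω) := by
    intro y hy hyx
    subst hyx
    exact hag x
  have e4 : ∀ (z : Ω) (hz : z ∈ normalizerIn S P'), z = (e x : Ω) → ψb ⟨z, hz⟩ = (b (e x) : Ω) := by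
    intro z hz hzx
    subst hzx
    exact hagb (e x) hz
  refine (e4 _ _ (e3 _ _ e2)).trans ?_
  simp

theorem good_conj [Finite S] {p : ℕ} [Fact p.Prime] (hS : IsPGroup p S) {P P' : Subgroup Ω}
    (hPS : P < S) (e : P ≃* P') {g : Ω} (hg : g ∈ S)
    (he : ∀ x : P, (e x : Ω) = g * (x : Ω) * g⁻¹) : Good F Q e :=
  good_of_extends hS e (F.conj_mem (le_refl S) hg) hPS fun x => (he x).symm

/-- the system omitting the class of `Q` -/
def omitSystem [Finite S] {p : ℕ} [Fact p.Prime] (hS : IsPGroup p S) (hF : F.IsSaturated p)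
    (hQ : F.IsFullyNormalized Q) (hQS : Q < S) : Cfsg.FusionSystem S where
  Hom P := {φ | φ ∈ F.Hom P ∧ (F.IsConj P Q → ∀ (P' : Subgroup Ω) (e : P ≃* P'),
    (∀ x, (e x : Ω) = φ x) → Good F Q e)}
  le_of_mem h := F.le_of_mem h.1
  injective_of_mem h := F.injective_of_mem h.1
  conj_mem := by
    intro P g hP hg
    refine ⟨F.conj_mem hP hg, fun hPQ P' e he => good_conj hS (lt_of_le_of_ne hP ?_) e hg he⟩
    rintro rfl
    exact hQS.ne (isConj_top_eq hPQ)
  comp_mem := by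
    rintro P R φ ψ ⟨hφ, hφg⟩ ⟨hψ, hψg⟩ h
    refine ⟨F.comp_mem hφ hψ h, fun hPQ P' e he a b ha hb => ?_⟩
    obtain ⟨f, hf, hfv⟩ := exists_iso hφ rfl
    have hrQ : F.IsConj φ.range Q := isConj_trans (isConj_symm ⟨φ, hφ, rfl⟩) hPQ
    obtain ⟨c, hc⟩ := exists_nice hS hF hQ hrQ
    have hle : φ.range ≤ R := by rintro _ ⟨x, rfl⟩; exact h x
    have h2 : Good F Q (f.symm.trans e) := by
      have hev : ∀ x : φ.range, ((f.symm.trans e) x : Ω) = ψ ⟨x, hle x.2⟩ := by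
        intro x
        obtain ⟨y, rfl⟩ := f.surjective x
        rw [MulEquiv.trans_apply, MulEquiv.symm_apply_apply, he]
        show ψ _ = ψ _
        congr 1
        exact Subtype.ext (hfv y).symm
      rcases eq_or_lt_of_le hle with heq | hlt
      · subst heq
        exact hψg hrQ P' _ hev
      · exact good_of_extends hS _ hψ hlt fun x => (hev x).symm
    have := (extendableAut F Q).mul_mem (h2 c b hc hb) (hφg hPQ _ f hfv a c ha hc)
    convert this using 1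
    exact MulEquiv.ext fun x => by simp
  inv_mem := by
    rintro P φ ⟨hφ, hφg⟩
    obtain ⟨χ, hχ, hχv⟩ := F.inv_mem hφ
    refine ⟨χ, ⟨hχ, fun hrQ P' e he a b ha hb => ?_⟩, hχv⟩
    have hP' : P = P' := by
      ext y
      constructor
      · intro hy
        have h1 := he ⟨φ ⟨y, hy⟩, ⟨_, rfl⟩⟩
        rw [hχv] at h1
        exact (show (e ⟨φ ⟨y, hy⟩, ⟨_, rfl⟩⟩ : Ω) = y from h1) ▸ (e _).2
      · intro hy
        obtain ⟨⟨_, x, rfl⟩, hx⟩ := e.surjective ⟨y, hy⟩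
        have h1 := he ⟨φ x, ⟨_, rfl⟩⟩
        rw [hx, hχv] at h1
        exact (show y = (x : Ω) from h1) ▸ x.2
    subst hP'
    have hev : ∀ x : P, (e.symm x : Ω) = φ x := by
      intro x
      obtain ⟨⟨_, y, rfl⟩, rfl⟩ := e.surjective x
      rw [MulEquiv.symm_apply_apply]
      exact congrArg φ (Subtype.ext ((he ⟨φ y, ⟨_, rfl⟩⟩).trans (hχv y))).symm
    have := (extendableAut F Q).inv_mem
      (hφg (isConj_trans ⟨φ, hφ, rfl⟩ hrQ) _ e.symm hev b a hb ha)
    convert this using 1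
    exact MulEquiv.ext fun x => rfl

theorem essential_lt [Finite S] {p : ℕ} [Fact p.Prime] (hS : IsPGroup p S) (hF : F.IsSaturated p)
    (hQ : F.IsEssential p Q) : Q < S := by
  refine lt_of_le_of_ne hQ.2.1.1 fun hQS => ?_
  obtain ⟨-, hQn, hN, E, hE⟩ := hQ
  obtain ⟨T, hT⟩ := (isFullyAutomized_of_isFullyNormalized hS hF hQn).2
  have : Finite Q := finite_of_le hQn.1
  have : Finite (MulAut Q) := finite_mulAut
  have h1 : (T : Subgroup (F.autGroup Q)) = (Cfsg.Inn Q).subgroupOf (F.autGroup Q) := by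
    rw [hT, inn_eq_autInducedBy, hQS]
  have h2 := T.not_dvd_index
  rw [h1] at h2
  exact h2 (hE.1.trans (dvd_of_eq (Subgroup.index_eq_card _).symm))

theorem omit_spec [Finite S] {p : ℕ} [Fact p.Prime] (hS : IsPGroup p S) (hF : F.IsSaturated p)
    (hQ : F.IsEssential p Q) :
    ∃ E : Cfsg.FusionSystem S,
      (∀ R : Subgroup Ω, R ≤ S → ¬ F.IsConj Q R → F.autGroup R ≤ E.autGroup R) ∧ ¬ F ≤ E := by
  have hQS := essential_lt hS hF hQ
  refine ⟨omitSystem hS hF hQ.2.1 hQS, fun R hR hRQ α hα => ?_, fun hle => ?_⟩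
  · exact (mem_autGroup_iff_hom hR).2
      ⟨(mem_autGroup_iff_hom hR).1 hα, fun h => absurd (isConj_symm h) hRQ⟩
  · refine extendableAut_ne_of_isEssential hS hF hQ
      (le_antisymm (extendableAut_le F Q) fun α hα => ?_)
    have h1 := (hle Q ((mem_autGroup_iff_hom hQ.2.1.1).1 hα)).2
      (isConj_refl F hQ.2.1.1) Q (α : Q ≃* Q) (fun x => rfl)
    have hid : Nice F (MulEquiv.refl Q) :=
      ⟨IsFIso.refl hQ.2.1.1, _, subtype_mem F (normalizerIn_le S Q), fun x hx => rfl⟩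
    exact h1 _ _ hid hid


/-- Let F be a saturated fusion system over a finite p-group S and Q an essential subgroup. Then the F-conjugacy class of Q cannot be left out of a generating family: there is a fusion system E over S whose automorphism group of every subgroup R ≤ S not F-conjugate to Q contains Aut_F(R), and yet E does not contain every map of F. -/
theorem result {Ω : Type*} [Group Ω] {S : Subgroup Ω} [Finite S] (p : ℕ) [Fact p.Prime] (hS : IsPGroup p S) (F : Cfsg.FusionSystem S) (hF : F.IsSaturated p) (Q : Subgroup Ω) (hQ : F.IsEssential p Q) : ∃ E : Cfsg.FusionSystem S, (∀ R : Subgroup Ω, R ≤ S → ¬ F.IsConj Q R → F.autGroup R ≤ E.autGroup R) ∧ ¬ F ≤ E := by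
  exact omit_spec hS hF hQ

end Cfsg.Agent.S5326
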