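import Cfsg.Statements.S5297
import Cfsg.Agent.Lib.Fusion.CriticalSmall
import Cfsg.Agent.Lib.Fusion.Hyperfocal
import Cfsg.Agent.S5326
import Cfsg.Agent.Lib.Solvable.CoprimeAction

set_option autoImplicit false
universe u
open Cfsg

namespace Cfsg.Agent.S5297

open Cfsg.FusionSystem CfsgLib.Fusion CfsgLib.Fusion.SmallFix CfsgLib.Fusion.Stability
open scoped commutatorElement

variable {Ω : Type*} [Group Ω] {S : Subgroup Ω} {F : Cfsg.FusionSystem S} {p : ℕ}

/-- every map on a small element of the hyperfocal subgroup is induced by an automorphism of `S` -/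
theorem exists_top_aut [Finite S] [Fact p.Prime] (hS : IsPGroup p S) (hF : F.IsSaturated p)
    (h : ∀ A B : Subgroup Ω, A ≤ (F.hyperfocalSubgroup p) → B ≤ (F.hyperfocalSubgroup p) → IsCyclic ↥A → (Nat.card ↥A = p ∨ Nat.card ↥A = 4) → IsCyclic ↥B → (Nat.card ↥B = p ∨ Nat.card ↥B = 4) →
      F.homSet A B ⊆ F.normalizerHom S A)
    {P : Subgroup Ω} (hP : P ≤ S) {α : MulAut P} (hα : α ∈ F.autGroup P) {x : P}
    (hx : (x : Ω) ∈ F.hyperfocalSubgroup p)
    (hs : IsSmall p x) : ∃ β : MulAut S, ((β (Subgroup.inclusion hP x) : S) : Ω) = ((α x : P) : Ω) := by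
  rcases eq_or_ne x 1 with rfl | hx1
  · exact ⟨1, by simp⟩
  have hαx : ((α x : P) : Ω) ∈ F.hyperfocalSubgroup p :=
    aut_mem (stronglyClosed_hyperfocal hS hF) hP hα hx
  have hcard : ∀ y : P, IsSmall p y → y ≠ 1 →
      Nat.card (Subgroup.zpowers (y : Ω)) = p ∨ Nat.card (Subgroup.zpowers (y : Ω)) = 4 := by
    intro y hy hy1
    rw [Nat.card_zpowers, Subgroup.orderOf_coe]
    rcases hy with h1 | ⟨h2, h4⟩
    · exact Or.inl (orderOf_eq_prime h1 hy1)
    · subst h2
      have : orderOf y ∣ 2 ^ 2 := orderOf_dvd_of_pow_eq_one (by norm_num; exact h4)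
      obtain ⟨k, hk, hk'⟩ := (Nat.dvd_prime_pow Nat.prime_two).1 this
      rcases k with _ | _ | _ | k
      · exact absurd (orderOf_eq_one_iff.1 (by simpa using hk')) hy1
      · exact Or.inl (by simpa using hk')
      · exact Or.inr (by simpa using hk')
      · omega
  set A := Subgroup.zpowers (x : Ω) with hA
  set B := Subgroup.zpowers ((α x : P) : Ω) with hB
  have hAP : A ≤ P := Subgroup.zpowers_le.2 x.2
  have hmem := restrict_mem ((mem_autGroup_iff_hom hP).1 hα) hAP
  obtain ⟨-, -, -, ψ, hψ, hext, hmap⟩ := h A B (Subgroup.zpowers_le.2 hx) (Subgroup.zpowers_le.2 hαx)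
    inferInstance (hcard x hs hx1) inferInstance
    (hcard (α x) (isSmall_map α.toMonoidHom hs) (fun h1 => hx1 (α.map_eq_one_iff.1 h1)))
    ⟨hmem, fun a => by
      obtain ⟨k, hk⟩ := Subgroup.mem_zpowers_iff.1 a.2
      refine Subgroup.mem_zpowers_iff.2 ⟨k, ?_⟩
      have : Subgroup.inclusion hAP a = x ^ k := Subtype.ext (by simpa using hk.symm)
      simp [this]⟩
  have hr : (ψ.comp (Subgroup.inclusion (le_sup_right : S ≤ A ⊔ S))).range = S := by
    conv_rhs => rw [← hmap]
    rw [MonoidHom.range_comp, Subgroup.inclusion_range]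
  obtain ⟨β, -, hβ⟩ := exists_aut (restrict_mem hψ le_sup_right) hr
  refine ⟨β, (hβ _).trans ?_⟩
  exact (congrArg ψ (Subtype.ext rfl : Subgroup.inclusion (le_sup_right : S ≤ A ⊔ S)
    (Subgroup.inclusion hP x) = Subgroup.inclusion le_sup_left (⟨(x : Ω), Subgroup.mem_zpowers _⟩ : A))).trans
    (hext _)

theorem no_essential [Finite S] [Fact p.Prime] (hS : IsPGroup p S) (hF : F.IsSaturated p)
    (h : ∀ A B : Subgroup Ω, A ≤ (F.hyperfocalSubgroup p) → B ≤ (F.hyperfocalSubgroup p) → IsCyclic ↥A → (Nat.card ↥A = p ∨ Nat.card ↥A = 4) → IsCyclic ↥B → (Nat.card ↥B = p ∨ Nat.card ↥B = 4) →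
      F.homSet A B ⊆ F.normalizerHom S A)
    {P : Subgroup Ω} (hP : F.IsEssential p P) (hlt : P < S) : False := by
  have hPS : P ≤ S := hlt.le
  have : Finite P := finite_of_le hPS
  have : Finite (MulAut P) := finite_mulAut
  have : Group.IsNilpotent S := hS.isNilpotent
  have hPp := isPGroup_of_le hS hPS
  have hH := stronglyClosed_hyperfocal hS hF
  obtain ⟨D, hDc, hDs, hDf⟩ := exists_small_characteristic hPp
  have hDinv : ∀ (α : MulAut P), ∀ x ∈ D, α x ∈ D := fun α x hx =>
    Subgroup.characteristic_iff_le_comap.1 hDc α hx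
  set R : Subgroup P := (F.hyperfocalSubgroup p).subgroupOf P with hR
  let W : ℕ → Subgroup P := fun i =>
    (Subgroup.upperCentralSeries S i).comap (Subgroup.inclusion hPS) ⊓ (R ⊓ D)
  have hWinv : ∀ (α : F.autGroup P) (i : ℕ), ∀ x ∈ W i, (α : MulAut P) x ∈ W i := by
    intro α i x hx
    obtain ⟨hx1, hx2, hx3⟩ := hx
    obtain ⟨β, hβ⟩ := exists_top_aut hS hF h hPS α.2 hx2 (hDs x hx3)
    refine Subgroup.mem_inf.2 ⟨Subgroup.mem_comap.2 ?_, Subgroup.mem_inf.2
      ⟨aut_mem hH hPS α.2 hx2, hDinv _ x hx3⟩⟩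
    have e : Subgroup.inclusion hPS ((α : MulAut P) x) = β (Subgroup.inclusion hPS x) :=
      Subtype.ext hβ.symm
    rw [e]
    exact Subgroup.characteristic_iff_le_comap.1
      (inferInstance : (Subgroup.upperCentralSeries S i).Characteristic) β hx1
  let B : Subgroup (F.autGroup P) :=
    { carrier := {α | ∀ i, ∀ x ∈ W (i + 1), x⁻¹ * (α : MulAut P) x ∈ W i}
      one_mem' := fun i x _ => by simp
      mul_mem' := by
        intro α β hα hβ i x hx
        have e : x⁻¹ * ((α * β : F.autGroup P) : MulAut P) x = (x⁻¹ * (β : MulAut P) x) *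
            (((β : MulAut P) x)⁻¹ * (α : MulAut P) ((β : MulAut P) x)) := by simp [mul_assoc]
        rw [e]
        exact mul_mem (hβ i x hx) (hα i _ (hWinv β _ x hx))
      inv_mem' := by
        intro α hα i x hx
        have e : x⁻¹ * ((α⁻¹ : F.autGroup P) : MulAut P) x =
            (((α : MulAut P)⁻¹ x)⁻¹ * (α : MulAut P) ((α : MulAut P)⁻¹ x))⁻¹ := by simp [mul_assoc]
        rw [e]
        exact inv_mem (hα i _ (hWinv α⁻¹ _ x hx)) }
  have hBn : B.Normal := ⟨by
    intro α hα γ i x hx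
    have e : x⁻¹ * ((γ * α * γ⁻¹ : F.autGroup P) : MulAut P) x = (γ : MulAut P)
        (((γ : MulAut P)⁻¹ x)⁻¹ * (α : MulAut P) ((γ : MulAut P)⁻¹ x)) := by simp [mul_assoc]
    rw [e]
    exact hWinv γ i _ (hα i _ (hWinv γ⁻¹ _ x hx))⟩
  have hBp : IsPGroup p B := by
    refine isPGroup_of_coprime_eq_one fun α hα => ?_
    have hord : (orderOf ((α : F.autGroup P) : MulAut P)).Coprime p := by
      rw [Subgroup.orderOf_coe, Subgroup.orderOf_coe]; exact hα
    have hser := eq_self_of_series hPp _ hord (fun j => W (Group.nilpotencyClass S - j))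
      (Group.nilpotencyClass S)
      (eq_bot_iff.2 fun x hx => by simpa using hx.1)
      (fun j hj x hx => α.2 (Group.nilpotencyClass S - (j + 1)) x (by
        rwa [show Group.nilpotencyClass S - (j + 1) + 1 = Group.nilpotencyClass S - j by omega]))
    refine Subtype.ext (Subtype.ext (hDf _ hord fun x hx => ?_))
    refine eq_self_of_disp_fixed hPp _ hord (hser 0 (Nat.zero_le _) _ (Subgroup.mem_inf.2 ⟨?_,
      Subgroup.mem_inf.2 ⟨?_, mul_mem (inv_mem hx) (hDinv _ x hx)⟩⟩))
    · rw [Subgroup.mem_comap, Nat.sub_zero, Subgroup.upperCentralSeries_nilpotencyClass]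
      exact Subgroup.mem_top _
    · exact Subgroup.subset_closure ⟨P, α.1, x, hPS, Subgroup.subset_closure
        (by show Nat.Coprime _ p; rw [Subgroup.orderOf_coe]; exact hα), rfl⟩
  have hle : B.map (F.autGroup P).subtype ≤ Cfsg.Inn P :=
    (Subgroup.map_mono (CfsgLib.Solvable.le_pCore hBn hBp)).trans
      (isRadical_of_isEssential hS hF hP).2.le
  obtain ⟨g, hg, hgP⟩ := SetLike.exists_of_lt (lt_normalizerIn hS hlt)
  refine hgP (mem_of_conjAut_mem_inn (centralizerIn_le_of_isCentric hP.1) hPS hg.1 hg.2 (hle ?_))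
  refine ⟨⟨conjAut P g hg.2, autInducedBy_le_autGroup F hPS
    (conjAut_mem_autInducedBy hg.1 hg.2)⟩, fun i x hx => ?_, rfl⟩
  obtain ⟨hx1, hx2, hx3⟩ := hx
  refine Subgroup.mem_inf.2 ⟨Subgroup.mem_comap.2 ?_, Subgroup.mem_inf.2
    ⟨R.mul_mem (R.inv_mem hx2) (aut_mem hH hPS ?_ hx2), D.mul_mem (D.inv_mem hx3) (hDinv _ x hx3)⟩⟩
  · have e : Subgroup.inclusion hPS (x⁻¹ * conjAut P g hg.2 x) =
        ⁅(Subgroup.inclusion hPS x)⁻¹, (⟨g, hg.1⟩ : S)⁆ :=
      Subtype.ext (by simp [commutatorElement_def, conjAut_apply, mul_assoc])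
    rw [e]
    exact Subgroup.mem_upperCentralSeries_succ_iff.1 (inv_mem hx1) _
  · exact autInducedBy_le_autGroup F hPS (conjAut_mem_autInducedBy hg.1 hg.2)


/-- Let F be a saturated fusion system over a finite p-group S. If every map of F between cyclic subgroups of the hyperfocal subgroup of F of order p or 4 is a map of the normalizer system of S (it extends to a map of F defined on all of S), then S is normal in F. -/
theorem result {Ω : Type u} [Group Ω] {S : Subgroup Ω} [Finite S] (p : ℕ) [Fact p.Prime] (hS : IsPGroup p S)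
    (F : Cfsg.FusionSystem S) (hF : F.IsSaturated p)
    (h : ∀ A B : Subgroup Ω, A ≤ (F.hyperfocalSubgroup p) → B ≤ (F.hyperfocalSubgroup p) → IsCyclic ↥A → (Nat.card ↥A = p ∨ Nat.card ↥A = 4) → IsCyclic ↥B → (Nat.card ↥B = p ∨ Nat.card ↥B = 4) →
      F.homSet A B ⊆ F.normalizerHom S A) :
    F.IsNormal S := by
  refine (CfsgLib.Fusion.isNormal_iff_essential hS hF).2 fun P hP => ?_
  rcases hP with rfl | hP
  · refine ⟨le_rfl, fun α _ => ?_⟩
    rw [Subgroup.subgroupOf_self, Subgroup.map_top_of_surjective _ α.surjective]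
  exfalso
  exact no_essential hS hF h hP (Cfsg.Agent.S5326.essential_lt hS hF hP)

end Cfsg.Agent.S5297
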