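import Cfsg.Statements.S5298
import Cfsg.Agent.Lib.Fusion.SmallFix

set_option autoImplicit false
universe u
open Cfsg

namespace Cfsg.Agent.S5298

open Cfsg.FusionSystem CfsgLib.Fusion CfsgLib.Fusion.SmallFix CfsgLib.Fusion.Stability
open scoped commutatorElement

variable {Ω : Type*} [Group Ω] {S : Subgroup Ω} {F : Cfsg.FusionSystem S} {p : ℕ}

theorem exists_conj [Fact p.Prime]
    (h : ∀ A B : Subgroup Ω, A ≤ (F.hyperfocalSubgroup p) → B ≤ (F.hyperfocalSubgroup p) → IsCyclic ↥A → (Nat.card ↥A = p ∨ Nat.card ↥A = 4) → IsCyclic ↥B → (Nat.card ↥B = p ∨ Nat.card ↥B = 4) →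
      F.homSet A B ⊆ (Cfsg.innerFusionSystem S).Hom A)
    {P : Subgroup Ω} (hP : P ≤ S) {α : MulAut P} (hα : α ∈ F.autGroup P) {x : P}
    (hx : (x : Ω) ∈ F.hyperfocalSubgroup p) (hαx : ((α x : P) : Ω) ∈ F.hyperfocalSubgroup p)
    (hs : IsSmall p x) : ∃ s ∈ S, ((α x : P) : Ω) = s * x * s⁻¹ := by
  rcases eq_or_ne x 1 with rfl | hx1
  · exact ⟨1, S.one_mem, by simp⟩
  have hcard : ∀ y : P, IsSmall p y → y ≠ 1 →
      Nat.card (Subgroup.zpowers (y : Ω)) = p ∨ Nat.card (Subgroup.zpowers (y : Ω)) = 4 := by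
    intro y hy hy1
    rw [Nat.card_zpowers, Subgroup.orderOf_coe]
    rcases hy with h1 | ⟨h2, h4⟩
    · exact Or.inl (orderOf_eq_prime h1 hy1)
    · subst h2
      have : orderOf y ∣ 2 ^ 2 := orderOf_dvd_of_pow_eq_one (by norm_num; exact h4)
      obtain ⟨k, hk, hk'⟩ := (Nat.dvd_prime_pow Nat.prime_two).1 this
      rcases k with _ | _ | _ | k
      · exact absurd (orderOf_eq_one_iff.1 (by simpa using hk')) hy1
      · exact Or.inl (by simpa using hk')
      · exact Or.inr (by simpa using hk')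
      · omega
  set A := Subgroup.zpowers (x : Ω) with hA
  set B := Subgroup.zpowers ((α x : P) : Ω) with hB
  have hAP : A ≤ P := Subgroup.zpowers_le.2 x.2
  have hmem := restrict_mem ((mem_autGroup_iff_hom hP).1 hα) hAP
  obtain ⟨-, s, hs', hφ⟩ := h A B (Subgroup.zpowers_le.2 hx) (Subgroup.zpowers_le.2 hαx)
    inferInstance (hcard x hs hx1) inferInstance
    (hcard (α x) (isSmall_map α.toMonoidHom hs) (fun h1 => hx1 (α.map_eq_one_iff.1 h1)))
    ⟨hmem, fun a => by
      obtain ⟨k, hk⟩ := Subgroup.mem_zpowers_iff.1 a.2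
      refine Subgroup.mem_zpowers_iff.2 ⟨k, ?_⟩
      have : Subgroup.inclusion hAP a = x ^ k := Subtype.ext (by simpa using hk.symm)
      simp [this]⟩
  exact ⟨s, hs', hφ ⟨x, Subgroup.mem_zpowers _⟩⟩

theorem disp_mem {P : Subgroup Ω} (hP : P ≤ S) {α : MulAut P} (hα : α ∈ F.autGroup P)
    (hord : (orderOf α).Coprime p) (x : P) :
    ((x⁻¹ * α x : P) : Ω) ∈ F.hyperfocalSubgroup p :=
  Subgroup.subset_closure ⟨P, ⟨α, hα⟩, x, hP,
    Subgroup.subset_closure (by show Nat.Coprime _ p; rwa [← Subgroup.orderOf_coe]), rfl⟩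

theorem eq_one_of_coprime [Finite S] [Fact p.Prime] (hS : IsPGroup p S)
    (h : ∀ A B : Subgroup Ω, A ≤ (F.hyperfocalSubgroup p) → B ≤ (F.hyperfocalSubgroup p) → IsCyclic ↥A → (Nat.card ↥A = p ∨ Nat.card ↥A = 4) → IsCyclic ↥B → (Nat.card ↥B = p ∨ Nat.card ↥B = 4) →
      F.homSet A B ⊆ (Cfsg.innerFusionSystem S).Hom A)
    {P : Subgroup Ω} (hP : P ≤ S) {α : MulAut P} (hα : α ∈ F.autGroup P)
    (hord : (orderOf α).Coprime p) : α = 1 := by
  have : Finite P := finite_of_le hP
  have hPp := isPGroup_of_le hS hP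
  set R : Subgroup P := (F.hyperfocalSubgroup p).subgroupOf P with hR
  have hdR : ∀ x : P, x⁻¹ * α x ∈ R := fun x => disp_mem hP hα hord x
  have hRinv : ∀ x ∈ R, α x ∈ R := fun x hx => by simpa using R.mul_mem hx (hdR x)
  let W : ℕ → Subgroup P := fun i =>
    ((Subgroup.upperCentralSeries S i).comap (Subgroup.inclusion hP)) ⊓ R
  have hWn : ∀ (i : ℕ) (x y : P), x ∈ Subgroup.comap (Subgroup.inclusion hP)
      (Subgroup.upperCentralSeries S i) → y⁻¹ * x * y ∈ Subgroup.comap (Subgroup.inclusion hP)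
      (Subgroup.upperCentralSeries S i) := fun i x y hx => by
    simpa using (Subgroup.normal_of_characteristic (Subgroup.upperCentralSeries S i)).conj_mem
      _ hx (Subgroup.inclusion hP y)⁻¹
  have key : ∀ i, ∀ x ∈ W i, IsSmall p x → α x = x := by
    intro i
    induction i with
    | zero =>
      intro x hx _
      have : x = 1 := by simpa [W] using hx.1
      rw [this, map_one]
    | succ i ih =>
      let M : Subgroup P :=
        { carrier := {x | x⁻¹ * α x ∈ W i}
          one_mem' := by simp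
          mul_mem' := by
            intro a b ha hb
            show (a * b)⁻¹ * α (a * b) ∈ W i
            have e : (a * b)⁻¹ * α (a * b) = b⁻¹ * (a⁻¹ * α a) * b * (b⁻¹ * α b) := by
              simp [mul_assoc]
            rw [e]
            exact mul_mem ⟨hWn i _ b ha.1, by
              simpa [mul_assoc] using R.mul_mem (hdR (a * b)) (R.inv_mem hb.2)⟩ hb
          inv_mem' := by
            intro a ha
            show a⁻¹⁻¹ * α a⁻¹ ∈ W i
            have e : a⁻¹⁻¹ * α a⁻¹ = a⁻¹⁻¹ * (a⁻¹ * α a)⁻¹ * a⁻¹ := by simp [mul_assoc]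
            exact ⟨e ▸ hWn i _ a⁻¹ (inv_mem ha.1), hdR a⁻¹⟩ }
      set H : Subgroup P := Subgroup.closure {x | x ∈ W (i + 1) ∧ IsSmall p x} with hH
      have hgen : ∀ x ∈ W (i + 1), IsSmall p x → x ∈ M := by
        intro x hx hs
        obtain ⟨s, hs', hsx⟩ := exists_conj h hP hα hx.2 (hRinv x hx.2) hs
        refine Subgroup.mem_inf.2 ⟨Subgroup.mem_comap.2 ?_, hdR x⟩
        have h1 := Subgroup.mem_upperCentralSeries_succ_iff.1 (inv_mem hx.1) ⟨s, hs'⟩
        have e : Subgroup.inclusion hP (x⁻¹ * α x) = ⁅(Subgroup.inclusion hP x)⁻¹, ⟨s, hs'⟩⁆ :=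
          Subtype.ext (by simp [commutatorElement_def, hsx, mul_assoc])
        rw [e]; exact h1
      have hHW : H ≤ W (i + 1) := (Subgroup.closure_le _).2 fun x hx => hx.1
      have hHM : H ≤ M := (Subgroup.closure_le _).2 fun x hx => hgen x hx.1 hx.2
      have hWle : W i ≤ W (i + 1) := inf_le_inf_right _
        (Subgroup.comap_mono (Subgroup.upperCentralSeries_mono S i.le_succ))
      have hHinv : ∀ x ∈ H, α x ∈ H := by
        have : H ≤ H.comap α.toMonoidHom := (Subgroup.closure_le _).2 fun x hx =>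
          Subgroup.subset_closure ⟨by simpa using mul_mem hx.1 (hWle (hgen x hx.1 hx.2)),
            isSmall_map α.toMonoidHom hx.2⟩
        exact fun x hx => this hx
      have hK : ∀ x ∈ H ⊓ W i, α x = x := fix_of_fix_small hPp α hord _
        (fun x hx => ⟨hHinv x hx.1, by simpa using mul_mem hx.2 (hHM hx.1)⟩)
        fun x hx hs => ih x hx.2 hs
      exact fun x hx hs => eq_self_of_disp_fixed hPp α hord (hK _
        (Subgroup.mem_inf.2 ⟨H.mul_mem (H.inv_mem (Subgroup.subset_closure ⟨hx, hs⟩))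
          (hHinv x (Subgroup.subset_closure ⟨hx, hs⟩)), hgen x hx hs⟩))
  have : Group.IsNilpotent S := hS.isNilpotent
  have hfix : ∀ x ∈ R, α x = x := fix_of_fix_small hPp α hord R hRinv fun x hx hs =>
    key (Group.nilpotencyClass S) x
      (Subgroup.mem_inf.2 ⟨Subgroup.mem_comap.2 (by
        rw [Subgroup.upperCentralSeries_nilpotencyClass]; exact Subgroup.mem_top _), hx⟩) hs
  exact MulEquiv.ext fun x => eq_self_of_disp_fixed hPp α hord (hfix _ (hdR x))

/-- Let F be a saturated fusion system over a finite p-group S. If every map of F between cyclic subgroups of the hyperfocal subgroup of F of order p or 4 is conjugation by an element of S, then F is the inner fusion system of S. -/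
theorem result {Ω : Type u} [Group Ω] {S : Subgroup Ω} [Finite S] (p : ℕ) [Fact p.Prime] (hS : IsPGroup p S)
    (F : Cfsg.FusionSystem S) (hF : F.IsSaturated p)
    (h : ∀ A B : Subgroup Ω, A ≤ (F.hyperfocalSubgroup p) → B ≤ (F.hyperfocalSubgroup p) → IsCyclic ↥A → (Nat.card ↥A = p ∨ Nat.card ↥A = 4) → IsCyclic ↥B → (Nat.card ↥B = p ∨ Nat.card ↥B = 4) →
      F.homSet A B ⊆ (Cfsg.innerFusionSystem S).Hom A) :
    ∀ P : Subgroup Ω, F.Hom P = (Cfsg.innerFusionSystem S).Hom P := by
  intro P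
  rw [eq_inner_of_isPGroup hS hF fun P hP => ?_]
  have : Finite P := finite_of_le hP
  have : Finite (MulAut P) := finite_mulAut
  exact isPGroup_of_coprime_eq_one fun α hα => Subtype.ext
    (eq_one_of_coprime hS h hP α.2 (by rwa [Subgroup.orderOf_coe]))

end Cfsg.Agent.S5298
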