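import Cfsg.Statements.S5299
import Cfsg.Agent.Lib.Fusion.Saturation
import Mathlib.GroupTheory.QuotientGroup.Basic

set_option autoImplicit false
universe u
open Cfsg

namespace Cfsg.Agent.S5299

/-- sections of a group with Sylow subgroup embedded in `T` -/
theorem involves_of_sylow {L T H : Type*} [Group L] [Finite L] [Group T] [Group H] [Finite H]
    {p : ℕ} [Fact p.Prime] (Q : Subgroup H) (hQ : IsPGroup p Q) (ι : T →* L)
    (hι : Function.Injective ι) (P0 : Sylow p L) (hP0 : (P0 : Subgroup L) = ι.range)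
    (h : Cfsg.Involves H L) : Cfsg.Involves Q T := by
  obtain ⟨K, R, hR, ⟨e⟩⟩ := h
  let f : K →* H := e.toMonoidHom.comp (QuotientGroup.mk' (R.subgroupOf K))
  have hf : Function.Surjective f := e.surjective.comp (QuotientGroup.mk'_surjective _)
  let f' : (Q.comap f) →* Q := f.subgroupComap Q
  have hf' : Function.Surjective f' := fun q => by
    obtain ⟨x, hx⟩ := hf (q : H)
    exact ⟨⟨x, show f x ∈ Q from hx ▸ q.2⟩, Subtype.ext hx⟩
  obtain ⟨P, -⟩ := (IsPGroup.of_bot (p := p) (G := Q.comap f)).exists_le_sylow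
  have hPtop : ∀ q : Q, ∃ x ∈ (P : Subgroup (Q.comap f)), f' x = q := by
    intro q
    have h1 : (P.mapSurjective (f := f') hf' : Subgroup Q) = ⊤ :=
      ((P.mapSurjective (f := f') hf').3 (hQ.to_subgroup ⊤) le_top).symm
    have h2 : q ∈ (P.mapSurjective (f := f') hf' : Subgroup Q) := h1 ▸ Subgroup.mem_top q
    obtain ⟨x, hx, hxq⟩ := h2
    exact ⟨x, hx, hxq⟩
  set k : (P : Subgroup (Q.comap f)) →* L :=
    K.subtype.comp ((Q.comap f).subtype.comp (P : Subgroup (Q.comap f)).subtype) with hk
  have hkinj : Function.Injective k :=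
    K.subtype_injective.comp ((Q.comap f).subtype_injective.comp (Subgroup.subtype_injective _))
  have hkp : IsPGroup p k.range := P.2.of_surjective k.rangeRestrict k.rangeRestrict_surjective
  obtain ⟨g, hg⟩ := CfsgLib.Fusion.exists_conj_le_sylow P0 hkp
  let eι : T ≃* ι.range := MonoidHom.ofInjective hι
  let k' : (P : Subgroup (Q.comap f)) →* ι.range :=
    ((MulAut.conj g).toMonoidHom.comp k).codRestrict _ fun x => hP0 ▸ hg _ ⟨x, rfl⟩
  let j : (P : Subgroup (Q.comap f)) →* T := eι.symm.toMonoidHom.comp k'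
  have hj : Function.Injective j := eι.symm.injective.comp (fun a b hab =>
    hkinj ((MulAut.conj g).injective (congrArg Subtype.val hab)))
  let ej : (P : Subgroup (Q.comap f)) ≃* j.range := MonoidHom.ofInjective hj
  let h' : j.range →* Q := (f'.comp (P : Subgroup (Q.comap f)).subtype).comp ej.symm.toMonoidHom
  have hh' : Function.Surjective h' := fun q => by
    obtain ⟨x, hx, hxq⟩ := hPtop q
    exact ⟨ej ⟨x, hx⟩, by simp [h', hxq]⟩
  have heq : (h'.ker.map j.range.subtype).subgroupOf j.range = h'.ker :=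
    Subgroup.comap_map_eq_self_of_injective j.range.subtype_injective _
  refine ⟨j.range, h'.ker.map j.range.subtype, (by rw [heq]; infer_instance), ?_⟩
  have : ((h'.ker.map j.range.subtype).subgroupOf j.range).Normal := by
    rw [heq]; infer_instance
  exact ⟨(QuotientGroup.quotientMulEquivOfEq heq).trans
    (QuotientGroup.quotientKerEquivOfSurjective h' hh')⟩


/-- Let F be a saturated fusion system over a finite p-group S, H a finite group and Q a p-subgroup of H. If Q is not involved in S (no section of S is isomorphic to Q), then F is H-free: H is involved in no model of the normalizer system of a fully normalized centric subgroup. -/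
theorem result {Ω : Type u} [Group Ω] {S : Subgroup Ω} [Finite S] (p : ℕ) [Fact p.Prime] (hS : IsPGroup p S)
    (F : Cfsg.FusionSystem S) (hF : F.IsSaturated p) (H : Type*) [Group H] [Finite H] (Q : Subgroup H) (hQ : IsPGroup p Q)
    (hfree : ¬ Cfsg.Involves (↥Q) (↥S)) : F.IsSectionFree p H := by
  intro Q₀ _ _ N _ L _ ι hm hinv
  obtain ⟨hfin, ⟨hinj, -⟩, ⟨P0, hP0⟩, -⟩ := hm
  refine hfree ?_
  obtain ⟨K, R, hR, he⟩ := involves_of_sylow Q hQ ι hinj P0 hP0 hinv
  let i : ↥(Cfsg.FusionSystem.normalizerIn S Q₀) →* S := Subgroup.inclusion inf_le_left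
  have hi : Function.Injective i := Subgroup.inclusion_injective _
  have heq : (R.map i).subgroupOf (K.map i) =
      (R.subgroupOf K).map (K.equivMapOfInjective i hi).toMonoidHom := by
    ext ⟨x, hx⟩
    obtain ⟨y, hy, rfl⟩ := hx
    constructor
    · rintro ⟨z, hz, hzy⟩
      obtain rfl : z = y := hi hzy
      exact ⟨⟨z, hy⟩, hz, rfl⟩
    · rintro ⟨z, hz, hzy⟩
      exact ⟨z, hz, congrArg Subtype.val hzy⟩
  have hn : ((R.map i).subgroupOf (K.map i)).Normal :=
    heq ▸ hR.map _ (K.equivMapOfInjective i hi).surjective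
  obtain ⟨e⟩ := he
  exact ⟨K.map i, R.map i, hn, ⟨(QuotientGroup.congr _ _ (K.equivMapOfInjective i hi) heq.symm).symm.trans e⟩⟩

end Cfsg.Agent.S5299
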