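import Cfsg.Statements.S5300
import Cfsg.Agent.Lib.Fusion.SmallFix
import Cfsg.Agent.S5326
import Cfsg.Agent.Lib.Solvable.CoprimeAction

set_option autoImplicit false
universe u
open Cfsg

namespace Cfsg.Agent.S5300

open Cfsg.FusionSystem CfsgLib.Fusion CfsgLib.Fusion.SmallFix CfsgLib.Fusion.Stability

variable {Ω : Type*} [Group Ω] {S : Subgroup Ω} {F : Cfsg.FusionSystem S} {p : ℕ}

theorem focal_le : F.focalSubgroup ≤ S := (Subgroup.closure_le _).2 (by
  rintro _ ⟨P, φ, x, hφ, rfl⟩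
  exact S.mul_mem (S.inv_mem (dom_le hφ x.2)) (map_mem hφ x))

theorem aut_mem_focal {P : Subgroup Ω} (hP : P ≤ S) {α : MulAut P} (hα : α ∈ F.autGroup P) {x : P}
    (hx : (x : Ω) ∈ F.focalSubgroup) : ((α x : P) : Ω) ∈ F.focalSubgroup := by
  have h1 : ((x : Ω))⁻¹ * ((α x : P) : Ω) ∈ F.focalSubgroup :=
    Subgroup.subset_closure ⟨P, _, x, (mem_autGroup_iff_hom hP).1 hα, rfl⟩
  simpa using F.focalSubgroup.mul_mem hx h1

theorem central_of_normal_zpowers [Finite S] [Fact p.Prime] (hS : IsPGroup p S) {x : Ω}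
    (hxS : x ∈ S) (hx : x ^ p = 1) (h : ∀ s ∈ S, s * x * s⁻¹ ∈ Subgroup.zpowers x) :
    ∀ s ∈ S, s * x * s⁻¹ = x := by
  intro s hs
  rcases eq_or_ne x 1 with rfl | hx1
  · simp
  set X : S := ⟨x, hxS⟩
  have hord : orderOf X = p :=
    orderOf_eq_prime (Subtype.ext (by simpa using hx)) fun h1 => hx1 (congrArg Subtype.val h1)
  have hN : (Subgroup.zpowers X).Normal := ⟨fun y hy g => by
    obtain ⟨k, rfl⟩ := hy
    obtain ⟨j, hj⟩ := h g g.2
    refine ⟨j * k, ?_⟩
    show X ^ (j * k) = g * X ^ k * g⁻¹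
    rw [← conj_zpow, zpow_mul]
    congr 1
    exact Subtype.ext (by simpa using hj)⟩
  have hne : Nontrivial (Subgroup.zpowers X) := by
    rw [Subgroup.nontrivial_iff_ne_bot, Ne, Subgroup.zpowers_eq_bot]
    exact fun h1 => hx1 (congrArg Subtype.val h1)
  obtain ⟨z, ⟨hz, hzc⟩, hz1⟩ := CfsgLib.Solvable.exists_ne_one_mem_inf_center_of_normal hS
    (N := Subgroup.zpowers X) ((Subgroup.nontrivial_iff_ne_bot _).1 hne)
  have hle : Subgroup.zpowers X ≤ Subgroup.center S := by
    have h1 : Subgroup.zpowers z = Subgroup.zpowers X := by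
      refine Subgroup.eq_of_le_of_card_ge (Subgroup.zpowers_le.2 hz) ?_
      rw [Nat.card_zpowers, Nat.card_zpowers, hord]
      refine le_of_eq (((Nat.dvd_prime Fact.out).1 ?_).resolve_left fun h1 => hz1 (orderOf_eq_one_iff.1 h1)).symm
      rw [← hord, ← Nat.card_zpowers X, ← Nat.card_zpowers z]
      exact Subgroup.card_dvd_of_le (Subgroup.zpowers_le.2 hz)
    rw [← h1]
    exact Subgroup.zpowers_le.2 hzc
  have h2 : s * x = x * s := congrArg Subtype.val
    (Subgroup.mem_center_iff.1 (hle (Subgroup.mem_zpowers X)) ⟨s, hs⟩)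
  rw [h2, mul_inv_cancel_right]

theorem small_conj [Finite S] [Fact p.Prime] (hS : IsPGroup p S)
    (hnorm : ∀ x ∈ F.focalSubgroup, (x ^ p = 1 ∨ (p = 2 ∧ x ^ 4 = 1)) →
      ∀ s ∈ S, s * x * s⁻¹ ∈ Subgroup.zpowers x) {x : Ω} (hx : x ∈ F.focalSubgroup)
    (hxp : x ^ p = 1) : ∀ s ∈ S, s * x * s⁻¹ = x :=
  central_of_normal_zpowers hS (focal_le hx) hxp (hnorm x hx (Or.inl hxp))

theorem no_essential [Finite S] [Fact p.Prime] (hS : IsPGroup p S) (hF : F.IsSaturated p)
    (hnorm : ∀ x ∈ F.focalSubgroup, (x ^ p = 1 ∨ (p = 2 ∧ x ^ 4 = 1)) →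
      ∀ s ∈ S, s * x * s⁻¹ ∈ Subgroup.zpowers x) {P : Subgroup Ω} (hP : F.IsEssential p P)
    (hlt : P < S) : False := by
  have hPS : P ≤ S := hlt.le
  have : Finite P := finite_of_le hPS
  have : Finite (MulAut P) := finite_mulAut
  have hPp := isPGroup_of_le hS hPS
  -- order `2` elements of the focal subgroup commute with everything
  have hcomm : ∀ a b : P, (a : Ω) ∈ F.focalSubgroup → (a : Ω) ^ p = 1 → a * b = b * a := by
    intro a b ha hap
    refine Subtype.ext ?_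
    have := small_conj hS hnorm ha hap b (hPS b.2)
    exact (mul_inv_eq_iff_eq_mul.1 this).symm
  let Fix : MulAut P → Prop := fun α =>
    (∀ x : P, (x : Ω) ∈ F.focalSubgroup → (x : Ω) ^ p = 1 → α x = x) ∧
    (p = 2 → ∀ x : P, (x : Ω) ∈ F.focalSubgroup → (x : Ω) ^ 4 = 1 → (x⁻¹ * α x) ^ 2 = 1)
  have hsmall : ∀ (α : F.autGroup P) (x : P) (n : ℕ), (x : Ω) ^ n = 1 →
      (((α : MulAut P) x : P) : Ω) ^ n = 1 := by
    intro α x n hx
    have h1 : x ^ n = 1 := Subtype.ext (by simpa using hx)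
    have h2 := congrArg Subtype.val (congrArg (α : MulAut P) h1)
    simpa using h2
  let B : Subgroup (F.autGroup P) :=
    { carrier := {α | Fix (α : MulAut P)}
      one_mem' := ⟨fun x _ _ => rfl, fun _ x _ _ => by simp⟩
      mul_mem' := by
        rintro α β ⟨ha, ha'⟩ ⟨hb, hb'⟩
        refine ⟨fun x hx hxp => ?_, fun h2 x hx hx4 => ?_⟩
        · show (α : MulAut P) ((β : MulAut P) x) = x
          rw [hb x hx hxp, ha x hx hxp]
        · set y := (β : MulAut P) x
          have hy : (y : Ω) ∈ F.focalSubgroup := aut_mem_focal hPS β.2 hx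
          have hy4 : (y : Ω) ^ 4 = 1 := hsmall β x 4 hx4
          have e : x⁻¹ * ((α * β : F.autGroup P) : MulAut P) x =
              (x⁻¹ * y) * (y⁻¹ * (α : MulAut P) y) := by simp [y, mul_assoc]
          rw [e]
          have hc : Commute (x⁻¹ * y) (y⁻¹ * (α : MulAut P) y) := hcomm _ _
            (by rw [Subgroup.coe_mul, Subgroup.coe_inv]; exact mul_mem (inv_mem hx) hy)
            (by
              have := congrArg Subtype.val (hb' h2 x hx hx4)
              rw [h2]; simpa using this)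
          rw [hc.mul_pow, hb' h2 x hx hx4, ha' h2 y hy hy4, one_mul]
      inv_mem' := by
        rintro α ⟨ha, ha'⟩
        refine ⟨fun x hx hxp => ?_, fun h2 x hx hx4 => ?_⟩
        · show (α : MulAut P)⁻¹ x = x
          conv_lhs => rw [← ha x hx hxp]
          exact MulAut.inv_apply_self _ _ _
        · set y := (α : MulAut P)⁻¹ x with hy'
          have hy : (y : Ω) ∈ F.focalSubgroup := aut_mem_focal hPS (inv_mem α.2) hx
          have e : x⁻¹ * ((α⁻¹ : F.autGroup P) : MulAut P) x = (y⁻¹ * (α : MulAut P) y)⁻¹ := by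
            simp [y, mul_assoc]
          rw [e, inv_pow, ha' h2 y hy (hsmall α⁻¹ x 4 hx4), inv_one] }
  have hBn : B.Normal := ⟨by
    rintro α ⟨ha, ha'⟩ γ
    refine ⟨fun x hx hxp => ?_, fun h2 x hx hx4 => ?_⟩
    · show (γ : MulAut P) ((α : MulAut P) ((γ : MulAut P)⁻¹ x)) = x
      rw [ha _ (aut_mem_focal hPS (inv_mem γ.2) hx) (hsmall γ⁻¹ x p hxp), MulAut.apply_inv_self]
    · set y := (γ : MulAut P)⁻¹ x
      have e : x⁻¹ * ((γ * α * γ⁻¹ : F.autGroup P) : MulAut P) x =
          (γ : MulAut P) (y⁻¹ * (α : MulAut P) y) := by simp [y, mul_assoc]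
      rw [e, ← map_pow, ha' h2 y (aut_mem_focal hPS (inv_mem γ.2) hx) (hsmall γ⁻¹ x 4 hx4),
        map_one]⟩
  have hBp : IsPGroup p B := by
    refine isPGroup_of_coprime_eq_one fun α hα => ?_
    have hord : (orderOf ((α : F.autGroup P) : MulAut P)).Coprime p := by
      rw [Subgroup.orderOf_coe, Subgroup.orderOf_coe]; exact hα
    set R : Subgroup P := F.focalSubgroup.subgroupOf P with hR
    have hRfix : ∀ x ∈ R, ((α : F.autGroup P) : MulAut P) x = x := by
      refine fix_of_fix_small hPp _ hord R (fun x hx => aut_mem_focal hPS α.1.2 hx) ?_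
      rintro x hx (hxs | ⟨h2, hxs⟩)
      · exact α.2.1 x hx (by simpa using congrArg Subtype.val hxs)
      · refine eq_self_of_disp_fixed hPp _ hord (α.2.1 _ ?_ ?_)
        · rw [Subgroup.coe_mul, Subgroup.coe_inv]
          exact mul_mem (inv_mem hx) (aut_mem_focal hPS α.1.2 hx)
        · have := congrArg Subtype.val (α.2.2 h2 x hx (by simpa using congrArg Subtype.val hxs))
          rw [h2]; simpa using this
    refine Subtype.ext (Subtype.ext (MulEquiv.ext fun x => ?_))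
    refine eq_self_of_disp_fixed hPp _ hord (hRfix _ ?_)
    show _ ∈ F.focalSubgroup
    exact Subgroup.subset_closure ⟨P, _, x, (mem_autGroup_iff_hom hPS).1 α.1.2, rfl⟩
  have hle : B.map (F.autGroup P).subtype ≤ Cfsg.Inn P :=
    (Subgroup.map_mono (CfsgLib.Solvable.le_pCore hBn hBp)).trans
      (isRadical_of_isEssential hS hF hP).2.le
  obtain ⟨g, hg, hgP⟩ := SetLike.exists_of_lt (lt_normalizerIn hS hlt)
  refine hgP (mem_of_conjAut_mem_inn (centralizerIn_le_of_isCentric hP.1) hPS hg.1 hg.2 (hle ?_))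
  refine ⟨⟨conjAut P g hg.2, autInducedBy_le_autGroup F hPS
    (conjAut_mem_autInducedBy hg.1 hg.2)⟩, ⟨fun x hx hxp => Subtype.ext ?_, fun h2 x hx hx4 => ?_⟩, rfl⟩
  · exact small_conj hS hnorm hx hxp g hg.1
  · obtain ⟨k, hk⟩ := hnorm x hx (Or.inr ⟨h2, hx4⟩) g hg.1
    have hxx : (x : Ω) ^ 2 ∈ F.focalSubgroup := pow_mem hx 2
    have hxx2 : ((x : Ω) ^ 2) ^ p = 1 := by rw [h2, ← pow_mul, hx4]
    have hfix := small_conj hS hnorm hxx hxx2 g hg.1
    rw [← conj_pow] at hfix
    refine Subtype.ext ?_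
    show ((x : Ω)⁻¹ * (g * x * g⁻¹)) ^ 2 = 1
    have hc : Commute (x : Ω)⁻¹ (g * x * g⁻¹) := by
      rw [← hk]; exact ((Commute.refl (x : Ω)).zpow_right k).inv_left
    rw [hc.mul_pow, hfix, inv_pow, inv_mul_cancel]


/-- Let F be a saturated fusion system over a finite p-group S. If every cyclic subgroup of the focal subgroup of F of order p (of order 2 or 4 when p = 2) is normal in S, then S is normal in F. -/
theorem result {Ω : Type u} [Group Ω] {S : Subgroup Ω} [Finite S] (p : ℕ) [Fact p.Prime] (hS : IsPGroup p S)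
    (F : Cfsg.FusionSystem S) (hF : F.IsSaturated p)
    (hnorm : ∀ x ∈ F.focalSubgroup, (x ^ p = 1 ∨ (p = 2 ∧ x ^ 4 = 1)) → ∀ s ∈ S, s * x * s⁻¹ ∈ Subgroup.zpowers x) :
    F.IsNormal S := by
  refine (CfsgLib.Fusion.isNormal_iff_essential hS hF).2 fun P hP => ?_
  rcases hP with rfl | hP
  · refine ⟨le_rfl, fun α _ => ?_⟩
    rw [Subgroup.subgroupOf_self, Subgroup.map_top_of_surjective _ α.surjective]
  exfalso
  refine no_essential hS hF hnorm hP (Cfsg.Agent.S5326.essential_lt hS hF hP)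

end Cfsg.Agent.S5300
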