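import Cfsg.Statements.S5301
import Cfsg.Agent.Lib.Fusion.Normal

set_option autoImplicit false
universe u
open Cfsg

namespace Cfsg.Agent.S5301

/-- Let F be a saturated fusion system over a finite p-group S. If for every subgroup P of S that is fully normalized, centric and radical in F the automorphism group that F induces on P has a normal Sylow p-subgroup, then S is normal in F. -/
theorem result {Ω : Type u} [Group Ω] {S : Subgroup Ω} [Finite S] (p : ℕ) [Fact p.Prime] (hS : IsPGroup p S)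
    (F : Cfsg.FusionSystem S) (hF : F.IsSaturated p)
    (hcl : ∀ P : Subgroup Ω, F.IsFullyNormalized P → F.IsCentric P → F.IsRadical p P →
      ∃ R : Sylow p ↥(F.autGroup P), (R : Subgroup ↥(F.autGroup P)).Normal) :
    F.IsNormal S := by
  refine (CfsgLib.Fusion.isNormal_iff_essential hS hF).2 fun P hP => ?_
  rcases hP with rfl | hP
  · refine ⟨le_rfl, fun α _ => ?_⟩
    rw [Subgroup.subgroupOf_self, Subgroup.map_top_of_surjective _ α.surjective]
  exfalso
  have hPS : P ≤ S := hP.1.1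
  have : Finite P := CfsgLib.Fusion.finite_of_le hPS
  have : Finite (MulAut P) := CfsgLib.Fusion.finite_mulAut
  obtain ⟨R, hR⟩ := hcl P hP.2.1 hP.1 (CfsgLib.Fusion.isRadical_of_isEssential hS hF hP)
  obtain ⟨T, hT⟩ := (CfsgLib.Fusion.isFullyAutomized_of_isFullyNormalized hS hF hP.2.1).2
  have hTR : (T : Subgroup (F.autGroup P)) ≤ (R : Subgroup (F.autGroup P)) := by
    obtain ⟨g, hg⟩ := CfsgLib.Fusion.exists_conj_le_sylow R T.2
    intro t ht
    have h1 := (hR.conj_mem _ (hg t ht) g⁻¹)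
    simpa [mul_assoc] using h1
  have hle : (T : Subgroup (F.autGroup P)).map (F.autGroup P).subtype ≤ Cfsg.Inn P :=
    (Subgroup.map_mono (hTR.trans (CfsgLib.Solvable.le_pCore hR R.2))).trans
      (CfsgLib.Fusion.isRadical_of_isEssential hS hF hP).2.le
  have hlt : P < S := by
    refine lt_of_le_of_ne hPS fun hPS' => ?_
    obtain ⟨-, -, hN, E, hE⟩ := hP
    have h1 : (T : Subgroup (F.autGroup P)) = (Cfsg.Inn P).subgroupOf (F.autGroup P) := by
      rw [hT, CfsgLib.Fusion.inn_eq_autInducedBy, hPS']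
    have h2 := T.not_dvd_index
    rw [h1] at h2
    exact h2 (hE.1.trans (dvd_of_eq (Subgroup.index_eq_card _).symm))
  obtain ⟨g, hg, hgP⟩ := SetLike.exists_of_lt (CfsgLib.Fusion.lt_normalizerIn hS hlt)
  refine hgP (CfsgLib.Fusion.mem_of_conjAut_mem_inn
    (CfsgLib.Fusion.centralizerIn_le_of_isCentric hP.1) hPS hg.1 hg.2 (hle ?_))
  refine ⟨⟨CfsgLib.Fusion.conjAut P g hg.2, CfsgLib.Fusion.autInducedBy_le_autGroup F hPS
    (CfsgLib.Fusion.conjAut_mem_autInducedBy hg.1 hg.2)⟩, ?_, rfl⟩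
  rw [hT]
  exact CfsgLib.Fusion.conjAut_mem_autInducedBy (P := P) hg.1 hg.2

end Cfsg.Agent.S5301
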