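import Cfsg.Statements.S5306
import Cfsg.Agent.Lib.Fusion.Saturation

set_option autoImplicit false
open Cfsg

namespace Cfsg.Agent.S5306

/-- `J(P)` is weakly closed: any conjugate lying in `P` equals it -/
theorem map_thompson_eq {X : Type*} [Group X] [Finite X] (p : ℕ) (P : Subgroup X) (a : X)
    (h : (Cfsg.thompsonSubgroupOf p P).map (MulAut.conj a).toMonoidHom ≤ P) :
    (Cfsg.thompsonSubgroupOf p P).map (MulAut.conj a).toMonoidHom = Cfsg.thompsonSubgroupOf p P := by
  refine Subgroup.eq_of_le_of_card_ge ?_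
    (Subgroup.card_map_of_injective (MulAut.conj a).injective).ge
  unfold Cfsg.thompsonSubgroupOf Cfsg.thompsonSubgroup at h ⊢
  rw [Subgroup.map_map, sSup_eq_iSup, Subgroup.map_iSup]
  refine iSup_le fun A => ?_
  rw [Subgroup.map_iSup]
  refine iSup_le fun hA => ?_
  set A' : Subgroup X := A.map ((MulAut.conj a).toMonoidHom.comp P.subtype) with hA'
  have hA'P : A' ≤ P := by
    refine le_trans ?_ h
    rw [Subgroup.map_map]
    exact Subgroup.map_mono (le_sSup hA)
  have hinj : Function.Injective ((MulAut.conj a).toMonoidHom.comp P.subtype) :=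
    (MulAut.conj a).injective.comp P.subtype_injective
  have hmem : A'.subgroupOf P ∈ Cfsg.maxElementaryAbelianSubgroups p P := by
    obtain ⟨⟨hcomm, hpow⟩, hmax⟩ := hA
    refine ⟨⟨⟨⟨fun u v => ?_⟩⟩, fun u hu => ?_⟩, fun B hB => ?_⟩
    · obtain ⟨u', hu', hu⟩ := u.2
      obtain ⟨v', hv', hv⟩ := v.2
      refine Subtype.ext (Subtype.ext ?_)
      show ((u : P) : X) * ((v : P) : X) = ((v : P) : X) * ((u : P) : X)
      simp only [Subgroup.coe_subtype] at hu hv
      rw [← hu, ← hv, ← map_mul, ← map_mul]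
      exact congrArg _ (congrArg Subtype.val (hcomm.is_comm.comm ⟨u', hu'⟩ ⟨v', hv'⟩))
    · obtain ⟨u', hu', hu⟩ := hu
      refine Subtype.ext ?_
      simp only [Subgroup.coe_subtype] at hu
      rw [Subgroup.coe_pow, ← hu, ← map_pow, hpow u' hu', map_one]
      rfl
    · refine (hmax B hB).trans (le_of_eq ?_)
      rw [Nat.card_congr (Subgroup.subgroupOfEquivOfLe hA'P).toEquiv]
      exact (Subgroup.card_map_of_injective hinj).symm
  intro y hy
  exact ⟨⟨y, hA'P hy⟩, Subgroup.mem_iSup_of_mem (A'.subgroupOf P)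
    (Subgroup.mem_iSup_of_mem hmem hy), rfl⟩


/-- Let P be a Sylow p-subgroup of the finite group X and J = J(P) its Thompson subgroup (generated by the elementary abelian subgroups of P of largest order). If x and y lie in the centre of J and y = g x g⁻¹ for some g in X, then y = n x n⁻¹ for some n in the normalizer N_X(J). -/
theorem result {X : Type*} [Group X] [Finite X] (p : ℕ) [Fact p.Prime] (P : Sylow p X) (J : Subgroup X) (hJ : J = Cfsg.thompsonSubgroupOf p (P : Subgroup X))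
    (x y : X) (hx : x ∈ J ∧ ∀ j ∈ J, Commute j x) (hy : y ∈ J ∧ ∀ j ∈ J, Commute j y) (g : X) (hg : g * x * g⁻¹ = y) :
    ∃ n ∈ Subgroup.normalizer (J : Set X), n * x * n⁻¹ = y := by
  subst hJ
  set J := Cfsg.thompsonSubgroupOf p (P : Subgroup X) with hJdef
  have hJP : J ≤ (P : Subgroup X) := Subgroup.map_subtype_le _
  set C : Subgroup X := Subgroup.centralizer {y} with hC
  have hJC : J ≤ C := fun j hj => Subgroup.mem_centralizer_singleton_iff.2 (hy.2 j hj).eq
  have hgJC : J.map (MulAut.conj g).toMonoidHom ≤ C := by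
    rintro _ ⟨j, hj, rfl⟩
    refine Subgroup.mem_centralizer_singleton_iff.2 ?_
    show g * j * g⁻¹ * y = y * (g * j * g⁻¹)
    rw [← hg]
    simp only [mul_assoc, inv_mul_cancel_left]
    rw [← mul_assoc j x, (hx.2 j hj).eq, mul_assoc]
  have hJp : IsPGroup p J := P.2.to_le hJP
  obtain ⟨R, hR⟩ := (IsPGroup.comap_subtype (K := C) hJp).exists_le_sylow
  obtain ⟨c, hc⟩ := CfsgLib.Fusion.exists_conj_le_sylow R
    (IsPGroup.comap_subtype (K := C) (hJp.map (MulAut.conj g).toMonoidHom))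
  obtain ⟨P', hP'⟩ := (R.2.map C.subtype).exists_le_sylow
  obtain ⟨k, hk⟩ := CfsgLib.Fusion.exists_conj_le_sylow P P'.2
  have h1 := map_thompson_eq p (P : Subgroup X) k (by
    rintro _ ⟨j, hj, rfl⟩
    exact hk j (hP' ⟨⟨j, hJC hj⟩, hR hj, rfl⟩))
  have h2 := map_thompson_eq p (P : Subgroup X) (k * (c : X) * g) (by
    rintro _ ⟨j, hj, rfl⟩
    show k * (c : X) * g * j * (k * (c : X) * g)⁻¹ ∈ (P : Subgroup X)
    have h := hk _ (hP' ⟨_, hc ⟨g * j * g⁻¹, hgJC ⟨j, hj, rfl⟩⟩ ⟨j, hj, rfl⟩, rfl⟩)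
    simpa [mul_assoc] using h)
  refine ⟨(c : X) * g, ?_, ?_⟩
  · have hk' : k ∈ Subgroup.normalizer (J : Set X) := Subgroup.mem_normalizer_iff_map_conj_eq.2 h1
    have h3 : k * (c : X) * g ∈ Subgroup.normalizer (J : Set X) :=
      Subgroup.mem_normalizer_iff_map_conj_eq.2 h2
    have h4 := mul_mem (inv_mem hk') h3
    simpa [mul_assoc] using h4
  · have hcy : (c : X) * y = y * c := Subgroup.mem_centralizer_singleton_iff.1 c.2
    calc (c : X) * g * x * ((c : X) * g)⁻¹ = (c : X) * (g * x * g⁻¹) * (c : X)⁻¹ := by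
          simp [mul_assoc]
      _ = y := by rw [hg, hcy, mul_inv_cancel_right]

end Cfsg.Agent.S5306
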