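import Cfsg.Statements.S5311
import Cfsg.Agent.Lib.Fusion.TransportComp

set_option autoImplicit false
open Cfsg

namespace Cfsg.Agent.S5311

open CfsgLib.Fusion CfsgLib.Fusion.Transport

theorem rel_mem {Ω : Type*} [Group Ω] {S : Subgroup Ω} {F : Cfsg.FusionSystem S} (β : ↥S ≃* ↥S)
    (hβ : F.IsMorphism F (S.subtype.comp β.toMonoidHom))
    (htop : (⊤ : Subgroup S).map S.subtype = S) {P : Subgroup S} {φ : P →* S} {P' : Subgroup S}
    {φ' : P' →* S} (hr : Rel β.toMonoidHom φ φ')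
    (hφ : φ ∈ (pullSys F S.subtype S.subtype_injective htop).Hom P) :
    φ' ∈ (pullSys F S.subtype S.subtype_injective htop).Hom P' := by
  have hp := isPush_pullSys F S.subtype_injective htop
  obtain ⟨ψ, hψ, hrψ⟩ := hp.exists_right hφ
  obtain ⟨ψ', hψ', h1, h2, h3, h4⟩ := hβ.2 _ ψ hψ
  have heq : P'.map S.subtype =
      Cfsg.FusionSystem.imageAlong (S.subtype.comp β.toMonoidHom) (P.map S.subtype) := by
    rw [Cfsg.FusionSystem.imageAlong, ← Subgroup.map_map, ← hr.1]
    congr 2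
    exact (Subgroup.comap_map_eq_self_of_injective S.subtype_injective P).symm
  refine (hp.iff (φ := φ') (φ' := ψ'.comp (Subgroup.inclusion heq.le)) ⟨rfl, fun x hx => ?_⟩).2
    (restrict_mem hψ' heq.le)
  obtain ⟨x, hx'⟩ := x
  obtain ⟨y, hy, rfl⟩ : x ∈ P.map β.toMonoidHom := hr.1.symm ▸ hx'
  have h5 := h4 ⟨y, y, hy, rfl⟩
  refine h5.trans ?_
  show ((β ⟨ψ _, _⟩ : S) : Ω) = _
  rw [hr.2 ⟨y, hy⟩ hx']
  exact congrArg (fun z : S => ((β z : S) : Ω)) (Subtype.ext (hrψ.2 ⟨y, hy⟩ ⟨y, hy, rfl⟩))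


/-- The layer of a saturated fusion system F over a finite p-group S is characteristic in F: for every automorphism α of S that is an automorphism of F (α and its inverse are morphisms from F to F) and every layer E of F over T, α carries T onto T and, for every map φ of E with source P, the map induced by α on α(P) (that is, α ∘ φ ∘ α⁻¹) is a map of E. -/
theorem result {Ω : Type*} [Group Ω] {S : Subgroup Ω} [Finite S] (p : ℕ) [Fact p.Prime] (hS : IsPGroup p S) (F : Cfsg.FusionSystem S) (hF : F.IsSaturated p)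
    (α : ↥S ≃* ↥S) (hα : F.IsMorphism F (S.subtype.comp α.toMonoidHom))
    (hα' : F.IsMorphism F (S.subtype.comp α.symm.toMonoidHom))
    {T : Subgroup Ω} (E : Cfsg.FusionSystem T) (hE : E.IsLayerOf F p) :
    Cfsg.FusionSystem.imageAlong (S.subtype.comp α.toMonoidHom) T = T ∧
      ∀ (P : Subgroup Ω) (φ : ↥P →* Ω), φ ∈ E.Hom P →
        ∀ φ' : ↥(Cfsg.FusionSystem.imageAlong (S.subtype.comp α.toMonoidHom) P) →* Ω,
          Cfsg.FusionSystem.InducedAlong (S.subtype.comp α.toMonoidHom) φ φ' →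
            φ' ∈ E.Hom (Cfsg.FusionSystem.imageAlong (S.subtype.comp α.toMonoidHom) P) := by
  have hTS : T ≤ S := hE.1.1.2.2.2.1.1
  have htop : (⊤ : Subgroup S).map S.subtype = S := by
    rw [← MonoidHom.range_eq_map, Subgroup.range_subtype]
  have hpF := isPush_pullSys F S.subtype_injective htop
  have hTm : (T.comap S.subtype).map S.subtype = T := map_comap_of_le htop hTS
  have hpE := isPush_pullSys E S.subtype_injective hTm
  have hS0 : IsPGroup p (⊤ : Subgroup S) := hS.to_subgroup _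
  have hT0 : IsPGroup p ↥(T.comap S.subtype) := hS.to_subgroup _
  set F0 := pullSys F S.subtype S.subtype_injective htop with hF0
  set E0 := pullSys E S.subtype S.subtype_injective hTm with hE0
  have hL : E0.IsLayerOf F0 p := (hpF.isLayerOf_iff hpE hS0 hT0).2 hE
  have hα0 : IsPush α.toMonoidHom F0 F0 := by
    refine ⟨Subgroup.map_top_of_surjective _ α.surjective, α.injective,
      fun {P φ P' φ'} hr => ⟨rel_mem α hα htop hr, rel_mem α.symm hα' htop ?_⟩⟩
    refine ⟨?_, fun y hy => ?_⟩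
    · rw [← hr.1, Subgroup.map_map, show α.symm.toMonoidHom.comp α.toMonoidHom = MonoidHom.id S by
        ext; simp, Subgroup.map_id]
    · have h := hr.2 ⟨α.symm y, hy⟩ (show α (α.symm y) ∈ P' from (α.apply_symm_apply _).symm ▸ y.2)
      apply α.injective
      show α (φ ⟨α.symm y, hy⟩) = α (α.symm (φ' y))
      rw [α.apply_symm_apply]
      exact h.symm.trans (congrArg φ' (Subtype.ext (α.apply_symm_apply _)))
  have hpE' := isPush_pushSys E0 (f := α.toMonoidHom) α.injective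
  have hL' := (hα0.isLayerOf_iff hpE' hS0 hT0).1 hL
  have h1 : (pushSys E0 α.toMonoidHom α.injective).IsSubsystemOf E0 :=
    hL'.2.2 _ _ hL.1 hL.2.1
  have h2 : E0.IsSubsystemOf (pushSys E0 α.toMonoidHom α.injective) :=
    hL.2.2 _ _ hL'.1 hL'.2.1
  have hT : (T.comap S.subtype).map α.toMonoidHom = T.comap S.subtype :=
    le_antisymm (dom_le (h1 _ (subtype_mem _ le_rfl))) (dom_le (h2 _ (subtype_mem _ le_rfl)))
  refine ⟨?_, fun P φ hφ φ' hφ' => ?_⟩
  · rw [Cfsg.FusionSystem.imageAlong, ← Subgroup.map_map]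
    show ((T.comap S.subtype).map α.toMonoidHom).map S.subtype = T
    rw [hT, hTm]
  · obtain ⟨h1', h2', h3', h4'⟩ := hφ'
    obtain ⟨φ0, hφ0, hr0⟩ := hpE.exists_left hφ
    obtain ⟨φ1, hφ1, hr1⟩ := hpE'.exists_right hφ0
    obtain ⟨φ2, hφ2, hr2⟩ := hpE.exists_right (h1 _ hφ1)
    have himg : ((P.comap S.subtype).map α.toMonoidHom).map S.subtype =
        Cfsg.FusionSystem.imageAlong (S.subtype.comp α.toMonoidHom) P := by
      rw [Cfsg.FusionSystem.imageAlong, ← Subgroup.map_map]; rfl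
    suffices φ' = φ2.comp (Subgroup.inclusion himg.ge) by
      rw [this]; exact restrict_mem hφ2 himg.ge
    refine MonoidHom.ext fun z => ?_
    obtain ⟨z, ⟨x, hx, rfl⟩⟩ := z
    refine (h4' ⟨x, hx⟩).trans (Eq.symm ?_)
    refine (hr2.2 ⟨α x, x, hx, rfl⟩ ⟨_, ⟨x, hx, rfl⟩, rfl⟩).trans ?_
    refine (congrArg S.subtype (hr1.2 ⟨x, hx⟩ ⟨x, hx, rfl⟩)).trans ?_
    exact congrArg (fun w : S => ((α w : S) : Ω)) (Subtype.ext (hr0.2 ⟨x, hx⟩ hx).symm)

end Cfsg.Agent.S5311
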