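import Cfsg.Statements.S5315
import Cfsg.Agent.Lib.Fusion.Hyperfocal
import Cfsg.Agent.Lib.Fusion.Stability
import Cfsg.Agent.Lib.FusionQuot.Joins
import Cfsg.Agent.Lib.FusionQuot.Factor
import Cfsg.Agent.Lib.Solvable.CoprimeAction

set_option autoImplicit false
open Cfsg

namespace Cfsg.Agent.S5315

open Cfsg.FusionSystem CfsgLib.Fusion CfsgLib.Fusion.Stability

variable {Ω : Type*} [Group Ω] {S : Subgroup Ω} {F : Cfsg.FusionSystem S} {p : ℕ}

theorem center_fix [Finite S] {P : Subgroup Ω} {φ : P →* Ω} (hφ : φ ∈ F.Hom P) (x : P)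
    (hx : (x : Ω) ∈ F.center) : φ x = x := by
  obtain ⟨ψ, -, h1, h2⟩ := (CfsgLib.FusionQuot.isCentral_center F).2 P φ hφ
  rw [← h1 x]
  exact (congrArg ψ (Subtype.ext rfl : Subgroup.inclusion (le_sup_left : P ≤ P ⊔ F.center) x =
    Subgroup.inclusion le_sup_right (⟨(x : Ω), hx⟩ : F.center))).trans (h2 _)

/-- modulo the centre every map fixes the preimage of a central subgroup of the factor system -/
theorem disp_mem_center [Finite S]
    (E : Cfsg.FusionSystem (⊤ : Subgroup (↥S ⧸ (F.center).subgroupOf S)))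
    (hE : F.IsFactorSystem F.center (QuotientGroup.mk' ((F.center).subgroupOf S)) E)
    {P : Subgroup Ω} {φ : P →* Ω} (hφ : φ ∈ F.Hom P) (x : P)
    (hx : QuotientGroup.mk' ((F.center).subgroupOf S) ⟨x, dom_le hφ x.2⟩ ∈ E.center) :
    (x : Ω)⁻¹ * φ x ∈ F.center := by
  set q := QuotientGroup.mk' ((F.center).subgroupOf S) with hq
  obtain ⟨-, hker, -, hiff⟩ := hE
  obtain ⟨ψ, hψ, h1, h2⟩ := (CfsgLib.FusionQuot.isCentral_center F).2 P φ hφ
  have hsS : (P ⊔ F.center) ≤ S := dom_le hψ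
  have hkeep : ∀ z : ↥(P ⊔ F.center), q ⟨z, hsS z.2⟩ = 1 → q ⟨ψ z, map_mem hψ z⟩ = 1 := by
    intro z hz
    have hzc := (hker _).1 hz
    rw [hker]
    show ψ z ∈ F.center
    rw [center_fix hψ z hzc]
    exact hzc
  obtain ⟨φ', hφ'⟩ := CfsgLib.FusionQuot.exists_induced (α := q) hsS (map_mem hψ) hkeep
  have hpre : preimageAlong q (imageAlong q (P ⊔ F.center)) = (P ⊔ F.center) :=
    CfsgLib.FusionQuot.preimageAlong_imageAlong hsS fun y hy h =>
      Subgroup.mem_sup_right ((hker ⟨y, hy⟩).1 h)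
  have hmem : φ' ∈ E.Hom (imageAlong q (P ⊔ F.center)) := (hiff _ _).2 ⟨le_top, by rw [hpre]; exact ⟨ψ, hψ, hφ'⟩⟩
  have hx1 : (x : Ω) ∈ (P ⊔ F.center) := Subgroup.mem_sup_left x.2
  have hfix := center_fix hmem ⟨q ⟨x, hsS hx1⟩,
    CfsgLib.FusionQuot.apply_mem_imageAlong (hsS hx1) hx1⟩ hx
  rw [CfsgLib.FusionQuot.induced_apply hφ' ⟨x, hx1⟩ (hsS hx1) _ (map_mem hψ _)] at hfix
  have h3 := (hker ((⟨x, hsS hx1⟩ : S)⁻¹ * ⟨ψ ⟨x, hx1⟩, map_mem hψ _⟩)).1 (by
    rw [map_mul, map_inv, hfix, inv_mul_cancel])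
  rw [Subgroup.coe_mul, Subgroup.coe_inv] at h3
  rw [← h1 x]
  exact h3

/-- maps fixing a subgroup central in `S` and closed in `F` -/
def fixSystem (F : Cfsg.FusionSystem S) (W : Subgroup Ω) (hW : ∀ s ∈ S, ∀ x ∈ W, s * x = x * s)
    (hcl : ∀ (P : Subgroup Ω) (φ : P →* Ω), φ ∈ F.Hom P → ∀ x : P, (x : Ω) ∈ W → φ x ∈ W) :
    Cfsg.FusionSystem S where
  Hom P := {φ | φ ∈ F.Hom P ∧ ∀ x : P, (x : Ω) ∈ W → φ x = x}
  le_of_mem h := F.le_of_mem h.1
  injective_of_mem h := F.injective_of_mem h.1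
  conj_mem := fun hP hg => ⟨F.conj_mem hP hg, fun x hx => by
    rw [conjHom_apply, hW _ hg _ hx, mul_inv_cancel_right]⟩
  comp_mem := by
    rintro P Q φ ψ ⟨hφ, h⟩ ⟨hψ, h'⟩ hc
    refine ⟨F.comp_mem hφ hψ hc, fun x hx => ?_⟩
    have h1 := h x hx
    show ψ ⟨φ x, hc x⟩ = x
    rw [h' ⟨φ x, hc x⟩ (show φ x ∈ W by rw [h1]; exact hx)]
    exact h1
  inv_mem := by
    rintro P φ ⟨hφ, h⟩
    obtain ⟨ψ, hψ, hinv⟩ := F.inv_mem hφ
    refine ⟨ψ, ⟨hψ, ?_⟩, hinv⟩
    rintro ⟨_, y, rfl⟩ hy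
    have h1 := hcl _ ψ hψ ⟨φ y, y, rfl⟩ hy
    rw [hinv] at h1 ⊢
    exact (h y h1).symm

theorem center_eq_bot [Finite S] [Fact p.Prime] (hS : IsPGroup p S) (hF : F.IsSaturated p)
    (hperf : F.hyperfocalSubgroup p = S)
    (E : Cfsg.FusionSystem (⊤ : Subgroup (↥S ⧸ (F.center).subgroupOf S)))
    (hE : F.IsFactorSystem F.center (QuotientGroup.mk' ((F.center).subgroupOf S)) E) :
    E.center = ⊥ := by
  set q := QuotientGroup.mk' ((F.center).subgroupOf S) with hq
  set Z := F.center with hZ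
  set W : Subgroup Ω := preimageAlong q E.center with hW
  have hWS : W ≤ S := CfsgLib.FusionQuot.preimageAlong_le _
  have hdisp : ∀ (P : Subgroup Ω) (φ : P →* Ω), φ ∈ F.Hom P → ∀ x : P, (x : Ω) ∈ W →
      (x : Ω)⁻¹ * φ x ∈ Z := fun P φ hφ x hx =>
    disp_mem_center E hE hφ x (CfsgLib.FusionQuot.mem_preimageAlong.1 hx).2
  have hZW : Z ≤ W := fun z hz => CfsgLib.FusionQuot.mem_preimageAlong.2
    ⟨CfsgLib.FusionQuot.center_le F hz, by
      rw [(hE.2.1 ⟨z, CfsgLib.FusionQuot.center_le F hz⟩).2 hz]; exact one_mem _⟩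
  have hcl : ∀ (P : Subgroup Ω) (φ : P →* Ω), φ ∈ F.Hom P → ∀ x : P, (x : Ω) ∈ W → φ x ∈ W :=
    fun P φ hφ x hx => by simpa using W.mul_mem hx (hZW (hdisp P φ hφ x hx))
  have hcomm : ∀ x ∈ W, ∀ y ∈ S, y⁻¹ * (x * y * x⁻¹) ∈ Z := by
    intro x hx y hy
    have h1 := hdisp S _ (F.conj_mem le_rfl (S.inv_mem hy)) ⟨x, hWS hx⟩ hx
    rw [conjHom_apply, inv_inv] at h1
    have h3 := F.center_le_centralizer h1 x (hWS hx)
    rw [show y⁻¹ * (x * y * x⁻¹) = x * (x⁻¹ * (y⁻¹ * x * y)) * x⁻¹ by simp [mul_assoc], h3,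
      mul_inv_cancel_right]
    exact h1
  have hWn : ∀ s ∈ S, ∀ x ∈ W, s * x * s⁻¹ ∈ W := fun s hs x hx =>
    hcl S _ (F.conj_mem le_rfl hs) ⟨x, hWS hx⟩ hx
  set K : Subgroup Ω := centralizerIn S W with hK
  have hKn : ∀ s ∈ S, ∀ k ∈ K, s * k * s⁻¹ ∈ K := by
    intro s hs k hk
    refine ⟨S.mul_mem (S.mul_mem hs hk.1) (S.inv_mem hs), fun x hx => ?_⟩
    have h1 := Subgroup.mem_centralizer_iff.1 hk.2 _ (hWn s⁻¹ (S.inv_mem hs) x hx)
    rw [inv_inv] at h1
    calc x * (s * k * s⁻¹) = s * (s⁻¹ * x * s * k) * s⁻¹ := by simp [mul_assoc]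
      _ = s * (k * (s⁻¹ * x * s)) * s⁻¹ := by rw [h1]
      _ = _ := by simp [mul_assoc]
  -- the subgroups of Alperin contain `W`; their `p'`-automorphisms fix it
  have hALP : ∀ P : Subgroup Ω, (P = S ∨ F.IsEssential p P) → W ≤ P ∧
      ∀ α ∈ F.autGroup P, (orderOf α).Coprime p →
        (∀ x : P, (x : Ω) ∈ W → α x = x) ∧ ∀ y : P, ((y⁻¹ * α y : P) : Ω) ∈ K := by
    intro P hP
    have hc : F.IsCentric P ∧ F.IsRadical p P := by
      rcases hP with rfl | hP
      exacts [⟨isCentric_top F, isRadical_top hS hF⟩, ⟨hP.1, isRadical_of_isEssential hS hF hP⟩]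
    have hPS : P ≤ S := hc.1.1
    have : Finite P := finite_of_le hPS
    have : Finite (MulAut P) := finite_mulAut
    have hPp := isPGroup_of_le hS hPS
    have hZP : Z ≤ P := fun z hz => centralizerIn_le_of_isCentric hc.1
      ⟨CfsgLib.FusionQuot.center_le F hz, fun y hy => F.center_le_centralizer hz y (hPS hy)⟩
    have hfixZ : ∀ (α : F.autGroup P) (z : P), (z : Ω) ∈ Z → (α : MulAut P) z = z := fun α z hz =>
      Subtype.ext (center_fix ((mem_autGroup_iff_hom hPS).1 α.2) z hz)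
    let A : Subgroup (F.autGroup P) :=
      { carrier := {α | ∀ y : P, ((y⁻¹ * (α : MulAut P) y : P) : Ω) ∈ Z}
        one_mem' := fun y => by simp
        mul_mem' := by
          intro α β hα hβ y
          have e : y⁻¹ * ((α * β : F.autGroup P) : MulAut P) y = (y⁻¹ * (β : MulAut P) y) *
              (((β : MulAut P) y)⁻¹ * (α : MulAut P) ((β : MulAut P) y)) := by simp [mul_assoc]
          rw [e, Subgroup.coe_mul]
          exact Z.mul_mem (hβ y) (hα _)
        inv_mem' := by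
          intro α hα y
          have e : y⁻¹ * ((α⁻¹ : F.autGroup P) : MulAut P) y =
              (((α : MulAut P)⁻¹ y)⁻¹ * (α : MulAut P) ((α : MulAut P)⁻¹ y))⁻¹ := by simp [mul_assoc]
          rw [e, Subgroup.coe_inv]
          exact Z.inv_mem (hα _) }
    have hAn : A.Normal := ⟨by
      intro α hα γ y
      have e : y⁻¹ * ((γ * α * γ⁻¹ : F.autGroup P) : MulAut P) y = (γ : MulAut P)
          (((γ : MulAut P)⁻¹ y)⁻¹ * (α : MulAut P) ((γ : MulAut P)⁻¹ y)) := by simp [mul_assoc]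
      rw [e, hfixZ γ _ (hα _)]
      exact hα _⟩
    have hAp : IsPGroup p A := isPGroup_of_coprime_eq_one fun α hα => by
      refine Subtype.ext (Subtype.ext (MulEquiv.ext fun y => ?_))
      exact eq_self_of_disp_fixed hPp _
        (by rw [Subgroup.orderOf_coe, Subgroup.orderOf_coe]; exact hα) (hfixZ α.1 _ (α.2 y))
    have hle : A.map (F.autGroup P).subtype ≤ Cfsg.Inn P :=
      (Subgroup.map_mono (CfsgLib.Solvable.le_pCore hAn hAp)).trans hc.2.2.le
    have hWP : W ≤ P := by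
      intro x hx
      have hxn : x ∈ normalizerIn S P := by
        have h1 : ∀ u ∈ W, ∀ y ∈ P, u * y * u⁻¹ ∈ P := fun u hu y hy => by
          simpa using P.mul_mem hy (hZP (hcomm u hu y (hPS hy)))
        refine ⟨hWS hx, Subgroup.mem_normalizer_iff.2 fun y => ⟨h1 x hx y, fun hy => ?_⟩⟩
        simpa [mul_assoc] using h1 x⁻¹ (W.inv_mem hx) _ hy
      exact mem_of_conjAut_mem_inn (centralizerIn_le_of_isCentric hc.1) hPS hxn.1 hxn.2
        (hle ⟨⟨conjAut P x hxn.2, autInducedBy_le_autGroup F hPS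
          (conjAut_mem_autInducedBy hxn.1 hxn.2)⟩, fun y => hcomm x hx y (hPS y.2), rfl⟩)
    refine ⟨hWP, fun α hα hord => ?_⟩
    have hfix : ∀ x : P, (x : Ω) ∈ W → α x = x := fun x hx =>
      eq_self_of_disp_fixed hPp α hord (hfixZ ⟨α, hα⟩ _
        (hdisp P _ ((mem_autGroup_iff_hom hPS).1 hα) x hx))
    refine ⟨hfix, fun y => ?_⟩
    have hK1 : ((α y * y⁻¹ : P) : Ω) ∈ K := by
      refine ⟨hPS (α y * y⁻¹).2, fun x hx => ?_⟩
      set X : P := ⟨x, hWP hx⟩
      have h1 : α (y⁻¹ * (X * y * X⁻¹)) = y⁻¹ * (X * y * X⁻¹) :=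
        hfixZ ⟨α, hα⟩ _ (hcomm x hx y (hPS y.2))
      rw [map_mul, map_mul, map_mul, map_inv, map_inv, hfix X hx] at h1
      have h2 : X * (α y * y⁻¹) = α y * y⁻¹ * X := by
        calc X * (α y * y⁻¹) = α y * ((α y)⁻¹ * (X * α y * X⁻¹)) * (X * y⁻¹) := by simp [mul_assoc]
          _ = α y * (y⁻¹ * (X * y * X⁻¹)) * (X * y⁻¹) := by rw [h1]
          _ = _ := by simp [mul_assoc]
      exact congrArg Subtype.val h2
    simpa [mul_assoc] using hKn (y : Ω)⁻¹ (S.inv_mem (hPS y.2)) _ hK1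
  -- every map is a conjugation modulo `K`
  set E₁ := modSystem F K hKn
  have hle₁ := alperin hS hF E₁ fun R hR α hα => by
    obtain ⟨-, hR'⟩ := hALP R hR
    have hn : F.IsFullyNormalized R := by
      rcases hR with rfl | hR
      exacts [isFullyNormalized_top F, hR.2.1]
    have hRS : R ≤ S := hn.1
    have : Finite R := finite_of_le hRS
    have : Finite (MulAut R) := finite_mulAut
    obtain ⟨-, T, hT⟩ := isFullyAutomized_of_isFullyNormalized hS hF hn
    let B : Subgroup (F.autGroup R) :=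
      (E₁.autGroup R).subgroupOf (F.autGroup R)
    have hTB : (T : Subgroup (F.autGroup R)) ≤ B := by
      intro t ht
      rw [hT] at ht
      exact autInducedBy_le_autGroup E₁ hRS ht
    have hPB : Cfsg.pResidual p (F.autGroup R) ≤ B := by
      refine (Subgroup.closure_le _).2 fun β hβ => ?_
      refine (mem_autGroup_iff_hom (F := E₁) hRS).2
        ⟨(mem_autGroup_iff_hom hRS).1 β.2, 1, S.one_mem, fun x => ?_⟩
      have := (hR' _ β.2 (by rw [Subgroup.orderOf_coe]; exact hβ)).2 x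
      simpa using this
    have htop := CfsgLib.Transfer.pResidual_sup_of_sylow T
    exact (htop ▸ sup_le hPB hTB : (⊤ : Subgroup (F.autGroup R)) ≤ B)
      (Subgroup.mem_top (⟨α, hα⟩ : F.autGroup R))
  -- so the hyperfocal subgroup centralizes `W`
  have hhyp : F.hyperfocalSubgroup p ≤ K := by
    refine (Subgroup.closure_le _).2 ?_
    rintro _ ⟨P, α, y, hP, hα, rfl⟩
    let B : Subgroup (F.autGroup P) :=
      { carrier := {β | ∀ y : P, (y : Ω)⁻¹ * ((β : MulAut P) y : P) ∈ K}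
        one_mem' := fun y => by simp
        mul_mem' := by
          intro β γ hβ hγ y
          have := K.mul_mem (hγ y) (hβ ((γ : MulAut P) y))
          simpa [mul_assoc] using this
        inv_mem' := by
          intro β hβ y
          have := K.inv_mem (hβ ((β : MulAut P)⁻¹ y))
          simpa [mul_assoc] using this }
    suffices hgen : Cfsg.pResidual p (F.autGroup P) ≤ B from hgen hα y
    refine (Subgroup.closure_le _).2 fun β hβ => ?_
    obtain ⟨-, s, hs, hsβ⟩ := hle₁ P ((mem_autGroup_iff_hom hP).1 β.2)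
    have hiter : ∀ (j : ℕ) (y : P),
        (s ^ j * (y : Ω) * (s ^ j)⁻¹)⁻¹ * (((β : MulAut P) ^ j) y : P) ∈ K := by
      intro j
      induction j with
      | zero => intro y; simp
      | succ j ih =>
        intro y
        have h1 := K.mul_mem (hKn s hs _ (ih y)) (hsβ (((β : MulAut P) ^ j) y))
        rw [pow_succ' (β : MulAut P), MulAut.mul_apply, pow_succ' s]
        simpa [mul_assoc] using h1
    let U : Subgroup S :=
      { carrier := {u | ∀ y : P, ((u : Ω) * y * (u : Ω)⁻¹)⁻¹ * y ∈ K}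
        one_mem' := fun y => by simp
        mul_mem' := by
          intro u v hu hv y
          have := K.mul_mem (hKn u u.2 _ (hv y)) (hu y)
          simpa [mul_assoc] using this
        inv_mem' := by
          intro u hu y
          have := hKn (u : Ω)⁻¹ (S.inv_mem u.2) _ (K.inv_mem (hu y))
          simpa [mul_assoc] using this }
    have hn : (⟨s, hs⟩ : S) ^ orderOf β ∈ U := fun y => by
      have := hiter (orderOf β) y
      rw [← Subgroup.coe_pow, pow_orderOf_eq_one] at this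
      simpa using this
    have hsU : (⟨s, hs⟩ : S) ∈ U := by
      obtain ⟨k, hk⟩ := hS ⟨s, hs⟩
      have hco : (orderOf β).Coprime (orderOf (⟨s, hs⟩ : S)) :=
        (Nat.Coprime.pow_right k hβ).coprime_dvd_right (orderOf_dvd_of_pow_eq_one hk)
      obtain ⟨m, hm⟩ := exists_pow_eq_self_of_coprime hco
      rw [← hm]
      exact U.pow_mem hn m
    intro y
    have := K.mul_mem (K.inv_mem (hsU y)) (hsβ y)
    simpa [mul_assoc] using this
  have hWc : ∀ s ∈ S, ∀ x ∈ W, s * x = x * s := fun s hs x hx =>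
    (Subgroup.mem_centralizer_iff.1 (hhyp (hperf.symm ▸ hs)).2 x hx).symm
  -- so `W` is central in `F`
  have hle₂ := alperin hS hF (fixSystem F W hWc hcl) fun R hR α hα => by
    obtain ⟨-, hR'⟩ := hALP R hR
    have hn : F.IsFullyNormalized R := by
      rcases hR with rfl | hR
      exacts [isFullyNormalized_top F, hR.2.1]
    have hRS : R ≤ S := hn.1
    have : Finite R := finite_of_le hRS
    have : Finite (MulAut R) := finite_mulAut
    obtain ⟨-, T, hT⟩ := isFullyAutomized_of_isFullyNormalized hS hF hn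
    let B : Subgroup (F.autGroup R) :=
      ((fixSystem F W hWc hcl).autGroup R).subgroupOf (F.autGroup R)
    have hTB : (T : Subgroup (F.autGroup R)) ≤ B := by
      intro t ht
      rw [hT] at ht
      exact autInducedBy_le_autGroup _ hRS ht
    have hPB : Cfsg.pResidual p (F.autGroup R) ≤ B := by
      refine (Subgroup.closure_le _).2 fun β hβ => ?_
      refine (mem_autGroup_iff_hom (F := fixSystem F W hWc hcl) hRS).2
        ⟨(mem_autGroup_iff_hom hRS).1 β.2, fun x hx => ?_⟩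
      exact congrArg Subtype.val ((hR' _ β.2 (by rw [Subgroup.orderOf_coe]; exact hβ)).1 x hx)
    have htop := CfsgLib.Transfer.pResidual_sup_of_sylow T
    exact (htop ▸ sup_le hPB hTB : (⊤ : Subgroup (F.autGroup R)) ≤ B)
      (Subgroup.mem_top (⟨α, hα⟩ : F.autGroup R))
  have hcentral : F.IsCentral W := by
    refine (isCentral_iff_forall_conjElt hS hF).2 ⟨hWS, fun x hx y ⟨φ, hφ, hφx⟩ => ?_⟩
    rw [← hφx]
    exact (hle₂ _ hφ).2 ⟨x, Subgroup.mem_zpowers x⟩ hx
  refine eq_bot_iff.2 fun c hc => ?_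
  obtain ⟨⟨x, hx⟩, rfl⟩ := QuotientGroup.mk'_surjective ((F.center).subgroupOf S) c
  rw [Subgroup.mem_bot]
  exact (hE.2.1 _).2 (CfsgLib.FusionQuot.le_center F hcentral
    (CfsgLib.FusionQuot.mem_preimageAlong.2 ⟨hx, hc⟩))

/-- An analogue of Grün's lemma for fusion systems. Let F be a saturated fusion system over a finite p-group S that is perfect in the sense that its hyperfocal subgroup is all of S (F coincides with its p-residual subsystem). Then the second centre of F equals its centre: every fusion system over S/(Z(F) ∩ S) that is the factor system of F modulo its centre Z(F), read through the quotient map, has trivial centre. -/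
theorem result {Ω : Type*} [Group Ω] {S : Subgroup Ω} [Finite S] (p : ℕ) [Fact p.Prime] (hS : IsPGroup p S) (F : Cfsg.FusionSystem S) (hF : F.IsSaturated p)
    (hperf : F.hyperfocalSubgroup p = S)
    (E : Cfsg.FusionSystem (⊤ : Subgroup (↥S ⧸ (F.center).subgroupOf S)))
    (hE : F.IsFactorSystem F.center (QuotientGroup.mk' ((F.center).subgroupOf S)) E) : E.center = ⊥ := by
  exact center_eq_bot hS hF hperf E hE

end Cfsg.Agent.S5315
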