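import Cfsg.Statements.S5316
import Cfsg.Agent.Lib.Fusion.EssentialRankThree
import Cfsg.Agent.Lib.Fusion.EssentialCube
import Cfsg.Agent.Lib.FusionMaxClass.CubeConfig
import Cfsg.Agent.Lib.FusionConstrained.Basic

set_option autoImplicit false
open Cfsg

namespace Cfsg.Agent.S5316

open Cfsg.FusionSystem CfsgLib.Fusion CfsgLib.Fusion.EssentialRankThree CfsgLib.FusionMaxClass CfsgLib.MaxClassUniform
open Cfsg.Agent.S3806 (MaxClass twoStep)
open scoped commutatorElement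

section Helpers

variable {Ω : Type*} [Group Ω] {S : Subgroup Ω} {p : ℕ} {F : Cfsg.FusionSystem S}

/-- A centric fully normalized elementary abelian subgroup of order `p ^ 3` with strongly embedded
subgroup in its automorphism group. -/
structure Cube (F : Cfsg.FusionSystem S) (p : ℕ) (E : Subgroup Ω) : Prop where
  centric : F.IsCentric E
  fn : F.IsFullyNormalized E
  card : Nat.card E = p ^ 3
  comm : ∀ a b : E, a * b = b * a
  exp : ∀ a : E, a ^ p = 1
  se : ∃ M : Subgroup (F.autGroup E), IsStronglyPEmbedded p M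

theorem se_map [Fact p.Prime] {X Y : Type*} [Group X] [Finite X] [Group Y] [Finite Y] (e : X ≃* Y)
    {M : Subgroup X} (hM : IsStronglyPEmbedded p M) :
    IsStronglyPEmbedded p (M.map e.toMonoidHom) := by
  refine CfsgLib.LocalEven.se_mk (fun h => hM.2.1 ?_) ?_ ?_
  · exact Subgroup.map_injective (f := e.toMonoidHom) e.injective
      (h.trans (Subgroup.map_top_of_surjective _ e.surjective).symm)
  · rw [Subgroup.card_map_of_injective e.injective]
    exact CfsgLib.LocalEven.se_dvd hM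
  · intro A hA hAp hne y hy
    obtain ⟨x, rfl⟩ := e.surjective y
    set A' := A.comap e.toMonoidHom with hA'
    have hA'M : A' ≤ M := fun a ha => by
      obtain ⟨b, hb, hbe⟩ := hA (show e a ∈ A from ha)
      exact e.injective hbe ▸ hb
    refine ⟨x, CfsgLib.Even.normalizer_le_of_stronglyPEmbedded hM ?_ hA'M ?_ ?_, rfl⟩
    · exact hAp.comap_of_injective _ e.injective
    · intro h0
      refine hne ?_
      rw [← Subgroup.map_comap_eq_self_of_surjective (f := e.toMonoidHom) e.surjective A, ← hA', h0,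
        Subgroup.map_bot]
    · rw [Subgroup.mem_normalizer_iff] at hy ⊢
      intro a
      show e a ∈ A ↔ e (x * a * x⁻¹) ∈ A
      rw [map_mul, map_mul, map_inv]
      exact hy (e a)

theorem cube_of_isEssential [Finite S] [Fact p.Prime] {E : Subgroup Ω} (hE : F.IsEssential p E)
    (hcard : Nat.card E = p ^ 3) (hel : Cfsg.IsElementaryAbelian p E) : Cube F p E := by
  obtain ⟨hc, hn, hI, M, hM⟩ := hE
  have : Finite E := finite_of_le hn.1
  have : Finite (MulAut E) := finite_mulAut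
  have hcomm : ∀ a b : E, a * b = b * a := fun a b => hel.1.1.comm a b
  have hexp : ∀ a : E, a ^ p = 1 := fun a => Subtype.ext (by simpa using hel.2 a a.2)
  have hbot : (Cfsg.Inn E).subgroupOf (F.autGroup E) = ⊥ := by
    rw [eq_bot_iff]
    rintro α ⟨a, ha⟩
    rw [Subgroup.mem_bot]
    refine Subtype.ext ?_
    show (α : MulAut E) = 1
    rw [show (α : MulAut E) = MulAut.conj a from ha.symm]
    exact MulEquiv.ext fun b => by simp [hcomm a b]
  exact ⟨hc, hn, hcard, hcomm, hexp, _,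
    se_map ((QuotientGroup.quotientMulEquivOfEq hbot).trans QuotientGroup.quotientBot) hM⟩

theorem Cube.transport [Finite S] [Fact p.Prime] {E Q : Subgroup Ω} (hE : Cube F p E) {e : E ≃* Q}
    (he : IsFIso F e) (hN : Nat.card (normalizerIn S E) ≤ Nat.card (normalizerIn S Q)) : Cube F p Q := by
  have : Finite E := finite_of_le hE.fn.1
  have : Finite Q := finite_of_le he.le_right
  have : Finite (MulAut E) := finite_mulAut
  have : Finite (MulAut Q) := finite_mulAut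
  refine ⟨isCentric_of_isConj hE.centric he.isConj, ⟨he.le_right, fun R hR =>
    (hE.fn.2 R (isConj_trans he.isConj hR)).trans hN⟩, ?_, fun a b => ?_, fun a => ?_, ?_⟩
  · rw [← Nat.card_congr e.toEquiv, hE.card]
  · obtain ⟨a, rfl⟩ := e.surjective a
    obtain ⟨b, rfl⟩ := e.surjective b
    rw [← map_mul, ← map_mul, hE.comm]
  · obtain ⟨a, rfl⟩ := e.surjective a
    rw [← map_pow, hE.exp, map_one]
  · obtain ⟨M, hM⟩ := hE.se
    exact ⟨_, se_map he.autEquiv hM⟩

/-- The structure of the normalizer of a cube. -/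
structure Data (F : Cfsg.FusionSystem S) (p : ℕ) (E : Subgroup Ω) (x e z c : Ω) : Prop where
  cardN : Nat.card (normalizerIn S E) = p ^ 4
  conj_le : ∀ Q, F.IsConj E Q → Nat.card (normalizerIn S Q) ≤ p ^ 4
  xN : x ∈ normalizerIn S E
  xE : x ∉ E
  eE : e ∈ E
  zE : z ∈ E
  cE : c ∈ E
  z1 : z ≠ 1
  cz : c ∉ Subgroup.zpowers z
  eA : e ∉ Subgroup.zpowers z ⊔ Subgroup.zpowers c
  cardA : Nat.card (Subgroup.zpowers z ⊔ Subgroup.zpowers c : Subgroup Ω) = p ^ 2
  xe : x * e * x⁻¹ = e * z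
  xz : x * z = z * x
  xc : x * c = c * x
  psi : ∃ ψ ∈ F.Hom (normalizerIn S E), ∀ g : normalizerIn S E,
    ψ g * (g : Ω)⁻¹ ∈ E ∧ ((g : Ω) = z → ψ g = z⁻¹) ∧ ((g : Ω) = c → ψ g = c) ∧ ((g : Ω) = e → ψ g = e⁻¹)

theorem card_zpow [Fact p.Prime] {E : Subgroup Ω} (hexp : ∀ a : E, a ^ p = 1) {y : Ω} (hy : y ∈ E)
    (hy1 : y ≠ 1) : Nat.card (Subgroup.zpowers y) = p := by
  rw [Nat.card_zpowers]
  exact orderOf_eq_prime (congrArg Subtype.val (hexp ⟨y, hy⟩)) hy1

set_option maxHeartbeats 1000000 in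
theorem Cube.exists_data [Finite S] [Fact p.Prime] (hS : IsPGroup p S) (hF : F.IsSaturated p)
    {E : Subgroup Ω} (hE : Cube F p E) (h5 : p ^ 5 ≤ Nat.card S) :
    ∃ x e z c, Data F p E x e z c := by
  have hp : p.Prime := Fact.out
  have hES : E ≤ S := hE.fn.1
  have : Finite E := finite_of_le hES
  have : Finite (MulAut E) := finite_mulAut
  set G := F.autGroup E with hG
  set U := autInducedBy S E with hU
  obtain ⟨-, T, hT⟩ := isFullyAutomized_of_isFullyNormalized hS hF hE.fn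
  obtain ⟨M₀, hM₀⟩ := hE.se
  obtain ⟨M, hMtop, hTM, hTne, hQ, hconj⟩ := exists_around T hM₀
  have hUG : U ≤ G := autInducedBy_le_autGroup F hES
  have hmemM : ∀ {a : MulAut E}, a ∈ M.map G.subtype → ∃ ha : a ∈ G, (⟨a, ha⟩ : G) ∈ M := by
    rintro _ ⟨b, hb, rfl⟩
    exact ⟨b.2, hb⟩
  have hTU : ∀ a : G, a ∈ (T : Subgroup G) ↔ (a : MulAut E) ∈ U := fun a => by rw [hT]; rfl
  have H : Around p G U (M.map G.subtype) := by
    refine ⟨hE.card, hE.comm, hE.exp, fun a ha => ⟨⟨a, hUG ha⟩, hTM ((hTU _).2 ha), rfl⟩,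
      Subgroup.map_subtype_le _, isPGroup_autInducedBy hS E, fun h => hTne ?_, ?_, ?_, ?_⟩
    · rw [eq_bot_iff]
      intro a ha
      have := (hTU a).1 ha
      rw [h, Subgroup.mem_bot] at this
      exact Subgroup.mem_bot.2 (Subtype.ext this)
    · obtain ⟨h, -, hh⟩ := SetLike.exists_of_lt (lt_top_iff_ne_top.2 hMtop)
      refine ⟨h, h.2, fun hc => hh ?_⟩
      obtain ⟨_, hm⟩ := hmemM hc
      exact hm
    · rintro Q hQG hQp ⟨a, haQ, haM, ha1⟩ y hy
      obtain ⟨haG, haM'⟩ := hmemM haM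
      exact ⟨⟨y, hQG hy⟩, hQ (Q.subgroupOf G) (IsPGroup.comap_subtype hQp)
        ⟨⟨a, haG⟩, haQ, haM', fun e => ha1 (congrArg Subtype.val e)⟩ hy, rfl⟩
    · intro h hh τ hτ hτ1 hm
      obtain ⟨hg, hm'⟩ := hmemM hm
      exact ⟨⟨h, hh⟩, hconj ⟨h, hh⟩ ⟨τ, hUG hτ⟩ ((hTU _).2 hτ)
        (fun e => hτ1 (congrArg Subtype.val e)) hm', rfl⟩
  have hUcard := H.card_eq
  set N := normalizerIn S E with hN
  have hEN : E ≤ N := le_normalizerIn hES
  have hCS := centralizerIn_le_of_isCentric hE.centric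
  have : Finite N := finite_of_le (normalizerIn_le S E)
  have hcardN : Nat.card N = p ^ 4 := by
    let f : N →* MulAut E := MonoidHom.mk' (fun g => conjAut E g g.2.2) fun g h =>
      MulEquiv.ext fun y => Subtype.ext (by
        rw [conjAut_apply, MulAut.mul_apply, conjAut_apply, conjAut_apply]
        simp [mul_assoc])
    have hker : f.ker = E.subgroupOf N := by
      ext g
      rw [MonoidHom.mem_ker, Subgroup.mem_subgroupOf]
      show conjAut E g g.2.2 = 1 ↔ _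
      rw [conjAut_eq_one_iff]
      exact ⟨fun h => hCS ⟨g.2.1, h⟩, fun h => Subgroup.mem_centralizer_iff.2 fun y hy =>
        congrArg Subtype.val (hE.comm ⟨y, hy⟩ ⟨g, h⟩)⟩
    have hran : f.range = U := by
      ext α
      constructor
      · rintro ⟨g, rfl⟩
        exact conjAut_mem_autInducedBy g.2.1 g.2.2
      · intro hα
        obtain ⟨g, hg, hgS, rfl⟩ := exists_eq_conjAut hα
        exact ⟨⟨g, hgS, hg⟩, rfl⟩
    have := f.ker.card_mul_index
    rw [Subgroup.index_ker, hran, hUcard, hker, Nat.card_congr (Subgroup.subgroupOfEquivOfLe hEN).toEquiv,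
      hE.card] at this
    rw [← this]; ring
  have hNlt : N < S := lt_of_le_of_ne (normalizerIn_le S E) fun e => by
    rw [← e, hcardN] at h5
    exact absurd ((Nat.pow_le_pow_iff_right hp.one_lt).1 h5) (by norm_num)
  obtain ⟨t, ⟨htS, htN⟩, ht⟩ := SetLike.exists_of_lt (lt_normalizerIn hS hNlt)
  set φ := (MulAut.conj t).toMonoidHom
  set E' := E.map φ with hE'
  have hE'N : E' ≤ N := by
    rintro _ ⟨y, hy, rfl⟩
    exact (Subgroup.mem_normalizer_iff.1 htN y).1 (hEN hy)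
  have hNE' : N ≤ Subgroup.normalizer (E' : Set Ω) := by
    refine Subgroup.le_normalizer_iff.2 fun g hg y hy => ?_
    obtain ⟨y, hy', rfl⟩ := hy
    have hg' : t⁻¹ * g * t ∈ N := by
      have := (Subgroup.mem_normalizer_iff.1 (inv_mem htN) g).1 hg
      rwa [inv_inv] at this
    refine ⟨_, (Subgroup.mem_normalizer_iff.1 hg'.2 y).1 hy', ?_⟩
    simp [φ, mul_assoc]
  have hE'card : Nat.card E' = p ^ 3 := by
    rw [hE', Subgroup.card_map_of_injective (MulAut.conj t).injective, hE.card]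
  have hEne : E' ≠ E := by
    intro e
    refine ht ⟨htS, ?_⟩
    refine Subgroup.mem_normalizer_iff.2 fun y => ?_
    constructor
    · exact fun hy => e.le ⟨y, hy, rfl⟩
    · intro hy
      obtain ⟨y', hy', he⟩ := e.ge hy
      exact (MulAut.conj t).injective he ▸ hy'
  set A := E ⊓ E' with hA
  have : Finite E' := finite_of_le (hE'N.trans (normalizerIn_le S E))
  have : Finite A := finite_of_le ((inf_le_left : A ≤ E).trans hES)
  have hcardA : Nat.card A = p ^ 2 := by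
    obtain ⟨k, hk⟩ := IsPGroup.iff_card.1 ((hS.to_le hES).to_le (inf_le_left : A ≤ E))
    have h1 : k ≤ 2 := by
      by_contra hh
      refine hEne (Subgroup.eq_of_le_of_card_ge (fun y hy => ?_) (by rw [hE.card, hE'card])).symm
      have hAE : A = E := Subgroup.eq_of_le_of_card_ge inf_le_left (by
        rw [hE.card, hk]; exact Nat.pow_le_pow_right hp.pos (by omega))
      exact (hAE.ge hy).2
    have hidx := Subgroup.index_inf_le (H := E.subgroupOf N) (K := E'.subgroupOf N)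
    have hi : ∀ K : Subgroup Ω, K ≤ N → Nat.card K = p ^ 3 → (K.subgroupOf N).index = p := fun K hK hKc => by
      have := (K.subgroupOf N).card_mul_index
      rw [Nat.card_congr (Subgroup.subgroupOfEquivOfLe hK).toEquiv, hKc, hcardN, pow_succ p 3] at this
      exact Nat.eq_of_mul_eq_mul_left (pow_pos hp.pos 3) this
    rw [hi E hEN hE.card, hi E' hE'N hE'card] at hidx
    have hAN : (E.subgroupOf N ⊓ E'.subgroupOf N) = A.subgroupOf N := rfl
    have hmul := (A.subgroupOf N).card_mul_index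
    rw [Nat.card_congr (Subgroup.subgroupOfEquivOfLe ((inf_le_left : A ≤ E).trans hEN)).toEquiv, hcardN, hk] at hmul
    rw [hAN] at hidx
    have : p ^ 4 ≤ p ^ k * (p * p) := hmul ▸ Nat.mul_le_mul_left _ hidx
    rw [← pow_two, ← pow_add, Nat.pow_le_pow_iff_right hp.one_lt] at this
    rw [hk, show k = 2 by omega]
  obtain ⟨x, hxE', hxE⟩ : ∃ x ∈ E', x ∉ E := by
    by_contra hh
    push Not at hh
    exact hEne (Subgroup.eq_of_le_of_card_ge hh (by rw [hE.card, hE'card]))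
  have hxN := hE'N hxE'
  set τ := conjAut E x hxN.2 with hτdef
  have hτU : τ ∈ U := conjAut_mem_autInducedBy hxN.1 hxN.2
  have hτ1 : τ ≠ 1 := fun h => hxE (hCS ⟨hxN.1, (conjAut_eq_one_iff _).1 h⟩)
  have hE'comm : ∀ a ∈ E', ∀ b ∈ E', a * b = b * a := by
    rintro _ ⟨a, ha, rfl⟩ _ ⟨b, hb, rfl⟩
    rw [← map_mul, ← map_mul]
    exact congrArg φ (congrArg Subtype.val (hE.comm ⟨a, ha⟩ ⟨b, hb⟩))
  set A₀ := A.subgroupOf E
  have hA₀ : Nat.card A₀ = p ^ 2 := by
    rw [Nat.card_congr (Subgroup.subgroupOfEquivOfLe inf_le_left).toEquiv, hcardA]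
  have hfix : ∀ a ∈ A₀, τ a = a := fun a ha => Subtype.ext (by
    rw [hτdef, conjAut_apply, hE'comm x hxE' a (Subgroup.mem_subgroupOf.1 ha).2, mul_inv_cancel_right])
  have hdisp : ∀ y : E, y⁻¹ * τ y ∈ A₀ := fun y => by
    refine Subgroup.mem_subgroupOf.2 ⟨(y⁻¹ * τ y).2, ?_⟩
    have hyN : (y : Ω) ∈ N := hEN y.2
    have h1 := (Subgroup.mem_normalizer_iff.1 (hNE' (inv_mem hyN)) x).1 hxE'
    have h2 := E'.mul_mem h1 (inv_mem hxE')
    simpa [hτdef, conjAut_apply, mul_assoc] using h2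
  obtain ⟨v, z, c, d, hv, hz, hz1, hzA, hcA, hcz, hdG, hdv, hdz, hdc, hdτ⟩ :=
    H.torus hτU hτ1 hA₀ hfix hdisp
  have hAeq : Subgroup.zpowers (z : Ω) ⊔ Subgroup.zpowers (c : Ω) = A := by
    have h1 := congrArg (Subgroup.map E.subtype) (H.gen_pair hA₀ hzA hcA hz1 hcz)
    rw [Subgroup.map_sup, MonoidHom.map_zpowers, MonoidHom.map_zpowers,
      Subgroup.map_subgroupOf_eq_of_le inf_le_left] at h1
    exact h1
  refine ⟨x, v, z, c, hcardN, fun Q hQ => (hE.fn.2 Q hQ).trans_eq hcardN, hxN, hxE, v.2, z.2, c.2,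
    fun h => hz1 (Subtype.ext h), ?_, ?_, hAeq ▸ hcardA, ?_,
    hE'comm x hxE' z (Subgroup.mem_subgroupOf.1 hzA).2, hE'comm x hxE' c (Subgroup.mem_subgroupOf.1 hcA).2, ?_⟩
  · intro hc
    obtain ⟨k, hk⟩ := Subgroup.mem_zpowers_iff.1 hc
    exact hcz ⟨k, Subtype.ext (by simpa using hk)⟩
  · rw [hAeq]
    exact fun h => hv (Subgroup.mem_subgroupOf.2 h)
  · have h1 : (z : Ω) = (v : Ω)⁻¹ * (x * v * x⁻¹) := congrArg Subtype.val hz
    rw [h1, mul_inv_cancel_left]
  · have hrec := isReceptive_of_isFullyNormalized hS hF hE.fn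
    have hd : IsFIso F (d : E ≃* E) := (mem_autGroup_iff hES).1 hdG
    have hcentral : ∀ g (hg : g ∈ N), MulAut.congr (d : E ≃* E) (conjAut E g hg.2) = conjAut E g hg.2 := by
      intro g hg
      have hzp : Subgroup.zpowers τ = U := by
        refine Subgroup.eq_of_le_of_card_ge (Subgroup.zpowers_le.2 hτU) ?_
        obtain ⟨k, hk⟩ := H.U_p ⟨τ, hτU⟩
        rw [hUcard, Nat.card_zpowers]
        have hdvd : orderOf τ ∣ Nat.card U := by
          rw [show orderOf τ = orderOf (⟨τ, hτU⟩ : U) from (Subgroup.orderOf_coe (⟨τ, hτU⟩ : U))]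
          exact orderOf_dvd_natCard _
        rw [hUcard] at hdvd
        rcases hp.eq_one_or_self_of_dvd _ hdvd with h | h
        · exact absurd (orderOf_eq_one_iff.1 h) hτ1
        · exact h.ge
      obtain ⟨i, hi⟩ := Subgroup.mem_zpowers_iff.1
        (hzp.ge (conjAut_mem_autInducedBy hg.1 hg.2) : conjAut E g hg.2 ∈ Subgroup.zpowers τ)
      have e : MulAut.congr (d : E ≃* E) (conjAut E g hg.2) = d * conjAut E g hg.2 * d⁻¹ :=
        MulEquiv.ext fun _ => rfl
      rw [e, ← hi, ((show Commute d τ from hdτ).zpow_right i).eq, mul_inv_cancel_right]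
    obtain ⟨ψ, hψ, hψN, hext⟩ := hd.exists_extension hrec hEN le_rfl fun g hg => by
      rw [hcentral g hg]; exact conjAut_mem_autInducedBy hg.1 hg.2
    have hat : ∀ (y : E) (g : N), (g : Ω) = y → ψ g = (d y : Ω) := fun y g hg => by
      rw [← hext y]; exact congrArg ψ (Subtype.ext hg)
    refine ⟨ψ, hψ, fun g => ⟨hCS ⟨S.mul_mem (map_mem hψ g) (S.inv_mem g.2.1), ?_⟩,
      fun h => ?_, fun h => ?_, fun h => ?_⟩⟩
    · refine Subgroup.mem_centralizer_iff.2 fun y hy => ?_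
      have h1 := congr_conjAut_of_extends hEN hext g.2 g.2.2 ⟨y, hy⟩
      rw [hcentral g g.2, conjAut_apply] at h1
      have hy' : (g : Ω)⁻¹ * y * g ∈ E := by
        have := (Subgroup.mem_normalizer_iff.1 (inv_mem g.2.2) y).1 hy
        rwa [inv_inv] at this
      have h2 := congr_conjAut_of_extends hEN hext g.2 g.2.2 ⟨_, hy'⟩
      rw [hcentral g g.2, conjAut_apply] at h2
      simp only [mul_assoc, mul_inv_cancel_left, mul_inv_cancel, mul_one] at h2
      calc y * (ψ g * (g : Ω)⁻¹) = ψ g * ((g : Ω)⁻¹ * (y * g)) * (ψ g)⁻¹ * (ψ g * (g : Ω)⁻¹) := by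
            conv_lhs => rw [h2]
            simp only [mul_assoc]; rfl
        _ = ψ g * (g : Ω)⁻¹ * y := by simp [mul_assoc]
    · rw [hat z g h, hdz]; rfl
    · rw [hat c g h, hdc]
    · rw [hat v g h, hdv]; rfl

variable {E : Subgroup Ω} {x e z c : Ω}

theorem Data.A_le (D : Data F p E x e z c) : Subgroup.zpowers z ⊔ Subgroup.zpowers c ≤ E :=
  sup_le (Subgroup.zpowers_le.2 D.zE) (Subgroup.zpowers_le.2 D.cE)

theorem Data.sup_e [Finite S] [Fact p.Prime] (D : Data F p E x e z c) (hE : Cube F p E) :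
    Subgroup.zpowers z ⊔ Subgroup.zpowers c ⊔ Subgroup.zpowers e = E := by
  have : Finite E := finite_of_le hE.fn.1
  refine Subgroup.eq_of_le_of_card_ge (sup_le D.A_le (Subgroup.zpowers_le.2 D.eE)) ?_
  have : Finite (Subgroup.zpowers z ⊔ Subgroup.zpowers c ⊔ Subgroup.zpowers e : Subgroup Ω) :=
    finite_of_le ((sup_le D.A_le (Subgroup.zpowers_le.2 D.eE)).trans hE.fn.1)
  have hlt : (Subgroup.zpowers z ⊔ Subgroup.zpowers c).subgroupOf E <
      (Subgroup.zpowers z ⊔ Subgroup.zpowers c ⊔ Subgroup.zpowers e).subgroupOf E :=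
    lt_of_le_of_ne (Subgroup.comap_mono le_sup_left) fun h => D.eA
      (h.ge (show (⟨e, D.eE⟩ : E) ∈ _ from Subgroup.mem_subgroupOf.2 (Subgroup.mem_sup_right (Subgroup.mem_zpowers e))))
  have h1 := CfsgLib.FusionMaxClass.mul_card_le hE.card hlt
  rw [Nat.card_congr (Subgroup.subgroupOfEquivOfLe D.A_le).toEquiv,
    Nat.card_congr (Subgroup.subgroupOfEquivOfLe (sup_le D.A_le (Subgroup.zpowers_le.2 D.eE))).toEquiv,
    D.cardA, ← pow_succ'] at h1
  rwa [hE.card]

theorem Data.sup_x [Finite S] [Fact p.Prime] (D : Data F p E x e z c) (hE : Cube F p E) :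
    E ⊔ Subgroup.zpowers x = normalizerIn S E := by
  have : Finite (normalizerIn S E) := finite_of_le (normalizerIn_le S E)
  have hle : E ⊔ Subgroup.zpowers x ≤ normalizerIn S E :=
    sup_le (le_normalizerIn hE.fn.1) (Subgroup.zpowers_le.2 D.xN)
  refine Subgroup.eq_of_le_of_card_ge hle ?_
  have hlt : E.subgroupOf (normalizerIn S E) < (E ⊔ Subgroup.zpowers x).subgroupOf (normalizerIn S E) :=
    lt_of_le_of_ne (Subgroup.comap_mono le_sup_left) fun h => D.xE
      (h.ge (show (⟨x, D.xN⟩ : normalizerIn S E) ∈ _ from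
        Subgroup.mem_subgroupOf.2 (Subgroup.mem_sup_right (Subgroup.mem_zpowers x))))
  have h1 := CfsgLib.FusionMaxClass.mul_card_le D.cardN hlt
  rw [Nat.card_congr (Subgroup.subgroupOfEquivOfLe (le_normalizerIn hE.fn.1)).toEquiv,
    Nat.card_congr (Subgroup.subgroupOfEquivOfLe hle).toEquiv, hE.card, ← pow_succ'] at h1
  rwa [D.cardN]

theorem Data.central [Finite S] [Fact p.Prime] (D : Data F p E x e z c) (hE : Cube F p E) {a : Ω}
    (ha : a ∈ Subgroup.zpowers z ⊔ Subgroup.zpowers c) {g : Ω} (hg : g ∈ normalizerIn S E) :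
    g * a = a * g := by
  have hA : Subgroup.zpowers z ⊔ Subgroup.zpowers c ≤ Subgroup.centralizer {x} :=
    sup_le (Subgroup.zpowers_le.2 (Subgroup.mem_centralizer_singleton_iff.2 D.xz.symm))
      (Subgroup.zpowers_le.2 (Subgroup.mem_centralizer_singleton_iff.2 D.xc.symm))
  have hle : E ⊔ Subgroup.zpowers x ≤ Subgroup.centralizer {a} := by
    refine sup_le (fun y hy => Subgroup.mem_centralizer_singleton_iff.2 ?_) (Subgroup.zpowers_le.2 ?_)
    · exact congrArg Subtype.val (hE.comm ⟨y, hy⟩ ⟨a, D.A_le ha⟩)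
    · exact Subgroup.mem_centralizer_singleton_iff.2 (Subgroup.mem_centralizer_singleton_iff.1 (hA ha)).symm
  exact Subgroup.mem_centralizer_singleton_iff.1 (hle ((D.sup_x hE).ge hg))

theorem Data.decomp [Finite S] [Fact p.Prime] (D : Data F p E x e z c) (hE : Cube F p E) {g : Ω}
    (hg : g ∈ normalizerIn S E) : ∃ w ∈ E, ∃ i : ℤ, g = w * x ^ i := by
  rw [← D.sup_x hE, ← SetLike.mem_coe, Subgroup.coe_mul_of_right_le_normalizer_left _ _ (Subgroup.zpowers_le.2 D.xN.2)] at hg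
  obtain ⟨w, hw, y, hy, rfl⟩ := hg
  obtain ⟨i, rfl⟩ := Subgroup.mem_zpowers_iff.1 hy
  exact ⟨w, hw, i, rfl⟩

/-- Elements of `E` outside the centre of the normalizer are self-centralizing. -/
theorem Data.cent [Finite S] [Fact p.Prime] (hS : IsPGroup p S) (D : Data F p E x e z c) (hE : Cube F p E)
    {w : Ω} (hw : w ∈ E) (hwA : w ∉ Subgroup.zpowers z ⊔ Subgroup.zpowers c) {g : Ω} (hg : g ∈ S)
    (hgw : g * w = w * g) : g ∈ E := by
  have hES := hE.fn.1
  set K := centralizerIn S (Subgroup.zpowers w) with hK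
  have : Finite K := finite_of_le (centralizerIn_le _ _)
  have hEK : E ≤ K := fun y hy => ⟨hES hy, Subgroup.mem_centralizer_iff.2 fun u hu => by
    obtain ⟨k, rfl⟩ := Subgroup.mem_zpowers_iff.1 hu
    exact ((show Commute w y from congrArg Subtype.val (hE.comm ⟨w, hw⟩ ⟨y, hy⟩)).zpow_left k).eq⟩
  have hgK : g ∈ K := ⟨hg, Subgroup.mem_centralizer_iff.2 fun u hu => by
    obtain ⟨k, rfl⟩ := Subgroup.mem_zpowers_iff.1 hu
    exact ((show Commute w g from hgw.symm).zpow_left k).eq⟩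
  by_contra hgE
  obtain ⟨y, hy, hyE⟩ := SetLike.exists_of_lt (lt_normalizerIn (isPGroup_of_le hS (centralizerIn_le S _))
    (lt_of_le_of_ne hEK fun h => hgE (h.ge hgK)))
  have hyN : y ∈ normalizerIn S E := ⟨hy.1.1, hy.2⟩
  obtain ⟨u, hu, i, rfl⟩ := D.decomp hE hyN
  refine hyE (E.mul_mem hu ?_)
  refine centralizerIn_le_of_isCentric hE.centric ⟨S.zpow_mem D.xN.1 i, ?_⟩
  have hxw : x ^ i * w = w * x ^ i := by
    have h1 : u * x ^ i * w = w * (u * x ^ i) :=
      (Subgroup.mem_centralizer_iff.1 hy.1.2 w (Subgroup.mem_zpowers w)).symm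
    have h2 : w * u = u * w := congrArg Subtype.val (hE.comm ⟨w, hw⟩ ⟨u, hu⟩)
    rw [← mul_assoc w, h2, mul_assoc, mul_assoc] at h1
    exact mul_left_cancel h1
  have hgen : E = Subgroup.zpowers z ⊔ Subgroup.zpowers c ⊔ Subgroup.zpowers w := by
    have : Finite E := finite_of_le hES
    refine (Subgroup.eq_of_le_of_card_ge (sup_le D.A_le (Subgroup.zpowers_le.2 hw)) ?_).symm
    have hlt : (Subgroup.zpowers z ⊔ Subgroup.zpowers c).subgroupOf E <
        (Subgroup.zpowers z ⊔ Subgroup.zpowers c ⊔ Subgroup.zpowers w).subgroupOf E :=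
      lt_of_le_of_ne (Subgroup.comap_mono le_sup_left) fun h => hwA
        (h.ge (show (⟨w, hw⟩ : E) ∈ _ from Subgroup.mem_subgroupOf.2 (Subgroup.mem_sup_right (Subgroup.mem_zpowers w))))
    have h1 := CfsgLib.FusionMaxClass.mul_card_le hE.card hlt
    rw [Nat.card_congr (Subgroup.subgroupOfEquivOfLe D.A_le).toEquiv,
      Nat.card_congr (Subgroup.subgroupOfEquivOfLe (sup_le D.A_le (Subgroup.zpowers_le.2 hw))).toEquiv,
      D.cardA, ← pow_succ'] at h1
    rwa [hE.card]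
  have hle : E ≤ Subgroup.centralizer {x ^ i} := by
    rw [hgen]
    refine sup_le (fun a ha => Subgroup.mem_centralizer_singleton_iff.2 ?_)
      (Subgroup.zpowers_le.2 (Subgroup.mem_centralizer_singleton_iff.2 hxw.symm))
    exact (D.central hE ha (zpow_mem D.xN i)).symm
  exact Subgroup.mem_centralizer_iff.2 fun a ha => Subgroup.mem_centralizer_singleton_iff.1 (hle ha)

local notation "LX" => Subgroup.lowerCentralSeries (⊤ : Subgroup S)

theorem mem_last_of_central [Fact p.Prime] [Finite S] {n : ℕ} (hm : MaxClass p n S) :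
    ∀ g : S, (∀ s : S, s * g = g * s) ↔ g ∈ LX (n - 2) := by
  intro g
  refine ⟨fun h => ?_, fun h s => ((last_le_center hm h s).eq).symm⟩
  have h3 := hm.three
  have hle : LX (n - 2) ≤ Subgroup.center S := fun w hw =>
    Subgroup.mem_center_iff.2 fun s => ((last_le_center hm hw s).eq).symm
  refine (Subgroup.eq_of_le_of_card_ge hle ?_).ge (Subgroup.mem_center_iff.2 h)
  rw [CfsgLib.FusionMaxClass.card_center hm.card hm.three hm.ne, hm.card_layer (by omega) (by omega),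
    show n - 1 - (n - 2) = 1 by omega, pow_one]

theorem mem_normalizer_sub (hES : E ≤ S) {g : S} :
    g ∈ Subgroup.normalizer (E.subgroupOf S : Set S) ↔ (g : Ω) ∈ normalizerIn S E := by
  rw [mem_normalizerIn, Subgroup.mem_normalizer_iff, Subgroup.mem_normalizer_iff]
  refine ⟨fun h => ⟨g.2, fun y => ⟨fun hy => (h ⟨y, hES hy⟩).1 hy, fun hy => ?_⟩⟩,
    fun h y => h.2 y⟩
  have hyS : y ∈ S := by
    have := S.mul_mem (S.mul_mem (S.inv_mem g.2) (hES hy)) g.2
    simpa [mul_assoc] using this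
  exact (h ⟨y, hyS⟩).2 hy

theorem mem_sub_A {z c : S} {w : S} :
    w ∈ Subgroup.zpowers z ⊔ Subgroup.zpowers c ↔
      (w : Ω) ∈ Subgroup.zpowers (z : Ω) ⊔ Subgroup.zpowers (c : Ω) := by
  have h : (Subgroup.zpowers z ⊔ Subgroup.zpowers c).map S.subtype =
      Subgroup.zpowers (z : Ω) ⊔ Subgroup.zpowers (c : Ω) := by
    rw [Subgroup.map_sup, MonoidHom.map_zpowers, MonoidHom.map_zpowers]
    rfl
  rw [← h]
  exact (Subgroup.mem_map_iff_mem S.subtype_injective).symm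

theorem mem_sub_A' {z c : Ω} (hz : z ∈ S) (hc : c ∈ S) {w : S}
    (h : w ∈ Subgroup.zpowers (⟨z, hz⟩ : S) ⊔ Subgroup.zpowers (⟨c, hc⟩ : S)) :
    (w : Ω) ∈ Subgroup.zpowers z ⊔ Subgroup.zpowers c :=
  (mem_sub_A (z := (⟨z, hz⟩ : S)) (c := (⟨c, hc⟩ : S))).1 h

set_option maxHeartbeats 1000000 in
theorem Data.cfg [Finite S] [Fact p.Prime] (hS : IsPGroup p S) (D : Data F p E x e z c) (hE : Cube F p E)
    {n : ℕ} (hm : MaxClass p n S) (h5 : 5 ≤ n) :
    CubeConfig p n (E.subgroupOf S) ⟨x, D.xN.1⟩ ⟨e, hE.fn.1 D.eE⟩ ⟨z, hE.fn.1 D.zE⟩ ⟨c, hE.fn.1 D.cE⟩ where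
  mc := hm
  five := h5
  cardE := by rw [Nat.card_congr (Subgroup.subgroupOfEquivOfLe hE.fn.1).toEquiv, hE.card]
  comm a ha b hb := Subtype.ext
    (show (a : Ω) * b = b * a from congrArg Subtype.val (hE.comm ⟨a, ha⟩ ⟨b, hb⟩))
  exp a ha := Subtype.ext (by simpa using congrArg Subtype.val (hE.exp ⟨a, ha⟩))
  cen g hg := centralizerIn_le_of_isCentric hE.centric ⟨g.2, fun y hy =>
    congrArg Subtype.val (hg ⟨y, hE.fn.1 hy⟩)⟩
  cardN := by
    rw [← D.cardN]
    exact Nat.card_congr ⟨fun g => ⟨(g.1 : Ω), (mem_normalizer_sub hE.fn.1).1 g.2⟩,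
      fun g => ⟨⟨g.1, g.2.1⟩, (mem_normalizer_sub hE.fn.1).2 g.2⟩, fun _ => rfl, fun _ => rfl⟩
  cardA := by
    have h : (Subgroup.zpowers (⟨z, hE.fn.1 D.zE⟩ : S) ⊔ Subgroup.zpowers ⟨c, hE.fn.1 D.cE⟩).map S.subtype =
        Subgroup.zpowers z ⊔ Subgroup.zpowers c := by
      rw [Subgroup.map_sup, MonoidHom.map_zpowers, MonoidHom.map_zpowers]
      rfl
    rw [← Subgroup.card_map_of_injective (f := S.subtype) S.subtype_injective, h, D.cardA]
  xN := (mem_normalizer_sub hE.fn.1).2 D.xN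
  xE := D.xE
  eE := D.eE
  zE := D.zE
  cE := D.cE
  z1 h := D.z1 (congrArg Subtype.val h)
  cz h := by
    obtain ⟨k, hk⟩ := Subgroup.mem_zpowers_iff.1 h
    exact D.cz ⟨k, by simpa using congrArg Subtype.val hk⟩
  eA h := D.eA (mem_sub_A' (hE.fn.1 D.zE) (hE.fn.1 D.cE) h)
  xe := Subtype.ext D.xe
  decomp g hg := by
    obtain ⟨w, hw, i, hi⟩ := D.decomp hE ((mem_normalizer_sub hE.fn.1).1 hg)
    exact ⟨⟨w, hE.fn.1 hw⟩, hw, i, Subtype.ext hi⟩
  central a ha g hg := Subtype.ext (D.central hE (a := (a : Ω)) (mem_sub_A' (hE.fn.1 D.zE) (hE.fn.1 D.cE) ha)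
    (g := (g : Ω)) ((mem_normalizer_sub hE.fn.1).1 hg))
  cent w hw hwA g hg := D.cent hS hE hw (fun h => hwA (mem_sub_A.2 h)) g.2 (congrArg Subtype.val hg)

theorem iff_of_forall {G : Type*} [Group G] [Finite G] {M : Subgroup G} {α : MulAut G}
    (h : ∀ a ∈ M, α a ∈ M) (a : G) : a ∈ M ↔ α a ∈ M := by
  refine ⟨h a, fun ha => ?_⟩
  have e : M.map α.toMonoidHom = M := Subgroup.eq_of_le_of_card_ge
    (by rintro _ ⟨b, hb, rfl⟩; exact h b hb) (by rw [Subgroup.card_map_of_injective α.injective])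
  obtain ⟨b, hb, he⟩ := e.ge ha
  exact α.injective he ▸ hb

set_option maxHeartbeats 2000000 in
/-- A cube whose normalizer has its transvection centre or fixed line in the centre is impossible. -/
theorem Data.false_of_line [Finite S] [Fact p.Prime] (hp : 5 ≤ p) (hS : IsPGroup p S) (hF : F.IsSaturated p)
    {n : ℕ} (hm : MaxClass p n S) (h5 : 5 ≤ n) (hE : Cube F p E) (D : Data F p E x e z c)
    (hred : LX (n - 3) ≤ E.subgroupOf S →
      (⟨z, hE.fn.1 D.zE⟩ : S) ∈ LX (n - 2) ∨ (⟨c, hE.fn.1 D.cE⟩ : S) ∈ LX (n - 2)) : False := by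
  have hpp : p.Prime := Fact.out
  have hES : E ≤ S := hE.fn.1
  have C := D.cfg hS hE hm h5
  set zX : S := ⟨z, hES D.zE⟩ with hzX
  set cX : S := ⟨c, hES D.cE⟩ with hcX
  set N := normalizerIn S E with hN
  obtain ⟨ψ, hψ, hψD⟩ := D.psi
  have hEN : E ≤ N := le_normalizerIn hES
  have hψN : ∀ g : N, ψ g ∈ N := fun g => by
    have := N.mul_mem (hEN (hψD g).1) g.2
    rwa [inv_mul_cancel_right] at this
  set B := (LX (n - 4)).map S.subtype with hBdef
  have hBS : B ≤ S := Subgroup.map_subtype_le _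
  have hmemB : ∀ {b : Ω}, b ∈ B ↔ ∃ hb : b ∈ S, (⟨b, hb⟩ : S) ∈ LX (n - 4) := by
    intro b
    constructor
    · rintro ⟨b', hb', rfl⟩
      exact ⟨b'.2, hb'⟩
    · rintro ⟨hb, h⟩
      exact ⟨_, h, rfl⟩
  have hBN : B ≤ N := fun b hb => by
    obtain ⟨hbS, h⟩ := hmemB.1 hb
    exact (mem_normalizer_sub hES).1 (C.position.2.2 h)
  have hzB : z ∈ B := hmemB.2 ⟨hES D.zE, C.A_le_third (Subgroup.mem_sup_left (Subgroup.mem_zpowers _))⟩
  have hcB : c ∈ B := hmemB.2 ⟨hES D.cE, C.A_le_third (Subgroup.mem_sup_right (Subgroup.mem_zpowers _))⟩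
  have : Finite B := finite_of_le hBS
  have : Finite (MulAut B) := finite_mulAut
  have hBcard : Nat.card B = p ^ 3 := by
    rw [hBdef, Subgroup.card_map_of_injective S.subtype_injective, hm.card_layer (by omega) (by omega),
      show n - 1 - (n - 4) = 3 by omega]
  have hnormB : normalizerIn S B = S := by
    refine le_antisymm (normalizerIn_le S B) fun g hg => ⟨hg, Subgroup.le_normalizer_iff.2 ?_ hg⟩
    intro g hg y hy
    obtain ⟨hyS, h⟩ := hmemB.1 hy
    exact hmemB.2 ⟨S.mul_mem (S.mul_mem hg hyS) (S.inv_mem hg),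
      (lcsNormal (n - 4)).conj_mem _ h ⟨g, hg⟩⟩
  have hSn : Nat.card S = p ^ n := hm.card
  have hfnB : F.IsFullyNormalized B := ⟨hBS, fun Q hQ => by
    rw [hnormB]
    exact Nat.card_le_card_of_injective _ (Subgroup.inclusion_injective (normalizerIn_le S Q))⟩
  -- the image of the layer
  have hφ : ψ.comp (Subgroup.inclusion hBN) ∈ F.Hom B := restrict_mem hψ hBN
  set K := (ψ.comp (Subgroup.inclusion hBN)).range with hKdef
  have hKS : K ≤ S := range_le hφ
  have hKB : K = B := by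
    by_contra hne
    have hK' : K.subgroupOf S ≠ LX (n - 4) := fun h => hne (by
      rw [hBdef, ← h, Subgroup.map_subgroupOf_eq_of_le hKS])
    have o1 : K.subgroupOf S ≤ Subgroup.normalizer (E.subgroupOf S : Set S) := by
      intro y hy
      obtain ⟨b, hb⟩ := (show (y : Ω) ∈ K from hy)
      exact (mem_normalizer_sub hES).2 (hb ▸ hψN _)
    have o2 : Nat.card (K.subgroupOf S) = p ^ 3 := by
      rw [Nat.card_congr (Subgroup.subgroupOfEquivOfLe hKS).toEquiv, hKdef,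
        ← Nat.card_congr (MonoidHom.ofInjective (hom_inj hφ)).toEquiv, hBcard]
    have o3 : Subgroup.zpowers zX ⊔ Subgroup.zpowers cX ≤ K.subgroupOf S := by
      refine sup_le (Subgroup.zpowers_le.2 ?_) (Subgroup.zpowers_le.2 ?_)
      · have h1 : ψ ⟨z, hBN hzB⟩ = z⁻¹ := (hψD _).2.1 rfl
        have : z⁻¹ ∈ K := ⟨⟨z, hzB⟩, h1⟩
        exact (inv_mem_iff).1 this
      · exact ⟨⟨c, hcB⟩, (hψD _).2.2.1 rfl⟩
    obtain ⟨g, hg⟩ := C.orbit o1 o2 o3 hK'
    · have hconjK : F.IsConj E K := by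
        refine ⟨conjHom E (g : Ω), F.conj_mem hES g.2, ?_⟩
        ext y
        constructor
        · rintro ⟨w, rfl⟩
          have := hg.ge ⟨⟨w, hES w.2⟩, w.2, rfl⟩
          exact this
        · intro hy
          obtain ⟨w, hw, he⟩ := hg.le (show (⟨y, hKS hy⟩ : S) ∈ K.subgroupOf S from hy)
          exact ⟨⟨w, hw⟩, congrArg Subtype.val he⟩
      have h1 := D.conj_le B (isConj_trans hconjK (isConj_symm ⟨_, hφ, rfl⟩))
      rw [hnormB, hSn, Nat.pow_le_pow_iff_right hpp.one_lt] at h1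
      omega
  obtain ⟨α₀, hα₀G, hα₀⟩ := exists_aut hφ hKB
  -- displacements of the automorphism
  set A := Subgroup.zpowers z ⊔ Subgroup.zpowers c with hA
  set zB : B := ⟨z, hzB⟩ with hzBdef
  set cB : B := ⟨c, hcB⟩ with hcBdef
  have hα₀z : α₀ zB = zB⁻¹ := Subtype.ext ((hα₀ _).trans ((hψD _).2.1 rfl))
  have hα₀c : α₀ cB = cB := Subtype.ext ((hα₀ _).trans ((hψD _).2.2.1 rfl))
  have hcentA : ∀ a ∈ A, ∀ b : B, (b : Ω) * a = a * b := fun a ha b => D.central hE ha (hBN b.2)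
  have hd₀ : ∀ b : B, ((b⁻¹ * α₀ b : B) : Ω) ∈ A := by
    intro b
    have h1 : ((α₀ b : B) : Ω) * (b : Ω)⁻¹ ∈ E := by rw [hα₀]; exact (hψD _).1
    obtain ⟨hS', hX⟩ := hmemB.1 (B.mul_mem (α₀ b).2 (B.inv_mem b.2))
    have h2 := mem_sub_A.1 (C.inter_one (w := ⟨_, hS'⟩) h1
      (Subgroup.lowerCentralSeries_antitone _ (by omega : 1 ≤ n - 4) hX))
    have h3 := hcentA _ h2 b
    have h4 : (b : Ω)⁻¹ * (α₀ b : B) = ((α₀ b : B) : Ω) * (b : Ω)⁻¹ := by
      calc (b : Ω)⁻¹ * (α₀ b : B) = (b : Ω)⁻¹ * (((α₀ b : B) : Ω) * (b : Ω)⁻¹ * b) := by group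
        _ = (b : Ω)⁻¹ * (b * (((α₀ b : B) : Ω) * (b : Ω)⁻¹)) := by rw [h3]
        _ = _ := by group
    show (b : Ω)⁻¹ * (α₀ b : B) ∈ A
    rw [h4]
    exact h2
  have hdk : ∀ (k : ℕ) (b : B), ((b⁻¹ * (α₀ ^ k) b : B) : Ω) ∈ A := by
    intro k b
    induction k with
    | zero => simp [one_mem]
    | succ k ih =>
      have := A.mul_mem ih (hd₀ ((α₀ ^ k) b))
      rw [pow_succ', MulAut.mul_apply]
      simpa [mul_assoc] using this
  set α := α₀ ^ p with hαdef
  have hαG : α ∈ F.autGroup B := pow_mem hα₀G p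
  obtain ⟨m, hm2⟩ := hpp.odd_of_ne_two (by omega)
  have hfix : ∀ {b : B}, α₀ (α₀ b) = b → α b = α₀ b := by
    intro b hb
    have h2 : ∀ i : ℕ, (α₀ ^ (2 * i)) b = b := by
      intro i
      induction i with
      | zero => simp
      | succ i ih => rw [mul_add, mul_one, pow_succ', pow_succ', MulAut.mul_apply, MulAut.mul_apply, ih, hb]
    rw [hαdef, hm2, pow_succ', MulAut.mul_apply, h2]
  have hαz : α zB = zB⁻¹ := by rw [hfix (by rw [hα₀z, map_inv, hα₀z, inv_inv]), hα₀z]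
  have hαc : α cB = cB := by rw [hfix (by rw [hα₀c, hα₀c]), hα₀c]
  set Z1 := ((LX (n - 2)).map S.subtype).subgroupOf B with hZ1
  set Z2 := ((LX (n - 3)).map S.subtype).subgroupOf B with hZ2
  have hmem1 : ∀ {b : B} (i : ℕ), b ∈ ((LX i).map S.subtype).subgroupOf B ↔
      (⟨b, hBS b.2⟩ : S) ∈ LX i := by
    intro b i
    rw [Subgroup.mem_subgroupOf]
    exact ⟨by rintro ⟨y, hy, he⟩; rwa [show (⟨b, hBS b.2⟩ : S) = y from Subtype.ext he.symm],
      fun h => ⟨_, h, rfl⟩⟩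
  -- the centre is invariant
  have hline : zB ∈ Z1 ∨ cB ∈ Z1 := by
    by_cases h2 : LX (n - 3) ≤ E.subgroupOf S
    · exact (hred h2).imp (hmem1 _).2 (hmem1 _).2
    · exact Or.inl ((hmem1 _).2 (C.z_mem_last h2))
  have hZ1c : Nat.card Z1 = p := by
    rw [Nat.card_congr (Subgroup.subgroupOfEquivOfLe
      (Subgroup.map_mono (Subgroup.lowerCentralSeries_antitone _ (by omega)))).toEquiv,
      Subgroup.card_map_of_injective S.subtype_injective, hm.card_layer (by omega) (by omega),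
      show n - 1 - (n - 2) = 1 by omega, pow_one]
  have hgen : ∀ {w : B}, w ∈ Z1 → w ≠ 1 → Subgroup.zpowers w = Z1 := by
    intro w hw hw1
    refine Subgroup.eq_of_le_of_card_ge (Subgroup.zpowers_le.2 hw) ?_
    rw [hZ1c, Nat.card_zpowers]
    have hdvd : orderOf w ∣ p := by
      have := orderOf_dvd_natCard (⟨w, hw⟩ : Z1)
      rwa [hZ1c, Subgroup.orderOf_mk] at this
    rcases hpp.eq_one_or_self_of_dvd _ hdvd with h | h
    · exact absurd (orderOf_eq_one_iff.1 h) hw1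
    · exact h.ge
  have hα₀Z1 : ∀ w ∈ Z1, α₀ w ∈ Z1 := by
    intro w hw
    rcases hline with h | h
    · obtain ⟨i, rfl⟩ := Subgroup.mem_zpowers_iff.1
        ((hgen h fun e' => D.z1 (congrArg Subtype.val e')).ge hw)
      rw [map_zpow, hα₀z]
      exact zpow_mem (inv_mem h) i
    · obtain ⟨i, rfl⟩ := Subgroup.mem_zpowers_iff.1
        ((hgen h fun e' => D.cz (by rw [show c = 1 from congrArg Subtype.val e']; exact one_mem _)).ge hw)
      rw [map_zpow, hα₀c]
      exact zpow_mem h i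
  have hαZ1 : ∀ w ∈ Z1, α w ∈ Z1 := by
    have : ∀ (k : ℕ), ∀ w ∈ Z1, (α₀ ^ k) w ∈ Z1 := by
      intro k
      induction k with
      | zero => simp
      | succ k ih => intro w hw; rw [pow_succ', MulAut.mul_apply]; exact hα₀Z1 _ (ih w hw)
    exact this p
  have hdA : ∀ b : B, (⟨((b⁻¹ * α b : B) : Ω), hBS (b⁻¹ * α b).2⟩ : S) ∈
      Subgroup.zpowers zX ⊔ Subgroup.zpowers cX := fun b => mem_sub_A.2 (hdk p b)
  have hfirst : ¬ LX (n - 3) ≤ E.subgroupOf S → ∀ b : B, b⁻¹ * α b ∈ Z1 := by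
    intro h2 b
    have hz1 : zB ∈ Z1 := (hmem1 _).2 (C.z_mem_last h2)
    set a := b⁻¹ * α₀ b with hadef
    have haA : ∀ b' : B, a * b' = b' * a := fun b' => Subtype.ext (hcentA _ (hd₀ b) b').symm
    have ha1 : a⁻¹ * α₀ a ∈ Z1 := by
      obtain ⟨i, j, hij⟩ := C.exists_A (a := ⟨(a : Ω), hBS a.2⟩) (mem_sub_A.2 (hd₀ b))
      have he : a = zB ^ i * cB ^ j := Subtype.ext (by simpa [zX, cX, zB, cB] using congrArg Subtype.val hij)
      rw [he, map_mul, map_zpow, map_zpow, hα₀z, hα₀c]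
      have hc' : Commute (cB ^ j) (zB ^ (-(i + i))) := by
        refine Commute.zpow_zpow (Subtype.ext ?_) j _
        exact hcentA z (Subgroup.mem_sup_left (Subgroup.mem_zpowers z)) cB
      rw [show (zB ^ i * cB ^ j)⁻¹ * (zB⁻¹ ^ i * cB ^ j) = (cB ^ j)⁻¹ * (zB ^ (-(i + i)) * cB ^ j) by group,
        ← hc'.eq, inv_mul_cancel_left]
      exact zpow_mem hz1 _
    have hind : ∀ k : ℕ, (b * a ^ k)⁻¹ * (α₀ ^ k) b ∈ Z1 := by
      intro k
      induction k with
      | zero => simp [one_mem]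
      | succ k ih =>
        set ζ := (b * a ^ k)⁻¹ * (α₀ ^ k) b with hζ
        have h1 : (α₀ ^ (k + 1)) b = b * a * (a * (a⁻¹ * α₀ a)) ^ k * α₀ ζ := by
          rw [pow_succ', MulAut.mul_apply, show (α₀ ^ k) b = b * a ^ k * ζ by rw [hζ, mul_inv_cancel_left],
            map_mul, map_mul, map_pow, show α₀ b = b * a by rw [hadef, mul_inv_cancel_left],
            mul_inv_cancel_left a (α₀ a)]
        rw [h1, (show Commute a (a⁻¹ * α₀ a) from haA _).mul_pow,
          show (b * a ^ (k + 1))⁻¹ * (b * a * (a ^ k * (a⁻¹ * α₀ a) ^ k) * α₀ ζ) =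
            (a⁻¹ * α₀ a) ^ k * α₀ ζ by rw [pow_succ']; group]
        exact mul_mem (pow_mem ha1 k) (hα₀Z1 _ ih)
    have := hind p
    rwa [show a ^ p = 1 from Subtype.ext (by
      simpa using congrArg Subtype.val (hE.exp ⟨(a : Ω), D.A_le (hd₀ b)⟩)), mul_one] at this
  have hαZ2 : ∀ w ∈ Z2, α w ∈ Z2 := by
    intro w hw
    have h1 : w⁻¹ * α w ∈ Z2 := by
      rw [hmem1]
      by_cases h2 : LX (n - 3) ≤ E.subgroupOf S
      · exact (C.second_eq h2).ge (hdA w)
      · exact Subgroup.lowerCentralSeries_antitone _ (by omega) ((hmem1 _).1 (hfirst h2 w))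
    simpa using mul_mem hw h1
  -- the automorphism normalises the automorphisms induced by `S`
  set G := F.autGroup B with hG
  obtain ⟨-, T, hT⟩ := isFullyAutomized_of_isFullyNormalized hS hF hfnB
  have hUser : autInducedBy S B ≤ EssentialCube.serStab Z1 Z2 := by
    intro u hu
    obtain ⟨g, hgn, hgS, rfl⟩ := exists_eq_conjAut hu
    have hcoe : ∀ b : B, (⟨((b⁻¹ * conjAut B g hgn b : B) : Ω), hBS (b⁻¹ * conjAut B g hgn b).2⟩ : S) =
        ⁅(⟨b, hBS b.2⟩ : S)⁻¹, ⟨g, hgS⟩⁆ := fun b => Subtype.ext (by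
      simp [conjAut_apply, commutatorElement_def, mul_assoc])
    refine ⟨fun b hb => Subtype.ext ?_, fun b hb => ?_, fun b => ?_, fun b hb => ?_⟩
    · have := congrArg Subtype.val ((mem_last_of_central hm _).2 ((hmem1 _).1 hb) ⟨g, hgS⟩)
      rw [conjAut_apply, show g * (b : Ω) = (b : Ω) * g from this, mul_inv_cancel_right]
    · rw [hmem1, hcoe, show n - 2 = n - 3 + 1 by omega]
      exact comm_mem_succ (inv_mem ((hmem1 _).1 hb)) _
    · rw [hmem1, hcoe, show n - 3 = n - 4 + 1 by omega]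
      obtain ⟨hbS, h⟩ := hmemB.1 b.2
      exact comm_mem_succ (inv_mem h) _
    · rw [hmem1]
      have : ((conjAut B g hgn)⁻¹ b : Ω) = g⁻¹ * b * g := by
        have h1 := congrArg Subtype.val (MulAut.apply_inv_self B (conjAut B g hgn) b)
        rw [conjAut_apply] at h1
        rw [← h1]; group
      have := (lcsNormal (n - 3)).conj_mem _ ((hmem1 _).1 hb) (⟨g, hgS⟩ : S)⁻¹
      convert this using 1
      exact Subtype.ext (by rw [‹((conjAut B g hgn)⁻¹ b : Ω) = g⁻¹ * b * g›]; simp [mul_assoc])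
  have hTK : (T : Subgroup G) = (EssentialCube.serStab Z1 Z2).subgroupOf G := by
    refine (T.is_maximal' (IsPGroup.comap_subtype (EssentialCube.isPGroup_serStab
      (isPGroup_of_le hS hBS) Z1 Z2)) ?_).symm
    rw [hT]
    exact Subgroup.comap_mono hUser
  have hnormU : ∀ u ∈ autInducedBy S B, α * u * α⁻¹ ∈ autInducedBy S B := by
    intro u hu
    have h1 := EssentialCube.serStab_normalized (iff_of_forall hαZ1) (iff_of_forall hαZ2) (hUser hu)
    have hm' : α * u * α⁻¹ ∈ G := G.mul_mem (G.mul_mem hαG (autInducedBy_le_autGroup F hBS hu)) (G.inv_mem hαG)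
    have h2 : (⟨α * u * α⁻¹, hm'⟩ : G) ∈ (T : Subgroup G) := hTK.ge h1
    rw [hT] at h2
    exact h2
  -- extension to the whole group
  obtain ⟨χ, hχ, -, hext⟩ := ((mem_autGroup_iff hBS).1 hαG).exists_extension
    (isReceptive_of_isFullyNormalized hS hF hfnB) hBS (le_of_eq hnormB.symm) fun g hg => by
      have : MulAut.congr (α : B ≃* B) (conjAut B g (hnormB.ge hg).2) = α * conjAut B g (hnormB.ge hg).2 * α⁻¹ :=
        MulEquiv.ext fun _ => rfl
      rw [this]
      exact hnormU _ (conjAut_mem_autInducedBy hg _)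
  obtain ⟨β, -, hβ⟩ := exists_aut hχ (range_eq_of_le (hom_inj hχ) (map_mem hχ))
  have hβB : ∀ b : B, β ⟨b, hBS b.2⟩ = ⟨(α b : Ω), hBS (α b).2⟩ := fun b =>
    Subtype.ext ((hβ _).trans (hext b))
  have hβz : β zX = zX⁻¹ := by
    rw [show zX = ⟨(zB : Ω), hBS zB.2⟩ from rfl, hβB, hαz]; rfl
  have hβc : β cX = cX := by
    rw [show cX = ⟨(cB : Ω), hBS cB.2⟩ from rfl, hβB, hαc]
  have hdisp : ∀ b : S, ∀ hb : b ∈ LX (n - 4),
      b⁻¹ * β b = ⟨(((⟨b, hmemB.2 ⟨b.2, hb⟩⟩ : B)⁻¹ * α ⟨b, hmemB.2 ⟨b.2, hb⟩⟩ : B) : Ω),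
        hBS (Subtype.mem _)⟩ := fun b hb =>
    (congrArg (b⁻¹ * ·) (hβB ⟨b, hmemB.2 ⟨b.2, hb⟩⟩)).trans (Subtype.ext rfl)
  by_cases h2 : LX (n - 3) ≤ E.subgroupOf S
  · exact C.false_of_second hp β hβz hβc h2 (hred h2) fun b hb => by
      rw [hdisp b hb]; exact hdA _
  · exact C.false_of_first hp β hβz hβc h2 fun b hb => by
      rw [hdisp b hb]; exact (hmem1 _).1 (hfirst h2 _)

set_option maxHeartbeats 2000000 in
/-- Moving the transvection centre into the centre of the group. -/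
theorem Data.exists_line [Finite S] [Fact p.Prime] (hp : 5 ≤ p) (hS : IsPGroup p S) (hF : F.IsSaturated p)
    {n : ℕ} (hm : MaxClass p n S) (h5 : 5 ≤ n) (hE : Cube F p E) (D : Data F p E x e z c)
    (h2 : LX (n - 3) ≤ E.subgroupOf S) (hz : (⟨z, hE.fn.1 D.zE⟩ : S) ∉ LX (n - 2))
    (hc : (⟨c, hE.fn.1 D.cE⟩ : S) ∉ LX (n - 2)) :
    ∃ (Q : Subgroup Ω) (x' e' z' c' : Ω) (_ : Cube F p Q) (_ : Data F p Q x' e' z' c') (h : z' ∈ S),
      (⟨z', h⟩ : S) ∈ LX (n - 2) := by
  have hpp : p.Prime := Fact.out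
  have hES : E ≤ S := hE.fn.1
  have C := D.cfg hS hE hm h5
  set N := normalizerIn S E with hN
  obtain ⟨ψ, hψ, hψD⟩ := D.psi
  have hEN : E ≤ N := le_normalizerIn hES
  set P := Subgroup.zpowers z ⊔ Subgroup.zpowers c with hPdef
  have hPE : P ≤ E := D.A_le
  have hPS : P ≤ S := hPE.trans hES
  have : Finite P := finite_of_le hPS
  have hmemP : ∀ {a : Ω}, a ∈ P ↔ ∃ ha : a ∈ S, (⟨a, ha⟩ : S) ∈ LX (n - 3) := by
    intro a
    rw [C.second_eq h2]
    exact ⟨fun ha => ⟨hPS ha, mem_sub_A.2 ha⟩, fun ⟨ha, h⟩ => mem_sub_A' (hES D.zE) (hES D.cE) h⟩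
  have hnormP : normalizerIn S P = S := by
    refine le_antisymm (normalizerIn_le S P) fun g hg => ⟨hg, Subgroup.le_normalizer_iff.2 ?_ hg⟩
    intro g hg y hy
    obtain ⟨hyS, h⟩ := hmemP.1 hy
    exact hmemP.2 ⟨S.mul_mem (S.mul_mem hg hyS) (S.inv_mem hg),
      (lcsNormal (n - 3)).conj_mem _ h ⟨g, hg⟩⟩
  have hfnP : F.IsFullyNormalized P := ⟨hPS, fun Q hQ => by
    rw [hnormP]
    exact Nat.card_le_card_of_injective _ (Subgroup.inclusion_injective (normalizerIn_le S Q))⟩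
  set zP : P := ⟨z, Subgroup.mem_sup_left (Subgroup.mem_zpowers z)⟩ with hzPdef
  set cP : P := ⟨c, Subgroup.mem_sup_right (Subgroup.mem_zpowers c)⟩ with hcPdef
  have hcommP : ∀ a b : P, a * b = b * a := fun a b => Subtype.ext
    (congrArg Subtype.val (hE.comm ⟨a, hPE a.2⟩ ⟨b, hPE b.2⟩) :)
  have hexpP : ∀ a : P, a ^ p = 1 := fun a => Subtype.ext (by
    simpa using congrArg Subtype.val (hE.exp ⟨a, hPE a.2⟩))
  have hdec : ∀ a : P, ∃ i j : ℤ, a = zP ^ i * cP ^ j := by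
    intro a
    obtain ⟨i, j, hij⟩ := C.exists_A (a := ⟨(a : Ω), hPS a.2⟩) (mem_sub_A.2 a.2)
    exact ⟨i, j, Subtype.ext (by simpa [zP, cP] using congrArg Subtype.val hij)⟩
  have hPN : P ≤ N := hPE.trans hEN
  have hψP : ψ.comp (Subgroup.inclusion hPN) ∈ F.Hom P := restrict_mem hψ hPN
  have hrP : ∀ a : P, ψ.comp (Subgroup.inclusion hPN) a ∈ P := by
    intro a
    obtain ⟨i, j, rfl⟩ := hdec a
    rw [map_mul, map_zpow, map_zpow]
    refine P.mul_mem (P.zpow_mem ?_ i) (P.zpow_mem ?_ j)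
    · show ψ (Subgroup.inclusion hPN zP) ∈ P
      rw [(hψD (Subgroup.inclusion hPN zP)).2.1 rfl]
      exact P.inv_mem zP.2
    · show ψ (Subgroup.inclusion hPN cP) ∈ P
      rw [(hψD (Subgroup.inclusion hPN cP)).2.2.1 rfl]
      exact cP.2
  obtain ⟨α, hαG, hαv⟩ := exists_aut hψP (range_eq_of_le (hom_inj hψP) hrP)
  have hαz : α zP = zP⁻¹ := Subtype.ext ((hαv _).trans ((hψD _).2.1 rfl))
  have hαc : α cP = cP := Subtype.ext ((hαv _).trans ((hψD _).2.2.1 rfl))
  -- the centre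
  set Z1 := ((LX (n - 2)).map S.subtype).subgroupOf P with hZ1
  have hmem1 : ∀ {b : P}, b ∈ Z1 ↔ (⟨b, hPS b.2⟩ : S) ∈ LX (n - 2) := by
    intro b
    rw [Subgroup.mem_subgroupOf]
    exact ⟨by rintro ⟨y, hy, he⟩; rwa [show (⟨b, hPS b.2⟩ : S) = y from Subtype.ext he.symm],
      fun h => ⟨_, h, rfl⟩⟩
  have hZ1c : Nat.card Z1 = p := by
    rw [Nat.card_congr (Subgroup.subgroupOfEquivOfLe (fun b hb => hmemP.2 (by
      obtain ⟨y, hy, rfl⟩ := hb
      exact ⟨y.2, Subgroup.lowerCentralSeries_antitone _ (by omega) hy⟩))).toEquiv,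
      Subgroup.card_map_of_injective S.subtype_injective, hm.card_layer (by omega) (by omega),
      show n - 1 - (n - 2) = 1 by omega, pow_one]
  obtain ⟨w, hw, hw1⟩ := (Subgroup.bot_or_exists_ne_one Z1).resolve_left fun h0 => by
    rw [h0, Subgroup.card_bot] at hZ1c
    exact hpp.one_lt.ne hZ1c
  have hgen : ∀ {v : P}, v ∈ Z1 → v ≠ 1 → Subgroup.zpowers v = Z1 := fun {v} hv hv1 =>
    Subgroup.eq_of_le_of_card_ge (Subgroup.zpowers_le.2 hv)
      (by rw [hZ1c, Nat.card_zpowers, orderOf_eq_prime (hexpP v) hv1])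
  have hαw : α w ∉ Z1 := by
    intro hαw
    obtain ⟨i, j, hij⟩ := hdec w
    have h1 : w * α w = cP ^ (j + j) := by
      rw [hij, map_mul, map_zpow, map_zpow, hαz, hαc, hcommP (zP ^ i) (cP ^ j)]
      group
    have h2' : cP ^ (j + j) ∈ Z1 := h1 ▸ mul_mem hw hαw
    by_cases h0 : cP ^ (j + j) = 1
    · have hd : (p : ℤ) ∣ j + j := by
        rw [← orderOf_eq_prime (hexpP cP) fun h => D.cz (by
          rw [show c = 1 from congrArg Subtype.val h]; exact one_mem _)]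
        exact orderOf_dvd_iff_zpow_eq_one.2 h0
      have hd' : (p : ℤ) ∣ j := by
        rw [← two_mul] at hd
        refine ((Nat.prime_iff_prime_int.1 hpp).dvd_mul.1 hd).resolve_left fun h => ?_
        have := Int.le_of_dvd (by norm_num) h
        omega
      obtain ⟨q, rfl⟩ := hd'
      rw [zpow_mul, zpow_natCast, hexpP, one_zpow, mul_one] at hij
      exact hz (hmem1.1 (mem_of_zpow (hexpP zP) (hij ▸ hw) (hij ▸ hw1)))
    · exact hc (hmem1.1 (mem_of_zpow (hexpP cP) h2' h0))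
  obtain ⟨s, hs⟩ : ∃ s : S, s * ⟨z, hES D.zE⟩ ≠ ⟨z, hES D.zE⟩ * s := by
    by_contra hh
    push Not at hh
    exact hz ((mem_last_of_central hm _).1 hh)
  have hsP : (s : Ω) ∈ Subgroup.normalizer (P : Set Ω) := (hnormP.ge s.2).2
  set σ := conjAut P (s : Ω) hsP with hσdef
  have hσG : σ ∈ F.autGroup P := autInducedBy_le_autGroup F hPS (conjAut_mem_autInducedBy s.2 hsP)
  have hσ1 : ∀ v ∈ Z1, σ v = v := fun v hv => Subtype.ext (by
    have := congrArg Subtype.val ((mem_last_of_central hm _).2 (hmem1.1 hv) s)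
    rw [hσdef, conjAut_apply, show (s : Ω) * (v : Ω) = (v : Ω) * s from this, mul_inv_cancel_right])
  set d := zP⁻¹ * σ zP with hddef
  have hd : d ∈ Z1 := by
    rw [hmem1]
    have h1 : (⟨(d : Ω), hPS d.2⟩ : S) = ⁅(⟨z, hES D.zE⟩ : S)⁻¹, s⁆ := Subtype.ext (by
      simp [hddef, zP, hσdef, conjAut_apply, commutatorElement_def, mul_assoc])
    obtain ⟨hzS, hzL⟩ := hmemP.1 (zP.2 : z ∈ P)
    rw [h1, show n - 2 = n - 3 + 1 by omega]
    exact comm_mem_succ (inv_mem hzL) s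
  have hd1 : d ≠ 1 := fun h => hs (Subtype.ext (by
    have h1 := congrArg Subtype.val (inv_mul_eq_one.1 h)
    rw [hσdef, conjAut_apply] at h1
    show (s : Ω) * z = z * s
    calc (s : Ω) * z = (s : Ω) * z * (s : Ω)⁻¹ * s := by group
      _ = z * s := by rw [show (s : Ω) * z * (s : Ω)⁻¹ = z from h1.symm]))
  set d' := α d with hd'def
  have hd' : d' ∉ Z1 := by
    intro h
    obtain ⟨i, hi⟩ := Subgroup.mem_zpowers_iff.1 ((hgen hd hd1).ge hw)
    exact hαw (by rw [← hi, map_zpow]; exact zpow_mem h i)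
  set σ' := α * σ * α⁻¹ with hσ'def
  have hσ'G : σ' ∈ F.autGroup P := mul_mem (mul_mem hαG hσG) (inv_mem hαG)
  have hfix : σ' d' = d' := by
    rw [hσ'def, MulAut.mul_apply, MulAut.mul_apply, hd'def, MulAut.inv_apply_self, hσ1 d hd]
  have hstep : σ' zP⁻¹ = zP⁻¹ * d' := by
    rw [← hαz, hσ'def, MulAut.mul_apply, MulAut.mul_apply, MulAut.inv_apply_self, hd'def, ← map_mul, hddef,
      mul_inv_cancel_left]
  have hpow : ∀ k : ℕ, (σ' ^ k) zP⁻¹ = zP⁻¹ * d' ^ k := by
    intro k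
    induction k with
    | zero => simp
    | succ k ih => rw [pow_succ', MulAut.mul_apply, ih, map_mul, map_pow, hfix, hstep, mul_assoc, ← pow_succ']
  have htop : Z1 ⊔ Subgroup.zpowers d' = ⊤ := by
    have hcP : Nat.card P = p ^ 2 := D.cardA
    exact sup_zpowers_eq hcP le_top (Subgroup.mem_top d') hd'
      (by rw [Subgroup.card_top, hcP, hZ1c, pow_two])
  have : Z1.Normal := ⟨fun a ha g => by rwa [hcommP g a, mul_inv_cancel_right]⟩
  obtain ⟨ζ, hζ, v, hv, hζv⟩ := Subgroup.mem_sup_of_normal_left.1 (htop.ge (Subgroup.mem_top zP⁻¹))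
  obtain ⟨k, hk⟩ := mem_powers_iff_mem_zpowers.2 ((Subgroup.zpowers d').inv_mem hv)
  replace hk : d' ^ k = v⁻¹ := hk
  set φ := σ' ^ k with hφdef
  have hφG : φ ∈ F.autGroup P := pow_mem hσ'G k
  have hφz : φ zP ∈ Z1 := by
    rw [← inv_inv zP, map_inv, hpow, hk, ← hζv, mul_inv_cancel_right]
    exact inv_mem hζ
  -- extension to the centralizer
  set R := centralizerIn S P with hR
  have hPR : P ≤ R := fun a ha => ⟨hPS ha, Subgroup.mem_centralizer_iff.2 fun b hb =>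
    congrArg Subtype.val (hcommP ⟨b, hb⟩ ⟨a, ha⟩)⟩
  have hNR : N ≤ R := fun g hg => ⟨hg.1, Subgroup.mem_centralizer_iff.2 fun b hb =>
    (D.central hE hb hg).symm⟩
  have hER : E ≤ R := hEN.trans hNR
  obtain ⟨χ, hχ, -, hext⟩ := ((mem_autGroup_iff hPS).1 hφG).exists_extension
    (isReceptive_of_isFullyNormalized hS hF hfnP) hPR (centralizerIn_le_normalizerIn S P) fun g hg => by
      rw [(conjAut_eq_one_iff _).2 hg.2, map_one]
      exact one_mem _
  set Q := (χ.comp (Subgroup.inclusion hER)).range with hQdef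
  obtain ⟨ee, hee, heev⟩ := exists_iso (restrict_mem hχ hER) (Q := Q) rfl
  have : Finite (normalizerIn S Q) := finite_of_le (normalizerIn_le S Q)
  let f : N → normalizerIn S Q := fun g => ⟨χ ⟨g, hNR g.2⟩, map_mem hχ _,
    map_mem_normalizer_of_extends (e := ee) hER (fun y => (heev y).symm) (hNR g.2) g.2.2⟩
  have hf : Function.Injective f := fun g g' h => Subtype.ext (congrArg Subtype.val
    (hom_inj hχ (congrArg Subtype.val h) :) :)
  have hQ : Cube F p Q := hE.transport hee (Nat.card_le_card_of_injective f hf)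
  obtain ⟨x', e', z', c', D'⟩ := hQ.exists_data hS hF (by
    rw [show Nat.card S = p ^ n from hm.card]; exact Nat.pow_le_pow_right hpp.pos h5)
  refine ⟨Q, x', e', z', c', hQ, D', hQ.fn.1 D'.zE, ?_⟩
  have hbij : Function.Bijective f := hf.bijective_of_nat_card_le (by rw [D'.cardN, D.cardN])
  obtain ⟨g, hg⟩ := hbij.2 ⟨x', D'.xN⟩
  obtain ⟨u, hu⟩ : ∃ u : E, χ ⟨u, hER u.2⟩ = e' := D'.eE
  have hz' : z' = e'⁻¹ * (x' * e' * x'⁻¹) := by rw [D'.xe, inv_mul_cancel_left]
  have hgx : χ ⟨g, hNR g.2⟩ = x' := congrArg Subtype.val hg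
  obtain ⟨i, hi⟩ := Subgroup.mem_zpowers_iff.1 (C.comm_z (g := ⟨g, g.2.1⟩) (w := (⟨u, hES u.2⟩ : S)⁻¹)
    ((mem_normalizer_sub hES).2 g.2) (inv_mem (show (⟨u, hES u.2⟩ : S) ∈ E.subgroupOf S from u.2)))
  have hi' : z ^ i = (g : Ω) * (u : Ω)⁻¹ * (g : Ω)⁻¹ * u := by
    simpa [commutatorElement_def, mul_assoc] using congrArg Subtype.val hi
  set zR : R := ⟨z, hPR zP.2⟩ with hzRdef
  have hR' : (⟨u, hER u.2⟩ : R)⁻¹ * (⟨g, hNR g.2⟩ * ⟨u, hER u.2⟩ * (⟨g, hNR g.2⟩ : R)⁻¹) = zR ^ (-i) := by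
    refine Subtype.ext ?_
    show (u : Ω)⁻¹ * ((g : Ω) * u * (g : Ω)⁻¹) = ((zR ^ (-i) : R) : Ω)
    rw [SubgroupClass.coe_zpow, show ((zR : R) : Ω) = z from rfl, zpow_neg, hi']
    group
  have hzz : z' = ((φ zP ^ (-i) : P) : Ω) := by
    have h1 := congrArg χ hR'
    rw [map_mul, map_mul, map_mul, map_inv, map_inv, hu, hgx, map_zpow, ← hz'] at h1
    rw [h1, SubgroupClass.coe_zpow]
    exact congrArg (fun t : Ω => t ^ (-i)) (hext zP)
  have := hmem1.1 (zpow_mem hφz (-i))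
  convert this using 2

end Helpers


/-- Let p ≥ 5 be a prime, S a finite p-group of maximal class of order p^n with n ≥ 5 (nilpotency class n − 1), F a saturated fusion system over S, and E an F-essential subgroup that is not a pearl (not elementary abelian of order p² and not extraspecial of order p³ and exponent p). Then E has order at least p⁴. -/
theorem result {Ω : Type*} [Group Ω] {S : Subgroup Ω} [Finite S] (p : ℕ) [Fact p.Prime] (hp : 5 ≤ p) (hS : IsPGroup p ↥S) (n : ℕ) (hn : Nat.card S = p ^ n) (h5 : 5 ≤ n)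
    (hmax : Subgroup.lowerCentralSeries S (n - 2) ≠ ⊥) (F : Cfsg.FusionSystem S) (hF : F.IsSaturated p)
    (E : Subgroup Ω) (hE : F.IsEssential p E)
    (hnp : ¬ ((Nat.card ↥E = p ^ 2 ∧ Cfsg.IsElementaryAbelian p E) ∨ (Nat.card ↥E = p ^ 3 ∧ Cfsg.IsExtraspecial p ↥E ∧ Monoid.exponent ↥E = p))) :
    p ^ 4 ≤ Nat.card ↥E := by
  by_contra hcon
  have hpp : p.Prime := Fact.out
  have : Finite E := finite_of_le hE.1.1
  obtain ⟨j, hj⟩ := IsPGroup.iff_card.1 (CfsgLib.Fusion.isPGroup_of_le hS hE.1.1)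
  have hj3 : j ≤ 3 := by
    by_contra hh
    exact hcon (hj ▸ Nat.pow_le_pow_right hpp.pos (by omega))
  have hm : MaxClass p n S := ⟨hn, by omega, CfsgLib.PLoc.Uniserial.lcs_eq_bot_of_card hS hn (by omega),
    CfsgLib.FusionMaxClass.top_lowerCentralSeries_ne_bot hmax⟩
  have hsmall : Nat.card E ≤ p ^ 3 := hj ▸ Nat.pow_le_pow_right hpp.pos hj3
  have hlt : E < S := lt_of_le_of_ne hE.1.1 fun h => by
    rw [h, hn, Nat.pow_le_pow_iff_right hpp.one_lt] at hsmall
    omega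
  obtain ⟨hcard, hel⟩ := CfsgLib.Fusion.EssentialCube.elementary_of_small (by omega) hS hF hE hlt hsmall hnp
    (fun z hz hcen => centralizerIn_le_of_isCentric hE.1 ⟨hz, fun y hy => hcen y (hE.1.1 hy)⟩)
    (by rw [hn]; exact Nat.pow_le_pow_right hpp.pos (by omega))
  have hC := cube_of_isEssential hE hcard hel
  obtain ⟨x, e, z, c, D⟩ := hC.exists_data hS hF (by rw [hn]; exact Nat.pow_le_pow_right hpp.pos h5)
  by_cases hline : Subgroup.lowerCentralSeries (⊤ : Subgroup S) (n - 3) ≤ E.subgroupOf S →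
      (⟨z, hC.fn.1 D.zE⟩ : S) ∈ Subgroup.lowerCentralSeries (⊤ : Subgroup S) (n - 2) ∨
      (⟨c, hC.fn.1 D.cE⟩ : S) ∈ Subgroup.lowerCentralSeries (⊤ : Subgroup S) (n - 2)
  · exact D.false_of_line hp hS hF hm h5 hC hline
  · push Not at hline
    obtain ⟨h2, hz, hc⟩ := hline
    obtain ⟨Q, x', e', z', c', hQ, D', h', hz'⟩ := D.exists_line hp hS hF hm h5 hC h2 hz hc
    exact D'.false_of_line hp hS hF hm h5 hQ fun _ => Or.inl hz'

end Cfsg.Agent.S5316
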