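import Cfsg.Statements.S5318
import Cfsg.Agent.Lib.Fusion.TwoSimple
import Cfsg.Agent.Lib.Fusion.TorusGLTwo
import Cfsg.Agent.Lib.TwoFusion.PSLThreeInvolution
import Cfsg.Agent.Lib.Linear.Card
import Cfsg.Agent.Lib.Linear.SL2

set_option autoImplicit false
open Cfsg

namespace Cfsg.Agent.S5318

open Matrix
open CfsgLib.Fusion.TorusGLTwo CfsgLib.TwoFusion.PSLThreeInvolution

variable {F : Type*} [Field F]

local notation "GL2" => GL (Fin 2) F
local notation "P3" => ProjectiveSpecialLinearGroup (Fin 3) F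

/-- The conjugated block embedding. -/
def emb (g : P3) : GL2 →* P3 :=
  (MulAut.conj g).toMonoidHom.comp ((QuotientGroup.mk' _).comp blk)

theorem emb_apply (g : P3) (h : GL2) :
    emb g h = g * QuotientGroup.mk' (Subgroup.center (SpecialLinearGroup (Fin 3) F)) (blk h) * g⁻¹ := rfl

theorem emb_ker {g : P3} {h : GL2} (hh : emb g h = 1) :
    ∃ r : Fˣ, r ^ 3 = 1 ∧ GeneralLinearGroup.scalar (Fin 2) r = h := by
  rw [emb_apply, conj_eq_one_iff, QuotientGroup.mk'_apply, QuotientGroup.eq_one_iff,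
    Matrix.SpecialLinearGroup.mem_center_iff, Fintype.card_fin] at hh
  obtain ⟨r, hr, hrh⟩ := hh
  have hr0 : r ≠ 0 := by rintro rfl; simp at hr
  refine ⟨Units.mk0 r hr0, Units.ext (by simpa using hr), ?_⟩
  have e11 := congrFun (congrFun hrh 1) 1
  have e12 := congrFun (congrFun hrh 1) 2
  have e21 := congrFun (congrFun hrh 2) 1
  have e22 := congrFun (congrFun hrh 2) 2
  simp [blk_coe] at e11 e12 e21 e22
  apply gl_ext <;> simp [← e11, ← e12, ← e21, ← e22]

theorem emb_injOn {e : F} {g : P3} {a b : GL2} (ha : a ∈ syl (e := e)) (hb : b ∈ syl (e := e))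
    (h : emb g a = emb g b) : a = b := by
  have h1 : emb g (a⁻¹ * b) = 1 := by rw [map_mul, map_inv, h, inv_mul_cancel]
  obtain ⟨r, hr, hrh⟩ := emb_ker h1
  have hr1 := scalar_eq_one_of_mem (e := e) hr (by rw [hrh]; exact mul_mem (inv_mem ha) hb)
  rw [hr1, map_one] at hrh
  exact inv_mul_eq_one.1 hrh.symm

theorem emb_conj_of {g : P3} {a b : GL2} (W : SpecialLinearGroup (Fin 3) F)
    (h : (W : Matrix (Fin 3) (Fin 3) F) * (blk a : SpecialLinearGroup (Fin 3) F).1 =
      (blk b : SpecialLinearGroup (Fin 3) F).1 * (W : Matrix (Fin 3) (Fin 3) F)) :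
    ∃ k, k * emb g a * k⁻¹ = emb g b := by
  have hW : W * blk a * W⁻¹ = blk b := mul_inv_eq_iff_eq_mul.2 (Subtype.ext h)
  refine ⟨g * QuotientGroup.mk' _ W * g⁻¹, ?_⟩
  rw [emb_apply, emb_apply, ← hW, map_mul, map_mul, map_inv]
  group

theorem exists_emb_eq (h2 : (2 : F) ≠ 0) {g x : P3}
    (h : x * emb g (GeneralLinearGroup.scalar (Fin 2) (-1 : Fˣ)) =
      emb g (GeneralLinearGroup.scalar (Fin 2) (-1 : Fˣ)) * x) : ∃ h, emb g h = x := by
  set π := QuotientGroup.mk' (Subgroup.center (SpecialLinearGroup (Fin 3) F)) with hπ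
  set Z := (blk (GeneralLinearGroup.scalar (Fin 2) (-1 : Fˣ)) : SpecialLinearGroup (Fin 3) F) with hZ
  obtain ⟨G0, hG0⟩ := QuotientGroup.mk'_surjective
    (Subgroup.center (SpecialLinearGroup (Fin 3) F)) (g⁻¹ * x * g)
  have hc : π G0 * π Z = π Z * π G0 := by
    rw [hπ, hG0]
    rw [emb_apply, ← hZ] at h
    calc g⁻¹ * x * g * QuotientGroup.mk' _ Z = g⁻¹ * (x * (g * QuotientGroup.mk' _ Z * g⁻¹)) * g := by
          group
      _ = _ := by rw [h]; group
  have hZ2 : Z * Z = 1 := by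
    rw [hZ, ← map_mul, ← map_mul, neg_one_mul, neg_neg, map_one, map_one]
  set c := G0 * Z * G0⁻¹ * Z⁻¹ with hcdef
  have hcc : c ∈ Subgroup.center (SpecialLinearGroup (Fin 3) F) := by
    rw [← QuotientGroup.eq_one_iff]
    show π c = 1
    rw [hcdef, map_mul, map_mul, map_mul, hc, map_inv, map_inv, mul_inv_cancel_right, mul_inv_cancel]
  have hc3 : c ^ 3 = 1 := by
    obtain ⟨r, hr, hrc⟩ := Matrix.SpecialLinearGroup.mem_center_iff.mp hcc
    apply Subtype.ext
    rw [Matrix.SpecialLinearGroup.coe_pow, ← hrc, ← map_pow, show (3 : ℕ) = Fintype.card (Fin 3) from rfl,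
      hr, map_one, Matrix.SpecialLinearGroup.coe_one]
  have hcZ : G0 * Z * G0⁻¹ = c * Z := by rw [hcdef, inv_mul_cancel_right]
  have hc2 : c * c = 1 := by
    have h' : G0 * Z * G0⁻¹ * (G0 * Z * G0⁻¹) = c * Z * (c * Z) := by rw [hcZ]
    rw [show G0 * Z * G0⁻¹ * (G0 * Z * G0⁻¹) = G0 * (Z * Z) * G0⁻¹ by group, hZ2, mul_one,
      mul_inv_cancel, (show Commute Z c from Subgroup.mem_center_iff.mp hcc Z).mul_mul_mul_comm,
      hZ2, mul_one] at h'
    exact h'.symm
  have hc1 : c = 1 := by rw [← hc3, pow_succ, pow_two, hc2, one_mul]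
  rw [hc1, one_mul, mul_inv_eq_iff_eq_mul] at hcZ
  obtain ⟨A, hA⟩ := mem_blk_range (g := G0) h2 (by
    have h' := congrArg Subtype.val hcZ
    simp only [Matrix.SpecialLinearGroup.coe_mul, hZ, blk_diag] at h'
    exact h')
  refine ⟨A, ?_⟩
  rw [emb_apply, hA, hG0]
  group

/-- The change of basis diagonalising the split torus. -/
def U1 (h2 : (2 : F) ≠ 0) : GL2 :=
  GeneralLinearGroup.mkOfDetNeZero !![1, 1; 1, -1]
    (by rw [det_fin_two_of]; intro h; exact h2 (by linear_combination -h))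

/-- Diagonal matrices. -/
def dia : Fˣ × Fˣ →* GL2 where
  toFun p := GeneralLinearGroup.mkOfDetNeZero !![(p.1 : F), 0; 0, p.2]
    (by rw [det_fin_two_of]; simp)
  map_one' := by apply gl_ext <;> simp
  map_mul' p r := by apply gl_ext <;> simp [CfsgLib.Fusion.TorusGLTwo.mul_apply]

/-- The split torus in eigen coordinates. -/
def spl (h2 : (2 : F) ≠ 0) : Fˣ × Fˣ →* GL2 := (MulAut.conj (U1 h2)).toMonoidHom.comp dia

theorem spl_mem (h2 : (2 : F) ≠ 0) (p : Fˣ × Fˣ) : spl h2 p ∈ tor (1 : F) := by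
  have hw : U1 h2 * sg = mk (1 : F) 0 1 (by simp) * U1 h2 := by
    apply gl_ext <;> simp [CfsgLib.Fusion.TorusGLTwo.mul_apply, U1, sg_val, mk_val]
  refine mem_tor_of_commute (mk_mem (e := (1 : F)) 0 1 (by simp)) (by simp [mk_val]) ?_
  rw [← mul_inv_eq_iff_eq_mul.2 hw]
  show U1 h2 * dia p * (U1 h2)⁻¹ * (U1 h2 * sg * (U1 h2)⁻¹) =
    U1 h2 * sg * (U1 h2)⁻¹ * (U1 h2 * dia p * (U1 h2)⁻¹)
  have : dia p * sg = sg * dia p := by
    apply gl_ext <;> simp [CfsgLib.Fusion.TorusGLTwo.mul_apply, dia, sg_val]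
  rw [show U1 h2 * dia p * (U1 h2)⁻¹ * (U1 h2 * sg * (U1 h2)⁻¹) =
    U1 h2 * (dia p * sg) * (U1 h2)⁻¹ by group, this]
  group

theorem eq_spl (h2 : (2 : F) ≠ 0) {a : GL2} (ha : a ∈ tor (1 : F)) :
    ∃ p : Fˣ × Fˣ, a = spl h2 p ∧ (p.1 : F) = a.1 0 0 + a.1 1 0 ∧ (p.2 : F) = a.1 0 0 - a.1 1 0 := by
  have hd := a.det_ne_zero
  rw [det_eq ha] at hd
  have h1 : a.1 0 0 + a.1 1 0 ≠ 0 := fun h => hd (by linear_combination (a.1 0 0 - a.1 1 0) * h)
  have h1' : a.1 0 0 - a.1 1 0 ≠ 0 := fun h => hd (by linear_combination (a.1 0 0 + a.1 1 0) * h)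
  refine ⟨(Units.mk0 _ h1, Units.mk0 _ h1'), ?_, rfl, rfl⟩
  show a = U1 h2 * dia _ * (U1 h2)⁻¹
  rw [eq_mul_inv_iff_mul_eq]
  apply gl_ext <;> simp [CfsgLib.Fusion.TorusGLTwo.mul_apply, U1, dia, ← ha.1, ha.2] <;> ring

theorem spl_add_sub (h2 : (2 : F) ≠ 0) (p : Fˣ × Fˣ) :
    (spl h2 p).1 0 0 + (spl h2 p).1 1 0 = p.1 ∧ (spl h2 p).1 0 0 - (spl h2 p).1 1 0 = p.2 := by
  have ht := spl_mem h2 p
  have h : spl h2 p * U1 h2 = U1 h2 * dia p := inv_mul_cancel_right _ _
  have h00 := congrArg (fun X : GL2 => X.1 0 0) h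
  have h01 := congrArg (fun X : GL2 => X.1 0 1) h
  have e := ht.2
  simp [CfsgLib.Fusion.TorusGLTwo.mul_apply, U1, dia] at h00 h01 e
  exact ⟨by linear_combination h00 - e, by linear_combination h01 + e⟩

theorem pow_eq_one_of_spl (h2 : (2 : F) ≠ 0) (p : Fˣ × Fˣ) (n : ℕ) (h : spl h2 p ^ n = 1) :
    p ^ n = 1 := by
  rw [← map_pow] at h
  have h' := spl_add_sub h2 (p ^ n)
  rw [h] at h'
  exact Prod.ext (Units.ext (by simpa using h'.1.symm)) (Units.ext (by simpa using h'.2.symm))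

theorem bar_spl (h2 : (2 : F) ≠ 0) (p : Fˣ × Fˣ) : sg * spl h2 p * sg = spl h2 (p.2, p.1) := by
  obtain ⟨h00, h01, h10, h11⟩ := bar_apply (spl h2 p)
  obtain ⟨p', hp', e1, e2⟩ := eq_spl h2 (bar_mem (spl_mem h2 p))
  have h := spl_add_sub h2 p
  rw [hp']
  congr 1
  exact Prod.ext (Units.ext (by rw [e1, h00, h10]; linear_combination h.2))
    (Units.ext (by rw [e2, h00, h10]; linear_combination h.1))

variable [Fintype F]

theorem card_arith {e : F} (hodd : Fintype.card F % 2 = 1)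
    (he : (e = 1 ∧ IsSquare (-1 : F)) ∨ (e = -1 ∧ ¬ IsSquare (-1 : F))) :
    (Nat.card P3).factorization 2 = (Nat.card (tor e)).factorization 2 + 1 ∧
      (¬ IsSquare (-1 : F) → 3 ≤ (Nat.card (tor e)).factorization 2) := by
  classical
  obtain ⟨k, hk⟩ : ∃ k, Fintype.card F = k + 1 := ⟨Fintype.card F - 1, by
    have := Fintype.card_pos (α := F); omega⟩
  have hk0 : 0 < k := by have := Fintype.one_lt_card (α := F); omega
  have hk2 : k % 2 = 0 := by omega
  have hSL : Nat.card (SpecialLinearGroup (Fin 3) F) = k * k * (k + 2) * ((k + 1) ^ 3 * (k * k + 3 * k + 3)) := by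
    have h := CfsgLib.Linear.card_SL_mul (F := F) 3 (by norm_num)
    simp only [Fin.prod_univ_three, Fin.val_zero, Fin.val_one, Fin.val_two, pow_zero, pow_one, hk,
      Nat.add_sub_cancel] at h
    rw [show (k + 1) ^ 3 = k * (k * k + 3 * k + 3) + 1 by ring, Nat.add_sub_cancel,
      show k * (k * k + 3 * k + 3) + 1 - (k + 1) = (k + 1) * k * (k + 2) by
        rw [show k * (k * k + 3 * k + 3) + 1 = (k + 1) * k * (k + 2) + (k + 1) by ring,
          Nat.add_sub_cancel],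
      show k * (k * k + 3 * k + 3) + 1 - (k + 1) ^ 2 = (k + 1) ^ 2 * k by
        rw [show k * (k * k + 3 * k + 3) + 1 = (k + 1) ^ 2 * k + (k + 1) ^ 2 by ring,
          Nat.add_sub_cancel]] at h
    refine Nat.eq_of_mul_eq_mul_left hk0 (h.trans ?_)
    ring
  have hoddc : ((k + 1) ^ 3 * (k * k + 3 * k + 3)) % 2 = 1 := by
    rw [Nat.mul_mod, Nat.pow_mod, show (k + 1) % 2 = 1 by omega,
      show (k * k + 3 * k + 3) % 2 = 1 by rw [Nat.add_mod, Nat.add_mod (k * k), Nat.mul_mod k, Nat.mul_mod 3, hk2]]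
  obtain ⟨m, hm2, hm, h3⟩ : ∃ m, m % 2 = 1 ∧
      k * k * (k + 2) = Nat.card (tor e) * 2 * m ∧
      (¬ IsSquare (-1 : F) → 2 ^ 3 ∣ Nat.card (tor e)) := by
    rw [Nat.card_congr torEquiv]
    rcases he with ⟨rfl, hsq⟩ | ⟨rfl, hsq⟩
    · have hq : Fintype.card F % 4 ≠ 3 := FiniteField.isSquare_neg_one_iff.1 hsq
      have h2 : (2 : F) ≠ 0 := CfsgLib.Linear.two_ne_zero_of_odd_card (Nat.odd_iff.2 hodd)
      let f : Fˣ × Fˣ → {p : F × F // p.1 ^ 2 - (1 : F) * p.2 ^ 2 ≠ 0} := fun u =>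
        ⟨(((u.1 : F) + u.2) / 2, ((u.1 : F) - u.2) / 2), by
          rw [show (((u.1 : F) + u.2) / 2) ^ 2 - 1 * (((u.1 : F) - u.2) / 2) ^ 2 = u.1 * u.2 by
            field_simp; ring]
          exact mul_ne_zero u.1.ne_zero u.2.ne_zero⟩
      have hf : Function.Bijective f := by
        refine ⟨fun u v h => ?_, fun p => ?_⟩
        · have ha := congrArg (fun w => w.1.1) h
          have hb := congrArg (fun w => w.1.2) h
          simp only [f] at ha hb
          field_simp at ha hb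
          exact Prod.ext (Units.ext (mul_left_cancel₀ h2 (by linear_combination ha + hb)))
            (Units.ext (mul_left_cancel₀ h2 (by linear_combination ha - hb)))
        · have h1 : p.1.1 + p.1.2 ≠ 0 := fun h => p.2 (by linear_combination (p.1.1 - p.1.2) * h)
          have h1' : p.1.1 - p.1.2 ≠ 0 := fun h => p.2 (by linear_combination (p.1.1 + p.1.2) * h)
          refine ⟨(Units.mk0 _ h1, Units.mk0 _ h1'), Subtype.ext (Prod.ext ?_ ?_)⟩ <;>
            simp only [f, Units.val_mk0] <;> field_simp <;> ring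
      rw [← Nat.card_eq_of_bijective f hf, Nat.card_prod, Nat.card_units, Nat.card_eq_fintype_card,
        hk, Nat.add_sub_cancel]
      refine ⟨(k + 2) / 2, by omega, ?_, fun h => absurd hsq h⟩
      rw [mul_assoc (k * k), Nat.mul_div_cancel' (by omega : 2 ∣ k + 2)]
    · have hq : Fintype.card F % 4 = 3 := by
        by_contra h
        exact hsq (FiniteField.isSquare_neg_one_iff.2 h)
      have hset : ∀ p : F × F, p.1 ^ 2 - (-1 : F) * p.2 ^ 2 ≠ 0 ↔ p ≠ 0 := by
        intro p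
        constructor
        · rintro h rfl; exact h (by simp)
        · intro hp h
          by_cases hy : p.2 = 0
          · rw [hy] at h
            exact hp (Prod.ext ((pow_eq_zero_iff two_ne_zero).1 (by linear_combination h)) hy)
          · exact hsq ⟨p.1 / p.2, by field_simp; linear_combination -h⟩
      rw [Nat.card_congr (Equiv.subtypeEquivRight hset), Nat.card_eq_fintype_card,
        Fintype.card_subtype_compl, Fintype.card_subtype_eq, Fintype.card_prod, hk]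
      have e1 : (k + 1) * (k + 1) - 1 = k * (k + 2) := by
        rw [show (k + 1) * (k + 1) = k * (k + 2) + 1 by ring, Nat.add_sub_cancel]
      rw [e1]
      refine ⟨k / 2, by omega, ?_, fun _ => ?_⟩
      · rw [mul_assoc (k * (k + 2)), Nat.mul_div_cancel' (by omega : 2 ∣ k)]
        ring
      · obtain ⟨j, rfl⟩ : 2 ∣ k := by omega
        obtain ⟨i, hi⟩ := (Nat.even_mul_succ_self j).two_dvd
        exact ⟨i, by linear_combination 4 * hi⟩
  have hG := CfsgLib.Linear.card_PSL_mul (n := Fin 3) (F := F)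
  rw [Fintype.card_fin, hSL, hm] at hG
  have hodd' : ¬ 2 ∣ m * ((k + 1) ^ 3 * (k * k + 3 * k + 3)) := by
    rw [Nat.prime_two.dvd_mul]; omega
  have hg3 : ¬ 2 ∣ Nat.gcd 3 (Fintype.card F - 1) := fun h => by
    have := h.trans (Nat.gcd_dvd_left _ _); omega
  have ht0 : Nat.card (tor e) ≠ 0 := Nat.card_pos.ne'
  refine ⟨?_, fun h => (Nat.prime_two.pow_dvd_iff_le_factorization ht0).1 (h3 h)⟩
  have hv := congrArg (fun n => n.factorization 2) hG
  rw [Nat.factorization_mul (fun h0 => hg3 (by rw [h0]; exact dvd_zero 2)) Nat.card_pos.ne',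
    mul_assoc _ m, Nat.factorization_mul (mul_ne_zero ht0 two_ne_zero) (fun h0 => hodd' (by rw [h0]; exact dvd_zero 2)),
    Nat.factorization_mul ht0 two_ne_zero, Finsupp.add_apply, Finsupp.add_apply, Finsupp.add_apply,
    Nat.factorization_eq_zero_of_not_dvd hg3, Nat.factorization_eq_zero_of_not_dvd hodd',
    Nat.Prime.factorization_self Nat.prime_two] at hv
  omega

theorem exists_emb_sylow {e : F} (hodd : Fintype.card F % 2 = 1)
    (he : (e = 1 ∧ IsSquare (-1 : F)) ∨ (e = -1 ∧ ¬ IsSquare (-1 : F))) (S : Sylow 2 P3) :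
    ∃ g : P3, (S : Subgroup P3) = (syl (e := e)).map (emb g) := by
  classical
  have : Fact (Nat.Prime 2) := ⟨Nat.prime_two⟩
  have h2 : (2 : F) ≠ 0 := CfsgLib.Linear.two_ne_zero_of_odd_card (Nat.odd_iff.2 hodd)
  obtain ⟨hc1, hc2⟩ := card_twoPart (e := e) h2
  let φ : syl (e := e) →* P3 := (emb 1).comp (syl (e := e)).subtype
  have hinj : Function.Injective φ := fun a b h => Subtype.ext (emb_injOn a.2 b.2 h)
  have hr : φ.range = (syl (e := e)).map (emb 1) := by
    rw [MonoidHom.range_comp, Subgroup.range_subtype]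
  let P0 : Sylow 2 P3 := Sylow.ofCard ((syl (e := e)).map (emb 1)) (by
    rw [← hr, ← Nat.card_congr (MonoidHom.ofInjective hinj).toEquiv, hc1, hc2,
      (card_arith hodd he).1, pow_succ'])
  obtain ⟨g, hg⟩ := MulAction.exists_smul_eq P3 P0 S
  refine ⟨g, ?_⟩
  rw [← hg, Sylow.coe_subgroup_smul]
  show ((syl (e := e)).map (emb 1)).map (MulAut.conj g).toMonoidHom = _
  rw [Subgroup.map_map]
  congr 1
  ext h
  show g * emb 1 h * g⁻¹ = emb g h
  rw [emb_apply, emb_apply, one_mul, inv_one, mul_one]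

local notation "negone" => GeneralLinearGroup.scalar (Fin 2) (-1 : Fˣ)

omit [Fintype F] in
theorem negone_mem (e : F) : (negone : GL2) ∈ twoPart (e := e) :=
  ⟨scalar_mem _, 1, by rw [← map_pow, pow_one, neg_one_sq, map_one]⟩

theorem exists_sq_nonscalar {e : F} (hodd : Fintype.card F % 2 = 1)
    (he : (e = 1 ∧ IsSquare (-1 : F)) ∨ (e = -1 ∧ ¬ IsSquare (-1 : F))) :
    ∃ a ∈ twoPart (e := e), a.1 1 0 ≠ 0 ∧ (a * a).1 1 0 ≠ 0 := by
  classical
  have h2 : (2 : F) ≠ 0 := CfsgLib.Linear.two_ne_zero_of_odd_card (Nat.odd_iff.2 hodd)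
  suffices h : ∃ a ∈ twoPart (e := e), (a * a).1 1 0 ≠ 0 by
    obtain ⟨a, ha, hy⟩ := h
    refine ⟨a, ha, fun h0 => hy ?_, hy⟩
    rw [CfsgLib.Fusion.TorusGLTwo.mul_apply, h0, zero_mul, mul_zero, zero_add]
  rcases he with ⟨rfl, i, hi⟩ | ⟨rfl, hsq⟩
  · have hi0 : i ≠ 0 := by rintro rfl; simp at hi
    refine ⟨spl h2 (Units.mk0 i hi0, 1), ⟨spl_mem h2 _, 2, ?_⟩, fun h0 => ?_⟩
    · rw [← map_pow]
      have : ((Units.mk0 i hi0, (1 : Fˣ)) : Fˣ × Fˣ) ^ 2 ^ 2 = 1 := by
        refine Prod.ext (Units.ext ?_) (by simp)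
        simp [pow_succ]
        linear_combination (1 - i * i) * hi
      rw [this, map_one]
    · rw [← map_mul] at h0
      have h := spl_add_sub h2 ((Units.mk0 i hi0, (1 : Fˣ)) * (Units.mk0 i hi0, 1))
      rw [h0, add_zero, sub_zero] at h
      have h' := h.1.symm.trans h.2
      simp at h'
      exact h2 (by linear_combination -h' - hi)
  · have hq : Fintype.card F % 4 = 3 := by
      by_contra h
      exact hsq (FiniteField.isSquare_neg_one_iff.2 h)
    by_contra hno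
    push Not at hno
    have hunit : ∀ d : Fˣ, ∀ k : ℕ, d ^ 2 ^ k = 1 → d = 1 ∨ d = -1 := by
      intro d k hd
      have h1 : orderOf d ∣ Fintype.card F - 1 := by
        rw [← Nat.card_eq_fintype_card, ← Nat.card_units]; exact orderOf_dvd_natCard d
      obtain ⟨j, -, hj⟩ := (Nat.dvd_prime_pow Nat.prime_two).1 (orderOf_dvd_of_pow_eq_one hd)
      rw [hj] at h1
      have hj1 : j ≤ 1 := by
        by_contra hj2
        have := (Nat.pow_dvd_pow 2 (show 2 ≤ j by omega)).trans h1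
        omega
      have hd2 : d * d = 1 := by
        rw [← pow_two]
        exact orderOf_dvd_iff_pow_eq_one.1 (by rw [hj]; simpa using Nat.pow_dvd_pow 2 hj1)
      rcases mul_self_eq_one_iff.1 (congrArg Units.val hd2) with h | h
      · exact Or.inl (Units.ext h)
      · exact Or.inr (Units.ext (by simpa using h))
    let f : twoPart (e := (-1 : F)) → F × F := fun a => (a.1.1 0 0, a.1.1 1 0)
    have hf : Function.Injective f := fun a b h => by
      simp only [f, Prod.mk.injEq] at h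
      exact Subtype.ext (gl_ext h.1 (by rw [a.2.1.2, b.2.1.2, h.2]) h.2 (by rw [← a.2.1.1, ← b.2.1.1, h.1]))
    have hsub : Set.range f ⊆ {(1, 0), (-1, 0), (0, 1), (0, -1)} := by
      rintro _ ⟨⟨a, ha, k, hk⟩, rfl⟩
      have h := hno a ⟨ha, k, hk⟩
      rw [CfsgLib.Fusion.TorusGLTwo.mul_apply, ← ha.1] at h
      have hxy : a.1 0 0 * a.1 1 0 = 0 := mul_left_cancel₀ h2 (by linear_combination h)
      simp only [f, Set.mem_insert_iff, Set.mem_singleton_iff, Prod.mk.injEq]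
      have hd : ((GeneralLinearGroup.det a : Fˣ) : F) = a.1 0 0 ^ 2 - (-1) * a.1 1 0 ^ 2 := det_eq ha
      rcases mul_eq_zero.1 hxy with h0 | h0
      · rcases hunit (GeneralLinearGroup.det a) k (by rw [← map_pow, hk, map_one]) with h1 | h1
        · rw [h1, Units.val_one, h0] at hd
          rcases mul_self_eq_one_iff.1 (show a.1 1 0 * a.1 1 0 = 1 by linear_combination -hd) with h' | h' <;>
            simp [h0, h']
        · rw [h1, h0] at hd
          exact absurd ⟨a.1 1 0, by simp at hd; linear_combination hd⟩ hsq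
      · obtain ⟨r, hr⟩ := eq_scalar ha h0
        rw [← hr, ← map_pow] at hk
        have hk' : r ^ 2 ^ k = 1 := Units.ext (by
          simpa [Matrix.diagonal_pow] using congrArg (fun X : GL2 => X.1 0 0) hk)
        rw [← hr]
        rcases hunit r k hk' with rfl | rfl <;> simp
    have h8 : 8 ≤ Nat.card (twoPart (e := (-1 : F))) := by
      rw [(card_twoPart (e := (-1 : F)) h2).2]
      calc 8 = 2 ^ 3 := rfl
        _ ≤ _ := Nat.pow_le_pow_right two_pos ((card_arith hodd (Or.inr ⟨rfl, hsq⟩)).2 hsq)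
    have h4 : Nat.card (twoPart (e := (-1 : F))) ≤ 4 := by
      rw [← Nat.card_range_of_injective hf]
      refine (Nat.card_mono (Set.toFinite _) hsub).trans ?_
      rw [Nat.card_coe_set_eq]
      exact (Set.ncard_insert_le _ _).trans (Nat.succ_le_succ ((Set.ncard_insert_le _ _).trans
        (Nat.succ_le_succ ((Set.ncard_insert_le _ _).trans (Nat.succ_le_succ (Set.ncard_singleton _).le)))))
    omega

theorem huniq_proof {e : F} (hodd : Fintype.card F % 2 = 1)
    (he : (e = 1 ∧ IsSquare (-1 : F)) ∨ (e = -1 ∧ ¬ IsSquare (-1 : F))) (g : P3) {c : GL2}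
    (hc : c ∈ syl (e := e)) (hcc : emb g c * emb g c = 1) (hc1 : emb g c ≠ 1)
    (hcom : ∀ y ∈ syl (e := e), emb g c * emb g y = emb g y * emb g c) :
    emb g c = emb g negone := by
  have h2 : (2 : F) ≠ 0 := CfsgLib.Linear.two_ne_zero_of_odd_card (Nat.odd_iff.2 hodd)
  have hcomm : ∀ y ∈ syl (e := e), c * y = y * c := fun y hy =>
    emb_injOn (mul_mem hc hy) (mul_mem hy hc) (by rw [map_mul, map_mul, hcom y hy])
  obtain ⟨a0, ha0, hy0, -⟩ := exists_sq_nonscalar hodd he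
  have hct : c ∈ tor e := mem_tor_of_commute ha0.1 hy0 (hcomm a0 (twoPart_le_syl ha0))
  have hbar : sg * c * sg = c := by
    rw [← hcomm sg sg_mem_syl, mul_assoc, sg_mul_self, mul_one]
  have hy : c.1 1 0 = 0 := by
    have h := (bar_apply c).2.2.1
    rw [hbar] at h
    exact mul_left_cancel₀ h2 (by linear_combination h)
  obtain ⟨r, hr⟩ := eq_scalar hct hy
  have hcc' : c * c = 1 := emb_injOn (mul_mem hc hc) (one_mem _) (by rw [map_mul, hcc, map_one])
  rw [← hr, ← map_mul] at hcc'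
  have hr2 : r * r = 1 := Units.ext (by simpa using congrArg (fun X : GL2 => X.1 0 0) hcc')
  rcases mul_self_eq_one_iff.1 (congrArg Units.val hr2) with h | h
  · exact absurd (by rw [← hr, show r = 1 from Units.ext h, map_one, map_one]) hc1
  · rw [← hr, show r = -1 from Units.ext (by simpa using h)]

theorem hclosed_proof {e : F} (hodd : Fintype.card F % 2 = 1)
    (he : (e = 1 ∧ IsSquare (-1 : F)) ∨ (e = -1 ∧ ¬ IsSquare (-1 : F))) (g : P3) (T : Subgroup P3)
    (hz : emb g negone ∈ T)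
    (hcl : ∀ b ∈ syl (e := e), ∀ a : GL2, emb g a ∈ T → (∃ k, k * emb g a * k⁻¹ = emb g b) → emb g b ∈ T) :
    ∀ c ∈ syl (e := e), emb g c ∈ T := by
  have h2 : (2 : F) ≠ 0 := CfsgLib.Linear.two_ne_zero_of_odd_card (Nat.odd_iff.2 hodd)
  have hgl : ∀ (U a b : GL2), b ∈ syl (e := e) → emb g a ∈ T → U * a = b * U → emb g b ∈ T :=
    fun U a b hb ha hU => hcl b hb a ha ⟨emb g U, by
      rw [← map_mul, hU, map_mul, mul_inv_cancel_right]⟩
  have hsg : emb g sg ∈ T := hcl sg sg_mem_syl negone hz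
    (emb_conj_of ⟨!![0, 1, 0; -1, 0, 0; 0, 0, 1], by rw [det_fin_three]; simp⟩ (by
      rw [blk_diag, blk_coe]
      ext i j
      fin_cases i <;> fin_cases j <;>
        simp [Matrix.mul_apply, Fin.sum_univ_three, sg_val, det_fin_two]))
  have hdet1 : ∀ a ∈ twoPart (e := e), a.1.det = 1 → emb g a ∈ T := by
    intro a ha hd
    rw [det_eq ha.1] at hd
    by_cases hx : a.1 0 0 = -1
    · have hy : a.1 1 0 = 0 := by
        have : e * (a.1 1 0 * a.1 1 0) = 0 := by rw [hx] at hd; linear_combination -hd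
        rcases mul_eq_zero.1 this with h | h
        · rcases he with ⟨rfl, -⟩ | ⟨rfl, -⟩ <;> simp at h
        · exact mul_self_eq_zero.1 h
      have : a = negone := by apply gl_ext <;> simp [hx, hy, ← ha.1.1, ha.1.2]
      rwa [this]
    · have hU : (1 + a.1 0 0) ^ 2 - e * a.1 1 0 ^ 2 ≠ 0 := by
        rw [show (1 + a.1 0 0) ^ 2 - e * a.1 1 0 ^ 2 = 2 * (1 + a.1 0 0) by linear_combination hd]
        exact mul_ne_zero h2 fun h => hx (by linear_combination h)
      have hM : a * sg ∈ syl (e := e) := Or.inr (by rwa [mul_assoc, sg_mul_self, mul_one])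
      have h := hgl (mk e (1 + a.1 0 0) (a.1 1 0) hU) sg (a * sg) hM hsg (by
        apply gl_ext <;>
          simp [CfsgLib.Fusion.TorusGLTwo.mul_apply, mk_val, sg_val, ← ha.1.1, ha.1.2] <;>
          first | ring1 | linear_combination hd | linear_combination -hd)
      rw [show a = a * sg * sg by rw [mul_assoc, sg_mul_self, mul_one], map_mul]
      exact T.mul_mem h hsg
  suffices hA : ∀ a ∈ twoPart (e := e), emb g a ∈ T by
    rintro c (hc | hc)
    · exact hA c hc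
    · rw [show c = c * sg * sg by rw [mul_assoc, sg_mul_self, mul_one], map_mul]
      exact T.mul_mem (hA _ hc) hsg
  intro a ha
  rcases he with ⟨rfl, hsq⟩ | ⟨rfl, hsq⟩
  · obtain ⟨p, hp, -, -⟩ := eq_spl h2 ha.1
    obtain ⟨k, hk⟩ := ha.2
    rw [hp] at hk
    have hpk := pow_eq_one_of_spl h2 p _ hk
    have key : ∀ x : Fˣ, x ^ 2 ^ k = 1 →
        emb g (spl h2 (x, 1)) ∈ T ∧ emb g (spl h2 (1, x)) ∈ T := by
      intro x hx
      have hA : ∀ y z : Fˣ, y ^ 2 ^ k = 1 → z ^ 2 ^ k = 1 → spl h2 (y, z) ∈ twoPart (e := (1 : F)) :=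
        fun y z hy hz => ⟨spl_mem h2 _, k, by rw [← map_pow, Prod.pow_mk, hy, hz]; exact map_one _⟩
      have h1 : emb g (spl h2 (x, x⁻¹)) ∈ T := by
        refine hdet1 _ (hA x x⁻¹ hx (by rw [inv_pow, hx, inv_one])) ?_
        rw [det_eq (spl_mem h2 _)]
        have h := spl_add_sub h2 (x, x⁻¹)
        calc _ = ((spl h2 (x, x⁻¹)).1 0 0 + (spl h2 (x, x⁻¹)).1 1 0) *
              ((spl h2 (x, x⁻¹)).1 0 0 - (spl h2 (x, x⁻¹)).1 1 0) := by ring
          _ = 1 := by rw [h.1, h.2]; simp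
      obtain ⟨w, hw⟩ := emb_conj_of (g := g) (a := dia (x, x⁻¹)) (b := dia (x, 1))
        ⟨!![0, 0, 1; 0, 1, 0; -1, 0, 0], by rw [det_fin_three]; simp⟩ (by
          rw [blk_coe, blk_coe]
          ext i j
          fin_cases i <;> fin_cases j <;> simp [Matrix.mul_apply, Fin.sum_univ_three, dia, det_fin_two])
      have h3 : emb g (spl h2 (x, 1)) ∈ T := by
        refine hcl _ (twoPart_le_syl (hA x 1 hx (one_pow _))) _ h1
          ⟨emb g (U1 h2) * w * (emb g (U1 h2))⁻¹, ?_⟩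
        show _ * emb g (U1 h2 * dia (x, x⁻¹) * (U1 h2)⁻¹) * _ = emb g (U1 h2 * dia (x, 1) * (U1 h2)⁻¹)
        rw [map_mul, map_mul, map_mul, map_mul, ← hw, map_inv]
        group
      refine ⟨h3, hgl sg _ _ (twoPart_le_syl (hA 1 x (one_pow _) hx)) h3 ?_⟩
      rw [← bar_spl h2 (x, 1), mul_assoc _ sg sg, sg_mul_self, mul_one]
    rw [hp, show p = (p.1, 1) * (1, p.2) by simp, map_mul, map_mul]
    exact T.mul_mem (key p.1 (congrArg Prod.fst hpk)).1 (key p.2 (congrArg Prod.snd hpk)).2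
  · have hq : Fintype.card F % 4 = 3 := by
      by_contra h
      exact hsq (FiniteField.isSquare_neg_one_iff.2 h)
    obtain ⟨k, hk⟩ := ha.2
    set d := GeneralLinearGroup.det a with hd
    have hdk : d ^ 2 ^ k = 1 := by rw [hd, ← map_pow, hk, map_one]
    have h1 : orderOf d ∣ Fintype.card F - 1 := by
      rw [← Nat.card_eq_fintype_card, ← Nat.card_units]; exact orderOf_dvd_natCard d
    obtain ⟨j, -, hj⟩ := (Nat.dvd_prime_pow Nat.prime_two).1 (orderOf_dvd_of_pow_eq_one hdk)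
    rw [hj] at h1
    have hj1 : j ≤ 1 := by
      by_contra hj2
      have := (Nat.pow_dvd_pow 2 (show 2 ≤ j by omega)).trans h1
      omega
    have hd2 : d * d = 1 := by
      rw [← pow_two]
      exact orderOf_dvd_iff_pow_eq_one.1 (by rw [hj]; simpa using Nat.pow_dvd_pow 2 hj1)
    rcases mul_self_eq_one_iff.1 (congrArg Units.val hd2) with h | h
    · exact hdet1 a ha h
    · have hdet : a.1.det = -1 := h
      rw [det_eq ha.1] at hdet
      have hy : a.1 1 0 ≠ 0 := fun h0 => by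
        rw [h0] at hdet
        exact hsq ⟨a.1 0 0, by linear_combination -hdet⟩
      have hJ : emb g (mk (-1 : F) 0 1 (by simp)) ∈ T := by
        refine hdet1 _ ⟨mk_mem _ _ _, 2, ?_⟩ (by simp [mk_val, det_fin_two])
        rw [show (2 : ℕ) ^ 2 = 2 * 2 from rfl, pow_mul, pow_two, pow_two]
        apply gl_ext <;> simp [CfsgLib.Fusion.TorusGLTwo.mul_apply, mk_val]
      have hM : a * sg ∈ syl (e := (-1 : F)) := Or.inr (by rwa [mul_assoc, sg_mul_self, mul_one])
      have h := hgl (GeneralLinearGroup.mkOfDetNeZero !![1, a.1 0 0; 0, a.1 1 0]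
          (by rw [det_fin_two_of]; simpa using hy)) _ (a * sg) hM hJ (by
        apply gl_ext <;>
          simp [CfsgLib.Fusion.TorusGLTwo.mul_apply, mk_val, sg_val, ← ha.1.1, ha.1.2] <;>
          first | ring1 | linear_combination hdet | linear_combination -hdet)
      rw [show a = a * sg * sg by rw [mul_assoc, sg_mul_self, mul_one], map_mul]
      exact T.mul_mem h hsg

omit [Fintype F] in
theorem commute_sg_of_pow {e : F} {b c : GL2} {m k : ℕ} {r : Fˣ} (hb : b ∈ tor e) (hbm : b ^ m = 1)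
    (hm : ¬ 2 ∣ m) (hc : c ∈ tor e) (hck : c ^ 2 ^ k = 1) (hr : r ^ 3 = 1)
    (h : b * (sg * b⁻¹ * sg) = GeneralLinearGroup.scalar (Fin 2) r * c) :
    sg * b⁻¹ * sg = b⁻¹ := by
  have hv : (b * (sg * b⁻¹ * sg)) ^ m = 1 := by
    rw [(show Commute b _ from tor_comm hb (bar_mem (inv_mem hb))).mul_pow, hbm, one_mul]
    conv_lhs => arg 1; arg 2; rw [← sg_inv]
    rw [conj_pow, inv_pow, hbm, inv_one, mul_one, mul_inv_cancel]
  have hdv : GeneralLinearGroup.det (b * (sg * b⁻¹ * sg)) = 1 := by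
    rw [map_mul, map_mul, map_mul, map_inv,
      mul_comm (GeneralLinearGroup.det sg) (GeneralLinearGroup.det b)⁻¹, mul_assoc _⁻¹, ← map_mul,
      sg_mul_self, map_one, mul_one, mul_inv_cancel]
  have hr2 : (r * r) ^ 2 ^ k = 1 := by
    have h1 : GeneralLinearGroup.det (GeneralLinearGroup.scalar (Fin 2) r) = r * r := by
      apply Units.ext; simp [det_fin_two, pow_two]
    have h' := congrArg (fun X => GeneralLinearGroup.det X ^ 2 ^ k) h
    simp only [hdv, one_pow, map_mul, mul_pow, h1, ← map_pow, hck, map_one, mul_one] at h'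
    rw [mul_pow]
    exact h'.symm
  have hr1 : r = 1 := by
    rw [← pow_two, ← pow_mul] at hr2
    have h3 := Nat.dvd_gcd (orderOf_dvd_of_pow_eq_one hr2) (orderOf_dvd_of_pow_eq_one hr)
    rw [Nat.Coprime.gcd_eq_one (by rw [← pow_succ']; exact Nat.Coprime.pow_left _ (by norm_num)),
      Nat.dvd_one, orderOf_eq_one_iff] at h3
    exact h3
  rw [hr1, map_one, one_mul] at h
  have h3 := Nat.dvd_gcd (orderOf_dvd_of_pow_eq_one hv) (orderOf_dvd_of_pow_eq_one (h ▸ hck))
  rw [Nat.Coprime.gcd_eq_one (Nat.Coprime.pow_right k (Nat.coprime_comm.1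
      ((Nat.prime_two.coprime_iff_not_dvd).2 hm))), Nat.dvd_one, orderOf_eq_one_iff] at h3
  exact (inv_eq_of_mul_eq_one_right h3).symm

theorem haut_proof {e : F} (hodd : Fintype.card F % 2 = 1)
    (he : (e = 1 ∧ IsSquare (-1 : F)) ∨ (e = -1 ∧ ¬ IsSquare (-1 : F))) (g : P3) (h : GL2)
    (hN : ∀ c ∈ syl (e := e), ∃ d ∈ syl (e := e), emb g (h * c * h⁻¹) = emb g d) :
    ∃ s ∈ syl (e := e), ∀ c ∈ syl (e := e), emb g (h * c * h⁻¹) = emb g (s * c * s⁻¹) := by
  have h2 : (2 : F) ≠ 0 := CfsgLib.Linear.two_ne_zero_of_odd_card (Nat.odd_iff.2 hodd)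
  have hlift : ∀ h : GL2, (∀ c ∈ syl (e := e), ∃ d ∈ syl (e := e), emb g (h * c * h⁻¹) = emb g d) →
      ∀ c ∈ syl (e := e), ∃ r : Fˣ, r ^ 3 = 1 ∧ ∃ d ∈ syl (e := e),
        h * c * h⁻¹ = GeneralLinearGroup.scalar (Fin 2) r * d := by
    intro h hN c hc
    obtain ⟨d, hd, hcd⟩ := hN c hc
    obtain ⟨r, hr, hrd⟩ := emb_ker (g := g) (h := h * c * h⁻¹ * d⁻¹)
      (by rw [map_mul, map_inv, hcd, mul_inv_cancel])
    exact ⟨r, hr, d, hd, by rw [hrd, inv_mul_cancel_right]⟩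
  obtain ⟨a, ha, hy, hy2⟩ := exists_sq_nonscalar hodd he
  obtain ⟨r, -, d, hd, hhd⟩ := hlift h hN a (twoPart_le_syl ha)
  have hM : h * a * h⁻¹ ∈ tor e := by
    rw [hhd]
    rcases hd with hd | hd
    · exact mul_mem (scalar_mem r) hd.1
    · exfalso
      have hsq : (h * a * h⁻¹) * (h * a * h⁻¹) =
          GeneralLinearGroup.scalar (Fin 2) (r * r * GeneralLinearGroup.det (d * sg)) := by
        rw [hhd, (show Commute d (GeneralLinearGroup.scalar (Fin 2) r) from (GeneralLinearGroup.scalar_commute r d).symm).mul_mul_mul_comm, map_mul, map_mul]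
        have h1 := mul_sg_sq hd.1
        rw [mul_assoc d sg sg, sg_mul_self, mul_one] at h1
        rw [h1]
      have hsc : a * a = GeneralLinearGroup.scalar (Fin 2) (r * r * GeneralLinearGroup.det (d * sg)) := by
        calc a * a = h⁻¹ * ((h * a * h⁻¹) * (h * a * h⁻¹)) * h := by group
          _ = _ := by rw [hsq, ← GeneralLinearGroup.scalar_commute _ h⁻¹, inv_mul_cancel_right]
      exact hy2 (by rw [hsc]; simp)
  have hMa : h * a * h⁻¹ = a ∨ h * a * h⁻¹ = sg * a * sg := by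
    set M := h * a * h⁻¹ with hMdef
    have ht : M.1 0 0 + M.1 1 1 = a.1 0 0 + a.1 1 1 := by
      rw [← trace_fin_two, ← trace_fin_two, hMdef, Units.val_mul, Units.val_mul]
      exact Matrix.trace_units_conj h a.1
    have hdd : M.1.det = a.1.det := by
      rw [hMdef, Units.val_mul, Units.val_mul]
      exact Matrix.det_units_conj h a.1
    rw [← hM.1, ← ha.1.1] at ht
    have hx : M.1 0 0 = a.1 0 0 := mul_left_cancel₀ h2 (by linear_combination ht)
    rw [det_eq hM, det_eq ha.1, hx] at hdd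
    have he0 : e ≠ 0 := by rcases he with ⟨rfl, -⟩ | ⟨rfl, -⟩ <;> simp
    obtain ⟨h00, h01, h10, h11⟩ := bar_apply a
    rcases mul_self_eq_mul_self_iff.1 (show M.1 1 0 * M.1 1 0 = a.1 1 0 * a.1 1 0 from
        mul_left_cancel₀ he0 (by linear_combination -hdd)) with h' | h'
    · exact Or.inl (gl_ext hx (by rw [hM.2, ha.1.2, h']) h' (by rw [← hM.1, ← ha.1.1, hx]))
    · exact Or.inr (gl_ext (by rw [hx, h00]) (by rw [hM.2, h01, ha.1.2, h']; ring) (by rw [h', h10])
        (by rw [← hM.1, h11, ← ha.1.1, hx]))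
  suffices key : ∀ h : GL2, (∀ c ∈ syl (e := e), ∃ d ∈ syl (e := e), emb g (h * c * h⁻¹) = emb g d) →
      h * a * h⁻¹ = a →
      ∃ s ∈ syl (e := e), ∀ c ∈ syl (e := e), emb g (h * c * h⁻¹) = emb g (s * c * s⁻¹) by
    rcases hMa with hM1 | hM1
    · exact key h hN hM1
    · obtain ⟨s, hs, hsc⟩ := key (sg * h) (fun c hc => by
        obtain ⟨d, hd, hcd⟩ := hN c hc
        refine ⟨sg * d * sg⁻¹, mul_mem (mul_mem sg_mem_syl hd) (inv_mem sg_mem_syl), ?_⟩
        rw [show sg * h * c * (sg * h)⁻¹ = sg * (h * c * h⁻¹) * sg⁻¹ by group, map_mul, map_mul,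
          hcd, map_mul, map_mul]) (by
        rw [show sg * h * a * (sg * h)⁻¹ = sg * (h * a * h⁻¹) * sg⁻¹ by group, hM1, sg_inv,
          show sg * (sg * a * sg) * sg = sg * sg * a * (sg * sg) by group, sg_mul_self, one_mul, mul_one])
      refine ⟨sg * s, mul_mem sg_mem_syl hs, fun c hc => ?_⟩
      rw [show h * c * h⁻¹ = sg * (sg * h * c * (sg * h)⁻¹) * sg⁻¹ by
        calc h * c * h⁻¹ = (sg * sg) * h * c * h⁻¹ * (sg⁻¹ * sg⁻¹) := by
              rw [sg_inv, sg_mul_self]; group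
          _ = _ := by group,
        show sg * s * c * (sg * s)⁻¹ = sg * (s * c * s⁻¹) * sg⁻¹ by group, map_mul, map_mul, hsc c hc]
      simp only [map_mul, map_inv]
  clear hMa hM hhd hN h
  intro h hN hfix
  have hh : h ∈ tor e := mem_tor_of_commute ha.1 hy (mul_inv_eq_iff_eq_mul.1 hfix)
  obtain ⟨k, m, hm, hord⟩ := Nat.exists_eq_pow_mul_and_not_dvd (orderOf_pos h).ne' 2 (by norm_num)
  obtain ⟨u, v, huv⟩ : IsCoprime ((2 ^ k : ℕ) : ℤ) (m : ℤ) :=
    Nat.isCoprime_iff_coprime.2 (Nat.Coprime.pow_left k ((Nat.prime_two.coprime_iff_not_dvd).2 hm))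
  set a' := h ^ (v * (m : ℤ)) with ha'
  set b := h ^ (u * ((2 ^ k : ℕ) : ℤ)) with hbdef
  have hab : h = a' * b := by
    rw [ha', hbdef, ← _root_.zpow_add, add_comm, huv, _root_.zpow_one]
  have hn : h ^ ((2 ^ k * m : ℕ) : ℤ) = 1 := by
    rw [← hord, _root_.zpow_natCast, pow_orderOf_eq_one]
  have ha'k : a' ^ 2 ^ k = 1 := by
    rw [ha', ← _root_.zpow_natCast, ← _root_.zpow_mul,
      show v * (m : ℤ) * ((2 ^ k : ℕ) : ℤ) = ((2 ^ k * m : ℕ) : ℤ) * v by push_cast; ring,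
      _root_.zpow_mul, hn, _root_.one_zpow]
  have hbm : b ^ m = 1 := by
    rw [hbdef, ← _root_.zpow_natCast, ← _root_.zpow_mul,
      show u * ((2 ^ k : ℕ) : ℤ) * (m : ℤ) = ((2 ^ k * m : ℕ) : ℤ) * u by push_cast; ring,
      _root_.zpow_mul, hn, _root_.one_zpow]
  have ha'A : a' ∈ twoPart (e := e) := ⟨Subgroup.zpow_mem _ hh _, k, ha'k⟩
  have hbt : b ∈ tor e := Subgroup.zpow_mem _ hh _
  obtain ⟨r, hr, d, hd, hhd⟩ := hlift h hN sg sg_mem_syl
  have hdA : d * sg ∈ twoPart (e := e) := by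
    refine hd.resolve_left fun hd => sg_not_mem (e := e) h2 ?_
    have h1 : (sg : GL2) = h⁻¹ * (GeneralLinearGroup.scalar (Fin 2) r * d) * h := by rw [← hhd]; group
    rw [h1]
    exact mul_mem (mul_mem (inv_mem hh) (mul_mem (scalar_mem r) hd.1)) hh
  have hc'' : a'⁻¹ * (d * sg) * (sg * a' * sg) ∈ twoPart (e := e) :=
    mul_mem (mul_mem (inv_mem ha'A) hdA) (bar_twoPart ha'A)
  obtain ⟨k', hk'⟩ := hc''.2
  have heq : b * (sg * b⁻¹ * sg) =
      GeneralLinearGroup.scalar (Fin 2) r * (a'⁻¹ * (d * sg) * (sg * a' * sg)) := by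
    have h1 : GeneralLinearGroup.scalar (Fin 2) r * d = a' * (b * sg * b⁻¹) * a'⁻¹ := by
      rw [← hhd, hab]; group
    calc b * (sg * b⁻¹ * sg) = a'⁻¹ * (a' * (b * sg * b⁻¹) * a'⁻¹) * a' * sg := by group
      _ = a'⁻¹ * (GeneralLinearGroup.scalar (Fin 2) r * d) * a' * sg := by rw [h1]
      _ = GeneralLinearGroup.scalar (Fin 2) r * (a'⁻¹ * d * (sg * sg) * a' * sg) := by
          rw [← mul_assoc a'⁻¹, ← GeneralLinearGroup.scalar_commute r a'⁻¹, sg_mul_self]
          group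
      _ = _ := by group
  have hb := commute_sg_of_pow hbt hbm hm hc''.1 hk' hr heq
  have hcomm : ∀ c ∈ syl (e := e), b * c * b⁻¹ = c := by
    have htc : ∀ c ∈ tor e, b * c * b⁻¹ = c := fun c hc => by
      rw [tor_comm hbt hc, mul_inv_cancel_right]
    have hsgb : b * sg * b⁻¹ = sg := by
      calc b * sg * b⁻¹ = b * (sg * b⁻¹ * sg) * sg⁻¹ := by group
        _ = sg := by rw [hb, mul_inv_cancel, one_mul, sg_inv]
    rintro c (hc | hc)
    · exact htc c hc.1
    · calc b * c * b⁻¹ = b * (c * sg * sg) * b⁻¹ := by rw [mul_assoc c, sg_mul_self, mul_one]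
        _ = b * (c * sg) * b⁻¹ * (b * sg * b⁻¹) := by group
        _ = c := by rw [htc _ hc.1, hsgb, mul_assoc, sg_mul_self, mul_one]
  refine ⟨a', twoPart_le_syl ha'A, fun c hc => ?_⟩
  rw [hab, show a' * b * c * (a' * b)⁻¹ = a' * (b * c * b⁻¹) * a'⁻¹ by group, hcomm c hc]

/-- For a finite field F of odd order, the 2-fusion system of PSL(3,F) on a Sylow 2-subgroup (semidihedral or wreathed according as |F| ≡ 3 or 1 mod 4) is simple. -/
theorem result {F : Type*} [Field F] [Fintype F] (hodd : Fintype.card F % 2 = 1) (S : Sylow 2 (Matrix.ProjectiveSpecialLinearGroup (Fin 3) F)) :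
    (Cfsg.groupFusionSystem (S : Subgroup (Matrix.ProjectiveSpecialLinearGroup (Fin 3) F))).IsSimple 2 := by
  classical
  have : Fact (Nat.Prime 2) := ⟨Nat.prime_two⟩
  have h2 : (2 : F) ≠ 0 := CfsgLib.Linear.two_ne_zero_of_odd_card (Nat.odd_iff.2 hodd)
  obtain ⟨e, he⟩ : ∃ e : F, (e = 1 ∧ IsSquare (-1 : F)) ∨ (e = -1 ∧ ¬ IsSquare (-1 : F)) := by
    by_cases h : IsSquare (-1 : F)
    exacts [⟨1, Or.inl ⟨rfl, h⟩⟩, ⟨-1, Or.inr ⟨rfl, h⟩⟩]
  obtain ⟨g, hg⟩ := exists_emb_sylow hodd he S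
  have hmem : ∀ x, x ∈ S ↔ ∃ c ∈ CfsgLib.Fusion.TorusGLTwo.syl (e := e), emb g c = x := fun x => by
    show x ∈ (S : Subgroup _) ↔ _
    rw [hg, Subgroup.mem_map]
  have hneg := CfsgLib.Fusion.TorusGLTwo.twoPart_le_syl (negone_mem e)
  refine CfsgLib.Fusion.TwoSimple.isSimple_of_central_involution S
    (emb g (Matrix.GeneralLinearGroup.scalar (Fin 2) (-1 : Fˣ))) ((hmem _).2 ⟨_, hneg, rfl⟩)
    ?_ ?_ ?_ ?_ ?_ ?_
  · intro h
    have h' := emb_injOn hneg (one_mem _) (h.trans (map_one _).symm)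
    have := congrArg (fun X : GL (Fin 2) F => X.1 0 0) h'
    simp at this
    exact h2 (by linear_combination -this)
  · rw [← map_mul, ← map_mul, neg_one_mul, neg_neg, map_one, map_one]
  · intro y hy
    obtain ⟨c, -, rfl⟩ := (hmem y).1 hy
    exact ((show Commute (Matrix.GeneralLinearGroup.scalar (Fin 2) (-1 : Fˣ)) c from Matrix.GeneralLinearGroup.scalar_commute (-1 : Fˣ) c).map (emb g)).eq
  · intro x hx hxx hx1 hxc
    obtain ⟨c, hc, rfl⟩ := (hmem x).1 hx
    exact huniq_proof hodd he g hc hxx hx1 fun y hy => hxc _ ((hmem _).2 ⟨y, hy, rfl⟩)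
  · intro T _ hzT hT x hx
    obtain ⟨c, hc, rfl⟩ := (hmem x).1 hx
    refine hclosed_proof hodd he g T hzT (fun b hb a ha ⟨k, hk⟩ => ?_) c hc
    exact hk ▸ hT _ ha k ((hmem _).2 ⟨b, hb, hk.symm⟩)
  · intro x hxz hxS
    obtain ⟨h, rfl⟩ := exists_emb_eq h2 hxz
    obtain ⟨s, hs, hsc⟩ := haut_proof hodd he g h fun c hc => by
      obtain ⟨d, hd, hdc⟩ := (hmem _).1 (hxS _ ((hmem _).2 ⟨c, hc, rfl⟩))
      exact ⟨d, hd, by rw [hdc, map_mul, map_mul, map_inv]⟩
    refine ⟨_, (hmem _).2 ⟨s, hs, rfl⟩, fun y hy => ?_⟩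
    obtain ⟨c, hc, rfl⟩ := (hmem y).1 hy
    rw [← map_inv, ← map_mul, ← map_mul, hsc c hc, map_mul, map_mul, map_inv]

end Cfsg.Agent.S5318
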