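import Cfsg.Statements.S5319
import Cfsg.Agent.S5318
import Cfsg.Agent.Lib.Fusion.TorusGUTwo
import Cfsg.Agent.Lib.SylowU3.Model
import Cfsg.Agent.Lib.Classical.Herm.Apps

set_option autoImplicit false
open Cfsg

namespace Cfsg.Agent.S5319

open Matrix
open CfsgLib.Fusion.TorusGLTwo CfsgLib.Fusion.TorusGUTwo CfsgLib.TwoFusion.PSLThreeInvolution
open CfsgLib.Classical.Herm (qPow qPow_apply qPow_qPow)

set_option linter.unusedSectionVars false

section

variable {F : Type*} [Field F] [Fintype F] {q : ℕ} (hq : Fintype.card F = q ^ 2)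

local notation "GL2" => GL (Fin 2) F
local notation "P3" => Cfsg.PSU 3 F q

/-- `GU₂`. -/
abbrev U2 := ↥(unitary (qPow hq) : Subgroup (GL (Fin 2) F))

include hq

theorem mem_SU_iff (M : Matrix.SpecialLinearGroup (Fin 3) F) :
    M ∈ Cfsg.SU 3 F q ↔
      (M : Matrix (Fin 3) (Fin 3) F)ᵀ * (M : Matrix (Fin 3) (Fin 3) F).map (qPow hq) = 1 :=
  CfsgLib.SylowU3.mem_SU3_iff _ q (qPow_apply hq) M

theorem blk_mem_SU (A : (U2 hq)) : (blk (A : GL2) : Matrix.SpecialLinearGroup (Fin 3) F) ∈ Cfsg.SU 3 F q := by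
  rw [mem_SU_iff hq]
  obtain ⟨⟨h1, h2⟩, h3, h4⟩ := mem_unitary.1 A.2
  have hd := det_norm A.2
  have hd' : ((A : GL2).1.det)⁻¹ * qPow hq ((A : GL2).1.det)⁻¹ = 1 := by
    rw [map_inv₀, ← mul_inv, hd, inv_one]
  simp only [det_fin_two, qPow_apply, inv_pow] at hd'
  simp only [qPow_apply] at h1 h2 h3 h4
  ext i j
  fin_cases i <;> fin_cases j <;>
    simp [blk_coe, Matrix.mul_apply, Fin.sum_univ_three, det_fin_two, zero_pow, h1, h2, h3, h4, hd',
      (show q ≠ 0 by have := CfsgLib.Classical.Herm.two_le_of_card hq; omega)]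

/-- The block embedding of `GU₂` in `SU₃`. -/
def blkU : (U2 hq) →* Cfsg.SU 3 F q :=
  (blk.comp (unitary (qPow hq)).subtype).codRestrict _ (blk_mem_SU hq)

theorem blkU_coe (A : (U2 hq)) : (blkU hq A : Matrix.SpecialLinearGroup (Fin 3) F) = blk (A : GL2) := rfl

/-- The conjugated block embedding. -/
def emb (g : P3) : (U2 hq) →* P3 :=
  (MulAut.conj g).toMonoidHom.comp ((QuotientGroup.mk' _).comp (blkU hq))

theorem emb_apply (g : P3) (h : (U2 hq)) :
    emb hq g h = g * QuotientGroup.mk' (Subgroup.center (Cfsg.SU 3 F q)) (blkU hq h) * g⁻¹ := rfl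

/-- `−1` in `GU₂`. -/
def nu : (U2 hq) := ⟨GeneralLinearGroup.scalar (Fin 2) (-1 : Fˣ), CfsgLib.Fusion.TorusGUTwo.negone_mem⟩

/-- The reflection in `GU₂`. -/
def su : (U2 hq) := ⟨sg, sg_mem⟩

theorem nu_sq : nu hq * nu hq = 1 := Subtype.ext (by
  show GeneralLinearGroup.scalar (Fin 2) (-1 : Fˣ) * GeneralLinearGroup.scalar (Fin 2) (-1 : Fˣ) = (1 : GL2)
  rw [← map_mul, neg_one_mul, neg_neg, map_one])

omit hq in
/-- A signed permutation. -/
def W01 : Matrix.SpecialLinearGroup (Fin 3) F :=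
  ⟨!![0, 1, 0; -1, 0, 0; 0, 0, 1], by rw [det_fin_three]; simp⟩

theorem W01_mem : (W01 : Matrix.SpecialLinearGroup (Fin 3) F) ∈ Cfsg.SU 3 F q := by
  rw [mem_SU_iff hq]
  ext i j
  fin_cases i <;> fin_cases j <;> simp [W01, Matrix.mul_apply, Fin.sum_univ_three, -qPow_apply]

omit hq in
/-- A signed permutation. -/
def W02 : Matrix.SpecialLinearGroup (Fin 3) F :=
  ⟨!![0, 0, 1; 0, 1, 0; -1, 0, 0], by rw [det_fin_three]; simp⟩

theorem W02_mem : (W02 : Matrix.SpecialLinearGroup (Fin 3) F) ∈ Cfsg.SU 3 F q := by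
  rw [mem_SU_iff hq]
  ext i j
  fin_cases i <;> fin_cases j <;> simp [W02, Matrix.mul_apply, Fin.sum_univ_three, -qPow_apply]

/-- The centre of `SU₃` consists of scalars. -/
theorem center_scalar (h2 : (2 : F) ≠ 0) {c : Cfsg.SU 3 F q} (hc : c ∈ Subgroup.center (Cfsg.SU 3 F q)) :
    ∃ r : F, r ^ 3 = 1 ∧ Matrix.scalar (Fin 3) r = c.1.1 := by
  have hcomm : ∀ X : Cfsg.SU 3 F q, X.1.1 * c.1.1 = c.1.1 * X.1.1 := fun X => by
    rw [← Matrix.SpecialLinearGroup.coe_mul, ← Matrix.SpecialLinearGroup.coe_mul]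
    exact congrArg (fun Y : Cfsg.SU 3 F q => Y.1.1) (Subgroup.mem_center_iff.1 hc X)
  have k1 := hcomm (blkU hq (nu hq))
  have k2 := hcomm (blkU hq (su hq))
  have k3 := hcomm ⟨_, W01_mem hq⟩
  have k4 := hcomm ⟨_, W02_mem hq⟩
  rw [blkU_coe] at k1 k2
  rw [← Matrix.ext_iff] at k1 k2 k3 k4
  have hz : ∀ x : F, -x = x → x = 0 := fun x hx =>
    (mul_eq_zero.mp (show (2 : F) * x = 0 by linear_combination -hx)).resolve_left h2
  have a01 := k1 0 1
  have a02 := k1 0 2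
  have a10 := k1 1 0
  have a20 := k1 2 0
  have a12 := k2 1 2
  have a21 := k2 2 1
  have a00 := k3 0 1
  have a22 := k4 0 2
  simp [blk_coe, nu, su, W01, W02, sg_val, Matrix.mul_apply, Fin.sum_univ_three, det_fin_two] at a01 a02 a10 a20 a12 a21 a00 a22
  have e01 : c.1.1 0 1 = 0 := hz _ (by linear_combination -a01)
  have e02 : c.1.1 0 2 = 0 := hz _ (by linear_combination -a02)
  have e10 : c.1.1 1 0 = 0 := hz _ (by linear_combination a10)
  have e20 : c.1.1 2 0 = 0 := hz _ (by linear_combination a20)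
  have e12 : c.1.1 1 2 = 0 := hz _ (by linear_combination -a12)
  have e21 : c.1.1 2 1 = 0 := hz _ (by linear_combination a21)
  have e11 : c.1.1 1 1 = c.1.1 0 0 := by linear_combination a00
  have e22 : c.1.1 2 2 = c.1.1 0 0 := by linear_combination a22
  have hd := c.1.2
  rw [det_fin_three, e01, e02, e10, e20, e12, e21, e11, e22] at hd
  refine ⟨c.1.1 0 0, by linear_combination hd, ?_⟩
  ext i j
  fin_cases i <;> fin_cases j <;> simp [e01, e02, e10, e20, e12, e21, e11, e22]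

theorem emb_ker (h2 : (2 : F) ≠ 0) {g : P3} {h : (U2 hq)} (hh : emb hq g h = 1) :
    ∃ r : Fˣ, r ^ 3 = 1 ∧ GeneralLinearGroup.scalar (Fin 2) r = (h : GL2) := by
  rw [emb_apply, conj_eq_one_iff, QuotientGroup.mk'_apply, QuotientGroup.eq_one_iff] at hh
  obtain ⟨r, hr, hrh⟩ := center_scalar hq h2 hh
  rw [blkU_coe] at hrh
  have hr0 : r ≠ 0 := by rintro rfl; simp at hr
  refine ⟨Units.mk0 r hr0, Units.ext (by simpa using hr), ?_⟩
  have e11 := congrFun (congrFun hrh 1) 1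
  have e12 := congrFun (congrFun hrh 1) 2
  have e21 := congrFun (congrFun hrh 2) 1
  have e22 := congrFun (congrFun hrh 2) 2
  simp [blk_coe] at e11 e12 e21 e22
  apply gl_ext <;> simp [← e11, ← e12, ← e21, ← e22]

/-- The Sylow `2`-subgroup of `GU₂`. -/
def sylU (e : F) : Subgroup (U2 hq) := (syl (e := e)).subgroupOf (unitary (qPow hq))

theorem emb_injOn (h2 : (2 : F) ≠ 0) {e : F} {g : P3} {a b : (U2 hq)} (ha : a ∈ sylU hq e) (hb : b ∈ sylU hq e)
    (h : emb hq g a = emb hq g b) : a = b := by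
  have h1 : emb hq g (a⁻¹ * b) = 1 := by rw [map_mul, map_inv, h, inv_mul_cancel]
  obtain ⟨r, hr, hrh⟩ := emb_ker hq h2 h1
  have hr1 := scalar_eq_one_of_mem (e := e) hr (by rw [hrh]; exact mul_mem (inv_mem ha) hb)
  rw [hr1, map_one] at hrh
  exact inv_mul_eq_one.1 (Subtype.ext hrh.symm)

theorem emb_conj_of {g : P3} {a b : (U2 hq)} (W : Cfsg.SU 3 F q)
    (h : W.1.1 * (blk (a : GL2) : Matrix.SpecialLinearGroup (Fin 3) F).1 =
      (blk (b : GL2) : Matrix.SpecialLinearGroup (Fin 3) F).1 * W.1.1) :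
    ∃ k, k * emb hq g a * k⁻¹ = emb hq g b := by
  have hW : W * blkU hq a * W⁻¹ = blkU hq b :=
    mul_inv_eq_iff_eq_mul.2 (Subtype.ext (Subtype.ext h))
  refine ⟨g * QuotientGroup.mk' _ W * g⁻¹, ?_⟩
  rw [emb_apply, emb_apply, ← hW, map_mul, map_mul, map_inv]
  group

theorem exists_emb_eq (h2 : (2 : F) ≠ 0) {g x : P3}
    (h : x * emb hq g (nu hq) = emb hq g (nu hq) * x) : ∃ h, emb hq g h = x := by
  set π := QuotientGroup.mk' (Subgroup.center (Cfsg.SU 3 F q)) with hπ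
  set Z := blkU hq (nu hq) with hZ
  obtain ⟨G0, hG0⟩ := QuotientGroup.mk'_surjective
    (Subgroup.center (Cfsg.SU 3 F q)) (g⁻¹ * x * g)
  have hc : π G0 * π Z = π Z * π G0 := by
    rw [hπ, hG0]
    rw [emb_apply, ← hZ] at h
    calc g⁻¹ * x * g * QuotientGroup.mk' _ Z = g⁻¹ * (x * (g * QuotientGroup.mk' _ Z * g⁻¹)) * g := by
          group
      _ = _ := by rw [h]; group
  have hZ2 : Z * Z = 1 := by rw [hZ, ← map_mul, nu_sq, map_one]
  set c := G0 * Z * G0⁻¹ * Z⁻¹ with hcdef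
  have hcc : c ∈ Subgroup.center (Cfsg.SU 3 F q) := by
    rw [← QuotientGroup.eq_one_iff]
    show π c = 1
    rw [hcdef, map_mul, map_mul, map_mul, hc, map_inv, map_inv, mul_inv_cancel_right, mul_inv_cancel]
  have hc3 : c ^ 3 = 1 := by
    obtain ⟨r, hr, hrc⟩ := center_scalar hq h2 hcc
    apply Subtype.ext
    apply Subtype.ext
    rw [SubgroupClass.coe_pow, Matrix.SpecialLinearGroup.coe_pow, ← hrc, ← map_pow, hr, map_one]
    rfl
  have hcZ : G0 * Z * G0⁻¹ = c * Z := by rw [hcdef, inv_mul_cancel_right]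
  have hc2 : c * c = 1 := by
    have h' : G0 * Z * G0⁻¹ * (G0 * Z * G0⁻¹) = c * Z * (c * Z) := by rw [hcZ]
    rw [show G0 * Z * G0⁻¹ * (G0 * Z * G0⁻¹) = G0 * (Z * Z) * G0⁻¹ by group, hZ2, mul_one,
      mul_inv_cancel, (show Commute Z c from Subgroup.mem_center_iff.mp hcc Z).mul_mul_mul_comm,
      hZ2, mul_one] at h'
    exact h'.symm
  have hc1 : c = 1 := by rw [← hc3, pow_succ, pow_two, hc2, one_mul]
  rw [hc1, one_mul, mul_inv_eq_iff_eq_mul] at hcZ
  obtain ⟨A, hA⟩ := mem_blk_range (g := G0.1) h2 (by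
    have h' := congrArg (fun Y : Cfsg.SU 3 F q => Y.1.1) hcZ
    simp only [Subgroup.coe_mul, Matrix.SpecialLinearGroup.coe_mul, hZ, blkU_coe, nu, blk_diag] at h'
    exact h')
  have hAH : A ∈ unitary (qPow hq) := by
    have h' := (mem_SU_iff hq _).1 G0.2
    rw [← hA, ← Matrix.ext_iff] at h'
    have e11 := h' 1 1
    have e12 := h' 1 2
    have e21 := h' 2 1
    have e22 := h' 2 2
    simp [blk_coe, Matrix.mul_apply, Fin.sum_univ_three, -qPow_apply] at e11 e12 e21 e22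
    exact mem_unitary.2 ⟨⟨e11, e12⟩, e21, e22⟩
  refine ⟨⟨A, hAH⟩, ?_⟩
  rw [emb_apply, show blkU hq ⟨A, hAH⟩ = G0 from Subtype.ext hA, hG0]
  group

omit hq in
theorem pow_mod_four {i : F} (hi : i * i = -1) (n : ℕ) : i ^ n = i ^ (n % 4) := by
  have h4 : i ^ 4 = 1 := by
    rw [show 4 = 2 * 2 from rfl, pow_mul, pow_two i, hi, neg_one_sq]
  conv_lhs => rw [← Nat.div_add_mod n 4, pow_add, pow_mul, h4, one_pow, one_mul]

/-- The parameters of the construction. -/
structure Par (e w i : F) : Prop where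
  data : Data (qPow hq) e w
  sq : i * i = -1
  cases : (e = 1 ∧ q % 4 = 3 ∧ qPow hq i = -i) ∨ (e = -1 ∧ q % 4 = 1 ∧ w = i)

theorem exists_par (hodd : q % 2 = 1) : ∃ e w i : F, Par hq e w i := by
  have hFodd : Fintype.card F % 2 = 1 := by rw [hq, Nat.pow_mod, hodd]
  have h2 : (2 : F) ≠ 0 := CfsgLib.Linear.two_ne_zero_of_odd_card (Nat.odd_iff.2 hFodd)
  have h4 : q % 4 = 1 ∨ q % 4 = 3 := by omega
  obtain ⟨i, hi⟩ := FiniteField.isSquare_neg_one_iff.2 (show Fintype.card F % 4 ≠ 3 by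
    rw [hq, Nat.pow_mod]; rcases h4 with h | h <;> rw [h] <;> decide)
  have hinv : ∀ x : F, qPow hq (qPow hq x) = x := qPow_qPow hq
  rcases h4 with h | h
  · refine ⟨-1, i, i, ⟨hi.symm, ?_, h2, Or.inr rfl, hinv⟩, hi.symm, Or.inr ⟨rfl, h, rfl⟩⟩
    rw [qPow_apply, pow_mod_four hi.symm, h, pow_one]
  · refine ⟨1, 1, i, ⟨one_mul 1, map_one _, h2, Or.inl ⟨rfl, rfl⟩, hinv⟩, hi.symm, Or.inl ⟨rfl, h, ?_⟩⟩
    rw [qPow_apply, pow_mod_four hi.symm, h, pow_succ, pow_two, ← hi]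
    ring

variable {hq}
variable {e w i : F}

theorem Par.not_both (hp : Par hq e w i) : ¬ (e = 1 ∧ e = -1) := by
  rintro ⟨rfl, h⟩
  exact hp.data.two (by linear_combination h)

theorem card_arith (hp : Par hq e w i) (hodd : q % 2 = 1) :
    (Nat.card P3).factorization 2 =
      (Nat.card ↥(tor e ⊓ unitary (qPow hq))).factorization 2 + 1 := by
  classical
  obtain ⟨k, hk⟩ : ∃ k, q = k + 1 := ⟨q - 1, by omega⟩
  have hq2 := CfsgLib.Classical.Herm.two_le_of_card hq
  let f : {p : Fˣ × Fˣ // Good (qPow hq) e p} → ↥(tor e ⊓ unitary (qPow hq)) := fun p =>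
    ⟨spl hp.data p.1, spl_mem _ _, (spl_mem_unitary_iff hp.data p.1).2 p.2⟩
  have hf : Function.Bijective f := by
    refine ⟨fun a b h => Subtype.ext (spl_injective hp.data (congrArg Subtype.val h)), fun a => ?_⟩
    obtain ⟨p, hpa⟩ := eq_spl hp.data a.2.1
    exact ⟨⟨p, (spl_mem_unitary_iff hp.data p).1 (hpa ▸ a.2.2)⟩, Subtype.ext hpa⟩
  obtain ⟨m, hm2, hm⟩ : ∃ m, m % 2 = 1 ∧
      k * (k + 2) * (k + 2) = Nat.card ↥(tor e ⊓ unitary (qPow hq)) * 2 * m := by
    rw [← Nat.card_eq_of_bijective f hf]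
    rcases hp.cases with ⟨rfl, h4, -⟩ | ⟨rfl, h4, -⟩
    · have hN : ∀ u : Fˣ, ((u : F) * qPow hq u = 1) ↔ u ∈ (powMonoidHom (q + 1) : Fˣ →* Fˣ).ker := by
        intro u
        rw [MonoidHom.mem_ker, powMonoidHom_apply, qPow_apply, ← pow_succ', ← Units.val_pow_eq_pow_val,
          Units.val_eq_one]
      have hg : ∀ p : Fˣ × Fˣ, Good (qPow hq) (1 : F) p ↔
          (p.1 ∈ (powMonoidHom (q + 1) : Fˣ →* Fˣ).ker ∧ p.2 ∈ (powMonoidHom (q + 1) : Fˣ →* Fˣ).ker) := by
        intro p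
        have hne : ¬ ((1 : F) = -1) := fun h => hp.not_both ⟨rfl, h⟩
        simp only [Good, hne, false_and, or_false, true_and, hN]
      rw [Nat.card_congr (Equiv.subtypeEquivRight hg), Nat.card_congr (Equiv.subtypeProdEquivProd),
        Nat.card_prod, CfsgLib.Classical.Herm.card_normOne_units hq, hk]
      refine ⟨k / 2, by omega, ?_⟩
      rw [mul_assoc ((k + 1 + 1) * (k + 1 + 1)), Nat.mul_div_cancel' (by omega : 2 ∣ k)]
      ring
    · have hne : ¬ ((-1 : F) = 1) := fun h => hp.not_both ⟨h, rfl⟩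
      let j : Fˣ → {p : Fˣ × Fˣ // Good (qPow hq) (-1 : F) p} := fun u =>
        ⟨(u, (Units.map (qPow hq : F →* F) u)⁻¹), Or.inr ⟨rfl, by
          simp [-qPow_apply, qPow_qPow]⟩⟩
      have hj : Function.Bijective j := by
        refine ⟨fun u v h => congrArg (fun z => z.1.1) h, fun p => ⟨p.1.1, Subtype.ext (Prod.ext rfl ?_)⟩⟩
        obtain ⟨h, -⟩ | ⟨-, h⟩ := p.2
        · exact absurd h hne
        · have h' := congrArg (qPow hq) h
          rw [map_mul, qPow_qPow, map_one] at h'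
          show (Units.map (qPow hq : F →* F) p.1.1)⁻¹ = p.1.2
          exact inv_eq_of_mul_eq_one_right (Units.ext h')
      rw [← Nat.card_eq_of_bijective j hj, CfsgLib.Classical.Herm.natCard_units_sq hq, hk,
        Nat.add_sub_cancel]
      refine ⟨(k + 2) / 2, by omega, ?_⟩
      rw [mul_assoc (k * (k + 1 + 1)), Nat.mul_div_cancel' (by omega : 2 ∣ k + 2)]
  have hG := CfsgLib.Classical.Herm.card_psu hq (show 2 ≤ 3 by norm_num)
  simp only [Finset.prod_range_succ, Finset.prod_range_zero, one_mul, Nat.not_even_one, if_false,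
    if_pos Even.zero, if_pos (show Even 2 from even_two)] at hG
  generalize hN : Nat.card P3 = N at hG ⊢
  rw [show 3 * (3 - 1) / 2 = 3 from rfl, hk, show (k + 1) ^ (1 + 1) - 1 = k * (k + 2) by
      rw [show (k + 1) ^ (1 + 1) = k * (k + 2) + 1 by ring, Nat.add_sub_cancel]] at hG
  have hG' : Nat.gcd 3 (k + 1 + 1) * N =
      Nat.card ↥(tor e ⊓ unitary (qPow hq)) * 2 * (m * ((k + 1) ^ 3 * (k * k + k + 1))) := by
    refine Nat.eq_of_mul_eq_mul_left (show 0 < k + 2 by omega) ?_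
    rw [← mul_assoc _ m, ← hm, show (k + 2) * (Nat.gcd 3 (k + 1 + 1) * N) =
      Nat.gcd 3 (k + 1 + 1) * ((k + 1 + 1) * N) by ring, hG]
    ring
  have hodd' : ¬ 2 ∣ m * ((k + 1) ^ 3 * (k * k + k + 1)) := by
    rw [Nat.prime_two.dvd_mul, Nat.prime_two.dvd_mul]
    rintro (h | h | h)
    · omega
    · have := Nat.prime_two.dvd_of_dvd_pow h; omega
    · obtain ⟨c, hc⟩ := (Nat.even_mul_succ_self k).two_dvd
      rw [show k * k + k + 1 = 2 * c + 1 by rw [← hc]; ring] at h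
      omega
  have hg3 : ¬ 2 ∣ Nat.gcd 3 (k + 1 + 1) := fun h => by
    have := h.trans (Nat.gcd_dvd_left _ _); omega
  have hv := congrArg (fun n => n.factorization 2) hG'
  rw [Nat.factorization_mul (fun h0 => hg3 (by rw [h0]; exact dvd_zero 2)) (hN ▸ Nat.card_pos.ne'),
    Nat.factorization_mul (mul_ne_zero Nat.card_pos.ne' two_ne_zero) (fun h0 => hodd' (by rw [h0]; exact dvd_zero 2)),
    Nat.factorization_mul Nat.card_pos.ne' two_ne_zero, Finsupp.add_apply, Finsupp.add_apply, Finsupp.add_apply,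
    Nat.factorization_eq_zero_of_not_dvd hg3, Nat.factorization_eq_zero_of_not_dvd hodd',
    Nat.Prime.factorization_self Nat.prime_two] at hv
  omega

theorem card_sylU (hp : Par hq e w i) :
    Nat.card (sylU hq e) = 2 ^ ((Nat.card ↥(tor e ⊓ unitary (qPow hq))).factorization 2 + 1) := by
  classical
  have : Fact (Nat.Prime 2) := ⟨Nat.prime_two⟩
  have h2 := hp.data.two
  set T0 := tor e ⊓ unitary (qPow hq) with hT0
  set A0 : Subgroup GL2 := twoPart (e := e) ⊓ unitary (qPow hq) with hA0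
  have hA : Nat.card A0 = 2 ^ (Nat.card T0).factorization 2 := by
    obtain ⟨Q⟩ : Nonempty (Sylow 2 T0) := Sylow.nonempty
    have hQn : (Q : Subgroup T0).Normal :=
      ⟨fun a ha b => by
        rwa [show b * a * b⁻¹ = a from Subtype.ext (by
          rw [Subgroup.coe_mul, Subgroup.coe_mul, tor_comm b.2.1 a.2.1, mul_assoc, Subgroup.coe_inv,
            mul_inv_cancel, mul_one])]⟩
    have hA' : A0 = (Q : Subgroup T0).map T0.subtype := by
      ext M
      constructor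
      · rintro ⟨⟨hM, k, hk⟩, hMH⟩
        have hpg : IsPGroup 2 (Subgroup.zpowers (⟨M, hM, hMH⟩ : T0)) :=
          fun ⟨_, j, hj⟩ => ⟨k, Subtype.ext (by
            subst hj
            show ((⟨M, hM, hMH⟩ : T0) ^ j) ^ 2 ^ k = 1
            rw [← _root_.zpow_natCast, ← _root_.zpow_mul, mul_comm, _root_.zpow_mul, _root_.zpow_natCast,
              show (⟨M, hM, hMH⟩ : T0) ^ 2 ^ k = 1 from Subtype.ext (by simpa using hk), _root_.one_zpow])⟩
        obtain ⟨Q', hQ'⟩ := hpg.exists_le_sylow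
        refine ⟨⟨M, hM, hMH⟩, ?_, rfl⟩
        have hQQ : Q' = Q := ((Sylow.unique_of_normal Q hQn).uniq Q').trans
          ((Sylow.unique_of_normal Q hQn).uniq Q).symm
        exact hQQ ▸ hQ' (Subgroup.mem_zpowers _)
      · rintro ⟨x, hx, rfl⟩
        obtain ⟨k, hk⟩ := Q.2 ⟨x, hx⟩
        exact ⟨⟨x.2.1, k, by simpa using congrArg (fun y : Q => ((y : T0) : GL2)) hk⟩, x.2.2⟩
    rw [hA', Subgroup.card_map_of_injective Subtype.coe_injective, Q.card_eq_multiplicity]
  let f : Bool × A0 → sylU hq e := fun p =>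
    if p.1 then ⟨⟨(p.2 : GL2), p.2.2.2⟩, Or.inl p.2.2.1⟩
    else ⟨⟨(p.2 : GL2) * (sg : GL2), mul_mem p.2.2.2 sg_mem⟩,
      Or.inr (by
        show (p.2 : GL2) * sg * sg ∈ twoPart (e := e)
        rw [mul_assoc, sg_mul_self, mul_one]; exact p.2.2.1)⟩
  have hno : ∀ a b : A0, (a : GL2) ≠ (b : GL2) * (sg : GL2) := fun a b h => by
    refine sg_not_mem (e := e) h2 ?_
    rw [show (sg : GL2) = (b : GL2)⁻¹ * a by rw [h, inv_mul_cancel_left]]
    exact mul_mem (inv_mem b.2.1.1) a.2.1.1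
  have hf : Function.Bijective f := by
    constructor
    · rintro ⟨u, a⟩ ⟨v, b⟩ h
      have h' := congrArg (fun z : sylU hq e => ((z : (U2 hq)) : GL2)) h
      cases u <;> cases v <;> simp [f] at h'
      · exact Prod.ext rfl (by simpa using h')
      · exact absurd h'.symm (hno b a)
      · exact absurd h' (hno a b)
      · exact Prod.ext rfl (by simpa using h')
    · rintro ⟨M, hM | hM⟩
      · exact ⟨(true, ⟨(M : GL2), hM, M.2⟩), rfl⟩
      · exact ⟨(false, ⟨(M : GL2) * sg, hM, mul_mem M.2 sg_mem⟩), Subtype.ext (Subtype.ext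
          (by simp [f, mul_assoc, sg_mul_self]))⟩
  rw [← Nat.card_eq_of_bijective f hf, Nat.card_prod, Nat.card_eq_fintype_card (α := Bool),
    Fintype.card_bool, hA, pow_succ']

theorem exists_emb_sylow (hp : Par hq e w i) (hodd : q % 2 = 1) (S : Sylow 2 P3) :
    ∃ g : P3, (S : Subgroup P3) = (sylU hq e).map (emb hq g) := by
  classical
  have : Fact (Nat.Prime 2) := ⟨Nat.prime_two⟩
  let φ : sylU hq e →* P3 := (emb hq 1).comp (sylU hq e).subtype
  have hinj : Function.Injective φ := fun a b h => Subtype.ext (emb_injOn hq hp.data.two a.2 b.2 h)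
  have hr : φ.range = (sylU hq e).map (emb hq 1) := by
    rw [MonoidHom.range_comp, Subgroup.range_subtype]
  let P0 : Sylow 2 P3 := Sylow.ofCard ((sylU hq e).map (emb hq 1)) (by
    rw [← hr, ← Nat.card_congr (MonoidHom.ofInjective hinj).toEquiv, card_sylU hp,
      card_arith hp hodd])
  obtain ⟨g, hg⟩ := MulAction.exists_smul_eq P3 P0 S
  refine ⟨g, ?_⟩
  rw [← hg, Sylow.coe_subgroup_smul]
  show ((sylU hq e).map (emb hq 1)).map (MulAut.conj g).toMonoidHom = _
  rw [Subgroup.map_map]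
  congr 1
  ext h
  show g * emb hq 1 h * g⁻¹ = emb hq g h
  rw [emb_apply, emb_apply, one_mul, inv_one, mul_one]

theorem exists_sq_nonscalar (hp : Par hq e w i) :
    ∃ a : GL2, a ∈ twoPart (e := e) ∧ a ∈ unitary (qPow hq) ∧ a.1 1 0 ≠ 0 ∧ (a * a).1 1 0 ≠ 0 := by
  have h2 := hp.data.two
  suffices h : ∃ p : Fˣ × Fˣ, Good (qPow hq) e p ∧ p ^ 8 = 1 ∧ (p.1 : F) * p.1 ≠ p.2 * p.2 by
    obtain ⟨p, hg, h8, hne⟩ := h
    have hsq : (spl hp.data p * spl hp.data p).1 1 0 ≠ 0 := by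
      rw [← map_mul]
      intro h0
      have h := spl_add hp.data (p * p)
      rw [h0, mul_zero, add_zero, sub_zero] at h
      exact hne (by simpa using h.1.symm.trans h.2)
    refine ⟨spl hp.data p, ⟨spl_mem _ _, 3, ?_⟩, (spl_mem_unitary_iff hp.data p).2 hg, fun h0 => hsq ?_, hsq⟩
    · rw [← map_pow, show (2 : ℕ) ^ 3 = 8 from rfl, h8, map_one]
    · rw [CfsgLib.Fusion.TorusGLTwo.mul_apply, h0, zero_mul, mul_zero, zero_add]
  rcases hp.cases with ⟨rfl, -, hi⟩ | ⟨rfl, h4, -⟩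
  · have hi0 : i ≠ 0 := fun h => by simpa [h] using hp.sq
    refine ⟨(Units.mk0 i hi0, 1), Or.inl ⟨rfl, ?_, by simp [-qPow_apply]⟩, ?_, ?_⟩
    · rw [Units.val_mk0, hi, mul_neg, hp.sq, neg_neg]
    · refine Prod.ext (Units.ext ?_) (by simp)
      show i ^ 8 = 1
      rw [show 8 = 2 * 4 from rfl, pow_mul, pow_two, hp.sq]; ring
    · simp only [Units.val_mk0, Units.val_one, one_mul, hp.sq]
      exact fun h => h2 (by linear_combination -h)
  · have h8 : 8 ∣ Nat.card Fˣ := by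
      rw [CfsgLib.Classical.Herm.natCard_units_sq hq]
      exact (Nat.mul_dvd_mul (show 4 ∣ q - 1 by omega) (show 2 ∣ q + 1 by omega) : 4 * 2 ∣ _)
    obtain ⟨u, hu⟩ := IsCyclic.exists_ofOrder_eq_natCard (α := Fˣ)
    set l := u ^ (Nat.card Fˣ / 8) with hl
    have hlo : orderOf l = 8 := by
      rw [hl, orderOf_pow' u (Nat.div_pos (Nat.le_of_dvd Nat.card_pos h8) (by norm_num)).ne', hu,
        Nat.gcd_eq_right (Nat.div_dvd_of_dvd h8), Nat.div_div_self h8 Nat.card_pos.ne']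
    have hl8 : l ^ 8 = 1 := hlo ▸ pow_orderOf_eq_one l
    refine ⟨(l, (Units.map (qPow hq : F →* F) l)⁻¹), Or.inr ⟨rfl, by simp [-qPow_apply, qPow_qPow]⟩,
      Prod.ext hl8 (by simp [inv_pow, ← map_pow, hl8]), fun h => ?_⟩
    have h1 : l ^ (2 * (q + 1)) = 1 := by
      apply Units.ext
      rw [Units.val_pow_eq_pow_val, Units.val_one]
      have hs0 : qPow hq (l : F) ≠ 0 := (map_ne_zero _).2 l.ne_zero
      simp only [Units.val_inv_eq_inv_val, Units.coe_map, MonoidHom.coe_coe] at h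
      have h' : (l : F) * l * (qPow hq (l : F) * qPow hq (l : F)) = 1 := by
        rw [h]; field_simp
      rw [qPow_apply] at h'
      calc (l : F) ^ (2 * (q + 1)) = (l : F) * l * ((l : F) ^ q * (l : F) ^ q) := by
            rw [mul_comm 2, pow_mul, pow_succ]; ring
        _ = 1 := h'
    have := orderOf_dvd_of_pow_eq_one h1
    rw [hlo] at this
    omega

theorem huniq_proof (hp : Par hq e w i) (g : P3) {c : (U2 hq)} (hc : c ∈ sylU hq e)
    (hcc : emb hq g c * emb hq g c = 1) (hc1 : emb hq g c ≠ 1)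
    (hcom : ∀ y ∈ sylU hq e, emb hq g c * emb hq g y = emb hq g y * emb hq g c) :
    emb hq g c = emb hq g (nu hq) := by
  have h2 := hp.data.two
  have hcomm : ∀ y ∈ sylU hq e, (c : GL2) * y = y * c := fun y hy =>
    congrArg Subtype.val (emb_injOn hq h2 (mul_mem hc hy) (mul_mem hy hc)
      (by rw [map_mul, map_mul, hcom y hy]))
  obtain ⟨a0, ha0, ha0H, hy0, -⟩ := exists_sq_nonscalar hp
  have hct : (c : GL2) ∈ tor e := mem_tor_of_commute ha0.1 hy0 (hcomm ⟨a0, ha0H⟩ (twoPart_le_syl ha0))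
  have hbar : (sg : GL2) * (c : GL2) * sg = (c : GL2) := by
    have h := hcomm (su hq) (sg_mem_syl (e := e))
    change (c : GL2) * sg = sg * (c : GL2) at h
    rw [← h, mul_assoc, sg_mul_self, mul_one]
  have hy : (c : GL2).1 1 0 = 0 := by
    have h := (bar_apply (c : GL2)).2.2.1
    rw [hbar] at h
    exact mul_left_cancel₀ h2 (by linear_combination h)
  obtain ⟨r, hr⟩ := eq_scalar hct hy
  have hcc' : (c : GL2) * c = 1 :=
    congrArg Subtype.val (emb_injOn hq h2 (mul_mem hc hc) (one_mem _) (by rw [map_mul, hcc, map_one]))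
  rw [← hr, ← map_mul] at hcc'
  have hr2 : r * r = 1 := Units.ext (by simpa using congrArg (fun X : GL2 => X.1 0 0) hcc')
  rcases mul_self_eq_one_iff.1 (congrArg Units.val hr2) with h | h
  · refine absurd ?_ hc1
    rw [show c = 1 from Subtype.ext (by rw [← hr, show r = 1 from Units.ext h, map_one]; rfl), map_one]
  · rw [show c = nu hq from Subtype.ext (by
      rw [← hr, show r = -1 from Units.ext (by simpa using h)]; rfl)]

theorem exists_ratio (hp : Par hq e w i) {p : Fˣ × Fˣ} (hg : Good (qPow hq) e p) (h1 : p.1 * p.2 = 1) :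
    ∃ u : Fˣ × Fˣ, Good (qPow hq) e u ∧ u.1 = p.1 * u.2 ∧ u.2 = p.2 * u.1 := by
  rcases hg with ⟨rfl, hl, -⟩ | ⟨rfl, hl⟩
  · exact ⟨(p.1, 1), Or.inl ⟨rfl, hl, by simp [-qPow_apply]⟩, by simp, by rw [← h1, mul_comm]⟩
  · have hm : (p.2 : F) = (p.1 : F)⁻¹ := eq_inv_of_mul_eq_one_right (congrArg Units.val h1)
    rw [hm, map_inv₀, mul_inv_eq_one₀ ((map_ne_zero _).2 p.1.ne_zero)] at hl
    obtain ⟨t, ht⟩ := CfsgLib.Classical.Herm.exists_norm_eq hq (p.1 : F) hl.symm
    have ht0 : t ≠ 0 := fun h => p.1.ne_zero (by rw [← ht, h, zero_mul])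
    set v := Units.mk0 t ht0
    set sv := Units.map (qPow hq : F →* F) v with hsv
    have hv : v * sv = p.1 := Units.ext ht
    refine ⟨(v, sv⁻¹), Or.inr ⟨rfl, by simp [hsv, -qPow_apply, qPow_qPow]⟩, ?_, ?_⟩
    · show v = p.1 * sv⁻¹
      rw [← hv, mul_inv_cancel_right]
    · show sv⁻¹ = p.2 * v
      rw [inv_eq_iff_mul_eq_one.symm.mp]
      rw [← h1, ← hv]; ac_rfl

set_option maxHeartbeats 800000 in
theorem exists_W (hp : Par hq e w i) (he : e = -1) (iu : Fˣ) (hiu : (iu : F) = i)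
    (gj : spl hp.data (iu, -iu) ∈ unitary (qPow hq)) :
    ∃ (U M : U2 hq), U * (⟨spl hp.data (iu, -iu), gj⟩ : U2 hq) = M * U ∧
      (M : GL2) * sg ∈ tor e ∧ (M : GL2).1.det = 1 := by
  have h2 := hp.data.two
  obtain ⟨-, h4, hw⟩ := hp.cases.resolve_left (fun h => hp.not_both ⟨h.1, he⟩)
  subst hw
  have hw0 : w ≠ 0 := hp.data.w_ne
  subst he
  obtain ⟨x, hx⟩ := CfsgLib.Classical.Herm.exists_qPow_ne hq
  have hs := qPow_qPow hq
  set δ := x - qPow hq x with hδ
  have hsδ : qPow hq δ = -δ := by rw [hδ, map_sub, hs]; ring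
  have hδ0 : δ ≠ 0 := sub_ne_zero.2 fun h => hx h.symm
  set c := -(1 / (2 * δ * δ)) with hc
  have hsc : qPow hq c = c := by rw [hc]; simp [hsδ, -qPow_apply, map_ofNat]
  set a := ((1 / 2 + 1) / 2 : F) + (c + 1) / 2 * δ with ha
  set b := (w * (1 / 2 - 1) / 2 : F) + w * (c - 1) / 2 * δ with hb
  have hsa : qPow hq a = ((1 / 2 + 1) / 2 : F) - (c + 1) / 2 * δ := by
    rw [ha]; simp [hsδ, hsc, -qPow_apply, map_ofNat]; ring
  have hsb : qPow hq b = (w * (1 / 2 - 1) / 2 : F) - w * (c - 1) / 2 * δ := by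
    rw [hb]; simp [hsδ, hsc, hp.data.fixed, -qPow_apply, map_ofNat]; ring
  have hww := hp.sq
  have hN : a * qPow hq a + b * qPow hq b = 1 := by
    rw [hsa, hsb, ha, hb, hc]; field_simp; ring_nf; simp [show w ^ 2 = -1 by rw [pow_two, hww]] <;> ring
  have hS : a * a + qPow hq a * qPow hq a + b * b + qPow hq b * qPow hq b = 0 := by
    rw [hsa, hsb, ha, hb, hc]; field_simp; ring_nf; simp [show w ^ 2 = -1 by rw [pow_two, hww]]
  let U : GL2 := GeneralLinearGroup.mkOfDetNeZero !![a, -qPow hq b; b, qPow hq a] (by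
    rw [det_fin_two_of]; intro h; exact one_ne_zero (α := F) (by linear_combination h - hN))
  have hU : U ∈ unitary (qPow hq) := by
    rw [mem_unitary]
    simp [U, hs, -qPow_apply]
    exact ⟨⟨hN, by ring⟩, by ring, by linear_combination hN⟩
  refine ⟨⟨U, hU⟩, (⟨U, hU⟩ : U2 hq) * _ * (⟨U, hU⟩ : U2 hq)⁻¹, (inv_mul_cancel_right _ _).symm, ?_, ?_⟩
  · set J := spl hp.data (iu, -iu) with hJdef
    have hJ : J.1 = !![0, -1; 1, 0] := by
      rw [hJdef, spl_val, Units.val_neg, hiu]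
      ext a b
      fin_cases a <;> fin_cases b <;> simp <;> field_simp <;>
        first | ring1 | linear_combination hww | linear_combination -hww
    let V : GL2 := GeneralLinearGroup.mkOfDetNeZero !![qPow hq a, qPow hq b; -b, a] (by
      rw [det_fin_two_of]; intro h; exact one_ne_zero (α := F) (by linear_combination h - hN))
    have hV : U⁻¹ = V := inv_eq_of_mul_eq_one_right (by
      apply gl_ext <;> simp [U, V, CfsgLib.Fusion.TorusGLTwo.mul_apply, -qPow_apply] <;>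
        first | ring1 | linear_combination hN)
    show U * J * U⁻¹ * sg ∈ tor (-1 : F)
    rw [hV, mem_tor]
    simp [CfsgLib.Fusion.TorusGLTwo.mul_apply, hJ, sg_val, U, V, -qPow_apply]
    constructor <;> first | ring1 | linear_combination hS | linear_combination -hS
  · show ((U * spl hp.data (iu, -iu) * U⁻¹ : GL2).1).det = 1
    rw [Units.val_mul, Units.val_mul, Matrix.det_units_conj]
    show ((GeneralLinearGroup.det (spl hp.data (iu, -iu)) : Fˣ) : F) = 1
    rw [det_spl]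
    simp [hiu, hww]

theorem hclosed_proof (hp : Par hq e w i) (g : P3) (T : Subgroup P3) (hz : emb hq g (nu hq) ∈ T)
    (hcl : ∀ b ∈ sylU hq e, ∀ a : (U2 hq), emb hq g a ∈ T →
      (∃ k, k * emb hq g a * k⁻¹ = emb hq g b) → emb hq g b ∈ T) :
    ∀ c ∈ sylU hq e, emb hq g c ∈ T := by
  have h2 := hp.data.two
  have hd := hp.data
  have hgl : ∀ (U a b : (U2 hq)), b ∈ sylU hq e → emb hq g a ∈ T → U * a = b * U → emb hq g b ∈ T :=
    fun U a b hb ha hU => hcl b hb a ha ⟨emb hq g U, by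
      rw [← map_mul, hU, map_mul, mul_inv_cancel_right]⟩
  have hsu : emb hq g (su hq) ∈ T := hcl _ sg_mem_syl (nu hq) hz
    (emb_conj_of hq ⟨_, W01_mem hq⟩ (by
      simp only [nu, blk_diag, blk_coe, su]
      ext a b
      fin_cases a <;> fin_cases b <;>
        simp [W01, Matrix.mul_apply, Fin.sum_univ_three, sg_val, det_fin_two]))
  let el : ∀ p : Fˣ × Fˣ, Good (qPow hq) e p → (U2 hq) := fun p hpg =>
    ⟨spl hd p, (spl_mem_unitary_iff hd p).2 hpg⟩
  have hmulT : ∀ x : (U2 hq), (x : GL2) ∈ twoPart (e := e) → emb hq g (x * su hq) ∈ T → emb hq g x ∈ T := by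
    intro x _ h
    have := T.mul_mem h hsu
    rwa [← map_mul, mul_assoc, show su hq * su hq = 1 from Subtype.ext sg_mul_self, mul_one] at this
  have hM : ∀ x : (U2 hq), (x : GL2) ∈ twoPart (e := e) → x * su hq ∈ sylU hq e := fun x hx => Or.inr (by
    show (x : GL2) * sg * sg ∈ twoPart (e := e)
    rwa [mul_assoc, sg_mul_self, mul_one])
  have hdet1 : ∀ (p : Fˣ × Fˣ) (hpg : Good (qPow hq) e p), spl hd p ∈ twoPart (e := e) →
      p.1 * p.2 = 1 → emb hq g (el p hpg) ∈ T := by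
    intro p hpg hA h1
    obtain ⟨u, hug, hu1, hu2⟩ := exists_ratio hp hpg h1
    refine hmulT _ hA (hgl (el u hug) (su hq) _ (hM _ hA) hsu (Subtype.ext ?_))
    show spl hd u * sg = spl hd p * sg * spl hd u
    rw [show spl hd p * sg * spl hd u = spl hd p * (sg * spl hd u * sg) * sg by
      simp [mul_assoc, sg_mul_self],
      bar_spl, ← map_mul, show p * (u.2, u.1) = u from Prod.ext hu1.symm hu2.symm]
  suffices hA : ∀ (p : Fˣ × Fˣ) (hpg : Good (qPow hq) e p), spl hd p ∈ twoPart (e := e) →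
      emb hq g (el p hpg) ∈ T by
    have key : ∀ x : (U2 hq), (x : GL2) ∈ twoPart (e := e) → emb hq g x ∈ T := by
      intro x hx
      obtain ⟨p, hpx⟩ := eq_spl hd hx.1
      have hpg := (spl_mem_unitary_iff hd p).1 (hpx ▸ x.2)
      rw [show x = el p hpg from Subtype.ext hpx.symm]
      exact hA p hpg (hpx ▸ hx)
    rintro c (hc | hc)
    · exact key c hc
    · rw [show c = c * su hq * su hq by
        rw [mul_assoc, show su hq * su hq = 1 from Subtype.ext sg_mul_self, mul_one], map_mul]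
      exact T.mul_mem (key (c * su hq) hc) hsu
  intro p hpg hpA
  obtain ⟨k, hk⟩ := hpA.2
  have hpk : p ^ 2 ^ k = 1 := spl_injective hd (by rw [map_pow, hk, map_one])
  rcases hp.cases with ⟨rfl, h4, hi⟩ | ⟨rfl, h4, hw⟩
  · have hw1 : w = 1 := by
      rcases hd.cases with ⟨-, h⟩ | h
      · exact h
      · exact absurd ⟨rfl, h⟩ hp.not_both
    obtain ⟨c, hc⟩ := CfsgLib.Classical.Herm.exists_norm_eq hq (2⁻¹ : F)
      (by rw [map_inv₀, map_ofNat])
    have hc0 : c ≠ 0 := fun h => inv_ne_zero h2 (by rw [← hc, h, zero_mul])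
    let V : GL2 := GeneralLinearGroup.mkOfDetNeZero !![c, c; c, -c] (by
      rw [det_fin_two_of]; intro h; exact mul_ne_zero (mul_ne_zero h2 hc0) hc0 (by linear_combination -h))
    have hV : V ∈ unitary (qPow hq) := by
      rw [mem_unitary]
      simp [V, -qPow_apply]
      rw [hc]
      field_simp
      ring
    obtain ⟨hn1, hn2⟩ : (p.1 : F) * qPow hq p.1 = 1 ∧ (p.2 : F) * qPow hq p.2 = 1 := by
      rcases hpg with ⟨-, h⟩ | ⟨h, -⟩
      · exact h
      · exact absurd ⟨rfl, h⟩ hp.not_both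
    have key : ∀ x : Fˣ, x ^ 2 ^ k = 1 → (x : F) * qPow hq x = 1 →
        ∃ (h1 : Good (qPow hq) 1 (x, 1)) (h1' : Good (qPow hq) 1 (1, x)),
          emb hq g (el (x, 1) h1) ∈ T ∧ emb hq g (el (1, x) h1') ∈ T := by
      intro x hx hxn
      have hxi : ((x⁻¹ : Fˣ) : F) * qPow hq ((x⁻¹ : Fˣ) : F) = 1 := by
        rw [Units.val_inv_eq_inv_val, map_inv₀, ← mul_inv, hxn, inv_one]
      have g1 : Good (qPow hq) 1 (x, x⁻¹) := Or.inl ⟨rfl, hxn, hxi⟩
      have g2 : Good (qPow hq) 1 (x, 1) := Or.inl ⟨rfl, hxn, by simp [-qPow_apply]⟩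
      have g3 : Good (qPow hq) 1 (1, x) := Or.inl ⟨rfl, by simp [-qPow_apply], hxn⟩
      have hA : ∀ y z : Fˣ, y ^ 2 ^ k = 1 → z ^ 2 ^ k = 1 → spl hd (y, z) ∈ twoPart (e := (1 : F)) :=
        fun y z hy hz => ⟨spl_mem hd _, k, by rw [← map_pow, Prod.pow_mk, hy, hz]; exact map_one _⟩
      have h1 := hdet1 _ g1 (hA x x⁻¹ hx (by rw [inv_pow, hx, inv_one])) (mul_inv_cancel x)
      have hdia : ∀ (r : Fˣ × Fˣ), Good (qPow hq) 1 r → Cfsg.Agent.S5318.dia r ∈ unitary (qPow hq) := by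
        rintro r (⟨-, ha, hb⟩ | ⟨h, -⟩)
        · rw [mem_unitary]
          simp [Cfsg.Agent.S5318.dia, -qPow_apply, ha, hb]
        · exact absurd ⟨rfl, h⟩ hp.not_both
      have hconj : ∀ (r : Fˣ × Fˣ) (hr : Good (qPow hq) 1 r),
          el r hr = ⟨V, hV⟩ * ⟨Cfsg.Agent.S5318.dia r, hdia r hr⟩ * (⟨V, hV⟩ : (U2 hq))⁻¹ := by
        intro r hr
        rw [eq_mul_inv_iff_mul_eq]
        apply Subtype.ext
        show spl hd r * V = V * Cfsg.Agent.S5318.dia r
        subst hw1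
        apply gl_ext <;>
          simp [CfsgLib.Fusion.TorusGLTwo.mul_apply, spl_val, V, Cfsg.Agent.S5318.dia] <;>
          field_simp <;> ring
      obtain ⟨m, hm⟩ := emb_conj_of hq (g := g) (a := ⟨_, hdia _ g1⟩) (b := ⟨_, hdia _ g2⟩)
        ⟨_, W02_mem hq⟩ (by
          simp only [blk_coe]
          ext a b
          fin_cases a <;> fin_cases b <;>
            simp [W02, Matrix.mul_apply, Fin.sum_univ_three, Cfsg.Agent.S5318.dia, det_fin_two])
      have h3 : emb hq g (el (x, 1) g2) ∈ T := by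
        refine hcl _ (twoPart_le_syl (hA x 1 hx (one_pow _))) _ h1
          ⟨emb hq g ⟨V, hV⟩ * m * (emb hq g ⟨V, hV⟩)⁻¹, ?_⟩
        rw [hconj _ g1, hconj _ g2, map_mul, map_mul, map_mul, map_mul, ← hm, map_inv]
        group
      refine ⟨g2, g3, h3, hgl (su hq) (el (x, 1) g2) _ (twoPart_le_syl (hA 1 x (one_pow _) hx)) h3
        (Subtype.ext ?_)⟩
      show sg * spl hd (x, 1) = spl hd (1, x) * sg
      rw [← bar_spl hd (x, 1), mul_assoc _ sg sg, sg_mul_self, mul_one]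
    obtain ⟨a1, -, t1, -⟩ := key p.1 (congrArg Prod.fst hpk) hn1
    obtain ⟨-, a2, -, t2⟩ := key p.2 (congrArg Prod.snd hpk) hn2
    rw [show el p hpg = el (p.1, 1) a1 * el (1, p.2) a2 from Subtype.ext (by
      show spl hd p = spl hd (p.1, 1) * spl hd (1, p.2)
      rw [← map_mul]; simp), map_mul]
    exact T.mul_mem t1 t2
  · set d := p.1 * p.2 with hddef
    have hdk : d ^ 2 ^ k = 1 := by
      rw [hddef, mul_pow]
      exact (congrArg (fun r : Fˣ × Fˣ => r.1 * r.2) hpk).trans (mul_one 1)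
    have hdn : d ^ (q + 1) = 1 := by
      apply Units.ext
      have h := det_norm ((spl_mem_unitary_iff hd p).2 hpg)
      change ((GeneralLinearGroup.det (spl hd p) : Fˣ) : F) *
        qPow hq ((GeneralLinearGroup.det (spl hd p) : Fˣ) : F) = 1 at h
      rw [det_spl, qPow_apply, ← hddef, ← pow_succ'] at h
      simpa using h
    obtain ⟨j, -, hj⟩ := (Nat.dvd_prime_pow Nat.prime_two).1 (orderOf_dvd_of_pow_eq_one hdk)
    have hd1 := orderOf_dvd_of_pow_eq_one hdn
    rw [hj] at hd1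
    have hj1 : j ≤ 1 := by
      by_contra hj2
      have := (Nat.pow_dvd_pow 2 (show 2 ≤ j by omega)).trans hd1
      omega
    have hd2 : d * d = 1 := by
      rw [← pow_two]
      exact orderOf_dvd_iff_pow_eq_one.1 (by rw [hj]; simpa using Nat.pow_dvd_pow 2 hj1)
    rcases mul_self_eq_one_iff.1 (congrArg Units.val hd2) with h | h
    · exact hdet1 p hpg hpA (Units.ext h)
    · have hdm : p.1 * p.2 = -1 := Units.ext (by simpa [hddef] using h)
      set iu := Units.mk0 i (fun h => by simpa [h] using hp.sq : i ≠ 0) with hiu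
      have hiu2 : iu * iu = -1 := Units.ext (by simpa [hiu] using hp.sq)
      have gj : Good (qPow hq) (-1 : F) (iu, -iu) := Or.inr ⟨rfl, by
        have := hd.fixed
        subst hw
        simp [hiu, -qPow_apply, this, hp.sq]⟩
      obtain ⟨U, M, hUM, hMt, hMd⟩ := exists_W hp rfl iu rfl ((spl_mem_unitary_iff hd _).2 gj)
      have hJ : emb hq g (el (iu, -iu) gj) ∈ T := by
        refine hdet1 _ gj ⟨spl_mem _ _, 2, ?_⟩ (by rw [mul_neg, hiu2, neg_neg])
        rw [← map_pow, Prod.pow_mk, show (2 : ℕ) ^ 2 = 2 * 2 from rfl, pow_mul, pow_mul, neg_sq,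
          pow_two iu, hiu2, neg_one_sq]
        exact map_one _
      obtain ⟨p', hp'⟩ := eq_spl hd hMt
      have hp'g : Good (qPow hq) (-1 : F) p' :=
        (spl_mem_unitary_iff hd p').1 (hp' ▸ mul_mem M.2 sg_mem)
      have hp'd : p'.1 * p'.2 = -1 := by
        rw [← det_spl hd, hp', map_mul]
        apply Units.ext
        show (M : GL2).1.det * (sg : GL2).1.det = _
        rw [hMd, sg_val]; simp [det_fin_two]
      have hr : Good (qPow hq) (-1 : F) (p * p'⁻¹) :=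
        (spl_mem_unitary_iff hd _).1 (by
          rw [map_mul, map_inv]
          exact mul_mem ((spl_mem_unitary_iff hd p).2 hpg) (inv_mem ((spl_mem_unitary_iff hd p').2 hp'g)))
      obtain ⟨u, hug, hu1, hu2⟩ := exists_ratio hp hr (by
        show p.1 * p'.1⁻¹ * (p.2 * p'.2⁻¹) = 1
        rw [mul_mul_mul_comm, ← mul_inv, hdm, hp'd, mul_inv_cancel])
      refine hmulT _ hpA (hgl (el u hug * U) (el (iu, -iu) gj) _ (hM _ hpA) hJ ?_)
      rw [mul_assoc]
      have hUM' : U * el (iu, -iu) gj = M * U := hUM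
      rw [hUM', ← mul_assoc, ← mul_assoc]
      congr 1
      apply Subtype.ext
      show spl hd u * (M : GL2) = spl hd p * sg * spl hd u
      rw [show (M : GL2) = spl hd p' * sg by rw [hp', mul_assoc, sg_mul_self, mul_one],
        show spl hd p * sg * spl hd u = spl hd p * (sg * spl hd u * sg) * sg by
          simp [mul_assoc, sg_mul_self],
        bar_spl, ← mul_assoc, ← map_mul, ← map_mul]
      congr 2
      exact Prod.ext (by
          show u.1 * p'.1 = p.1 * u.2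
          rw [hu1]
          show p.1 * p'.1⁻¹ * u.2 * p'.1 = _
          rw [mul_right_comm, inv_mul_cancel_right]) (by
          show u.2 * p'.2 = p.2 * u.1
          rw [hu2]
          show p.2 * p'.2⁻¹ * u.1 * p'.2 = _
          rw [mul_right_comm, inv_mul_cancel_right])

theorem haut_proof (hp : Par hq e w i) (g : P3) (h : (U2 hq))
    (hN : ∀ c ∈ sylU hq e, ∃ d ∈ sylU hq e, emb hq g (h * c * h⁻¹) = emb hq g d) :
    ∃ s ∈ sylU hq e, ∀ c ∈ sylU hq e, emb hq g (h * c * h⁻¹) = emb hq g (s * c * s⁻¹) := by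
  have h2 := hp.data.two
  have hlift : ∀ h : (U2 hq), (∀ c ∈ sylU hq e, ∃ d ∈ sylU hq e, emb hq g (h * c * h⁻¹) = emb hq g d) →
      ∀ c ∈ sylU hq e, ∃ r : Fˣ, r ^ 3 = 1 ∧ ∃ d ∈ sylU hq e,
        (h : GL2) * c * (h : GL2)⁻¹ = GeneralLinearGroup.scalar (Fin 2) r * d := by
    intro h hN c hc
    obtain ⟨d, hd, hcd⟩ := hN c hc
    obtain ⟨r, hr, hrd⟩ := emb_ker hq h2 (g := g) (h := h * c * h⁻¹ * d⁻¹)
      (by rw [map_mul, map_inv, hcd, mul_inv_cancel])
    refine ⟨r, hr, d, hd, ?_⟩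
    rw [hrd]
    simp
  obtain ⟨a, ha, haH, hy, hy2⟩ := exists_sq_nonscalar hp
  obtain ⟨r, -, d, hd, hhd⟩ := hlift h hN ⟨a, haH⟩ (twoPart_le_syl ha)
  change (h : GL2) * a * (h : GL2)⁻¹ = _ at hhd
  have hM : (h : GL2) * a * (h : GL2)⁻¹ ∈ tor e := by
    rw [hhd]
    rcases hd with hd | hd
    · exact mul_mem (scalar_mem r) hd.1
    · exfalso
      change (d : GL2) * sg ∈ twoPart (e := e) at hd
      have hsq : ((h : GL2) * a * (h : GL2)⁻¹) * ((h : GL2) * a * (h : GL2)⁻¹) =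
          GeneralLinearGroup.scalar (Fin 2) (r * r * GeneralLinearGroup.det ((d : GL2) * sg)) := by
        rw [hhd, (show Commute (d : GL2) (GeneralLinearGroup.scalar (Fin 2) r) from
          (GeneralLinearGroup.scalar_commute r _).symm).mul_mul_mul_comm, map_mul, map_mul]
        have h1 := mul_sg_sq hd.1
        rw [mul_assoc (d : GL2) sg sg, sg_mul_self, mul_one] at h1
        rw [h1]
      have hsc : a * a = GeneralLinearGroup.scalar (Fin 2) (r * r * GeneralLinearGroup.det ((d : GL2) * sg)) := by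
        calc a * a = (h : GL2)⁻¹ * (((h : GL2) * a * (h : GL2)⁻¹) * ((h : GL2) * a * (h : GL2)⁻¹)) * h := by
              group
          _ = _ := by rw [hsq, ← GeneralLinearGroup.scalar_commute _ (h : GL2)⁻¹, inv_mul_cancel_right]
      exact hy2 (by rw [hsc]; simp)
  have hMa : (h : GL2) * a * (h : GL2)⁻¹ = a ∨ (h : GL2) * a * (h : GL2)⁻¹ = sg * a * sg := by
    set M := (h : GL2) * a * (h : GL2)⁻¹ with hMdef
    have ht : M.1 0 0 + M.1 1 1 = a.1 0 0 + a.1 1 1 := by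
      rw [← trace_fin_two, ← trace_fin_two, hMdef, Units.val_mul, Units.val_mul]
      exact Matrix.trace_units_conj (h : GL2) a.1
    have hdd : M.1.det = a.1.det := by
      rw [hMdef, Units.val_mul, Units.val_mul]
      exact Matrix.det_units_conj (h : GL2) a.1
    rw [← hM.1, ← ha.1.1] at ht
    have hx : M.1 0 0 = a.1 0 0 := mul_left_cancel₀ h2 (by linear_combination ht)
    rw [det_eq hM, det_eq ha.1, hx] at hdd
    have he0 : e ≠ 0 := hp.data.sq ▸ mul_ne_zero hp.data.w_ne hp.data.w_ne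
    obtain ⟨h00, h01, h10, h11⟩ := bar_apply a
    rcases mul_self_eq_mul_self_iff.1 (show M.1 1 0 * M.1 1 0 = a.1 1 0 * a.1 1 0 from
        mul_left_cancel₀ he0 (by linear_combination -hdd)) with h' | h'
    · exact Or.inl (gl_ext hx (by rw [hM.2, ha.1.2, h']) h' (by rw [← hM.1, ← ha.1.1, hx]))
    · exact Or.inr (gl_ext (by rw [hx, h00]) (by rw [hM.2, h01, ha.1.2, h']; ring) (by rw [h', h10])
        (by rw [← hM.1, h11, ← ha.1.1, hx]))
  suffices key : ∀ h : (U2 hq), (∀ c ∈ sylU hq e, ∃ d ∈ sylU hq e, emb hq g (h * c * h⁻¹) = emb hq g d) →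
      (h : GL2) * a * (h : GL2)⁻¹ = a →
      ∃ s ∈ sylU hq e, ∀ c ∈ sylU hq e, emb hq g (h * c * h⁻¹) = emb hq g (s * c * s⁻¹) by
    rcases hMa with hM1 | hM1
    · exact key h hN hM1
    · have hsu : su hq ∈ sylU hq e := sg_mem_syl
      have hss : su hq * su hq = 1 := Subtype.ext sg_mul_self
      obtain ⟨s, hs, hsc⟩ := key (su hq * h) (fun c hc => by
        obtain ⟨d, hd, hcd⟩ := hN c hc
        refine ⟨su hq * d * (su hq)⁻¹, mul_mem (mul_mem hsu hd) (inv_mem hsu), ?_⟩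
        rw [show su hq * h * c * (su hq * h)⁻¹ = su hq * (h * c * h⁻¹) * (su hq)⁻¹ by group, map_mul,
          map_mul, hcd, map_mul, map_mul]) (by
        show sg * (h : GL2) * a * (sg * (h : GL2))⁻¹ = a
        rw [show sg * (h : GL2) * a * (sg * (h : GL2))⁻¹ = sg * ((h : GL2) * a * (h : GL2)⁻¹) * sg⁻¹ by
          group, hM1, sg_inv,
          show sg * (sg * a * sg) * sg = sg * sg * a * (sg * sg) by group, sg_mul_self, one_mul, mul_one])
      refine ⟨su hq * s, mul_mem hsu hs, fun c hc => ?_⟩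
      have hinv : (su hq)⁻¹ = su hq := inv_eq_of_mul_eq_one_right hss
      rw [show h * c * h⁻¹ = su hq * (su hq * h * c * (su hq * h)⁻¹) * (su hq)⁻¹ by
        calc h * c * h⁻¹ = (su hq * su hq) * h * c * h⁻¹ * ((su hq)⁻¹ * (su hq)⁻¹) := by
              rw [hinv, hss]; group
          _ = _ := by group,
        show su hq * s * c * (su hq * s)⁻¹ = su hq * (s * c * s⁻¹) * (su hq)⁻¹ by group, map_mul, map_mul,
        hsc c hc]
      simp only [map_mul, map_inv]
  clear hMa hM hhd hN h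
  intro h hN hfix
  have hh : (h : GL2) ∈ tor e := mem_tor_of_commute ha.1 hy (mul_inv_eq_iff_eq_mul.1 hfix)
  obtain ⟨k, m, hm, hord⟩ := Nat.exists_eq_pow_mul_and_not_dvd (orderOf_pos h).ne' 2 (by norm_num)
  obtain ⟨u, v, huv⟩ : IsCoprime ((2 ^ k : ℕ) : ℤ) (m : ℤ) :=
    Nat.isCoprime_iff_coprime.2 (Nat.Coprime.pow_left k ((Nat.prime_two.coprime_iff_not_dvd).2 hm))
  set a' := h ^ (v * (m : ℤ)) with ha'
  set b := h ^ (u * ((2 ^ k : ℕ) : ℤ)) with hbdef
  have hab : h = a' * b := by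
    rw [ha', hbdef, ← _root_.zpow_add, add_comm, huv, _root_.zpow_one]
  have hn : h ^ ((2 ^ k * m : ℕ) : ℤ) = 1 := by
    rw [← hord, _root_.zpow_natCast, pow_orderOf_eq_one]
  have ha'k : a' ^ 2 ^ k = 1 := by
    rw [ha', ← _root_.zpow_natCast, ← _root_.zpow_mul,
      show v * (m : ℤ) * ((2 ^ k : ℕ) : ℤ) = ((2 ^ k * m : ℕ) : ℤ) * v by push_cast; ring,
      _root_.zpow_mul, hn, _root_.one_zpow]
  have hbm : b ^ m = 1 := by
    rw [hbdef, ← _root_.zpow_natCast, ← _root_.zpow_mul,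
      show u * ((2 ^ k : ℕ) : ℤ) * (m : ℤ) = ((2 ^ k * m : ℕ) : ℤ) * u by push_cast; ring,
      _root_.zpow_mul, hn, _root_.one_zpow]
  have ha't : (a' : GL2) ∈ tor e := by
    rw [ha', SubgroupClass.coe_zpow]; exact Subgroup.zpow_mem _ hh _
  have hbt : (b : GL2) ∈ tor e := by
    rw [hbdef, SubgroupClass.coe_zpow]; exact Subgroup.zpow_mem _ hh _
  have ha'A : (a' : GL2) ∈ twoPart (e := e) := ⟨ha't, k, by simpa using congrArg Subtype.val ha'k⟩
  obtain ⟨r, hr, d, hd, hhd⟩ := hlift h hN (su hq) sg_mem_syl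
  change (h : GL2) * sg * (h : GL2)⁻¹ = _ at hhd
  have hdA : (d : GL2) * sg ∈ twoPart (e := e) := by
    refine hd.resolve_left fun hd => sg_not_mem (e := e) h2 ?_
    change (d : GL2) ∈ twoPart (e := e) at hd
    have h1 : (sg : GL2) = (h : GL2)⁻¹ * (GeneralLinearGroup.scalar (Fin 2) r * d) * h := by
      rw [← hhd]; group
    rw [h1]
    exact mul_mem (mul_mem (inv_mem hh) (mul_mem (scalar_mem r) hd.1)) hh
  have hc'' : (a' : GL2)⁻¹ * ((d : GL2) * sg) * (sg * (a' : GL2) * sg) ∈ twoPart (e := e) :=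
    mul_mem (mul_mem (inv_mem ha'A) hdA) (bar_twoPart ha'A)
  obtain ⟨k', hk'⟩ := hc''.2
  have hab' : (h : GL2) = (a' : GL2) * (b : GL2) := by
    rw [← Subgroup.coe_mul, ← hab]
  have heq : (b : GL2) * (sg * (b : GL2)⁻¹ * sg) =
      GeneralLinearGroup.scalar (Fin 2) r * ((a' : GL2)⁻¹ * ((d : GL2) * sg) * (sg * (a' : GL2) * sg)) := by
    have h1 : GeneralLinearGroup.scalar (Fin 2) r * (d : GL2) =
        (a' : GL2) * ((b : GL2) * sg * (b : GL2)⁻¹) * (a' : GL2)⁻¹ := by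
      rw [← hhd, hab']; group
    calc (b : GL2) * (sg * (b : GL2)⁻¹ * sg)
        = (a' : GL2)⁻¹ * ((a' : GL2) * ((b : GL2) * sg * (b : GL2)⁻¹) * (a' : GL2)⁻¹) * (a' : GL2) * sg := by group
      _ = (a' : GL2)⁻¹ * (GeneralLinearGroup.scalar (Fin 2) r * (d : GL2)) * (a' : GL2) * sg := by rw [h1]
      _ = GeneralLinearGroup.scalar (Fin 2) r * ((a' : GL2)⁻¹ * (d : GL2) * (sg * sg) * (a' : GL2) * sg) := by
          rw [← mul_assoc (a' : GL2)⁻¹, ← GeneralLinearGroup.scalar_commute r (a' : GL2)⁻¹, sg_mul_self]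
          group
      _ = _ := by group
  have hb := Cfsg.Agent.S5318.commute_sg_of_pow hbt (by simpa using congrArg Subtype.val hbm) hm hc''.1
    hk' hr heq
  have hcomm : ∀ c ∈ sylU hq e, b * c * b⁻¹ = c := by
    have htc : ∀ c ∈ tor e, (b : GL2) * c * (b : GL2)⁻¹ = c := fun c hc => by
      rw [tor_comm hbt hc, mul_inv_cancel_right]
    have hsgb : (b : GL2) * sg * (b : GL2)⁻¹ = sg := by
      calc (b : GL2) * sg * (b : GL2)⁻¹ = (b : GL2) * (sg * (b : GL2)⁻¹ * sg) * sg⁻¹ := by group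
        _ = sg := by rw [hb, mul_inv_cancel, one_mul, sg_inv]
    rintro c (hc | hc) <;> apply Subtype.ext
    · exact htc _ hc.1
    · show (b : GL2) * (c : GL2) * (b : GL2)⁻¹ = (c : GL2)
      change (c : GL2) * sg ∈ twoPart (e := e) at hc
      calc (b : GL2) * (c : GL2) * (b : GL2)⁻¹
          = (b : GL2) * ((c : GL2) * sg * sg) * (b : GL2)⁻¹ := by rw [mul_assoc (c : GL2), sg_mul_self, mul_one]
        _ = (b : GL2) * ((c : GL2) * sg) * (b : GL2)⁻¹ * ((b : GL2) * sg * (b : GL2)⁻¹) := by group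
        _ = (c : GL2) := by rw [htc _ hc.1, hsgb, mul_assoc, sg_mul_self, mul_one]
  refine ⟨a', twoPart_le_syl ha'A, fun c hc => ?_⟩
  rw [hab, show a' * b * c * (a' * b)⁻¹ = a' * (b * c * b⁻¹) * a'⁻¹ by group, hcomm c hc]

end

/-- Let q be an odd prime power and F a field with q² elements. Then the 2-fusion system of PSU(3,q) (realised as the special unitary group of the standard Hermitian form over F modulo its centre) on a Sylow 2-subgroup is simple. -/
theorem result {F : Type*} [Field F] [Fintype F] (q : ℕ) (hq : Fintype.card F = q ^ 2) (hodd : q % 2 = 1) (S : Sylow 2 (Cfsg.PSU 3 F q)) :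
    (Cfsg.groupFusionSystem (S : Subgroup (Cfsg.PSU 3 F q))).IsSimple 2 := by
  classical
  have : Fact (Nat.Prime 2) := ⟨Nat.prime_two⟩
  obtain ⟨e, w, i, hp⟩ := exists_par hq hodd
  obtain ⟨g, hg⟩ := exists_emb_sylow hp hodd S
  have hmem : ∀ x, x ∈ S ↔ ∃ c ∈ sylU hq e, emb hq g c = x := fun x => by
    show x ∈ (S : Subgroup _) ↔ _
    rw [hg, Subgroup.mem_map]
  have hneg : nu hq ∈ sylU hq e := CfsgLib.Fusion.TorusGLTwo.twoPart_le_syl
    ⟨CfsgLib.Fusion.TorusGLTwo.scalar_mem _, 1, by rw [pow_one, pow_two]; exact congrArg Subtype.val (nu_sq hq)⟩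
  refine CfsgLib.Fusion.TwoSimple.isSimple_of_central_involution S
    (emb hq g (nu hq)) ((hmem _).2 ⟨_, hneg, rfl⟩) ?_ ?_ ?_ ?_ ?_ ?_
  · intro h
    have h' := congrArg Subtype.val (emb_injOn hq hp.data.two hneg (one_mem _) (h.trans (map_one _).symm))
    have := congrArg (fun X : GL (Fin 2) F => X.1 0 0) h'
    simp [nu] at this
    exact hp.data.two (by linear_combination -this)
  · rw [← map_mul, nu_sq, map_one]
  · intro y hy
    obtain ⟨c, -, rfl⟩ := (hmem y).1 hy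
    rw [← map_mul, ← map_mul]
    exact congrArg (emb hq g) (Subtype.ext (Matrix.GeneralLinearGroup.scalar_commute (-1 : Fˣ) c.1))
  · intro x hx hxx hx1 hxc
    obtain ⟨c, hc, rfl⟩ := (hmem x).1 hx
    exact huniq_proof hp g hc hxx hx1 fun y hy => hxc _ ((hmem _).2 ⟨y, hy, rfl⟩)
  · intro T _ hzT hT x hx
    obtain ⟨c, hc, rfl⟩ := (hmem x).1 hx
    refine hclosed_proof hp g T hzT (fun b hb a ha ⟨k, hk⟩ => ?_) c hc
    exact hk ▸ hT _ ha k ((hmem _).2 ⟨b, hb, hk.symm⟩)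
  · intro x hxz hxS
    obtain ⟨h, rfl⟩ := exists_emb_eq hq hp.data.two hxz
    obtain ⟨s, hs, hsc⟩ := haut_proof hp g h fun c hc => by
      obtain ⟨d, hd, hdc⟩ := (hmem _).1 (hxS _ ((hmem _).2 ⟨c, hc, rfl⟩))
      exact ⟨d, hd, by rw [hdc, map_mul, map_mul, map_inv]⟩
    refine ⟨_, (hmem _).2 ⟨s, hs, rfl⟩, fun y hy => ?_⟩
    obtain ⟨c, hc, rfl⟩ := (hmem y).1 hy
    rw [← map_inv, ← map_mul, ← map_mul, hsc c hc, map_mul, map_mul, map_inv]

end Cfsg.Agent.S5319
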