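import Cfsg.Statements.S5320
import Cfsg.Agent.Lib.Fusion.TwoSimple
import Cfsg.Agent.Lib.Fusion.KronTwo
import Cfsg.Agent.Lib.Linear.SympCard
import Cfsg.Agent.Lib.InvChar.SL2Pair
import Cfsg.Agent.Lib.TwoFusion.DihedralIso
import Cfsg.Agent.Lib.SL2Trace.Basic

set_option autoImplicit false
open Cfsg

namespace Cfsg.Agent.S5320

open Matrix
open CfsgLib.Fusion.KronTwo

section

variable {F : Type*} [Field F] [Fintype F]

local notation "SL2" => Matrix.SpecialLinearGroup (Fin 2) F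
local notation "Sp4" => Matrix.symplecticGroup (Fin 2) F
local notation "G4" => Cfsg.PSp 2 F

omit [Fintype F] in
theorem mem_symp {M : Matrix (Fin 2 ⊕ Fin 2) (Fin 2 ⊕ Fin 2) F} :
    M ∈ Sp4 ↔ M * J (Fin 2) F * Mᵀ = J (Fin 2) F := SymplecticGroup.mem_iff

omit [Fintype F] in
theorem sl2_omega (a : SL2) : a.1 * omega * a.1ᵀ = (omega : Matrix (Fin 2) (Fin 2) F) := by
  have hd := a.2
  rw [det_fin_two] at hd
  ext i j
  fin_cases i <;> fin_cases j <;> simp [omega, Matrix.mul_apply, Fin.sum_univ_two] <;>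
    first | ring1 | linear_combination hd | linear_combination -hd

omit [Fintype F] in
theorem dg_symp (a b : SL2) : dg a.1 b.1 ∈ Sp4 := by
  rw [mem_symp, J_eq, ← dg_self, dg_mul, dg_transpose, dg_mul, sl2_omega, sl2_omega]

/-- The block diagonal embedding. -/
def base : SL2 × SL2 →* Sp4 where
  toFun p := ⟨dg p.1.1 p.2.1, dg_symp p.1 p.2⟩
  map_one' := Subtype.ext (by
    show dg (1 : Matrix (Fin 2) (Fin 2) F) 1 = 1
    rw [dg_self, kr_one])
  map_mul' p q := Subtype.ext (dg_mul _ _ _ _).symm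

omit [Fintype F] in
theorem base_coe (p : SL2 × SL2) : ((base p : Sp4) : Matrix _ _ F) = dg p.1.1 p.2.1 := rfl

omit [Fintype F] in
theorem base_injective : Function.Injective (base : SL2 × SL2 →* Sp4) := fun p q h => by
  obtain ⟨h1, h2⟩ := dg_injective (congrArg Subtype.val h)
  exact Prod.ext (Subtype.ext h1) (Subtype.ext h2)

omit [Fintype F] in
theorem swp_mul_swp : (swp : Matrix (Fin 2) (Fin 2) F) * swp = 1 := by
  ext i j; fin_cases i <;> fin_cases j <;> simp [swp]

omit [Fintype F] in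
theorem tau_symp : kr (1 : Matrix (Fin 2) (Fin 2) F) swp ∈ Sp4 := by
  rw [mem_symp, J_eq, kr_transpose, kr_mul, kr_mul]
  congr 1
  · simp
  · ext i j; fin_cases i <;> fin_cases j <;> simp [swp, Matrix.mul_apply, Fin.sum_univ_two]

/-- The swap of the two planes. -/
def tau : Sp4 := ⟨_, tau_symp⟩

omit [Fintype F] in
theorem tau_sq : (tau : Sp4) * tau = 1 := Subtype.ext (by
  show kr (1 : Matrix (Fin 2) (Fin 2) F) swp * kr 1 swp = 1
  rw [kr_mul, swp_mul_swp, one_mul, kr_one])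

omit [Fintype F] in
theorem tau_inv : (tau : Sp4)⁻¹ = tau := inv_eq_of_mul_eq_one_right tau_sq

omit [Fintype F] in
theorem tau_base (a b : SL2) : tau * base (a, b) = base (b, a) * tau :=
  Subtype.ext (swap_dg a.1 b.1)

omit [Fintype F] in
theorem base_ne_base_tau (p q : SL2 × SL2) : base p ≠ base q * tau := fun h => by
  have h' : dg p.1.1 p.2.1 = dg q.1.1 q.2.1 * kr 1 swp := congrArg Subtype.val h
  rw [← Matrix.ext_iff] at h'
  have e1 := h' (.inl 0) (.inl 0)
  have e2 := h' (.inr 0) (.inl 0)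
  simp [dg, kr, E0, E1, swp, Matrix.mul_apply, Fin.sum_univ_two] at e1 e2
  have hd := p.1.2
  rw [det_fin_two, e1, e2] at hd
  simp at hd

omit [Fintype F] in
theorem base_one_neg : ((base (1, -1) : Sp4) : Matrix _ _ F) = kr 1 dgr := by
  rw [base_coe, ← dg_one_neg]
  rfl

omit [Fintype F] in
theorem base_neg_neg : (base (-1, -1) : Sp4).1 = -1 := by
  rw [base_coe]
  show dg (-(1 : Matrix (Fin 2) (Fin 2) F)) (-1) = -1
  rw [dg_neg, dg_self, kr_one]

/-- The quotient map conjugated by `g`. -/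
def emb (g : G4) : Sp4 →* G4 :=
  (MulAut.conj g).toMonoidHom.comp (QuotientGroup.mk' (Subgroup.center Sp4))

omit [Fintype F] in
theorem emb_surjective (g : G4) : Function.Surjective (emb g) := fun x => by
  obtain ⟨X, hX⟩ := QuotientGroup.mk'_surjective (Subgroup.center Sp4) (g⁻¹ * x * g)
  refine ⟨X, ?_⟩
  show g * QuotientGroup.mk' _ X * g⁻¹ = x
  rw [hX]; group

omit [Fintype F] in
theorem mem_center4 (X : Sp4) :
    X ∈ Subgroup.center Sp4 ↔ X = 1 ∨ X = base (-1, -1) := by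
  constructor
  · intro hX
    obtain ⟨a, ha, hax⟩ := CfsgLib.Linear.Symp.mem_center_iff.1 hX
    have hm : (X : Matrix (Fin 2 ⊕ Fin 2) (Fin 2 ⊕ Fin 2) F) = a • 1 := by
      ext i j
      have h := congrFun (hax (Pi.single j 1)) i
      rw [CfsgLib.Linear.Symp.smul_def, Matrix.mulVec_single] at h
      simpa [Matrix.one_apply, Pi.single_apply] using h
    rw [pow_two] at ha
    rcases mul_self_eq_one_iff.1 ha with rfl | rfl
    · exact Or.inl (Subtype.ext (by rw [hm, one_smul]; rfl))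
    · exact Or.inr (Subtype.ext (by rw [hm, base_neg_neg, neg_one_smul]))
  · rintro (rfl | rfl)
    · exact one_mem _
    · refine Subgroup.mem_center_iff.2 fun Y => Subtype.ext ?_
      show (Y : Matrix _ _ F) * (base (-1, -1) : Sp4).1 = (base (-1, -1) : Sp4).1 * (Y : Matrix _ _ F)
      rw [base_neg_neg]
      simp

omit [Fintype F] in
theorem emb_eq_one {g : G4} {X : Sp4} :
    emb g X = 1 ↔ X = 1 ∨ X = base (-1, -1) := by
  rw [← mem_center4, ← QuotientGroup.eq_one_iff X]
  show g * QuotientGroup.mk' _ X * g⁻¹ = 1 ↔ _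
  rw [conj_eq_one_iff]; rfl

omit [Fintype F] in
theorem emb_eq_iff {g : G4} {X Y : Sp4} :
    emb g X = emb g Y ↔ X = Y ∨ X = base (-1, -1) * Y := by
  rw [← mul_inv_eq_one, ← map_inv, ← map_mul, emb_eq_one, mul_inv_eq_iff_eq_mul, one_mul,
    mul_inv_eq_iff_eq_mul]

/-- The data of a quaternion Sylow `2`-subgroup of `SL₂`. -/
structure QD (i j c : SL2) (k : ℕ) : Prop where
  two : (2 : F) ≠ 0
  hk : 2 ≤ k
  ord : orderOf c = 2 ^ k
  ci : c * i = i * c
  hi : i ∈ Subgroup.zpowers c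
  ii : i * i = -1
  jj : j * j = -1
  jc : ∀ g : SL2, g * i = i * g → j * g * j⁻¹ = g⁻¹
  max : ∀ g : SL2, g * i = i * g → ∀ l : ℕ, g ^ 2 ^ l = 1 → g ∈ Subgroup.zpowers c
  fac : (Nat.card G4).factorization 2 = 2 * k + 2
  coi : i.1 = omega
  sym : j.1 1 1 = -j.1 0 0 ∧ j.1 0 1 = j.1 1 0

variable {i j c : Matrix.SpecialLinearGroup (Fin 2) F} {k : ℕ}

theorem QD.hba (D : QD i j c k) : j * c * j⁻¹ = c⁻¹ := D.jc c D.ci

theorem QD.hbb (D : QD i j c k) : j * j ∈ Subgroup.zpowers c := by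
  rw [D.jj, ← D.ii]; exact Subgroup.mul_mem _ D.hi D.hi

/-- The quaternion subgroup. -/
def qgp (D : QD i j c k) : Subgroup SL2 := CfsgLib.TwoFusion.cyclicByInverter c j D.hba D.hbb

theorem QD.mem_cases (D : QD i j c k) {x : SL2} (hx : x ∈ qgp D) :
    x ∈ Subgroup.zpowers c ∨ ∃ t : ℤ, x = j * c ^ t := by
  obtain ⟨t, h | h⟩ := hx
  · exact Or.inl ⟨t, h.symm⟩
  · exact Or.inr ⟨t, h⟩

theorem QD.zpow_le (D : QD i j c k) : Subgroup.zpowers c ≤ qgp D :=
  fun _ ⟨t, ht⟩ => ⟨t, Or.inl ht.symm⟩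

theorem QD.j_mem (D : QD i j c k) : j ∈ qgp D := ⟨0, Or.inr (by simp)⟩

theorem QD.i_mem (D : QD i j c k) : i ∈ qgp D := D.zpow_le D.hi

theorem QD.neg_mem (D : QD i j c k) : (-1 : SL2) ∈ qgp D := by
  rw [← D.ii]; exact mul_mem D.i_mem D.i_mem

theorem QD.pow_comm (D : QD i j c k) {g : SL2} (hg : g ∈ Subgroup.zpowers c) : g * i = i * g := by
  obtain ⟨t, rfl⟩ := hg
  exact (Commute.zpow_left (D.ci : Commute c i) t).eq

theorem QD.ne_neg (D : QD i j c k) : (-1 : SL2) ≠ 1 := fun h => by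
  have := congrArg (fun X : SL2 => X.1 0 0) h
  simp at this
  exact D.two (by linear_combination -this)

theorem QD.j_not_comm (D : QD i j c k) : j * i ≠ i * j := fun h => by
  have h' := D.jc i rfl
  rw [h, mul_inv_cancel_right] at h'
  exact D.ne_neg (by rw [← D.ii]; exact mul_eq_one_iff_eq_inv.2 h')

theorem QD.ji (D : QD i j c k) : j * i = -(i * j) := by
  have h' := D.jc i rfl
  rw [mul_inv_eq_iff_eq_mul] at h'
  rw [h', show i⁻¹ = -i from inv_eq_of_mul_eq_one_right (by rw [mul_neg, D.ii, neg_neg]), neg_mul]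

theorem QD.sq_neg (D : QD i j c k) (t : ℤ) : j * c ^ t * (j * c ^ t) = -1 := by
  have h := D.jc (c ^ t) (D.pow_comm ⟨t, rfl⟩)
  rw [mul_inv_eq_iff_eq_mul] at h
  calc j * c ^ t * (j * c ^ t) = (c ^ t)⁻¹ * (j * j) * c ^ t := by nth_rewrite 1 [h]; group
    _ = -1 := by rw [D.jj]; simp

theorem QD.eq_pm_i (D : QD i j c k) {t : SL2} (ht : t * i = i * t) (htt : t * t = -1) :
    t = i ∨ t = -i := by
  have h1 : (t * i) * (t * i) = 1 := by
    rw [(show Commute i t from ht.symm).mul_mul_mul_comm, htt, D.ii, neg_one_mul, neg_neg]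
  have hi' : i⁻¹ = -i := inv_eq_of_mul_eq_one_right (by rw [mul_neg, D.ii, neg_neg])
  rcases CfsgLib.InvChar.sl2_eq_one_or_neg D.two h1 with h | h
  · exact Or.inr ((eq_inv_of_mul_eq_one_left h).trans hi')
  · refine Or.inl ?_
    rw [← mul_inv_cancel_right t i, h, hi', neg_one_mul, neg_neg]

theorem QD.scalar (D : QD i j c k) {g : SL2} (hi : g * i = i * g) (hj : g * j = j * g) :
    g = 1 ∨ g = -1 := by
  refine CfsgLib.InvChar.sl2_eq_one_or_neg D.two ?_
  have h := D.jc g hi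
  rw [← hj, mul_inv_cancel_right] at h
  exact mul_eq_one_iff_eq_inv.2 h

theorem QD.signs (D : QD i j c k) {g : SL2} (hi : g * i = i * g ∨ g * i = -(i * g))
    (hj : g * j = j * g ∨ g * j = -(j * g)) :
    (g = 1 ∨ g = -1) ∨ (g = i ∨ g = -i) ∨ (g = j ∨ g = -j) ∨ (g = i * j ∨ g = -(i * j)) := by
  have hjinv : j⁻¹ = -j := inv_eq_of_mul_eq_one_right (by rw [mul_neg, D.jj, neg_neg])
  rcases hi with hi | hi
  · rcases hj with hj | hj
    · exact Or.inl (D.scalar hi hj)
    · refine Or.inr (Or.inl (D.eq_pm_i hi ?_))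
      have h := D.jc g hi
      rw [show j * g = -(g * j) by rw [hj, neg_neg], neg_mul, mul_inv_cancel_right] at h
      calc g * g = -(g⁻¹ * g) := by rw [← h]; simp
        _ = -1 := by rw [inv_mul_cancel]
  · rcases hj with hj | hj
    · have h1 : g * j * i = i * (g * j) := by
        rw [mul_assoc, D.ji, mul_neg, ← mul_assoc, hi, neg_mul, neg_neg, mul_assoc]
      rcases D.scalar h1 (by rw [hj, mul_assoc j g j, hj]) with h | h
      · refine Or.inr (Or.inr (Or.inl (Or.inr ?_)))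
        rw [← hjinv]; exact eq_inv_of_mul_eq_one_left h
      · refine Or.inr (Or.inr (Or.inl (Or.inl ?_)))
        rw [← mul_inv_cancel_right g j, h, hjinv, neg_one_mul, neg_neg]
    · have hg : (g * i) * j = j * (g * i) := by
        rw [mul_assoc, show i * j = -(j * i) by rw [D.ji, neg_neg], mul_neg, ← mul_assoc, hj, neg_mul,
          neg_neg, mul_assoc]
      have hgi : g * i * i = -(i * (g * i)) := by
        conv_lhs => rw [hi]
        rw [neg_mul, mul_assoc]
      have h1 : g * i * j * i = i * (g * i * j) := by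
        rw [mul_assoc (g * i), D.ji, mul_neg, ← mul_assoc, hgi, neg_mul, neg_neg, mul_assoc]
      have hi' : i⁻¹ = -i := inv_eq_of_mul_eq_one_right (by rw [mul_neg, D.ii, neg_neg])
      rcases D.scalar h1 (by rw [hg, mul_assoc j, hg]) with h | h
      · refine Or.inr (Or.inr (Or.inr (Or.inr ?_)))
        have h' : g = j⁻¹ * i⁻¹ := by
          rw [← _root_.mul_inv_rev, eq_inv_iff_mul_eq_one, ← mul_assoc, h]
        rw [h', hjinv, hi', neg_mul_neg, D.ji]
      · refine Or.inr (Or.inr (Or.inr (Or.inl ?_)))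
        have h' : g = -(j⁻¹ * i⁻¹) := by
          rw [← _root_.mul_inv_rev, ← neg_one_mul, eq_mul_inv_iff_mul_eq, ← mul_assoc, h]
        rw [h', hjinv, hi', neg_mul_neg, D.ji, neg_neg]

/-- The Sylow subgroup `Q ≀ 2` of `Sp₄`. -/
def p4 (D : QD i j c k) : Subgroup Sp4 where
  carrier := {X | ∃ a ∈ qgp D, ∃ b ∈ qgp D, X = base (a, b) ∨ X = base (a, b) * tau}
  one_mem' := ⟨1, one_mem _, 1, one_mem _, Or.inl (map_one base).symm⟩
  mul_mem' := by
    rintro _ _ ⟨a, ha, b, hb, rfl | rfl⟩ ⟨a', ha', b', hb', rfl | rfl⟩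
    · exact ⟨_, mul_mem ha ha', _, mul_mem hb hb', Or.inl (by rw [← map_mul]; rfl)⟩
    · exact ⟨_, mul_mem ha ha', _, mul_mem hb hb', Or.inr (by rw [← mul_assoc, ← map_mul]; rfl)⟩
    · exact ⟨_, mul_mem ha hb', _, mul_mem hb ha', Or.inr (by
        rw [mul_assoc, tau_base, ← mul_assoc, ← map_mul]; rfl)⟩
    · exact ⟨_, mul_mem ha hb', _, mul_mem hb ha', Or.inl (by
        rw [mul_assoc, ← mul_assoc tau, tau_base, mul_assoc _ tau tau, tau_sq, mul_one, ← map_mul]; rfl)⟩
  inv_mem' := by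
    rintro _ ⟨a, ha, b, hb, rfl | rfl⟩
    · exact ⟨_, inv_mem ha, _, inv_mem hb, Or.inl (map_inv base (a, b)).symm⟩
    · refine ⟨_, inv_mem hb, _, inv_mem ha, Or.inr ?_⟩
      rw [_root_.mul_inv_rev, tau_inv, ← map_inv, ← tau_base]
      rfl

theorem QD.base_mem_iff (D : QD i j c k) {a b : SL2} :
    base (a, b) ∈ p4 D ↔ a ∈ qgp D ∧ b ∈ qgp D := by
  refine ⟨?_, fun h => ⟨a, h.1, b, h.2, Or.inl rfl⟩⟩
  rintro ⟨a', ha, b', hb, h | h⟩
  · obtain ⟨rfl, rfl⟩ := Prod.mk.inj (base_injective h)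
    exact ⟨ha, hb⟩
  · exact absurd h (base_ne_base_tau _ _)

theorem QD.tau_mem (D : QD i j c k) : tau ∈ p4 D :=
  ⟨1, one_mem _, 1, one_mem _, Or.inr (by rw [Prod.mk_one_one, map_one, one_mul])⟩

theorem QD.z_mem (D : QD i j c k) : base (1, -1) ∈ p4 D := D.base_mem_iff.2 ⟨one_mem _, D.neg_mem⟩

theorem QD.negneg_mem (D : QD i j c k) : base (-1, -1) ∈ p4 D :=
  D.base_mem_iff.2 ⟨D.neg_mem, D.neg_mem⟩

theorem QD.card_qgp (D : QD i j c k) : Nat.card (qgp D) = 2 ^ (k + 1) := by
  have hm : 2 * 2 ^ (k - 1) = 2 ^ k := by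
    rw [← pow_succ', show k - 1 + 1 = k by have := D.hk; omega]
  have hsq : c ^ 2 ^ (k - 1) * c ^ 2 ^ (k - 1) = 1 := by
    rw [← pow_add, ← two_mul, hm, ← D.ord, pow_orderOf_eq_one]
  have hne : c ^ 2 ^ (k - 1) ≠ 1 := fun h => by
    have h' := orderOf_dvd_of_pow_eq_one h
    rw [D.ord, Nat.pow_dvd_pow_iff_le_right (by norm_num)] at h'
    have := D.hk; omega
  have hnot : j ∉ Subgroup.zpowers c := fun h => D.j_not_comm (D.pow_comm h)
  obtain ⟨e⟩ := CfsgLib.TwoFusion.exists_quaternion_mulEquiv (a := c) (b := j) (m := 2 ^ (k - 1))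
    (pow_pos two_pos _) (by rw [D.ord, hm])
    (by rw [D.jj, (CfsgLib.InvChar.sl2_eq_one_or_neg D.two hsq).resolve_left hne])
    D.hba hnot (qgp D) (fun g => Iff.rfl)
  haveI : NeZero (2 ^ (k - 1)) := ⟨pow_ne_zero _ two_ne_zero⟩
  rw [Nat.card_congr e.toEquiv, Nat.card_eq_fintype_card, QuaternionGroup.card,
    show k + 1 = (k - 1) + 2 by have := D.hk; omega, pow_add, mul_comm]
  rfl

theorem exists_emb_sylow (D : QD i j c k) (S : Sylow 2 G4) :
    ∃ g : G4, ∀ X : Sp4, emb g X ∈ S ↔ X ∈ p4 D := by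
  classical
  have : Fact (Nat.Prime 2) := ⟨Nat.prime_two⟩
  have hcard : Nat.card (p4 D) = 2 * (2 ^ (k + 1) * 2 ^ (k + 1)) := by
    let f : Bool × (qgp D × qgp D) → p4 D := fun p =>
      if p.1 then ⟨base ((p.2.1 : SL2), (p.2.2 : SL2)), _, p.2.1.2, _, p.2.2.2, Or.inl rfl⟩
      else ⟨base ((p.2.1 : SL2), (p.2.2 : SL2)) * tau, _, p.2.1.2, _, p.2.2.2, Or.inr rfl⟩
    have hf : Function.Bijective f := by
      constructor
      · rintro ⟨u, a, b⟩ ⟨v, a', b'⟩ h
        have h' := congrArg Subtype.val h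
        cases u <;> cases v <;> simp only [f, Bool.false_eq_true, if_false, if_true] at h'
        · obtain ⟨h1, h2⟩ := Prod.mk.inj (base_injective (mul_right_cancel h'))
          exact Prod.ext rfl (Prod.ext (Subtype.ext h1) (Subtype.ext h2))
        · exact absurd h'.symm (base_ne_base_tau _ _)
        · exact absurd h' (base_ne_base_tau _ _)
        · obtain ⟨h1, h2⟩ := Prod.mk.inj (base_injective h')
          exact Prod.ext rfl (Prod.ext (Subtype.ext h1) (Subtype.ext h2))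
      · rintro ⟨X, a, ha, b, hb, rfl | rfl⟩
        · exact ⟨(true, ⟨a, ha⟩, ⟨b, hb⟩), rfl⟩
        · exact ⟨(false, ⟨a, ha⟩, ⟨b, hb⟩), rfl⟩
    rw [← Nat.card_eq_of_bijective f hf, Nat.card_prod, Nat.card_prod, D.card_qgp,
      Nat.card_eq_fintype_card (α := Bool), Fintype.card_bool]
  let π := QuotientGroup.mk' (Subgroup.center Sp4)
  have hle : Subgroup.center Sp4 ≤ p4 D := fun X hX => by
    rcases (mem_center4 X).1 hX with rfl | rfl
    exacts [one_mem _, D.negneg_mem]
  have hkc : Nat.card (Subgroup.center Sp4) = 2 := by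
    rw [CfsgLib.Linear.Symp.card_center (by norm_num)]
    have hcF : Fintype.card F % 2 = 1 :=
      FiniteField.odd_card_of_char_ne_two fun h => by
        have := ringChar.charP F
        rw [h] at this
        exact D.two (CharTwo.two_eq_zero (R := F))
    exact Nat.gcd_eq_left (Nat.dvd_of_mod_eq_zero (by have := Fintype.card_pos (α := F); omega))
  have hmap : Nat.card ((p4 D).map π) * 2 = Nat.card (p4 D) := by
    have h := (π.comp (p4 D).subtype).ker.card_mul_index
    rw [Subgroup.index_ker, MonoidHom.range_comp, Subgroup.range_subtype] at h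
    rw [← h, mul_comm]
    congr 1
    rw [← MonoidHom.comap_ker, QuotientGroup.ker_mk']
    exact hkc.symm.trans (Nat.card_congr (Subgroup.subgroupOfEquivOfLe hle).toEquiv).symm
  let P0 : Sylow 2 G4 := Sylow.ofCard ((p4 D).map π) (by
    rw [D.fac, show 2 * k + 2 = (k + 1) + (k + 1) by ring, pow_add]
    show Nat.card ((p4 D).map π) = _
    omega)
  obtain ⟨g, hg⟩ := MulAction.exists_smul_eq G4 P0 S
  refine ⟨g, fun X => ?_⟩
  show emb g X ∈ (S : Subgroup G4) ↔ _
  rw [← hg, Sylow.coe_subgroup_smul]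
  show g * π X * g⁻¹ ∈ ((p4 D).map π).map (MulAut.conj g).toMonoidHom ↔ _
  constructor
  · rintro ⟨_, ⟨Y, hY, rfl⟩, h⟩
    have h' : emb g Y = emb g X := h
    rcases emb_eq_iff.1 h' with h'' | h''
    · exact h'' ▸ hY
    · have : X = (base (-1, -1))⁻¹ * Y := by rw [h'', inv_mul_cancel_left]
      rw [this]
      exact mul_mem (inv_mem D.negneg_mem) hY
  · exact fun h => ⟨_, ⟨X, h, rfl⟩, rfl⟩

/-- The matrix `(1 + i + j + ij)/2`. -/
def a0 (D : QD i j c k) : SL2 :=
  ⟨(2 : F)⁻¹ • !![1 + j.1 0 0 - j.1 1 0, -1 + j.1 0 0 + j.1 1 0;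
      1 + j.1 0 0 + j.1 1 0, 1 - j.1 0 0 + j.1 1 0], by
    have := D.two
    have hd := j.2
    rw [det_fin_two, D.sym.1, D.sym.2] at hd
    rw [det_smul, det_fin_two_of, Fintype.card_fin]
    field_simp
    linear_combination 2 * hd⟩

theorem QD.a0_conj (D : QD i j c k) :
    a0 D * i * (a0 D)⁻¹ = j ∧ a0 D * j * (a0 D)⁻¹ = i * j := by
  have := D.two
  have hd := j.2
  rw [det_fin_two, D.sym.1, D.sym.2] at hd
  constructor <;> rw [mul_inv_eq_iff_eq_mul] <;> apply Subtype.ext <;>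
    simp only [Matrix.SpecialLinearGroup.coe_mul, D.coi] <;>
    ext u v <;> fin_cases u <;> fin_cases v <;>
    simp [a0, omega, Matrix.mul_apply, Fin.sum_univ_two, Matrix.vecMul, dotProduct, D.sym.1, D.sym.2] <;> field_simp <;>
    (first | ring1 | linear_combination hd | linear_combination -hd | linear_combination 2 * hd | linear_combination -2 * hd)

theorem QD.a0_norm (D : QD i j c k) (hk2 : k = 2) : a0 D ∈ Subgroup.normalizer (qgp D : Set SL2) := by
  classical
  have hc2 : c * c = -1 := by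
    have h : (c * c) * (c * c) = 1 := by
      have h' := pow_orderOf_eq_one c
      rw [D.ord, hk2] at h'
      rw [← h']; simp [pow_succ, mul_assoc]
    refine (CfsgLib.InvChar.sl2_eq_one_or_neg D.two h).resolve_left fun h' => ?_
    have h'' := orderOf_dvd_of_pow_eq_one (show c ^ 2 = 1 by rw [pow_two, h'])
    rw [D.ord, hk2] at h''
    norm_num at h''
  obtain ⟨h1, h2⟩ := D.a0_conj
  refine Subgroup.mem_normalizer_fintype fun x hx => ?_
  have hcmem : a0 D * c * (a0 D)⁻¹ ∈ qgp D := by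
    rcases D.eq_pm_i D.ci hc2 with rfl | rfl
    · rw [h1]; exact D.j_mem
    · rw [mul_neg, neg_mul, h1]; simpa using mul_mem D.neg_mem D.j_mem
  obtain ⟨t, rfl | rfl⟩ := hx
  · rw [← conj_zpow]; exact Subgroup.zpow_mem _ hcmem _
  · rw [show a0 D * (j * c ^ t) * (a0 D)⁻¹ =
      a0 D * j * (a0 D)⁻¹ * (a0 D * c ^ t * (a0 D)⁻¹) by group, h2, ← conj_zpow]
    exact mul_mem (mul_mem D.i_mem D.j_mem) (Subgroup.zpow_mem _ hcmem _)

theorem QD.normalizing (D : QD i j c k) (a : SL2) (ha : ∀ x ∈ qgp D, a * x * a⁻¹ ∈ qgp D) :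
    a ∈ qgp D ∨ (k = 2 ∧ ∃ m : ℕ, ((a0 D) ^ m)⁻¹ * a ∈ qgp D) := by
  classical
  have step : ∀ h : SL2, (∀ x ∈ qgp D, h * x * h⁻¹ ∈ qgp D) →
      (h * i * h⁻¹ = i ∨ h * i * h⁻¹ = -i) → h ∈ qgp D := by
    intro h hh hi
    have key : ∀ h : SL2, (∀ x ∈ qgp D, h * x * h⁻¹ ∈ qgp D) → h * i = i * h → h ∈ qgp D := by
      intro h hh hhi
      have h1 := hh j D.j_mem
      have h2 : j * h⁻¹ = h * j := by
        have h' := D.jc h⁻¹ (show Commute h⁻¹ i from (show Commute h i from hhi).inv_left).eq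
        rw [inv_inv, mul_inv_eq_iff_eq_mul] at h'
        exact h'
      rw [mul_assoc, h2, ← mul_assoc] at h1
      have h3 : h * h ∈ qgp D := by
        have := mul_mem h1 (inv_mem D.j_mem)
        rwa [mul_inv_cancel_right] at this
      have hhc : h * h * i = i * (h * h) := ((show Commute h i from hhi).mul_left hhi).eq
      rcases D.mem_cases h3 with h4 | ⟨t, ht⟩
      · refine D.zpow_le (D.max h hhi (k + 1) ?_)
        obtain ⟨t, ht⟩ := h4
        rw [pow_succ', pow_mul, pow_two, ← ht, ← _root_.zpow_natCast, ← _root_.zpow_mul, mul_comm,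
          _root_.zpow_mul, _root_.zpow_natCast, ← D.ord, pow_orderOf_eq_one, _root_.one_zpow]
      · exfalso
        have hct : (c ^ t) * i = i * c ^ t := D.pow_comm ⟨t, rfl⟩
        rw [ht, mul_assoc, hct, ← mul_assoc, ← mul_assoc] at hhc
        exact D.j_not_comm (mul_right_cancel hhc)
    rcases hi with hi | hi
    · exact key h hh (mul_inv_eq_iff_eq_mul.1 hi)
    · have hjh : j * h ∈ qgp D := by
        refine key _ (fun x hx => ?_) ?_
        · rw [show j * h * x * (j * h)⁻¹ = j * (h * x * h⁻¹) * j⁻¹ by group]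
          exact mul_mem (mul_mem D.j_mem (hh x hx)) (inv_mem D.j_mem)
        · rw [mul_assoc, mul_inv_eq_iff_eq_mul.1 hi, neg_mul, mul_neg, ← mul_assoc, D.ji, neg_mul,
            neg_neg, mul_assoc]
      simpa using mul_mem (inv_mem D.j_mem) hjh
  have hii : (a * i * a⁻¹) * (a * i * a⁻¹) = -1 := by
    rw [show a * i * a⁻¹ * (a * i * a⁻¹) = a * (i * i) * a⁻¹ by group, D.ii]
    simp
  rcases D.mem_cases (ha i D.i_mem) with h | ⟨t, ht⟩
  · exact Or.inl (step a ha (D.eq_pm_i (D.pow_comm h) hii))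
  · rcases lt_or_eq_of_le D.hk with hk3 | hk2
    · exfalso
      obtain ⟨s, hs⟩ := D.hi
      have hmem := ha c (D.zpow_le (Subgroup.mem_zpowers c))
      rcases D.mem_cases hmem with h | ⟨t', ht'⟩
      · have : a * i * a⁻¹ ∈ Subgroup.zpowers c := by
          rw [← hs, ← conj_zpow]; exact Subgroup.zpow_mem _ h _
        rw [ht] at this
        exact D.j_not_comm (D.pow_comm (by
          simpa using mul_mem this (Subgroup.inv_mem _ (Subgroup.zpow_mem _ (Subgroup.mem_zpowers c) t))))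
      · have h4 : (a * c * a⁻¹) ^ 4 = 1 := by
          rw [show (4 : ℕ) = 2 * 2 from rfl, pow_mul, pow_two (a * c * a⁻¹), ht', D.sq_neg, neg_one_sq]
        have h8 := orderOf_dvd_of_pow_eq_one h4
        have he : orderOf (a * c * a⁻¹) = orderOf c := MulEquiv.orderOf_eq (MulAut.conj a) c
        rw [he, D.ord] at h8
        have := Nat.le_of_dvd (by norm_num) h8
        have : 2 ^ 3 ≤ 2 ^ k := Nat.pow_le_pow_right two_pos hk3
        omega
    · obtain ⟨h1, h2⟩ := D.a0_conj
      have hn := D.a0_norm hk2.symm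
      have hct : c ^ t = 1 ∨ c ^ t = -1 ∨ c ^ t = i ∨ c ^ t = -i := by
        have hc2 : c * c = -1 := by
          have h : (c * c) * (c * c) = 1 := by
            have h' := pow_orderOf_eq_one c
            rw [D.ord, ← hk2] at h'
            rw [← h']; simp [pow_succ, mul_assoc]
          refine (CfsgLib.InvChar.sl2_eq_one_or_neg D.two h).resolve_left fun h' => ?_
          have h'' := orderOf_dvd_of_pow_eq_one (show c ^ 2 = 1 by rw [pow_two, h'])
          rw [D.ord, ← hk2] at h''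
          norm_num at h''
        rcases Int.even_or_odd t with ⟨r, rfl⟩ | ⟨r, rfl⟩
        · have h : c ^ (r + r) * c ^ (r + r) = 1 := by
            rw [← _root_.zpow_add, show r + r + (r + r) = (4 : ℤ) * r by ring, _root_.zpow_mul,
              show c ^ (4 : ℤ) = c * c * (c * c) by simp [zpow_ofNat, pow_succ, mul_assoc], hc2]
            simp
          rcases CfsgLib.InvChar.sl2_eq_one_or_neg D.two h with h' | h' <;> simp [h']
        · have h : c ^ (2 * r + 1) * c ^ (2 * r + 1) = -1 := by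
            rw [← _root_.zpow_add, show 2 * r + 1 + (2 * r + 1) = (4 : ℤ) * r + 2 by ring, _root_.zpow_add,
              _root_.zpow_mul, show c ^ (4 : ℤ) = c * c * (c * c) by simp [zpow_ofNat, pow_succ, mul_assoc],
              zpow_two, hc2]
            simp
          rcases D.eq_pm_i (D.pow_comm ⟨_, rfl⟩) h with h' | h' <;> simp [h']
      have hcl : ∀ m : ℕ, ∀ x ∈ qgp D, ((a0 D) ^ m)⁻¹ * a * x * (((a0 D) ^ m)⁻¹ * a)⁻¹ ∈ qgp D := by
        intro m x hx
        rw [show ((a0 D) ^ m)⁻¹ * a * x * (((a0 D) ^ m)⁻¹ * a)⁻¹ =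
          ((a0 D) ^ m)⁻¹ * (a * x * a⁻¹) * (((a0 D) ^ m)⁻¹)⁻¹ by group]
        exact (Subgroup.mem_normalizer_iff.1 (inv_mem (pow_mem hn m)) _).1 (ha x hx)
      have hcase : (a * i * a⁻¹ = j ∨ a * i * a⁻¹ = -j) ∨ (a * i * a⁻¹ = i * j ∨ a * i * a⁻¹ = -(i * j)) := by
        rw [ht]
        rcases hct with h | h | h | h <;> rw [h]
        · left; left; simp
        · left; right; simp
        · right; right; exact D.ji
        · right; left; rw [mul_neg, D.ji, neg_neg]
      refine Or.inr ⟨hk2.symm, ?_⟩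
      have e1 : (a0 D)⁻¹ * j * a0 D = i := by
        calc _ = (a0 D)⁻¹ * (a0 D * i * (a0 D)⁻¹) * a0 D := by rw [h1]
          _ = i := by group
      have e2 : ((a0 D) ^ 2)⁻¹ * (i * j) * (a0 D) ^ 2 = i := by
        rw [← h2, pow_two]
        calc (a0 D * a0 D)⁻¹ * (a0 D * j * (a0 D)⁻¹) * (a0 D * a0 D) = (a0 D)⁻¹ * j * a0 D := by group
          _ = i := e1
      rcases hcase with h | h
      · refine ⟨1, step _ (hcl 1) ?_⟩
        rw [pow_one, show (a0 D)⁻¹ * a * i * ((a0 D)⁻¹ * a)⁻¹ = (a0 D)⁻¹ * (a * i * a⁻¹) * a0 D by group]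
        rcases h with h | h <;> rw [h]
        · exact Or.inl e1
        · exact Or.inr (by rw [mul_neg, neg_mul, e1])
      · refine ⟨2, step _ (hcl 2) ?_⟩
        rw [show ((a0 D) ^ 2)⁻¹ * a * i * (((a0 D) ^ 2)⁻¹ * a)⁻¹ =
          ((a0 D) ^ 2)⁻¹ * (a * i * a⁻¹) * (a0 D) ^ 2 by group]
        rcases h with h | h <;> rw [h]
        · exact Or.inl e2
        · exact Or.inr (by rw [mul_neg, neg_mul, e2])

theorem huniq_proof (D : QD i j c k) (g : G4) {X : Sp4} (hX : X ∈ p4 D)
    (hXX : emb g X * emb g X = 1) (hX1 : emb g X ≠ 1)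
    (hcom : ∀ Y ∈ p4 D, emb g X * emb g Y = emb g Y * emb g X) :
    emb g X = emb g (base (1, -1)) := by
  have hc : ∀ Y ∈ p4 D, X * Y = Y * X ∨ X * Y = base (-1, -1) * (Y * X) := fun Y hY =>
    emb_eq_iff.1 (by rw [map_mul, map_mul, hcom Y hY])
  obtain ⟨a, -, b, -, rfl | rfl⟩ := hX
  · have hleft : ∀ x ∈ qgp D, a * x = x * a := by
      intro x hx
      rcases hc _ (D.base_mem_iff.2 ⟨hx, one_mem _⟩) with h | h
      · rw [← map_mul, ← map_mul] at h
        exact congrArg Prod.fst (base_injective h)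
      · rw [← map_mul, ← map_mul, ← map_mul] at h
        have h' := congrArg Prod.snd (base_injective h)
        simp only [Prod.snd_mul, mul_one, one_mul, neg_one_mul] at h'
        have h'' : (1 : SL2) = -1 := mul_right_cancel (by rw [one_mul, neg_one_mul]; exact h')
        exact absurd h''.symm D.ne_neg
    have hright : ∀ x ∈ qgp D, b * x = x * b := by
      intro x hx
      rcases hc _ (D.base_mem_iff.2 ⟨one_mem _, hx⟩) with h | h
      · rw [← map_mul, ← map_mul] at h
        exact congrArg Prod.snd (base_injective h)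
      · rw [← map_mul, ← map_mul, ← map_mul] at h
        have h' := congrArg Prod.fst (base_injective h)
        simp only [Prod.fst_mul, mul_one, one_mul, neg_one_mul] at h'
        have h'' : (1 : SL2) = -1 := mul_right_cancel (by rw [one_mul, neg_one_mul]; exact h')
        exact absurd h''.symm D.ne_neg
    rcases D.scalar (hleft i D.i_mem) (hleft j D.j_mem) with rfl | rfl <;>
      rcases D.scalar (hright i D.i_mem) (hright j D.j_mem) with rfl | rfl
    · exact absurd (by rw [Prod.mk_one_one, map_one, map_one]) hX1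
    · rfl
    · refine emb_eq_iff.2 (Or.inr ?_)
      rw [← map_mul]; simp
    · exact absurd (emb_eq_one.2 (Or.inr rfl)) hX1
  · exfalso
    rcases hc _ (D.base_mem_iff.2 ⟨D.i_mem, one_mem _⟩) with h | h
    · rw [mul_assoc, tau_base, ← mul_assoc, ← map_mul, ← mul_assoc, ← map_mul] at h
      have h' := congrArg Prod.fst (base_injective (mul_right_cancel h))
      simp only [Prod.fst_mul, mul_one] at h'
      rw [eq_comm, mul_eq_right] at h'
      have := D.ii
      rw [h', one_mul] at this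
      exact D.ne_neg this.symm
    · rw [mul_assoc, tau_base, ← mul_assoc, ← map_mul, ← mul_assoc (base (i, 1)), ← map_mul,
        ← mul_assoc, ← map_mul] at h
      have h' := congrArg Prod.fst (base_injective (mul_right_cancel h))
      simp only [Prod.fst_mul, mul_one, neg_one_mul] at h'
      have hi : i = -1 := by
        have h'' : (-i) * a = 1 * a := by rw [one_mul, neg_mul]; exact h'.symm
        rw [← neg_neg i, mul_right_cancel h'']
      have := D.ii
      rw [hi, neg_one_mul, neg_neg] at this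
      exact D.ne_neg this.symm

omit [Fintype F] in
theorem kr_left_symp (x : SL2) : kr x.1 (1 : Matrix (Fin 2) (Fin 2) F) ∈ Sp4 := by
  rw [← dg_self]; exact dg_symp x x

omit [Fintype F] in
theorem kr_omega_symp : kr (1 : Matrix (Fin 2) (Fin 2) F) omega ∈ Sp4 := by
  rw [mem_symp, J_eq, kr_transpose, kr_mul, kr_mul]
  congr 1
  · simp
  · ext u v; fin_cases u <;> fin_cases v <;> simp [omega, Matrix.mul_apply, Fin.sum_univ_two]

omit [Fintype F] in
theorem omega_sq : (omega : Matrix (Fin 2) (Fin 2) F) * omega = -1 := by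
  ext u v; fin_cases u <;> fin_cases v <;> simp [omega]

omit [Fintype F] in
theorem coe_sq_neg {x : SL2} (hx : x * x = -1) : x.1 * x.1 = -1 := by
  rw [← Matrix.SpecialLinearGroup.coe_mul, hx, Matrix.SpecialLinearGroup.coe_neg,
    Matrix.SpecialLinearGroup.coe_one]

/-- `(1 + r)(1 + s)/2` as an element of `Sp₄`. -/
noncomputable def rotS (h2 : (2 : F) ≠ 0) (r s : Sp4) (hr : r.1 * r.1 = -1) (hs : s.1 * s.1 = -1) : Sp4 :=
  ⟨rot r.1 s.1, mem_symp.2 (rot_symplectic h2 r.1 s.1 hr hs (mem_symp.1 r.2) (mem_symp.1 s.2))⟩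

theorem hclosed_proof (D : QD i j c k) (g : G4) (T : Subgroup G4) (hz : emb g (base (1, -1)) ∈ T)
    (hcl : ∀ Y ∈ p4 D, ∀ X : Sp4, emb g X ∈ T → (∃ u, u * emb g X * u⁻¹ = emb g Y) → emb g Y ∈ T) :
    ∀ X ∈ p4 D, emb g X ∈ T := by
  have hmove : ∀ (U X Y : Sp4), Y ∈ p4 D → emb g X ∈ T → U * X = Y * U → emb g Y ∈ T :=
    fun U X Y hY hX hU => hcl Y hY X hX ⟨emb g U, by
      rw [← map_mul, hU, map_mul, mul_inv_cancel_right]⟩
  have hwd : (omega : Matrix (Fin 2) (Fin 2) F) * dgr = swp := by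
    ext u v; fin_cases u <;> fin_cases v <;> simp [omega, dgr, swp]
  have hdw : (dgr : Matrix (Fin 2) (Fin 2) F) * omega = -swp := by
    ext u v; fin_cases u <;> fin_cases v <;> simp [omega, dgr, swp]
  have hsd : (swp : Matrix (Fin 2) (Fin 2) F) * dgr = omega := by
    ext u v; fin_cases u <;> fin_cases v <;> simp [omega, dgr, swp]
  have hds : (dgr : Matrix (Fin 2) (Fin 2) F) * swp = -omega := by
    ext u v; fin_cases u <;> fin_cases v <;> simp [omega, dgr, swp]
  have htau : emb g tau ∈ T := by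
    refine hmove (rotS D.two ⟨_, kr_left_symp i⟩ ⟨_, kr_omega_symp⟩
      (by rw [kr_mul, coe_sq_neg D.ii, one_mul, kr_neg_left, kr_one])
      (by rw [kr_mul, omega_sq, one_mul, kr_neg_right, kr_one]))
      (base (1, -1)) tau D.tau_mem hz (Subtype.ext ?_)
    show rot _ _ * (base (1, -1) : Sp4).1 = kr 1 swp * rot _ _
    rw [base_one_neg, rot_mul_comm_anti _ _ _ (by rw [kr_mul, omega_sq, one_mul, kr_neg_right, kr_one])
      (by simp [kr_mul]) (by simp [kr_mul]) (by rw [kr_mul, kr_mul, hwd, hdw, kr_neg_right, neg_neg]),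
      kr_mul, hwd, one_mul]
  have hdiag : ∀ x ∈ qgp D, x * x = -1 → emb g (base (x, x)) ∈ T := by
    intro x hx hxx
    have hxm := coe_sq_neg hxx
    have hssymp : kr x.1 (swp : Matrix (Fin 2) (Fin 2) F) ∈ Sp4 := by
      have h : kr x.1 (swp : Matrix (Fin 2) (Fin 2) F) = ((base (x, x) * tau : Sp4) : Matrix _ _ F) := by
        show _ = dg x.1 x.1 * kr 1 swp
        rw [dg_self, kr_mul, mul_one, one_mul]
      rw [h]; exact SetLike.coe_mem _
    have htz : ((tau * base (1, -1) : Sp4) : Matrix _ _ F) = kr 1 omega := by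
      show kr 1 swp * (base (1, -1) : Sp4).1 = _
      rw [base_one_neg, kr_mul, hsd, one_mul]
    have hY : base (x, x) * (tau * base (1, -1)) ∈ p4 D :=
      mul_mem (D.base_mem_iff.2 ⟨hx, hx⟩) (mul_mem D.tau_mem D.z_mem)
    have h := hmove (rotS D.two ⟨_, kr_left_symp x⟩ ⟨_, hssymp⟩
      (by rw [kr_mul, hxm, one_mul, kr_neg_left, kr_one])
      (by rw [kr_mul, hxm, swp_mul_swp, kr_neg_left, kr_one]))
      (base (1, -1)) _ hY hz (Subtype.ext ?_)
    · rw [map_mul] at h
      exact (T.mul_mem_cancel_right (by rw [map_mul]; exact T.mul_mem htau hz)).1 h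
    · show rot _ _ * (base (1, -1) : Sp4).1 = (dg x.1 x.1 * (tau * base (1, -1) : Sp4).1) * rot _ _
      rw [base_one_neg, htz, rot_mul_comm_anti _ _ _ (by rw [kr_mul, hxm, swp_mul_swp, kr_neg_left, kr_one])
        (by simp [kr_mul]) (by simp [kr_mul]) (by rw [kr_mul, kr_mul, hsd, hds, one_mul, mul_one, kr_neg_right, neg_neg]),
        kr_mul, hsd, mul_one, dg_self, kr_mul, one_mul, mul_one]
  have hpair : ∀ x ∈ qgp D, ∀ y ∈ qgp D, x * x = -1 → y * y = -1 → emb g (base (1, x⁻¹ * y)) ∈ T := by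
    intro x hx y hy hxx hyy
    obtain ⟨U, hU⟩ := CfsgLib.InvChar.sl2_conj_of_sq_eq_neg D.two hxx hyy
    have hxy : emb g (base (x, y)) ∈ T :=
      hmove (base (1, U)) _ _ (D.base_mem_iff.2 ⟨hx, hy⟩) (hdiag x hx hxx) (by
        rw [← map_mul, ← map_mul]
        congr 1
        refine Prod.ext (by simp) ?_
        show U * x = y * U
        rw [hU, inv_mul_cancel_right])
    have := T.mul_mem (T.inv_mem (hdiag x hx hxx)) hxy
    rwa [← map_inv, ← map_mul, ← map_inv, ← map_mul,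
      show (x, x)⁻¹ * (x, y) = ((1 : SL2), x⁻¹ * y) by simp] at this
  have hright : ∀ x ∈ qgp D, emb g (base (1, x)) ∈ T := by
    have hpow : ∀ t : ℤ, emb g (base (1, c ^ t)) ∈ T := fun t => by
      have h := hpair j D.j_mem (j * c ^ t) ⟨t, Or.inr rfl⟩ D.jj (D.sq_neg t)
      rwa [inv_mul_cancel_left] at h
    have hj : emb g (base (1, j)) ∈ T := by
      have h := hpair i D.i_mem j D.j_mem D.ii D.jj
      obtain ⟨t, ht⟩ := D.hi
      have h' := hpow t
      rw [show c ^ t = i from ht] at h'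
      have := T.mul_mem h' h
      rwa [← map_mul, ← map_mul, show ((1 : SL2), i) * (1, i⁻¹ * j) = (1, j) by simp] at this
    rintro x ⟨t, rfl | rfl⟩
    · exact hpow t
    · rw [show ((1 : SL2), j * c ^ t) = (1, j) * (1, c ^ t) by simp, map_mul, map_mul]
      exact T.mul_mem hj (hpow t)
  have hbase : ∀ a ∈ qgp D, ∀ b ∈ qgp D, emb g (base (a, b)) ∈ T := by
    intro a ha b hb
    have hleft : emb g (base (a, 1)) ∈ T := by
      have := T.mul_mem (T.mul_mem htau (hright a ha)) htau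
      rwa [← map_mul, ← map_mul, tau_base, mul_assoc, tau_sq, mul_one] at this
    rw [show (a, b) = (a, 1) * ((1 : SL2), b) by simp, map_mul, map_mul]
    exact T.mul_mem hleft (hright b hb)
  rintro X ⟨a, ha, b, hb, rfl | rfl⟩
  · exact hbase a ha b hb
  · rw [map_mul]; exact T.mul_mem (hbase a ha b hb) htau

omit [Fintype F] in
theorem exists_base_of_commute (h2 : (2 : F) ≠ 0) {X : Sp4}
    (h : X * base (1, -1) = base (1, -1) * X) : ∃ p, base p = X := by
  have h' : X.1 * kr 1 dgr = kr 1 dgr * X.1 := by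
    rw [← base_one_neg]; exact congrArg Subtype.val h
  rw [← Matrix.ext_iff] at h'
  have hz : ∀ x : F, -x = x → x = 0 := fun x hx =>
    (mul_eq_zero.mp (show (2 : F) * x = 0 by linear_combination -hx)).resolve_left h2
  have key : ∀ (s t : Bool) (u v : Fin 2), u ≠ v →
      X.1 (bif s then .inl u else .inr u) (bif t then .inl v else .inr v) = 0 := by
    intro s t u v huv
    have e := h' (bif s then .inl u else .inr u) (bif t then .inl v else .inr v)
    fin_cases u <;> fin_cases v <;> first | (exact absurd rfl huv) |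
      (cases s <;> cases t <;> simp [kr, dgr, Matrix.mul_apply, Fin.sum_univ_two] at e ⊢ <;>
        first | exact hz _ (by linear_combination e) | exact hz _ (by linear_combination -e))
  have k1 := key true true 0 1 (by decide)
  have k2 := key true true 1 0 (by decide)
  have k3 := key true false 0 1 (by decide)
  have k4 := key true false 1 0 (by decide)
  have k5 := key false true 0 1 (by decide)
  have k6 := key false true 1 0 (by decide)
  have k7 := key false false 0 1 (by decide)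
  have k8 := key false false 1 0 (by decide)
  simp only [cond_true, cond_false] at k1 k2 k3 k4 k5 k6 k7 k8
  have hs := mem_symp.1 X.2
  rw [← Matrix.ext_iff] at hs
  have d0 := hs (.inl 0) (.inr 0)
  have d1 := hs (.inl 1) (.inr 1)
  simp [Matrix.J, Matrix.mul_apply, Fin.sum_univ_two, Fintype.sum_sum_type, k1, k2, k3, k4, k5, k6, k7, k8] at d0 d1
  refine ⟨(⟨!![X.1 (.inl 0) (.inl 0), X.1 (.inl 0) (.inr 0); X.1 (.inr 0) (.inl 0), X.1 (.inr 0) (.inr 0)],
      by rw [det_fin_two_of]; linear_combination -d0⟩,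
    ⟨!![X.1 (.inl 1) (.inl 1), X.1 (.inl 1) (.inr 1); X.1 (.inr 1) (.inl 1), X.1 (.inr 1) (.inr 1)],
      by rw [det_fin_two_of]; linear_combination -d1⟩), Subtype.ext ?_⟩
  rw [base_coe]
  ext (u | u) (v | v) <;> fin_cases u <;> fin_cases v <;>
    simp [dg, kr, E0, E1, k1, k2, k3, k4, k5, k6, k7, k8]

omit [Fintype F] in
theorem tau_z : tau * base ((1 : SL2), -1) = base (-1, -1) * (base (1, -1) * tau) := by
  rw [tau_base, ← mul_assoc, ← map_mul]
  simp

omit [Fintype F] in
theorem exists_cases_of_commute (h2 : (2 : F) ≠ 0) {g : G4} {X : Sp4}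
    (h : emb g X * emb g (base (1, -1)) = emb g (base (1, -1)) * emb g X) :
    ∃ p, X = base p ∨ X = base p * tau := by
  rw [← map_mul, ← map_mul] at h
  rcases emb_eq_iff.1 h with h | h
  · obtain ⟨p, hp⟩ := exists_base_of_commute h2 h
    exact ⟨p, Or.inl hp.symm⟩
  · obtain ⟨p, hp⟩ := exists_base_of_commute h2 (X := X * tau) (by
      rw [mul_assoc, tau_z, ← mul_assoc, Subgroup.mem_center_iff.1 ((mem_center4 _).2 (Or.inr rfl)) X]
      calc base (-1, -1) * X * (base (1, -1) * tau)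
          = base (-1, -1) * (X * base (1, -1)) * tau := by simp only [mul_assoc]
        _ = base (-1, -1) * (base (-1, -1) * (base (1, -1) * X)) * tau := by rw [h]
        _ = base (1, -1) * (X * tau) := by
          rw [← mul_assoc (base (-1, -1)) (base (-1, -1)), ← map_mul,
            show ((-1 : SL2), (-1 : SL2)) * (-1, -1) = 1 by simp, map_one, one_mul, mul_assoc])
    exact ⟨p, Or.inr (by rw [hp, mul_assoc, tau_sq, mul_one])⟩

/-- The elementary abelian subgroup of order `16`, pulled back to `Sp₄`. -/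
def r4 (D : QD i j c k) : Subgroup Sp4 :=
  Subgroup.closure ({base (i, i), base (j, j), base (1, -1), tau, base (-1, -1)} : Set Sp4)

theorem QD.r4_le (D : QD i j c k) : r4 D ≤ p4 D := by
  rw [r4, Subgroup.closure_le]
  rintro _ (rfl | rfl | rfl | rfl | rfl)
  exacts [D.base_mem_iff.2 ⟨D.i_mem, D.i_mem⟩, D.base_mem_iff.2 ⟨D.j_mem, D.j_mem⟩, D.z_mem, D.tau_mem,
    D.negneg_mem]

theorem QD.centralizer_r4 (D : QD i j c k) (g : G4) :
    Subgroup.centralizer (((r4 D).map (emb g) : Subgroup G4) : Set G4) ≤ (r4 D).map (emb g) := by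
  intro x hx
  obtain ⟨X, rfl⟩ := emb_surjective g x
  refine ⟨X, ?_, rfl⟩
  have gi : base (i, i) ∈ r4 D := Subgroup.subset_closure (Or.inl rfl)
  have gj : base (j, j) ∈ r4 D := Subgroup.subset_closure (Or.inr (Or.inl rfl))
  have gz : base (1, -1) ∈ r4 D := Subgroup.subset_closure (Or.inr (Or.inr (Or.inl rfl)))
  have gt : tau ∈ r4 D := Subgroup.subset_closure (Or.inr (Or.inr (Or.inr (Or.inl rfl))))
  have gn : base (-1, -1) ∈ r4 D := Subgroup.subset_closure (Or.inr (Or.inr (Or.inr (Or.inr rfl))))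
  have hcom : ∀ Y ∈ r4 D, X * Y = Y * X ∨ X * Y = base (-1, -1) * (Y * X) := fun Y hY =>
    emb_eq_iff.1 (by
      rw [map_mul, map_mul]
      exact (Subgroup.mem_centralizer_iff.1 hx _ ⟨Y, hY, rfl⟩).symm)
  suffices key : ∀ a b : SL2, (∀ Y ∈ r4 D, base (a, b) * Y = Y * base (a, b) ∨
      base (a, b) * Y = base (-1, -1) * (Y * base (a, b))) → base (a, b) ∈ r4 D by
    obtain ⟨⟨a, b⟩, rfl | rfl⟩ := exists_cases_of_commute D.two (g := g) (X := X)
      (Subgroup.mem_centralizer_iff.1 hx _ ⟨_, gz, rfl⟩).symm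
    · exact key a b hcom
    · refine mul_mem (key a b fun Y hY => ?_) gt
      have h1 : emb g tau * emb g Y = emb g Y * emb g tau := by
        have hx' := Subgroup.mem_centralizer_iff.1 hx
        rw [← map_mul, ← map_mul]
        apply emb_eq_iff.2
        revert Y
        intro Y hY
        induction hY using Subgroup.closure_induction with
        | mem Y hY =>
          rcases hY with rfl | rfl | rfl | rfl | rfl
          · exact Or.inl (tau_base i i)
          · exact Or.inl (tau_base j j)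
          · exact Or.inr tau_z
          · exact Or.inl rfl
          · exact Or.inl (tau_base (-1) (-1))
        | one => exact Or.inl (by simp)
        | mul Y Z _ _ hY hZ =>
          apply (emb_eq_iff (g := g)).1
          have e1 := (emb_eq_iff (g := g)).2 hY
          have e2 := (emb_eq_iff (g := g)).2 hZ
          simp only [map_mul] at e1 e2 ⊢
          rw [← mul_assoc, e1, mul_assoc, e2, mul_assoc]
        | inv Y _ hY =>
          apply (emb_eq_iff (g := g)).1
          have e1 := (emb_eq_iff (g := g)).2 hY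
          simp only [map_mul, map_inv] at e1 ⊢
          exact (show Commute (emb g tau) (emb g Y) from e1).inv_right.eq
      apply (emb_eq_iff (g := g)).1
      have h2 := (emb_eq_iff (g := g)).2 (hcom Y hY)
      simp only [map_mul] at h2 ⊢
      apply mul_right_cancel (b := emb g tau)
      rw [mul_assoc, ← h1, ← mul_assoc, h2, mul_assoc]
  intro a b hY
  have hcomm : ∀ x : SL2, base (x, x) ∈ r4 D → a * x = x * a ∨ a * x = -(x * a) := by
    intro x hx
    rcases hY _ hx with h | h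
    · rw [← map_mul, ← map_mul] at h
      exact Or.inl (congrArg Prod.fst (base_injective h))
    · rw [← map_mul, ← map_mul, ← map_mul] at h
      have h' := congrArg Prod.fst (base_injective h)
      simp only [Prod.fst_mul, neg_one_mul] at h'
      exact Or.inr h'
  have hdiag : base (a, a) ∈ r4 D := by
    have hn : ∀ x : SL2, base (x, x) ∈ r4 D → base (-x, -x) ∈ r4 D := fun x hx => by
      rw [show ((-x, -x) : SL2 × SL2) = (-1, -1) * (x, x) by simp, map_mul]
      exact mul_mem gn hx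
    rcases D.signs (hcomm i gi) (hcomm j gj) with (rfl | rfl) | (rfl | rfl) | (rfl | rfl) | (rfl | rfl)
    · rw [Prod.mk_one_one, map_one]; exact one_mem _
    · exact gn
    · exact gi
    · exact hn i gi
    · exact gj
    · exact hn j gj
    · rw [show ((i * j, i * j) : SL2 × SL2) = (i, i) * (j, j) from rfl, map_mul]; exact mul_mem gi gj
    · refine hn _ ?_
      rw [show ((i * j, i * j) : SL2 × SL2) = (i, i) * (j, j) from rfl, map_mul]; exact mul_mem gi gj
  have hb : b = a ∨ b = -a := by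
    rcases hY _ gt with h | h
    · rw [tau_base] at h
      exact Or.inl (congrArg Prod.fst (base_injective (mul_right_cancel h))).symm
    · rw [tau_base, ← mul_assoc, ← map_mul] at h
      have h' := congrArg Prod.fst (base_injective (mul_right_cancel h))
      simp only [Prod.fst_mul, neg_one_mul] at h'
      exact Or.inr (by rw [h', neg_neg])
  rcases hb with rfl | rfl
  · exact hdiag
  · rw [show ((a, -a) : SL2 × SL2) = (1, -1) * (a, a) by simp, map_mul]
    exact mul_mem gz hdiag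

theorem QD.a0_eq (D : QD i j c k) : rot (kr i.1 (1 : Matrix (Fin 2) (Fin 2) F)) (kr j.1 1) = kr (a0 D).1 1 := by
  have hd := j.2
  rw [det_fin_two, D.sym.1, D.sym.2] at hd
  have := D.two
  have hj : j.1 = !![j.1 0 0, j.1 1 0; j.1 1 0, -j.1 0 0] := by
    ext u v; fin_cases u <;> fin_cases v <;> simp [D.sym.1, D.sym.2]
  have e : ((a0 D).1 : Matrix (Fin 2) (Fin 2) F) = (2 : F)⁻¹ • (1 + i.1 + j.1 + i.1 * j.1) := by
    conv_rhs => rw [hj, D.coi]
    show (2 : F)⁻¹ • !![_, _; _, _] = _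
    congr 1
    ext u v; fin_cases u <;> fin_cases v <;> simp [omega] <;> ring
  rw [e, rot, add_mul, mul_add, mul_add, one_mul, mul_one, kr_mul, one_mul, one_mul]
  ext (u | u) (v | v) <;> fin_cases u <;> fin_cases v <;> simp [kr, this] <;> ring

theorem rotS_normalizes (D : QD i j c k) (g : G4) (U : Sp4)
    (hU : ∀ Y ∈ ({base (i, i), base (j, j), base (1, -1), tau} : Set Sp4), ∃ Z ∈ r4 D, U * Y = Z * U) :
    emb g U ∈ Subgroup.normalizer (((r4 D).map (emb g) : Subgroup G4) : Set G4) := by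
  classical
  have hmem : ∀ Y ∈ r4 D, U * Y * U⁻¹ ∈ r4 D := by
    intro Y hY
    induction hY using Subgroup.closure_induction with
    | mem Y hY =>
      have h : ∀ Y ∈ ({base (i, i), base (j, j), base (1, -1), tau} : Set Sp4), U * Y * U⁻¹ ∈ r4 D :=
        fun Y hY => by
          obtain ⟨Z, hZ, hUY⟩ := hU Y hY
          rwa [hUY, mul_inv_cancel_right]
      rcases hY with rfl | rfl | rfl | rfl | rfl
      · exact h _ (Or.inl rfl)
      · exact h _ (Or.inr (Or.inl rfl))
      · exact h _ (Or.inr (Or.inr (Or.inl rfl)))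
      · exact h _ (Or.inr (Or.inr (Or.inr rfl)))
      · rw [Subgroup.mem_center_iff.1 ((mem_center4 _).2 (Or.inr rfl)) U, mul_inv_cancel_right]
        exact Subgroup.subset_closure (Or.inr (Or.inr (Or.inr (Or.inr rfl))))
    | one => simp
    | mul Y Z _ _ hY hZ =>
      rw [show U * (Y * Z) * U⁻¹ = (U * Y * U⁻¹) * (U * Z * U⁻¹) by group]
      exact mul_mem hY hZ
    | inv Y _ hY =>
      rw [show U * Y⁻¹ * U⁻¹ = (U * Y * U⁻¹)⁻¹ by group]
      exact inv_mem hY
  refine Subgroup.mem_normalizer_fintype ?_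
  rintro _ ⟨Y, hY, rfl⟩
  exact ⟨_, hmem Y hY, by rw [map_mul, map_mul, map_inv]⟩

theorem diag_a0_mem (D : QD i j c k) (S : Sylow 2 G4) (g : G4) (hS : ∀ X : Sp4, emb g X ∈ S ↔ X ∈ p4 D)
    (hk2 : k = 2) {E : Cfsg.FusionSystem (S : Subgroup G4)} (hE : E.IsSaturated 2)
    (hinv : E.IsInvariantIn (Cfsg.groupFusionSystem (S : Subgroup G4))) :
    Cfsg.conjHom (S : Subgroup G4) (emb g (base (a0 D, a0 D))) ∈ E.Hom (S : Subgroup G4) ∧
      ∀ x ∈ S, emb g (base (a0 D, a0 D)) * x * (emb g (base (a0 D, a0 D)))⁻¹ ∈ S := by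
  classical
  have : Fact (Nat.Prime 2) := ⟨Nat.prime_two⟩
  have hnorm : ∀ x ∈ S, emb g (base (a0 D, a0 D)) * x * (emb g (base (a0 D, a0 D)))⁻¹ ∈ S := by
    intro x hx
    obtain ⟨X, rfl⟩ := emb_surjective g x
    rw [← map_inv, ← map_mul, ← map_mul, hS]
    have hn := D.a0_norm hk2
    have hn' : ∀ y ∈ qgp D, a0 D * y * (a0 D)⁻¹ ∈ qgp D := fun y hy =>
      (Subgroup.mem_normalizer_iff.1 hn y).1 hy
    obtain ⟨a, ha, b, hb, rfl | rfl⟩ := (hS X).1 hx
    · rw [← map_inv, ← map_mul, ← map_mul]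
      exact D.base_mem_iff.2 ⟨hn' a ha, hn' b hb⟩
    · rw [← map_inv, mul_assoc, mul_assoc, Prod.inv_mk, tau_base, ← mul_assoc, ← mul_assoc, ← map_mul,
        ← map_mul]
      exact mul_mem (D.base_mem_iff.2 ⟨hn' a ha, hn' b hb⟩) D.tau_mem
  refine ⟨?_, hnorm⟩
  let R : Subgroup G4 := (r4 D).map (emb g)
  have hR : R ≤ (S : Subgroup G4) := by
    rintro _ ⟨Y, hY, rfl⟩
    exact (hS Y).2 (D.r4_le hY)
  have hI := coe_sq_neg D.ii
  have hJ := coe_sq_neg D.jj
  let I4 : Sp4 := ⟨_, kr_left_symp i⟩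
  let J4 : Sp4 := ⟨_, kr_left_symp j⟩
  let W4 : Sp4 := ⟨_, kr_omega_symp⟩
  let W4n : Sp4 := base (-1, -1) * W4
  have hWn : (W4n : Matrix _ _ F) = -(kr 1 omega) := by
    show (base (-1, -1) : Sp4).1 * kr 1 omega = _
    rw [base_neg_neg, neg_one_mul]
  have hI2 : I4.1 * I4.1 = -1 := by rw [kr_mul, hI, one_mul, kr_neg_left, kr_one]
  have hJ2 : J4.1 * J4.1 = -1 := by rw [kr_mul, hJ, one_mul, kr_neg_left, kr_one]
  have hW2 : W4.1 * W4.1 = -1 := by rw [kr_mul, omega_sq, one_mul, kr_neg_right, kr_one]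
  have hWn2 : W4n.1 * W4n.1 = -1 := by rw [hWn, neg_mul_neg]; exact hW2
  set U1 := rotS D.two I4 W4 hI2 hW2 with hU1
  set U2 := rotS D.two W4n J4 hWn2 hJ2 with hU2
  have hprod : base (a0 D, a0 D) = U1 * U2 := Subtype.ext (by
    show dg (a0 D).1 (a0 D).1 = rot I4.1 W4.1 * rot W4n.1 J4.1
    rw [dg_self, hWn, rot_mul_rot D.two _ _ _ hW2, D.a0_eq])
  have gi : base (i, i) ∈ r4 D := Subgroup.subset_closure (Or.inl rfl)
  have gj : base (j, j) ∈ r4 D := Subgroup.subset_closure (Or.inr (Or.inl rfl))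
  have gz : base (1, -1) ∈ r4 D := Subgroup.subset_closure (Or.inr (Or.inr (Or.inl rfl)))
  have gt : tau ∈ r4 D := Subgroup.subset_closure (Or.inr (Or.inr (Or.inr (Or.inl rfl))))
  have gn : base (-1, -1) ∈ r4 D := Subgroup.subset_closure (Or.inr (Or.inr (Or.inr (Or.inr rfl))))
  have hWr : W4 ∈ r4 D := by
    rw [show W4 = tau * base (1, -1) from Subtype.ext (by
      show kr 1 omega = kr 1 swp * (base (1, -1) : Sp4).1
      rw [base_one_neg, kr_mul, one_mul]
      congr 1
      ext u v; fin_cases u <;> fin_cases v <;> simp [omega, swp, dgr])]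
    exact mul_mem gt gz
  have hWnr : W4n ∈ r4 D := mul_mem gn hWr
  have hIr : I4 ∈ r4 D := by
    rwa [show I4 = base (i, i) from Subtype.ext (dg_self i.1).symm]
  have hJr : J4 ∈ r4 D := by
    rwa [show J4 = base (j, j) from Subtype.ext (dg_self j.1).symm]
  have hbi : ((base (i, i) : Sp4) : Matrix _ _ F) = kr i.1 1 := dg_self _
  have hbj : ((base (j, j) : Sp4) : Matrix _ _ F) = kr j.1 1 := dg_self _
  have hbt : ((tau : Sp4) : Matrix _ _ F) = kr 1 swp := rfl
  have hji : i.1 * j.1 = -(j.1 * i.1) := by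
    have h := congrArg Subtype.val D.ji
    simp only [Matrix.SpecialLinearGroup.coe_mul, Matrix.SpecialLinearGroup.coe_neg] at h
    rw [h, neg_neg]
  have hji' : j.1 * i.1 = -(i.1 * j.1) := by rw [hji, neg_neg]
  have hwd : (omega : Matrix (Fin 2) (Fin 2) F) * dgr = -(dgr * omega) := by
    ext u v; fin_cases u <;> fin_cases v <;> simp [omega, dgr]
  have hws : (omega : Matrix (Fin 2) (Fin 2) F) * swp = -(swp * omega) := by
    ext u v; fin_cases u <;> fin_cases v <;> simp [omega, swp]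
  have n1 : emb g U1 ∈ Subgroup.normalizer (R : Set G4) := by
    refine rotS_normalizes D g U1 ?_
    rintro _ (rfl | rfl | rfl | rfl)
    · refine ⟨_, gi, Subtype.ext (rot_mul_comm_comm _ _ _ ?_ ?_)⟩
      · rw [hbi]
      · rw [hbi, kr_mul, kr_mul, one_mul, mul_one, one_mul, mul_one]
    · refine ⟨I4 * base (j, j), mul_mem hIr gj, Subtype.ext (rot_mul_anti_comm _ _ _ hI2 ?_ ?_)⟩
      · rw [hbj, kr_mul, kr_mul, hji, one_mul, kr_neg_left]
      · rw [hbj, kr_mul, kr_mul, one_mul, mul_one, one_mul, mul_one]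
    · refine ⟨W4 * base (1, -1), mul_mem hWr gz, Subtype.ext (rot_mul_comm_anti _ _ _ hW2 ?_ ?_ ?_)⟩
      · rw [kr_mul, kr_mul, one_mul, mul_one, one_mul, mul_one]
      · rw [base_one_neg, kr_mul, kr_mul, one_mul, mul_one, one_mul, mul_one]
      · rw [base_one_neg, kr_mul, kr_mul, hwd, one_mul, kr_neg_right]
    · refine ⟨W4 * tau, mul_mem hWr gt, Subtype.ext (rot_mul_comm_anti _ _ _ hW2 ?_ ?_ ?_)⟩
      · rw [kr_mul, kr_mul, one_mul, mul_one, one_mul, mul_one]
      · rw [hbt, kr_mul, kr_mul, one_mul, mul_one, one_mul, mul_one]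
      · rw [hbt, kr_mul, kr_mul, hws, one_mul, kr_neg_right]
  have n2 : emb g U2 ∈ Subgroup.normalizer (R : Set G4) := by
    refine rotS_normalizes D g U2 ?_
    rintro _ (rfl | rfl | rfl | rfl)
    · refine ⟨J4 * base (i, i), mul_mem hJr gi, Subtype.ext (rot_mul_comm_anti _ _ _ hJ2 ?_ ?_ ?_)⟩
      · rw [hWn, neg_mul, mul_neg, kr_mul, kr_mul, one_mul, mul_one, one_mul, mul_one]
      · rw [hWn, hbi, neg_mul, mul_neg, kr_mul, kr_mul, one_mul, mul_one, one_mul, mul_one]
      · rw [hbi, kr_mul, kr_mul, hji', one_mul, kr_neg_left]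
    · refine ⟨_, gj, Subtype.ext (rot_mul_comm_comm _ _ _ ?_ ?_)⟩
      · rw [hWn, hbj, neg_mul, mul_neg, kr_mul, kr_mul, one_mul, mul_one, one_mul, mul_one]
      · rw [hbj]
    · refine ⟨W4n * base (1, -1), mul_mem hWnr gz, Subtype.ext (rot_mul_anti_comm _ _ _ hWn2 ?_ ?_)⟩
      · rw [hWn, base_one_neg, neg_mul, mul_neg, kr_mul, kr_mul, hwd, one_mul, kr_neg_right]
      · rw [base_one_neg, kr_mul, kr_mul, one_mul, mul_one, one_mul, mul_one]
    · refine ⟨W4n * tau, mul_mem hWnr gt, Subtype.ext (rot_mul_anti_comm _ _ _ hWn2 ?_ ?_)⟩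
      · rw [hWn, hbt, neg_mul, mul_neg, kr_mul, kr_mul, hws, one_mul, kr_neg_right]
      · rw [hbt, kr_mul, kr_mul, one_mul, mul_one, one_mul, mul_one]
  have hord : ∀ U : Sp4, U ^ 4 = 1 → ∃ l : ℕ, orderOf (emb g U) = 2 ^ l := fun U hU => by
    obtain ⟨l, -, hl⟩ := (Nat.dvd_prime_pow Nat.prime_two).1
      (orderOf_dvd_of_pow_eq_one (show (emb g U) ^ 2 ^ 2 = 1 by rw [← map_pow]; norm_num [hU]))
    exact ⟨l, hl⟩
  have o1 : U1 ^ 4 = 1 := Subtype.ext (by
    rw [SubmonoidClass.coe_pow]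
    exact rot_pow_four D.two _ _ hI2 hW2 (by rw [kr_mul, kr_mul, one_mul, mul_one, one_mul, mul_one]))
  have o2 : U2 ^ 4 = 1 := Subtype.ext (by
    rw [SubmonoidClass.coe_pow]
    exact rot_pow_four D.two _ _ hWn2 hJ2 (by
      rw [hWn, neg_mul, mul_neg, kr_mul, kr_mul, one_mul, mul_one, one_mul, mul_one]))
  have hmem : emb g (base (a0 D, a0 D)) ∈
      Subgroup.closure {x : G4 | x ∈ Subgroup.normalizer (R : Set G4) ∧ ∃ l : ℕ, orderOf x = 2 ^ l} := by
    rw [hprod, map_mul]
    exact mul_mem (Subgroup.subset_closure ⟨n1, hord U1 o1⟩) (Subgroup.subset_closure ⟨n2, hord U2 o2⟩)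
  have h := CfsgLib.FusionQuot.conjHom_mem_of_closure S hE hinv hR hmem
  exact CfsgLib.FusionQuot.conjHom_mem_extend S hE hinv.1 hR le_rfl (D.centralizer_r4 g) hnorm h

theorem haut_proof (D : QD i j c k) (S : Sylow 2 G4) (g : G4) (hS : ∀ X : Sp4, emb g X ∈ S ↔ X ∈ p4 D)
    {E : Cfsg.FusionSystem (S : Subgroup G4)} (hE : E.IsSaturated 2)
    (hinv : E.IsInvariantIn (Cfsg.groupFusionSystem (S : Subgroup G4))) (x : G4)
    (hxz : x * emb g (base (1, -1)) = emb g (base (1, -1)) * x) (hxS : ∀ y ∈ S, x * y * x⁻¹ ∈ S) :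
    Cfsg.conjHom (S : Subgroup G4) x ∈ E.Hom (S : Subgroup G4) := by
  classical
  have : Fact (Nat.Prime 2) := ⟨Nat.prime_two⟩
  have hin : ∀ X ∈ p4 D, Cfsg.conjHom (S : Subgroup G4) (emb g X) ∈ E.Hom (S : Subgroup G4) ∧
      ∀ y ∈ S, emb g X * y * (emb g X)⁻¹ ∈ S := fun X hX =>
    ⟨E.conj_mem le_rfl ((hS X).2 hX), fun y hy =>
      S.mul_mem (S.mul_mem ((hS X).2 hX) hy) (S.inv_mem ((hS X).2 hX))⟩
  have key : ∀ a b : SL2, (∀ y ∈ S, emb g (base (a, b)) * y * (emb g (base (a, b)))⁻¹ ∈ S) →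
      Cfsg.conjHom (S : Subgroup G4) (emb g (base (a, b))) ∈ E.Hom (S : Subgroup G4) := by
    intro a b hab
    have hconj : ∀ Y ∈ p4 D, base (a, b) * Y * (base (a, b))⁻¹ ∈ p4 D := fun Y hY =>
      (hS _).1 (by rw [map_mul, map_mul, map_inv]; exact hab _ ((hS Y).2 hY))
    have haN : ∀ y ∈ qgp D, a * y * a⁻¹ ∈ qgp D := fun y hy => by
      have h := hconj _ (D.base_mem_iff.2 ⟨hy, one_mem _⟩)
      rw [← map_inv, ← map_mul, ← map_mul] at h
      exact (D.base_mem_iff.1 h).1
    have hab' : a * b⁻¹ ∈ qgp D := by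
      have h := hconj _ D.tau_mem
      rw [mul_assoc, ← map_inv, Prod.inv_mk, tau_base, ← mul_assoc, ← map_mul] at h
      have h' := mul_mem h D.tau_mem
      rw [mul_assoc, tau_sq, mul_one] at h'
      exact (D.base_mem_iff.1 h').1
    have hba : a⁻¹ * b ∈ qgp D := by
      have h1 : b * a⁻¹ ∈ qgp D := by simpa using inv_mem hab'
      let f : qgp D → qgp D := fun y => ⟨a * (y : SL2) * a⁻¹, haN y y.2⟩
      obtain ⟨y, hy⟩ := (Finite.injective_iff_surjective (f := f)).1 (fun u v h => Subtype.ext (by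
        simpa [f] using congrArg Subtype.val h)) ⟨_, h1⟩
      have hy' : a * (y : SL2) * a⁻¹ = b * a⁻¹ := congrArg Subtype.val hy
      rw [mul_right_cancel hy' |>.symm, inv_mul_cancel_left]
      exact y.2
    rcases D.normalizing a haN with ha | ⟨hk2, m, hm⟩
    · have hb : b ∈ qgp D := by simpa using mul_mem ha hba
      exact (hin _ (D.base_mem_iff.2 ⟨ha, hb⟩)).1
    · set q := ((a0 D) ^ m)⁻¹ * a with hq
      have heq : base (a, b) = base (a0 D, a0 D) ^ m * base (q, q * (a⁻¹ * b)) := by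
        rw [← map_pow, ← map_mul]
        congr 1
        refine Prod.ext ?_ ?_ <;> simp [hq, mul_assoc]
      obtain ⟨hD1, hD2⟩ := diag_a0_mem D S g hS hk2 hE hinv
      have hpow : ∀ n : ℕ, Cfsg.conjHom (S : Subgroup G4) (emb g (base (a0 D, a0 D)) ^ n) ∈
          E.Hom (S : Subgroup G4) := by
        intro n
        induction n with
        | zero => rw [pow_zero]; exact E.conj_mem le_rfl S.one_mem
        | succ n ih => rw [pow_succ]; exact CfsgLib.Fusion.TwoSimple.conjHom_mul_mem ih hD1 hD2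
      have hY := D.base_mem_iff.2 ⟨hm, mul_mem hm hba⟩
      rw [heq, map_mul, map_pow]
      exact CfsgLib.Fusion.TwoSimple.conjHom_mul_mem (hpow m) (hin _ hY).1 (hin _ hY).2
  obtain ⟨X, rfl⟩ := emb_surjective g x
  obtain ⟨⟨a, b⟩, rfl | rfl⟩ := exists_cases_of_commute D.two hxz
  · exact key a b hxS
  · obtain ⟨ht1, ht2⟩ := hin _ D.tau_mem
    rw [map_mul]
    refine CfsgLib.Fusion.TwoSimple.conjHom_mul_mem (key a b fun y hy => ?_) ht1 ht2
    have h := hxS _ (ht2 y hy)
    rw [map_mul] at h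
    have htt : emb g tau * emb g tau = 1 := by rw [← map_mul, tau_sq, map_one]
    rwa [inv_eq_of_mul_eq_one_right htt, _root_.mul_inv_rev, inv_eq_of_mul_eq_one_right htt,
      show emb g (base (a, b)) * emb g tau * (emb g tau * y * emb g tau) *
          (emb g tau * (emb g (base (a, b)))⁻¹) =
        emb g (base (a, b)) * (emb g tau * emb g tau) * y * (emb g tau * emb g tau) *
          (emb g (base (a, b)))⁻¹ by simp only [mul_assoc], htt, mul_one, mul_one] at h

theorem exists_qd (hodd : Fintype.card F % 2 = 1) :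
    ∃ (i j c : SL2) (k : ℕ), QD i j c k := by
  classical
  have h2 : (2 : F) ≠ 0 := CfsgLib.Linear.two_ne_zero_of_odd_card (Nat.odd_iff.2 hodd)
  have h04 : (0 : F) ^ 2 ≠ 4 := by
    rw [zero_pow two_ne_zero]
    intro h
    exact mul_ne_zero h2 h2 (by linear_combination -h)
  obtain ⟨x, y, hxy⟩ := CfsgLib.SL2Trace.exists_quad_eq (1 : F) 0 1 (-1)
    (fun h => mul_ne_zero h2 h2 (by linear_combination -h))
  set q := Fintype.card F with hqdef
  set i : SL2 := CfsgLib.SL2Trace.comp 0 with hi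
  obtain ⟨n, n', hn, hn4, hn'4, hnn⟩ : ∃ n n', Nat.card (Subgroup.centralizer ({i} : Set SL2)) = n ∧
      n % 4 = 0 ∧ n' % 4 = 2 ∧ q ^ 2 - 1 = n * n' := by
    have hsq : q ^ 2 - 1 = (q + 1) * (q - 1) := by simpa using Nat.sq_sub_sq q 1
    by_cases hroot : ∃ u : F, u ^ 2 - 0 * u + 1 = 0
    · have hq1 : q % 4 ≠ 3 := by
        obtain ⟨u, hu⟩ := hroot
        exact FiniteField.isSquare_neg_one_iff.1 ⟨u, by linear_combination -hu⟩
      exact ⟨q - 1, q + 1, (CfsgLib.SL2Trace.card_centralizer_comp 0 h04).1 hroot, by omega, by omega,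
        by rw [hsq, mul_comm]⟩
    · have hq3 : q % 4 = 3 := by
        by_contra h
        obtain ⟨u, hu⟩ := FiniteField.isSquare_neg_one_iff.2 h
        exact hroot ⟨u, by linear_combination -hu⟩
      exact ⟨q + 1, q - 1, (CfsgLib.SL2Trace.card_centralizer_comp 0 h04).2 hroot, by omega, by omega, hsq⟩
  have hcyc := CfsgLib.SL2Trace.isCyclic_centralizer_comp (0 : F) h04
  obtain ⟨g, hg⟩ := IsCyclic.exists_ofOrder_eq_natCard (α := Subgroup.centralizer ({i} : Set SL2))
  have hgen : ∀ h : Subgroup.centralizer ({i} : Set SL2), h ∈ Subgroup.zpowers g := by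
    intro h
    rw [show Subgroup.zpowers g = ⊤ from Subgroup.eq_top_of_card_eq _ (by rw [Nat.card_zpowers, hg])]
    trivial
  rw [hn] at hg
  have hn0 : n ≠ 0 := by rw [← hn]; exact Nat.card_pos.ne'
  obtain ⟨k, o, ho, hno⟩ := Nat.exists_eq_pow_mul_and_not_dvd hn0 2 (by norm_num)
  have hk : 2 ≤ k := by
    by_contra hlt
    interval_cases k <;> omega
  set c : SL2 := ((g ^ o : Subgroup.centralizer ({i} : Set SL2)) : SL2) with hc
  have ho0 : o ≠ 0 := by rintro rfl; simp at ho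
  have hord : orderOf c = 2 ^ k := by
    rw [hc, Subgroup.orderOf_coe, orderOf_pow' _ ho0, hg, hno, Nat.gcd_eq_right (Dvd.intro_left _ rfl),
      Nat.mul_div_cancel _ (Nat.pos_of_ne_zero ho0)]
  have hmax : ∀ h : SL2, h * i = i * h → ∀ l : ℕ, h ^ 2 ^ l = 1 → h ∈ Subgroup.zpowers c := by
    intro h hh l hl
    obtain ⟨t, ht⟩ := hgen ⟨h, Subgroup.mem_centralizer_singleton_iff.2 hh⟩
    have hd : (orderOf g : ℤ) ∣ t * ((2 ^ l : ℕ) : ℤ) := by
      rw [orderOf_dvd_iff_zpow_eq_one, _root_.zpow_mul, _root_.zpow_natCast,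
        show g ^ t = ⟨h, Subgroup.mem_centralizer_singleton_iff.2 hh⟩ from ht]
      exact Subtype.ext (by simpa using hl)
    have ho' : (o : ℤ) ∣ t := by
      refine Int.dvd_of_dvd_mul_left_of_gcd_one (dvd_trans (Int.natCast_dvd_natCast.2 ⟨2 ^ k, by
        rw [hg, hno, mul_comm]⟩) hd) ?_
      rw [Int.gcd_natCast_natCast]
      exact Nat.Coprime.gcd_eq_one (Nat.Coprime.pow_right l
        (Nat.coprime_comm.1 (Nat.prime_two.coprime_iff_not_dvd.2 ho)))
    obtain ⟨u, rfl⟩ := ho'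
    refine ⟨u, ?_⟩
    show c ^ u = h
    rw [hc, ← SubgroupClass.coe_zpow, ← _root_.zpow_natCast g o, ← _root_.zpow_mul]
    exact congrArg Subtype.val ht
  have hii : i * i = -1 := by
    apply Subtype.ext
    rw [Matrix.SpecialLinearGroup.coe_mul, hi, CfsgLib.SL2Trace.coe_comp, Matrix.SpecialLinearGroup.coe_neg]
    ext u v; fin_cases u <;> fin_cases v <;> simp
  let j : SL2 := ⟨!![x, y; y, -x], by rw [det_fin_two_of]; linear_combination -hxy⟩
  refine ⟨i, j, c, k, h2, hk, hord, Subgroup.mem_centralizer_singleton_iff.1 (g ^ o).2,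
    hmax i rfl 2 ?_, hii, ?_, ?_, hmax, ?_, CfsgLib.SL2Trace.coe_comp 0 |>.trans ?_, by simp [j]⟩
  · rw [show (2 : ℕ) ^ 2 = 2 * 2 from rfl, pow_mul, pow_two i, hii, neg_one_sq]
  · apply Subtype.ext
    rw [Matrix.SpecialLinearGroup.coe_mul, Matrix.SpecialLinearGroup.coe_neg]
    ext u v; fin_cases u <;> fin_cases v <;> simp [j] <;> first | ring1 | linear_combination hxy
  · intro h hh
    obtain ⟨e1, e2⟩ := (CfsgLib.SL2Trace.mem_centralizer_comp_iff 0 h).1
      (Subgroup.mem_centralizer_singleton_iff.2 hh)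
    rw [mul_inv_eq_iff_eq_mul]
    apply Subtype.ext
    rw [Matrix.SpecialLinearGroup.coe_mul, Matrix.SpecialLinearGroup.coe_mul,
      Matrix.SpecialLinearGroup.coe_inv, Matrix.adjugate_fin_two]
    ext u v; fin_cases u <;> fin_cases v <;>
      simp [j, Matrix.mul_apply, Fin.sum_univ_two, e1, e2] <;> ring
  · have hG : 2 * Nat.card G4 = 2 ^ (2 * k + 2) * (2 * ((q ^ 4 * (o * (n' / 2)) ^ 2) * ((q ^ 2 + 1) / 2))) := by
      have h := CfsgLib.Linear.Symp.card_symplectic (F := F) (m := 2)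
      rw [Subgroup.card_eq_card_quotient_mul_card_subgroup (Subgroup.center Sp4),
        CfsgLib.Linear.Symp.card_center (by norm_num), Finset.prod_range_succ, Finset.prod_range_succ,
        Finset.prod_range_zero, one_mul, ← hqdef,
        Nat.gcd_eq_left (Nat.dvd_of_mod_eq_zero (show (q - 1) % 2 = 0 by omega)), mul_comm] at h
      rw [show (2 : ℕ) * (0 + 1) = 2 from rfl, show q ^ (2 * (1 + 1)) - 1 = (q ^ 2 - 1) * (q ^ 2 + 1) by
        rw [show q ^ (2 * (1 + 1)) = (q ^ 2) ^ 2 by ring, ← one_pow 2, Nat.sq_sub_sq, one_pow]; ring,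
        hnn, show n' = 2 * (n' / 2) by omega, show q ^ 2 + 1 = 2 * ((q ^ 2 + 1) / 2) by
          rw [Nat.mul_div_cancel' (Nat.dvd_of_mod_eq_zero (by rw [Nat.add_mod, Nat.pow_mod, hodd]))]] at h
      rw [h, hno]
      ring
    have hG' : Nat.card G4 = 2 ^ (2 * k + 2) * ((q ^ 4 * (o * (n' / 2)) ^ 2) * ((q ^ 2 + 1) / 2)) := by
      apply Nat.eq_of_mul_eq_mul_left two_pos
      rw [hG]; ring
    have hodd' : ¬ 2 ∣ (q ^ 4 * (o * (n' / 2)) ^ 2) * ((q ^ 2 + 1) / 2) := by
      intro h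
      rcases (Nat.prime_two.dvd_mul).1 h with h | h
      · rcases (Nat.prime_two.dvd_mul).1 h with h | h
        · have := Nat.prime_two.dvd_of_dvd_pow h; omega
        · rcases (Nat.prime_two.dvd_mul).1 (Nat.prime_two.dvd_of_dvd_pow h) with h' | h'
          · exact ho h'
          · omega
      · have h4 : q ^ 2 % 4 = 1 := by
          rw [Nat.pow_mod]
          rcases (show q % 4 = 1 ∨ q % 4 = 3 by omega) with h' | h' <;> rw [h']
        omega
    rw [hG', Nat.factorization_mul (pow_ne_zero _ two_ne_zero) (fun h0 => hodd' (by rw [h0]; exact dvd_zero 2)),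
      Finsupp.add_apply, Nat.factorization_pow_self Nat.prime_two, Nat.factorization_eq_zero_of_not_dvd hodd',
      add_zero]
  · ext u v; fin_cases u <;> fin_cases v <;> simp [omega]

end

/-- For a finite field F of odd order, the 2-fusion system of the projective symplectic group PSp(4,F) on a Sylow 2-subgroup is simple. -/
theorem result {F : Type*} [Field F] [Fintype F] (hodd : Fintype.card F % 2 = 1) (S : Sylow 2 (Cfsg.PSp 2 F)) :
    (Cfsg.groupFusionSystem (S : Subgroup (Cfsg.PSp 2 F))).IsSimple 2 := by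
  classical
  have : Fact (Nat.Prime 2) := ⟨Nat.prime_two⟩
  obtain ⟨i, j, c, k, D⟩ := exists_qd hodd
  obtain ⟨g, hS⟩ := exists_emb_sylow D S
  have hmem : ∀ x, x ∈ S → ∃ X ∈ p4 D, emb g X = x := fun x hx => by
    obtain ⟨X, rfl⟩ := emb_surjective g x
    exact ⟨X, (hS X).1 hx, rfl⟩
  refine CfsgLib.Fusion.TwoSimple.isSimple_of_central_involution' S (emb g (base (1, -1)))
    ((hS _).2 D.z_mem) ?_ ?_ ?_ ?_ ?_ fun E hE hinv x hxz hxS => haut_proof D S g hS hE hinv x hxz hxS
  · intro h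
    rcases emb_eq_one.1 h with h | h
    · rw [← map_one base] at h
      exact D.ne_neg (congrArg Prod.snd (base_injective h))
    · exact D.ne_neg (congrArg Prod.fst (base_injective h)).symm
  · rw [← map_mul, ← map_mul]; simp [Prod.mk_one_one]
  · intro y hy
    obtain ⟨X, ⟨a, -, b, -, rfl | rfl⟩, rfl⟩ := hmem y hy <;> rw [← map_mul, ← map_mul]
    · congr 1
      rw [← map_mul, ← map_mul]
      congr 1
      ext : 1 <;> simp
    · refine emb_eq_iff.2 (Or.inr ?_)
      rw [mul_assoc (base (a, b)), tau_z, ← mul_assoc, ← mul_assoc, ← mul_assoc, ← mul_assoc, ← map_mul,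
        ← map_mul, ← map_mul, ← map_mul]
      congr 2
      ext : 1 <;> simp
  · intro x hx hxx hx1 hxc
    obtain ⟨X, hX, rfl⟩ := hmem x hx
    exact huniq_proof D g hX hxx hx1 fun Y hY => hxc _ ((hS Y).2 hY)
  · intro T _ hzT hT x hx
    obtain ⟨X, hX, rfl⟩ := hmem x hx
    refine hclosed_proof D g T hzT (fun Y hY Z hZ ⟨u, hu⟩ => ?_) X hX
    exact hu ▸ hT _ hZ u (hu ▸ (hS Y).2 hY)

end Cfsg.Agent.S5320
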