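import Cfsg.Statements.S5327
import Cfsg.Agent.S5326
import Cfsg.Agent.Lib.Fusion.Alperin

set_option autoImplicit false
open Cfsg

namespace Cfsg.Agent.S5327

open Cfsg.FusionSystem CfsgLib.Fusion

variable {Ω : Type*} [Group Ω] {S : Subgroup Ω}

/-- the maps of `F` which are inner on `S` itself -/
def innerTopSystem [Finite S] (F : Cfsg.FusionSystem S) : Cfsg.FusionSystem S where
  Hom P := {φ | φ ∈ F.Hom P ∧ (P = S → ∃ g ∈ S, ∀ x : P, φ x = g * (x : Ω) * g⁻¹)}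
  le_of_mem h := F.le_of_mem h.1
  injective_of_mem h := F.injective_of_mem h.1
  conj_mem := fun hP hg => ⟨F.conj_mem hP hg, fun _ => ⟨_, hg, fun _ => rfl⟩⟩
  comp_mem := by
    rintro P Q φ ψ ⟨hφ, hφg⟩ ⟨hψ, hψg⟩ h
    refine ⟨F.comp_mem hφ hψ h, fun hP => ?_⟩
    obtain ⟨g, hg, hgv⟩ := hφg hP
    have hQ : Q = S := by
      refine le_antisymm (dom_le hψ) ?_
      have h1 : φ.range = S := Subgroup.eq_of_le_of_card_ge (range_le hφ)
        (by rw [← isConj_card_eq (F := F) ⟨φ, hφ, rfl⟩, hP])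
      intro s hs
      rw [← h1] at hs
      revert s
      rintro _ ⟨x, rfl⟩
      exact h x
    obtain ⟨k, hk, hkv⟩ := hψg hQ
    refine ⟨k * g, S.mul_mem hk hg, fun x => ?_⟩
    show ψ ⟨φ x, h x⟩ = _
    rw [hkv, show ((⟨φ x, h x⟩ : Q) : Ω) = φ x from rfl, hgv, mul_inv_rev]
    simp only [mul_assoc]
  inv_mem := by
    rintro P φ ⟨hφ, hφg⟩
    obtain ⟨χ, hχ, hχv⟩ := F.inv_mem hφ
    refine ⟨χ, ⟨hχ, fun hr => ?_⟩, hχv⟩
    have hP : P = S := by
      refine le_antisymm (dom_le hφ) ?_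
      exact (Subgroup.eq_of_le_of_card_ge (dom_le hφ)
        (by rw [isConj_card_eq (F := F) ⟨φ, hφ, rfl⟩, hr])).ge
    obtain ⟨g, hg, hgv⟩ := hφg hP
    refine ⟨g⁻¹, S.inv_mem hg, ?_⟩
    rintro ⟨_, x, rfl⟩
    show χ _ = g⁻¹ * φ x * g⁻¹⁻¹
    rw [hχv, hgv]
    simp [mul_assoc]


/-- Let F be a saturated fusion system over a finite p-group S. Call a family of subgroups of S generating when every fusion system over S whose automorphism group of each member R contains Aut_F(R) contains every map of F. If two families are each closed under F-conjugacy and each generating, then their intersection is generating. -/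
theorem result {Ω : Type*} [Group Ω] {S : Subgroup Ω} [Finite S] (p : ℕ) [Fact p.Prime] (hS : IsPGroup p S) (F : Cfsg.FusionSystem S) (hF : F.IsSaturated p) (𝒬₁ 𝒬₂ : Set (Subgroup Ω)) (h₁ : ∀ R ∈ 𝒬₁, ∀ R' : Subgroup Ω, F.IsConj R R' → R' ∈ 𝒬₁) (h₂ : ∀ R ∈ 𝒬₂, ∀ R' : Subgroup Ω, F.IsConj R R' → R' ∈ 𝒬₂) (hg₁ : ∀ E : Cfsg.FusionSystem S, (∀ R ∈ 𝒬₁, F.autGroup R ≤ E.autGroup R) → F ≤ E) (hg₂ : ∀ E : Cfsg.FusionSystem S, (∀ R ∈ 𝒬₂, F.autGroup R ≤ E.autGroup R) → F ≤ E) (E : Cfsg.FusionSystem S) (hE : ∀ R ∈ 𝒬₁ ∩ 𝒬₂, F.autGroup R ≤ E.autGroup R) : F ≤ E := by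
  refine CfsgLib.Fusion.alperin hS hF E fun Q hQ => ?_
  rcases hQ with rfl | hQ
  · by_cases h : Q ∈ 𝒬₁ ∩ 𝒬₂
    · exact hE Q h
    intro α hα
    have hαQ : ∀ (𝒬 : Set (Subgroup Ω)), Q ∉ 𝒬 →
        (∀ E : Cfsg.FusionSystem Q, (∀ R ∈ 𝒬, F.autGroup R ≤ E.autGroup R) → F ≤ E) →
        α ∈ E.autGroup Q := by
      intro 𝒬 hnot hg
      have h1 := hg (innerTopSystem F) (fun R hR β hβ => by
        by_cases hRS : R ≤ Q
        · exact (mem_autGroup_iff_hom hRS).2 ⟨(mem_autGroup_iff_hom hRS).1 hβ,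
            fun hRQ => absurd (hRQ ▸ hR) hnot⟩
        · have hbot : F.autGroup R = ⊥ := by
            refine (Subgroup.closure_eq_bot_iff).2 fun γ hγ => ?_
            exact absurd (dom_le hγ) hRS
          rw [hbot] at hβ
          rw [Subgroup.mem_bot.1 hβ]
          exact one_mem _)
      obtain ⟨-, h2⟩ := h1 Q ((mem_autGroup_iff_hom le_rfl).1 hα)
      obtain ⟨g, hgQ, hgv⟩ := h2 rfl
      exact (mem_autGroup_iff_hom le_rfl).2 (mem_of_eq_conj le_rfl hgQ _ hgv)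
    rcases not_and_or.1 h with h' | h'
    · exact hαQ 𝒬₁ h' hg₁
    · exact hαQ 𝒬₂ h' hg₂
  · have hmem : ∀ (𝒬 : Set (Subgroup Ω)), (∀ R ∈ 𝒬, ∀ R' : Subgroup Ω, F.IsConj R R' → R' ∈ 𝒬) →
        (∀ E : Cfsg.FusionSystem S, (∀ R ∈ 𝒬, F.autGroup R ≤ E.autGroup R) → F ≤ E) →
        Q ∈ 𝒬 := by
      intro 𝒬 hcl hg
      by_contra hQn
      obtain ⟨E', hE', hne⟩ := Cfsg.Agent.S5326.result p hS F hF Q hQ
      refine hne (hg E' fun R hR => ?_)
      by_cases hRS : R ≤ S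
      · exact hE' R hRS fun h => hQn (hcl R hR Q (isConj_symm h))
      · have hbot : F.autGroup R = ⊥ := by
          refine (Subgroup.closure_eq_bot_iff).2 fun γ hγ => ?_
          exact absurd (dom_le hγ) hRS
        rw [hbot]
        exact bot_le
    exact hE Q ⟨hmem 𝒬₁ h₁ hg₁, hmem 𝒬₂ h₂ hg₂⟩

end Cfsg.Agent.S5327
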