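import Cfsg.Statements.S5329
import Cfsg.Agent.Lib.Fusion.BisetBuild

set_option autoImplicit false
open Cfsg

namespace Cfsg.Agent.S5329

open Cfsg.FusionSystem CfsgLib.Fusion CfsgLib.Fusion.Realize CfsgLib.Fusion.Biset CfsgLib.Marks MulAction

universe v

variable {Ω : Type v} [Group Ω] {S : Subgroup Ω} {F : Cfsg.FusionSystem S} {p : ℕ}

theorem exists_orbit_basis [Finite S] {c : Subgroup (S × S) → ℕ}
    (hc : ∀ D, c D ≠ 0 → D ∈ relSubs F) (hp : IsPGroup p S) [Fact p.Prime] :
    ∃ (Q : Type v) (_ : Fintype Q) (e : Q × S ≃ GSet c),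
      (∀ q (a b : S), e (q, a * b) = ((1, a) : S × S) • e (q, b)) ∧
      Nat.card Q = ∑ᶠ D, c D * (Nat.card S / Nat.card D) := by
  classical
  set Q := MulAction.orbitRel.Quotient S (Pull (MonoidHom.inr S S) (GSet c))
  haveI : Fintype Q := Fintype.ofFinite Q
  let r : Q → GSet c := fun q => q.out
  let t : Q × S → GSet c := fun x => ((1, x.2) : S × S) • r x.1
  have hfree : ∀ (x : GSet c) (b : S), ((1, b) : S × S) • x = x → b = 1 := fun x b h =>
    graphSubs_fst_eq_one F
      (stabilizer_gset_mem F (fun D hD => (hc D hD).1) x) h rfl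
  have ht : Function.Bijective t := by
    constructor
    · rintro ⟨q, a⟩ ⟨q', b⟩ (h : ((1, a) : S × S) • r q = ((1, b) : S × S) • r q')
      have h' : ((1, b⁻¹ * a) : S × S) • r q = r q' := by
        have h1 := congrArg (fun y => ((1, b⁻¹) : S × S) • y) h
        simpa [smul_smul, Prod.mk_mul_mk, Prod.mk_one_one] using h1
      have hq : q = q' := by
        rw [← Quotient.out_eq q, ← Quotient.out_eq q']
        exact (Quotient.sound (show MulAction.orbitRel S _ q'.out q.out from ⟨b⁻¹ * a, h'⟩)).symm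
      subst hq
      have := hfree _ _ h'
      rw [inv_mul_eq_one] at this
      rw [this]
    · intro x
      set q : Q := Quotient.mk'' (x : Pull (MonoidHom.inr S S) (GSet c))
      have h : MulAction.orbitRel S (Pull (MonoidHom.inr S S) (GSet c)) q.out x :=
        Quotient.mk_out (s := MulAction.orbitRel S (Pull (MonoidHom.inr S S) (GSet c))) x
      obtain ⟨b, hb⟩ := h
      refine ⟨(q, b⁻¹), ?_⟩
      show ((1, b⁻¹) : S × S) • r q = x
      have hb' : ((1, b) : S × S) • x = r q := hb
      rw [← hb', smul_smul, Prod.mk_mul_mk, one_mul, inv_mul_cancel, Prod.mk_one_one, one_smul]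
  refine ⟨Q, inferInstance, Equiv.ofBijective t ht, fun q a b => ?_, ?_⟩
  · show t (q, a * b) = ((1, a) : S × S) • t (q, b)
    simp only [t, smul_smul, Prod.mk_mul_mk, one_mul]
  · have h1 : Nat.card Q * Nat.card S = Nat.card (GSet c) := by
      rw [← Nat.card_prod]
      exact Nat.card_congr (Equiv.ofBijective t ht)
    haveI := Fintype.ofFinite (Subgroup (S × S))
    have h2 : Nat.card (GSet c) = (∑ᶠ D, c D * (Nat.card S / Nat.card D)) * Nat.card S := by
      show Nat.card (Σ D : Subgroup (S × S), Fin (c D) × ((S × S) ⧸ D)) = _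
      rw [Nat.card_sigma, finsum_eq_sum_of_fintype, Finset.sum_mul]
      refine Finset.sum_congr rfl fun D _ => ?_
      rw [Nat.card_prod, Nat.card_fin]
      by_cases h : c D = 0
      · simp [h]
      have hdvd : Nat.card D ∣ Nat.card S := by
        rw [← card_sndImage F (hc D h).1]; exact Subgroup.card_subgroup_dvd_card _
      obtain ⟨k, hk⟩ := hdvd
      have h3 := D.index_mul_card
      rw [Nat.card_prod] at h3
      rw [mul_assoc]
      congr 1
      show D.index = _
      refine Nat.eq_of_mul_eq_mul_right (Nat.card_pos (α := D)) (h3.trans ?_)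
      rw [hk, Nat.mul_div_cancel_left _ Nat.card_pos]
      ring
    exact Nat.eq_of_mul_eq_mul_right Nat.card_pos (h1.trans h2)

theorem focal_inf_center_le [Finite S] [Fact p.Prime] (hS : IsPGroup p S) (hF : F.IsSaturated p) :
    F.focalSubgroup ⊓ F.center ≤ ⁅(S : Subgroup Ω), (S : Subgroup Ω)⁆ := by
  classical
  obtain ⟨c, f, hc, hf, hp⟩ := exists_char F hS hF
  have hc' : ∀ D, c D ≠ 0 → D ∈ graphSubs F := fun D hD => (hc D hD).1
  have hfix : ∀ x : GSet c, dz F ≤ stabilizer (S × S) x := by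
    intro x
    have h0 : mark c (stabilizer (S × S) x) ≠ 0 := by
      rw [← card_fixSet_gset, Nat.card_ne_zero]
      exact ⟨⟨⟨x, show stabilizer (S × S) x ≤ stabilizer (S × S) x from le_rfl⟩⟩, inferInstance⟩
    have hmem : stabilizer (S × S) x ∈ graphSubs F := stabilizer_gset_mem F hc' x
    obtain ⟨D, i, y⟩ := x
    induction y using QuotientGroup.induction_on with
    | H g =>
      intro u hu
      have hD := (hc D (fun h => by exact (Fin.cast h i).elim0)).2
      show (⟨D, i, u • (g : (S × S) ⧸ D)⟩ : GSet c) = ⟨D, i, (g : (S × S) ⧸ D)⟩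
      congr 2
      refine QuotientGroup.eq.2 ?_
      have h1 : g⁻¹ * u⁻¹ * g ∈ D := hD ((conjS_dz F g⁻¹).le ⟨u⁻¹, inv_mem hu, by simp⟩)
      simpa [mul_assoc] using h1
  have hmarks : ∀ E ∈ graphSubs F, mark c E = f (sndImage E ⊔ zS F) ∧ 0 < f (sndImage E ⊔ zS F) := by
    intro E hE
    have hR := sup_dz_mem F hE
    have heq : mark c E = mark c (E ⊔ dz F) := by
      rw [← card_fixSet_gset, ← card_fixSet_gset]
      exact Nat.card_congr (Equiv.setCongr (Set.ext fun x =>
        ⟨fun h => sup_le h (hfix x), fun h e he => h (Subgroup.mem_sup_left he)⟩))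
    rw [heq, ← sndImage_dz F, ← sndImage_sup]
    exact hf _ hR
  have hreal := isRealizedBy_leftHom F c hc' (fun Q => f (Q ⊔ zS F))
    (fun E hE => (hmarks E hE).1) fun E hE => by rw [(hmarks E hE).1]; exact (hmarks E hE).2
  obtain ⟨Q, hQ, e, he, hcardQ⟩ := exists_orbit_basis hc hS
  -- the transfer
  set G := rightCentralizer c
  have hcomm : ∀ (g : G) (b : S) (x : GSet c),
      g.1 (((1, b) : S × S) • x) = ((1, b) : S × S) • g.1 x := fun g b x =>
    (Equiv.ext_iff.1 (Subgroup.mem_centralizer_iff.1 g.2 _ ⟨b, rfl⟩) x).symm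
  let act : G → Q → Q × S := fun g q => e.symm (g.1 (e (q, 1)))
  have hact : ∀ (g : G) (q : Q) (b : S), g.1 (e (q, b)) = e ((act g q).1, b * (act g q).2) := by
    intro g q b
    have h1 := he q b 1
    rw [mul_one] at h1
    rw [h1, hcomm, he]
    congr 1
    exact (e.apply_symm_apply _).symm
  let σ : G → Q ≃ Q := fun g => Equiv.ofBijective (fun q => (act g q).1)
    ((Finite.injective_iff_bijective).1 fun q q' h => by
      have h1 := hact g q (act g q).2⁻¹
      have h2 := hact g q' (act g q').2⁻¹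
      rw [inv_mul_cancel] at h1 h2
      replace h : (act g q).1 = (act g q').1 := h
      rw [h, ← h2] at h1
      exact congrArg Prod.fst (e.injective (g.1.injective h1)))
  let Φ : G →* Abelianization S := MonoidHom.mk' (fun g => ∏ q, Abelianization.of (act g q).2) (by
    intro g h
    have key : ∀ q, (act (g * h) q).2 = (act h q).2 * (act g (act h q).1).2 := by
      intro q
      have h1 : (g * h).1 (e (q, 1)) = g.1 (h.1 (e (q, 1))) := rfl
      rw [hact h q 1, one_mul, hact g] at h1
      show (e.symm ((g * h).1 (e (q, 1)))).2 = _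
      rw [h1, Equiv.symm_apply_apply]
    show ∏ q, Abelianization.of (act (g * h) q).2 =
      (∏ q, Abelianization.of (act g q).2) * ∏ q, Abelianization.of (act h q).2
    rw [← Equiv.prod_comp (σ h) fun q => Abelianization.of (act g q).2, ← Finset.prod_mul_distrib]
    refine Finset.prod_congr rfl fun q _ => ?_
    rw [key, map_mul, mul_comm]
    rfl)
  set τ : S →* Abelianization S := Φ.comp (leftHom c) with hτ
  have hfoc : F.focalSubgroup ≤ τ.ker.map S.subtype := by
    refine (Subgroup.closure_le _).2 ?_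
    rintro _ ⟨P, φ, x, hφ, rfl⟩
    have hP := dom_le hφ
    refine ⟨⟨x, hP x.2⟩⁻¹ * ⟨φ x, map_mem hφ x⟩, ?_, rfl⟩
    obtain ⟨g, hg⟩ := (hreal.2 P hP φ (map_mem hφ)).1 hφ
    rw [SetLike.mem_coe, MonoidHom.mem_ker, map_mul, map_inv, hτ, MonoidHom.comp_apply,
      MonoidHom.comp_apply, hg x, map_mul Φ, map_mul Φ, map_inv Φ, mul_inv_cancel_comm,
      inv_mul_cancel]
  rintro z ⟨hzf, hzc⟩
  obtain ⟨w, hw, rfl⟩ := hfoc hzf
  have hwz : w ∈ zS F := hzc
  have hτw : τ w = ∏ _q : Q, Abelianization.of w⁻¹ := by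
    show ∏ q, Abelianization.of (act (leftHom c w) q).2 = _
    refine Finset.prod_congr rfl fun q _ => congrArg Abelianization.of ?_
    have h1 : (leftHom c w).1 (e (q, 1)) = e (q, w⁻¹) := by
      show ((w, 1) : S × S) • e (q, 1) = _
      have h2 := mem_fixSet.1 (hfix (e (q, 1)) : e (q, 1) ∈ fixSet (dz F) (GSet c)) ((w, w) : S × S)
        ⟨w, hwz, rfl⟩
      have h3 := he q w⁻¹ 1
      rw [mul_one] at h3
      rw [h3]
      conv_rhs => rw [← h2, smul_smul, Prod.mk_mul_mk, one_mul, inv_mul_cancel]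
    show (e.symm ((leftHom c w).1 (e (q, 1)))).2 = _
    rw [h1, Equiv.symm_apply_apply]
  rw [SetLike.mem_coe, MonoidHom.mem_ker, hτw, Finset.prod_const, Finset.card_univ,
    ← Nat.card_eq_fintype_card, hcardQ] at hw
  have hw1 : Abelianization.of w⁻¹ = 1 := by
    obtain ⟨k, hk⟩ := hS w
    have h2 : Abelianization.of w⁻¹ ^ (p ^ k) = 1 := by
      rw [← map_pow, inv_pow, hk, inv_one, map_one]
    have hco : (∑ᶠ D, c D * (Nat.card S / Nat.card D)).Coprime (p ^ k) :=
      (((Fact.out : p.Prime).coprime_iff_not_dvd.2 hp).symm).pow_right k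
    exact orderOf_eq_one_iff.1 (Nat.eq_one_of_dvd_coprimes hco (orderOf_dvd_of_pow_eq_one hw)
      (orderOf_dvd_of_pow_eq_one h2))
  rw [map_inv, inv_eq_one] at hw1
  have hmem : w ∈ commutator S := by
    rwa [← Abelianization.ker_of, MonoidHom.mem_ker]
  rw [← Subgroup.map_subtype_commutator]
  exact ⟨w, hmem, rfl⟩

/-- For a saturated fusion system F over a finite p-group S, the focal subgroup and the derived subgroup of S meet the centre Z(F) of the system in the same subgroup: foc(F) ∩ Z(F) = S′ ∩ Z(F). -/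
theorem result {Ω : Type*} [Group Ω] {S : Subgroup Ω} [Finite S] (p : ℕ) [Fact p.Prime] (hS : IsPGroup p S) (F : Cfsg.FusionSystem S) (hF : F.IsSaturated p) : F.focalSubgroup ⊓ F.center = ⁅(S : Subgroup Ω), (S : Subgroup Ω)⁆ ⊓ F.center := by
  refine le_antisymm (le_inf (focal_inf_center_le hS hF) inf_le_right) (inf_le_inf_right _ ?_)
  rw [Subgroup.commutator_le]
  intro a ha b hb
  exact Subgroup.subset_closure ⟨S, Cfsg.conjHom S b, ⟨a⁻¹, S.inv_mem ha⟩, F.conj_mem le_rfl hb,
    by simp [commutatorElement_def, CfsgLib.Fusion.conjHom_apply, mul_assoc]⟩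

end Cfsg.Agent.S5329
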