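import Cfsg.Statements.S5330
import Cfsg.Agent.Lib.Fusion.Stability
import Cfsg.Agent.Lib.FusionQuot.Joins
import Mathlib.Algebra.Group.Hom.Instances
import Mathlib.Algebra.BigOperators.Pi

set_option autoImplicit false
open Cfsg

namespace Cfsg.Agent.S5330

open Cfsg.FusionSystem CfsgLib.Fusion

variable {Ω : Type*} [Group Ω] {S : Subgroup Ω} {F : Cfsg.FusionSystem S} {p : ℕ}

theorem exists_top_aut [Finite S] [Fact p.Prime] (hS : IsPGroup p S) (hF : F.IsSaturated p)
    (hab : ∀ x ∈ S, ∀ y ∈ S, x * y = y * x) {P : Subgroup Ω} {φ : P →* Ω} (hφ : φ ∈ F.Hom P) :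
    ∃ α ∈ F.autGroup S, ∀ x : P, φ x = ((α ⟨x, dom_le hφ x.2⟩ : S) : Ω) := by
  have hn := CfsgLib.Fusion.Stability.isNormal_of_abelian hS hF
    (R := S) ⟨le_rfl, fun R _ φ hφ x => map_mem hφ x⟩ hab
  obtain ⟨ψ, hψ, hag, hψS⟩ := hn.2 P φ hφ
  obtain ⟨α, hα, hαv⟩ := exists_aut (restrict_mem hψ le_sup_right)
    ((range_comp_inclusion _).trans hψS)
  exact ⟨α, hα, fun x => by rw [hαv, ← hag x]; rfl⟩

theorem decomposition [Finite S] [Fact p.Prime] (hS : IsPGroup p S) (hF : F.IsSaturated p)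
    (hab : ∀ x ∈ S, ∀ y ∈ S, x * y = y * x) :
    F.center ⊓ F.focalSubgroup = ⊥ ∧ F.center ⊔ F.focalSubgroup = S := by
  classical
  letI : CommGroup S :=
    { (inferInstance : Group S) with mul_comm := fun a b => Subtype.ext (hab a a.2 b b.2) }
  have : Finite (MulAut S) := finite_mulAut
  haveI : Fintype (F.autGroup S) := Fintype.ofFinite _
  let tr : S →* S := ∏ g : F.autGroup S, ((g : MulAut S) : S ≃* S).toMonoidHom
  have htr : ∀ (g : F.autGroup S) (a : S), tr ((g : MulAut S) a) = tr a := by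
    intro g a
    simp only [tr, MonoidHom.finsetProd_apply, MulEquiv.coe_toMonoidHom]
    exact Fintype.prod_equiv (Equiv.mulRight g) _ _ fun q => rfl
  have htr2 : ∀ (g : F.autGroup S) (a : S), (g : MulAut S) (tr a) = tr a := by
    intro g a
    simp only [tr, MonoidHom.finsetProd_apply, map_prod, MulEquiv.coe_toMonoidHom]
    exact Fintype.prod_equiv (Equiv.mulLeft g) _ _ fun q => rfl
  have hcentral := (isCentral_iff_forall_conjElt hS hF).1 (CfsgLib.FusionQuot.isCentral_center F)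
  have hZS : F.center ≤ S := hcentral.1
  have hfix : ∀ a : S, (a : Ω) ∈ F.center → ∀ g : F.autGroup S, (g : MulAut S) a = a := by
    intro a ha g
    exact Subtype.ext (hcentral.2 a ha _ ⟨_, restrict_mem ((mem_autGroup_iff_hom le_rfl).1 g.2)
      (Subgroup.zpowers_le.2 a.2), rfl⟩)
  have hpow : ∀ a : S, (a : Ω) ∈ F.center → tr a = a ^ Nat.card (F.autGroup S) := by
    intro a ha
    simp only [tr, MonoidHom.finsetProd_apply, MulEquiv.coe_toMonoidHom, hfix a ha,
      Finset.prod_const, Finset.card_univ, Nat.card_eq_fintype_card]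
  have hcop : (Nat.card S).Coprime (Nat.card (F.autGroup S)) := by
    obtain ⟨n, hn⟩ := IsPGroup.iff_card.1 hS
    obtain ⟨T, hT⟩ := (isFullyAutomized_of_isFullyNormalized hS hF (isFullyNormalized_top F)).2
    have hbot : (T : Subgroup (F.autGroup S)) = ⊥ := by
      rw [hT, eq_bot_iff]
      intro α hα
      obtain ⟨g, hg, hv⟩ := mem_autInducedBy_iff.1 hα
      rw [Subgroup.mem_bot]
      refine Subtype.ext (MulEquiv.ext fun x => Subtype.ext ?_)
      refine (hv x).trans ?_
      rw [hab g hg x x.2, mul_inv_cancel_right]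
      rfl
    have h := T.not_dvd_index
    rw [hbot, Subgroup.index_bot] at h
    rw [hn]
    exact ((Fact.out : p.Prime).coprime_iff_not_dvd.2 h).pow_left n
  have hfocS : F.focalSubgroup ≤ S := (Subgroup.closure_le _).2 (by
    rintro _ ⟨P, φ, x, hφ, rfl⟩
    exact S.mul_mem (S.inv_mem (dom_le hφ x.2)) (map_mem hφ x))
  have hker : ∀ y : S, (y : Ω) ∈ F.focalSubgroup → tr y = 1 := by
    have hle : F.focalSubgroup ≤ tr.ker.map S.subtype := (Subgroup.closure_le _).2 (by
      rintro _ ⟨P, φ, x, hφ, rfl⟩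
      obtain ⟨α, hα, hv⟩ := exists_top_aut hS hF hab hφ
      refine ⟨⟨x, dom_le hφ x.2⟩⁻¹ * α ⟨x, dom_le hφ x.2⟩, ?_, ?_⟩
      · rw [SetLike.mem_coe, MonoidHom.mem_ker, map_mul, map_inv, htr ⟨α, hα⟩, inv_mul_cancel]
      · rw [hv x]; rfl)
    intro y hy
    obtain ⟨z, hz, hzy⟩ := hle hy
    obtain rfl : z = y := Subtype.ext hzy
    exact hz
  refine ⟨?_, ?_⟩
  · rw [eq_bot_iff]
    rintro x ⟨hx, hxf⟩
    have h1 : (⟨x, hZS hx⟩ : S) ^ Nat.card (F.autGroup S) = 1 :=
      (hpow ⟨x, hZS hx⟩ hx).symm.trans (hker ⟨x, hZS hx⟩ hxf)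
    have h2 : (⟨x, hZS hx⟩ : S) = 1 := (powCoprime hcop).injective (by simpa using h1)
    exact Subgroup.mem_bot.2 (congrArg Subtype.val h2)
  · refine le_antisymm (sup_le hZS hfocS) fun x hx => ?_
    obtain ⟨w, hw⟩ := (powCoprime hcop).surjective ⟨x, hx⟩
    have hw' : w ^ Nat.card (F.autGroup S) = ⟨x, hx⟩ := hw
    have hmem : ∀ g : F.autGroup S, ((w / (g : MulAut S) w : S) : Ω) ∈ F.focalSubgroup := by
      intro g
      have h1 : (((w⁻¹ * (g : MulAut S) w : S)) : Ω) ∈ F.focalSubgroup :=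
        Subgroup.subset_closure ⟨S, _, w, (mem_autGroup_iff_hom le_rfl).1 g.2, rfl⟩
      have h2 : w / (g : MulAut S) w = (w⁻¹ * (g : MulAut S) w)⁻¹ := by
        rw [mul_inv_rev, inv_inv, div_eq_mul_inv, mul_comm]
      rw [h2, Subgroup.coe_inv]
      exact inv_mem h1
    have hsplit : tr w * ∏ g : F.autGroup S, w / (g : MulAut S) w = ⟨x, hx⟩ := by
      simp only [tr, MonoidHom.finsetProd_apply, MulEquiv.coe_toMonoidHom]
      rw [← Finset.prod_mul_distrib, ← hw']
      simp [Finset.prod_const, Nat.card_eq_fintype_card]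
    have hz : ((tr w : S) : Ω) ∈ F.center := by
      refine le_sSup (a := Subgroup.zpowers ((tr w : S) : Ω))
        ((isCentral_iff_forall_conjElt hS hF).2 ⟨Subgroup.zpowers_le.2 (tr w).2, ?_⟩)
        (Subgroup.mem_zpowers _)
      intro u hu y hy
      obtain ⟨φ, hφ, hφy⟩ := hy
      obtain ⟨α, hα, hv⟩ := exists_top_aut hS hF hab hφ
      rw [← hφy, hv]
      obtain ⟨k, hk⟩ := Subgroup.mem_zpowers_iff.1 hu
      have huS : (⟨u, dom_le hφ (Subgroup.mem_zpowers u)⟩ : S) = tr w ^ k :=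
        Subtype.ext (by rw [Subgroup.coe_zpow, hk])
      rw [huS, map_zpow, htr2 ⟨α, hα⟩, Subgroup.coe_zpow, hk]
    have hf : ((∏ g : F.autGroup S, w / (g : MulAut S) w : S) : Ω) ∈ F.focalSubgroup := by
      have : (∏ g : F.autGroup S, w / (g : MulAut S) w : S) ∈ F.focalSubgroup.comap S.subtype :=
        Subgroup.prod_mem _ fun g _ => hmem g
      exact this
    have h := congrArg Subtype.val hsplit
    rw [Subgroup.coe_mul] at h
    show x ∈ _
    rw [← (show _ = x from h)]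
    exact Subgroup.mul_mem_sup hz hf


/-- Let F be a saturated fusion system over a finite abelian p-group S. Then S is the internal direct product of the centre of the system and the focal subgroup: Z(F) ∩ foc(F) = 1 and Z(F)·foc(F) = S. -/
theorem result {Ω : Type*} [Group Ω] {S : Subgroup Ω} [Finite S] (p : ℕ) [Fact p.Prime] (hS : IsPGroup p S) (F : Cfsg.FusionSystem S) (hF : F.IsSaturated p) (hab : ∀ x ∈ S, ∀ y ∈ S, x * y = y * x) : F.center ⊓ F.focalSubgroup = ⊥ ∧ F.center ⊔ F.focalSubgroup = S := by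
  exact decomposition hS hF hab

end Cfsg.Agent.S5330
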