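import Cfsg.Statements.S5331
import Cfsg.Agent.Lib.Fusion.Stability
import Mathlib.Data.ZMod.Basic
import Mathlib.Tactic.Positivity
import Mathlib.GroupTheory.SpecificGroups.Cyclic

set_option autoImplicit false
open Cfsg

namespace Cfsg.Agent.S5331

open Cfsg.FusionSystem CfsgLib.Fusion

theorem zmod_layer (n k : ℕ) (g : ZMod (2 ^ n)) (h : 2 • (2 ^ k • g) = 0) :
    (∃ w : ZMod (2 ^ n), 2 ^ k • g = 2 ^ (k + 1) • w) ∨ (n = k + 1 ∧ g.val % 2 = 1) := by
  by_cases heven : g.val % 2 = 0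
  · refine Or.inl ⟨(g.val / 2 : ℕ), ?_⟩
    rw [pow_succ, mul_smul]
    congr 1
    rw [nsmul_eq_mul, ← Nat.cast_mul, show 2 * (g.val / 2) = g.val by omega, ZMod.natCast_zmod_val]
  rcases le_or_gt n k with hnk | hnk
  · refine Or.inl ⟨0, ?_⟩
    rw [smul_zero, nsmul_eq_mul]
    have : ((2 ^ k : ℕ) : ZMod (2 ^ n)) = 0 := by
      rw [ZMod.natCast_eq_zero_iff]
      exact pow_dvd_pow 2 hnk
    rw [this, zero_mul]
  · refine Or.inr ⟨?_, by omega⟩
    by_contra hne
    have h2 : ((2 * 2 ^ k * g.val : ℕ) : ZMod (2 ^ n)) = 0 := by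
      rw [Nat.cast_mul, Nat.cast_mul, ZMod.natCast_zmod_val, mul_assoc, ← h]
      simp [nsmul_eq_mul]
    rw [ZMod.natCast_eq_zero_iff] at h2
    have h3 : 2 ^ (k + 1) * 2 ∣ 2 ^ (k + 1) * g.val := by
      rw [← pow_succ]
      refine (pow_dvd_pow 2 (show k + 1 + 1 ≤ n by omega)).trans ?_
      rwa [pow_succ']
    have h4 := Nat.dvd_of_mul_dvd_mul_left (by positivity) h3
    omega

theorem zmod_pair (n k : ℕ) (g g' : ZMod (2 ^ n)) (hg : g.val % 2 = 1) (hg' : g'.val % 2 = 1) :
    ∃ w : ZMod (2 ^ n), 2 ^ k • g + 2 ^ k • g' = 2 ^ (k + 1) • w := by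
  refine ⟨((g.val + g'.val) / 2 : ℕ), ?_⟩
  rw [← smul_add, pow_succ, mul_smul]
  congr 1
  rw [nsmul_eq_mul, ← Nat.cast_mul, show 2 * ((g.val + g'.val) / 2) = g.val + g'.val by omega,
    Nat.cast_add, ZMod.natCast_zmod_val, ZMod.natCast_zmod_val]

theorem aut_eq_one {G : Type*} [Group G] [Finite G] (n : ℕ) (a : Fin n → ℕ) (ha : StrictMono a)
    (e : G ≃* Multiplicative ((i : Fin n) → ZMod (2 ^ a i))) (hG : IsPGroup 2 G)
    (α : MulAut G) (hα : (orderOf α).Coprime 2) : α = 1 := by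
  have hfix0 : ∀ j k : ℕ, Nat.card G < k + j → ∀ x : G, x ^ 2 = 1 → (∃ z, z ^ 2 ^ k = x) →
      α x = x := by
    intro j
    induction j with
    | zero =>
      intro k hk x _ ⟨z, hz⟩
      obtain ⟨m, hm⟩ := hG z
      obtain ⟨l, hl, hl'⟩ := (Nat.dvd_prime_pow Nat.prime_two).1 (orderOf_dvd_of_pow_eq_one hm)
      have h1 : 2 ^ l ≤ Nat.card G := hl' ▸ Nat.le_of_dvd Nat.card_pos (orderOf_dvd_natCard z)
      have h2 : l < 2 ^ l := Nat.lt_two_pow_self
      have hx : x = 1 := by
        rw [← hz, ← orderOf_dvd_iff_pow_eq_one, hl']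
        exact pow_dvd_pow 2 (by omega)
      rw [hx, map_one]
    | succ j ih =>
      intro k hk x hx2 hxk
      by_cases hxk' : ∃ z, z ^ 2 ^ (k + 1) = x
      · exact ih (k + 1) (by omega) x hx2 hxk'
      obtain ⟨z, hz⟩ := hxk
      have hy2 : (α x) ^ 2 = 1 := by rw [← map_pow, hx2, map_one]
      have hy : (α z) ^ 2 ^ k = α x := by rw [← map_pow, hz]
      have hy' : ¬ ∃ w, w ^ 2 ^ (k + 1) = α x := by
        rintro ⟨w, hw⟩
        exact hxk' ⟨α⁻¹ w, by rw [← map_pow, hw, MulAut.inv_apply_self]⟩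
      have hlayer : ∀ (x z : G), x ^ 2 = 1 → z ^ 2 ^ k = x → (¬ ∃ w, w ^ 2 ^ (k + 1) = x) →
          ∃ i, a i = k + 1 ∧ (Multiplicative.toAdd (e z) i).val % 2 = 1 := by
        intro x z hx hz hnot
        by_contra hc
        apply hnot
        have hco : ∀ i, ∃ w : ZMod (2 ^ a i),
            2 ^ k • Multiplicative.toAdd (e z) i = 2 ^ (k + 1) • w := by
          intro i
          have h2 : 2 • (2 ^ k • Multiplicative.toAdd (e z) i) = 0 := by
            have h1 : e (x ^ 2) = 1 := by rw [hx, map_one]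
            rw [← hz, map_pow, map_pow] at h1
            exact congrFun (congrArg Multiplicative.toAdd h1) i
          rcases zmod_layer (a i) k (Multiplicative.toAdd (e z) i) h2 with h | h
          · exact h
          · exact absurd ⟨i, h⟩ hc
        choose w hw using hco
        refine ⟨e.symm (Multiplicative.ofAdd w), e.injective ?_⟩
        rw [map_pow, MulEquiv.apply_symm_apply, ← hz, map_pow]
        exact Multiplicative.toAdd.injective (funext fun i => (hw i).symm)
      obtain ⟨i₀, hi₀, hz₀⟩ := hlayer x z hx2 hz hxk'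
      obtain ⟨i₁, hi₁, hz₁⟩ := hlayer (α x) (α z) hy2 hy hy'
      obtain rfl : i₁ = i₀ := ha.injective (hi₁.trans hi₀.symm)
      have hcomm : ∀ u v : G, u * v = v * u := fun u v => e.injective (by rw [map_mul, map_mul, mul_comm])
      have hd2 : (x⁻¹ * α x) ^ 2 = 1 := by
        rw [(show Commute x⁻¹ (α x) from hcomm _ _).mul_pow, inv_pow, hx2, hy2, inv_one, one_mul]
      have hco : ∀ i, ∃ w : ZMod (2 ^ a i), 2 ^ k • Multiplicative.toAdd (e z) i +
          2 ^ k • Multiplicative.toAdd (e (α z)) i = 2 ^ (k + 1) • w := by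
        intro i
        have h0 : ∀ (x z : G), x ^ 2 = 1 → z ^ 2 ^ k = x →
            2 • (2 ^ k • Multiplicative.toAdd (e z) i) = 0 := by
          intro x z hx hz
          have h1 : e (x ^ 2) = 1 := by rw [hx, map_one]
          rw [← hz, map_pow, map_pow] at h1
          exact congrFun (congrArg Multiplicative.toAdd h1) i
        by_cases hi : a i = k + 1
        · obtain rfl : i = i₁ := ha.injective (hi.trans hi₁.symm)
          exact zmod_pair (a i) k _ _ hz₀ hz₁
        · obtain ⟨w, hw⟩ := (zmod_layer (a i) k _ (h0 x z hx2 hz)).resolve_right (fun h => hi h.1)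
          obtain ⟨w', hw'⟩ :=
            (zmod_layer (a i) k _ (h0 (α x) (α z) hy2 hy)).resolve_right (fun h => hi h.1)
          exact ⟨w + w', by rw [hw, hw', smul_add]⟩
      choose w hw using hco
      have hd : ∃ u, u ^ 2 ^ (k + 1) = x⁻¹ * α x := by
        refine ⟨e.symm (Multiplicative.ofAdd w), ?_⟩
        have hxinv : x⁻¹ = x := by
          rw [inv_eq_iff_mul_eq_one, ← pow_two, hx2]
        refine e.injective ?_
        rw [map_pow, MulEquiv.apply_symm_apply, hxinv, ← hy]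
        conv_rhs => rw [← hz]
        rw [map_mul, map_pow, map_pow]
        exact Multiplicative.toAdd.injective (funext fun i => (hw i).symm)
      exact CfsgLib.Fusion.Stability.eq_self_of_disp_fixed hG α hα
        (ih (k + 1) (by omega) _ hd2 hd)
  have hinv : ∀ x : G, x ^ 2 = 1 → α x = x := fun x hx =>
    hfix0 (Nat.card G + 1) 0 (by omega) x hx ⟨x, by simp⟩
  have hall : ∀ (j : ℕ) (x : G), x ^ 2 ^ j = 1 → α x = x := by
    intro j
    induction j with
    | zero =>
      intro x hx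
      rw [pow_zero, pow_one] at hx
      rw [hx, map_one]
    | succ j ih =>
      intro x hx
      have h1 : α (x ^ 2) = x ^ 2 := ih _ (by rw [← pow_mul, ← pow_succ']; exact hx)
      refine CfsgLib.Fusion.Stability.eq_self_of_disp_fixed hG α hα (hinv _ ?_)
      have hcomm : Commute x⁻¹ (α x) := e.injective (by rw [map_mul, map_mul, mul_comm])
      rw [hcomm.mul_pow, ← map_pow, h1, inv_pow, inv_mul_cancel]
  refine MulEquiv.ext fun x => ?_
  obtain ⟨j, hj⟩ := hG x
  exact hall j x hj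


/-- Let S be a finite abelian 2-group that is a direct product of cyclic groups of pairwise distinct orders 2^{a_1} < 2^{a_2} < ⋯ < 2^{a_n} (all a_i ≥ 1). Then every saturated fusion system over S is the inner one: its maps are exactly the conjugations by elements of S. -/
theorem result {Ω : Type*} [Group Ω] {S : Subgroup Ω} [Finite S] (n : ℕ) (a : Fin n → ℕ) (ha : StrictMono a) (ha1 : ∀ i, 1 ≤ a i) (e : ↥S ≃* Multiplicative ((i : Fin n) → ZMod (2 ^ a i))) (F : Cfsg.FusionSystem S) (hF : F.IsSaturated 2) (P : Subgroup Ω) : F.Hom P = (Cfsg.innerFusionSystem S).Hom P := by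
  have hS : IsPGroup 2 S := by
    refine IsPGroup.of_card (n := ∑ i, a i) ?_
    rw [Nat.card_congr (e.toEquiv.trans Multiplicative.toAdd), Nat.card_pi, ← Finset.prod_pow_eq_pow_sum]
    simp [Nat.card_zmod]
  have hab : ∀ x ∈ S, ∀ y ∈ S, x * y = y * x := fun x hx y hy =>
    congrArg Subtype.val (show (⟨x, hx⟩ : S) * ⟨y, hy⟩ = ⟨y, hy⟩ * ⟨x, hx⟩ from
      e.injective (by rw [map_mul, map_mul, mul_comm]))
  refine Set.Subset.antisymm (fun φ hφ => ?_) ?_
  · have hn := CfsgLib.Fusion.Stability.isNormal_of_abelian hS hF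
      (R := S) ⟨le_rfl, fun R _ φ hφ x => CfsgLib.Fusion.map_mem hφ x⟩ hab
    obtain ⟨ψ, hψ, hag, hψS⟩ := hn.2 P φ hφ
    obtain ⟨α, hα, hαv⟩ := CfsgLib.Fusion.exists_aut (CfsgLib.Fusion.restrict_mem hψ le_sup_right)
      ((CfsgLib.Fusion.range_comp_inclusion _).trans hψS)
    have : Finite (MulAut S) := CfsgLib.Fusion.finite_mulAut
    obtain ⟨T, hT⟩ := (CfsgLib.Fusion.isFullyAutomized_of_isFullyNormalized hS hF
      (CfsgLib.Fusion.isFullyNormalized_top F)).2
    have hbot : (T : Subgroup (F.autGroup S)) = ⊥ := by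
      rw [hT, eq_bot_iff]
      intro β hβ
      obtain ⟨g, hg, hv⟩ := CfsgLib.Fusion.mem_autInducedBy_iff.1 hβ
      rw [Subgroup.mem_bot]
      refine Subtype.ext (MulEquiv.ext fun x => Subtype.ext ?_)
      refine (hv x).trans ?_
      rw [hab g hg x x.2, mul_inv_cancel_right]
      rfl
    have h := T.not_dvd_index
    rw [hbot, Subgroup.index_bot] at h
    have hcop : (orderOf α).Coprime 2 := by
      refine Nat.Coprime.coprime_dvd_left ?_ (Nat.prime_two.coprime_iff_not_dvd.2 h).symm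
      rw [show α = ((⟨α, hα⟩ : F.autGroup S) : MulAut S) from rfl, Subgroup.orderOf_coe]
      exact orderOf_dvd_natCard _
    have hα1 := aut_eq_one n a ha e hS α hcop
    refine ⟨(F.le_of_mem hφ).1, 1, S.one_mem, fun x => ?_⟩
    rw [one_mul, inv_one, mul_one, ← hag x]
    have h2 := hαv ⟨x, (F.le_of_mem hφ).1 x.2⟩
    rw [hα1, MulAut.one_apply] at h2
    exact h2.symm
  · rintro φ ⟨hP, g, hg, hv⟩
    exact CfsgLib.Fusion.mem_of_eq_conj hP hg φ hv

end Cfsg.Agent.S5331
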