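import Cfsg.Statements.S5333
import Cfsg.Agent.Lib.Fusion.Descent

set_option autoImplicit false
open Cfsg

namespace Cfsg.Agent.S5333

/-- the centralizer system of `Z` in `F`, as a fusion system -/
def centSystem {Ω : Type*} [Group Ω] {S : Subgroup Ω} (F : Cfsg.FusionSystem S)
    (Z : Subgroup Ω) (hZ : Z ≤ S) :
    Cfsg.FusionSystem (Cfsg.FusionSystem.centralizerIn S Z) where
  Hom P := F.centralizerHom Z P
  le_of_mem h := ⟨h.2.1, h.2.2.1⟩
  injective_of_mem h := F.injective_of_mem h.1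
  conj_mem := by
    intro P g hP hg
    refine ⟨F.conj_mem (hP.trans inf_le_left) hg.1, hP, fun x =>
      (Cfsg.FusionSystem.centralizerIn S Z).mul_mem
        ((Cfsg.FusionSystem.centralizerIn S Z).mul_mem hg (hP x.2))
        ((Cfsg.FusionSystem.centralizerIn S Z).inv_mem hg),
      Cfsg.conjHom (P ⊔ Z) g, F.conj_mem (sup_le (hP.trans inf_le_left) hZ) hg.1,
      fun x => rfl, fun x => ?_⟩
    show g * (x : Ω) * g⁻¹ = x
    rw [← Subgroup.mem_centralizer_iff.1 hg.2 x x.2, mul_inv_cancel_right]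
  comp_mem := by
    rintro P Q φ ψ ⟨hφ, hP, hφC, φ', hφ', hφe, hφf⟩ ⟨hψ, hQ, hψC, ψ', hψ', hψe, hψf⟩ h
    have hmem : ∀ x : ↥(P ⊔ Z), φ' x ∈ Q ⊔ Z := by
      intro x
      have : P ⊔ Z ≤ ((Q ⊔ Z).comap φ').map (P ⊔ Z).subtype := by
        refine sup_le (fun y hy => ?_) (fun y hy => ?_)
        · refine ⟨⟨y, Subgroup.mem_sup_left hy⟩, ?_, rfl⟩
          show φ' _ ∈ Q ⊔ Z
          exact Subgroup.mem_sup_left (by
            rw [show φ' ⟨y, Subgroup.mem_sup_left hy⟩ = φ ⟨y, hy⟩ from hφe ⟨y, hy⟩]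
            exact h _)
        · refine ⟨⟨y, Subgroup.mem_sup_right hy⟩, ?_, rfl⟩
          show φ' _ ∈ Q ⊔ Z
          exact Subgroup.mem_sup_right (by
            rw [show φ' ⟨y, Subgroup.mem_sup_right hy⟩ = y from hφf ⟨y, hy⟩]
            exact hy)
      obtain ⟨y, hy, hyx⟩ := this x.2
      obtain rfl : y = x := Subtype.ext hyx
      exact hy
    refine ⟨F.comp_mem hφ hψ h, hP, fun x => hψC _, _, F.comp_mem hφ' hψ' hmem,
      fun x => ?_, fun x => ?_⟩
    · show ψ' ⟨φ' (Subgroup.inclusion le_sup_left x), hmem _⟩ = ψ ⟨φ x, h x⟩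
      rw [← hψe ⟨φ x, h x⟩]
      congr 1
      exact Subtype.ext (hφe x)
    · show ψ' ⟨φ' (Subgroup.inclusion le_sup_right x), hmem _⟩ = x
      rw [← hψf x]
      congr 1
      exact Subtype.ext (hφf x)
  inv_mem := by
    rintro P φ ⟨hφ, hP, hφC, φ', hφ', hφe, hφf⟩
    obtain ⟨χ, hχ, hχv⟩ := F.inv_mem hφ
    obtain ⟨χ', hχ', hχ'v⟩ := F.inv_mem hφ'
    refine ⟨χ, ⟨hχ, ?_, ?_, ?_⟩, hχv⟩
    · rintro _ ⟨x, rfl⟩; exact hφC x
    · rintro ⟨_, x, rfl⟩; rw [hχv]; exact hP x.2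
    · have hle : φ.range ⊔ Z ≤ φ'.range :=
        sup_le (by rintro _ ⟨x, rfl⟩; exact ⟨_, hφe x⟩) (fun z hz => ⟨_, hφf ⟨z, hz⟩⟩)
      refine ⟨χ'.comp (Subgroup.inclusion hle), CfsgLib.Fusion.restrict_mem hχ' hle,
        fun x => ?_, fun z => ?_⟩
      · obtain ⟨_, y, rfl⟩ := x
        rw [hχv, ← show ((Subgroup.inclusion le_sup_left y : ↥(P ⊔ Z)) : Ω) = y from rfl, ← hχ'v]
        show χ' _ = χ' _
        congr 1
        exact Subtype.ext (hφe y).symm
      · rw [← show ((Subgroup.inclusion le_sup_right z : ↥(P ⊔ Z)) : Ω) = z from rfl, ← hχ'v]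
        show χ' _ = χ' _
        congr 1
        exact Subtype.ext (hφf z).symm


/-- Let F′ ≤ F be saturated fusion systems over the same finite p-group S. Suppose that for every subgroup Z ≤ S of order p that is fully centralized in F′, the maps of F and of F′ with source Z coincide and the centralizer systems C_F(Z) and C_{F′}(Z) coincide. Then F = F′. -/
theorem result {Ω : Type*} [Group Ω] {S : Subgroup Ω} [Finite S] (p : ℕ) [Fact p.Prime] (hS : IsPGroup p S) (F : Cfsg.FusionSystem S) (hF : F.IsSaturated p) (F' : Cfsg.FusionSystem S) (hF' : F'.IsSaturated p) (hle : F' ≤ F) (hZ : ∀ Z : Subgroup Ω, Z ≤ S → Nat.card Z = p → F'.IsFullyCentralized Z → F.Hom Z = F'.Hom Z ∧ ∀ (C C' : Cfsg.FusionSystem (Cfsg.FusionSystem.centralizerIn S Z)), F.IsCentralizerSystem Z C → F'.IsCentralizerSystem Z C' → ∀ P : Subgroup Ω, C.Hom P = C'.Hom P) (P : Subgroup Ω) : F.Hom P = F'.Hom P := by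
  refine subset_antisymm ?_ (hle P)
  rcases eq_or_ne S ⊥ with hS1 | hS1
  · intro φ hφ
    have hP : P ≤ S := (F.le_of_mem hφ).1
    refine CfsgLib.Fusion.mem_of_eq_conj hP S.one_mem φ fun x => ?_
    have hx : (x : Ω) = 1 := by simpa [hS1] using hP x.2
    rw [show x = 1 from Subtype.ext hx, map_one]
    simp
  obtain ⟨a, haC, hap⟩ : ∃ a : S, a ∈ Subgroup.center S ∧ orderOf a = p := by
    have : Nontrivial S := (Subgroup.nontrivial_iff_ne_bot S).2 hS1
    have hZ1 := hS.center_nontrivial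
    have hd : p ∣ Nat.card (Subgroup.center S) := by
      obtain ⟨n, hn⟩ := IsPGroup.iff_card.1 (hS.to_subgroup (Subgroup.center S))
      rcases n.eq_zero_or_pos with rfl | hn0
      · exact absurd (Finite.one_lt_card (α := Subgroup.center S)) (by rw [hn]; simp)
      · exact hn ▸ dvd_pow_self p hn0.ne'
    obtain ⟨z, hz⟩ := exists_prime_orderOf_dvd_card' p hd
    exact ⟨z, z.2, by rw [Subgroup.orderOf_coe, hz]⟩
  set Z : Subgroup Ω := Subgroup.zpowers (a : Ω) with hZdef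
  have hZS : Z ≤ S := Subgroup.zpowers_le.2 a.2
  have hZC : S ≤ Subgroup.centralizer (Z : Set Ω) := by
    intro s hs
    rw [Subgroup.mem_centralizer_iff]
    intro z hz
    obtain ⟨k, rfl⟩ := hz
    have h1 : (⟨s, hs⟩ : S) * a = a * ⟨s, hs⟩ := Subgroup.mem_center_iff.1 haC _
    have h2 : Commute s (a : Ω) := congrArg Subtype.val h1
    exact (h2.zpow_right k).symm
  have hCeq : Cfsg.FusionSystem.centralizerIn S Z = S := inf_eq_left.2 hZC
  have hZcard : Nat.card Z = p := by rw [hZdef, Nat.card_zpowers, Subgroup.orderOf_coe, hap]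
  have hZfc : F'.IsFullyCentralized Z := by
    refine ⟨hZS, fun R hR => ?_⟩
    rw [hCeq]
    exact Nat.card_le_card_of_injective _
      (Subgroup.inclusion_injective (CfsgLib.Fusion.centralizerIn_le S R))
  obtain ⟨hhom, hCC⟩ := hZ Z hZS hZcard hZfc
  have key : ∀ (Q : Subgroup Ω), Z ≤ Q → F.Hom Q ⊆ F'.Hom Q := by
    intro Q hZQ φ hφ
    have hQS : Q ≤ S := (F.le_of_mem hφ).1
    have h1 : φ.comp (Subgroup.inclusion hZQ) ∈ F'.Hom Z :=
      hhom ▸ CfsgLib.Fusion.restrict_mem hφ hZQ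
    obtain ⟨Z', hZ'⟩ : ∃ Z', (φ.comp (Subgroup.inclusion hZQ)).range = Z' := ⟨_, rfl⟩
    obtain ⟨e₀, he₀, he₀v⟩ := CfsgLib.Fusion.exists_iso h1 hZ'
    have hR : Z' ⊔ Cfsg.FusionSystem.centralizerIn S Z' ≤ Cfsg.FusionSystem.normalizerIn S Z' :=
      sup_le (CfsgLib.Fusion.le_normalizerIn he₀.le_right)
        (CfsgLib.Fusion.centralizerIn_le_normalizerIn S Z')
    have hext : Z' ⊔ Cfsg.FusionSystem.centralizerIn S Z' ≤
        Cfsg.FusionSystem.extender S Z' (Z.subtype.comp e₀.symm.toMonoidHom) :=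
      sup_le (CfsgLib.Fusion.le_extender he₀.le_right fun x => CfsgLib.Fusion.map_mem he₀.symm x)
        (CfsgLib.Fusion.centralizerIn_le_extender _)
    obtain ⟨ψ, hψ, -, hag⟩ := he₀.symm.exists_extension
      (CfsgLib.Fusion.isReceptive_of_isFullyCentralized hS hF' hZfc) le_sup_left hR
      (fun g hg => (CfsgLib.Fusion.mem_extender_iff_congr e₀.symm (fun _ => rfl) (hR hg).1
        (hR hg).2).1 (hext hg))
    have hφR : ∀ x : Q, φ x ∈ Z' ⊔ Cfsg.FusionSystem.centralizerIn S Z' := by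
      intro x
      refine Subgroup.mem_sup_right ⟨(F.le_of_mem hφ).2 x, ?_⟩
      show φ x ∈ Subgroup.centralizer (Z' : Set Ω)
      rw [Subgroup.mem_centralizer_iff, ← hZ']
      rintro _ ⟨z, rfl⟩
      show φ (Subgroup.inclusion hZQ z) * φ x = φ x * φ (Subgroup.inclusion hZQ z)
      rw [← map_mul, ← map_mul]
      congr 1
      exact Subtype.ext (Subgroup.mem_centralizer_iff.1 (hZC (hQS x.2)) z z.2)
    have hδ := F.comp_mem hφ (hle _ hψ) hφR
    have hfix : ∀ z : Z, ψ ⟨φ ⟨z, hZQ z.2⟩, hφR _⟩ = (z : Ω) := by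
      intro z
      have h := hag (e₀ z)
      rw [MulEquiv.symm_apply_apply] at h
      refine Eq.trans ?_ h
      congr 1
      exact Subtype.ext (he₀v z).symm
    have hδC : ψ.comp (φ.codRestrict _ hφR) ∈ F.centralizerHom Z Q := by
      refine ⟨hδ, by rw [hCeq]; exact hQS, fun x => by rw [hCeq]; exact (F.le_of_mem hδ).2 x, ?_⟩
      have hQZ : Q ⊔ Z ≤ Q := sup_le le_rfl hZQ
      exact ⟨_, CfsgLib.Fusion.restrict_mem hδ hQZ, fun x => rfl, fun z => hfix z⟩
    have hδF' : ψ.comp (φ.codRestrict _ hφR) ∈ F'.Hom Q := by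
      have := hCC (centSystem F Z hZS) (centSystem F' Z hZS) (fun _ => rfl) (fun _ => rfl) Q
      exact ((show F.centralizerHom Z Q = F'.centralizerHom Z Q from this) ▸ hδC).1
    obtain ⟨ψ', hψ', hψ'v⟩ := F'.inv_mem hψ
    exact CfsgLib.Fusion.mem_of_comp hδF' hψ' (fun x => ⟨⟨φ x, hφR x⟩, rfl⟩) φ
      fun x => (hψ'v ⟨φ x, hφR x⟩).symm
  refine CfsgLib.Fusion.Descent.hom_le_of_aut_centric hS hF (fun Q hQ hc _ α hα => ?_) P
  have hQS : Q ≤ S := hQ.1
  refine (CfsgLib.Fusion.mem_autGroup_iff_hom hQS).2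
    (key Q ?_ ((CfsgLib.Fusion.mem_autGroup_iff_hom hQS).1 hα))
  have h1 := hc.2 Q (CfsgLib.Fusion.isConj_refl F hQS)
  refine le_trans ?_ h1
  refine Subgroup.zpowers_le.2 ⟨a.2, ?_⟩
  show (a : Ω) ∈ Subgroup.centralizer (Q : Set Ω)
  rw [Subgroup.mem_centralizer_iff]
  intro q hq
  exact congrArg Subtype.val (Subgroup.mem_center_iff.1 haC ⟨q, hQS hq⟩)

end Cfsg.Agent.S5333
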