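import Cfsg.Statements.S5334
import Cfsg.Agent.Lib.Fusion.CentricExtend

set_option autoImplicit false
open Cfsg

namespace Cfsg.Agent.S5334

/-- Let F′ ≤ F be saturated fusion systems over the same finite p-group S, let Q and R be F-centric subgroups, φ a map of F with source Q and values in R, and ψ a map of F with source R. If two of φ, ψ and the composite ψ ∘ φ are maps of F′ then so is the third. -/
theorem result {Ω : Type*} [Group Ω] {S : Subgroup Ω} [Finite S] (p : ℕ) [Fact p.Prime] (hS : IsPGroup p S) (F : Cfsg.FusionSystem S) (hF : F.IsSaturated p) (F' : Cfsg.FusionSystem S) (hF' : F'.IsSaturated p) (hle : F' ≤ F) (Q R : Subgroup Ω) (hQ : F.IsCentric Q) (hR : F.IsCentric R) (φ : ↥Q →* Ω) (hφ : φ ∈ F.Hom Q) (hφR : ∀ x : Q, φ x ∈ R) (ψ : ↥R →* Ω) (hψ : ψ ∈ F.Hom R) : (φ ∈ F'.Hom Q → ψ ∈ F'.Hom R → ψ.comp (φ.codRestrict R hφR) ∈ F'.Hom Q) ∧ (ψ ∈ F'.Hom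 R → ψ.comp (φ.codRestrict R hφR) ∈ F'.Hom Q → φ ∈ F'.Hom Q) ∧ (φ ∈ F'.Hom Q → ψ.comp (φ.codRestrict R hφR) ∈ F'.Hom Q → ψ ∈ F'.Hom R) := by
  refine ⟨fun h1 h2 => F'.comp_mem h1 h2 hφR, fun h1 h2 => ?_, fun h1 h2 => ?_⟩
  · obtain ⟨χ, hχ, hχv⟩ := F'.inv_mem h1
    exact CfsgLib.Fusion.mem_of_comp h2 hχ (fun x => ⟨⟨φ x, hφR x⟩, rfl⟩) φ
      fun x => (hχv ⟨φ x, hφR x⟩).symm
  · obtain ⟨χ, hχ, hχv⟩ := F'.inv_mem h1
    have hle' : φ.range ≤ R := by rintro _ ⟨x, rfl⟩; exact hφR x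
    have hc := CfsgLib.Fusion.CentricExtend.centric_of_isConj hQ ⟨φ, hφ, rfl⟩
    refine CfsgLib.Fusion.CentricExtend.mem_of_restrict_centric hS hF hF' hle (Nat.card S) φ.range
      (Nat.le_add_left _ _) hc R ψ hle' hψ ?_
    refine CfsgLib.Fusion.mem_of_comp hχ h2 ?_ _ ?_
    · rintro ⟨_, x, rfl⟩
      rw [hχv]
      exact x.2
    · rintro ⟨_, x, rfl⟩
      show ψ ⟨φ x, _⟩ = (ψ.comp (φ.codRestrict R hφR)) ⟨χ ⟨φ x, _⟩, _⟩
      show _ = ψ ((φ.codRestrict R hφR) ⟨χ ⟨φ x, _⟩, _⟩)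
      congr 1
      apply Subtype.ext
      show φ x = φ ⟨χ ⟨φ x, _⟩, _⟩
      congr 1
      exact Subtype.ext (hχv x).symm

end Cfsg.Agent.S5334
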