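import Cfsg.Statements.S5335
import Cfsg.Agent.Lib.Fusion.CentricExtend

set_option autoImplicit false
open Cfsg

namespace Cfsg.Agent.S5335

/-- Let F′ ≤ F be saturated fusion systems over the same finite p-group S. If the maps of F and of F′ with source Q coincide for every F-centric subgroup Q that is minimal among F-centric subgroups, then F = F′. -/
theorem result {Ω : Type*} [Group Ω] {S : Subgroup Ω} [Finite S] (p : ℕ) [Fact p.Prime] (hS : IsPGroup p S) (F : Cfsg.FusionSystem S) (hF : F.IsSaturated p) (F' : Cfsg.FusionSystem S) (hF' : F'.IsSaturated p) (hle : F' ≤ F) (hmin : ∀ Q : Subgroup Ω, F.IsCentric Q → (∀ R : Subgroup Ω, R < Q → ¬ F.IsCentric R) → F.Hom Q = F'.Hom Q) (P : Subgroup Ω) : F.Hom P = F'.Hom P := by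
  refine subset_antisymm ?_ (hle P)
  refine CfsgLib.Fusion.Descent.hom_le_of_aut_centric hS hF (fun Q hQ hc _ α hα => ?_) P
  have hQS : Q ≤ S := hQ.1
  obtain ⟨M, ⟨hMc, hMQ⟩, hmin'⟩ : ∃ M, (F.IsCentric M ∧ M ≤ Q) ∧
      ∀ R : Subgroup Ω, R < M → ¬ F.IsCentric R := by
    classical
    have hex : ∃ k, ∃ M, (F.IsCentric M ∧ M ≤ Q) ∧ Nat.card M = k := ⟨_, Q, ⟨hc, le_rfl⟩, rfl⟩
    obtain ⟨M, hM, hMk⟩ := Nat.find_spec hex
    refine ⟨M, hM, fun R hR hRc => ?_⟩
    have := Nat.find_min' hex ⟨R, ⟨hRc, hR.le.trans hM.2⟩, rfl⟩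
    have := CfsgLib.Fusion.Descent.card_lt_card_of_lt (hM.2.trans hQS) hR
    omega
  have hα' := (CfsgLib.Fusion.mem_autGroup_iff_hom hQS).1 hα
  refine (CfsgLib.Fusion.mem_autGroup_iff_hom hQS).2
    (CfsgLib.Fusion.CentricExtend.mem_of_restrict_centric hS hF hF' hle (Nat.card S) M
      (Nat.le_add_left _ _) hMc Q _ hMQ hα' ?_)
  exact hmin M hMc hmin' ▸ CfsgLib.Fusion.restrict_mem hα' hMQ

end Cfsg.Agent.S5335
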