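import Cfsg.Statements.S5338
import Cfsg.Agent.Lib.Fusion.Descent

set_option autoImplicit false
open Cfsg

namespace Cfsg.Agent.S5338

/-- Let F be a saturated fusion system over a finite p-group S and F′ ≤ F a saturated subsystem over all of S that is invariant under F in the conjugation sense: for every map φ of F with source Q and every map ψ of F′ between subgroups R ≤ Q (with values in Q), the transported map φψφ⁻¹ defined on φ(R) is again a map of F′. If moreover Aut_{F′}(S) = Aut_F(S), then F′ = F. -/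
theorem result {Ω : Type*} [Group Ω] {S : Subgroup Ω} [Finite S] (p : ℕ) [Fact p.Prime] (hS : IsPGroup p S) (F : Cfsg.FusionSystem S) (hF : F.IsSaturated p) (F' : Cfsg.FusionSystem S) (hF' : F'.IsSaturated p) (hle : F' ≤ F) (hinv : ∀ (Q : Subgroup Ω) (φ : ↥Q →* Ω), φ ∈ F.Hom Q → ∀ (R : Subgroup Ω) (hRQ : R ≤ Q) (ψ : ↥R →* Ω), ψ ∈ F'.Hom R → ∀ (hψQ : ∀ x : R, ψ x ∈ Q), ∃ χ ∈ F'.Hom ((R.subgroupOf Q).map φ), ∀ (x : R) (hx : φ ⟨(x : Ω), hRQ x.2⟩ ∈ (R.subgroupOf Q).map φ), χ ⟨φ ⟨(x : Ω), hRQ x.2⟩, hx⟩ = φ ⟨ψ x, hψQ x⟩) (htop : F'.autGroup S = F.autGroup S) (P : Subgroup Ω) : F'.Hom P = F.Hom P := by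
  refine subset_antisymm (hle P) ?_
  refine CfsgLib.Fusion.Descent.hom_le_of_aut hS hF (fun Q hQ hbig => ?_) P
  rcases eq_or_lt_of_le hQ.1 with rfl | hlt
  · exact htop.ge
  have hQS : Q ≤ S := hQ.1
  have : Finite Q := CfsgLib.Fusion.finite_of_le hQS
  have : Finite (MulAut Q) := CfsgLib.Fusion.finite_mulAut
  set N : Subgroup (F.autGroup Q) := (F'.autGroup Q).subgroupOf (F.autGroup Q) with hN
  have hNn : N.Normal := ⟨by
    intro β hβ α
    have hαi := (CfsgLib.Fusion.mem_autGroup_iff_hom hQS).1 α.2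
    have hβi := (CfsgLib.Fusion.mem_autGroup_iff_hom hQS).1
      (show (β : MulAut Q) ∈ F'.autGroup Q from hβ)
    obtain ⟨χ, hχ, hval⟩ := hinv Q _ hαi Q le_rfl _ hβi (fun x => ((β : MulAut Q) x).2)
    have hQmap : Q ≤ (Q.subgroupOf Q).map (Q.subtype.comp (α : MulAut Q).toMonoidHom) := by
      rw [CfsgLib.Fusion.map_subgroupOf_self, CfsgLib.Fusion.range_subtype_comp]
    show ((α * β * α⁻¹ : F.autGroup Q) : MulAut Q) ∈ F'.autGroup Q
    refine (CfsgLib.Fusion.mem_autGroup_iff_hom hQS).2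
      (CfsgLib.Fusion.mem_of_restrict hχ hQmap _ fun y => ?_)
    obtain ⟨x, rfl⟩ := (α : MulAut Q).surjective y
    exact (hval x (hQmap ((α : MulAut Q) x).2)).trans (by simp) |>.symm⟩
  obtain ⟨T, hT⟩ := (CfsgLib.Fusion.isFullyAutomized_of_isFullyNormalized hS hF hQ).2
  have hTN : (T : Subgroup (F.autGroup Q)) ≤ N := by
    rw [hT]
    exact fun α hα => CfsgLib.Fusion.autInducedBy_le_autGroup F' hQS hα
  have hNT : Subgroup.normalizer ((T : Subgroup (F.autGroup Q)) : Set (F.autGroup Q)) ≤ N := by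
    intro α hα
    refine CfsgLib.Fusion.Descent.aut_mem_of_normalize hS
      (CfsgLib.Fusion.isReceptive_of_isFullyNormalized hS hF hQ) hlt hbig α.2 fun β hβ => ?_
    have hmem : (⟨β, CfsgLib.Fusion.autInducedBy_le_autGroup F hQS hβ⟩ : F.autGroup Q) ∈
        (T : Subgroup (F.autGroup Q)) := by rw [hT]; exact hβ
    have h1 := (Subgroup.mem_normalizer_iff.1 hα _).1 hmem
    rw [hT] at h1
    exact h1
  have htop' : (⊤ : Subgroup (F.autGroup Q)) ≤ N := by
    rw [← Sylow.normalizer_sup_eq_top' T hTN]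
    exact sup_le hNT le_rfl
  exact fun α hα => htop' (Subgroup.mem_top (⟨α, hα⟩ : F.autGroup Q))

end Cfsg.Agent.S5338
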