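import Cfsg.Statements.S5341
import Cfsg.Agent.Lib.Fusion.Saturation

set_option autoImplicit false
open Cfsg

namespace Cfsg.Agent.S5341

/-- Let F be a saturated fusion system over a finite p-group S, T a subgroup strongly closed in F, and F′ any fusion system over T all of whose maps are maps of F. For a subgroup Q ≤ T: if Q is fully centralized in F then it is fully centralized in F′, and if Q is fully normalized in F then it is fully normalized in F′. -/
theorem result {Ω : Type*} [Group Ω] {S : Subgroup Ω} [Finite S] (p : ℕ) [Fact p.Prime] (hS : IsPGroup p S) (F : Cfsg.FusionSystem S) (hF : F.IsSaturated p) (T : Subgroup Ω) (hT : F.StronglyClosed T) (F' : Cfsg.FusionSystem T) (hsub : F'.IsSubsystemOf F) (Q : Subgroup Ω) (hQT : Q ≤ T) : (F.IsFullyCentralized Q → F'.IsFullyCentralized Q) ∧ (F.IsFullyNormalized Q → F'.IsFullyNormalized Q) := by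
  have hTS : T ≤ S := hT.1
  refine ⟨fun hQ => ⟨hQT, fun Q' hQQ' => ?_⟩, fun hQ => ⟨hQT, fun Q' hQQ' => ?_⟩⟩
  all_goals
    obtain ⟨φ, hφ, rfl⟩ := hQQ'
    have hconj : F.IsConj φ.range Q :=
      CfsgLib.Fusion.isConj_symm ⟨φ, hsub Q hφ, rfl⟩
    have hQ'T : φ.range ≤ T := by
      rintro _ ⟨x, rfl⟩
      exact (F'.le_of_mem hφ).2 x
  · obtain ⟨e, he⟩ := CfsgLib.Fusion.exists_iso_of_isConj hconj
    set R : Subgroup Ω := φ.range ⊔ Cfsg.FusionSystem.centralizerIn T φ.range with hRdef
    have hRT : R ≤ T := sup_le hQ'T (CfsgLib.Fusion.centralizerIn_le T _)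
    have hRC : R ≤ φ.range ⊔ Cfsg.FusionSystem.centralizerIn S φ.range :=
      sup_le_sup_left (inf_le_inf_right _ hTS) _
    have hR : R ≤ Cfsg.FusionSystem.normalizerIn S φ.range :=
      hRC.trans (sup_le (CfsgLib.Fusion.le_normalizerIn he.le_left)
        (CfsgLib.Fusion.centralizerIn_le_normalizerIn S _))
    have hext : R ≤ Cfsg.FusionSystem.extender S φ.range (Q.subtype.comp e.toMonoidHom) :=
      hRC.trans (sup_le (CfsgLib.Fusion.le_extender he.le_left fun x => CfsgLib.Fusion.map_mem he x)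
        (CfsgLib.Fusion.centralizerIn_le_extender _))
    obtain ⟨ψ, hψ, -, hag⟩ := he.exists_extension
      (CfsgLib.Fusion.isReceptive_of_isFullyCentralized hS hF hQ) (le_sup_left) hR
      (fun g hg => (CfsgLib.Fusion.mem_extender_iff_congr e (fun _ => rfl) (hR hg).1 (hR hg).2).1
        (hext hg))
    have : Finite T := CfsgLib.Fusion.finite_of_le hTS
    have : Finite (Cfsg.FusionSystem.centralizerIn T Q) :=
      CfsgLib.Fusion.finite_of_le (CfsgLib.Fusion.centralizerIn_le T Q)
    have hmem : ∀ c : Cfsg.FusionSystem.centralizerIn T φ.range,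
        ψ ⟨c, le_sup_right (a := φ.range) c.2⟩ ∈ Cfsg.FusionSystem.centralizerIn T Q := fun c =>
      ⟨hT.2 R hRT ψ hψ _, (CfsgLib.Fusion.map_mem_centralizer_iff_of_extends le_sup_left hag _
        (CfsgLib.Fusion.centralizer_le_normalizer _ c.2.2)).2 c.2.2⟩
    refine Nat.card_le_card_of_injective (fun c => (⟨_, hmem c⟩ :
      Cfsg.FusionSystem.centralizerIn T Q)) fun a b hab => ?_
    exact Subtype.ext (Subtype.ext_iff.1 (CfsgLib.Fusion.hom_inj hψ (Subtype.ext_iff.1 hab)) :)
  · obtain ⟨e, he, ψ, hψ, hψN, hag⟩ := CfsgLib.Fusion.exists_normalizer_map hS hF hQ hconj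
    have hle : Cfsg.FusionSystem.normalizerIn T φ.range ≤ Cfsg.FusionSystem.normalizerIn S φ.range :=
      inf_le_inf_right _ hTS
    have hψ' := CfsgLib.Fusion.restrict_mem hψ hle
    have hmem : ∀ c : Cfsg.FusionSystem.normalizerIn T φ.range,
        ψ (Subgroup.inclusion hle c) ∈ Cfsg.FusionSystem.normalizerIn T Q := fun c =>
      ⟨hT.2 _ (CfsgLib.Fusion.normalizerIn_le T _) _ hψ' c, (hψN _).2⟩
    have : Finite T := CfsgLib.Fusion.finite_of_le hTS
    have : Finite (Cfsg.FusionSystem.normalizerIn T Q) :=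
      CfsgLib.Fusion.finite_of_le (CfsgLib.Fusion.normalizerIn_le T Q)
    refine Nat.card_le_card_of_injective (fun c => (⟨_, hmem c⟩ :
      Cfsg.FusionSystem.normalizerIn T Q)) fun a b hab => ?_
    exact Subgroup.inclusion_injective hle (CfsgLib.Fusion.hom_inj hψ (Subtype.ext_iff.1 hab))

end Cfsg.Agent.S5341
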