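import Cfsg.Statements.S5344
import Cfsg.Agent.Lib.ThreeTransp.Basic

set_option autoImplicit false
open Cfsg

namespace Cfsg.Agent.S5344

open Equiv

/-- The closure of three generators with the relations of `S₄` lies in an explicit list of 24. -/
theorem mem_products {P : Type*} [Group P] {a b c : P} (ha : a * a = 1) (hb : b * b = 1)
    (hc : c * c = 1) (hab : a * b * a = b * a * b) (hbc : b * c * b = c * b * c) (hac : a * c = c * a)
    {x : P} (hx : x ∈ Subgroup.closure {a, b, c}) :
    ∃ w ∈ ([1, a, b, a * b, b * a, a * b * a] : List P),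
      ∃ v ∈ ([1, c, c * b, c * b * a] : List P), x = w * v := by
  have hW : ∀ w ∈ ([1, a, b, a * b, b * a, a * b * a] : List P),
      w * a ∈ ([1, a, b, a * b, b * a, a * b * a] : List P) ∧
        w * b ∈ ([1, a, b, a * b, b * a, a * b * a] : List P) := by
    intro w hw
    simp only [List.mem_cons, List.not_mem_nil, or_false] at hw ⊢
    rcases hw with rfl | rfl | rfl | rfl | rfl | rfl
    · exact ⟨by simp, by simp⟩
    · exact ⟨by simp [ha], by simp⟩
    · exact ⟨by simp, by simp [hb]⟩
    · exact ⟨by simp, Or.inr (Or.inl (by rw [mul_assoc, hb, mul_one]))⟩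
    · exact ⟨Or.inr (Or.inr (Or.inl (by rw [mul_assoc, ha, mul_one]))), by simp [hab]⟩
    · refine ⟨Or.inr (Or.inr (Or.inr (Or.inl ?_))), Or.inr (Or.inr (Or.inr (Or.inr (Or.inl ?_))))⟩
      · rw [mul_assoc, ha, mul_one]
      · rw [hab, mul_assoc, hb, mul_one]
  have hV : ∀ v ∈ ([1, c, c * b, c * b * a] : List P), ∀ g ∈ ({a, b, c} : Set P),
      ∃ w' ∈ ({1, a, b} : Set P), ∃ v' ∈ ([1, c, c * b, c * b * a] : List P),
        v * g = w' * v' := by
    intro v hv g hg
    simp only [List.mem_cons, List.not_mem_nil, or_false] at hv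
    rcases hv with rfl | rfl | rfl | rfl <;> rcases hg with rfl | rfl | rfl
    · exact ⟨_, Or.inr (Or.inl rfl), 1, by simp, by simp⟩
    · exact ⟨_, Or.inr (Or.inr rfl), 1, by simp, by simp⟩
    · exact ⟨1, Or.inl rfl, g, by simp, by simp⟩
    · exact ⟨g, Or.inr (Or.inl rfl), _, by simp, hac.symm⟩
    · exact ⟨1, Or.inl rfl, v * g, by simp, by simp⟩
    · exact ⟨1, Or.inl rfl, 1, by simp, by simp [hc]⟩
    · exact ⟨1, Or.inl rfl, c * b * g, by simp, by simp⟩
    · exact ⟨1, Or.inl rfl, c, by simp, by rw [mul_assoc, hb, mul_one, one_mul]⟩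
    · exact ⟨b, Or.inr (Or.inr rfl), g * b, by simp, by rw [← hbc, mul_assoc]⟩
    · exact ⟨1, Or.inl rfl, c * b, by simp, by rw [mul_assoc, ha, mul_one, one_mul]⟩
    · refine ⟨a, Or.inr (Or.inl rfl), c * g * a, by simp, ?_⟩
      calc c * g * a * g = c * (g * a * g) := by group
        _ = c * a * g * a := by rw [← hab]; group
        _ = a * (c * g * a) := by rw [← hac]; group
    · refine ⟨b, Or.inr (Or.inr rfl), g * b * a, by simp, ?_⟩
      calc g * b * a * g = g * b * (a * g) := by group
        _ = g * b * g * a := by rw [hac]; group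
        _ = b * (g * b * a) := by rw [← hbc]; group
  have key : ∀ y : P, (∃ w ∈ ([1, a, b, a * b, b * a, a * b * a] : List P),
      ∃ v ∈ ([1, c, c * b, c * b * a] : List P), y = w * v) → ∀ g ∈ ({a, b, c} : Set P),
      ∃ w ∈ ([1, a, b, a * b, b * a, a * b * a] : List P),
        ∃ v ∈ ([1, c, c * b, c * b * a] : List P), y * g = w * v := by
    rintro y ⟨w, hw, v, hv, rfl⟩ g hg
    obtain ⟨w', hw', v', hv', h⟩ := hV v hv g hg
    refine ⟨w * w', ?_, v', hv', by rw [mul_assoc, h, ← mul_assoc]⟩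
    rcases hw' with rfl | rfl | rfl
    exacts [by rwa [mul_one], (hW w hw).1, (hW w hw).2]
  induction hx using Subgroup.closure_induction_right with
  | one => exact ⟨1, by simp, 1, by simp, (one_mul 1).symm⟩
  | mul_right y hy g hg ih => exact key y ih g hg
  | mul_inv_cancel y hy g hg ih =>
    have hgg : g⁻¹ = g := by
      rcases hg with rfl | rfl | rfl <;> exact inv_eq_of_mul_eq_one_right ‹_›
    rw [hgg]
    exact key y ih g hg

theorem exists_double_transposition : ∀ σ : Perm (Fin 4), σ ≠ 1 → ∃ τ u : Perm (Fin 4),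
    u * (σ * (τ * σ⁻¹ * τ⁻¹)) * u⁻¹ = swap 0 1 * swap 2 3 := by
  decide +kernel

/-- In a set of 3-transpositions, let a, b, c be members with a and c different and commuting, while neither a nor c commutes with b (a 3-string). Then there is an injective homomorphism from the symmetric group of degree 4 into the ambient group sending the transpositions (0 1), (1 2), (2 3) to a, b, c; so a, b, c generate a copy of the symmetric group of degree 4 in which they are transpositions. -/
theorem result {G : Type*} [Group G] {D : Set G} (hD : Cfsg.IsThreeTranspositionSet D) {a b c : G} (ha : a ∈ D) (hb : b ∈ D) (hc : c ∈ D) (hac : a ≠ c) (hac' : Commute a c) (hab : ¬ Commute a b) (hbc : ¬ Commute b c) : ∃ φ : Equiv.Perm (Fin 4) →* G, Function.Injective φ ∧ φ (Equiv.swap 0 1) = a ∧ φ (Equiv.swap 1 2) = b ∧ φ (Equiv.swap 2 3) = c := by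
  classical
  have ha2 : a * a = 1 := CfsgLib.ThreeTransp.mul_self_eq_one (hD.1 a ha)
  have hb2 : b * b = 1 := CfsgLib.ThreeTransp.mul_self_eq_one (hD.1 b hb)
  have hc2 : c * c = 1 := CfsgLib.ThreeTransp.mul_self_eq_one (hD.1 c hc)
  set A : Equiv.Perm (Fin 4) × G := (Equiv.swap 0 1, a) with hA
  set B : Equiv.Perm (Fin 4) × G := (Equiv.swap 1 2, b) with hB
  set C : Equiv.Perm (Fin 4) × G := (Equiv.swap 2 3, c) with hC
  set K := Subgroup.closure ({A, B, C} : Set (Equiv.Perm (Fin 4) × G)) with hK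
  let f : K →* Equiv.Perm (Fin 4) := (MonoidHom.fst _ _).comp K.subtype
  have hinj : Function.Injective f := by
    rw [injective_iff_map_eq_one]
    intro x hx
    obtain ⟨w, hw, v, hv, hxv⟩ := mem_products (a := A) (b := B) (c := C)
      (Prod.ext (by simp only [hA, hB, hC, Prod.fst_mul, Prod.fst_one]; decide) ha2) (Prod.ext (by simp only [hA, hB, hC, Prod.fst_mul, Prod.fst_one]; decide) hb2) (Prod.ext (by simp only [hA, hB, hC, Prod.fst_mul, Prod.fst_one]; decide) hc2)
      (Prod.ext (by simp only [hA, hB, hC, Prod.fst_mul, Prod.fst_one]; decide) (CfsgLib.ThreeTransp.braid hD ha hb hab))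
      (Prod.ext (by simp only [hA, hB, hC, Prod.fst_mul, Prod.fst_one]; decide) (CfsgLib.ThreeTransp.braid hD hb hc hbc))
      (Prod.ext (by simp only [hA, hB, hC, Prod.fst_mul, Prod.fst_one]; decide) hac'.eq) x.2
    change (x : Equiv.Perm (Fin 4) × G).1 = 1 at hx
    rw [hxv] at hx
    apply Subtype.ext
    rw [hxv]
    simp only [List.mem_cons, List.not_mem_nil, or_false] at hw hv
    rcases hw with rfl | rfl | rfl | rfl | rfl | rfl <;> rcases hv with rfl | rfl | rfl | rfl <;>
      first
        | (simp; done)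
        | exact absurd hx (by simp only [hA, hB, hC, Prod.fst_mul, Prod.fst_one]; decide)
  have hsurj : Function.Surjective f := by
    rw [← MonoidHom.range_eq_top, eq_top_iff, ← (Subgroup.closure_eq_top_of_mclosure_eq_top (Equiv.Perm.mclosure_swap_castSucc_succ 3)),
      Subgroup.closure_le]
    rintro _ ⟨i, rfl⟩
    fin_cases i
    · exact ⟨⟨A, Subgroup.subset_closure (Or.inl rfl)⟩, rfl⟩
    · exact ⟨⟨B, Subgroup.subset_closure (Or.inr (Or.inl rfl))⟩, rfl⟩
    · exact ⟨⟨C, Subgroup.subset_closure (Or.inr (Or.inr rfl))⟩, rfl⟩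
  let e := MulEquiv.ofBijective f ⟨hinj, hsurj⟩
  let φ : Equiv.Perm (Fin 4) →* G := ((MonoidHom.snd _ _).comp K.subtype).comp e.symm.toMonoidHom
  have hval : ∀ (X : Equiv.Perm (Fin 4) × G) (hX : X ∈ K), φ X.1 = X.2 := fun X hX => by
    show ((e.symm (f ⟨X, hX⟩) : K) : Equiv.Perm (Fin 4) × G).2 = X.2
    rw [show f ⟨X, hX⟩ = e ⟨X, hX⟩ from rfl, MulEquiv.symm_apply_apply]
  have va : φ (Equiv.swap 0 1) = a := hval A (Subgroup.subset_closure (Or.inl rfl))
  have vc : φ (Equiv.swap 2 3) = c := hval C (Subgroup.subset_closure (Or.inr (Or.inr rfl)))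
  refine ⟨φ, ?_, va, hval B (Subgroup.subset_closure (Or.inr (Or.inl rfl))), vc⟩
  rw [injective_iff_map_eq_one]
  intro σ hσ
  by_contra hne
  obtain ⟨τ, u, hu⟩ := exists_double_transposition σ hne
  have h1 := congrArg φ hu
  simp only [map_mul, map_inv, hσ, inv_one, mul_one, mul_inv_cancel, va, vc] at h1
  apply hac
  calc a = a * c * c := by rw [mul_assoc, hc2, mul_one]
    _ = c := by rw [← h1, one_mul]

end Cfsg.Agent.S5344
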