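import Cfsg.Statements.S5345
import Cfsg.Agent.Lib.ThreeTransp.Cores

set_option autoImplicit false
open Cfsg

namespace Cfsg.Agent.S5345

theorem commute_of_mem_pGroup {G : Type*} [Group G] {D : Set G} (hD : Cfsg.IsThreeTranspositionSet D)
    {T : Subgroup G} (hT : IsPGroup 2 T) {d e : G} (hd : d ∈ D) (he : e ∈ D) (hdT : d ∈ T)
    (heT : e ∈ T) : Commute d e := by
  by_contra h
  have h3 := CfsgLib.ThreeTransp.pow_three_eq_one hD hd he h
  obtain ⟨k, hk⟩ := hT ⟨d * e, T.mul_mem hdT heT⟩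
  have hk' : (d * e) ^ 2 ^ k = 1 := congrArg Subtype.val hk
  have h2 := Nat.dvd_gcd (orderOf_dvd_of_pow_eq_one h3) (orderOf_dvd_of_pow_eq_one hk')
  rw [Nat.Coprime.gcd_eq_one (Nat.Coprime.pow_right k (by norm_num)), Nat.dvd_one,
    orderOf_eq_one_iff] at h2
  exact h (CfsgLib.ThreeTransp.commute_of_sq_eq_one (hD.1 d hd) (hD.1 e he) (by rw [h2, one_pow]))

/-- Let D be a conjugation-invariant generating set of 3-transpositions of a finite group G and T a Sylow 2-subgroup of G. Then the members of D lying in T generate an abelian subgroup, and their number is the width of D (the largest number of pairwise commuting members of D). -/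
theorem result {G : Type*} [Group G] [Finite G] {D : Set G} (hD : Cfsg.IsThreeTranspositionGroup D) (T : Sylow 2 G) : IsMulCommutative (Subgroup.closure {d : G | d ∈ D ∧ d ∈ T}) ∧ {d : G | d ∈ D ∧ d ∈ T}.ncard = Cfsg.commutingWidth D := by
  classical
  haveI : Fact (Nat.Prime 2) := ⟨Nat.prime_two⟩
  set X := {d : G | d ∈ D ∧ d ∈ T} with hX
  have hc : ∀ a ∈ X, ∀ b ∈ X, Commute a b := fun a ha b hb =>
    commute_of_mem_pGroup hD.1 T.2 ha.1 hb.1 ha.2 hb.2
  refine ⟨Subgroup.isMulCommutative_closure fun a ha b hb => (hc a ha b hb).eq, ?_⟩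
  have hle : ∀ n ∈ {n : ℕ | ∃ E : Set G, E ⊆ D ∧ E.Finite ∧ (∀ a ∈ E, ∀ b ∈ E, Commute a b) ∧
      E.ncard = n}, n ≤ X.ncard := by
    rintro n ⟨E, hED, -, hEc, rfl⟩
    have hp : IsPGroup 2 (Subgroup.closure E) :=
      CfsgLib.ThreeTransp.isPGroup_closure_of_commute hEc
        (fun x hx => by rw [pow_two]; exact CfsgLib.ThreeTransp.mul_self_eq_one (hD.1.1 x (hED hx)))
    obtain ⟨U, hU⟩ := hp.exists_le_sylow
    obtain ⟨g, hg⟩ := MulAction.exists_smul_eq G U T
    rw [hX]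
    refine Set.ncard_le_ncard_of_injOn (fun x => g * x * g⁻¹) (fun x hx => ⟨hD.2.1 g x (hED hx), ?_⟩)
      (fun x _ y _ h => mul_left_cancel (mul_right_cancel h)) (Set.toFinite _)
    rw [← hg, ← SetLike.mem_coe]
    show g * x * g⁻¹ ∈ ((g • U : Sylow 2 G) : Subgroup G)
    rw [Sylow.coe_subgroup_smul]
    exact ⟨x, hU (Subgroup.subset_closure hx), rfl⟩
  exact le_antisymm (le_csSup ⟨_, hle⟩ ⟨X, fun d hd => hd.1, Set.toFinite _, hc, rfl⟩)
    (csSup_le ⟨0, ∅, by simp, Set.finite_empty, by simp, Set.ncard_empty _⟩ hle)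

end Cfsg.Agent.S5345
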