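import Cfsg.Statements.S5346
import Cfsg.Agent.Lib.ThreeTransp.WidthOne
import Cfsg.Agent.Lib.ThreeTransp.Basic
import Cfsg.Agent.Lib.LargeXSpecial.Basic
import Cfsg.Prelude.Def_FischerSpaces

set_option autoImplicit false
open Cfsg

namespace Cfsg.Agent.S5346

open CfsgLib.ThreeTransp

/-- Let D be a conjugation-invariant generating set of 3-transpositions of a finite group G and d a member of D. Then D has width 1 (no two different members of D commute) if and only if G is the product of the subgroup generated by d with the largest normal 3-subgroup of G. -/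
theorem result {G : Type*} [Group G] [Finite G] {D : Set G} (hD : Cfsg.IsThreeTranspositionGroup D) {d : G} (hd : d ∈ D) : Cfsg.commutingWidth D = 1 ↔ Subgroup.zpowers d ⊔ Cfsg.pCore 3 G = ⊤ := by
  obtain ⟨hset, hconj, hgen⟩ := hD
  have hBdd : BddAbove {n : ℕ | ∃ E : Set G, E ⊆ D ∧ E.Finite ∧ (∀ a ∈ E, ∀ b ∈ E, Commute a b) ∧ E.ncard = n} :=
    ⟨Nat.card G, by rintro n ⟨E, -, -, -, rfl⟩; exact Set.ncard_le_card E⟩
  have hne : 1 ∈ {n : ℕ | ∃ E : Set G, E ⊆ D ∧ E.Finite ∧ (∀ a ∈ E, ∀ b ∈ E, Commute a b) ∧ E.ncard = n} :=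
    ⟨{d}, by simpa using hd, Set.finite_singleton d, by simp, Set.ncard_singleton d⟩
  refine ⟨fun hw => ?_, fun htop => ?_⟩
  · have hcom : ∀ a ∈ D, ∀ b ∈ D, Commute a b → a = b := by
      intro a ha b hb hab
      by_contra hne'
      have : 2 ≤ Cfsg.commutingWidth D := by
        refine le_csSup hBdd ⟨{a, b}, ?_, Set.toFinite _, ?_, Set.ncard_pair hne'⟩
        · rintro x (rfl | rfl) <;> assumption
        · rintro x (rfl | rfl) y (rfl | rfl)
          exacts [Commute.refl _, hab, hab.symm, Commute.refl _]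
      omega
    have hall : ∀ a ∈ D, ∀ b ∈ D, (a * b) ^ 3 = 1 := by
      intro a ha b hb
      by_cases h : Commute a b
      · rw [hcom a ha b hb h, mul_self_eq_one (hset.1 b hb), one_pow]
      · exact pow_three_eq_one hset ha hb h
    rw [eq_top_iff, ← hgen, Subgroup.closure_le]
    intro e he
    have h := mul_mem_pCore_three hset.1 hconj hall hd he
    have he' : e = d * (d * e) := by rw [← mul_assoc, mul_self_eq_one (hset.1 d hd), one_mul]
    rw [he']
    exact Subgroup.mul_mem_sup (Subgroup.mem_zpowers d) h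
  · refine le_antisymm (csSup_le ⟨1, hne⟩ ?_) (le_csSup hBdd hne)
    rintro n ⟨E, hED, hEfin, hEcom, rfl⟩
    rw [Set.ncard_le_one hEfin]
    intro a ha b hb
    by_contra hab
    have h2 : (a * b) ^ 2 = 1 := sq_eq_one_of_commute (hset.1 a (hED ha)) (hset.1 b (hED hb)) (hEcom a ha b hb)
    have hO : IsPGroup 3 (Cfsg.pCore 3 G) := CfsgLib.LargeXS.pCore_isPGroup 3 G
    have hsq : ∀ x ∈ Cfsg.pCore 3 G, x ^ 2 = 1 → x = 1 := by
      intro x hx hx2
      obtain ⟨k, hk⟩ := hO ⟨x, hx⟩
      have hk' : x ^ 3 ^ k = 1 := congrArg Subtype.val hk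
      have hdvd : orderOf x ∣ Nat.gcd 2 (3 ^ k) :=
        Nat.dvd_gcd (orderOf_dvd_of_pow_eq_one hx2) (orderOf_dvd_of_pow_eq_one hk')
      rw [Nat.Coprime.gcd_eq_one (Nat.Coprime.pow_right k (by norm_num))] at hdvd
      exact orderOf_eq_one_iff.1 (Nat.dvd_one.1 hdvd)
    set π := QuotientGroup.mk' (Cfsg.pCore 3 G) with hπ
    have hker : ∀ x, π x = 1 ↔ x ∈ Cfsg.pCore 3 G := fun x => by rw [hπ]; exact QuotientGroup.eq_one_iff x
    have hd2 : π d * π d = 1 := by rw [← map_mul, mul_self_eq_one (hset.1 d hd), map_one]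
    have hcyc : ∀ x : G, π x = 1 ∨ π x = π d := by
      intro x
      have hx : x ∈ Subgroup.zpowers d ⊔ Cfsg.pCore 3 G := by rw [htop]; exact Subgroup.mem_top x
      obtain ⟨y, hy, w, hw, rfl⟩ := Subgroup.mem_sup_of_normal_right.1 hx
      obtain ⟨i, rfl⟩ := hy
      rw [map_mul, (hker w).2 hw, mul_one, map_zpow]
      rcases Int.even_or_odd' i with ⟨j, rfl | rfl⟩
      · left; rw [zpow_mul, zpow_two, hd2, one_zpow]
      · right; rw [zpow_add, zpow_mul, zpow_two, hd2, one_zpow, one_mul, zpow_one]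
    have hD' : ∀ x ∈ D, π x = π d := by
      intro x hx
      refine (hcyc x).resolve_left fun h => ?_
      have := hsq x ((hker x).1 h) (by rw [pow_two, mul_self_eq_one (hset.1 x hx)])
      simpa [this] using hset.1 x hx
    have hab1 : a * b = 1 :=
      hsq _ ((hker _).1 (by rw [map_mul, hD' a (hED ha), hD' b (hED hb), hd2])) h2
    exact hab (calc a = a * b * b⁻¹ := by group
      _ = b := by rw [hab1, one_mul, inv_eq_self (hset.1 b (hED hb))])

end Cfsg.Agent.S5346
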