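import Cfsg.Statements.S5350
import Cfsg.Agent.Lib.ThreeTransp.Classes

set_option autoImplicit false
open Cfsg

namespace Cfsg.Agent.S5350

open CfsgLib.ThreeTransp

/-- Let D be a conjugacy class of 3-transpositions generating the finite group G, with at least two members, and d a member of D. Then the set of members w of D whose commuting partners in D (other than w) are exactly those of d (other than d) coincides with the set of members of D lying in the coset of d modulo the largest normal 3-subgroup of G, and also with the orbit of d under conjugation by that normal 3-subgroup. -/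
theorem result {G : Type*} [Group G] [Finite G] {D : Set G} (hD : Cfsg.IsThreeTranspositionClass D) (hD2 : ∃ a ∈ D, ∃ b ∈ D, a ≠ b) {d : G} (hd : d ∈ D) : {w : G | w ∈ D ∧ {y : G | y ∈ D ∧ y ≠ d ∧ Commute d y} = {y : G | y ∈ D ∧ y ≠ w ∧ Commute w y}} = {w : G | w ∈ D ∧ d⁻¹ * w ∈ Cfsg.pCore 3 G} ∧ {w : G | w ∈ D ∧ {y : G | y ∈ D ∧ y ≠ d ∧ Commute d y} = {y : G | y ∈ D ∧ y ≠ w ∧ Commute w y}} = {w : G | ∃ g ∈ Cfsg.pCore 3 G, w = g * d * g⁻¹} := by
  obtain ⟨hset, hconj, hgen⟩ := class_to_group hD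
  have hiff : ∀ w, {y : G | y ∈ D ∧ y ≠ d ∧ Commute d y} = {y : G | y ∈ D ∧ y ≠ w ∧ Commute w y} ↔
      SameLink D d w := by
    intro w
    refine ⟨fun h y hy => ?_, fun h => ?_⟩
    · have := Set.ext_iff.1 h y
      simpa [hy] using this
    · ext y
      exact and_congr_right (fun hy => h y hy)
  have horb : {w : G | ∃ g ∈ Cfsg.pCore 3 G, w = g * d * g⁻¹} ⊆
      {w : G | w ∈ D ∧ d⁻¹ * w ∈ Cfsg.pCore 3 G} := by
    rintro v ⟨g, hg, rfl⟩
    refine ⟨hconj g d hd, ?_⟩
    have h1 := (inferInstance : (Cfsg.pCore 3 G).Normal).conj_mem g hg d⁻¹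
    rw [inv_inv] at h1
    have h2 : d⁻¹ * (g * d * g⁻¹) = d⁻¹ * g * d * g⁻¹ := by group
    rw [h2]
    exact mul_mem h1 (inv_mem hg)
  have hA : {w : G | w ∈ D ∧ d⁻¹ * w ∈ Cfsg.pCore 3 G} ⊆
      {w : G | w ∈ D ∧ {y : G | y ∈ D ∧ y ≠ d ∧ Commute d y} = {y : G | y ∈ D ∧ y ≠ w ∧ Commute w y}} := by
    rintro v ⟨hv, hm⟩
    rw [inv_eq_self (hset.1 d hd)] at hm
    exact ⟨hv, (hiff v).2 (sameLink_of_mul_mem hset hd hv hm)⟩
  have hB : {w : G | w ∈ D ∧ {y : G | y ∈ D ∧ y ≠ d ∧ Commute d y} = {y : G | y ∈ D ∧ y ≠ w ∧ Commute w y}} ⊆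
      {w : G | ∃ g ∈ Cfsg.pCore 3 G, w = g * d * g⁻¹} := by
    rintro w ⟨hw, hs⟩
    have hl := (hiff w).1 hs
    by_cases hwd : w = d
    · exact ⟨1, one_mem _, by simp [hwd]⟩
    refine ⟨d * w, mul_mem_of_sameLink hset hconj hd hw hl, ?_⟩
    have hb := braid hset hd hw (hl.not_commute hw hwd)
    have hd2 := mul_self_eq_one (hset.1 d hd)
    have hw2 := mul_self_eq_one (hset.1 w hw)
    rw [mul_inv_rev, inv_eq_self (hset.1 d hd), inv_eq_self (hset.1 w hw)]
    symm
    calc d * w * d * (w * d) = (w * d * w) * (w * d) := by rw [hb]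
      _ = w * d * (w * w) * d := by group
      _ = w * (d * d) := by rw [hw2]; group
      _ = w := by rw [hd2, mul_one]
  exact ⟨Set.Subset.antisymm (fun v hv => horb (hB hv)) hA,
    Set.Subset.antisymm hB (fun v hv => hA (horb hv))⟩

end Cfsg.Agent.S5350
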