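import Cfsg.Statements.S5351
import Cfsg.Agent.Lib.ThreeTransp.Cores
import Cfsg.Agent.Lib.ThreeTransp.Primitive
import Cfsg.Agent.S5348
import Cfsg.Agent.S5349
import Cfsg.Agent.S5350

set_option autoImplicit false
open Cfsg

namespace Cfsg.Agent.S5351

open CfsgLib.ThreeTransp

/-- Let D be a conjugacy class of 3-transpositions generating the finite group G, with at least two members. Then for every prime p > 3 the largest normal p-subgroup of G is central, and exactly one of the following holds: the largest normal 2-subgroup of G is not central; the largest normal 3-subgroup of G is not central; the layer of G (the product of its components) is non-trivial. -/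
theorem result {G : Type*} [Group G] [Finite G] {D : Set G} (hD : Cfsg.IsThreeTranspositionClass D) (hD2 : ∃ a ∈ D, ∃ b ∈ D, a ≠ b) : (∀ p : ℕ, p.Prime → 3 < p → Cfsg.pCore p G ≤ Subgroup.center G) ∧ ((¬ Cfsg.pCore 2 G ≤ Subgroup.center G ∧ Cfsg.pCore 3 G ≤ Subgroup.center G ∧ Cfsg.layer G = ⊥) ∨ (Cfsg.pCore 2 G ≤ Subgroup.center G ∧ ¬ Cfsg.pCore 3 G ≤ Subgroup.center G ∧ Cfsg.layer G = ⊥) ∨ (Cfsg.pCore 2 G ≤ Subgroup.center G ∧ Cfsg.pCore 3 G ≤ Subgroup.center G ∧ Cfsg.layer G ≠ ⊥)) := by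
  refine ⟨fun p hp hp3 => pCore_le_center_of_three_lt hD hp hp3, ?_⟩
  by_cases h2 : Cfsg.pCore 2 G ≤ Subgroup.center G
  · by_cases h3 : Cfsg.pCore 3 G ≤ Subgroup.center G
    · exact Or.inr (Or.inr ⟨h2, h3, layer_ne_bot hD hD2 h2 h3⟩)
    · exact Or.inr (Or.inl ⟨h2, h3, layer_eq_bot_of_three hD h3⟩)
  · refine Or.inl ⟨h2, ?_, layer_eq_bot_of_two hD h2⟩
    by_contra h3
    obtain ⟨hset, hconj, hgen⟩ := class_to_group hD
    obtain ⟨d, hd, -⟩ := hD2
    obtain ⟨v, hv, hvd, hz⟩ := exists_ne_conj_pCore hD h2 hd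
    obtain ⟨w, hw, hwd, hz'⟩ := exists_ne_conj_pCore hD h3 hd
    rcases Cfsg.Agent.S5348.result (class_to_group hD) hd with h | h
    · exact hvd ((Set.ext_iff.1 h v).1 ⟨hv, sameComm_of_mul_mem hset hd hv hz⟩)
    · refine hwd ((Set.ext_iff.1 h w).1 ⟨hw, ?_⟩)
      ext y
      exact and_congr_right fun hy => sameLink_of_mul_mem hset hd hw hz' y hy

end Cfsg.Agent.S5351
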