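import Cfsg.Statements.S5354
import Cfsg.Agent.Lib.ThreeTransp.PrimitiveStructure
import Cfsg.Agent.Lib.Components.Quasisimple

set_option autoImplicit false
open Cfsg

namespace Cfsg.Agent.S5354

open CfsgLib.ThreeTransp

/-- Let D be a conjugation-invariant generating set of 3-transpositions of the finite group G on which G acts primitively by conjugation, and suppose two different members of D commute (width at least 2). Then G has a quasisimple normal subgroup L of index at most 2 with the generalized Fitting subgroup of G equal to L times the centre, the commuting graph of D is connected, and for d in D the subgroup generated by the members of D commuting with d is a maximal D-subgroup: it is proper, and every subgroup generated by members of D that contains it is either it or G. -/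
theorem result {G : Type*} [Group G] [Finite G] {D : Set G} (hD : Cfsg.IsThreeTranspositionGroup D) (hprim : Cfsg.IsPrimitiveUnderConj D) (hw : ∃ a ∈ D, ∃ b ∈ D, a ≠ b ∧ Commute a b) : (∃ L : Subgroup G, L.Normal ∧ Cfsg.IsQuasisimple L ∧ L.index ≤ 2 ∧ Cfsg.generalizedFittingSubgroup G = L ⊔ Subgroup.center G) ∧ (Cfsg.commutingGraph D).Connected ∧ ∀ d ∈ D, Subgroup.closure {y : G | y ∈ D ∧ Commute d y} ≠ ⊤ ∧ ∀ H : Subgroup G, Cfsg.IsDSubgroup D H → Subgroup.closure {y : G | y ∈ D ∧ Commute d y} ≤ H → H = Subgroup.closure {y : G | y ∈ D ∧ Commute d y} ∨ H = ⊤ := by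
  have hcl := class_of_primitive hD hprim
  have h2 := pCore_two_le_center hcl hprim
  have h3 := pCore_three_le_center hcl hprim hw
  have hconn := commutingGraph_connected hcl hprim hw
  obtain ⟨hn, hq, hF⟩ := layer_component hcl hprim.2.1 h2 h3
  refine ⟨⟨Cfsg.layer G, hn, hq, index_le_two_of_connected hcl hprim.2.1 h2 h3 hq hF hconn, hF⟩, hconn,
    fun d hd => ⟨fun htop => ?_, fun H hH hle => ?_⟩⟩
  · obtain ⟨e, he, hde⟩ := exists_not_commute hcl hprim.2.1 hd
    have hc : Subgroup.closure {y : G | y ∈ D ∧ Commute d y} ≤ Subgroup.centralizer {d} :=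
      (Subgroup.closure_le _).2 fun y hy => Subgroup.mem_centralizer_singleton_iff.2 hy.2.eq.symm
    rw [htop] at hc
    exact hde (Subgroup.mem_centralizer_singleton_iff.1 (hc (Subgroup.mem_top e))).symm
  · by_cases h : ∀ e ∈ D, e ∈ H → Commute d e
    · refine Or.inl (le_antisymm ?_ hle)
      conv_lhs => rw [← (hH : Subgroup.closure {x : G | x ∈ D ∧ x ∈ H} = H)]
      exact Subgroup.closure_mono fun x hx => ⟨hx.1, h x hx.1 hx.2⟩
    · push_neg at h
      obtain ⟨e, he, heH, hde⟩ := h
      exact Or.inr (eq_top_of_centralizer_lt hcl hprim hconn hH hd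
        (fun y hy hc => hle (Subgroup.subset_closure ⟨hy, hc⟩)) he heH hde)

end Cfsg.Agent.S5354
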