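import Cfsg.Statements.S5355
import Cfsg.Agent.Lib.ThreeTransp.PerpFour

set_option autoImplicit false
open Cfsg

namespace Cfsg.Agent.S5355

open CfsgLib.ThreeTransp

/-- Let D be a conjugacy class of 3-transpositions generating the finite group G, with at least two members, and d a member of D. Suppose that every member of D commuting with d commutes with exactly the same members of D as d does, and that exactly one member of D other than d commutes with d. Then G is isomorphic to the symmetric group of degree 4. -/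
theorem result {G : Type*} [Group G] [Finite G] {D : Set G} (hD : Cfsg.IsThreeTranspositionClass D) (hD2 : ∃ a ∈ D, ∃ b ∈ D, a ≠ b) {d : G} (hd : d ∈ D) (hV : {y : G | y ∈ D ∧ Commute d y} = {v : G | v ∈ D ∧ ∀ e ∈ D, Commute v e ↔ Commute d e}) (hm : {y : G | y ∈ D ∧ Commute d y}.ncard = 2) : Nonempty (G ≃* Equiv.Perm (Fin 4)) := by
  obtain ⟨hset, hconj, hgen⟩ := class_to_group hD
  have hex : ∀ a ∈ D, ∃ v, v ∈ D ∧ v ≠ a ∧ Commute a v ∧ ∀ b ∈ D, Commute a b → b = a ∨ b = v := by
    intro a ha
    obtain ⟨g, rfl⟩ := class_conj hD hd ha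
    obtain ⟨x, y, hxy, hset'⟩ := Set.ncard_eq_two.1 hm
    have hd' : d ∈ ({x, y} : Set G) := by rw [← hset']; exact ⟨hd, Commute.refl d⟩
    obtain ⟨v, hvd, hpair⟩ : ∃ v, v ≠ d ∧ ({x, y} : Set G) = {d, v} := by
      rcases hd' with rfl | rfl
      · exact ⟨y, hxy.symm, rfl⟩
      · exact ⟨x, hxy, Set.pair_comm _ _⟩
    rw [hpair] at hset'
    have hv : v ∈ D ∧ Commute d v := (Set.ext_iff.1 hset' v).2 (Or.inr rfl)
    refine ⟨g * v * g⁻¹, hconj g v hv.1, fun h => hvd (mul_left_cancel (mul_right_cancel h)),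
      (commute_conj_iff g d v).2 hv.2, fun b hb hc => ?_⟩
    have hb' : g⁻¹ * b * g⁻¹⁻¹ ∈ D := hconj _ b hb
    have hgb : g * (g⁻¹ * b * g⁻¹⁻¹) * g⁻¹ = b := by group
    rcases (Set.ext_iff.1 hset' _).1 ⟨hb', by rwa [← commute_conj_iff g, hgb]⟩ with h | h
    · left; rw [← hgb, h]
    · right; rw [← hgb, Set.mem_singleton_iff.1 h]
  choose p hpD hpne hpc hpu using hex
  classical
  let z : G → G := fun a => if ha : a ∈ D then a⁻¹ * p a ha else 1
  have hz : ∀ a (ha : a ∈ D), a * z a = p a ha := fun a ha => by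
    simp only [z, dif_pos ha, mul_inv_cancel_left]
  have h : IsPairing D z :=
    { set := hset
      conj := hconj
      mem := fun a ha => (hz a ha).symm ▸ hpD a ha
      ne := fun a ha h1 => hpne a ha (by rw [← hz a ha, h1, mul_one])
      comm := fun a ha => (hz a ha).symm ▸ hpc a ha
      uniq := fun a ha b hb hc => (hz a ha).symm ▸ hpu a ha b hb hc
      same := fun a ha => (hz a ha).symm ▸ sameComm_of_commute hD hd hV ha (hpD a ha) (hpc a ha) }
  obtain ⟨e, he, hde⟩ := exists_not_commute' hD hD2 hd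
  exact h.iso_sym_four hgen hd he hde

end Cfsg.Agent.S5355
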