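import Cfsg.Statements.S5358

set_option autoImplicit false
open scoped MatrixGroups
open Cfsg

namespace Cfsg.Agent.S5358

/-- Let Q be a non-degenerate quadratic form on the n-dimensional coordinate space over the field with three elements and u, v vectors of the same non-zero norm Q(u) = Q(v) spanning different lines (v ≠ u and v ≠ −u). Then the reflection matrices of u and v commute if and only if u and v are orthogonal for the polar form of Q. -/
theorem result (n : ℕ) (Q : QuadraticForm (ZMod 3) (Fin n → ZMod 3)) (hQ : (QuadraticMap.polarBilin Q).Nondegenerate) (u v : Fin n → ZMod 3) (hu : Q u ≠ 0) (huv : Q u = Q v) (h1 : v ≠ u) (h2 : v ≠ -u) : Commute (Cfsg.reflectionMatrix (⇑Q) u) (Cfsg.reflectionMatrix (⇑Q) v) ↔ QuadraticMap.polar (⇑Q) u v = 0 := by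
  have hvu := h2
  have hdot : ∀ w x : Fin n → ZMod 3, polarVec (⇑Q) w ⬝ᵥ x = QuadraticMap.polar (⇑Q) w x := by
    intro w x
    conv_rhs => rw [← QuadraticMap.polarBilin_apply_apply, pi_eq_sum_univ' x, map_sum]
    refine Finset.sum_congr rfl fun j _ => ?_
    simp only [map_smul, smul_eq_mul, QuadraticMap.polarBilin_apply_apply, polarVec]
    ring_nf
  have hav : (Q v)⁻¹ = (Q u)⁻¹ := by rw [huv]
  set a := (Q u)⁻¹ with ha
  set s := QuadraticMap.polar (⇑Q) u v with hs
  have ha0 : a ≠ 0 := inv_ne_zero hu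
  set M := Matrix.vecMulVec u (polarVec (⇑Q) u) with hM
  set N := Matrix.vecMulVec v (polarVec (⇑Q) v) with hN
  have hMN : M * N = s • Matrix.vecMulVec u (polarVec (⇑Q) v) := by
    rw [hM, hN, Matrix.vecMulVec_mul_vecMulVec, hdot, Matrix.vecMulVec_smul]
  have hNM : N * M = s • Matrix.vecMulVec v (polarVec (⇑Q) u) := by
    rw [hM, hN, Matrix.vecMulVec_mul_vecMulVec, hdot, Matrix.vecMulVec_smul,
      QuadraticMap.polar_comm]
  have key : Commute (reflectionMatrix (⇑Q) u) (reflectionMatrix (⇑Q) v) ↔ M * N = N * M := by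
    simp only [reflectionMatrix, hav, commute_iff_eq, ← ha, ← hM, ← hN]
    have expand : ∀ X Y : Matrix (Fin n) (Fin n) (ZMod 3),
        (1 - a • X) * (1 - a • Y) = (1 - a • X - a • Y) + (a * a) • (X * Y) := by
      intro X Y
      rw [sub_mul, one_mul, mul_sub, mul_one, smul_mul_assoc, mul_smul_comm, smul_smul]
      abel
    rw [expand, expand, show (1 - a • N - a • M : Matrix (Fin n) (Fin n) (ZMod 3)) = 1 - a • M - a • N by abel,
      add_right_inj]
    exact ⟨fun h => smul_right_injective _ (mul_ne_zero ha0 ha0) h, fun h => by rw [h]⟩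
  rw [key, hMN, hNM]
  constructor
  · intro h
    by_contra hs0
    have h' := smul_right_injective _ hs0 h
    have h'' := congrArg (fun X : Matrix (Fin n) (Fin n) (ZMod 3) => X.mulVec u) h'
    simp only [Matrix.vecMulVec_mulVec, hdot, QuadraticMap.polar_self, MulOpposite.smul_eq_mul_unop,
      op_smul_eq_smul] at h''
    rw [QuadraticMap.polar_comm (⇑Q) v u, ← hs] at h''
    -- `h'' : s • u = (2 • Q u) • v`
    have h2 : ((2 : ℕ) • Q u : ZMod 3) ≠ 0 := by
      revert hu; generalize Q u = t; revert t; decide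
    have hv : v = (((2 : ℕ) • Q u : ZMod 3)⁻¹ * s) • u := by
      rw [mul_smul, h'', inv_smul_smul₀ h2]
    have hl : ∀ l : ZMod 3, l = 0 ∨ l = 1 ∨ l = -1 := by decide
    rcases hl (((2 : ℕ) • Q u : ZMod 3)⁻¹ * s) with h | h | h
    · exact mul_ne_zero (inv_ne_zero h2) hs0 h
    · rw [h, one_smul] at hv; exact h1 hv
    · rw [h, neg_one_smul] at hv; exact hvu hv
  · intro h
    simp [h]

end Cfsg.Agent.S5358
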