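import Cfsg.Statements.S5361
import Cfsg.Agent.Lib.ThreeTransp.SimpleDerived
import Cfsg.Agent.Lib.Components.Quasisimple

set_option autoImplicit false
open Cfsg

namespace Cfsg.Agent.S5361

open CfsgLib.ThreeTransp

/-- Let D be a conjugacy class of 3-transpositions generating the finite group G, and suppose the centre of G is trivial and some two different members of D commute. Then the following are equivalent: (1) the commutator subgroup of G is simple (possibly of prime order); (2) G acts primitively on D by conjugation; (3) the largest normal 2-subgroup and the largest normal 3-subgroup of G are trivial and the commuting graph of D is connected. -/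
theorem result {G : Type*} [Group G] [Finite G] {D : Set G} (hD : Cfsg.IsThreeTranspositionClass D) (hZ : Subgroup.center G = ⊥) (hw : ∃ a ∈ D, ∃ b ∈ D, a ≠ b ∧ Commute a b) : (IsSimpleGroup (commutator G) ↔ Cfsg.IsPrimitiveUnderConj D) ∧ (Cfsg.IsPrimitiveUnderConj D ↔ (Cfsg.pCore 2 G = ⊥ ∧ Cfsg.pCore 3 G = ⊥ ∧ (Cfsg.commutingGraph D).Connected)) := by
  have hD2 : ∃ a ∈ D, ∃ b ∈ D, a ≠ b := by
    obtain ⟨a, ha, b, hb, hab, -⟩ := hw
    exact ⟨a, ha, b, hb, hab⟩
  have hbot : ∀ H : Subgroup G, H ≤ Subgroup.center G → H = ⊥ := fun H h => by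
    rwa [hZ, le_bot_iff] at h
  have hA : Cfsg.IsPrimitiveUnderConj D →
      Cfsg.pCore 2 G = ⊥ ∧ Cfsg.pCore 3 G = ⊥ ∧ (Cfsg.commutingGraph D).Connected := fun h =>
    ⟨hbot _ (pCore_two_le_center hD h), hbot _ (pCore_three_le_center hD h hw),
      commutingGraph_connected hD h hw⟩
  have hB : Cfsg.pCore 2 G = ⊥ ∧ Cfsg.pCore 3 G = ⊥ ∧ (Cfsg.commutingGraph D).Connected →
      Cfsg.IsPrimitiveUnderConj D ∧ IsSimpleGroup (commutator G) := by
    rintro ⟨h2, h3, hconn⟩
    have h2' : Cfsg.pCore 2 G ≤ Subgroup.center G := h2.le.trans bot_le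
    have h3' : Cfsg.pCore 3 G ≤ Subgroup.center G := h3.le.trans bot_le
    obtain ⟨hn, hq, hF⟩ := layer_component hD hD2 h2' h3'
    have hidx := index_le_two_of_connected hD hD2 h2' h3' hq hF hconn
    refine ⟨isPrimitive_of_index_le_two hD hD2 h2' h3' hq hF hidx, ?_⟩
    exact simple_commutator_of hZ hq hidx (fitting_le_center hD h2' h3')
  refine ⟨⟨fun hs => ?_, fun h => (hB (hA h)).2⟩, hA, fun h => (hB h).1⟩
  have : Fact (Nat.Prime 2) := ⟨Nat.prime_two⟩
  have : Fact (Nat.Prime 3) := ⟨Nat.prime_three⟩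
  have h2 := pCore_bot_of_simple (p := 2) hD hw hZ hs
  have h3 := pCore_bot_of_simple (p := 3) hD hw hZ hs
  have h2' : Cfsg.pCore 2 G ≤ Subgroup.center G := h2.le.trans bot_le
  have h3' : Cfsg.pCore 3 G ≤ Subgroup.center G := h3.le.trans bot_le
  obtain ⟨hn, hq, hF⟩ := layer_component hD hD2 h2' h3'
  exact isPrimitive_of_index_le_two hD hD2 h2' h3' hq hF (index_layer_le_two_of_simple hD hs hq)

end Cfsg.Agent.S5361
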