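import Cfsg.Statements.S5363
import Cfsg.Agent.Lib.ThreeTransp.Basic

set_option autoImplicit false
open Cfsg

namespace Cfsg.Agent.S5363

open CfsgLib.ThreeTransp

/-- Let D be a conjugation-invariant set of involutions of a finite group G. Then every product of two members of D has odd order or order 2 if and only if, for every a in D and every b in D different from a and commuting with a, the members of D commuting with a b are exactly those commuting with both a and b. -/
theorem result {G : Type*} [Group G] [Finite G] {D : Set G} (hinv : ∀ d ∈ D, orderOf d = 2) (hconj : ∀ g : G, ∀ d ∈ D, g * d * g⁻¹ ∈ D) : (∀ a ∈ D, ∀ b ∈ D, Odd (orderOf (a * b)) ∨ orderOf (a * b) = 2) ↔ ∀ a ∈ D, ∀ b ∈ D, b ≠ a → Commute a b → {y : G | y ∈ D ∧ Commute (a * b) y} = {y : G | y ∈ D ∧ Commute a y} ∩ {y : G | y ∈ D ∧ Commute b y} := by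
  constructor
  · intro h a ha b hb hba hab
    ext y
    simp only [Set.mem_setOf_eq, Set.mem_inter_iff]
    refine ⟨fun ⟨hy, hc⟩ => ?_, fun ⟨⟨hy, h1⟩, _, h2⟩ => ⟨hy, h1.mul_left h2⟩⟩
    have hay : Commute a y := by
      by_contra hn
      have hz : orderOf (a * b) = 2 :=
        orderOf_eq_prime (sq_eq_one_of_commute (hinv a ha) (hinv b hb) hab) fun h1 => hba (by
          rw [eq_inv_of_mul_eq_one_left h1, inv_eq_self (hinv b hb)])
      have hm : Odd (orderOf (a * y)) := by
        rcases h a ha y hy with h' | h'
        · exact h'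
        · exact absurd (commute_of_sq_eq_one (hinv a ha) (hinv y hy) (h' ▸ pow_orderOf_eq_one _)) hn
      have hc' : Commute (a * b) (a * y) :=
        (((Commute.refl a).mul_left hab.symm)).mul_right hc
      have heq : (a * b) * (a * y) = b * y := by
        calc (a * b) * (a * y) = (b * a) * (a * y) := by rw [hab.eq]
          _ = b * (a * a) * y := by group
          _ = b * y := by rw [mul_self_eq_one (hinv a ha), mul_one]
      have hord : orderOf (b * y) = 2 * orderOf (a * y) := by
        rw [← heq, hc'.orderOf_mul_eq_mul_orderOf_of_coprime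
          (by rw [hz]; exact Nat.coprime_two_left.2 hm), hz]
      rcases h b hb y hy with h' | h'
      · rw [hord] at h'
        exact (Nat.not_odd_iff_even.2 (even_two_mul _)) h'
      · rw [hord] at h'
        have h1 : orderOf (a * y) = 1 := by omega
        have : a = y := by
          rw [eq_inv_of_mul_eq_one_left (orderOf_eq_one_iff.1 h1), inv_eq_self (hinv y hy)]
        exact hn (this ▸ Commute.refl a)
    refine ⟨⟨hy, hay⟩, hy, ?_⟩
    have : b = a * (a * b) := by rw [← mul_assoc, mul_self_eq_one (hinv a ha), one_mul]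
    rw [this]; exact hay.mul_left hc
  · intro h a ha b hb
    by_contra hcon
    push Not at hcon
    obtain ⟨hodd, hne2⟩ := hcon
    obtain ⟨k, hk⟩ := Nat.not_odd_iff_even.1 hodd
    set r := a * b with hr
    have hr0 : 0 < orderOf r := orderOf_pos r
    have hinvr : a * r * a⁻¹ = r⁻¹ := conj_mul_eq_inv (hinv a ha) (hinv b hb)
    set w := r ^ k with hw
    have hw2 : w * w = 1 := by rw [hw, ← pow_add, ← hk, pow_orderOf_eq_one]
    have hw1 : w ≠ 1 := fun h1 => by
      have := Nat.le_of_dvd (by omega) (orderOf_dvd_of_pow_eq_one h1)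
      omega
    have hwa : Commute a w := by
      show a * w = w * a
      have : a * w * a⁻¹ = w := by
        rw [hw, ← conj_pow, hinvr, inv_pow]
        exact inv_eq_of_mul_eq_one_right hw2
      calc a * w = a * w * a⁻¹ * a := by group
        _ = w * a := by rw [this]
    have hbr : b = a * r := by rw [hr, ← mul_assoc, mul_self_eq_one (hinv a ha), one_mul]
    have hwb : Commute b w := hbr ▸ hwa.mul_left ((Commute.refl r).pow_right k)
    have hawD : a * w ∈ D := by
      obtain ⟨j, hj⟩ := Nat.even_or_odd' k
      have key := inv_zpow_mul_mul_zpow hinvr (j : ℤ)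
      have hz : r ^ (2 * (j : ℤ)) = r ^ (2 * j) := by
        rw [← zpow_natCast]; push_cast; rfl
      have hji : r ^ (-(j : ℤ)) = (r ^ j)⁻¹ := by rw [zpow_neg, zpow_natCast]
      rcases hj with hj | hj
      · have := hconj (r ^ (-(j : ℤ))) a ha
        rwa [hji, inv_inv, ← zpow_natCast, ← zpow_neg, key, hz, ← hj] at this
      · have := hconj (r ^ (-(j : ℤ))) b hb
        have e : r ^ (-(j : ℤ)) * b * (r ^ (-(j : ℤ)))⁻¹ = a * w := by
          rw [hw, hj, pow_succ, ← mul_assoc a, ← hz, ← key, hbr]
          group
        rwa [e] at this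
    have hne : a * w ≠ a := fun h1 => hw1 (by simpa using h1)
    have hset := h a ha (a * w) hawD hne ((Commute.refl a).mul_right hwa)
    have hawmul : a * (a * w) = w := by rw [← mul_assoc, mul_self_eq_one (hinv a ha), one_mul]
    have hbmem : b ∈ {y : G | y ∈ D ∧ Commute (a * (a * w)) y} := by
      rw [hawmul]; exact ⟨hb, hwb.symm⟩
    rw [hset] at hbmem
    have h2 := sq_eq_one_of_commute (hinv a ha) (hinv b hb) hbmem.1.2
    have := Nat.le_of_dvd (by norm_num) (orderOf_dvd_of_pow_eq_one h2)
    rw [← hr] at this
    have hk1 : orderOf r = 2 := by omega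
    exact hne2 hk1

end Cfsg.Agent.S5363
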