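import Cfsg.Statements.S5364
import Cfsg.Agent.Lib.ThreeTransp.Basic

set_option autoImplicit false
open Cfsg

namespace Cfsg.Agent.S5364

open CfsgLib.ThreeTransp

/-- Let D be a conjugation-invariant set of involutions of a finite group G and t an involution in the centre of G such that d t does not lie in D for any d in D. If the images of the members of D in G modulo the subgroup generated by t satisfy the 3-transposition order conditions (each has order 2 and any two have product of order at most 3), then so do the members of D. -/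
theorem result {G : Type*} [Group G] [Finite G] {D : Set G} (hinv : ∀ d ∈ D, orderOf d = 2) (hconj : ∀ g : G, ∀ d ∈ D, g * d * g⁻¹ ∈ D) (t : G) (ht : orderOf t = 2) (htZ : t ∈ Subgroup.center G) (hDt : ∀ d ∈ D, d * t ∉ D) [(Subgroup.zpowers t).Normal] (himg : Cfsg.IsThreeTranspositionSet ((QuotientGroup.mk : G → G ⧸ Subgroup.zpowers t) '' D)) : Cfsg.IsThreeTranspositionSet D := by
  refine ⟨hinv, fun d hd e he => ?_⟩
  have ht2 : t * t = 1 := mul_self_eq_one ht
  have hz : ∀ x ∈ Subgroup.zpowers t, x = 1 ∨ x = t := by
    intro x hx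
    obtain ⟨k, rfl⟩ := Subgroup.mem_zpowers_iff.1 hx
    rcases Int.even_or_odd' k with ⟨m, rfl | rfl⟩
    · left; rw [zpow_mul, zpow_two, ht2, one_zpow]
    · right; rw [zpow_add_one, zpow_mul, zpow_two, ht2, one_zpow, one_mul]
  have hdt : Commute d t := (Subgroup.mem_center_iff.1 htZ d)
  have hde := himg.2 _ (Set.mem_image_of_mem _ hd) _ (Set.mem_image_of_mem _ he)
  simp only [← QuotientGroup.mk_mul, ← QuotientGroup.mk_pow, QuotientGroup.eq_one_iff] at hde
  rcases hde with h | h <;> rcases hz _ h with h' | h'
  · exact Or.inl h'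
  · exfalso
    refine hDt d hd ?_
    have e1 : e * d * e⁻¹ = d * t := by
      rw [← h', inv_eq_self (hinv e he)]
      calc e * d * e = d * d * (e * d * e) := by rw [mul_self_eq_one (hinv d hd), one_mul]
        _ = d * (d * e) ^ 2 := by simp only [pow_two, mul_assoc]
    exact e1 ▸ hconj e d hd
  · exact Or.inr h'
  · exfalso
    refine hDt d hd ?_
    have e1 : (e * d) * e * (e * d)⁻¹ = d * t := by
      rw [← h', mul_inv_rev, inv_eq_self (hinv e he), inv_eq_self (hinv d hd)]
      calc e * d * e * (d * e) = d * d * (e * d * e * (d * e)) := by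
            rw [mul_self_eq_one (hinv d hd), one_mul]
        _ = d * (d * e) ^ 3 := by simp only [pow_succ, pow_zero, one_mul, mul_assoc]
    exact e1 ▸ hconj (e * d) e he

end Cfsg.Agent.S5364
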