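import Cfsg.Statements.S5383
import Cfsg.Agent.Lib.SuzTwoB.Seven
import Cfsg.Agent.Lib.SuzTwoB.IsoA4
import Cfsg.Agent.Lib.SuzType.Hyp

set_option autoImplicit false
open Cfsg

namespace Cfsg.Agent.S5383

open Subgroup CfsgLib.SuzTwoB

theorem at_seven {G : Type*} [Group G] [Finite G] {S : CfsgLib.SuzType.Sys G} {s u y : G}
    {π π' : G → CfsgLib.SuzType.V6} (K : Conf S s u y π π') (B : Sylow 7 G) :
    Nonempty (↥(centralizer ((B : Subgroup G) : Set G)) ≃* Multiplicative (ZMod 7) × alternatingGroup (Fin 4)) ∧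
      Nat.card ↥(normalizer ((B : Subgroup G) : Set G)) = 504 := by
  haveI : Fact (Nat.Prime 7) := ⟨by norm_num⟩
  obtain ⟨L, hcy⟩ := K.loc
  obtain ⟨⟨b, hbH⟩, hb'⟩ := exists_prime_orderOf_dvd_card' (G := K.H) 7 (by rw [K.card_H L]; norm_num)
  have hb : orderOf b = 7 := by rw [← hb']; exact Subgroup.orderOf_coe (⟨b, hbH⟩ : K.H)
  have hC := K.card_cent_seven L hcy hbH hb
  have hN := K.card_norm_seven L hcy hbH hb
  have hzc : Nat.card (zpowers b) = 7 := by rw [Nat.card_zpowers, hb]
  -- the Sylow subgroup is of order seven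
  obtain ⟨P, hP⟩ := (IsPGroup.of_card (p := 7) (n := 1) (show Nat.card (zpowers b) = 7 ^ 1 by
    rw [hzc, pow_one])).exists_le_sylow
  have hPz : (P : Subgroup G) = zpowers b := by
    obtain ⟨k, hk⟩ := P.isPGroup'.exists_card_eq
    refine (eq_of_le_of_card_ge hP ?_).symm
    rw [hzc, hk]
    by_contra hlt
    have hk2 : 2 ≤ k := by
      by_contra h
      interval_cases k <;> norm_num at hlt
    have h := Sylow.prime_pow_dvd_card_normalizer (p := 7) (n := 1)
      (((pow_dvd_pow 7 hk2).trans (hk ▸ card_subgroup_dvd_card (P : Subgroup G)))) (H := zpowers b)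
      (by rw [hzc, pow_one])
    rw [hN] at h
    norm_num at h
  obtain ⟨g, hg⟩ := MulAction.exists_smul_eq G P B
  obtain ⟨φ, hφ⟩ : ∃ φ : G ≃* G, φ = MulAut.conj g := ⟨_, rfl⟩
  have hB : (B : Subgroup G) = (zpowers b).map φ.toMonoidHom := by
    rw [← hg, Sylow.coe_subgroup_smul, hPz, hφ]; rfl
  have hcB : centralizer ((B : Subgroup G) : Set G) = (centralizer ({b} : Set G)).map φ.toMonoidHom := by
    ext x
    rw [hB, mem_map_equiv, mem_centralizer_iff, mem_centralizer_singleton_iff]
    constructor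
    · intro h
      have := (show Commute (φ b) x from h (φ b) ⟨b, mem_zpowers b, rfl⟩).map φ.symm.toMonoidHom
      simpa using this.symm.eq
    · rintro h _ ⟨a, ha, rfl⟩
      obtain ⟨j, rfl⟩ := mem_zpowers_iff.1 ha
      have := ((show Commute b (φ.symm x) from h.symm).zpow_left j).map φ.toMonoidHom
      simpa using this.eq
  refine ⟨?_, ?_⟩
  · obtain ⟨i⟩ : Nonempty (↥(centralizer ({b} : Set G)) ≃* Multiplicative (ZMod 7) × alternatingGroup (Fin 4)) := by
      have hWM : K.W ≤ centralizer ({b} : Set G) := fun t ht =>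
        mem_centralizer_singleton_iff.2 (K.H_comm_W hbH ht).eq
      refine iso_seven_a4 ⟨b, mem_centralizer_singleton_iff.2 rfl⟩ (by rw [← Subgroup.orderOf_coe]; exact hb)
        (fun x => Subtype.ext (mem_centralizer_singleton_iff.1 x.2)) (K.W.subgroupOf _)
        (by rw [Nat.card_congr (subgroupOfEquivOfLe hWM).toEquiv, K.card_W])
        (fun t ht => Subtype.ext (K.W_sq (mem_subgroupOf.1 ht)))
        ⟨y, mem_centralizer_singleton_iff.2 (K.H_comm_y hbH).symm.eq⟩ (Subtype.ext K.cube)
        (fun t ht => mem_subgroupOf.2 (K.W_y (mem_subgroupOf.1 ht)))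
        (fun t ht hc => Subtype.ext (K.W_fpf (mem_subgroupOf.1 ht) (congrArg Subtype.val hc.eq))) hC
    exact ⟨(MulEquiv.subgroupCongr hcB).trans (((centralizer ({b} : Set G)).equivMapOfInjective _
      φ.injective).symm.trans i)⟩
  · rw [hB, ← map_equiv_normalizer_eq, card_map_of_injective (f := φ.toMonoidHom) φ.injective, hN]


/-- Let G be a finite group of Suzuki sporadic type (involution z with generalized Fitting subgroup Q of its centralizer C extraspecial of order 2^7, C/Q the commutator subgroup of the isometry group of the elliptic quadratic form in dimension 6 over the field with two elements, z not weakly closed in Q). Then for every Sylow 7-subgroup B of G, the centralizer of B is isomorphic to the direct product of a cyclic group of order 7 and the alternating group of degree 4, and the normalizer of B has order 504. -/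
theorem result {G : Type*} [Group G] [Finite G] (z : G) (hz : orderOf z = 2) (Q : Subgroup (Subgroup.centralizer ({z} : Set G))) [Q.Normal] (hF : Cfsg.generalizedFittingSubgroup (Subgroup.centralizer ({z} : Set G)) = Q) (hQ : Cfsg.IsExtraspecial 2 Q) (hcard : Nat.card Q = 2 ^ 7) (e : (Subgroup.centralizer ({z} : Set G)) ⧸ Q ≃* Cfsg.Omega (ZMod 2) (Cfsg.quadFormMinus 2 (ZMod 2) 1 1)) (hnwc : ∃ g : G, (∃ hq : g * z * g⁻¹ ∈ Subgroup.centralizer ({z} : Set G), (⟨g * z * g⁻¹, hq⟩ : Subgroup.centralizer ({z} : Set G)) ∈ Q) ∧ g * z * g⁻¹ ≠ z) (B : Sylow 7 G) : Nonempty (↥(Subgroup.centralizer ((B : Subgroup G) : Set G)) ≃* Multiplicative (ZMod 7) × alternatingGroup (Fin 4)) ∧ Nat.card ↥(Subgroup.normalizer ((B : Subgroup G) : Set G)) = 504 := by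
  obtain ⟨π, M⟩ := CfsgLib.SuzType.exists_model z hz Q hF hQ hcard e
  obtain ⟨g, ⟨hq, hgQ⟩, hgne⟩ := hnwc
  obtain ⟨S, hS, -⟩ := CfsgLib.SuzType.exists_sys M
    ⟨g * z * g⁻¹, ⟨⟨_, hq⟩, hgQ, rfl⟩, hgne, isConj_iff.2 ⟨g, rfl⟩⟩
  obtain ⟨u, π₀, π', p⟩ := S.exists_pair_at hS
  obtain ⟨y, K⟩ := exists_conf p
  exact at_seven K B

end Cfsg.Agent.S5383
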