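import Cfsg.Statements.S5385
import Cfsg.Agent.Lib.CoOneJTwo.Main

set_option autoImplicit false
open Cfsg

namespace Cfsg.Agent.S5385

/-- Let G be a finite group of Conway type (involution z with generalized Fitting subgroup Q of its centralizer C extraspecial of order 2^9, C/Q the commutator subgroup of the isometry group of the hyperbolic quadratic form in dimension 8 over the field with two elements, z not weakly closed in Q), and let B be a subgroup of C of order 5 such that the centralizer of B in Q is extraspecial of order 32 containing no elementary abelian subgroup of order 8 (the quaternion-times-dihedral type). Then the layer L of the centralizer of B in G is isomorphic to the Hall–Janko group and the centralizer of L is isomorphic to the alternating group of degree 5. -/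
theorem result {G : Type*} [Group G] [Finite G] (z : G) (hz : orderOf z = 2) (Q : Subgroup (Subgroup.centralizer ({z} : Set G))) [Q.Normal] (hF : Cfsg.generalizedFittingSubgroup (Subgroup.centralizer ({z} : Set G)) = Q) (hQ : Cfsg.IsExtraspecial 2 Q) (hcard : Nat.card Q = 2 ^ 9) (e : (Subgroup.centralizer ({z} : Set G)) ⧸ Q ≃* Cfsg.Omega (ZMod 2) (Cfsg.quadFormPlus 4 (ZMod 2))) (hnwc : ∃ g : G, (∃ hq : g * z * g⁻¹ ∈ Subgroup.centralizer ({z} : Set G), (⟨g * z * g⁻¹, hq⟩ : Subgroup.centralizer ({z} : Set G)) ∈ Q) ∧ g * z * g⁻¹ ≠ z) (B : Subgroup (Subgroup.centralizer ({z} : Set G))) (hB : Nat.card B = 5) (hCQ : Cfsg.IsExtraspecial 2 ↥(Q ⊓ Subgroup.centralizer (B : Set (Subgroup.centralizer ({z} : Set G))))) (hCQcard : Nat.card ↥(Q ⊓ Subgroup.centralizer (B : Set (Subgroup.centralizer ({z} : Set G)))) = 32) (hminus : ∀ A : Subgroup (Subgroup.centralizer ({z} : Set G)), A ≤ Q ⊓ Subgroup.centralizer (B : Set (Subgroup.centralizer ({z} : Set G))) → Cfsg.IsElementaryAbelian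 2 A → Nat.card A ≤ 4) : Cfsg.Spor.IsoJ2 ↥(Cfsg.layer ↥(Subgroup.centralizer ((B.map (Subgroup.subtype (Subgroup.centralizer ({z} : Set G)))) : Set G))) ∧ Nonempty (↥(Subgroup.centralizer (((Cfsg.layer ↥(Subgroup.centralizer ((B.map (Subgroup.subtype (Subgroup.centralizer ({z} : Set G)))) : Set G))).map (Subgroup.subtype _)) : Set G)) ≃* alternatingGroup (Fin 5)) := by
  classical
  obtain ⟨π₀, M⟩ := CfsgLib.CoOneJTwo.exists_model z hz Q hF hQ hcard e
  have hQG : ∀ q, q ∈ Q.map (Subgroup.centralizer ({z} : Set G)).subtype ↔ ∃ hq : q ∈ Subgroup.centralizer ({z} : Set G), (⟨q, hq⟩ : Subgroup.centralizer ({z} : Set G)) ∈ Q := fun q => by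
    constructor
    · rintro ⟨p, hp, rfl⟩; exact ⟨p.2, hp⟩
    · rintro ⟨hq, h⟩; exact ⟨_, h, rfl⟩
  obtain ⟨S, hS, hSE⟩ := CfsgLib.CoOneJTwo.exists_sys M (by
    obtain ⟨g, ⟨hq, hgQ⟩, hgne⟩ := hnwc
    exact ⟨g * z * g⁻¹, (hQG _).2 ⟨hq, hgQ⟩, hgne, isConj_iff.2 ⟨g, rfl⟩⟩)
  haveI : Fact (Nat.Prime 5) := ⟨by norm_num⟩
  obtain ⟨⟨bc, hbc⟩, hbne⟩ : ∃ x : B, x ≠ 1 := by
    haveI : Nontrivial B := Finite.one_lt_card_iff_nontrivial.1 (by rw [hB]; norm_num)
    exact exists_ne 1
  have hbo : orderOf bc = 5 := by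
    rw [← Subgroup.orderOf_mk bc hbc]
    refine orderOf_eq_prime ?_ hbne
    rw [← hB]; exact pow_card_eq_one'
  have hBeq : B = Subgroup.zpowers bc := (Subgroup.eq_of_le_of_card_ge (Subgroup.zpowers_le.2 hbc)
    (by rw [hB, Nat.card_zpowers, hbo])).symm
  have h5 : (bc : G) ^ 5 = 1 := by
    rw [← SubmonoidClass.coe_pow, ← hbo, pow_orderOf_eq_one]; rfl
  have h1 : (bc : G) ≠ 1 := fun h => hbne (Subtype.ext (Subtype.ext h))
  have hbz : Commute (bc : G) z := Subgroup.mem_centralizer_singleton_iff.1 bc.2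
  have hzC : z ∈ Subgroup.centralizer ({z} : Set G) := Subgroup.mem_centralizer_singleton_iff.2 rfl
  obtain ⟨q, hq, hqb, hq1, hqz⟩ : ∃ q : G, q ∈ S.E z ∧ Commute (bc : G) q ∧ q ≠ 1 ∧ q ≠ z := by
    by_contra! hall
    have hsub : ∀ p : ↥(Q ⊓ Subgroup.centralizer (B : Set (Subgroup.centralizer ({z} : Set G)))),
        ((p.1 : Subgroup.centralizer ({z} : Set G)) : G) ∈ ({1, z} : Finset G) := by
      rintro ⟨p, hpQ, hpB⟩
      have hmem : (p : G) ∈ S.E z := (hSE _).2 ((hQG _).2 ⟨p.2, hpQ⟩)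
      by_cases h : (p : G) = 1
      · simp [h]
      · simp [hall _ hmem (congrArg Subtype.val (Subgroup.mem_centralizer_iff.1 hpB bc hbc) :) h]
    have hle := Nat.card_le_card_of_injective (fun p => (⟨_, hsub p⟩ : ({1, z} : Finset G)))
      fun a c h => Subtype.ext (Subtype.ext (congrArg Subtype.val h :))
    rw [hCQcard, Nat.card_eq_finsetCard] at hle
    exact absurd (hle.trans Finset.card_le_two) (by norm_num)
  obtain ⟨π, A⟩ := S.exists_adapted_of_mem hS h5 h1 hbz hq hq1 hqz hqb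
  have hmap : B.map (Subgroup.subtype (Subgroup.centralizer ({z} : Set G))) = Subgroup.zpowers (bc : G) := by
    rw [hBeq, MonoidHom.map_zpowers]; rfl
  rw [hmap]
  exact CfsgLib.CoOneJTwo.main A

end Cfsg.Agent.S5385
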