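import Cfsg.Statements.S5394
import Cfsg.Agent.Lib.M24Elt.InvolutionFix

set_option autoImplicit false
open Cfsg

namespace Cfsg.Agent.S5394

open CfsgLib.M24Elt CfsgLib.M24InvolutionFix CfsgLib.Golay

/-- The automorphism group of the length-24 code built from the squares modulo 23 has exactly two conjugacy classes of involutions: an involution either fixes exactly the eight points of an octad or has no fixed points, both kinds occur, and any two involutions of the same kind are conjugate in the group. -/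
theorem result : (∀ g ∈ Cfsg.M24, orderOf g = 2 → (Finset.univ.filter fun p => g p = p) ∈ Cfsg.octads ∨ ∀ p, g p ≠ p) ∧ (∃ g ∈ Cfsg.M24, orderOf g = 2 ∧ (Finset.univ.filter fun p => g p = p) ∈ Cfsg.octads) ∧ (∃ g ∈ Cfsg.M24, orderOf g = 2 ∧ ∀ p, g p ≠ p) ∧ ∀ g ∈ Cfsg.M24, ∀ h ∈ Cfsg.M24, orderOf g = 2 → orderOf h = 2 → ((∀ p, g p ≠ p) ↔ (∀ p, h p ≠ p)) → ∃ k ∈ Cfsg.M24, k * g * k⁻¹ = h := by
  refine ⟨fun g hg ho => ?_, ?_, ?_, ?_⟩
  · rcases involution_class hg ho with ⟨-, u, hu, he⟩ | ⟨hf, -⟩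
    · left
      rw [← he, fix_conj, M24_smul_mem_octads hu]
      exact rep_fix_octad
    · exact Or.inr ((fpf_iff g).1 hf)
  · refine ⟨pm ClassData.rep2_8, pm_mem rep_goods.1, ?_, rep_fix_octad⟩
    exact orderOf_eq_prime (by
      rw [← pm_powc (good_ok rep_goods.1)]
      exact pm_eq_one (powc_ok (good_ok rep_goods.1) 2) (by decide +kernel)) (pm_ne_one (good_ok rep_goods.1) (by decide +kernel))
  · refine ⟨pm ClassData.rep2_0, pm_mem rep_goods.2.1, ?_, (fpf_iff _).1 ?_⟩
    · exact orderOf_eq_prime (by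
        rw [← pm_powc (good_ok rep_goods.2.1)]
        exact pm_eq_one (powc_ok (good_ok rep_goods.2.1) 2) (by decide +kernel)) (pm_ne_one (good_ok rep_goods.2.1) (by decide +kernel))
    · rw [fixCard_pm (good_ok rep_goods.2.1)]; decide +kernel
  · intro g hg h hh hgo hho hiff
    rw [← fpf_iff, ← fpf_iff] at hiff
    have hconj : ∀ r, (∃ u ∈ Cfsg.M24, u * r * u⁻¹ = g) → (∃ v ∈ Cfsg.M24, v * r * v⁻¹ = h) →
        ∃ k ∈ Cfsg.M24, k * g * k⁻¹ = h := by
      rintro r ⟨u, hu, rfl⟩ ⟨v, hv, rfl⟩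
      exact ⟨v * u⁻¹, mul_mem hv (inv_mem hu), by group⟩
    rcases involution_class hg hgo with ⟨hf, h1⟩ | ⟨hf, h1⟩ <;>
      rcases involution_class hh hho with ⟨hf', h2⟩ | ⟨hf', h2⟩
    · exact hconj _ h1 h2
    · exact absurd (hiff.2 hf') (by omega)
    · exact absurd (hiff.1 hf) (by omega)
    · exact hconj _ h1 h2

end Cfsg.Agent.S5394
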