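import Cfsg.Statements.S5395

set_option autoImplicit false
open Cfsg

namespace Cfsg.Agent.S5395

/-- For a finite extraspecial 2-group E, an automorphism of E that induces the identity on E modulo its centre is inner (so these automorphisms form exactly the inner automorphism group, an elementary abelian 2-group of order |E|/2). -/
theorem result {E : Type*} [Group E] [Finite E] (hE : Cfsg.IsExtraspecial 2 E) (φ : E ≃* E) (hφ : ∀ x : E, φ x * x⁻¹ ∈ Subgroup.center E) : ∃ g : E, ∀ x : E, φ x = g * x * g⁻¹ := by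
  classical
  obtain ⟨⟨-, -, hcomm⟩, hcard⟩ := hE
  set Z := Subgroup.center E with hZ
  have hcZ : ∀ g x : E, g * x * g⁻¹ * x⁻¹ ∈ Z := fun g x => by
    rw [← hcomm]
    exact Subgroup.commutator_mem_commutator (Subgroup.mem_top _) (Subgroup.mem_top _)
  have hcen : ∀ a ∈ Z, ∀ b : E, b * a = a * b := fun a ha b => Subgroup.mem_center_iff.1 ha b
  -- homomorphisms into the centre
  let lam : E →* Z :=
    { toFun := fun x => ⟨φ x * x⁻¹, hφ x⟩
      map_one' := Subtype.ext (by simp)
      map_mul' := fun x y => Subtype.ext (by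
        show φ (x * y) * (x * y)⁻¹ = φ x * x⁻¹ * (φ y * y⁻¹)
        calc φ (x * y) * (x * y)⁻¹ = φ x * (φ y * y⁻¹) * x⁻¹ := by rw [map_mul]; group
          _ = φ x * (x⁻¹ * (φ y * y⁻¹)) := by rw [hcen _ (hφ y) x⁻¹]; group
          _ = φ x * x⁻¹ * (φ y * y⁻¹) := by group) }
  let ad : E → (E →* Z) := fun g =>
    { toFun := fun x => ⟨g * x * g⁻¹ * x⁻¹, hcZ g x⟩
      map_one' := Subtype.ext (by simp)
      map_mul' := fun x y => Subtype.ext (by
        show g * (x * y) * g⁻¹ * (x * y)⁻¹ = g * x * g⁻¹ * x⁻¹ * (g * y * g⁻¹ * y⁻¹)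
        calc g * (x * y) * g⁻¹ * (x * y)⁻¹
              = (g * x * g⁻¹ * x⁻¹) * (x * (g * y * g⁻¹ * y⁻¹) * x⁻¹) := by group
          _ = g * x * g⁻¹ * x⁻¹ * (g * y * g⁻¹ * y⁻¹) := by
            rw [hcen _ (hcZ g y) x]; group) }
  have hker : ∀ g h : E, ad g = ad h ↔ g⁻¹ * h ∈ Z := by
    intro g h
    constructor
    · intro e
      refine Subgroup.mem_center_iff.2 fun x => ?_
      have e1 : g * x * g⁻¹ * x⁻¹ = h * x * h⁻¹ * x⁻¹ :=
        congrArg Subtype.val (DFunLike.congr_fun e x)
      have e2 : g * x * g⁻¹ = h * x * h⁻¹ := mul_right_cancel e1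
      calc x * (g⁻¹ * h) = g⁻¹ * (g * x * g⁻¹) * h := by group
        _ = g⁻¹ * (h * x * h⁻¹) * h := by rw [e2]
        _ = g⁻¹ * h * x := by group
    · intro e
      refine MonoidHom.ext fun x => Subtype.ext ?_
      show g * x * g⁻¹ * x⁻¹ = h * x * h⁻¹ * x⁻¹
      calc g * x * g⁻¹ * x⁻¹ = g * (x * (g⁻¹ * h)) * h⁻¹ * x⁻¹ := by group
        _ = g * (g⁻¹ * h * x) * h⁻¹ * x⁻¹ := by rw [hcen _ e x]
        _ = h * x * h⁻¹ * x⁻¹ := by group
  let ad' : E ⧸ Z → (E →* Z) := fun q => Quotient.liftOn' q ad fun g h e =>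
    (hker g h).2 (QuotientGroup.leftRel_apply.1 e)
  have hinj : Function.Injective ad' := by
    intro a b e
    induction a using QuotientGroup.induction_on
    induction b using QuotientGroup.induction_on
    exact QuotientGroup.eq.2 ((hker _ _).1 e)
  -- an embedding of the centre into the units of `ℂ`
  have two : ∀ a : Z, a ≠ 1 → ∀ b : Z, b ≠ 1 → a = b := by
    intro a ha b hb
    obtain ⟨x, y, hxy, hu⟩ := Nat.card_eq_two_iff.1 hcard
    have hall : ∀ c : Z, c = x ∨ c = y := fun c => by
      have : c ∈ ({x, y} : Set Z) := hu ▸ Set.mem_univ c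
      simpa using this
    rcases hall 1 with h1 | h1 <;> rcases hall a with h2 | h2 <;> rcases hall b with h3 | h3 <;>
      subst h2 h3 <;> first | rfl | exact absurd h1.symm ha | exact absurd h1.symm hb
  let ι : Z →* ℂˣ :=
    { toFun := fun a => if a = 1 then 1 else -1
      map_one' := if_pos rfl
      map_mul' := fun a b => by
        by_cases ha : a = 1
        · simp [ha]
        by_cases hb : b = 1
        · simp [hb]
        have hab : a * b = 1 := by
          by_contra h
          exact hb (by simpa using (two _ h a ha))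
        simp [ha, hb, hab] }
  have hι : Function.Injective ι := by
    intro a b e
    by_contra hne
    have hne1 : (-1 : ℂˣ) ≠ 1 := fun h => by
      have := congrArg Units.val h; simp at this; norm_num at this
    by_cases ha : a = 1 <;> by_cases hb : b = 1 <;> simp [ι, ha, hb, hne1, hne1.symm] at e
    · exact hne (ha.trans hb.symm)
    · exact hne (two a ha b hb)
  let F : (E →* Z) → (Abelianization E →* ℂˣ) := fun f => Abelianization.lift (ι.comp f)
  have hF : Function.Injective F := by
    intro f f' e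
    refine MonoidHom.ext fun x => hι ?_
    have := DFunLike.congr_fun e (Abelianization.of x)
    simpa [F] using this
  haveI : Fintype (Abelianization E) := Fintype.ofFinite _
  haveI : NeZero (Monoid.exponent (Abelianization E)) := ⟨Monoid.exponent_ne_zero_of_finite⟩
  have h2 := CommGroup.card_monoidHom_of_hasEnoughRootsOfUnity (Abelianization E) ℂ
  haveI : Finite (Abelianization E →* ℂˣ) :=
    Nat.finite_of_card_ne_zero (by rw [h2]; exact Nat.card_pos.ne')
  haveI : Finite (E →* Z) := Finite.of_injective _ hF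
  have hle : Nat.card (E →* Z) ≤ Nat.card (E ⧸ Z) := by
    refine (Nat.card_le_card_of_injective _ hF).trans (le_of_eq ?_)
    rw [h2]
    show Nat.card (E ⧸ commutator E) = _
    rw [hcomm]
  have hbij := hinj.bijective_of_nat_card_le hle
  obtain ⟨q, hq⟩ := hbij.2 lam
  induction q using QuotientGroup.induction_on with
  | _ g =>
    refine ⟨g, fun x => ?_⟩
    have e : g * x * g⁻¹ * x⁻¹ = φ x * x⁻¹ := congrArg Subtype.val (DFunLike.congr_fun hq x)
    exact (mul_right_cancel e).symm

end Cfsg.Agent.S5395
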