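import Cfsg.Statements.S5397
import Cfsg.Agent.Lib.CoOneEleven.Split
import Cfsg.Agent.Lib.CoOneType.Hyp

set_option autoImplicit false
open Cfsg

namespace Cfsg.Agent.S5397

/-- Let G be a finite group of Conway type (involution z with generalized Fitting subgroup Q of its centralizer C extraspecial of order 2^9, C/Q the commutator subgroup of the isometry group of the hyperbolic quadratic form in dimension 8 over the field with two elements, z not weakly closed in Q). Then G has an elementary abelian subgroup A of order 2^11 containing z whose normalizer N is a split extension of A with N/A isomorphic to the automorphism group of the length-24 code built from the squares modulo 23, and N has exactly two orbits on the non-identity elements of A. -/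
theorem result {G : Type*} [Group G] [Finite G] (z : G) (hz : orderOf z = 2) (Q : Subgroup (Subgroup.centralizer ({z} : Set G))) [Q.Normal] (hF : Cfsg.generalizedFittingSubgroup (Subgroup.centralizer ({z} : Set G)) = Q) (hQ : Cfsg.IsExtraspecial 2 Q) (hcard : Nat.card Q = 2 ^ 9) (e : (Subgroup.centralizer ({z} : Set G)) ⧸ Q ≃* Cfsg.Omega (ZMod 2) (Cfsg.quadFormPlus 4 (ZMod 2))) (hnwc : ∃ g : G, (∃ hq : g * z * g⁻¹ ∈ Subgroup.centralizer ({z} : Set G), (⟨g * z * g⁻¹, hq⟩ : Subgroup.centralizer ({z} : Set G)) ∈ Q) ∧ g * z * g⁻¹ ≠ z) : ∃ A : Subgroup G, Cfsg.IsElementaryAbelian 2 A ∧ Nat.card A = 2 ^ 11 ∧ z ∈ A ∧ ∃ _ : (A.subgroupOf (Subgroup.normalizer (A : Set G))).Normal, Nonempty (↥(Subgroup.normalizer (A : Set G)) ⧸ A.subgroupOf (Subgroup.normalizer (A : Set G)) ≃* ↥Cfsg.M24) ∧ (∃ K : Subgroup ↥(Subgroup.normalizer (A : Set G)), (A.subgroupOf (Subgroup.normalizer (A : Set G))).IsComplement' K) ∧ ∃ a ∈ A, ∃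 b ∈ A, a ≠ 1 ∧ b ≠ 1 ∧ (∀ n ∈ Subgroup.normalizer (A : Set G), n * a * n⁻¹ ≠ b) ∧ ∀ c ∈ A, c ≠ 1 → ∃ n ∈ Subgroup.normalizer (A : Set G), n * c * n⁻¹ = a ∨ n * c * n⁻¹ = b := by
  obtain ⟨π, M⟩ := CfsgLib.CoOneType.exists_model z hz Q hF hQ hcard e
  obtain ⟨g, ⟨hq, hgQ⟩, hgne⟩ := hnwc
  obtain ⟨S, hS⟩ := CfsgLib.CoOneType.exists_sys M
    ⟨g * z * g⁻¹, ⟨⟨_, hq⟩, hgQ, rfl⟩, hgne, isConj_iff.2 ⟨g, rfl⟩⟩
  obtain ⟨F₀⟩ := CfsgLib.CoOneEleven.exists_frame' (S := S) (s := z) hS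
  obtain ⟨F, hstd⟩ := F₀.exists_standard
  obtain ⟨φ⟩ := CfsgLib.CoOneEleven.Frame.quot_M24 hstd
  obtain ⟨ho, -, hR0, hRlt, -⟩ := CfsgLib.CoOneEleven.Data.xr_check.2.2.2
  refine ⟨F.A, ⟨⟨⟨fun a b => Subtype.ext (F.A_comm _ a.2 _ b.2)⟩⟩, fun a ha => by rw [pow_two, F.A_sq a ha]⟩,
    F.card_A, F.self_mem, inferInstanceAs (F.A.subgroupOf F.N).Normal, ⟨φ⟩,
    CfsgLib.CoOneEleven.Frame.exists_complement hstd, z, F.self_mem, F.θ CfsgLib.CoOneEleven.Data.repR,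
    F.θ_mem _, F.M.ne_one, ?_, ?_, ?_⟩
  · intro h
    have h0 := F.θ_ker hRlt h
    rw [h0] at hR0
    exact absurd hR0 (by decide)
  · intro n hn h
    have h1 := (hstd _ hRlt).1 ⟨n, hn, h⟩
    rw [ho] at h1
    exact absurd h1 (by decide)
  · intro c hc hc1
    obtain ⟨x, hx, rfl⟩ := F.θ_surj hc
    have hx0 : x ≠ 0 := fun h => hc1 (by rw [h, F.θ_zero])
    cases hb : CfsgLib.CoOneEleven.Data.oMask.testBit x
    · obtain ⟨n, hn, en⟩ := CfsgLib.CoOneEleven.Frame.outside_rel hstd hx hx0 hb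
      exact ⟨n, hn, Or.inr en⟩
    · obtain ⟨n, hn, en⟩ := (hstd x hx).2 hb
      exact ⟨n⁻¹, inv_mem hn, Or.inl (by rw [← en]; group)⟩

end Cfsg.Agent.S5397
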