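import Cfsg.Statements.S5408
import Cfsg.Agent.Lib.MonsterQ.Main

set_option autoImplicit false
open Cfsg

namespace Cfsg.Agent.S5408

/-- Let G be a finite group of Monster type at the involution z with Q the extraspecial normal subgroup of order 2^25 of C = C_G(z) (so C/Q is identified with the first Conway group with Q modulo its centre the Leech lattice modulo 2, and z is not weakly closed in Q). Then Q is of plus type: it contains an elementary abelian subgroup of order 2^13. -/
theorem result {G : Type*} [Group G] [Finite G] (z : G) (Q : Subgroup (Subgroup.centralizer ({z} : Set G))) [Q.Normal] (hM : Cfsg.IsOfMonsterType z Q) : ∃ E : Subgroup Q, Cfsg.IsElementaryAbelian 2 E ∧ Nat.card E = 2 ^ 13 := by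
  obtain ⟨e, θ, H⟩ := CfsgLib.MonsterQ.of_monsterType hM
  obtain ⟨s, hsQ, hs, hsne⟩ := H.nwc
  obtain ⟨g, rfl⟩ := isConj_iff.1 hs
  obtain ⟨hab, hsq⟩ := H.inter_props hsQ hsne
  let f : ↥Q →* G := (Subgroup.centralizer ({z} : Set G)).subtype.comp Q.subtype
  have hf : Function.Injective f := Subtype.val_injective.comp Subtype.val_injective
  let D : Subgroup G := Q.map (Subgroup.centralizer ({z} : Set G)).subtype ⊓
    (Q.map (Subgroup.centralizer ({z} : Set G)).subtype).map (MulAut.conj g).toMonoidHom
  refine ⟨D.comap f, ⟨⟨⟨fun a b => Subtype.ext (hf ?_)⟩⟩, fun a ha => hf ?_⟩, ?_⟩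
  · simp only [Subgroup.coe_mul, map_mul]
    exact hab _ a.2 _ b.2
  · rw [map_pow, map_one, pow_two]
    exact hsq _ ha
  · rw [← Subgroup.card_map_of_injective (K := D.comap f) hf, Subgroup.map_comap_eq_self ?_]
    · exact (H.pair_structure hsQ hsne).1
    · rintro x ⟨⟨y, hy, rfl⟩, -⟩
      exact ⟨⟨y, hy⟩, rfl⟩

end Cfsg.Agent.S5408
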