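import Cfsg.Statements.S5410
import Cfsg.Agent.Lib.MonsterQ.Main

set_option autoImplicit false
open Cfsg

namespace Cfsg.Agent.S5410

/-- Let G be a finite group of Monster type at the involution z with Q the extraspecial normal subgroup of order 2^25 of C = C_G(z) (so C/Q is identified with the first Conway group with Q modulo its centre the Leech lattice modulo 2, and z is not weakly closed in Q). Let g in G with s = g z g⁻¹ a member of Q other than z, let X be the image in C/Q of the centralizer of s in C, and let E be the image in C/Q of the intersection of g Q g⁻¹ with C. Then E is a normal subgroup of X, elementary abelian of order 2^11, and it has a complement in X isomorphic to the Mathieu group of degree 24 (the automorphism group of the length-24 binary Golay code). -/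
theorem result {G : Type*} [Group G] [Finite G] (z : G) (Q : Subgroup (Subgroup.centralizer ({z} : Set G))) [Q.Normal] (hM : Cfsg.IsOfMonsterType z Q) (s : G) (hsQ : ∃ hsc : s ∈ Subgroup.centralizer ({z} : Set G), (⟨s, hsc⟩ : Subgroup.centralizer ({z} : Set G)) ∈ Q) (hs : IsConj z s) (hs1 : s ≠ z) (g : G) (hg : g * z * g⁻¹ = s) (X E : Subgroup ((Subgroup.centralizer ({z} : Set G)) ⧸ Q)) (hX : X = ((Subgroup.centralizer ({z} : Set G) ⊓ Subgroup.centralizer ({s} : Set G)).subgroupOf (Subgroup.centralizer ({z} : Set G))).map (QuotientGroup.mk' Q)) (hE : E = (((Q.map (Subgroup.centralizer ({z} : Set G)).subtype).map (MulAut.conj g).toMonoidHom ⊓ Subgroup.centralizer ({z} : Set G)).subgroupOf (Subgroup.centralizer ({z} : Set G))).map (QuotientGroup.mk' Q)) : E ≤ X ∧ (∀ x ∈ X, ∀ y ∈ E, x * y * x⁻¹ ∈ E) ∧ Cfsg.IsElementaryAbelian 2 E ∧ Nat.card E = 2 ^ 11 ∧ ∃ K : Subgroup ((Subgroup.centralizer ({z} : Set G)) ⧸ Q), K ≤ X ∧ E ⊓ K = ⊥ ∧ E ⊔ K =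 X ∧ Nonempty (K ≃* Cfsg.M24) := by
  obtain ⟨e, θ, H⟩ := CfsgLib.MonsterQ.of_monsterType hM
  subst hg
  obtain ⟨-, g', hR, hXs, -⟩ := H.pair_structure (CfsgLib.MonsterQ.mem_map_of_exists hsQ) hs1
  have heinj : Function.Injective e.toMonoidHom := e.injective
  have hE' : E.map e.toMonoidHom = CfsgLib.MonsterQ.diagHom.range.map (CfsgLib.MonsterQ.toCo1 g') := by
    rw [← hR, hE, Subgroup.map_map]; rfl
  have hX' : X.map e.toMonoidHom = CfsgLib.Leech.monoSub.map (CfsgLib.MonsterQ.toCo1 g') := by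
    rw [← hXs, hX, Subgroup.map_map]; rfl
  have hmE : ∀ y, y ∈ E ↔ e y ∈ CfsgLib.MonsterQ.diagHom.range.map (CfsgLib.MonsterQ.toCo1 g') := fun y => by
    rw [← hE']; exact (Subgroup.mem_map_iff_mem heinj).symm
  have hmX : ∀ y, y ∈ X ↔ e y ∈ CfsgLib.Leech.monoSub.map (CfsgLib.MonsterQ.toCo1 g') := fun y => by
    rw [← hX']; exact (Subgroup.mem_map_iff_mem heinj).symm
  refine ⟨fun y hy => (hmX y).2 (Subgroup.map_mono CfsgLib.MonsterQ.diagHom_range_le ((hmE y).1 hy)),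
    fun x hx y hy => ?_, ⟨⟨⟨fun a b => Subtype.ext (e.injective ?_)⟩⟩, fun a ha => e.injective ?_⟩, ?_, ?_⟩
  · obtain ⟨a, ha, ha'⟩ := (hmX x).1 hx
    obtain ⟨b, hb, hb'⟩ := (hmE y).1 hy
    rw [hmE]
    exact ⟨a * b * a⁻¹, CfsgLib.MonsterQ.monoSub_conj_diag ha hb, by
      rw [map_mul, map_mul, map_inv, ha', hb', map_mul, map_mul, map_inv]⟩
  · obtain ⟨_, ⟨c, rfl⟩, ha'⟩ := (hmE _).1 a.2
    obtain ⟨_, ⟨d, rfl⟩, hb'⟩ := (hmE _).1 b.2
    simp only [Subgroup.coe_mul, map_mul]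
    rw [← ha', ← hb', ← map_mul, ← map_mul, mul_comm c d, map_mul, map_mul]
  · obtain ⟨_, ⟨c, rfl⟩, ha'⟩ := (hmE _).1 ha
    rw [map_pow, map_one, ← ha', ← map_pow, ← map_pow, show c ^ 2 = 1 from ?_, map_one, map_one]
    apply Multiplicative.toAdd.injective
    rw [toAdd_pow, toAdd_one, two_nsmul]
    exact Subtype.ext (funext fun i => CharTwo.add_self_eq_zero _)
  · rw [← Subgroup.card_map_of_injective (K := E) heinj, hE']
    have h := CfsgLib.MonsterQ.card_comap_toCo1 g' (CfsgLib.MonsterQ.diagHom.range.map (CfsgLib.MonsterQ.toCo1 g'))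
    rw [Subgroup.comap_map_eq_self (by rw [CfsgLib.MonsterQ.toCo1_ker]; exact CfsgLib.MonsterQ.center_le_diag),
      CfsgLib.MonsterQ.card_diag] at h
    omega
  · let k : Cfsg.M24 →* (↥(Subgroup.centralizer ({z} : Set G)) ⧸ Q) :=
      e.symm.toMonoidHom.comp ((CfsgLib.MonsterQ.toCo1 g').comp CfsgLib.MonsterQ.permHom)
    have hek : ∀ τ, e (k τ) = CfsgLib.MonsterQ.toCo1 g' (CfsgLib.MonsterQ.permHom τ) := fun τ => e.apply_symm_apply _
    have hdiag : ∀ τ, CfsgLib.MonsterQ.toCo1 g' (CfsgLib.MonsterQ.permHom τ) ∈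
        CfsgLib.MonsterQ.diagHom.range.map (CfsgLib.MonsterQ.toCo1 g') → τ = 1 := by
      rintro τ ⟨d, hd, hd'⟩
      have hc : d⁻¹ * CfsgLib.MonsterQ.permHom τ ∈ CfsgLib.MonsterQ.diagHom.range := by
        refine CfsgLib.MonsterQ.center_le_diag ?_
        rw [← CfsgLib.MonsterQ.toCo1_ker g', MonoidHom.mem_ker, map_mul, map_inv, hd', inv_mul_cancel]
      have hm : CfsgLib.MonsterQ.permHom τ ∈ CfsgLib.MonsterQ.diagHom.range ⊓ CfsgLib.MonsterQ.permHom.range :=
        ⟨by simpa using mul_mem hd hc, ⟨τ, rfl⟩⟩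
      rw [CfsgLib.MonsterQ.diag_inf_perm, Subgroup.mem_bot] at hm
      exact CfsgLib.MonsterQ.permHom_injective (hm.trans (map_one _).symm)
    have hk : Function.Injective k := by
      rw [injective_iff_map_eq_one]
      intro τ hτ
      refine hdiag τ ?_
      rw [← hek, hτ, map_one]
      exact one_mem _
    refine ⟨k.range, ?_, ?_, ?_, ⟨(MonoidHom.ofInjective hk).symm⟩⟩
    · rintro _ ⟨τ, rfl⟩
      rw [hmX, hek]
      exact ⟨_, CfsgLib.MonsterQ.permHom_range_le ⟨τ, rfl⟩, rfl⟩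
    · rw [eq_bot_iff]
      rintro _ ⟨hy, τ, rfl⟩
      rw [Subgroup.mem_bot]
      have hy : e (k τ) ∈ CfsgLib.MonsterQ.diagHom.range.map (CfsgLib.MonsterQ.toCo1 g') := (hmE _).1 hy
      rw [hek] at hy
      rw [hdiag τ hy, map_one]
    · refine le_antisymm (sup_le (fun y hy => (hmX y).2 (Subgroup.map_mono CfsgLib.MonsterQ.diagHom_range_le ((hmE y).1 hy))) ?_) ?_
      · rintro _ ⟨τ, rfl⟩
        rw [hmX, hek]
        exact ⟨_, CfsgLib.MonsterQ.permHom_range_le ⟨τ, rfl⟩, rfl⟩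
      · intro y hy
        obtain ⟨a, ha, ha'⟩ := (hmX y).1 hy
        obtain ⟨τ, hτ, c, hc, rfl⟩ := CfsgLib.Leech.exists_mono_of_stdStab ha
        rw [CfsgLib.MonsterQ.monoEl_decomp, map_mul] at ha'
        have hy' : y = e.symm (CfsgLib.MonsterQ.toCo1 g' (CfsgLib.MonsterQ.diagHom (Multiplicative.ofAdd ⟨c, hc⟩))) *
            k ⟨τ⁻¹, inv_mem hτ⟩ := by
          apply e.injective
          rw [map_mul, e.apply_symm_apply, hek, ha']
        rw [hy']
        exact mul_mem (Subgroup.mem_sup_left ((hmE _).2 ⟨_, ⟨_, rfl⟩, (e.apply_symm_apply _).symm⟩))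
          (Subgroup.mem_sup_right ⟨_, rfl⟩)

end Cfsg.Agent.S5410
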