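import Cfsg.Statements.S5413
import Cfsg.Agent.Lib.MonsterType.FiveMain

set_option autoImplicit false
open Cfsg

namespace Cfsg.Agent.S5413

/-- Let G be a finite group of Monster type at the involution z with Q the extraspecial normal subgroup of order 2^25 of C = C_G(z) (so C/Q is identified with the first Conway group with Q modulo its centre the Leech lattice modulo 2, and z is not weakly closed in Q). Let s be a conjugate of z in Q other than z and let B be a Sylow 5-subgroup of the joint centralizer of z and s. Then the centralizer of B modulo B is a group of Harada–Norton type (an involution whose centralizer D has generalized Fitting subgroup R extraspecial of order 2^9 with D/R the wreath product of the alternating group of degree 5 by a group of order 2, the involution not weakly closed in R). -/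
theorem result {G : Type*} [Group G] [Finite G] (z : G) (Q : Subgroup (Subgroup.centralizer ({z} : Set G))) [Q.Normal] (hM : Cfsg.IsOfMonsterType z Q) (s : G) (hsQ : ∃ hsc : s ∈ Subgroup.centralizer ({z} : Set G), (⟨s, hsc⟩ : Subgroup.centralizer ({z} : Set G)) ∈ Q) (hs : IsConj z s) (hs1 : s ≠ z) (B : Subgroup G) (hB : B ≤ Subgroup.centralizer ({z, s} : Set G)) (hBp : Nat.card B = 5 ^ (Nat.card ↥(Subgroup.centralizer ({z, s} : Set G))).factorization 5) [hn : (B.subgroupOf (Subgroup.centralizer (B : Set G))).Normal] : Cfsg.IsOfHaradaNortonType (↥(Subgroup.centralizer (B : Set G)) ⧸ B.subgroupOf (Subgroup.centralizer (B : Set G))) := by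
  obtain ⟨Q', π, θ, b, S⟩ := CfsgLib.MonsterType.Five.exists_setup hM hsQ hs hs1 hB hBp
  have hN : ∀ n, n ∈ Subgroup.centralizer (B : Set G) ↔ n * b = b * n := fun n => by
    rw [S.eqB]
    refine ⟨fun h => (Subgroup.mem_centralizer_iff.1 h b (Subgroup.mem_zpowers b)).symm, fun h => ?_⟩
    refine Subgroup.mem_centralizer_iff.2 fun y hy => ?_
    obtain ⟨k, rfl⟩ := Subgroup.mem_zpowers_iff.1 hy
    exact (Commute.zpow_left (show Commute b n from h.symm) k).eq
  have hBs : ∀ n : ↥(Subgroup.centralizer (B : Set G)),
      n ∈ B.subgroupOf (Subgroup.centralizer (B : Set G)) ↔ (n : G) ∈ Subgroup.zpowers b := fun n => by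
    rw [Subgroup.mem_subgroupOf, ← S.eqB]
  obtain ⟨R, hR, hset, hiso, -⟩ := S.data.setting hN hBs CfsgLib.MonsterType.Five.action (w := 4) rfl
    (by norm_num) ⟨s, S.s_mem, S.ne, by
      obtain ⟨n, hnb, hnz⟩ := S.conj_in_cent
      exact ⟨n, (hN n).2 hnb, hnz⟩⟩
  exact ⟨_, R, hR, hset, hiso⟩

end Cfsg.Agent.S5413
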