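import Cfsg.Statements.S5416
import Cfsg.Agent.Lib.MonsterType.SevenMain

set_option autoImplicit false
open Cfsg

namespace Cfsg.Agent.S5416

/-- Let G be a finite group of Monster type at the involution z with Q the extraspecial normal subgroup of order 2^25 of C = C_G(z) (so C/Q is identified with the first Conway group with Q modulo its centre the Leech lattice modulo 2, and z is not weakly closed in Q). Let s be a conjugate of z in Q other than z and let B be a Sylow 7-subgroup of the joint centralizer of z and s. Then the centralizer of B modulo B is a group of Held type (an involution whose centralizer D has generalized Fitting subgroup R extraspecial of order 2^7 with D/R isomorphic to SL(3, 2), exactly 29 of its conjugates lying in R, and the involution not weakly closed in R). -/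
theorem result {G : Type*} [Group G] [Finite G] (z : G) (Q : Subgroup (Subgroup.centralizer ({z} : Set G))) [Q.Normal] (hM : Cfsg.IsOfMonsterType z Q) (s : G) (hsQ : ∃ hsc : s ∈ Subgroup.centralizer ({z} : Set G), (⟨s, hsc⟩ : Subgroup.centralizer ({z} : Set G)) ∈ Q) (hs : IsConj z s) (hs1 : s ≠ z) (B : Subgroup G) (hB : B ≤ Subgroup.centralizer ({z, s} : Set G)) (hBp : Nat.card B = 7 ^ (Nat.card ↥(Subgroup.centralizer ({z, s} : Set G))).factorization 7) [hn : (B.subgroupOf (Subgroup.centralizer (B : Set G))).Normal] : Cfsg.IsOfHeldType (↥(Subgroup.centralizer (B : Set G)) ⧸ B.subgroupOf (Subgroup.centralizer (B : Set G))) := by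
  obtain ⟨Q', π, θ, b, S⟩ := CfsgLib.MonsterType.Seven.exists_setup hM hsQ hs hs1 hB hBp
  have hN : ∀ n, n ∈ Subgroup.centralizer (B : Set G) ↔ n * b = b * n := fun n => by
    rw [S.eqB]
    refine ⟨fun h => (Subgroup.mem_centralizer_iff.1 h b (Subgroup.mem_zpowers b)).symm, fun h => ?_⟩
    refine Subgroup.mem_centralizer_iff.2 fun y hy => ?_
    obtain ⟨k, rfl⟩ := Subgroup.mem_zpowers_iff.1 hy
    exact (Commute.zpow_left (show Commute b n from h.symm) k).eq
  have hBs : ∀ n : ↥(Subgroup.centralizer (B : Set G)),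
      n ∈ B.subgroupOf (Subgroup.centralizer (B : Set G)) ↔ (n : G) ∈ Subgroup.zpowers b := fun n => by
    rw [Subgroup.mem_subgroupOf, ← S.eqB]
  obtain ⟨R, hR, hset, hiso, hmem⟩ := S.data.setting hN hBs CfsgLib.MonsterType.Seven.action (w := 3) rfl
    (by norm_num) ⟨s, S.s_mem, S.ne, by
      obtain ⟨n, hnb, hnz⟩ := S.conj_in_cent (x := s) (k := 1) (by norm_num)
        ((CfsgLib.MonsterType.Seven.norm64 (by norm_num)).2 ⟨by norm_num, Or.inl (by norm_num)⟩) S.cls_s
      exact ⟨n, (hN n).2 hnb, hnz⟩⟩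
  refine ⟨_, R, hR, hset, hiso, ?_⟩
  rw [← S.ncard_conj]
  have hsq : ∀ {x : G}, (∃ n : G, n * z * n⁻¹ = x) → x * x = 1 := by
    rintro x ⟨n, rfl⟩
    rw [show n * z * n⁻¹ * (n * z * n⁻¹) = n * (z * z) * n⁻¹ by group, S.data.hyp.zz, mul_one, mul_inv_cancel]
  symm
  refine Set.ncard_congr (fun x hx => ⟨QuotientGroup.mk ⟨x, S.data.CQ_le hN hBs hx.1⟩, ?_⟩) ?_ ?_ ?_
  · refine Subgroup.mem_centralizer_singleton_iff.2 ?_
    rw [CfsgLib.MonsterType.CentData.zbar, ← QuotientGroup.mk_mul, ← QuotientGroup.mk_mul]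
    exact congrArg QuotientGroup.mk (Subtype.ext (S.data.hyp.S.le_cent _ (S.data.mem_CQ.1 hx.1).1))
  · rintro x ⟨hx, n, hnb, hnz⟩
    refine ⟨(hmem _).2 ⟨_, hx, rfl⟩, ?_⟩
    exact (S.data.conj_zbar_iff hN hBs (n := ⟨x, S.data.CQ_le hN hBs hx⟩) hx (hsq ⟨n, hnz⟩)).2
      ⟨n, (hN n).2 hnb, hnz⟩
  · intro x y hx hy he
    obtain ⟨n, -, hnz⟩ := hx.2
    obtain ⟨m, -, hmz⟩ := hy.2
    exact S.data.eq_of_invol hN hBs (x := ⟨x, S.data.CQ_le hN hBs hx.1⟩) (y := ⟨y, S.data.CQ_le hN hBs hy.1⟩)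
      (hsq ⟨n, hnz⟩) (hsq ⟨m, hmz⟩) (QuotientGroup.eq.1 (congrArg Subtype.val he))
  · rintro y ⟨hyR, hyc⟩
    obtain ⟨n, hn, hne⟩ := (hmem y).1 hyR
    have hconj : ∃ m : G, m * b = b * m ∧ m * z * m⁻¹ = (n : G) := by
      rw [← hne] at hyc
      have hnn : (n : G) * n = 1 := by
        rcases S.data.hyp.S.sq _ (S.data.mem_CQ.1 hn).1 with h | h
        · exact h
        · exfalso
          obtain ⟨c, hc⟩ := isConj_iff.1 hyc
          obtain ⟨m, rfl⟩ := QuotientGroup.mk_surjective c
          have h2 : (QuotientGroup.mk n : ↥(Subgroup.centralizer (B : Set G)) ⧸ B.subgroupOf _) * QuotientGroup.mk n = 1 := by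
            rw [← hc, ← QuotientGroup.mk_inv]
            simp only [CfsgLib.MonsterType.CentData.zbar, ← QuotientGroup.mk_mul]
            rw [QuotientGroup.eq_one_iff, hBs]
            show (m : G) * z * (m : G)⁻¹ * ((m : G) * z * (m : G)⁻¹) ∈ Subgroup.zpowers b
            rw [hsq ⟨(m : G), rfl⟩]
            exact one_mem _
          rw [← QuotientGroup.mk_mul, QuotientGroup.eq_one_iff, hBs] at h2
          have h3 : z ∈ Subgroup.zpowers b := by
            rw [← h]; exact h2
          rw [← mem_powers_iff_mem_zpowers] at h3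
          obtain ⟨i, hi⟩ := h3
          have hi' : b ^ i = z := hi
          exact S.data.hyp.S.ne_one (hi' ▸ S.data.pow_eq_one_of_mem (hi' ▸ S.data.hyp.S.mem))
      obtain ⟨m, hm, hmz⟩ := (S.data.conj_zbar_iff hN hBs hn hnn).1 hyc
      exact ⟨m, (hN m).1 hm, hmz⟩
    exact ⟨n, ⟨hn, hconj⟩, Subtype.ext hne⟩

end Cfsg.Agent.S5416
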