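import Cfsg.Statements.S5421
import Cfsg.Agent.Lib.LargeXSpecial.Pair

set_option autoImplicit false
open Cfsg

namespace Cfsg.Agent.S5421

open CfsgLib.LargeXS

/-- Let Q be an extraspecial 2-subgroup of the finite group G whose centralizer in G is its centre Z and which is normal in the centralizer of Z. If some involution b of Q outside Z has Z inside the largest normal 2-subgroup of the centralizer of b, then Q is a large extraspecial 2-subgroup of G. -/
theorem result {G : Type*} [Group G] [Finite G] (Q : Subgroup G) (hL1 : Cfsg.IsExtraspecial 2 ↥Q) (hL2 : Subgroup.centralizer (Q : Set G) = ((Subgroup.center ↥Q).map Q.subtype)) (hL3 : Subgroup.centralizer (((Subgroup.center ↥Q).map Q.subtype) : Set G) ≤ Subgroup.normalizer (Q : Set G)) (b : G) (hbQ : b ∈ Q) (hbZ : b ∉ ((Subgroup.center ↥Q).map Q.subtype)) (hb : orderOf b = 2) (hZ : ((Subgroup.center ↥Q).map Q.subtype) ≤ (Cfsg.pCore 2 ↥(Subgroup.centralizer ({b}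 : Set G))).map (Subgroup.centralizer ({b} : Set G)).subtype) : Cfsg.IsLargeExtraspecial Q := by
  obtain ⟨z, hz⟩ := exists_center_gen hL1
  have h := xpair_of hL1 hL2 hL3 hz
  refine ⟨hL1, hL2, hL3, fun K hK hQK => ?_⟩
  have hzO : ∃ hzb : z ∈ Subgroup.centralizer ({b} : Set G),
      (⟨z, hzb⟩ : Subgroup.centralizer ({b} : Set G)) ∈ Cfsg.pCore 2 _ := by
    obtain ⟨⟨y, hy⟩, hyO, hyz⟩ := Subgroup.mem_map.1 (hZ (hz ▸ Subgroup.mem_zpowers z))
    exact ⟨hyz ▸ hy, by convert hyO using 2; exact hyz.symm⟩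
  obtain ⟨hzb, hzO⟩ := hzO
  have hb2 : b * b = 1 := by rw [← pow_two, ← hb]; exact pow_orderOf_eq_one b
  have hb1 : b ≠ 1 := fun e => hbZ (e ▸ one_mem _)
  have hbz : b ≠ z := fun e => hbZ (hz ▸ e ▸ Subgroup.mem_zpowers b)
  refine h.eq_bot_of_fixed_point_free hK hQK hbQ hb2 hb1 hbz fun k hk hkb => h.eq_one_of_odd hK hQK hk ?_
  have hkC : k ∈ Subgroup.centralizer ({b} : Set G) := Subgroup.mem_centralizer_singleton_iff.2 hkb
  have h1 : k * z * k⁻¹ * z⁻¹ ∈ K := by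
    have := (Subgroup.mem_normalizer_iff.1 (hQK h.mem) k⁻¹).1 (K.inv_mem hk)
    simpa [mul_assoc] using K.mul_mem hk this
  have h2 : k * z * k⁻¹ * z⁻¹ ∈ (Cfsg.pCore 2 ↥(Subgroup.centralizer ({b} : Set G))).map (Subgroup.subtype _) :=
    ⟨⟨k, hkC⟩ * ⟨z, hzb⟩ * ⟨k, hkC⟩⁻¹ * ⟨z, hzb⟩⁻¹,
      Subgroup.mul_mem _ (Subgroup.Normal.conj_mem inferInstance _ hzO _) (Subgroup.inv_mem _ hzO), rfl⟩
  have h3 := eq_one_of_mem_odd_two ((pCore_isPGroup 2 _).map _) hK h2 h1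
  exact mul_inv_eq_iff_eq_mul.1 (mul_inv_eq_one.1 h3)

end Cfsg.Agent.S5421
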