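import Cfsg.Statements.S5426
import Cfsg.Agent.Lib.LargeXS.DoubleSylow

set_option autoImplicit false
open Cfsg

namespace Cfsg.Agent.S5426

open Subgroup CfsgLib.LargeXS CfsgLib.Components

/-- Let Q be a large extraspecial 2-subgroup of the finite group G (extraspecial; centralizer equal to its centre; normal in the centralizer of its centre; normalizing no non-trivial subgroup of odd order) with centre generated by z, and let M be the normal closure of z in G. Then one of the following holds: Q is normal in G; or M is abelian and the generalized Fitting subgroup of G is its largest normal 2-subgroup; or M is the generalized Fitting subgroup of G and is a non-abelian simple group; or M is the generalized Fitting subgroup of G and is the direct product of a non-abelian simple subgroup L and its conjugate u L u⁻¹ by some u in Q (the two meet trivially and commute elementwise), with z = z₁ (u z₁ u⁻¹) for some z₁ in L whose centralizer in L is a Sylow 2-subgroup of L with Frattini subgroup inside the subgroup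 generated by z₁, and Q is not the largest normal 2-subgroup of the centralizer of z. -/
theorem result {G : Type*} [Group G] [Finite G] (Q : Subgroup G) (hQ : Cfsg.IsLargeExtraspecial Q) (z : G) (hz : ((Subgroup.center ↥Q).map Q.subtype) = Subgroup.zpowers z) (M : Subgroup G) (hM : M = Subgroup.normalClosure ({z} : Set G)) : Q.Normal ∨ (IsMulCommutative ↥M ∧ Cfsg.generalizedFittingSubgroup G = Cfsg.pCore 2 G) ∨ (M = Cfsg.generalizedFittingSubgroup G ∧ IsSimpleGroup ↥M ∧ ¬ IsMulCommutative ↥M) ∨ (M = Cfsg.generalizedFittingSubgroup G ∧ ∃ (L : Subgroup G) (u : G), u ∈ Q ∧ IsSimpleGroup ↥L ∧ ¬ IsMulCommutative ↥L ∧ L ⊓ (L).map (MulAut.conj u).toMonoidHom = ⊥ ∧ (∀ x ∈ L, ∀ y ∈ (L).map (MulAut.conj u).toMonoidHom, x * y = y * x) ∧ L ⊔ (L).map (MulAut.conj u).toMonoidHom = M ∧ ∃ z₁ ∈ L, z = z₁ * (u * z₁ * u⁻¹) ∧ (∃ R : Sylow 2 ↥L, (R : Subgroup ↥L) = (Subgroup.centralizer ({z₁} : Set G)).subgroupOf L ∧ (frattini ↥(R : Subgroup ↥L)).map ((L.subtype).comp (R : Subgroup ↥L).subtype) ≤ Subgroup.zpowers z₁) ∧ Q ≠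 (Cfsg.pCore 2 ↥(Subgroup.centralizer ({z} : Set G))).map (Subgroup.centralizer ({z} : Set G)).subtype) := by
  haveI : Fact (Nat.Prime 2) := ⟨Nat.prime_two⟩
  have h : Large Q z := large_of hQ hz
  subst hM
  by_cases hF : Cfsg.fittingSubgroup G = ⊥
  swap
  · exact Or.inr (Or.inl (h.abelian_case hF))
  obtain ⟨hML, hgf, hcent, L, hL⟩ := h.layer_case hF
  haveI hn : (Cfsg.layer G).Normal := hgf ▸ CfsgLib.KSteps.gfit_normal G
  obtain ⟨z₁, hz₁, z', hz', hzeq⟩ := exists_parts hL
    (show z ∈ Cfsg.layer G from hML ▸ subset_normalClosure rfl)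
  obtain ⟨hsimp, hna⟩ := isSimpleGroup_component hcent hL
  rw [hML]
  right; right
  by_cases hfix : ∀ q ∈ Q, L.map (MulAut.conj q).toMonoidHom = L
  · left
    have hq1 : ∀ q ∈ Q, q * z₁ = z₁ * q := by
      intro q hq
      have hmem : q * z₁ * q⁻¹ ∈ L := hfix q hq ▸ ⟨z₁, hz₁, by simp [MulAut.conj_apply]⟩
      have hmem' : q * z' * q⁻¹ ∈ others L :=
        (hfix q hq ▸ map_others_le q L) ⟨z', hz', by simp [MulAut.conj_apply]⟩
      have he : z₁ * z' = (q * z₁ * q⁻¹) * (q * z' * q⁻¹) := by
        rw [← hzeq, show q * z₁ * q⁻¹ * (q * z' * q⁻¹) = q * (z₁ * z') * q⁻¹ by group, ← hzeq,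
          h.pair.central q hq, mul_inv_cancel_right]
      exact mul_inv_eq_iff_eq_mul.1 (parts_unique hcent hL hz₁ hmem hz' hmem' he).1.symm
    rcases h.pair.selfCent z₁ hq1 with e | e
    · exact absurd (by rw [hzeq, e, one_mul]; exact hz') (h.not_mem_others hL)
    have hall : ∀ K, Cfsg.IsComponent K → K = L := by
      intro K hK
      by_contra hne
      exact h.component_not_le_centralizer hK fun x hx => mem_centralizer_singleton_iff.2
        (commute_others hL (e ▸ hz₁) (le_others hK hne hx)).symm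
    have hLM : Cfsg.layer G = L := le_antisymm (sSup_le fun K hK => (hall K hK).le) (component_le_layer hL)
    rw [hLM] at hgf ⊢
    exact ⟨hgf.symm, hsimp, hna⟩
  · right
    push_neg at hfix
    obtain ⟨u, hu, hmove⟩ := hfix
    have hm : Moved Q L z z₁ z' u := ⟨h, hcent, hn, hL, hz₁, hz', hzeq, hu, hmove⟩
    set R₀ := L ⊓ centralizer ({z₁} : Set G) with hR₀
    refine ⟨hgf.symm, L, u, hu, hsimp, hna, ?_, ?_, ?_, z₁, hz₁, hm.z'_eq ▸ hzeq, ?_, ?_⟩
    · rw [eq_bot_iff]
      intro x hx
      exact mem_bot.2 (eq_one_of_mem_others hcent hL hx.1 (le_others (hm.comp_conj u) hmove hx.2))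
    · intro x hx y hy
      exact commute_others hL hx (le_others (hm.comp_conj u) hmove hy)
    · rw [layer_eq_sup hL, hm.others_eq]
    · have hp : IsPGroup 2 ↥(R₀.subgroupOf L) :=
        hm.isPGroup_cent.comap_of_injective _ L.subtype_injective
      obtain ⟨S, hS⟩ := hp.exists_le_sylow
      have hS' : (S : Subgroup ↥L).map L.subtype = R₀ := hm.sylow (S.2.map _) (map_subtype_le _) (by
        intro x hx
        exact ⟨⟨x, hx.1⟩, hS (mem_subgroupOf.2 hx), rfl⟩)
      have hmemS : ∀ x : ↥L, x ∈ (S : Subgroup ↥L) ↔ (x : G) * z₁ = z₁ * x := by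
        intro x
        constructor
        · intro hx
          have h1 : (x : G) ∈ R₀ := hS' ▸ ⟨x, hx, rfl⟩
          exact mem_centralizer_singleton_iff.1 h1.2
        · intro hx
          exact hS (mem_subgroupOf.2 ⟨x.2, mem_centralizer_singleton_iff.2 hx⟩)
      refine ⟨S, ?_, ?_⟩
      · ext x
        rw [hmemS, mem_subgroupOf, mem_centralizer_singleton_iff]
      · rw [map_le_iff_le_comap]
        haveI : ((zpowers z₁).comap ((L.subtype).comp (S : Subgroup ↥L).subtype)).Normal := ⟨fun n hn y => by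
          obtain ⟨k, hk⟩ := mem_zpowers_iff.1 (mem_comap.1 hn)
          have hc : Commute ((y : ↥L) : G) z₁ := (hmemS y).1 y.2
          refine mem_comap.2 (mem_zpowers_iff.2 ⟨k, ?_⟩)
          simp only [map_mul, map_inv, MonoidHom.coe_comp, Function.comp_apply, coe_subtype, coe_mul,
            InvMemClass.coe_inv] at hk ⊢
          rw [← hk, (hc.zpow_right k).eq, mul_inv_cancel_right]⟩
        refine CfsgLib.PGroup.frattini_le_of_elementary (p := 2) ?_ ?_
        · intro x y
          rw [mem_comap, commutatorElement_def]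
          rcases hm.comm_cases (x : ↥L).2 ((hmemS x).1 x.2) (y : ↥L).2 ((hmemS y).1 y.2) with e | e
          · show ((x : ↥L) : G) * ((y : ↥L) : G) * ((x : ↥L) : G)⁻¹ * ((y : ↥L) : G)⁻¹ ∈ zpowers z₁
            rw [e]; exact one_mem _
          · show ((x : ↥L) : G) * ((y : ↥L) : G) * ((x : ↥L) : G)⁻¹ * ((y : ↥L) : G)⁻¹ ∈ zpowers z₁
            rw [e]; exact mem_zpowers _
        · intro x
          rw [mem_comap, pow_two]
          rcases hm.sq_cases (x : ↥L).2 ((hmemS x).1 x.2) with e | e
          · show ((x : ↥L) : G) * ((x : ↥L) : G) ∈ zpowers z₁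
            rw [e]; exact one_mem _
          · show ((x : ↥L) : G) * ((x : ↥L) : G) ∈ zpowers z₁
            rw [e]; exact mem_zpowers _
    · intro hQO
      set C := centralizer ({z} : Set G)
      have hK : ((Cfsg.layer G).subgroupOf C).Normal := inferInstance
      have hKp : IsPGroup 2 ↥((Cfsg.layer G).subgroupOf C) := by
        rintro ⟨⟨x, hxC⟩, hxM⟩
        refine ⟨2, Subtype.ext (Subtype.ext ?_)⟩
        show x ^ (2 ^ 2) = 1
        obtain ⟨a, ha, b, hb, rfl⟩ := exists_parts hL (mem_subgroupOf.1 hxM)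
        obtain ⟨y, hy, rfl⟩ := hm.exists_parts_uL hb
        have hxz := mem_centralizer_singleton_iff.1 hxC
        rw [hzeq] at hxz
        have h1 : a * (u * y * u⁻¹) * (z₁ * z') = a * z₁ * (u * y * u⁻¹ * z') := by
          calc a * (u * y * u⁻¹) * (z₁ * z') = a * (u * y * u⁻¹ * z₁) * z' := by group
            _ = a * (z₁ * (u * y * u⁻¹)) * z' := by rw [← commute_others hL hz₁ hb]
            _ = _ := by group
        have h2 : z₁ * z' * (a * (u * y * u⁻¹)) = z₁ * a * (z' * (u * y * u⁻¹)) := by
          calc z₁ * z' * (a * (u * y * u⁻¹)) = z₁ * (z' * a) * (u * y * u⁻¹) := by group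
            _ = z₁ * (a * z') * (u * y * u⁻¹) := by rw [← commute_others hL ha hz']
            _ = _ := by group
        rw [h1, h2] at hxz
        obtain ⟨hca, hcb⟩ := parts_unique hcent hL (mul_mem ha hz₁) (mul_mem hz₁ ha)
          (mul_mem hb hz') (mul_mem hz' hb) hxz
        have hcy : y * z₁ = z₁ * y := by
          rw [hm.z'_eq] at hcb
          calc y * z₁ = u⁻¹ * (u * y * u⁻¹ * (u * z₁ * u⁻¹)) * u := by group
            _ = u⁻¹ * (u * z₁ * u⁻¹ * (u * y * u⁻¹)) * u := by rw [hcb]
            _ = z₁ * y := by group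
        have hc : Commute a (u * y * u⁻¹) := commute_others hL ha hb
        rw [hc.mul_pow, show (2 : ℕ) ^ 2 = 4 from rfl, hm.pow_four ha hca, conj_pow, hm.pow_four hy hcy]
        group
      have hle : (Cfsg.layer G).subgroupOf C ≤ Cfsg.pCore 2 ↥C := le_sSup ⟨hK, hKp⟩
      haveI := hsimp
      refine centralizer_not_le_zpowers hna (z := (⟨z₁, hz₁⟩ : ↥L))
        (orderOf_eq_prime (Subtype.ext (by rw [SubgroupClass.coe_pow, pow_two]; exact hm.z₁_sq))
          fun e => hm.z₁_ne_one (congrArg Subtype.val e)) ?_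
      rintro ⟨y, hy⟩ hyc
      have hyz : y * z₁ = z₁ * y := congrArg Subtype.val (mem_centralizer_singleton_iff.1 hyc)
      by_contra hcon
      have hy1 : y ≠ 1 := fun e => hcon (by rw [show (⟨y, hy⟩ : L) = 1 from Subtype.ext e]; exact one_mem _)
      have hyz1 : y ≠ z₁ := fun e => hcon (by
        rw [show (⟨y, hy⟩ : L) = ⟨z₁, hz₁⟩ from Subtype.ext e]; exact mem_zpowers _)
      have hyQ : y ∈ Q := hQO ▸ ⟨⟨y, mem_centralizer_singleton_iff.2 (hm.commute_z hy hyz)⟩,
        hle (mem_subgroupOf.2 (component_le_layer hL hy)), rfl⟩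
      obtain ⟨q, hq, hqy⟩ := h.pair.exists_conj_eq_mul hyQ hy1
        fun e => h.component_not_le_centralizer (hm.comp_conj u) fun x hx => mem_centralizer_singleton_iff.2
          (by rw [← e]; exact (commute_others hL hy (le_others (hm.comp_conj u) hmove hx)).symm)
      rw [hzeq, ← mul_assoc] at hqy
      rcases hm.only_two (hm.comp_conj q) with e | e
      · have := (parts_unique hcent hL (e ▸ hm.conj_mem_map hy) (mul_mem hy hz₁) (one_mem _) hz'
          (by rw [mul_one]; exact hqy)).2
        exact h.component_not_le_centralizer (hm.comp_conj u) fun x hx => mem_centralizer_singleton_iff.2 (by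
          rw [hzeq, ← this, mul_one]
          exact (commute_others hL hz₁ (le_others (hm.comp_conj u) hmove hx)).symm)
      · have := (parts_unique hcent hL (one_mem _) (mul_mem hy hz₁)
          (hm.others_eq ▸ e ▸ hm.conj_mem_map hy) hz' (by rw [one_mul]; exact hqy)).1
        refine hyz1 ?_
        rw [eq_inv_of_mul_eq_one_left this.symm, inv_eq_of_mul_eq_one_right hm.z₁_sq]

end Cfsg.Agent.S5426
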