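import Cfsg.Statements.S5427
import Cfsg.Agent.Lib.LargeXS.Simple
import Cfsg.Agent.S5421
import Cfsg.Agent.S5422

set_option autoImplicit false
open Cfsg

namespace Cfsg.Agent.S5427

open Subgroup CfsgLib.LargeXS

/-- Let z be an involution of the finite group G whose centralizer C has generalized Fitting subgroup Q, an extraspecial 2-group of width at least 2 (order 2^(2w+1), w ≥ 2). Let K be a subgroup of G such that the subgroup U generated by the K-conjugates of z is abelian and C is generated by the C-conjugates of U. Suppose that either some K-conjugate of z other than z lies in Q, or some element u of U ∩ Q outside the subgroup generated by z has z in the largest normal 2-subgroup of its centralizer. Then G is simple and Q is a large extraspecial 2-subgroup of G. -/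
theorem result {G : Type*} [Group G] [Finite G] (z : G) (hz : orderOf z = 2) (Q : Subgroup G) (hQC : Q ≤ Subgroup.centralizer ({z} : Set G)) (hF : (Cfsg.generalizedFittingSubgroup ↥(Subgroup.centralizer ({z} : Set G))).map (Subgroup.centralizer ({z} : Set G)).subtype = Q) (hQ : Cfsg.IsExtraspecial 2 ↥Q) (w : ℕ) (hw : 2 ≤ w) (hcard : Nat.card ↥Q = 2 ^ (2 * w + 1)) (K U : Subgroup G) (hU : U = Subgroup.closure {x : G | ∃ k ∈ K, x = k * z * k⁻¹}) (hUab : IsMulCommutative ↥U) (hgen : Subgroup.closure {x : G | ∃ c ∈ Subgroup.centralizer ({z} : Set G), ∃ u ∈ U, x = c * u * c⁻¹} = Subgroup.centralizer ({z} : Set G)) (h3 : (∃ k ∈ K, k * z * k⁻¹ ∈ Q ∧ k * z * k⁻¹ ≠ z) ∨ ∃ u ∈ U ⊓ Q, u ∉ Subgroup.zpowers z ∧ (∃ hz' : z ∈ Subgroup.centralizer ({u} : Set G), (⟨z, hz'⟩ : ↥(Subgroup.centralizer ({u} : Set G))) ∈ Cfsg.pCore 2 ↥(Subgroup.centralizer ({u} : Set G)))) : IsSimpleGroup G ∧ Cfsg.IsLargeExtraspecial Q := by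
  have h : Base Q z := base_of hz hQC hF hQ
  have hmemU : ∀ g ∈ {x : G | ∃ k ∈ K, x = k * z * k⁻¹}, g ∈ U := fun g hg => hU ▸ subset_closure hg
  have hUcomm : ∀ a ∈ U, ∀ b ∈ U, a * b = b * a := fun a ha b hb =>
    congrArg Subtype.val (hUab.is_comm.comm (⟨a, ha⟩ : U) ⟨b, hb⟩)
  have hgenN : ∀ N : Subgroup G, N.Normal → z ∈ N → centralizer ({z} : Set G) ≤ N := by
    intro N hN hzN
    rw [← hgen, closure_le]
    rintro x ⟨c, -, u, hu, rfl⟩
    refine hN.conj_mem u ?_ c
    rw [hU] at hu
    refine (closure_le N).2 ?_ hu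
    rintro x ⟨k, -, rfl⟩
    exact hN.conj_mem z hzN k
  have hact : ∀ (N : Subgroup G) [N.Normal], z ∉ N → ∀ u ∈ U,
      (∀ x ∈ N, u * x * u⁻¹ = x) ∨ ∀ x ∈ N, u * x * u⁻¹ = x⁻¹ := by
    intro N hN hzN u hu
    rw [hU] at hu
    induction hu using closure_induction with
    | mem g hg =>
      obtain ⟨k, -, rfl⟩ := hg
      exact Or.inr fun x hx => (h.inverts hzN).1 k x hx
    | one => exact Or.inl fun x _ => by group
    | mul a b _ _ iha ihb =>
      have e : ∀ x, a * b * x * (a * b)⁻¹ = a * (b * x * b⁻¹) * a⁻¹ := fun x => by group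
      rcases iha with iha | iha <;> rcases ihb with ihb | ihb
      · exact Or.inl fun x hx => by rw [e, ihb x hx, iha x hx]
      · exact Or.inr fun x hx => by rw [e, ihb x hx, iha _ (inv_mem hx)]
      · exact Or.inr fun x hx => by rw [e, ihb x hx, iha x hx]
      · exact Or.inl fun x hx => by rw [e, ihb x hx, iha _ (inv_mem hx), inv_inv]
    | inv a _ iha =>
      rcases iha with iha | iha
      · exact Or.inl fun x hx => by
          calc a⁻¹ * x * a⁻¹⁻¹ = a⁻¹ * (a * x * a⁻¹) * a⁻¹⁻¹ := by rw [iha x hx]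
            _ = x := by group
      · exact Or.inr fun x hx => by
          calc a⁻¹ * x * a⁻¹⁻¹ = a⁻¹ * (x⁻¹)⁻¹ * a⁻¹⁻¹ := by rw [inv_inv x]
            _ = a⁻¹ * (a * x⁻¹ * a⁻¹) * a⁻¹⁻¹ := by rw [iha _ (inv_mem hx)]
            _ = x⁻¹ := by group
  refine ⟨h.isSimpleGroup hgenN ?_, ?_⟩
  · intro N hN hzN
    rcases h3 with ⟨k, -, hkQ, hkne⟩ | ⟨u, hu, huz, hzO⟩
    · exact h.eq_bot_of_conj_mem hzN hkQ hkne
    · exact h.eq_bot_of_core hzN hu.2 huz (hact N hzN u hu.1) hzO
  · rcases h3 with ⟨k, -, hkQ, hkne⟩ | ⟨u, hu, huz, hz', hzO⟩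
    · refine (Cfsg.Agent.S5422.result Q h.extra h.cent h.norm w hw hcard k ?_ ?_).2.2
      · intro hk
        have := (mem_normalizer_iff.1 hk z).1 (h.center_eq ▸ mem_zpowers z)
        rw [h.center_eq] at this
        rcases (mem_zpowers_iff_eq h.extra h.center_eq).1 this with e | e
        · exact h.pair.ne_one (conj_eq_one_iff.1 e)
        · exact hkne e
      · rw [h.center_eq, MonoidHom.map_zpowers, zpowers_le]
        exact hkQ
    · have hUsq : ∀ y ∈ U, y * y = 1 := by
        intro y hy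
        rw [hU] at hy
        induction hy using closure_induction with
        | mem g hg =>
          obtain ⟨k, -, rfl⟩ := hg
          rw [conj_mul, h.pair.mul_self, mul_one, mul_inv_cancel]
        | one => exact one_mul 1
        | mul a b ha hb iha ihb =>
          rw [← hU] at ha hb
          calc a * b * (a * b) = a * (b * a) * b := by group
            _ = (a * a) * (b * b) := by rw [← hUcomm a ha b hb]; group
            _ = 1 := by rw [iha, ihb, one_mul]
        | inv a _ iha => rw [← mul_inv_rev, iha, inv_one]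
      have hu2 := hUsq u hu.1
      refine Cfsg.Agent.S5421.result Q h.extra h.cent h.norm u hu.2 (fun hm => huz (h.center_eq ▸ hm))
        (orderOf_eq_prime (by rw [pow_two, hu2]) fun e => huz (e ▸ one_mem _)) ?_
      rw [h.center_eq, zpowers_le]
      exact ⟨⟨z, hz'⟩, hzO, rfl⟩

end Cfsg.Agent.S5427
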