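import Cfsg.Statements.S5430
import Cfsg.Agent.Lib.LargeXSpecial.ConfigAction

set_option autoImplicit false
open Cfsg

namespace Cfsg.Agent.S5430

open CfsgLib.LargeXS

/-- Let Q be a large extraspecial 2-subgroup of the finite group G (extraspecial; centralizer equal to its centre; normal in the centralizer of its centre; normalizing no non-trivial subgroup of odd order) with centre generated by z, an involution, of width w ≥ 2 (order 2^(2w+1)); let g be an element outside the centralizer H of z with g z g⁻¹ in Q; write V for the subgroup generated by z and g z g⁻¹, X for the subgroup generated by Q and g Q g⁻¹, R for the subgroup generated by the centralizer of z in g Q g⁻¹ and the centralizer of g z g⁻¹ in Q, and E for the intersection of Q and g Q g⁻¹. Then R is the centralizer of V in X and is the largest normal 2-subgroup of X, and X/R is isomorphic to the symmetric group of degree 3; moreover the normalizer of V is the product of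 X and the centralizer of V in H, X is normal in it, and modulo R it is the direct product of X/R and of the centralizer of V in H modulo R. -/
theorem result {G : Type*} [Group G] [Finite G] (Q : Subgroup G) (hQ : Cfsg.IsLargeExtraspecial Q) (z : G) (hz : ((Subgroup.center ↥Q).map Q.subtype) = Subgroup.zpowers z) (hz2 : orderOf z = 2) (w : ℕ) (hw : 2 ≤ w) (hcard : Nat.card ↥Q = 2 ^ (2 * w + 1)) (g : G) (hgH : g ∉ Subgroup.centralizer ({z} : Set G)) (hgQ : g * z * g⁻¹ ∈ Q) (V X R E : Subgroup G) (hV : V = Subgroup.closure ({z, g * z * g⁻¹} : Set G)) (hX : X = Q ⊔ (Q).map (MulAut.conj g).toMonoidHom) (hR : R = ((Q).map (MulAut.conj g).toMonoidHom ⊓ Subgroup.centralizer ({z} : Set G)) ⊔ (Q ⊓ Subgroup.centralizer ({g * z * g⁻¹} : Set G))) (hE : E = Q ⊓ (Q).map (MulAut.conj g).toMonoidHom) : R = X ⊓ Subgroup.centralizer (V : Set G) ∧ R = (Cfsg.pCore 2 ↥X).map X.subtype ∧ (∃ h : (R.subgroupOf X).Normal, Nonempty (↥X ⧸ R.subgroupOf X ≃* Equiv.Perm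 (Fin 3))) ∧ Subgroup.normalizer (V : Set G) = X ⊔ (Subgroup.centralizer ({z} : Set G) ⊓ Subgroup.centralizer (V : Set G)) ∧ (∀ y ∈ Subgroup.normalizer (V : Set G), ∀ x ∈ X, y * x * y⁻¹ ∈ X) ∧ R ≤ Subgroup.centralizer ({z} : Set G) ⊓ Subgroup.centralizer (V : Set G) ∧ (∀ x ∈ X, ∀ c ∈ Subgroup.centralizer ({z} : Set G) ⊓ Subgroup.centralizer (V : Set G), x * c * x⁻¹ * c⁻¹ ∈ R) ∧ X ⊓ (Subgroup.centralizer ({z} : Set G) ⊓ Subgroup.centralizer (V : Set G)) = R := by
  haveI : Fact (Nat.Prime 2) := ⟨Nat.prime_two⟩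
  obtain ⟨hE', hC', hN', -⟩ := hQ
  have hx := xpair_of hE' hC' hN' hz
  have hcard16 : 16 ≤ Nat.card Q := by
    rw [hcard]; calc 16 = 2 ^ 4 := by norm_num
      _ ≤ 2 ^ (2 * w + 1) := Nat.pow_le_pow_right (by norm_num) (by omega)
  have h := xconfig_of hx hgH hgQ hcard16
  set v := g * z * g⁻¹ with hv
  set Qv := Q.map (MulAut.conj g).toMonoidHom with hQv
  subst hV hX hR
  set N := Subgroup.normalizer (XConfig.four z v : Set G) with hN
  set C := Subgroup.centralizer (XConfig.four z v : Set G) with hC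
  set R := XConfig.rad Q Qv z v with hR
  obtain ⟨φ, hker, hsurj⟩ : ∃ φ : N →* Equiv.Perm (Fin 3), (∀ n, φ n = 1 ↔ (n : G) ∈ C) ∧
      ∀ σ, ∃ n : N, (n : G) ∈ Q ⊔ Qv ∧ φ n = σ := h.exists_action
  have hRX : R ≤ Q ⊔ Qv := XConfig.rad_le
  have hRC : R ≤ C := h.rad_le_centralizer
  have hXN : Q ⊔ Qv ≤ N := h.le_normalizer_four
  have hmem : ∀ y ∈ Q ⊔ Qv, y ∈ C → y ∈ R := fun y hy hyC => h.mem_rad_of_mem_centralizer rfl rfl hy hyC
  have hRn : (R.subgroupOf (Q ⊔ Qv)).Normal :=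
    ⟨fun r hr y => Subgroup.mem_subgroupOf.2 (by simpa using h.conj_rad y.2 (Subgroup.mem_subgroupOf.1 hr))⟩
  let ψ : ↥(Q ⊔ Qv) →* Equiv.Perm (Fin 3) := φ.comp (Subgroup.inclusion hXN)
  have hψs : Function.Surjective ψ := fun σ => by
    obtain ⟨n, hn, rfl⟩ := hsurj σ
    exact ⟨⟨n, hn⟩, rfl⟩
  have hψk : ψ.ker = R.subgroupOf (Q ⊔ Qv) := by
    ext y
    rw [MonoidHom.mem_ker, Subgroup.mem_subgroupOf]
    exact ⟨fun e => hmem y y.2 ((hker _).1 e), fun hy => (hker (Subgroup.inclusion hXN y)).2 (hRC hy)⟩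
  have hzC : Subgroup.centralizer ({z} : Set G) ⊓ C = C :=
    inf_eq_right.2 fun y hy => Subgroup.mem_centralizer_singleton_iff.2 (h.mem_centralizer_four.1 hy).1
  have hCN : C ≤ N := Subgroup.centralizer_le_normalizer (XConfig.four z v : Set G)
  have hNCconj : ∀ n ∈ N, ∀ c ∈ C, n * c * n⁻¹ ∈ C := by
    intro n hn c hc
    have := (hker (⟨n, hn⟩ * ⟨c, hCN hc⟩ * ⟨n, hn⟩⁻¹)).1
      (by rw [map_mul, map_mul, map_inv, (hker ⟨c, hCN hc⟩).2 hc, mul_one, mul_inv_cancel])
    simpa using this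
  have hCX : ∀ c ∈ C, ∀ x ∈ Q ⊔ Qv, c * x * c⁻¹ ∈ Q ⊔ Qv := by
    intro c hc x hx'
    obtain ⟨hcz, hcv⟩ := h.mem_centralizer_four.1 hc
    rw [Subgroup.sup_eq_closure] at hx'
    induction hx' using Subgroup.closure_induction with
    | mem a ha =>
      exact ha.elim (fun ha => Subgroup.mem_sup_left (h.left.norm c hcz a ha))
        (fun ha => Subgroup.mem_sup_right (h.right.norm c hcv a ha))
    | one => simp
    | mul a b _ _ ha hb =>
      have : c * (a * b) * c⁻¹ = (c * a * c⁻¹) * (c * b * c⁻¹) := by group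
      rw [this]; exact mul_mem ha hb
    | inv a _ ha =>
      have : c * a⁻¹ * c⁻¹ = (c * a * c⁻¹)⁻¹ := by group
      rw [this]; exact inv_mem ha
  have hdec : ∀ n ∈ N, ∃ y ∈ Q ⊔ Qv, ∃ c ∈ C, n = y * c := by
    intro n hn
    obtain ⟨y, hy, hyσ⟩ := hsurj (φ ⟨n, hn⟩)
    refine ⟨y, hy, (y : G)⁻¹ * n, ?_, by group⟩
    have := (hker (y⁻¹ * ⟨n, hn⟩)).1 (by rw [map_mul, map_inv, hyσ, inv_mul_cancel])
    simpa using this
  have hcommR : ∀ x ∈ Q ⊔ Qv, ∀ c ∈ C, x * c * x⁻¹ * c⁻¹ ∈ R := by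
    intro x hx' c hc
    refine hmem _ ?_ (C.mul_mem (hNCconj x (hXN hx') c hc) (C.inv_mem hc))
    have := mul_mem hx' (hCX c hc _ (inv_mem hx'))
    simpa [mul_assoc] using this
  refine ⟨le_antisymm (le_inf hRX hRC) (fun y hy => hmem y hy.1 hy.2), ?_, ⟨hRn, ?_⟩, ?_, ?_, ?_, ?_, ?_⟩
  · -- the radical is `O_2`
    refine le_antisymm (fun r hr => ?_) ?_
    · refine ⟨⟨r, hRX hr⟩, ?_, rfl⟩
      have h2 : IsPGroup 2 R := by
        refine IsPGroup.to_sup_of_normal_right' (hH := h.right.two.to_le inf_le_left)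
          (hK := h.left.two.to_le inf_le_left) ?_
        intro p hp
        have hpz := Subgroup.mem_centralizer_singleton_iff.1 hp.2
        have hpv := h.right.central p hp.1
        refine Subgroup.mem_normalizer_iff.2 fun q => ?_
        have key : ∀ a : G, a * z = z * a → a * v = v * a → ∀ b ∈ Q ⊓ Subgroup.centralizer ({v} : Set G),
            a * b * a⁻¹ ∈ Q ⊓ Subgroup.centralizer ({v} : Set G) := by
          intro a haz hav b hb
          refine ⟨h.left.norm a haz b hb.1, Subgroup.mem_centralizer_singleton_iff.2 ?_⟩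
          have hbv : Commute b v := Subgroup.mem_centralizer_singleton_iff.1 hb.2
          exact (((show Commute a v from hav).mul_left hbv).mul_left (Commute.inv_left hav)).eq
        refine ⟨fun hq => key p hpz hpv q hq, fun hq => ?_⟩
        have := key p⁻¹ (Commute.inv_left (show Commute p z from hpz)).eq
          (Commute.inv_left (show Commute p v from hpv)).eq _ hq
        simpa [mul_assoc] using this
      have hle : R.subgroupOf (Q ⊔ Qv) ≤ Cfsg.pCore 2 ↥(Q ⊔ Qv) :=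
        le_sSup ⟨hRn, h2.of_equiv (Subgroup.subgroupOfEquivOfLe hRX).symm⟩
      exact hle (Subgroup.mem_subgroupOf.2 hr)
    · rintro _ ⟨y, hy, rfl⟩
      have hM : ((Cfsg.pCore 2 ↥(Q ⊔ Qv)).map ψ).Normal := Subgroup.Normal.map inferInstance ψ hψs
      have hM2 := (pCore_isPGroup 2 ↥(Q ⊔ Qv)).map ψ
      refine hmem y y.2 ((hker (Subgroup.inclusion hXN y)).1 ?_)
      have hψy : ψ y ∈ (Cfsg.pCore 2 ↥(Q ⊔ Qv)).map ψ := ⟨y, hy, rfl⟩
      have hsmall : ∀ σ : Equiv.Perm (Fin 3), σ ≠ 1 → (σ ^ 3 = 1) ∨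
          ∃ τ : Equiv.Perm (Fin 3), σ * (τ * σ * τ⁻¹) ≠ 1 ∧ (σ * (τ * σ * τ⁻¹)) ^ 3 = 1 := by decide +kernel
      have hno3 : ∀ σ ∈ (Cfsg.pCore 2 ↥(Q ⊔ Qv)).map ψ, σ ^ 3 = 1 → σ = 1 := by
        intro σ hσ h3
        obtain ⟨k, hk⟩ := hM2 ⟨σ, hσ⟩
        have h1 : orderOf σ ∣ 2 ^ k := orderOf_dvd_of_pow_eq_one (by simpa using congrArg Subtype.val hk)
        have h2 : orderOf σ ∣ 3 := orderOf_dvd_of_pow_eq_one h3
        exact orderOf_eq_one_iff.1 (Nat.eq_one_of_dvd_coprimes (Nat.Coprime.pow_left k (by norm_num)) h1 h2)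
      show ψ y = 1
      by_contra hne
      rcases hsmall _ hne with h3 | ⟨τ, hτ1, hτ3⟩
      · exact hne (hno3 _ hψy h3)
      · exact hτ1 (hno3 _ (mul_mem hψy (hM.conj_mem _ hψy τ)) hτ3)
  · exact ⟨(QuotientGroup.quotientMulEquivOfEq hψk.symm).trans (QuotientGroup.quotientKerEquivOfSurjective ψ hψs)⟩
  · refine le_antisymm (fun n hn => ?_) (sup_le hXN (inf_le_right.trans hCN))
    obtain ⟨y, hy, c, hc, rfl⟩ := hdec n hn
    exact Subgroup.mul_mem_sup hy (hzC.symm ▸ hc)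
  · intro n hn x hx'
    obtain ⟨y, hy, c, hc, rfl⟩ := hdec n hn
    have := mul_mem (mul_mem hy (hCX c hc x hx')) (inv_mem hy)
    simpa [mul_assoc] using this
  · rw [hzC]; exact hRC
  · intro x hx' c hc
    exact hcommR x hx' c hc.2
  · rw [hzC]; exact le_antisymm (fun y hy => hmem y hy.1 hy.2) (le_inf hRX hRC)

end Cfsg.Agent.S5430
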