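import Cfsg.Statements.S5433
import Cfsg.Agent.Lib.LargeXSpecial.Pair

set_option autoImplicit false
open Cfsg

namespace Cfsg.Agent.S5433

open CfsgLib.LargeXS

/-- Let Q be a large extraspecial 2-subgroup of the finite group G (extraspecial; centralizer equal to its centre; normal in the centralizer of its centre; normalizing no non-trivial subgroup of odd order), and L a normal subgroup of G containing Q. Then G is the product of L and the normalizer of Q. -/
theorem result {G : Type*} [Group G] [Finite G] (Q : Subgroup G) (hQ : Cfsg.IsLargeExtraspecial Q) (L : Subgroup G) [L.Normal] (hQL : Q ≤ L) : L ⊔ Subgroup.normalizer (Q : Set G) = ⊤ := by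
  haveI : Fact (Nat.Prime 2) := ⟨Nat.prime_two⟩
  obtain ⟨hE, hC, hN, -⟩ := hQ
  obtain ⟨z, hz⟩ := exists_center_gen hE
  have h := xpair_of hE hC hN hz
  have hQ2 : IsPGroup 2 (Q.subgroupOf L) := h.two.of_equiv (Subgroup.subgroupOfEquivOfLe hQL).symm
  obtain ⟨S, hS⟩ := hQ2.exists_le_sylow
  set SG := (S : Subgroup L).map L.subtype with hSG
  have hQS : Q ≤ SG := fun q hq => ⟨⟨q, hQL hq⟩, hS (by simpa [Subgroup.mem_subgroupOf] using hq), rfl⟩
  have htop : Subgroup.normalizer (SG : Set G) ⊔ L = ⊤ := Sylow.normalizer_sup_eq_top S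
  rw [eq_top_iff, ← htop, sup_comm]
  refine sup_le le_sup_left (le_sup_of_le_right fun g hg => h.le_normalizer g ?_)
  -- the centre of `SG` is `⟨z⟩`
  have hne : Nontrivial SG := by
    refine (Subgroup.nontrivial_iff_exists_ne_one SG).2 ⟨z, hQS h.mem, h.ne_one⟩
  obtain ⟨⟨c, hc⟩, hc1⟩ := (nontrivial_iff_exists_ne (1 : Subgroup.center SG)).1
    (IsPGroup.center_nontrivial (S.isPGroup'.map L.subtype : IsPGroup 2 SG))
  have hcQ : ∀ (y : SG), y ∈ Subgroup.center SG → (y : G) = 1 ∨ (y : G) = z := fun y hy =>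
    h.selfCent _ fun q hq => congrArg Subtype.val (Subgroup.mem_center_iff.1 hy ⟨q, hQS hq⟩)
  have hzc : (c : G) = z := (hcQ c hc).resolve_left fun e => hc1 (Subtype.ext (Subtype.ext e))
  have hgc : g * z * g⁻¹ ∈ SG := (Subgroup.mem_normalizer_iff.1 hg z).1 (hQS h.mem)
  have hcen : (⟨g * z * g⁻¹, hgc⟩ : SG) ∈ Subgroup.center SG := by
    rw [Subgroup.mem_center_iff]
    rintro ⟨s, hs⟩
    apply Subtype.ext
    have hs' : g⁻¹ * s * g ∈ SG := by
      have := (Subgroup.mem_normalizer_iff.1 (inv_mem hg) s).1 hs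
      simpa using this
    have := congrArg Subtype.val (Subgroup.mem_center_iff.1 hc ⟨_, hs'⟩)
    simp only [Subgroup.coe_mul, hzc] at this
    show s * (g * z * g⁻¹) = g * z * g⁻¹ * s
    calc s * (g * z * g⁻¹) = g * (g⁻¹ * s * g * z) * g⁻¹ := by group
      _ = g * (z * (g⁻¹ * s * g)) * g⁻¹ := by rw [this]
      _ = g * z * g⁻¹ * s := by group
  rcases hcQ _ hcen with e | e
  · exact absurd (conj_eq_one_iff.1 e) h.ne_one
  · exact mul_inv_eq_iff_eq_mul.1 e

end Cfsg.Agent.S5433
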