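import Cfsg.Statements.S5436
import Cfsg.Agent.Lib.LargeXS.Simple

set_option autoImplicit false
open Cfsg

namespace Cfsg.Agent.S5436

open Subgroup CfsgLib.LargeXS

/-- Let z be an involution of the finite group G with centralizer H whose generalized Fitting subgroup Q is extraspecial of width at least 2 (order 2^(2w+1), w ≥ 2); suppose some conjugate of z other than z lies in Q, H/Q is a non-abelian simple group, H acts irreducibly by conjugation on Q modulo the subgroup generated by z (the only H-invariant subgroups of Q containing z are that subgroup and Q), and Q is not the subgroup generated by the conjugates of z lying in H. Then G is simple. -/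
theorem result {G : Type*} [Group G] [Finite G] (z : G) (hz : orderOf z = 2) (Q : Subgroup (Subgroup.centralizer ({z} : Set G))) [Q.Normal] (hF : Cfsg.generalizedFittingSubgroup ↥(Subgroup.centralizer ({z} : Set G)) = Q) (hQ : Cfsg.IsExtraspecial 2 ↥Q) (w : ℕ) (hw : 2 ≤ w) (hcard : Nat.card ↥Q = 2 ^ (2 * w + 1)) (hnwc : ∃ g : G, (∃ hq : g * z * g⁻¹ ∈ Subgroup.centralizer ({z} : Set G), (⟨g * z * g⁻¹, hq⟩ : Subgroup.centralizer ({z} : Set G)) ∈ Q) ∧ g * z * g⁻¹ ≠ z) (hsimp : IsSimpleGroup (↥(Subgroup.centralizer ({z} : Set G)) ⧸ Q)) (hna : ¬ IsMulCommutative (↥(Subgroup.centralizer ({z} : Set G)) ⧸ Q)) (hirr : ∀ W : Subgroup (Subgroup.centralizer ({z} : Set G)), W.Normal → W ≤ Q → (W = Q ∨ ∀ x ∈ W, (x : G) ∈ Subgroup.zpowers z)) (hwcl : Subgroup.closure {x : Subgroup.centralizer ({z} : Set G) | IsConj z (x : G)} ≠ Q) : IsSimpleGroup G := by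
  set Q' : Subgroup G := Q.map (centralizer ({z} : Set G)).subtype with hQ'
  have hQ'E : Cfsg.IsExtraspecial 2 ↥Q' := by
    obtain ⟨⟨hp, hf, hc⟩, hcard⟩ := hQ
    let e : ↥Q ≃* ↥Q' := Q.equivMapOfInjective (centralizer ({z} : Set G)).subtype (Subgroup.subtype_injective _)
    have hcen : (Subgroup.center ↥Q).map e.toMonoidHom = Subgroup.center ↥Q' := by
      refine le_antisymm ?_ ?_
      · rintro _ ⟨x, hx, rfl⟩
        refine mem_center_iff.2 fun y => ?_
        obtain ⟨y, rfl⟩ := e.surjective y
        simp only [MulEquiv.coe_toMonoidHom, ← map_mul, mem_center_iff.1 hx y]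
      · intro y hy
        obtain ⟨x, rfl⟩ := e.surjective y
        exact ⟨x, mem_center_iff.2 fun a => e.injective (by rw [map_mul, map_mul, mem_center_iff.1 hy]), rfl⟩
    have hfr : (frattini ↥Q).map e.toMonoidHom = frattini ↥Q' := by
      refine le_antisymm (map_le_iff_le_comap.2 (frattini_le_comap_frattini_of_surjective e.surjective)) ?_
      intro y hy
      exact ⟨e.symm y, frattini_le_comap_frattini_of_surjective (φ := e.symm.toMonoidHom) e.symm.surjective hy,
        e.apply_symm_apply y⟩
    refine ⟨⟨hp.of_equiv e, ?_, ?_⟩, ?_⟩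
    · rw [← hfr, hf, hcen]
    · rw [← hcen, ← hc, commutator_def, commutator_def, Subgroup.map_commutator,
        Subgroup.map_top_of_surjective e.toMonoidHom e.surjective]
    · rw [← hcen, card_map_of_injective (f := e.toMonoidHom) e.injective, hcard]
  have h : Base Q' z := base_of hz (map_subtype_le Q) (by rw [hF]) hQ'E
  refine h.isSimpleGroup (fun N hN hzN => ?_) fun N hN hzN => ?_
  · set S := {x : (centralizer ({z} : Set G)) | IsConj z (x : G)} with hS
    have hWn : (closure S).Normal := ⟨fun x hx g => by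
      induction hx using closure_induction with
      | mem y hy =>
        refine subset_closure ?_
        exact (show IsConj z (y : G) from hy).trans (isConj_iff.2 ⟨g, rfl⟩)
      | one => simp
      | mul a b _ _ iha ihb => simpa using mul_mem iha ihb
      | inv a _ iha => simpa [mul_assoc] using inv_mem iha⟩
    have hQW : Q ≤ closure S := by
      obtain ⟨g, ⟨hq, hgQ⟩, hne⟩ := hnwc
      rcases hirr (Q ⊓ closure S) inferInstance inf_le_left with e | e
      · exact e ▸ inf_le_right
      · have hh : g * z * g⁻¹ ∈ zpowers z :=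
          e ⟨g * z * g⁻¹, hq⟩ ⟨hgQ, subset_closure (isConj_iff.2 ⟨g, rfl⟩)⟩
        rcases (mem_zpowers_iff_eq h.extra h.center_eq).1 hh with e' | e'
        · exact absurd (conj_eq_one_iff.1 e') h.pair.ne_one
        · exact absurd e' hne
    have htop : closure S = ⊤ := by
      rcases (hWn.map (QuotientGroup.mk' Q) (QuotientGroup.mk'_surjective Q)).eq_bot_or_eq_top with e | e
      · rw [Subgroup.map_eq_bot_iff, QuotientGroup.ker_mk'] at e
        exact absurd (le_antisymm e hQW) hwcl
      · have := comap_map_eq (QuotientGroup.mk' Q) (closure S)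
        rw [e, comap_top, QuotientGroup.ker_mk', sup_eq_left.2 hQW] at this
        exact this.symm
    intro x hx
    have hle : closure S ≤ N.comap (centralizer ({z} : Set G)).subtype := (closure_le _).2 fun y hy => by
      obtain ⟨c, hc⟩ := isConj_iff.1 (show IsConj z (y : G) from hy)
      show (y : G) ∈ N
      exact hc ▸ hN.conj_mem z hzN c
    exact hle (htop.symm ▸ mem_top (⟨x, hx⟩ : (centralizer ({z} : Set G))))
  · obtain ⟨g, ⟨hq, hgQ⟩, hne⟩ := hnwc
    exact h.eq_bot_of_conj_mem hzN (g := g) ⟨⟨g * z * g⁻¹, hq⟩, hgQ, rfl⟩ hne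

end Cfsg.Agent.S5436
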