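import Cfsg.Statements.S5437

set_option autoImplicit false
open Cfsg

namespace Cfsg.Agent.S5437

/-- Let I be a set of involutions of the finite group G closed under conjugation, and H a subgroup of G. The following are equivalent: (1) for every member x of I lying in H, the conjugates of x lying in H form a single H-class and the centralizer of x lies in H; (2) for every g outside H, no member of I lies in both H and g H g⁻¹; (3) every member of I lying in H fixes exactly one coset in the action of G on the cosets of H. -/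
theorem result {G : Type*} [Group G] [Finite G] (I : Set G) (hI : ∀ x ∈ I, orderOf x = 2) (hIc : ∀ g : G, ∀ x ∈ I, g * x * g⁻¹ ∈ I) (H : Subgroup G) : ((∀ x ∈ I, x ∈ H → (∀ g : G, g * x * g⁻¹ ∈ H → ∃ h ∈ H, h * x * h⁻¹ = g * x * g⁻¹) ∧ Subgroup.centralizer ({x} : Set G) ≤ H) ↔ (∀ g : G, g ∉ H → ∀ x ∈ I, ¬ (x ∈ H ∧ x ∈ (H : Subgroup G).map (MulAut.conj g).toMonoidHom))) ∧ ((∀ g : G, g ∉ H → ∀ x ∈ I, ¬ (x ∈ H ∧ x ∈ (H : Subgroup G).map (MulAut.conj g).toMonoidHom)) ↔ ∀ x ∈ I, x ∈ H → ∃! c : G ⧸ H, x • c = c) := by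
  have hmem : ∀ (g x : G), x ∈ (H : Subgroup G).map (MulAut.conj g).toMonoidHom ↔ g⁻¹ * x * g ∈ H := by
    intro g x
    rw [Subgroup.mem_map]
    constructor
    · rintro ⟨y, hy, rfl⟩
      simpa [MulAut.conj_apply, mul_assoc] using hy
    · intro h
      exact ⟨g⁻¹ * x * g, h, by simp [MulAut.conj_apply, mul_assoc]⟩
  have hfix : ∀ (g x : G), x • (g : G ⧸ H) = (g : G ⧸ H) ↔ g⁻¹ * x * g ∈ H := by
    intro g x
    rw [MulAction.Quotient.smul_coe, smul_eq_mul, eq_comm, QuotientGroup.eq, ← mul_assoc]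
  refine ⟨⟨?_, ?_⟩, ⟨?_, ?_⟩⟩
  · intro h1 g hg x hx
    rintro ⟨hxH, hxg⟩
    rw [hmem] at hxg
    obtain ⟨h, hh, heq⟩ := (h1 x hx hxH).1 g⁻¹ (by simpa using hxg)
    have hc : g * h ∈ Subgroup.centralizer ({x} : Set G) := by
      rw [Subgroup.mem_centralizer_singleton_iff]
      have : g * (h * x * h⁻¹) * g⁻¹ = x := by rw [heq]; group
      calc g * h * x = g * (h * x * h⁻¹) * g⁻¹ * (g * h) := by group
        _ = x * (g * h) := by rw [this]
    have := (h1 x hx hxH).2 hc
    exact hg ((Subgroup.mul_mem_cancel_right H hh).1 this)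
  · intro h2 x hx hxH
    refine ⟨fun g hg => ?_, fun g hg => ?_⟩
    · refine ⟨g, ?_, rfl⟩
      by_contra hgH
      have hg' : g⁻¹ ∉ H := fun h => hgH (by simpa using H.inv_mem h)
      exact h2 g⁻¹ hg' x hx ⟨hxH, (hmem _ _).2 (by simpa using hg)⟩
    · by_contra hgH
      refine h2 g hgH x hx ⟨hxH, (hmem _ _).2 ?_⟩
      rw [Subgroup.mem_centralizer_singleton_iff] at hg
      have : g⁻¹ * x * g = x := by rw [mul_assoc, ← hg]; group
      rw [this]; exact hxH
  · intro h2 x hx hxH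
    refine ⟨((1 : G) : G ⧸ H), (hfix 1 x).2 (by simpa using hxH), ?_⟩
    intro c hc
    induction c using QuotientGroup.induction_on with
    | _ g =>
      rw [QuotientGroup.eq, mul_one]
      apply H.inv_mem
      by_contra hgH
      exact h2 g hgH x hx ⟨hxH, (hmem _ _).2 ((hfix g x).1 hc)⟩
  · intro h3 g hg x hx
    rintro ⟨hxH, hxg⟩
    obtain ⟨c, _, hu⟩ := h3 x hx hxH
    have e1 : ((1 : G) : G ⧸ H) = c := hu _ ((hfix 1 x).2 (by simpa using hxH))
    have e2 : (g : G ⧸ H) = c := hu _ ((hfix g x).2 ((hmem _ _).1 hxg))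
    have := QuotientGroup.eq.1 (e1.trans e2.symm)
    exact hg (by simpa using this)

end Cfsg.Agent.S5437
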