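import Cfsg.Statements.S5438

set_option autoImplicit false
open Cfsg

namespace Cfsg.Agent.S5438

/-- Let z be a 2-central involution of the finite group G (an involution central in some Sylow 2-subgroup) and H a subgroup containing z such that the coset H is the only coset of H fixed by z (in the action of G on the cosets of H). Then H has odd index in G, and for every 2-element x of H the conjugates of x lying in H form a single H-class. -/
theorem result {G : Type*} [Group G] [Finite G] (z : G) (hz : Cfsg.IsTwoCentralInvolution z) (H : Subgroup G) (hzH : z ∈ H) (hfix : ∀ g : G, g⁻¹ * z * g ∈ H → g ∈ H) : Odd H.index ∧ ∀ x ∈ H, (∃ k : ℕ, orderOf x = 2 ^ k) → ∀ g : G, g * x * g⁻¹ ∈ H → ∃ h ∈ H, h * x * h⁻¹ = g * x * g⁻¹ := by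
  haveI : Fact (Nat.Prime 2) := ⟨Nat.prime_two⟩
  obtain ⟨hz2, P, hzP, hPc⟩ := hz
  have hCz : ∀ g : G, g * z = z * g → g ∈ H := fun g hg => hfix g (by
    rw [mul_assoc, ← hg, inv_mul_cancel_left]; exact hzH)
  have hPH : (P : Subgroup G) ≤ H := fun x hx => hCz x (hPc x hx)
  constructor
  · have h1 : Odd (P : Subgroup G).index := Nat.not_even_iff_odd.1 fun he =>
      P.not_dvd_index (even_iff_two_dvd.1 he)
    exact h1.of_dvd_nat (Subgroup.index_dvd_of_le hPH)
  rintro x hx ⟨k, hk⟩ g hg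
  -- move a 2-element of `H` into `P` inside `H`
  have intoP : ∀ y ∈ H, orderOf y = 2 ^ k → ∃ h ∈ H, h * y * h⁻¹ ∈ (P : Subgroup G) := by
    intro y hy hyk
    have h2 : IsPGroup 2 (Subgroup.zpowers (⟨y, hy⟩ : H)) :=
      IsPGroup.of_card (n := k) (by rw [Nat.card_zpowers, Subgroup.orderOf_mk, hyk])
    obtain ⟨S, hS⟩ := h2.exists_le_sylow
    obtain ⟨a, ha⟩ := MulAction.exists_smul_eq H S (P.subtype hPH)
    refine ⟨a, a.2, ?_⟩
    have : a * ⟨y, hy⟩ * a⁻¹ ∈ ((P.subtype hPH : Sylow 2 H) : Subgroup H) := by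
      rw [← ha, Sylow.coe_subgroup_smul]
      exact ⟨⟨y, hy⟩, hS (Subgroup.mem_zpowers _), rfl⟩
    simpa [Sylow.coe_subtype, Subgroup.mem_subgroupOf] using this
  obtain ⟨h1, hh1, hx1⟩ := intoP x hx hk
  obtain ⟨h2, hh2, hx2⟩ := intoP (g * x * g⁻¹) hg
    (by rw [← hk]; exact orderOf_injective (MulAut.conj g).toMonoidHom (MulAut.conj g).injective x)
  set x' := h1 * x * h1⁻¹ with hx'
  set g' := h2 * g * h1⁻¹ with hg'
  have hgx : g' * x' * g'⁻¹ = h2 * (g * x * g⁻¹) * h2⁻¹ := by rw [hg', hx']; group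
  have key : ∃ c, c * x' = x' * c ∧ g' * c⁻¹ ∈ H := by
    set C := Subgroup.centralizer ({x'} : Set G) with hC
    have hzC : z ∈ C := Subgroup.mem_centralizer_singleton_iff.2 (hPc x' hx1).symm
    have hwC : g'⁻¹ * z * g' ∈ C := by
      refine Subgroup.mem_centralizer_singleton_iff.2 ?_
      have hcc : (g' * x' * g'⁻¹) * z = z * (g' * x' * g'⁻¹) := hPc _ (hgx ▸ hx2)
      calc g'⁻¹ * z * g' * x' = g'⁻¹ * (z * (g' * x' * g'⁻¹)) * g' := by group
        _ = g'⁻¹ * ((g' * x' * g'⁻¹) * z) * g' := by rw [hcc]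
        _ = x' * (g'⁻¹ * z * g') := by group
    set HC := H.subgroupOf C with hHC
    have hzpow : IsPGroup 2 (Subgroup.zpowers (⟨⟨z, hzC⟩, hzH⟩ : HC)) :=
      IsPGroup.of_card (n := 1) (by rw [Nat.card_zpowers, ← Subgroup.orderOf_coe, ← Subgroup.orderOf_coe, hz2, pow_one])
    obtain ⟨S0, hS0⟩ := hzpow.exists_le_sylow
    set S := (S0 : Subgroup HC).map HC.subtype with hS
    have hS2 : IsPGroup 2 S := S0.isPGroup'.map _
    have hzS : (⟨z, hzC⟩ : C) ∈ S := ⟨⟨⟨z, hzC⟩, hzH⟩, hS0 (Subgroup.mem_zpowers _), rfl⟩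
    have hSHC : S ≤ HC := Subgroup.map_subtype_le _
    obtain ⟨T, hT⟩ := hS2.exists_le_sylow
    have hST : S = (T : Subgroup C) := by
      by_contra hne
      -- `T` normalizes a proper subgroup strictly containing it
      set S' := S.subgroupOf (T : Subgroup C) with hS'
      have hlt : S' < ⊤ := lt_of_le_of_ne le_top fun h => hne (le_antisymm hT (Subgroup.subgroupOf_eq_top.1 h))
      haveI : Group.IsNilpotent (T : Subgroup C) := T.isPGroup'.isNilpotent
      have hgrow := Group.normalizerCondition_of_isNilpotent S' hlt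
      obtain ⟨t, ht, htS⟩ := SetLike.exists_of_lt hgrow
      apply htS
      -- `t` conjugates `z` into `S ≤ H`, so lies in `H`; and `S` is maximal in `H ∩ C`
      have hnormS : ∀ u : (T : Subgroup C), u ∈ Subgroup.normalizer (S' : Set _) → (u : C) ∈ HC := by
        intro u hu
        have h' := (Subgroup.mem_normalizer_iff.1 (inv_mem hu) ⟨⟨z, hzC⟩, hT hzS⟩).1 hzS
        rw [inv_inv] at h'
        have h'' : ((u : C) : G)⁻¹ * z * ((u : C) : G) ∈ H := Subgroup.mem_subgroupOf.1 (hSHC h')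
        exact Subgroup.mem_subgroupOf.2 (hfix _ h'')
      set N := (Subgroup.normalizer (S' : Set (T : Subgroup C))).map (T : Subgroup C).subtype with hN
      have hN2 : IsPGroup 2 N := (T.isPGroup'.to_subgroup _).map _
      have hNHC : N ≤ HC := by rintro _ ⟨u, hu, rfl⟩; exact hnormS u hu
      have hS0max := S0.is_maximal' (Q := N.subgroupOf HC) (hN2.of_equiv (Subgroup.subgroupOfEquivOfLe hNHC).symm) ?_
      · have : (⟨(t : C), hnormS t ht⟩ : HC) ∈ (S0 : Subgroup HC) := by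
          rw [← hS0max]; exact ⟨t, ht, rfl⟩
        exact ⟨_, this, rfl⟩
      · intro y hy
        refine ⟨⟨(y : C), hT ⟨y, hy, rfl⟩⟩, Subgroup.le_normalizer ?_, rfl⟩
        exact ⟨y, hy, rfl⟩
    obtain ⟨c, hc⟩ : ∃ c : C, c * ⟨g'⁻¹ * z * g', hwC⟩ * c⁻¹ ∈ S := by
      have hw2 : IsPGroup 2 (Subgroup.zpowers (⟨_, hwC⟩ : C)) :=
        IsPGroup.of_card (n := 1) (by
          rw [Nat.card_zpowers, Subgroup.orderOf_mk, pow_one, ← hz2]
          exact orderOf_injective (MulAut.conj g'⁻¹).toMonoidHom (MulAut.conj g'⁻¹).injective z |>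
            fun e => by simpa using e)
      obtain ⟨T', hT'⟩ := hw2.exists_le_sylow
      obtain ⟨c, hc⟩ := MulAction.exists_smul_eq C T' T
      refine ⟨c, ?_⟩
      rw [hST, ← hc, Sylow.coe_subgroup_smul]
      exact ⟨_, hT' (Subgroup.mem_zpowers _), rfl⟩
    refine ⟨c, Subgroup.mem_centralizer_singleton_iff.1 c.2, hfix _ ?_⟩
    have hm : ((c * ⟨g'⁻¹ * z * g', hwC⟩ * c⁻¹ : C) : G) ∈ H := Subgroup.mem_subgroupOf.1 (hSHC hc)
    convert hm using 1
    simp [mul_assoc]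
  obtain ⟨c, hc, hcH⟩ := key
  refine ⟨h2⁻¹ * (g' * c⁻¹) * h1, H.mul_mem (H.mul_mem (H.inv_mem hh2) hcH) hh1, ?_⟩
  calc h2⁻¹ * (g' * c⁻¹) * h1 * x * (h2⁻¹ * (g' * c⁻¹) * h1)⁻¹
      = h2⁻¹ * g' * (c⁻¹ * (x' * c)) * g'⁻¹ * h2 := by rw [hx']; group
    _ = h2⁻¹ * g' * (c⁻¹ * (c * x')) * g'⁻¹ * h2 := by rw [hc]
    _ = h2⁻¹ * (g' * x' * g'⁻¹) * h2 := by group
    _ = g * x * g⁻¹ := by rw [hgx]; group

end Cfsg.Agent.S5438
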