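import Cfsg.Statements.S5439
import Cfsg.Agent.Lib.ThreeTransp.Basic

set_option autoImplicit false
open Cfsg

namespace Cfsg.Agent.S5439

open CfsgLib.ThreeTransp

/-- Let I and J be two different conjugacy classes of involutions of the finite group G and H a subgroup such that every member of I ∪ J fixes exactly one coset in the action on the cosets of H, and such that for every a in I ∩ H and every b in (I ∪ J) ∩ H different from a and commuting with it, the centralizer of a b lies in H. Then H = G. -/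
theorem result {G : Type*} [Group G] [Finite G] (I J : Set G) (a₀ b₀ : G) (ha₀ : orderOf a₀ = 2) (hb₀ : orderOf b₀ = 2) (hI : I = {x | IsConj a₀ x}) (hJ : J = {x | IsConj b₀ x}) (hIJ : I ≠ J) (H : Subgroup G) (hfix : ∀ x ∈ I ∪ J, ∃! c : G ⧸ H, x • c = c) (hcent : ∀ a ∈ I, a ∈ H → ∀ b ∈ I ∪ J, b ∈ H → a ≠ b → a * b = b * a → Subgroup.centralizer ({a * b} : Set G) ≤ H) : H = ⊤ := by
  have hII : ∀ (g : G), ∀ x ∈ I ∪ J, g * x * g⁻¹ ∈ I ∪ J := by
    intro g x hx
    subst hI hJ
    have : IsConj x (g * x * g⁻¹) := isConj_iff.2 ⟨g, rfl⟩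
    exact hx.imp (fun h => h.trans this) (fun h => h.trans this)
  have hinv : ∀ x ∈ I ∪ J, orderOf x = 2 := by
    intro x hx
    subst hI hJ
    rcases hx with h | h <;> obtain ⟨c, rfl⟩ := isConj_iff.1 h
    · rw [← ha₀]; exact orderOf_injective (MulAut.conj c).toMonoidHom (MulAut.conj c).injective a₀
    · rw [← hb₀]; exact orderOf_injective (MulAut.conj c).toMonoidHom (MulAut.conj c).injective b₀
  have hfixiff : ∀ (g x : G), x • (g : G ⧸ H) = (g : G ⧸ H) ↔ g⁻¹ * x * g ∈ H := by
    intro g x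
    rw [MulAction.Quotient.smul_coe, smul_eq_mul, eq_comm, QuotientGroup.eq, ← mul_assoc]
  -- an element of `I` inside `H`
  obtain ⟨a, haI, haH⟩ : ∃ a ∈ I, a ∈ H := by
    obtain ⟨c, hc, -⟩ := hfix a₀ (Or.inl (by rw [hI]; exact IsConj.refl _))
    induction c using QuotientGroup.induction_on with
    | _ g => exact ⟨g⁻¹ * a₀ * g, by rw [hI]; exact isConj_iff.2 ⟨g⁻¹, by simp⟩, (hfixiff g a₀).1 hc⟩
  -- an element of `I ∪ J` commuting with one of them inside `H` is inside `H`
  have hmem : ∀ x ∈ I ∪ J, x ∈ H → ∀ y ∈ I ∪ J, x * y = y * x → y ∈ H := by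
    intro x hx hxH y hy hxy
    obtain ⟨c, hc, hu⟩ := hfix x hx
    have e1 : ((1 : G) : G ⧸ H) = c := hu _ ((hfixiff 1 x).2 (by simpa using hxH))
    have e2 : y • c = c := hu _ (show x • (y • c) = y • c by rw [← mul_smul, hxy, mul_smul, hc])
    rw [← e1] at e2
    simpa using (hfixiff 1 y).1 e2
  -- `J ⊆ H`
  have hJH : ∀ b ∈ J, b ∈ H := by
    intro b hb
    have hbI : ¬ IsConj a b := by
      intro h
      apply hIJ
      have h1 : IsConj a₀ b₀ := by
        rw [hI] at haI; rw [hJ] at hb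
        exact (haI.trans h).trans hb.symm
      rw [hI, hJ]
      ext y
      exact ⟨fun h2 => h1.symm.trans h2, fun h2 => h1.trans h2⟩
    have ha2 : orderOf a = 2 := hinv a (Or.inl haI)
    have hb2 : orderOf b = 2 := hinv b (Or.inr hb)
    set r := a * b with hr
    have hinvr : a * r * a⁻¹ = r⁻¹ := conj_mul_eq_inv ha2 hb2
    have hbr : b = a * r := by rw [hr, ← mul_assoc, mul_self_eq_one ha2, one_mul]
    have heven : Even (orderOf r) := by
      by_contra hodd
      obtain ⟨m, hm⟩ := Nat.not_even_iff_odd.1 hodd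
      refine hbI (isConj_iff.2 ⟨(r ^ (((m : ℤ) + 1)))⁻¹, ?_⟩)
      rw [inv_inv, ← zpow_neg, inv_zpow_mul_mul_zpow hinvr]
      rw [show (2 : ℤ) * ((m : ℤ) + 1) = ((2 * m + 1 : ℕ) : ℤ) + 1 by push_cast; ring, zpow_add_one,
        zpow_natCast, ← hm, pow_orderOf_eq_one, one_mul, ← hbr]
    obtain ⟨k, hk⟩ := heven
    set w := r ^ k with hw
    have hw2 : w * w = 1 := by rw [hw, ← pow_add, ← hk, pow_orderOf_eq_one]
    have hw1 : w ≠ 1 := fun h1 => by
      have h0 : 0 < orderOf r := orderOf_pos r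
      have := Nat.le_of_dvd (by omega) (orderOf_dvd_of_pow_eq_one h1)
      omega
    have hwa : a * w = w * a := by
      have : a * w * a⁻¹ = w := by
        rw [hw, ← conj_pow, hinvr, inv_pow]
        exact inv_eq_of_mul_eq_one_right hw2
      exact mul_inv_eq_iff_eq_mul.1 this
    have hwb : b * w = w * b :=
      (hbr ▸ (Commute.mul_left hwa ((Commute.refl r).pow_right k)) : Commute b w).eq
    have hawIJ : a * w ∈ I ∪ J := by
      obtain ⟨j, hj⟩ := Nat.even_or_odd' k
      have key := inv_zpow_mul_mul_zpow hinvr (j : ℤ)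
      rcases hj with hj | hj
      · have := hII (r ^ (j : ℤ))⁻¹ a (Or.inl haI)
        rw [inv_inv, ← zpow_neg, key] at this
        rw [hw, hj, ← zpow_natCast]; exact_mod_cast this
      · have := hII (r ^ (j : ℤ))⁻¹ b (Or.inr hb)
        have e : (r ^ (j : ℤ))⁻¹ * b * (r ^ (j : ℤ))⁻¹⁻¹ = a * w := by
          rw [hw, hj, pow_succ, ← mul_assoc a, ← zpow_natCast, Nat.cast_mul, Nat.cast_ofNat, ← key, hbr]
          group
        rwa [e] at this
    have haw : a * (a * w) = w := by rw [← mul_assoc, mul_self_eq_one ha2, one_mul]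
    have hcomm : a * (a * w) = a * w * a := by rw [haw, hwa, mul_assoc, mul_self_eq_one ha2, mul_one]
    have hawH : a * w ∈ H := hmem a (Or.inl haI) haH _ hawIJ hcomm
    have hCw := hcent a haI haH (a * w) hawIJ hawH (fun e => hw1 (by simpa using e.symm)) hcomm
    rw [haw] at hCw
    exact hCw (Subgroup.mem_centralizer_singleton_iff.2 hwb)
  rw [eq_top_iff]
  intro g _
  have hbJ : b₀ ∈ J := by rw [hJ]; exact IsConj.refl _
  obtain ⟨c, -, hu⟩ := hfix b₀ (Or.inr hbJ)
  have hfixall : ∀ g : G, ((g : G) : G ⧸ H) = c := by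
    intro g
    refine hu _ ((hfixiff g b₀).2 (hJH _ ?_))
    rw [hJ]
    exact isConj_iff.2 ⟨g⁻¹, by simp⟩
  simpa using QuotientGroup.eq.1 ((hfixall 1).trans (hfixall g).symm)

end Cfsg.Agent.S5439
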