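import Cfsg.Statements.S5452
import Cfsg.Agent.Lib.U6Cover.Lift
import Cfsg.Agent.S0279

set_option autoImplicit false
open Cfsg

namespace Cfsg.Agent.S5452

/-- Let G be a finite group with an involution d whose centralizer C is quasisimple with C modulo the subgroup generated by d isomorphic to the projective special unitary group of dimension 6 over the field with four elements, and suppose some conjugate of d other than d commutes with d. Then every involution of C modulo the subgroup generated by d is the image of an involution of C, and d is not a square in G. -/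
theorem result {G : Type*} [Group G] [Finite G] (d : G) (hd : orderOf d = 2) (hq : Cfsg.IsQuasisimple ↥(Subgroup.centralizer ({d} : Set G))) [hzn : ((Subgroup.zpowers d).subgroupOf (Subgroup.centralizer ({d} : Set G))).Normal] (K : Type) [Field K] [Fintype K] (hK : Fintype.card K = 4) (e : ↥(Subgroup.centralizer ({d} : Set G)) ⧸ (Subgroup.zpowers d).subgroupOf (Subgroup.centralizer ({d} : Set G)) ≃* Cfsg.PSU 6 K 2) (hnwc : ∃ g : G, g * d * g⁻¹ ∈ Subgroup.centralizer ({d} : Set G) ∧ g * d * g⁻¹ ≠ d) : (∀ x : ↥(Subgroup.centralizer ({d} : Set G)) ⧸ (Subgroup.zpowers d).subgroupOf (Subgroup.centralizer ({d} : Set G)), orderOf x = 2 → ∃ y : ↥(Subgroup.centralizer ({d} : Set G)), orderOf y = 2 ∧ (QuotientGroup.mk y : ↥(Subgroup.centralizer ({d} : Set G)) ⧸ (Subgroup.zpowers d).subgroupOf (Subgroup.centralizer ({d} : Set G))) = x) ∧ ¬ ∃ g : G, g ^ 2 = d := by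
  have hK' : Fintype.card K = 2 ^ 2 := by rw [hK]; norm_num
  have hZ : Nat.card (Subgroup.center (Cfsg.SU 6 K 2)) = 3 := by
    rw [Cfsg.Agent.S0279.result hK' 6 (by norm_num)]; norm_num
  set C := Subgroup.centralizer ({d} : Set G) with hC
  set N := (Subgroup.zpowers d).subgroupOf C
  let θ : C →* Cfsg.PSU 6 K 2 := e.toMonoidHom.comp (QuotientGroup.mk' N)
  have hd2 : d * d = 1 := by rw [← pow_two, ← hd]; exact pow_orderOf_eq_one d
  have hker : ∀ c : C, c ∈ θ.ker → (c : G) ∈ Subgroup.zpowers d := by
    intro c hc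
    rw [MonoidHom.mem_ker] at hc
    have : (QuotientGroup.mk c : C ⧸ N) = 1 := e.map_eq_one_iff.1 hc
    exact (QuotientGroup.eq_one_iff c).1 this
  have hlift : ∀ x : C ⧸ N, x * x = 1 → ∃ y : C, y * y = 1 ∧ QuotientGroup.mk y = x := by
    intro x hx
    obtain ⟨y, hy, hye⟩ := CfsgLib.U6Cover.exists_involution_lift_six hK' θ
      (e.surjective.comp (QuotientGroup.mk'_surjective N))
      (fun c hc => Subgroup.mem_center_iff.2 fun g => Subtype.ext (by
        obtain ⟨j, hj⟩ := hker c hc
        have hg : Commute (g : G) d := Subgroup.mem_centralizer_singleton_iff.1 g.2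
        have := hg.zpow_right j
        rw [show d ^ j = (c : G) from hj] at this
        exact this.eq))
      (fun c hc => Subtype.ext (by
        obtain ⟨j, hj⟩ := hker c hc
        show (c : G) * c = 1
        rw [← show d ^ j = (c : G) from hj, ← zpow_add, ← two_mul, zpow_mul,
          show d ^ (2 : ℤ) = 1 by rw [zpow_ofNat, pow_two, hd2], one_zpow]))
      hZ (x := e x) (by rw [← map_mul, hx, map_one])
    exact ⟨y, hy, e.injective hye⟩
  refine ⟨fun x hx => ?_, ?_⟩
  · obtain ⟨y, hy, hyx⟩ := hlift x (by rw [← pow_two, ← hx]; exact pow_orderOf_eq_one x)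
    refine ⟨y, orderOf_eq_prime (by rw [pow_two]; exact hy) ?_, hyx⟩
    rintro rfl
    rw [← hyx] at hx
    simp at hx
  · rintro ⟨g, hg⟩
    have hgC : g ∈ C := Subgroup.mem_centralizer_singleton_iff.2 (by rw [← hg]; group)
    have hx : (QuotientGroup.mk (⟨g, hgC⟩ : C) : C ⧸ N) * QuotientGroup.mk (⟨g, hgC⟩ : C) = 1 := by
      rw [← QuotientGroup.mk_mul, QuotientGroup.eq_one_iff, Subgroup.mem_subgroupOf]
      show g * g ∈ _
      rw [← pow_two, hg]; exact Subgroup.mem_zpowers d
    obtain ⟨y, hy, hyx⟩ := hlift _ hx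
    obtain ⟨j, hj⟩ : ((y⁻¹ * ⟨g, hgC⟩ : C) : G) ∈ Subgroup.zpowers d :=
      Subgroup.mem_subgroupOf.1 (QuotientGroup.eq.1 hyx)
    have hy' : (y : G) * y = 1 := congrArg Subtype.val hy
    have hyd : Commute (y : G) d := Subgroup.mem_centralizer_singleton_iff.1 y.2
    have hgy : g = (y : G) * d ^ j := by
      rw [show d ^ j = (y : G)⁻¹ * g from hj, mul_inv_cancel_left]
    have : g ^ 2 = 1 := by
      rw [hgy, (hyd.zpow_right j).mul_pow, pow_two, hy', one_mul, ← zpow_natCast, ← zpow_mul,
        mul_comm, zpow_mul, zpow_natCast, pow_two, hd2, one_zpow]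
    rw [hg] at this
    rw [this, orderOf_one] at hd
    exact absurd hd (by norm_num)

end Cfsg.Agent.S5452
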