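import Cfsg.Statements.S5453
import Cfsg.Agent.Lib.U6Cover.Extension
-- import your own Cfsg.Agent.* helpers here

set_option autoImplicit false
open Cfsg

namespace Cfsg.Agent.S5453

/-- Let G be a finite group with an involution d whose centralizer C is quasisimple, such that C modulo the subgroup generated by d is of type M(22) with respect to some conjugacy class of 3-transpositions generating it and also has an involution whose own centralizer is quasisimple with quotient by it isomorphic to the projective special unitary group of dimension 6 over the field with four elements and which is not weakly closed in that centralizer; and suppose some conjugate of d other than d commutes with d. Then every involution of C modulo the subgroup generated by d is the image of an involution of C, and d is not a square in G. -/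
theorem result {G : Type*} [Group G] [Finite G] (d : G) (hd : orderOf d = 2) (hq : Cfsg.IsQuasisimple ↥(Subgroup.centralizer ({d} : Set G))) [hzn : ((Subgroup.zpowers d).subgroupOf (Subgroup.centralizer ({d} : Set G))).Normal] (htype : ∃ E : Set (↥(Subgroup.centralizer ({d} : Set G)) ⧸ (Subgroup.zpowers d).subgroupOf (Subgroup.centralizer ({d} : Set G))), Cfsg.IsThreeTranspositionClass E ∧ Cfsg.IsOfTypeM22 _ E) (hinvol : ∃ d' : ↥(Subgroup.centralizer ({d} : Set G)) ⧸ (Subgroup.zpowers d).subgroupOf (Subgroup.centralizer ({d} : Set G)), orderOf d' = 2 ∧ Cfsg.IsQuasisimple ↥(Subgroup.centralizer ({d'} : Set _)) ∧ (∃ (K : Type) (_ : Field K) (_ : Fintype K), Fintype.card K = 4 ∧ ∃ _ : ((Subgroup.zpowers d').subgroupOf (Subgroup.centralizer ({d'} : Set _))).Normal, Nonempty (↥(Subgroup.centralizer ({d'} : Set _)) ⧸ (Subgroup.zpowers d').subgroupOf (Subgroup.centralizer ({d'} : Set _)) ≃* Cfsg.PSU 6 K 2)) ∧ ∃ g, g * d' * g⁻¹ ∈ Subgroup.centralizer ({d'} : Set _) ∧ g * d' * g⁻¹ ≠ d') (hnwc : ∃ g : G, g * d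 * g⁻¹ ∈ Subgroup.centralizer ({d} : Set G) ∧ g * d * g⁻¹ ≠ d) : (∀ x : ↥(Subgroup.centralizer ({d} : Set G)) ⧸ (Subgroup.zpowers d).subgroupOf (Subgroup.centralizer ({d} : Set G)), orderOf x = 2 → ∃ y : ↥(Subgroup.centralizer ({d} : Set G)), orderOf y = 2 ∧ (QuotientGroup.mk y : ↥(Subgroup.centralizer ({d} : Set G)) ⧸ (Subgroup.zpowers d).subgroupOf (Subgroup.centralizer ({d} : Set G))) = x) ∧ ¬ ∃ g : G, g ^ 2 = d := by
  obtain ⟨d', hd', hq', ⟨K, _, _, hK, hzn', ⟨e⟩⟩, hnwc'⟩ := hinvol
  have hK' : Fintype.card K = 2 ^ 2 := by rw [hK]; norm_num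
  let C := Subgroup.centralizer ({d} : Set G)
  let N := (Subgroup.zpowers d).subgroupOf C
  let C' := Subgroup.centralizer ({d'} : Set (C ⧸ N))
  let N' := (Subgroup.zpowers d').subgroupOf C'
  have two : ∀ {H : Type _} [Group H] (a : H), orderOf a = 2 → a * a = 1 ∧ a ≠ 1 ∧
      ∀ b, b ∈ Subgroup.zpowers a ↔ b = 1 ∨ b = a := by
    intro H _ a ha
    have ha2 : a * a = 1 := by rw [← pow_two, ← ha]; exact pow_orderOf_eq_one a
    refine ⟨ha2, by rintro rfl; rw [orderOf_one] at ha; exact absurd ha (by norm_num), fun b => ⟨fun hb => ?_, ?_⟩⟩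
    · obtain ⟨j, rfl⟩ := Subgroup.mem_zpowers_iff.1 hb
      rcases Int.even_or_odd j with ⟨i, rfl⟩ | ⟨i, rfl⟩
      · left; rw [zpow_add, ← (Commute.refl a).mul_zpow, ha2, one_zpow]
      · right; rw [zpow_add, zpow_one, two_mul, zpow_add, ← (Commute.refl a).mul_zpow, ha2, one_zpow, one_mul]
    · rintro (rfl | rfl)
      · exact one_mem _
      · exact Subgroup.mem_zpowers _
  obtain ⟨hd2, hd1, hdmem⟩ := two d hd
  obtain ⟨he2, he1, hemem⟩ := two d' hd'
  let D : CfsgLib.U6Cover.Data hK' C' :=
    { θ := e.toMonoidHom.comp (QuotientGroup.mk' N')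
      z := ⟨d', Subgroup.mem_centralizer_singleton_iff.2 rfl⟩
      surj := e.surjective.comp (QuotientGroup.mk'_surjective N')
      z_sq := Subtype.ext he2
      z_ne := fun h => he1 (congrArg Subtype.val h)
      ker := fun c => by
        show e (QuotientGroup.mk c) = 1 ↔ _
        rw [e.map_eq_one_iff, QuotientGroup.eq_one_iff, Subgroup.mem_subgroupOf, hemem]
        exact ⟨fun h => h.imp (fun h => Subtype.ext h) (fun h => Subtype.ext h),
          fun h => h.imp (congrArg Subtype.val) (congrArg Subtype.val)⟩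
      central := fun x => Subtype.ext (Subgroup.mem_centralizer_singleton_iff.1 x.2).symm }
  let T : CfsgLib.U6Cover.Ctx hK' (C ⧸ N) := ⟨d', D, rfl, hq'.1, hnwc'⟩
  let z : C := ⟨d, Subgroup.mem_centralizer_singleton_iff.2 rfl⟩
  have hker : ∀ y : C, (QuotientGroup.mk' N) y = 1 ↔ y = 1 ∨ y = z := fun y => by
    rw [QuotientGroup.mk'_apply, QuotientGroup.eq_one_iff, Subgroup.mem_subgroupOf, hdmem]
    exact ⟨fun h => h.imp (fun h => Subtype.ext h) (fun h => Subtype.ext h),
      fun h => h.imp (congrArg Subtype.val) (congrArg Subtype.val)⟩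
  have hlift : ∀ x : C ⧸ N, x * x = 1 → ∃ y : C, y * y = 1 ∧ QuotientGroup.mk y = x := fun x hx =>
    T.exists_lift (QuotientGroup.mk' N) (QuotientGroup.mk'_surjective N) z (Subtype.ext hd2)
      (fun y => Subtype.ext (Subgroup.mem_centralizer_singleton_iff.1 y.2).symm) hker hx
  refine ⟨fun x hx => ?_, ?_⟩
  · obtain ⟨y, hy, hyx⟩ := hlift x (by rw [← pow_two, ← hx]; exact pow_orderOf_eq_one x)
    refine ⟨y, orderOf_eq_prime (by rw [pow_two]; exact hy) ?_, hyx⟩
    rintro rfl
    rw [← hyx] at hx
    simp at hx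
  · rintro ⟨g, hg⟩
    have hgC : g ∈ C := Subgroup.mem_centralizer_singleton_iff.2 (by rw [← hg]; group)
    obtain ⟨y, hy, hyx⟩ := hlift (QuotientGroup.mk ⟨g, hgC⟩) (by
      rw [← QuotientGroup.mk_mul]
      refine (hker _).2 (Or.inr (Subtype.ext ?_))
      show g * g = d
      rw [← pow_two, hg])
    have h1 : (QuotientGroup.mk' N) (y⁻¹ * ⟨g, hgC⟩) = 1 := by
      rw [QuotientGroup.mk'_apply, QuotientGroup.mk_mul, QuotientGroup.mk_inv, hyx, inv_mul_cancel]
    have hy' : (y : G) * y = 1 := congrArg Subtype.val hy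
    apply hd1
    rcases (hker _).1 h1 with h | h
    · rw [inv_mul_eq_one] at h
      rw [← hg, pow_two, show g = (y : G) from (congrArg Subtype.val h).symm]
      exact hy'
    · have h2 : g = (y : G) * d := congrArg Subtype.val (inv_mul_eq_iff_eq_mul.1 h)
      have hc : d * (y : G) = (y : G) * d := (Subgroup.mem_centralizer_singleton_iff.1 y.2).symm
      calc d = (y : G) * d * ((y : G) * d) := by rw [← h2, ← pow_two, hg]
        _ = (y : G) * (y : G) * (d * d) := (show Commute d (y : G) from hc).mul_mul_mul_comm _ _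
        _ = 1 := by rw [hy', hd2, one_mul]

end Cfsg.Agent.S5453
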