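import Cfsg.Statements.S5454
import Cfsg.Agent.Lib.U6Cover.Final
-- import your own Cfsg.Agent.* helpers here

set_option autoImplicit false
open Cfsg

namespace Cfsg.Agent.S5454

/-- Let G be a finite group with an involution d whose centralizer C is quasisimple with C modulo the subgroup generated by d isomorphic to the projective special unitary group of dimension 6 over the field with four elements, and suppose some conjugate of d other than d commutes with d. Let S be a Sylow 2-subgroup of C and A the Thompson subgroup of S (generated by the elementary abelian subgroups of S of largest order), regarded as a subgroup of G. Then A is elementary abelian of order 2^10, exactly 22 conjugates of d lie in A, and the normalizer of A permutes them transitively. -/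
theorem result {G : Type*} [Group G] [Finite G] (d : G) (hd : orderOf d = 2) (hq : Cfsg.IsQuasisimple ↥(Subgroup.centralizer ({d} : Set G))) [hzn : ((Subgroup.zpowers d).subgroupOf (Subgroup.centralizer ({d} : Set G))).Normal] (K : Type) [Field K] [Fintype K] (hK : Fintype.card K = 4) (e : ↥(Subgroup.centralizer ({d} : Set G)) ⧸ (Subgroup.zpowers d).subgroupOf (Subgroup.centralizer ({d} : Set G)) ≃* Cfsg.PSU 6 K 2) (hnwc : ∃ g : G, g * d * g⁻¹ ∈ Subgroup.centralizer ({d} : Set G) ∧ g * d * g⁻¹ ≠ d) (S : Sylow 2 ↥(Subgroup.centralizer ({d} : Set G))) (A : Subgroup G) (hA : A = (Cfsg.thompsonSubgroupOf 2 (S : Subgroup ↥(Subgroup.centralizer ({d} : Set G)))).map (Subgroup.centralizer ({d} : Set G)).subtype) : Cfsg.IsElementaryAbelian 2 A ∧ Nat.card A = 2 ^ 10 ∧ Set.ncard {x : G | x ∈ A ∧ IsConj d x} = 22 ∧ ∀ x ∈ A, ∀ y ∈ A, IsConj d x → IsConj d y → ∃ n ∈ Subgroup.normalizer (A : Set G), n * x * n⁻¹ = y := by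
  have hK' : Fintype.card K = 2 ^ 2 := by rw [hK]; norm_num
  let C := Subgroup.centralizer ({d} : Set G)
  let N := (Subgroup.zpowers d).subgroupOf C
  let θ : C →* Cfsg.PSU 6 K 2 := e.toMonoidHom.comp (QuotientGroup.mk' N)
  have hd2 : d * d = 1 := by rw [← pow_two, ← hd]; exact pow_orderOf_eq_one d
  have hd1 : d ≠ 1 := by rintro rfl; rw [orderOf_one] at hd; exact absurd hd (by norm_num)
  let z : C := ⟨d, Subgroup.mem_centralizer_singleton_iff.2 rfl⟩
  have hmem : ∀ c : C, θ c = 1 ↔ c = 1 ∨ c = z := by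
    intro c
    show e (QuotientGroup.mk c) = 1 ↔ _
    rw [e.map_eq_one_iff, QuotientGroup.eq_one_iff, Subgroup.mem_subgroupOf]
    constructor
    · intro hc
      rcases Subgroup.mem_zpowers_iff.1 hc with ⟨j, hj⟩
      rcases Int.even_or_odd j with ⟨i, rfl⟩ | ⟨i, rfl⟩
      · left
        apply Subtype.ext
        rw [← hj, zpow_add, ← (Commute.refl d).mul_zpow, hd2, one_zpow]
        rfl
      · right
        apply Subtype.ext
        rw [← hj, zpow_add, zpow_one, two_mul, zpow_add, ← (Commute.refl d).mul_zpow, hd2, one_zpow, one_mul]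
    · rintro (rfl | rfl)
      · exact one_mem _
      · exact Subgroup.mem_zpowers d
  let D : CfsgLib.U6Cover.Data hK' C :=
    { θ := θ
      z := z
      surj := e.surjective.comp (QuotientGroup.mk'_surjective N)
      z_sq := Subtype.ext hd2
      z_ne := fun h => hd1 (congrArg Subtype.val h)
      ker := hmem
      central := fun x => Subtype.ext (Subgroup.mem_centralizer_singleton_iff.1 x.2).symm }
  let T : CfsgLib.U6Cover.Ctx hK' G := ⟨d, D, rfl, hq.1, hnwc⟩
  obtain ⟨P, -⟩ := CfsgLib.U6Cover.exists_frame_fixed hK' 1 (one_mul 1)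
  obtain ⟨c, hc⟩ := D.thompson P S
  have hA' : A = CfsgLib.U6Cover.conjSub (c : G) (T.AG P) := by
    ext x
    rw [hA, hc, CfsgLib.U6Cover.mem_conjSub]
    constructor
    · rintro ⟨y, hy, rfl⟩
      exact ⟨_, CfsgLib.U6Cover.mem_conjSub.1 hy, rfl⟩
    · rintro ⟨a, ha, hax⟩
      refine ⟨c * a * c⁻¹, CfsgLib.U6Cover.mem_conjSub.2 (by simpa [mul_assoc] using ha), ?_⟩
      show (c : G) * (a : G) * (c : G)⁻¹ = x
      rw [show (a : G) = (c : G)⁻¹ * x * c from hax]
      group
  have h22 : Set.ncard {x : G | x ∈ T.AG P ∧ IsConj d x} = 22 := T.ncard_eq P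
  have hmemA : ∀ x, x ∈ A ↔ (c : G)⁻¹ * x * c ∈ T.AG P := fun x => by
    rw [hA', CfsgLib.U6Cover.mem_conjSub]
  have hconj : ∀ x, IsConj d ((c : G)⁻¹ * x * c) ↔ IsConj d x := fun x => by
    have h : IsConj x ((c : G)⁻¹ * x * c) := isConj_iff.2 ⟨(c : G)⁻¹, by rw [inv_inv]⟩
    exact ⟨fun e => e.trans h.symm, fun e => e.trans h⟩
  refine ⟨hA' ▸ CfsgLib.U6Cover.isElementary_map _ (T.AG_elem P), ?_, ?_, ?_⟩
  · rw [hA', CfsgLib.U6Cover.conjSub, Subgroup.card_map_of_injective (MulAut.conj (c : G)).injective]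
    exact T.card_AG P
  · have hset : {x : G | x ∈ A ∧ IsConj d x} =
        (fun x => (c : G) * x * (c : G)⁻¹) '' {x : G | x ∈ T.AG P ∧ IsConj d x} := by
      ext x
      constructor
      · rintro ⟨h1, h2⟩
        exact ⟨_, ⟨(hmemA x).1 h1, (hconj x).2 h2⟩, by group⟩
      · rintro ⟨y, ⟨h1, h2⟩, rfl⟩
        have e1 : (c : G)⁻¹ * ((c : G) * y * (c : G)⁻¹) * c = y := by group
        exact ⟨(hmemA _).2 (by rw [e1]; exact h1), (hconj _).1 (by rw [e1]; exact h2)⟩
    rw [hset, Set.ncard_image_of_injective _ (fun a b h => mul_left_cancel (mul_right_cancel h))]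
    exact h22
  · intro x hx y hy hdx hdy
    obtain ⟨n, hn, hne⟩ := T.transitive P _ ((hmemA x).1 hx) _ ((hmemA y).1 hy) ((hconj x).2 hdx) ((hconj y).2 hdy)
    refine ⟨c * n * (c : G)⁻¹, Subgroup.mem_normalizer_iff.2 fun a => ?_, ?_⟩
    · rw [hmemA, hmemA,
        show (c : G)⁻¹ * (c * n * (c : G)⁻¹ * a * (c * n * (c : G)⁻¹)⁻¹) * c = n * ((c : G)⁻¹ * a * c) * n⁻¹ by group]
      exact Subgroup.mem_normalizer_iff.1 hn _
    · calc (c : G) * n * (c : G)⁻¹ * x * ((c : G) * n * (c : G)⁻¹)⁻¹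
          = (c : G) * (n * ((c : G)⁻¹ * x * c) * n⁻¹) * (c : G)⁻¹ := by group
        _ = y := by rw [hne]; group

end Cfsg.Agent.S5454
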