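import Cfsg.Statements.S5455
import Cfsg.Agent.Lib.U6Cover.DoubleFinal
-- import your own Cfsg.Agent.* helpers here

set_option autoImplicit false
open Cfsg

namespace Cfsg.Agent.S5455

/-- Let G be a finite group with an involution d whose centralizer C is quasisimple, such that C modulo the subgroup generated by d is of type M(22) with respect to some conjugacy class of 3-transpositions generating it and also has an involution whose own centralizer is quasisimple with quotient by it isomorphic to the projective special unitary group of dimension 6 over the field with four elements and which is not weakly closed in that centralizer; and suppose some conjugate of d other than d commutes with d. Let S be a Sylow 2-subgroup of C and A the Thompson subgroup of S, regarded as a subgroup of G. Then A is elementary abelian of order 2^11, exactly 23 conjugates of d lie in A, and the normalizer of A permutes them transitively. -/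
theorem result {G : Type*} [Group G] [Finite G] (d : G) (hd : orderOf d = 2) (hq : Cfsg.IsQuasisimple ↥(Subgroup.centralizer ({d} : Set G))) [hzn : ((Subgroup.zpowers d).subgroupOf (Subgroup.centralizer ({d} : Set G))).Normal] (htype : ∃ E : Set (↥(Subgroup.centralizer ({d} : Set G)) ⧸ (Subgroup.zpowers d).subgroupOf (Subgroup.centralizer ({d} : Set G))), Cfsg.IsThreeTranspositionClass E ∧ Cfsg.IsOfTypeM22 _ E) (hinvol : ∃ d' : ↥(Subgroup.centralizer ({d} : Set G)) ⧸ (Subgroup.zpowers d).subgroupOf (Subgroup.centralizer ({d} : Set G)), orderOf d' = 2 ∧ Cfsg.IsQuasisimple ↥(Subgroup.centralizer ({d'} : Set _)) ∧ (∃ (K : Type) (_ : Field K) (_ : Fintype K), Fintype.card K = 4 ∧ ∃ _ : ((Subgroup.zpowers d').subgroupOf (Subgroup.centralizer ({d'} : Set _))).Normal, Nonempty (↥(Subgroup.centralizer ({d'} : Set _)) ⧸ (Subgroup.zpowers d').subgroupOf (Subgroup.centralizer ({d'} : Set _)) ≃* Cfsg.PSU 6 K 2)) ∧ ∃ g, g * d' * g⁻¹ ∈ Subgroup.centralizer ({d'} : Set _) ∧ g * d' * g⁻¹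 ≠ d') (hnwc : ∃ g : G, g * d * g⁻¹ ∈ Subgroup.centralizer ({d} : Set G) ∧ g * d * g⁻¹ ≠ d) (S : Sylow 2 ↥(Subgroup.centralizer ({d} : Set G))) (A : Subgroup G) (hA : A = (Cfsg.thompsonSubgroupOf 2 (S : Subgroup ↥(Subgroup.centralizer ({d} : Set G)))).map (Subgroup.centralizer ({d} : Set G)).subtype) : Cfsg.IsElementaryAbelian 2 A ∧ Nat.card A = 2 ^ 11 ∧ Set.ncard {x : G | x ∈ A ∧ IsConj d x} = 23 ∧ ∀ x ∈ A, ∀ y ∈ A, IsConj d x → IsConj d y → ∃ n ∈ Subgroup.normalizer (A : Set G), n * x * n⁻¹ = y := by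
  obtain ⟨d', hd', hq', ⟨K, _, _, hK, hzn', ⟨e⟩⟩, hnwc'⟩ := hinvol
  have hK' : Fintype.card K = 2 ^ 2 := by rw [hK]; norm_num
  let C := Subgroup.centralizer ({d} : Set G)
  let N := (Subgroup.zpowers d).subgroupOf C
  let C' := Subgroup.centralizer ({d'} : Set (C ⧸ N))
  let N' := (Subgroup.zpowers d').subgroupOf C'
  have two : ∀ {H : Type _} [Group H] (a : H), orderOf a = 2 → a * a = 1 ∧ a ≠ 1 ∧
      ∀ b, b ∈ Subgroup.zpowers a ↔ b = 1 ∨ b = a := by
    intro H _ a ha
    have ha2 : a * a = 1 := by rw [← pow_two, ← ha]; exact pow_orderOf_eq_one a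
    refine ⟨ha2, by rintro rfl; rw [orderOf_one] at ha; exact absurd ha (by norm_num), fun b => ⟨fun hb => ?_, ?_⟩⟩
    · obtain ⟨j, rfl⟩ := Subgroup.mem_zpowers_iff.1 hb
      rcases Int.even_or_odd j with ⟨i, rfl⟩ | ⟨i, rfl⟩
      · left; rw [zpow_add, ← (Commute.refl a).mul_zpow, ha2, one_zpow]
      · right; rw [zpow_add, zpow_one, two_mul, zpow_add, ← (Commute.refl a).mul_zpow, ha2, one_zpow, one_mul]
    · rintro (rfl | rfl)
      · exact one_mem _
      · exact Subgroup.mem_zpowers _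
  obtain ⟨hd2, hd1, hdmem⟩ := two d hd
  obtain ⟨he2, he1, hemem⟩ := two d' hd'
  let D : CfsgLib.U6Cover.Data hK' C' :=
    { θ := e.toMonoidHom.comp (QuotientGroup.mk' N')
      z := ⟨d', Subgroup.mem_centralizer_singleton_iff.2 rfl⟩
      surj := e.surjective.comp (QuotientGroup.mk'_surjective N')
      z_sq := Subtype.ext he2
      z_ne := fun h => he1 (congrArg Subtype.val h)
      ker := fun c => by
        show e (QuotientGroup.mk c) = 1 ↔ _
        rw [e.map_eq_one_iff, QuotientGroup.eq_one_iff, Subgroup.mem_subgroupOf, hemem]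
        exact ⟨fun h => h.imp (fun h => Subtype.ext h) (fun h => Subtype.ext h),
          fun h => h.imp (congrArg Subtype.val) (congrArg Subtype.val)⟩
      central := fun x => Subtype.ext (Subgroup.mem_centralizer_singleton_iff.1 x.2).symm }
  let T : CfsgLib.U6Cover.Ctx hK' (C ⧸ N) := ⟨d', D, rfl, hq'.1, hnwc'⟩
  let z : C := ⟨d, Subgroup.mem_centralizer_singleton_iff.2 rfl⟩
  let W : CfsgLib.U6Cover.Dbl hK' (C ⧸ N) C G :=
    { T := T
      π := QuotientGroup.mk' N
      surj := QuotientGroup.mk'_surjective N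
      z := z
      z_sq := Subtype.ext hd2
      z_ne := fun h => hd1 (congrArg Subtype.val h)
      central := fun x => Subtype.ext (Subgroup.mem_centralizer_singleton_iff.1 x.2).symm
      ker := fun y => by
        rw [QuotientGroup.mk'_apply, QuotientGroup.eq_one_iff, Subgroup.mem_subgroupOf, hdmem]
        exact ⟨fun h => h.imp (fun h => Subtype.ext h) (fun h => Subtype.ext h),
          fun h => h.imp (congrArg Subtype.val) (congrArg Subtype.val)⟩
      perfect := hq.1
      ι := C.subtype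
      inj := Subtype.val_injective
      cen := fun g hg => ⟨⟨g, Subgroup.mem_centralizer_singleton_iff.2 hg.eq⟩, rfl⟩
      nwc := by
        obtain ⟨g, hg, hne⟩ := hnwc
        exact ⟨g, ⟨_, hg⟩, rfl, fun h => hne (congrArg Subtype.val h)⟩ }
  obtain ⟨P, -⟩ := CfsgLib.U6Cover.exists_frame_fixed hK' 1 (one_mul 1)
  obtain ⟨c, hc⟩ := W.thompson P S
  have hmemA : ∀ x, x ∈ A ↔ (c : G)⁻¹ * x * c ∈ W.BG P := fun x => by
    rw [hA, hc]
    constructor
    · rintro ⟨y, hy, rfl⟩
      exact ⟨_, CfsgLib.U6Cover.mem_conjSub.1 hy, rfl⟩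
    · rintro ⟨a, ha, hax⟩
      refine ⟨c * a * c⁻¹, CfsgLib.U6Cover.mem_conjSub.2 (by simpa [mul_assoc] using ha), ?_⟩
      show (c : G) * (a : G) * (c : G)⁻¹ = x
      rw [show (a : G) = (c : G)⁻¹ * x * c from hax]
      group
  have hA' : A = CfsgLib.U6Cover.conjSub (c : G) (W.BG P) := by
    ext x
    rw [hmemA, CfsgLib.U6Cover.mem_conjSub]
  have h23 : Set.ncard {x : G | x ∈ W.BG P ∧ IsConj d x} = 23 := W.ncard_eq P
  have hconj : ∀ x, IsConj d ((c : G)⁻¹ * x * c) ↔ IsConj d x := fun x => by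
    have h : IsConj x ((c : G)⁻¹ * x * c) := isConj_iff.2 ⟨(c : G)⁻¹, by rw [inv_inv]⟩
    exact ⟨fun e => e.trans h.symm, fun e => e.trans h⟩
  refine ⟨hA' ▸ CfsgLib.U6Cover.isElementary_map _ (W.BG_elem P), ?_, ?_, ?_⟩
  · rw [hA', CfsgLib.U6Cover.conjSub, Subgroup.card_map_of_injective (MulAut.conj (c : G)).injective]
    exact W.card_BG P
  · have hset : {x : G | x ∈ A ∧ IsConj d x} =
        (fun x => (c : G) * x * (c : G)⁻¹) '' {x : G | x ∈ W.BG P ∧ IsConj d x} := by
      ext x
      constructor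
      · rintro ⟨h1, h2⟩
        exact ⟨_, ⟨(hmemA x).1 h1, (hconj x).2 h2⟩, by group⟩
      · rintro ⟨y, ⟨h1, h2⟩, rfl⟩
        have e1 : (c : G)⁻¹ * ((c : G) * y * (c : G)⁻¹) * c = y := by group
        exact ⟨(hmemA _).2 (by rw [e1]; exact h1), (hconj _).1 (by rw [e1]; exact h2)⟩
    rw [hset, Set.ncard_image_of_injective _ (fun a b h => mul_left_cancel (mul_right_cancel h))]
    exact h23
  · intro x hx y hy hdx hdy
    obtain ⟨n, hn, hne⟩ := W.transitive P _ ((hmemA x).1 hx) _ ((hmemA y).1 hy) ((hconj x).2 hdx) ((hconj y).2 hdy)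
    refine ⟨c * n * (c : G)⁻¹, Subgroup.mem_normalizer_iff.2 fun a => ?_, ?_⟩
    · rw [hmemA, hmemA,
        show (c : G)⁻¹ * (c * n * (c : G)⁻¹ * a * (c * n * (c : G)⁻¹)⁻¹) * c = n * ((c : G)⁻¹ * a * c) * n⁻¹ by group]
      exact Subgroup.mem_normalizer_iff.1 hn _
    · calc (c : G) * n * (c : G)⁻¹ * x * ((c : G) * n * (c : G)⁻¹)⁻¹
          = (c : G) * (n * ((c : G)⁻¹ * x * c) * n⁻¹) * (c : G)⁻¹ := by group
        _ = y := by rw [hne]; group

end Cfsg.Agent.S5455
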