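import Cfsg.Statements.S5459

set_option autoImplicit false
open Cfsg

namespace Cfsg.Agent.S5459

open scoped commutatorElement

theorem memConj {G : Type*} [Group G] {a b : G} : b ∈ conjugatesOf a ↔ IsConj a b := Iff.rfl

theorem conj_reach {G : Type*} [Group G] (d : G) {a b : conjugatesOf d} (g : G) (a' b' : conjugatesOf d)
    (ha : (a' : G) = g * a * g⁻¹) (hb : (b' : G) = g * b * g⁻¹)
    (h : (Cfsg.commutingGraph (conjugatesOf d)).Reachable a b) :
    (Cfsg.commutingGraph (conjugatesOf d)).Reachable a' b' := by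
  let f : Cfsg.commutingGraph (conjugatesOf d) →g Cfsg.commutingGraph (conjugatesOf d) :=
    { toFun := fun x => ⟨g * x * g⁻¹, by
        have := x.2
        rw [memConj] at this ⊢
        exact this.trans (isConj_iff.2 ⟨g, rfl⟩)⟩
      map_rel' := by
        intro x y hxy
        rw [commutingGraph, SimpleGraph.fromRel_adj] at hxy ⊢
        refine ⟨fun e => hxy.1 (Subtype.ext ?_), ?_⟩
        · have := congrArg Subtype.val e
          simpa using this
        · rcases hxy.2 with h2 | h2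
          · exact Or.inl (h2.map (MulAut.conj g).toMonoidHom)
          · exact Or.inr (h2.map (MulAut.conj g).toMonoidHom) }
  have := h.map f
  have e1 : f a = a' := Subtype.ext ha.symm
  have e2 : f b = b' := Subtype.ext hb.symm
  rw [e1, e2] at this
  exact this

theorem exists_sq_root {G : Type*} [Group G] (Z : Subgroup G) [Finite G] (hodd : Odd (Nat.card Z))
    (z : G) (hz : z ∈ Z) : ∃ s ∈ Z, s * s = z := by
  obtain ⟨m, hm⟩ := hodd
  refine ⟨z ^ (m + 1), Z.pow_mem hz _, ?_⟩
  have h1 : (⟨z, hz⟩ : Z) ^ Nat.card Z = 1 := pow_card_eq_one'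
  have h2 : z ^ Nat.card Z = 1 := congrArg Subtype.val h1
  rw [← pow_add, show m + 1 + (m + 1) = Nat.card Z + 1 by omega, pow_add, h2, one_mul, pow_one]

theorem result {G : Type*} [Group G] [Finite G] (L : Subgroup G) [L.Normal] (hL : Cfsg.IsQuasisimple ↥L) (d : G) (hd : orderOf d = 2) (hgen : L ⊔ Subgroup.zpowers d = ⊤) (hodd : Odd (Nat.card ↥(Subgroup.center ↥L))) (hinv : ∀ c ∈ (Subgroup.center ↥L).map L.subtype, d * c * d⁻¹ = c⁻¹) [hn : ((Subgroup.center ↥L).map L.subtype).Normal] (hconn : (Cfsg.commutingGraph (conjugatesOf (QuotientGroup.mk d : G ⧸ (Subgroup.center ↥L).map L.subtype))).Connected) : (Cfsg.commutingGraph (conjugatesOf d)).Connected := by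
  set Z := (Subgroup.center ↥L).map L.subtype with hZdef
  have hZodd : Odd (Nat.card Z) := by
    rw [hZdef, Subgroup.card_subtype]
    exact hodd
  have hd2 : d * d = 1 := by rw [← sq, ← hd, pow_orderOf_eq_one]
  -- each conjugate inverts `Z`
  have hinvD : ∀ a ∈ conjugatesOf d, ∀ c ∈ Z, a * c * a⁻¹ = c⁻¹ := by
    intro a ha c hc
    obtain ⟨g, rfl⟩ := isConj_iff.1 (memConj.1 ha)
    have hc' : g⁻¹ * c * g ∈ Z := by simpa using hn.conj_mem c hc g⁻¹
    have := hinv _ hc'
    calc g * d * g⁻¹ * c * (g * d * g⁻¹)⁻¹ = g * (d * (g⁻¹ * c * g) * d⁻¹) * g⁻¹ := by group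
      _ = g * (g⁻¹ * c * g)⁻¹ * g⁻¹ := by rw [this]
      _ = c⁻¹ := by group
  have hDsq : ∀ a ∈ conjugatesOf d, a * a = 1 := by
    intro a ha
    obtain ⟨g, rfl⟩ := isConj_iff.1 (memConj.1 ha)
    calc g * d * g⁻¹ * (g * d * g⁻¹) = g * (d * d) * g⁻¹ := by group
      _ = 1 := by rw [hd2]; group
  -- lifts of adjacency
  have hlift : ∀ (a : conjugatesOf d) (y : G), y ∈ conjugatesOf d →
      Commute (QuotientGroup.mk (a : G) : G ⧸ Z) (QuotientGroup.mk y) →
      ∃ b : conjugatesOf d, (QuotientGroup.mk (b : G) : G ⧸ Z) = QuotientGroup.mk y ∧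
        Commute (a : G) (b : G) := by
    intro a y hy hc
    have hmem : ((a : G) * y)⁻¹ * (y * a) ∈ Z := by
      rw [← QuotientGroup.eq]
      exact hc.eq
    obtain ⟨s, hs, hs2⟩ := exists_sq_root Z hZodd _ hmem
    have hys : y * s * y⁻¹ = s⁻¹ := hinvD y hy s hs
    have has : (a : G) * s * (a : G)⁻¹ = s⁻¹ := hinvD a a.2 s hs
    have hy' : y * y = 1 := hDsq y hy
    obtain ⟨r, hr, hr2⟩ := exists_sq_root Z hZodd s hs
    have hyr : y * r * y⁻¹ = r⁻¹ := hinvD y hy r hr
    -- `y * s` is conjugate to `y`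
    have hb : y * s ∈ conjugatesOf d := by
      refine memConj.2 ((memConj.1 hy).trans (isConj_iff.2 ⟨r⁻¹, ?_⟩))
      have : r⁻¹ * y = y * r := by
        rw [← hyr, inv_mul_cancel_right]
      rw [inv_inv, this, mul_assoc, hr2]
    refine ⟨⟨y * s, hb⟩, ?_, ?_⟩
    · rw [QuotientGroup.eq]
      simpa using Z.inv_mem hs
    · have hay : (a : G) * y * (s * s) = y * a := by
        rw [hs2]; group
      show (a : G) * (y * s) = y * s * a
      have hsa : s * (a : G) = a * s⁻¹ := by
        have h' : (a : G) * s⁻¹ * (a : G)⁻¹ = s := by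
          rw [← inv_inj]; simpa [mul_assoc] using has
        calc s * (a : G) = ((a : G) * s⁻¹ * (a : G)⁻¹) * a := by rw [h']
          _ = a * s⁻¹ := by group
      rw [mul_assoc y s, hsa, ← mul_assoc y, ← hay]
      group
  -- reachability in the quotient lifts
  let d₀ : conjugatesOf d := ⟨d, mem_conjugatesOf_self⟩
  let π : conjugatesOf d → conjugatesOf (QuotientGroup.mk d : G ⧸ Z) :=
    fun x => ⟨QuotientGroup.mk (x : G), (QuotientGroup.mk' Z).map_isConj x.2⟩
  have hpath : ∀ {u v : conjugatesOf (QuotientGroup.mk d : G ⧸ Z)},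
      (Cfsg.commutingGraph (conjugatesOf (QuotientGroup.mk d : G ⧸ Z))).Walk u v →
      ∀ a : conjugatesOf d, π a = u → ∃ b : conjugatesOf d, π b = v ∧
        (Cfsg.commutingGraph (conjugatesOf d)).Reachable a b := by
    intro u v w
    induction w with
    | nil => exact fun a ha => ⟨a, ha, SimpleGraph.Reachable.refl _⟩
    | @cons u v' _ hadj _ ih =>
      intro a ha
      rw [commutingGraph, SimpleGraph.fromRel_adj] at hadj
      have hc : Commute (u : G ⧸ Z) (v' : G ⧸ Z) := hadj.2.elim id Commute.symm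
      obtain ⟨y, hy, hyv⟩ : ∃ y ∈ conjugatesOf d, (QuotientGroup.mk y : G ⧸ Z) = v' := by
        obtain ⟨q, hq⟩ := isConj_iff.1 (memConj.1 v'.2)
        obtain ⟨g, rfl⟩ := QuotientGroup.mk_surjective q
        exact ⟨g * d * g⁻¹, memConj.2 (isConj_iff.2 ⟨g, rfl⟩), by simpa using hq⟩
      obtain ⟨b, hb1, hb2⟩ := hlift a y hy (by
        rw [show (QuotientGroup.mk (a : G) : G ⧸ Z) = (u : G ⧸ Z) from congrArg Subtype.val ha, hyv]
        exact hc)
      obtain ⟨c, hc1, hc2⟩ := ih b (Subtype.ext (hb1.trans hyv))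
      have hab : (Cfsg.commutingGraph (conjugatesOf d)).Adj a b := by
        rw [commutingGraph, SimpleGraph.fromRel_adj]
        refine ⟨?_, Or.inl hb2⟩
        intro e
        exact hadj.1 (Subtype.ext (by
          rw [← congrArg Subtype.val ha]; exact ((congrArg (fun x : conjugatesOf d =>
            (QuotientGroup.mk (x : G) : G ⧸ Z)) e).trans (hb1.trans hyv))))
      exact ⟨c, hc1, hab.reachable.trans hc2⟩
  let cj : G → conjugatesOf d := fun g =>
    ⟨g * d * g⁻¹, memConj.2 (isConj_iff.2 ⟨g, rfl⟩)⟩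
  -- the stabilizer of the component of `d`
  let H : Subgroup G :=
    { carrier := {g | (Cfsg.commutingGraph (conjugatesOf d)).Reachable d₀ (cj g)}
      one_mem' := by
        show (Cfsg.commutingGraph (conjugatesOf d)).Reachable d₀ (cj 1)
        rw [show cj 1 = d₀ from Subtype.ext (by simp [cj, d₀])]
      mul_mem' := fun {g h} hg hh => by
        show (Cfsg.commutingGraph (conjugatesOf d)).Reachable d₀ (cj (g * h))
        exact hg.trans (conj_reach d g (cj g) (cj (g * h)) rfl (by simp [cj, mul_assoc]) hh)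
      inv_mem' := fun {g} hg => by
        show (Cfsg.commutingGraph (conjugatesOf d)).Reachable d₀ (cj g⁻¹)
        exact (conj_reach d g⁻¹ (cj g⁻¹) d₀ rfl (by simp [cj, d₀, mul_assoc]) hg).symm }
  have hH : ∀ g, g ∈ H ↔ (Cfsg.commutingGraph (conjugatesOf d)).Reachable d₀ (cj g) :=
    fun _ => Iff.rfl
  suffices hHtop : H = ⊤ by
    haveI : Nonempty (conjugatesOf d) := ⟨d₀⟩
    refine SimpleGraph.Connected.mk fun a b => ?_
    have : ∀ x : conjugatesOf d, (Cfsg.commutingGraph (conjugatesOf d)).Reachable d₀ x := by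
      intro x
      obtain ⟨g, hg⟩ := isConj_iff.1 (memConj.1 x.2)
      rw [show x = cj g from Subtype.ext hg.symm]
      exact (hH g).1 (by rw [hHtop]; trivial)
    exact (this a).symm.trans (this b)
  have hcomp : ∀ a : conjugatesOf d, (Cfsg.commutingGraph (conjugatesOf d)).Reachable d₀ a →
      (a : G) ∈ H := by
    intro a ha
    rw [hH]
    exact ha.trans (conj_reach d (a : G) a (cj a) (by simp) rfl ha.symm)
  have hdH : d ∈ H := hcomp d₀ (SimpleGraph.Reachable.refl _)
  have hDHZ : ∀ g : G, g * d * g⁻¹ ∈ H ⊔ Z := by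
    intro g
    obtain ⟨w⟩ := hconn.preconnected (π d₀) (π (cj g))
    obtain ⟨b, hb1, hb2⟩ := hpath w d₀ rfl
    have hz : (b : G)⁻¹ * (g * d * g⁻¹) ∈ Z := QuotientGroup.eq.1 (congrArg Subtype.val hb1)
    have : g * d * g⁻¹ = (b : G) * ((b : G)⁻¹ * (g * d * g⁻¹)) := by group
    rw [this]
    exact Subgroup.mul_mem_sup (hcomp b hb2) hz
  have hZcent : ∀ z ∈ Z, ∀ l ∈ L, l * z = z * l := by
    rintro z ⟨z', hz', rfl⟩ l hl
    exact congrArg Subtype.val (Subgroup.mem_center_iff.1 hz' ⟨l, hl⟩)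
  have hZL : Z ≤ L := Subgroup.map_subtype_le _
  have hcommL : ∀ l ∈ L, l * d * l⁻¹ * d⁻¹ ∈ L := by
    intro l hl
    have := L.mul_mem hl ((inferInstance : L.Normal).conj_mem l⁻¹ (L.inv_mem hl) d)
    simpa [mul_assoc] using this
  let S : Subgroup L := Subgroup.closure (Set.range fun l : L =>
    (⟨(l : G) * d * (l : G)⁻¹ * d⁻¹, hcommL l l.2⟩ : L))
  have hSn : S.Normal := by
    constructor
    intro n hn m
    induction hn using Subgroup.closure_induction with
    | mem x hx =>
      obtain ⟨l, rfl⟩ := hx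
      have h1 : (⟨((m * l : L) : G) * d * ((m * l : L) : G)⁻¹ * d⁻¹, hcommL _ (m * l).2⟩ : L) ∈ S :=
        Subgroup.subset_closure ⟨m * l, rfl⟩
      have h2 : (⟨(m : G) * d * (m : G)⁻¹ * d⁻¹, hcommL _ m.2⟩ : L) ∈ S :=
        Subgroup.subset_closure ⟨m, rfl⟩
      convert S.mul_mem h1 (S.inv_mem h2) using 1
      apply Subtype.ext
      simp [mul_assoc]
    | one => simp
    | mul x y _ _ hx hy => convert S.mul_mem hx hy using 1; group
    | inv x _ hx => convert S.inv_mem hx using 1; group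
  have hLgen : ∀ M : Subgroup G, L ≤ M → d ∈ M → M = ⊤ := fun M h1 h2 =>
    top_le_iff.1 (hgen.ge.trans (sup_le h1 ((Subgroup.zpowers_le).2 h2)))
  by_cases hS : S ≤ Subgroup.center L
  · -- `d` centralizes `L`
    let f : L →* Subgroup.center L :=
      { toFun := fun l => ⟨⟨(l : G) * d * (l : G)⁻¹ * d⁻¹, hcommL l l.2⟩,
          hS (Subgroup.subset_closure ⟨l, rfl⟩)⟩
        map_one' := by
          apply Subtype.ext; apply Subtype.ext; simp
        map_mul' := by
          intro a b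
          apply Subtype.ext; apply Subtype.ext
          have hb : (b : G) * d * (b : G)⁻¹ * d⁻¹ ∈ Z :=
            ⟨_, hS (Subgroup.subset_closure ⟨b, rfl⟩), rfl⟩
          have := hZcent _ hb a a.2
          show ((a : G) * b) * d * ((a : G) * b)⁻¹ * d⁻¹ =
            ((a : G) * d * (a : G)⁻¹ * d⁻¹) * ((b : G) * d * (b : G)⁻¹ * d⁻¹)
          calc ((a : G) * b) * d * ((a : G) * b)⁻¹ * d⁻¹
              = (a : G) * ((b : G) * d * (b : G)⁻¹ * d⁻¹) * (d * (a : G)⁻¹ * d⁻¹) := by group
            _ = ((b : G) * d * (b : G)⁻¹ * d⁻¹) * a * (d * (a : G)⁻¹ * d⁻¹) := by rw [this]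
            _ = ((b : G) * d * (b : G)⁻¹ * d⁻¹) * ((a : G) * d * (a : G)⁻¹ * d⁻¹) := by group
            _ = ((a : G) * d * (a : G)⁻¹ * d⁻¹) * ((b : G) * d * (b : G)⁻¹ * d⁻¹) :=
              (hZcent _ hb _ (hcommL a a.2)).symm }
    have hf : ∀ l : L, f l = 1 := by
      intro l
      have h1 : l ∈ commutator L := by rw [hL.1.commutator_eq_top]; trivial
      have h2 : commutator L ≤ f.ker := by
        rw [commutator_def, Subgroup.commutator_le]
        intro x _ y _
        rw [MonoidHom.mem_ker, map_commutatorElement, commutatorElement_eq_one_iff_commute]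
        exact Subtype.ext (Subgroup.mem_center_iff.1 (f y).2 _)
      exact h2 h1
    apply hLgen H _ hdH
    intro l hl
    rw [hH, show cj l = d₀ from Subtype.ext (by
      show l * d * l⁻¹ = d
      exact mul_inv_eq_one.1 (congrArg (fun x : Subgroup.center L => ((x : L) : G)) (hf ⟨l, hl⟩)))]
  · have hStop : ∀ l : L, ∃ k ∈ S, k⁻¹ * l ∈ Subgroup.center L := by
      haveI := hL.2
      have hne : S.map (QuotientGroup.mk' (Subgroup.center L)) ≠ ⊥ := by
        rw [Ne, Subgroup.map_eq_bot_iff, QuotientGroup.ker_mk']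
        exact hS
      have htop : S.map (QuotientGroup.mk' (Subgroup.center L)) = ⊤ :=
        ((hSn.map _ (QuotientGroup.mk'_surjective _)).eq_bot_or_eq_top).resolve_left hne
      intro l
      have : (QuotientGroup.mk' (Subgroup.center L)) l ∈ S.map (QuotientGroup.mk' _) := by
        rw [htop]; trivial
      obtain ⟨k, hk, hk'⟩ := this
      exact ⟨k, hk, QuotientGroup.eq.1 hk'⟩
    have hSHZ : ∀ k ∈ S, (k : G) ∈ H ⊔ Z := by
      have : S ≤ (H ⊔ Z).comap L.subtype := by
        rw [Subgroup.closure_le]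
        rintro _ ⟨l, rfl⟩
        exact mul_mem (hDHZ l) (inv_mem (Subgroup.mem_sup_left hdH))
      exact this
    have hLHZ : ∀ l ∈ L, ∃ z ∈ Z, l * z ∈ H := by
      intro l hl
      obtain ⟨k, hk, hkl⟩ := hStop ⟨l, hl⟩
      have hlHZ : l ∈ H ⊔ Z := by
        have : (k : G)⁻¹ * l ∈ Z := ⟨_, hkl, rfl⟩
        have := mul_mem (hSHZ k hk) (Subgroup.mem_sup_right (S := H) this)
        simpa using this
      obtain ⟨h, hh, z, hz, rfl⟩ := Subgroup.mem_sup_of_normal_right.1 hlHZ
      exact ⟨z⁻¹, Z.inv_mem hz, by simpa using hh⟩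
    apply hLgen H _ hdH
    have hcl : commutator L ≤ H.subgroupOf L := by
      rw [commutator_def, Subgroup.commutator_le]
      rintro a - b -
      obtain ⟨z, hz, haH⟩ := hLHZ a a.2
      obtain ⟨w, hw, hbH⟩ := hLHZ b b.2
      rw [Subgroup.mem_subgroupOf]
      have key : ((⁅a, b⁆ : L) : G) = ⁅(a : G) * z, (b : G) * w⁆ := by
        have hzc := hZcent z hz
        have hwc := hZcent w hw
        have e1 : ∀ l ∈ L, ((a : G) * z) * l * ((a : G) * z)⁻¹ = a * l * (a : G)⁻¹ := by
          intro l hl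
          rw [show ((a : G) * z) * l = a * (z * l) from mul_assoc _ _ _, ← hzc l hl]; group
        show ((a : G) * b * (a : G)⁻¹ * (b : G)⁻¹) =
          ((a : G) * z) * ((b : G) * w) * ((a : G) * z)⁻¹ * ((b : G) * w)⁻¹
        rw [e1 _ (mul_mem b.2 (hZL hw))]
        have e3 : (a : G) * w * (a : G)⁻¹ = w := by rw [hwc a a.2, mul_inv_cancel_right]
        calc (a : G) * b * (a : G)⁻¹ * (b : G)⁻¹
            = ((a : G) * b * (a : G)⁻¹) * (w * w⁻¹) * (b : G)⁻¹ := by group
          _ = ((a : G) * b * (a : G)⁻¹) * ((a : G) * w * (a : G)⁻¹) * w⁻¹ * (b : G)⁻¹ := by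
              rw [e3]; group
          _ = (a : G) * (b * w) * (a : G)⁻¹ * ((b : G) * w)⁻¹ := by group
      rw [key, commutatorElement_def]
      exact mul_mem (mul_mem (mul_mem haH hbH) (inv_mem haH)) (inv_mem hbH)
    intro l hl
    exact hcl (show (⟨l, hl⟩ : L) ∈ commutator L by rw [hL.1.commutator_eq_top]; trivial)

end Cfsg.Agent.S5459
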