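import Cfsg.Statements.S5463
import Cfsg.Agent.Lib.FischerType.M22

set_option autoImplicit false
open Cfsg

namespace Cfsg.Agent.S5463

/-- Let G be a finite group with trivial centre generated by a conjugation-invariant set D of 3-transpositions on which it acts primitively, such that for some d in D the subgroup generated by the members of D other than d commuting with d has central largest normal 2- and 3-subgroups, and suppose G with D is of type M(22). A product j of two distinct commuting members of D determines the pair: any two 2-element sets of commuting members of D with product j coincide. A product j of three distinct pairwise commuting members of D arises from exactly two such 3-element sets. -/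
theorem result {G : Type*} [Group G] [Finite G] {D : Set G} (hD : Cfsg.IsThreeTranspositionGroup D) (hprim : Cfsg.IsPrimitiveUnderConj D) (d₀ : G) (hd₀ : d₀ ∈ D) (h3 : Cfsg.pCore 3 ↥(Subgroup.closure {y : G | y ∈ D ∧ y ≠ d₀ ∧ Commute d₀ y}) ≤ Subgroup.center ↥(Subgroup.closure {y : G | y ∈ D ∧ y ≠ d₀ ∧ Commute d₀ y})) (h2 : Cfsg.pCore 2 ↥(Subgroup.closure {y : G | y ∈ D ∧ y ≠ d₀ ∧ Commute d₀ y}) ≤ Subgroup.center ↥(Subgroup.closure {y : G | y ∈ D ∧ y ≠ d₀ ∧ Commute d₀ y})) (h22 : Cfsg.IsOfTypeM22 G D) : (∀ (j : G) (l l' : List G), (l.Nodup ∧ l.length = 2 ∧ (∀ a ∈ l, a ∈ D) ∧ (∀ a ∈ l, ∀ b ∈ l, Commute a b) ∧ l.prod = j) → (l'.Nodup ∧ l'.length = 2 ∧ (∀ a ∈ l', a ∈ D) ∧ (∀ a ∈ l', ∀ b ∈ l', Commute a b) ∧ l'.prod = j) → (∀ x : G, x ∈ l ↔ x ∈ l')) ∧ ∀ (j : G) (l₀ : List G), (l₀.Nodup ∧ l₀.length = 3 ∧ (∀ a ∈ l₀, a ∈ D) ∧ (∀ a ∈ l₀, ∀ b ∈ l₀, Commute a b) ∧ l₀.prod = j) → ∃ l₁ l₂ : List G, (l₁.Nodup ∧ l₁.length = 3 ∧ (∀ a ∈ l₁, a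 ∈ D) ∧ (∀ a ∈ l₁, ∀ b ∈ l₁, Commute a b) ∧ l₁.prod = j) ∧ (l₂.Nodup ∧ l₂.length = 3 ∧ (∀ a ∈ l₂, a ∈ D) ∧ (∀ a ∈ l₂, ∀ b ∈ l₂, Commute a b) ∧ l₂.prod = j) ∧ ¬ (∀ x : G, x ∈ l₁ ↔ x ∈ l₂) ∧ ∀ l : List G, (l.Nodup ∧ l.length = 3 ∧ (∀ a ∈ l, a ∈ D) ∧ (∀ a ∈ l, ∀ b ∈ l, Commute a b) ∧ l.prod = j) → ((∀ x : G, x ∈ l ↔ x ∈ l₁) ∨ (∀ x : G, x ∈ l ↔ x ∈ l₂)) := by
  have S : CfsgLib.FischerType.Setting D :=
    ⟨CfsgLib.ThreeTransp.class_of_primitive hD hprim, hprim, h22.1⟩
  obtain ⟨d, hd, hpair, SX, F, iF, iF', hF, ⟨e⟩⟩ := S.quotSetting_of_typeM22 h22 hd₀ h3 h2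
  refine ⟨?_, ?_⟩
  · rintro j l l' ⟨hn, hlen, hmem, hcomm, hprod⟩ ⟨hn', hlen', hmem', hcomm', hprod'⟩
    obtain ⟨a, b, rfl⟩ := List.length_eq_two.1 hlen
    obtain ⟨c, e, rfl⟩ := List.length_eq_two.1 hlen'
    have hp := hprod.trans hprod'.symm
    simp only [List.nodup_cons, List.mem_cons, List.not_mem_nil, or_false, List.nodup_nil,
      not_false_iff, and_true] at hn hn'
    simp only [List.prod_cons, List.prod_nil, mul_one] at hp
    rcases S.pair_unique (hmem a (by simp)) (hmem b (by simp)) (hmem' c (by simp))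
        (hmem' e (by simp)) hn hn' (hcomm a (by simp) b (by simp))
        (hcomm' c (by simp) e (by simp)) hp with ⟨rfl, rfl⟩ | ⟨rfl, rfl⟩
    · exact fun x => Iff.rfl
    · intro x; simp [or_comm]
  · rintro j l₀ ⟨hn, hlen, hmem, hcomm, hprod⟩
    obtain ⟨a, b, c, rfl⟩ := List.length_eq_three.1 hlen
    simp only [List.nodup_cons, List.mem_cons, List.not_mem_nil, or_false, List.nodup_nil,
      not_false_iff, and_true, not_or] at hn
    simp only [List.prod_cons, List.prod_nil, mul_one, ← mul_assoc] at hprod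
    obtain ⟨⟨hab, hac⟩, hbc⟩ := hn
    have ha := hmem a (by simp)
    have hb : b ∈ CfsgLib.ThreeTrans.link D a :=
      ⟨hmem b (by simp), Ne.symm hab, hcomm a (by simp) b (by simp)⟩
    have hc : c ∈ CfsgLib.ThreeTrans.link D a :=
      ⟨hmem c (by simp), Ne.symm hac, hcomm a (by simp) c (by simp)⟩
    have hcb : c ∈ CfsgLib.ThreeTrans.link D b :=
      ⟨hmem c (by simp), Ne.symm hbc, hcomm b (by simp) c (by simp)⟩
    obtain ⟨p, q, r, hpq, hpr, hqr, hR, hpqr⟩ := S.exists_partner hd hpair SX hF e ha hb hc hcb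
    have hm : ∀ s ∈ [p, q, r], s ∈ CfsgLib.FischerType.radical D a b c := by
      intro s hs
      rw [hR]
      simpa using hs
    refine ⟨[a, b, c], [p, q, r], ⟨?_, rfl, hmem, hcomm, ?_⟩,
      ⟨?_, rfl, fun s hs => (hm s hs).1.1.1.1,
        fun s hs t ht => (hm s hs).2 t (hm t ht).1, ?_⟩, ?_, ?_⟩
    · simp [hab, hac, hbc]
    · simpa [mul_assoc] using hprod
    · simp [hpq, hpr, hqr]
    · simpa [mul_assoc, ← hprod] using hpqr
    · intro h
      exact (hm a ((h a).1 (by simp))).1.1.1.2.1 rfl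
    · rintro l ⟨hnl, hlenl, hmeml, hcomml, hprodl⟩
      obtain ⟨x, y, z, rfl⟩ := List.length_eq_three.1 hlenl
      simp only [List.nodup_cons, List.mem_cons, List.not_mem_nil, or_false, List.nodup_nil,
        not_false_iff, and_true, not_or] at hnl
      simp only [List.prod_cons, List.prod_nil, mul_one, ← mul_assoc] at hprodl
      exact S.triple_alternatives ha hb hc hcb hR (hmeml x (by simp)) (hmeml y (by simp))
        (hmeml z (by simp)) hnl.1.1 hnl.1.2 hnl.2 (hcomml x (by simp) y (by simp))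
        (hcomml x (by simp) z (by simp)) (hcomml y (by simp) z (by simp))
        (hprodl.trans hprod.symm)

end Cfsg.Agent.S5463
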