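import Cfsg.Statements.S5464
import Cfsg.Agent.Lib.FischerType.Factor

set_option autoImplicit false
open Cfsg

namespace Cfsg.Agent.S5464

/-- Let G be a finite group with trivial centre generated by a conjugation-invariant set D of 3-transpositions on which it acts primitively, such that for some d in D the subgroup generated by the members of D other than d commuting with d has central largest normal 2- and 3-subgroups, and suppose G with D is of type M(23) or of type M(24). Then for m ≤ 3, a product of m distinct pairwise commuting members of D determines the set of factors: any two m-element sets of pairwise commuting members of D with the same product coincide. -/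
theorem result {G : Type*} [Group G] [Finite G] {D : Set G} (hD : Cfsg.IsThreeTranspositionGroup D) (hprim : Cfsg.IsPrimitiveUnderConj D) (d₀ : G) (hd₀ : d₀ ∈ D) (h3 : Cfsg.pCore 3 ↥(Subgroup.closure {y : G | y ∈ D ∧ y ≠ d₀ ∧ Commute d₀ y}) ≤ Subgroup.center ↥(Subgroup.closure {y : G | y ∈ D ∧ y ≠ d₀ ∧ Commute d₀ y})) (h2 : Cfsg.pCore 2 ↥(Subgroup.closure {y : G | y ∈ D ∧ y ≠ d₀ ∧ Commute d₀ y}) ≤ Subgroup.center ↥(Subgroup.closure {y : G | y ∈ D ∧ y ≠ d₀ ∧ Commute d₀ y})) (h : Cfsg.IsOfTypeM23 G D ∨ Cfsg.IsOfTypeM24 G D) (m : ℕ) (hm : m ≤ 3) (j : G) (l l' : List G) (hl : (l.Nodup ∧ l.length = m ∧ (∀ a ∈ l, a ∈ D) ∧ (∀ a ∈ l, ∀ b ∈ l, Commute a b) ∧ l.prod = j)) (hl' : (l'.Nodup ∧ l'.length = m ∧ (∀ a ∈ l', a ∈ D) ∧ (∀ a ∈ l', ∀ b ∈ l', Commute a b) ∧ l'.prod = j)) : (∀ x : G, x ∈ l ↔ x ∈ l') := by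
  obtain ⟨S, hP⟩ := CfsgLib.FischerType.pairTwinFree_of_type hD hprim hd₀ h3 h2 h
  obtain ⟨hn, hlen, hmem, hcomm, hprod⟩ := hl
  obtain ⟨hn', hlen', hmem', hcomm', hprod'⟩ := hl'
  have hp : l.prod = l'.prod := hprod.trans hprod'.symm
  interval_cases m
  · rw [List.length_eq_zero_iff] at hlen hlen'
    subst hlen hlen'
    exact fun x => Iff.rfl
  · obtain ⟨a, rfl⟩ := List.length_eq_one_iff.1 hlen
    obtain ⟨b, rfl⟩ := List.length_eq_one_iff.1 hlen'
    simp only [List.prod_cons, List.prod_nil, mul_one] at hp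
    subst hp
    exact fun x => Iff.rfl
  · obtain ⟨a, b, rfl⟩ := List.length_eq_two.1 hlen
    obtain ⟨c, e, rfl⟩ := List.length_eq_two.1 hlen'
    simp only [List.nodup_cons, List.mem_cons, List.not_mem_nil, or_false, List.nodup_nil,
      not_false_iff, and_true] at hn hn'
    simp only [List.prod_cons, List.prod_nil, mul_one] at hp
    rcases S.pair_unique (hmem a (by simp)) (hmem b (by simp)) (hmem' c (by simp))
        (hmem' e (by simp)) hn hn' (hcomm a (by simp) b (by simp))
        (hcomm' c (by simp) e (by simp)) hp with ⟨rfl, rfl⟩ | ⟨rfl, rfl⟩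
    · exact fun x => Iff.rfl
    · intro x; simp [or_comm]
  · obtain ⟨a, b, c, rfl⟩ := List.length_eq_three.1 hlen
    obtain ⟨d, e, f, rfl⟩ := List.length_eq_three.1 hlen'
    simp only [List.nodup_cons, List.mem_cons, List.not_mem_nil, or_false, List.nodup_nil,
      not_false_iff, and_true, not_or] at hn hn'
    simp only [List.prod_cons, List.prod_nil, mul_one, ← mul_assoc] at hp
    exact S.triple_unique hP (hmem a (by simp)) (hmem b (by simp)) (hmem c (by simp))
      (hmem' d (by simp)) (hmem' e (by simp)) (hmem' f (by simp)) hn.1.1 hn.1.2 hn.2 hn'.1.1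
      hn'.1.2 hn'.2 (hcomm a (by simp) b (by simp)) (hcomm a (by simp) c (by simp))
      (hcomm b (by simp) c (by simp)) (hcomm' d (by simp) e (by simp))
      (hcomm' d (by simp) f (by simp)) (hcomm' e (by simp) f (by simp)) hp

end Cfsg.Agent.S5464
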