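import Cfsg.Statements.S5469
import Cfsg.Agent.Lib.FischerThompson.PairTop

set_option autoImplicit false
open Cfsg

namespace Cfsg.Agent.S5469

/-- Let G be a finite group with trivial centre generated by a conjugation-invariant set D of 3-transpositions on which it acts primitively, such that for some d in D the subgroup generated by the members of D other than d commuting with d has central largest normal 2- and 3-subgroups, and suppose G with D is of type M(22). Let d₁, d₂ be distinct commuting members of D, j = d₁ d₂, K the joint centralizer of d₁ and d₂, C the centralizer of j and V the subgroup generated by d₁ and d₂. Then K has index 2 in C, V is the centre of K, and C has a normal subgroup E containing V with E/V elementary abelian of order 2^8 and C/E isomorphic to the full automorphism group of the projective special unitary group of dimension 4 over the field with four elements. -/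
theorem result {G : Type*} [Group G] [Finite G] {D : Set G} (hD : Cfsg.IsThreeTranspositionGroup D) (hprim : Cfsg.IsPrimitiveUnderConj D) (d₀ : G) (hd₀ : d₀ ∈ D) (h3 : Cfsg.pCore 3 ↥(Subgroup.closure {y : G | y ∈ D ∧ y ≠ d₀ ∧ Commute d₀ y}) ≤ Subgroup.center ↥(Subgroup.closure {y : G | y ∈ D ∧ y ≠ d₀ ∧ Commute d₀ y})) (h2 : Cfsg.pCore 2 ↥(Subgroup.closure {y : G | y ∈ D ∧ y ≠ d₀ ∧ Commute d₀ y}) ≤ Subgroup.center ↥(Subgroup.closure {y : G | y ∈ D ∧ y ≠ d₀ ∧ Commute d₀ y})) (h22 : Cfsg.IsOfTypeM22 G D) (d₁ d₂ : G) (h₁ : d₁ ∈ D) (h₂ : d₂ ∈ D) (hne : d₁ ≠ d₂) (hc : Commute d₁ d₂) (K C V : Subgroup G) (hK : K = Subgroup.centralizer ({d₁, d₂} : Set G)) (hC : C = Subgroup.centralizer ({d₁ * d₂} : Set G)) (hV : V = Subgroup.closure ({d₁, d₂} : Set G)) : K ≤ C ∧ (K.subgroupOf C).index = 2 ∧ (Subgroup.center ↥K).map K.subtype = V ∧ ∃ E : Subgroup G, V ≤ E ∧ E ≤ C ∧ (∀ c ∈ C, ∀ x ∈ E, c * x * c⁻¹ ∈ E) ∧ Nat.card E = 2 ^ 10 ∧ (∀ x ∈ E, ∀ y ∈ E, x * y * x⁻¹ * y⁻¹ ∈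 V ∧ x ^ 2 ∈ V) ∧ ∃ (_ : (E.subgroupOf C).Normal) (F : Type) (_ : Field F) (_ : Fintype F), Fintype.card F = 4 ∧ Nonempty (↥C ⧸ E.subgroupOf C ≃* MulAut (Cfsg.PSU 4 F 2)) := by
  obtain ⟨S⟩ : Nonempty (CfsgLib.FischerType.Setting D) :=
    ⟨⟨CfsgLib.ThreeTransp.class_of_primitive hD hprim, hprim, h22.1⟩⟩
  obtain ⟨F, i1, i2, hF, X, P, rfl, A⟩ := CfsgLib.FischerThompson.exists_cfg S h22 h₁ h₂ hne hc
  have hKP : K = P.K := by
    rw [hK]
    ext g
    simp [CfsgLib.FischerThompson.Cfg.K, Subgroup.mem_centralizer_iff, Subgroup.mem_inf]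
  have hCP : C = P.C := hC
  subst hKP hCP hV
  haveI := P.normal_E A
  refine ⟨P.K_le_C, P.index_K A, P.center_K, P.E, ?_, P.E_le.trans P.K_le_C,
    fun c hc x hx => P.conj_mem_E' A hc hx, P.card_E, fun x hx y hy => P.comm_mem A hx hy, inferInstance,
    F, i1, i2, hF.trans (by norm_num), P.quot_iso A⟩
  rw [Subgroup.closure_le]
  rintro x (e | e) <;> rw [e]
  exacts [P.d_mem_E, P.y_mem_E]

end Cfsg.Agent.S5469
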