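import Cfsg.Statements.S5472
import Cfsg.Agent.Lib.Fi22Outer.Transfer
import Cfsg.Agent.Lib.LocalStr.PReduced

set_option autoImplicit false
set_option linter.style.haveILetI false
open Cfsg

namespace Cfsg.Agent.S5472

/-- Let G be a finite group with trivial centre generated by a conjugation-invariant set D of 3-transpositions on which it acts primitively, such that for some d in D the subgroup generated by the members of D other than d commuting with d has central largest normal 2- and 3-subgroups, and suppose G with D is of type M(22). Then G has a non-inner automorphism s of order 2 whose fixed-point subgroup is isomorphic to the full automorphism group of Ω⁺(8, 2) (the commutator subgroup of the isometry group of the hyperbolic quadratic form in dimension 8 over the field with two elements), together with distinct commuting members a, b of D fixed by s such that: s, s composed with conjugation by a, and s composed with conjugation by a b represent the three classes (under the automorphism group) of non-inner automorphisms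 of order 2; the elements fixed by the automorphism s composed with conjugation by a are exactly those fixed by s and commuting with a, and they form a group isomorphic to the direct product of a group of order 2 and the symplectic group of dimension 6 over the field with two elements; and the elements fixed by the automorphism s composed with conjugation by a b form a group whose largest normal 2-subgroup is elementary abelian of order 64 with quotient isomorphic to the full isometry group of the elliptic quadratic form in dimension 6 over the field with two elements. -/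
theorem result {G : Type*} [Group G] [Finite G] {D : Set G} (hD : Cfsg.IsThreeTranspositionGroup D) (hprim : Cfsg.IsPrimitiveUnderConj D) (d₀ : G) (hd₀ : d₀ ∈ D) (h3 : Cfsg.pCore 3 ↥(Subgroup.closure {y : G | y ∈ D ∧ y ≠ d₀ ∧ Commute d₀ y}) ≤ Subgroup.center ↥(Subgroup.closure {y : G | y ∈ D ∧ y ≠ d₀ ∧ Commute d₀ y})) (h2 : Cfsg.pCore 2 ↥(Subgroup.closure {y : G | y ∈ D ∧ y ≠ d₀ ∧ Commute d₀ y}) ≤ Subgroup.center ↥(Subgroup.closure {y : G | y ∈ D ∧ y ≠ d₀ ∧ Commute d₀ y})) (h22 : Cfsg.IsOfTypeM22 G D) : ∃ (s : MulAut G) (a b : G) (Cs : Subgroup G), orderOf s = 2 ∧ s ∉ (MulAut.conj : G →* MulAut G).range ∧ (∀ g : G, g ∈ Cs ↔ s g = g) ∧ Nonempty (↥Cs ≃* MulAut (Cfsg.Omega (ZMod 2) (Cfsg.quadFormPlus 4 (ZMod 2)))) ∧ a ∈ D ∧ b ∈ D ∧ a ≠ b ∧ Commute a b ∧ s a = a ∧ s b = b ∧ (∀ t : MulAut G, orderOf t = 2 → t ∉ (MulAut.conj : G →* MulAut G).range → (IsConj t s ∨ IsConj t (s * MulAut.conj a) ∨ IsConj t (s * MulAut.conj (a * b)))) ∧ ¬ IsConj s (s * MulAut.conj a) ∧ ¬ IsConj s (s * MulAut.conj (a * b)) ∧ ¬ IsConj (s * MulAut.conj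 a) (s * MulAut.conj (a * b)) ∧ (∀ g : G, (s * MulAut.conj a) g = g ↔ g ∈ Cs ⊓ Subgroup.centralizer ({a} : Set G)) ∧ Nonempty (↥(Cs ⊓ Subgroup.centralizer ({a} : Set G)) ≃* Multiplicative (ZMod 2) × Cfsg.PSp 3 (ZMod 2)) ∧ ∃ Csab O : Subgroup G, (∀ g : G, g ∈ Csab ↔ (s * MulAut.conj (a * b)) g = g) ∧ O = (Cfsg.pCore 2 ↥Csab).map Csab.subtype ∧ Cfsg.IsElementaryAbelian 2 O ∧ Nat.card O = 64 ∧ ∃ _ : (O.subgroupOf Csab).Normal, Nonempty (↥Csab ⧸ O.subgroupOf Csab ≃* Cfsg.isometryGroup (ZMod 2) (Cfsg.quadFormMinus 2 (ZMod 2) 1 1)) := by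
  classical
  open CfsgLib.Fi22Outer in
    have S : CfsgLib.FischerType.Setting D :=
      ⟨CfsgLib.ThreeTransp.class_of_primitive hD hprim, hprim, h22.1⟩
    obtain ⟨φ, hφ⟩ := CfsgLib.FischerFi22.exists_iso S h22
    have hD' := image_cls S φ hφ
    have H := facts S h22 φ hD'
    have : Finite Cfsg.Spor.Fi22 := CfsgLib.CosetEnum.Fi22.finite
    set e : MulAut Cfsg.Spor.Fi22 ≃* MulAut G := MulAut.congr φ with he
    have he_apply : ∀ (σ : MulAut Cfsg.Spor.Fi22) (u : Cfsg.Spor.Fi22), e σ (φ u) = φ (σ u) := fun σ u => by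
      simp [he]
    have he_conj : ∀ u, e (MulAut.conj u) = MulAut.conj (φ u) := fun u => by
      ext g
      simp [he]
    have hsw1 : (sw : MulAut Cfsg.Spor.Fi22) ≠ 1 := fun h =>
      CfsgLib.FischerFi22Out.swap_not_inner ⟨1, by rw [map_one]; exact h.symm⟩
    have hI1 : e sw * MulAut.conj (φ (trN ptA)) = e inv1 := by rw [inv1, map_mul, he_conj]
    have hI2 : e sw * MulAut.conj (φ (trN ptA) * φ (trN ptB)) = e inv2 := by
      rw [inv2, ← map_mul φ, map_mul e, he_conj]
    have hAfx : sw (trN ptA) = trN ptA := fxA.1.moves.2.2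
    have hBfx : sw (trN ptB) = trN ptB := fx_ptB.moves.2.2
    have hne : trN ptA ≠ trN ptB := fun h => absurd (trN_inj ptA_lt ptB_lt h) (by decide)
    have hcomm : Commute (trN ptA) (trN ptB) := by
      have h := base_spec.2.1 1 (by norm_num) 2 (by norm_num)
      rw [base_spec.2.2.1, base_spec.2.2.2.1] at h
      exact (commute_iff ptA_lt ptB_lt).2 h
    have hcentA : ∀ u : Cfsg.Spor.Fi22, φ u ∈ Subgroup.centralizer ({φ (trN ptA)} : Set G) ↔
        u ∈ Subgroup.centralizer ({trN ptA} : Set Cfsg.Spor.Fi22) := fun u => by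
      simp only [Subgroup.mem_centralizer_singleton_iff, ← map_mul, φ.injective.eq_iff]
    have hmap : (Cs ⊓ Subgroup.centralizer ({trN ptA} : Set Cfsg.Spor.Fi22)).map φ.toMonoidHom =
        Cs.map φ.toMonoidHom ⊓ Subgroup.centralizer ({φ (trN ptA)} : Set G) := by
      ext g
      obtain ⟨u, rfl⟩ := φ.surjective g
      rw [Subgroup.mem_inf]
      show φ.toMonoidHom u ∈ _ ↔ φ.toMonoidHom u ∈ _ ∧ φ u ∈ _
      rw [Subgroup.mem_map_iff_mem (show Function.Injective φ.toMonoidHom from φ.injective),
        Subgroup.mem_map_iff_mem (show Function.Injective φ.toMonoidHom from φ.injective), Subgroup.mem_inf,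
        hcentA]
    refine ⟨e sw, φ (trN ptA), φ (trN ptB), Cs.map φ.toMonoidHom, ?_, ?_, ?_, ?_,
      hD'.subset ⟨_, trN_mem ptA_lt, rfl⟩, hD'.subset ⟨_, trN_mem ptB_lt, rfl⟩, fun h => hne (φ.injective h),
      hcomm.map φ.toMonoidHom, by rw [he_apply, hAfx], by rw [he_apply, hBfx], ?_, ?_, ?_, ?_, ?_, ?_, ?_⟩
    · rw [MulEquiv.orderOf_eq]
      exact orderOf_eq_prime (by rw [pow_two]; exact CfsgLib.FischerFi22Out.swap_mul_self) hsw1
    · rintro ⟨g, hg⟩
      obtain ⟨u, rfl⟩ := φ.surjective g
      rw [← he_conj] at hg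
      exact CfsgLib.FischerFi22Out.swap_not_inner ⟨u, e.injective hg⟩
    · intro g
      obtain ⟨u, rfl⟩ := φ.surjective g
      rw [he_apply, φ.injective.eq_iff]
      exact Subgroup.mem_map_iff_mem (f := φ.toMonoidHom) φ.injective
    · obtain ⟨f⟩ := nonempty_csEquiv
      exact ⟨(Cs.equivMapOfInjective φ.toMonoidHom φ.injective).symm.trans f⟩
    · intro t ht hno
      obtain ⟨t0, rfl⟩ := e.surjective t
      rw [MulEquiv.orderOf_eq] at ht
      obtain ⟨c, i, hi, hc⟩ := classify H ht fun ⟨u, hu⟩ => hno ⟨φ u, by rw [← he_conj, hu]⟩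
      have hconj : IsConj t0 (reps i) := (isConj_iff.2 ⟨MulAut.conj c, hc.symm⟩).symm
      have hconj' : IsConj (e t0) (e (reps i)) := e.toMonoidHom.map_isConj hconj
      rw [hI1, hI2]
      interval_cases i
      · exact Or.inl hconj'
      · exact Or.inr (Or.inl hconj')
      · exact Or.inr (Or.inr hconj')
    · rw [hI1]
      exact fun h => not_isConj H (x := sw) (y := inv1) (by rw [ncard_fix_sw, ncard_fix_inv1]; norm_num)
        (by simpa using e.symm.toMonoidHom.map_isConj h)
    · rw [hI2]
      exact fun h => not_isConj H (x := sw) (y := inv2) (by rw [ncard_fix_sw, ncard_fix_inv2]; norm_num)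
        (by simpa using e.symm.toMonoidHom.map_isConj h)
    · rw [hI1, hI2]
      exact fun h => not_isConj H (x := inv1) (y := inv2) (by rw [ncard_fix_inv1, ncard_fix_inv2]; norm_num)
        (by simpa using e.symm.toMonoidHom.map_isConj h)
    · intro g
      obtain ⟨u, rfl⟩ := φ.surjective g
      rw [hI1, he_apply, φ.injective.eq_iff, inv1_fix_iff, ← hmap]
      exact (Subgroup.mem_map_iff_mem (f := φ.toMonoidHom) φ.injective).symm
    · obtain ⟨f⟩ := nonempty_stEquiv
      exact ⟨(MulEquiv.subgroupCongr hmap.symm).trans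
        ((Subgroup.equivMapOfInjective _ φ.toMonoidHom φ.injective).symm.trans (stAEquiv.symm.trans f))⟩
    · set K : Subgroup G := Csab.map φ.toMonoidHom with hK
      set f : Csab ≃* K := Csab.equivMapOfInjective φ.toMonoidHom φ.injective with hf
      have hcore : toOrth6.ker.map f.toMonoidHom = Cfsg.pCore 2 K := by
        rw [← pCore_Csab]
        exact CfsgLib.Solvable.map_pCore_mulEquiv f
      have hO : (Cfsg.pCore 2 K).map K.subtype = (toOrth6.ker.map Csab.subtype).map φ.toMonoidHom := by
        rw [← hcore, Subgroup.map_map, Subgroup.map_map]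
        rfl
      have hsub : ((Cfsg.pCore 2 K).map K.subtype).subgroupOf K = Cfsg.pCore 2 K :=
        Subgroup.comap_map_eq_self_of_injective K.subtype_injective _
      refine ⟨K, (Cfsg.pCore 2 K).map K.subtype, fun g => ?_, rfl, ?_, ?_, ?_⟩
      · obtain ⟨u, rfl⟩ := φ.surjective g
        rw [hI2, he_apply, φ.injective.eq_iff]
        exact Subgroup.mem_map_iff_mem (f := φ.toMonoidHom) φ.injective
      · rw [hO]
        exact (CfsgLib.LocalStr.isElementaryAbelian_map (show Function.Injective φ.toMonoidHom from φ.injective)).2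
          ker_map_elementary
      · rw [hO, ← Nat.card_congr (Subgroup.equivMapOfInjective _ φ.toMonoidHom φ.injective).toEquiv,
          card_ker_map]
      · haveI hn : (((Cfsg.pCore 2 K).map K.subtype).subgroupOf K).Normal := by
          rw [hsub]; exact CfsgLib.Solvable.pCore_normal (p := 2) K
        exact ⟨hn, ⟨(QuotientGroup.congr _ _ f (hcore.trans hsub.symm)).symm.trans quotEquiv6⟩⟩

end Cfsg.Agent.S5472
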