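import Cfsg.Statements.S5519
import Cfsg.Agent.Lib.FischerThompson.PairTop
import Cfsg.Agent.Lib.Leech.Triangle.FieldTransfer
import Cfsg.Agent.Lib.LargeXS.Congr

set_option autoImplicit false
open Cfsg

namespace Cfsg.Agent.S5519

/-- Let G be a finite group with trivial centre generated by a conjugation-invariant set D of 3-transpositions on which it acts primitively, such that for some d in D the subgroup generated by the members of D other than d commuting with d has central largest normal 2- and 3-subgroups, and suppose G with D is of type M(22). Let d₁, d₂ be distinct commuting members of D and C the centralizer of their product. Then the generalized Fitting subgroup of C is the direct product of a group of order 2 and an extraspecial 2-group of order 2^9, and C modulo it is isomorphic to the full isometry group of the elliptic quadratic form in dimension 6 over the field with two elements. -/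
theorem result {G : Type*} [Group G] [Finite G] {D : Set G} (hD : Cfsg.IsThreeTranspositionGroup D) (hprim : Cfsg.IsPrimitiveUnderConj D) (d₀ : G) (hd₀ : d₀ ∈ D) (h3 : Cfsg.pCore 3 ↥(Subgroup.closure {y : G | y ∈ D ∧ y ≠ d₀ ∧ Commute d₀ y}) ≤ Subgroup.center ↥(Subgroup.closure {y : G | y ∈ D ∧ y ≠ d₀ ∧ Commute d₀ y})) (h2 : Cfsg.pCore 2 ↥(Subgroup.closure {y : G | y ∈ D ∧ y ≠ d₀ ∧ Commute d₀ y}) ≤ Subgroup.center ↥(Subgroup.closure {y : G | y ∈ D ∧ y ≠ d₀ ∧ Commute d₀ y})) (h22 : Cfsg.IsOfTypeM22 G D) (d₁ d₂ : G) (h₁ : d₁ ∈ D) (h₂ : d₂ ∈ D) (hne : d₁ ≠ d₂) (hc : Commute d₁ d₂) (C : Subgroup G) (hC : C = Subgroup.centralizer ({d₁ * d₂} : Set G)) [hn : (Cfsg.generalizedFittingSubgroup ↥C).Normal] : (∃ (E : Type) (_ : Group E) (_ : Finite E), Cfsg.IsExtraspecial 2 E ∧ Nat.card E = 2 ^ 9 ∧ Nonempty (↥(Cfsg.generalizedFittingSubgroup ↥C) ≃* Multiplicative (ZMod 2) × E)) ∧ Nonempty (↥C ⧸ Cfsg.generalizedFittingSubgroup ↥C ≃* Cfsg.isometryGroup (ZMod 2) (Cfsg.quadFormMinus 2 (ZMod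 2) 1 1)) := by
  obtain ⟨S⟩ : Nonempty (CfsgLib.FischerType.Setting D) :=
    ⟨⟨CfsgLib.ThreeTransp.class_of_primitive hD hprim, hprim, h22.1⟩⟩
  obtain ⟨F, i1, i2, hF, X, P, rfl, A⟩ := CfsgLib.FischerThompson.exists_cfg S h22 h₁ h₂ hne hc
  have hCP : C = P.C := hC
  subst hCP
  haveI := P.normal_E A
  have hgf := P.genFitting_C A
  have hEC : P.E ≤ P.C := P.E_le.trans P.K_le_C
  refine ⟨?_, ?_⟩
  · obtain ⟨H, hH, hcard, ⟨e⟩⟩ := P.exists_extraspecial A
    haveI : Small.{0} H := small_of_injective (Finite.equivFin H).injective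
    let f : H ≃* Shrink.{0} H := (Shrink.mulEquiv (α := H)).symm
    haveI : Finite (Shrink.{0} H) := Finite.of_equiv _ f.toEquiv
    exact ⟨Shrink.{0} H, inferInstance, inferInstance, CfsgLib.LargeXS.isExtraspecial_congr f hH,
      (Nat.card_congr f.toEquiv).symm.trans hcard,
      ⟨(MulEquiv.subgroupCongr hgf).trans ((Subgroup.subgroupOfEquivOfLe hEC).trans
        (e.trans ((MulEquiv.refl _).prodCongr f)))⟩⟩
  · obtain ⟨a⟩ := P.quot_iso A
    obtain ⟨o⟩ := CfsgLib.LargeFischer.o6_mulAut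
    obtain ⟨r⟩ : Nonempty (F ≃+* CfsgLib.Recog.GF4.K4) :=
      ⟨FiniteField.ringEquivOfCardEq (hF.trans (CfsgLib.Recog.GF4.card_K4.trans (by norm_num)).symm)⟩
    exact ⟨((QuotientGroup.quotientMulEquivOfEq hgf).trans a).trans
      ((MulAut.congr (CfsgLib.Leech.Triangle.psuEquivRing r)).trans o.symm)⟩

end Cfsg.Agent.S5519
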