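import Cfsg.Statements.S5521
import Cfsg.Agent.Lib.Golay.M24

set_option autoImplicit false
open Cfsg

namespace Cfsg.Agent.S5521

open CfsgLib.Golay

theorem result :
    (∀ B : Finset Cfsg.GolayPt, B.card ≤ 6 → ∃ g ∈ Cfsg.M24, g ≠ 1 ∧ ∀ b ∈ B, g b = b) ∧
    (∃ B : Finset Cfsg.GolayPt, B.card = 7 ∧ ∀ g ∈ Cfsg.M24, (∀ b ∈ B, g b = b) → g = 1) := by
  classical
  constructor
  · intro B hB
    -- more elements than possible images of the tuple
    let f : M24 → ({b // b ∈ B} ↪ GolayPt) := fun g =>
      ⟨fun b => (g : Equiv.Perm GolayPt) b.1, fun a b h => Subtype.ext ((g : Equiv.Perm GolayPt).injective h)⟩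
    have hlt : Nat.card ({b // b ∈ B} ↪ GolayPt) < Nat.card M24 := by
      rw [card_M24, Nat.card_eq_fintype_card, Fintype.card_embedding_eq, Fintype.card_coe,
        show Fintype.card GolayPt = 24 by simp [Cfsg.GolayPt]]
      interval_cases h : B.card <;> decide
    obtain ⟨g, h, hne, he⟩ : ∃ g h : M24, g ≠ h ∧ f g = f h := by
      by_contra hcon
      push Not at hcon
      have : Function.Injective f := fun g h e => by
        by_contra hne
        exact hcon g h hne e
      exact absurd (Nat.card_le_card_of_injective f this) (not_le.2 hlt)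
    refine ⟨((h⁻¹ * g : M24) : Equiv.Perm GolayPt), (h⁻¹ * g : M24).2, ?_, fun b hb => ?_⟩
    · intro e
      exact hne (inv_mul_eq_one.1 (Subtype.ext e)).symm
    · have e : (g : Equiv.Perm GolayPt) b = (h : Equiv.Perm GolayPt) b :=
        congrArg (fun φ : {b // b ∈ B} ↪ GolayPt => φ ⟨b, hb⟩) he
      simp [e]
  · refine ⟨[some 4, some 5, some 3, some 2, some 1, some 0, (none : GolayPt)].toFinset,
      by decide, fun g hg hfix => ?_⟩
    have : g ∈ fixPts M24 [some 4, some 5, some 3, some 2, some 1, some 0, none] :=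
      mem_fixPts.2 ⟨hg, fun x hx => hfix x (List.mem_toFinset.2 hx)⟩
    rw [fixPts_base7] at this
    exact this

end Cfsg.Agent.S5521
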