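import Cfsg.Statements.S5522
import Cfsg.Agent.Lib.Golay.Mathieu
import Cfsg.Agent.Lib.M24Elt.Sylow
import Cfsg.Agent.Lib.M24Elt.M11Data

set_option autoImplicit false
open Cfsg
open scoped Pointwise

namespace Cfsg.Agent.S5522

open CfsgLib.M24Elt CfsgLib.Comp CfsgLib.Golay

/-- Membership test for M11 on codes. -/
noncomputable def inM11 (c : ℕ) : Bool :=
  good c && Nat.beq (PermCode.get c 0) 0 && Nat.beq (push c 340831) 340831

/-- A fixed point outside the dodecad for every non-identity element. -/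
noncomputable def offCheck (p : ℕ) (elts : List (ℕ × List ℕ)) : Bool :=
  elts.all fun e => !isOne (powc e.1 p) || isOne e.1 ||
    (List.range 24).any fun i => !(340831 : ℕ).testBit i && Nat.beq (PermCode.get e.1 i) i

theorem pm_mem_M11 {c : ℕ} (h : inM11 c = true) : pm c ∈ Spor.M11 := by
  simp only [inM11, Bool.and_eq_true] at h
  obtain ⟨⟨hg, h0⟩, hD⟩ := h
  refine ⟨mem_M12.2 ⟨pm_mem hg, ?_⟩, ?_⟩
  · rw [squareDodecad_eq, ← toSet_push (isPermOf_pm (good_ok hg)), Nat.eq_of_beq_eq_true hD]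
  · show pm c (some 0) = some 0
    exact bit_injective ((bit_pm (good_ok hg) _).trans (Nat.eq_of_beq_eq_true h0))

theorem gens_check :
    ((M11Data.syl2Gens ++ M11Data.syl3Gens ++ M11Data.syl5Gens ++ M11Data.syl11Gens).all inM11 &&
      (closedCheck M11Data.syl2Gens M11Data.syl2Elts && offCheck 2 M11Data.syl2Elts) &&
      (closedCheck M11Data.syl3Gens M11Data.syl3Elts && offCheck 3 M11Data.syl3Elts) &&
      (closedCheck M11Data.syl5Gens M11Data.syl5Elts && offCheck 5 M11Data.syl5Elts) &&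
      (closedCheck M11Data.syl11Gens M11Data.syl11Elts && offCheck 11 M11Data.syl11Elts)) = true := by
  decide +kernel

theorem main_case {p k : ℕ} [Fact p.Prime] {gens : List ℕ} {elts : List (ℕ × List ℕ)}
    (hgens : ∀ s ∈ gens, inM11 s = true) (hcl : closedCheck gens elts = true)
    (hoff : offCheck p elts = true) (hcard : Nat.card (PermCode.span 24 gens) = p ^ k)
    (hk : ¬ p ^ (k + 1) ∣ 7920) {g : Equiv.Perm GolayPt} (hg : g ∈ Spor.M11) (hord : orderOf g = p) :
    ∃ x : GolayPt, x ∉ Spor.squareDodecad ∧ g x = x := by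
  obtain ⟨u, hu, e, he, hok, hue⟩ :=
    exists_conj_code_in card_M11 (fun s hs => pm_mem_M11 (hgens s hs)) hcl hcard hk hg hord
  have hne : isOne e.1 = false := Bool.eq_false_iff.2 fun t => by
    have e1 := pm_eq_one hok t
    rw [← hue, conj_eq_one_iff] at e1
    rw [e1, orderOf_one] at hord
    exact (Fact.out : p.Prime).one_lt.ne hord
  have h1 := List.all_eq_true.1 hoff e he
  have hpow : isOne (powc e.1 p) = true := isOne_of_pm (powc_ok hok p) (by
    rw [pm_powc hok, ← hue, conj_pow, ← hord, pow_orderOf_eq_one, mul_one, mul_inv_cancel])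
  rw [hne, hpow, Bool.not_true, Bool.false_or, Bool.false_or, List.any_eq_true] at h1
  obtain ⟨i, hi, h2⟩ := h1
  rw [List.mem_range] at hi
  simp only [Bool.and_eq_true, Bool.not_eq_true'] at h2
  have hfix : pm e.1 (CfsgLib.Golay.pt i) = CfsgLib.Golay.pt i :=
    bit_injective (by rw [bit_pm hok, bit_pt hi]; exact Nat.eq_of_beq_eq_true h2.2)
  refine ⟨u⁻¹ (CfsgLib.Golay.pt i), fun hmem => ?_, ?_⟩
  · have := (M12_apply_mem hu.1 (u⁻¹ (CfsgLib.Golay.pt i))).2 hmem
    rw [perm_apply_inv, squareDodecad_eq, mem_toSet, bit_pt hi, h2.1] at this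
    exact Bool.noConfusion this
  · have h3 : g = u⁻¹ * pm e.1 * u := by rw [← hue]; group
    rw [h3, Equiv.Perm.mul_apply, Equiv.Perm.mul_apply, perm_apply_inv, hfix]

theorem result (g : Equiv.Perm Cfsg.GolayPt) (hg : g ∈ Cfsg.Spor.M11) (hord : (orderOf g).Prime) :
    ∃ x : Cfsg.GolayPt, x ∉ Cfsg.Spor.squareDodecad ∧ g x = x := by
  have hc := gens_check
  simp only [Bool.and_eq_true, List.all_append, List.all_eq_true] at hc
  obtain ⟨⟨⟨⟨⟨⟨⟨g2, g3⟩, g5⟩, g11⟩, c2, o2⟩, c3, o3⟩, c5, o5⟩, c11, o11⟩ := hc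
  have hdvd : orderOf g ∣ 2 ^ 4 * 3 ^ 2 * 5 * 11 := by
    rw [show 2 ^ 4 * 3 ^ 2 * 5 * 11 = Nat.card Spor.M11 by rw [card_M11]; norm_num,
      show orderOf g = orderOf (⟨g, hg⟩ : Spor.M11) from (Subgroup.orderOf_coe ⟨g, hg⟩)]
    exact orderOf_dvd_natCard _
  generalize hp : orderOf g = p at hord hdvd
  simp only [hord.dvd_mul] at hdvd
  haveI := Fact.mk hord
  have hd : ∀ {m : ℕ}, p ∣ m → m.Prime → p = m := fun h hm => (Nat.prime_dvd_prime_iff_eq hord hm).1 h
  rcases hdvd with ((h | h) | h) | h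
  · obtain rfl := hd (hord.dvd_of_dvd_pow h) Nat.prime_two
    exact main_case (k := 4) g2 c2 o2 (by rw [M11Data.syl2_card]; norm_num) (by norm_num) hg hp
  · obtain rfl := hd (hord.dvd_of_dvd_pow h) Nat.prime_three
    exact main_case (k := 2) g3 c3 o3 (by rw [M11Data.syl3_card]; norm_num) (by norm_num) hg hp
  · obtain rfl := hd h (by norm_num)
    exact main_case (k := 1) g5 c5 o5 (by rw [M11Data.syl5_card]; norm_num) (by norm_num) hg hp
  · obtain rfl := hd h (by norm_num)
    exact main_case (k := 1) g11 c11 o11 (by rw [M11Data.syl11_card]; norm_num) (by norm_num) hg hp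

end Cfsg.Agent.S5522
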