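import Cfsg.Statements.S5529
import Cfsg.Agent.Lib.Golay.M24
import Cfsg.Agent.Lib.PermGen.M23

set_option autoImplicit false
open Cfsg

namespace Cfsg.Agent.S5529

open CfsgLib.Golay in
theorem card_M23 : Nat.card Spor.M23 = 10200960 := by
  have h : Spor.M23 = fixPts M24 [none] := by
    rw [fixPts_cons, fixPts_nil]; rfl
  rw [h]; exact card_fix1

theorem result (p q r : ℕ) (hp : p.Prime) (hq : q.Prime)
    (hr : r.Prime) (hpq : p ≤ q) (hqr : q ≤ r) (hp2 : ¬ (p = 2 ∧ q = 2))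
    (hdvd : p ∣ 10200960 ∧ q ∣ 10200960 ∧ r ∣ 10200960) :
    (∃ x y z : Cfsg.Spor.M23, orderOf x = p ∧ orderOf y = q ∧ orderOf z = r ∧ x * y * z = 1 ∧
        Subgroup.closure {x, y} = ⊤) ↔
      ¬ ((p = 2 ∧ q = 3) ∨ (p = 2 ∧ q = 5 ∧ r = 5) ∨ (p = 2 ∧ q = 5 ∧ r = 7) ∨ (p = 3 ∧ q = 3 ∧ r ≤ 7)) :=
  CfsgLib.PermGen.M23.triple_generation card_M23 p q r hp hq hr hpq hqr hp2 hdvd

end Cfsg.Agent.S5529
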