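import Cfsg.Statements.S5541
-- import your own Cfsg.Agent.* helpers here

set_option autoImplicit false
open Cfsg

namespace Cfsg.Agent.S5541

/-- Let ρ be a representation of a group H on a finite-dimensional real vector space U whose only ρ-invariant subspaces are the zero subspace and U, and suppose U carries a non-zero ρ-invariant symmetric bilinear form. Then the following are equivalent: (1) there is a non-zero ρ-equivariant commutative bilinear product on U of which every ρ-equivariant bilinear product is a scalar multiple; (2) there is a non-zero ρ-invariant trilinear form on U that is symmetric under all permutations of its arguments and of which every ρ-invariant trilinear form is a scalar multiple. -/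
theorem result {H : Type*} [Group H] {U : Type*} [AddCommGroup U] [Module ℝ U] [FiniteDimensional ℝ U] (ρ : Representation ℝ H U) (hirr : ∀ W : Submodule ℝ U, (∀ g : H, W.map (ρ g) ≤ W) → W = ⊥ ∨ W = ⊤) (B : LinearMap.BilinForm ℝ U) (hB0 : B ≠ 0) (hBs : ∀ u v, B u v = B v u) (hBi : ∀ (g : H) (u v : U), B (ρ g u) (ρ g v) = B u v) : (∃ m : U →ₗ[ℝ] U →ₗ[ℝ] U, m ≠ 0 ∧ (∀ u v, m u v = m v u) ∧ (∀ (g : H) (u v : U), m (ρ g u) (ρ g v) = ρ g (m u v)) ∧ ∀ m' : U →ₗ[ℝ] U →ₗ[ℝ] U, (∀ (g : H) (u v : U), m' (ρ g u) (ρ g v) = ρ g (m' u v)) → ∃ c : ℝ, m' = c • m) ↔ (∃ t : U →ₗ[ℝ] U →ₗ[ℝ] U →ₗ[ℝ] ℝ, t ≠ 0 ∧ (∀ u v w, t u v w = t v u w ∧ t u v w = t u w v) ∧ (∀ (g : H) (u v w : U), t (ρ g u) (ρ g v) (ρ g w) = t u v w) ∧ ∀ t' : U →ₗ[ℝ] U →ₗ[ℝ] U →ₗ[ℝ] ℝ, (∀ (g : H) (u v w : U), t' (ρ g u) (ρ g v) (ρ g w) = t' u v w) → ∃ c : ℝ, t' = c • t) := by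
  have hBinj : Function.Injective B := by
    rw [← LinearMap.ker_eq_bot]
    refine (hirr _ ?_).resolve_right ?_
    · intro g
      rw [Submodule.map_le_iff_le_comap]
      intro v hv
      rw [Submodule.mem_comap, LinearMap.mem_ker]
      rw [LinearMap.mem_ker] at hv
      ext w
      have h := hBi g v (ρ g⁻¹ w)
      rw [← Module.End.mul_apply, ← map_mul, mul_inv_cancel, map_one, Module.End.one_apply] at h
      rw [h, hv]; simp
    · intro h
      exact hB0 (LinearMap.ker_eq_top.mp h)
  have hsurj : ∀ g : H, Function.Surjective (ρ g) := by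
    intro g w
    exact ⟨ρ g⁻¹ w, by
      rw [← Module.End.mul_apply, ← map_mul, mul_inv_cancel, map_one, Module.End.one_apply]⟩
  let e : U ≃ₗ[ℝ] (U →ₗ[ℝ] ℝ) :=
    LinearMap.linearEquivOfInjective B hBinj Subspace.dual_finrank_eq.symm
  have he : ∀ u, e u = B u := fun u => rfl
  have he' : ∀ φ : U →ₗ[ℝ] ℝ, B (e.symm φ) = φ := fun φ => by rw [← he, e.apply_symm_apply]
  constructor
  · rintro ⟨m, hm0, hms, hmi, hmu⟩
    have hback : ∀ t' : U →ₗ[ℝ] U →ₗ[ℝ] U →ₗ[ℝ] ℝ,
        (∀ (g : H) (u v w : U), t' (ρ g u) (ρ g v) (ρ g w) = t' u v w) →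
        ∃ c : ℝ, ∀ u v w, t' u v w = c * B (m u v) w := by
      intro t' ht'
      obtain ⟨c, hc⟩ := hmu (t'.compr₂ e.symm.toLinearMap) (by
        intro g u v
        apply hBinj
        ext w
        obtain ⟨w, rfl⟩ := hsurj g w
        simp only [LinearMap.compr₂_apply, LinearEquiv.coe_coe, he', hBi, ht'])
      refine ⟨c, fun u v w => ?_⟩
      have h := congrArg (fun f => B (f u v) w) hc
      simp only [LinearMap.compr₂_apply, LinearEquiv.coe_coe, he', LinearMap.smul_apply, map_smul,
        smul_eq_mul] at h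
      exact h
    let t : U →ₗ[ℝ] U →ₗ[ℝ] U →ₗ[ℝ] ℝ := m.compr₂ B
    let t₂ : U →ₗ[ℝ] U →ₗ[ℝ] U →ₗ[ℝ] ℝ :=
      { toFun := fun u => (t u).flip
        map_add' := fun a b => by ext; simp
        map_smul' := fun c a => by ext; simp }
    have hti : ∀ (g : H) (u v w : U), t (ρ g u) (ρ g v) (ρ g w) = t u v w := fun g u v w => by
      simp only [t, LinearMap.compr₂_apply, hmi, hBi]
    have ht0 : t ≠ 0 := by
      intro h
      apply hm0
      ext u v
      apply hBinj
      ext w
      have := congrArg (fun f => f u v w) h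
      simpa [t] using this
    obtain ⟨c, hc⟩ := hback t₂ (fun g u v w => hti g u w v)
    have hc' : ∀ u v w, t u w v = c * t u v w := hc
    have h12 : ∀ u v w, t u v w = t v u w := fun u v w => by
      simp only [t, LinearMap.compr₂_apply, hms u v]
    have hc1 : c = 1 := by
      obtain ⟨u, v, w, hne⟩ : ∃ u v w, t u v w ≠ 0 := by
        by_contra hcon
        push Not at hcon
        exact ht0 (by ext u v w; simp [hcon])
      have h : t u v w = c ^ 3 * t u v w := by
        calc t u v w = t v u w := h12 u v w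
          _ = c * t v w u := hc' v w u
          _ = c * t w v u := by rw [h12 v w u]
          _ = c * (c * t w u v) := by rw [hc' w u v]
          _ = c * (c * t u w v) := by rw [h12 w u v]
          _ = c ^ 3 * t u v w := by rw [hc' u v w]; ring
      have h3 : c ^ 3 = 1 := mul_right_cancel₀ hne (by rw [one_mul]; exact h.symm)
      nlinarith [sq_nonneg (c - 1), sq_nonneg (c + 1), sq_nonneg c]
    refine ⟨t, ht0, fun u v w => ⟨h12 u v w, ?_⟩, hti, ?_⟩
    · rw [hc' u v w, hc1, one_mul]
    · intro t' ht'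
      obtain ⟨d, hd⟩ := hback t' ht'
      exact ⟨d, by ext u v w; simp [hd, t]⟩
  · rintro ⟨t, ht0, hts, hti, htu⟩
    refine ⟨t.compr₂ e.symm.toLinearMap, ?_, ?_, ?_, ?_⟩
    · intro h
      apply ht0
      ext u v w
      have := congrArg (fun f => B (f u v) w) h
      simpa [he'] using this
    · intro u v
      apply hBinj
      ext w
      simp only [LinearMap.compr₂_apply, LinearEquiv.coe_coe, he', (hts u v w).1]
    · intro g u v
      apply hBinj
      ext w
      obtain ⟨w, rfl⟩ := hsurj g w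
      simp only [LinearMap.compr₂_apply, LinearEquiv.coe_coe, he', hBi, hti]
    · intro m' hm'
      obtain ⟨c, hc⟩ := htu (m'.compr₂ B) (fun g u v w => by simp [hm', hBi])
      refine ⟨c, ?_⟩
      ext u v
      apply hBinj
      ext w
      have h := congrArg (fun f => f u v w) hc
      simpa [he'] using h

end Cfsg.Agent.S5541
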