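import Cfsg.Statements.S5543
-- import your own Cfsg.Agent.* helpers here

set_option autoImplicit false
open Cfsg

namespace Cfsg.Agent.S5543

theorem quarter_inter {V : Type*} [AddCommGroup V] [Module ℝ V] (mul : V →ₗ[ℝ] V →ₗ[ℝ] V)
    (a v : V) (h4 : mul a v = (1 / 4 : ℝ) • v) (h10 : v ∈ Cfsg.Axial.eigenSum mul a {1, 0}) :
    v = 0 := by
  simp only [Cfsg.Axial.eigenSum, iSup_insert, iSup_singleton, Submodule.mem_sup] at h10
  obtain ⟨p, hp, q, hq, rfl⟩ := h10
  simp only [Cfsg.Axial.eigen, Module.End.mem_eigenspace_iff, one_smul, zero_smul] at hp hq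
  rw [map_add, hp, hq, add_zero] at h4
  have h5 := congrArg (mul a) h4
  rw [hp, map_smul, map_add, hp, hq, add_zero] at h5
  have h6 : p = 0 := by linear_combination (norm := module) (4 / 3 : ℝ) • h5
  linear_combination (norm := module) (-4 : ℝ) • h4 + (4 : ℝ) • h6

/-- Let V be a finite-dimensional real vector space with a commutative bilinear product and a positive-definite symmetric bilinear form that associates with the product and satisfies the Norton inequality (the Majorana setting of the definitions). Let X be a group of linear automorphisms of V in which every element squares to the identity, and suppose every non-identity element x of X is a Majorana involution with an axial vector a(x) of squared length 1, such that for any two distinct non-identity x, y the product a(x) ∘ a(y) equals (1/8)(a(x) + a(y) − a(xy)) (the dihedral subalgebra of type 2A whose third axis belongs to the involution xy). Then X has order at most 4. -/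
theorem result {V : Type*} [AddCommGroup V] [Module ℝ V] [FiniteDimensional ℝ V] (mul : V →ₗ[ℝ] V →ₗ[ℝ] V) (B : LinearMap.BilinForm ℝ V) (hV : Cfsg.Axial.IsMajoranaAmbient mul B) (X : Subgroup (V ≃ₗ[ℝ] V)) (hX : ∀ x ∈ X, x * x = 1) (ax : (V ≃ₗ[ℝ] V) → V) (hax : ∀ x ∈ X, x ≠ 1 → Cfsg.Axial.IsMajoranaPair mul B x (ax x)) (h1 : ∀ x ∈ X, x ≠ 1 → B (ax x) (ax x) = 1) (h2A : ∀ x ∈ X, ∀ y ∈ X, x ≠ 1 → y ≠ 1 → x ≠ y → mul (ax x) (ax y) = (1 / 8 : ℝ) • (ax x + ax y - ax (x * y))) : Nat.card ↥X ≤ 4 := by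
  classical
  by_contra hcard
  push Not at hcard
  have hXfin : (X : Set (V ≃ₗ[ℝ] V)).Finite := Nat.finite_of_card_ne_zero (by
    have : Nat.card ↥(X : Set (V ≃ₗ[ℝ] V)) = Nat.card ↥X := rfl
    omega)
  have hpick : ∀ s : Finset (V ≃ₗ[ℝ] V), s.card ≤ 4 → ∃ g ∈ X, g ∉ s := by
    intro s hs
    by_contra hcon
    push Not at hcon
    have h1 : hXfin.toFinset ⊆ s := fun g hg => hcon g (hXfin.mem_toFinset.mp hg)
    have h2 := Finset.card_le_card h1
    have h3 : hXfin.toFinset.card = Nat.card ↥X := (Nat.card_eq_card_finite_toFinset hXfin).symm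
    omega
  obtain ⟨x, hx, hx1⟩ := hpick {1} (by simp)
  obtain ⟨y, hy, hy'⟩ := hpick {1, x} (Finset.card_le_two.trans (by norm_num))
  obtain ⟨z, hz, hz'⟩ := hpick {1, x, y, x * y} Finset.card_le_four
  simp only [Finset.mem_insert, Finset.mem_singleton, not_or] at hx1 hy' hz'
  obtain ⟨hy1, hyx⟩ := hy'
  obtain ⟨hz1, hzx, hzy, hzxy⟩ := hz'
  have inv : ∀ g ∈ X, g⁻¹ = g := fun g hg => inv_eq_of_mul_eq_one_right (hX g hg)
  have comm : ∀ g ∈ X, ∀ h ∈ X, g * h = h * g := by
    intro g hg h hh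
    have := inv (g * h) (X.mul_mem hg hh)
    rw [mul_inv_rev, inv g hg, inv h hh] at this
    exact this.symm
  have cancel : ∀ g ∈ X, ∀ h, g * (g * h) = h := fun g hg h => by
    rw [← mul_assoc, hX g hg, one_mul]
  have hxy := X.mul_mem hx hy
  have hxz := X.mul_mem hx hz
  have hyz := X.mul_mem hy hz
  have hxyz := X.mul_mem hx hyz
  have ne_one : ∀ g ∈ X, ∀ h ∈ X, g ≠ h → g * h ≠ 1 := fun g hg h hh hne h1 =>
    hne (by rw [← inv g hg]; exact inv_eq_of_mul_eq_one_right h1)
  have xy1 := ne_one x hx y hy (Ne.symm hyx)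
  have xz1 := ne_one x hx z hz (Ne.symm hzx)
  have yz1 := ne_one y hy z hz (Ne.symm hzy)
  have xyz_x : y * z ≠ x := by
    intro h
    apply hzxy
    rw [← h, comm (y * z) hyz y hy, cancel y hy]
  have xyz1 := ne_one x hx _ hyz (Ne.symm xyz_x)
  obtain ⟨a, ha⟩ : ∃ a, a = ax x := ⟨_, rfl⟩
  have hA := (hax x hx hx1).2.2.1.1
  rw [← ha] at hA
  have quarter : ∀ g ∈ X, g ≠ 1 → g ≠ x →
      mul a (ax g - ax (x * g)) = (1 / 4 : ℝ) • (ax g - ax (x * g)) := by
    intro g hg hg1 hgx
    have hxg1 := ne_one x hx g hg (Ne.symm hgx)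
    have hne : x ≠ x * g := by
      intro h; exact hg1 (mul_eq_left.mp h.symm)
    rw [ha, map_sub, h2A x hx g hg hx1 hg1 (Ne.symm hgx),
      h2A x hx _ (X.mul_mem hx hg) hx1 hxg1 hne, cancel x hx]
    module
  have hby := quarter y hy hy1 hyx
  have hbz := quarter z hz hz1 hzx
  have hbw := quarter (y * z) hyz yz1 xyz_x
  have e1 : y * (x * z) = x * (y * z) := by rw [← mul_assoc, comm y hy x hx, mul_assoc]
  have e2 : (x * y) * z = x * (y * z) := mul_assoc x y z
  have e3 : (x * y) * (x * z) = y * z := by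
    rw [comm x hx y hy, mul_assoc, cancel x hx]
  have n1 : y ≠ x * z := by
    intro h
    apply hzxy
    rw [h, cancel x hx]
  have n2 : x * y ≠ z := Ne.symm hzxy
  have n3 : x * y ≠ x * z := fun h => hzy (mul_left_cancel h).symm
  have prod : mul (ax y - ax (x * y)) (ax z - ax (x * z)) =
      (-1 / 4 : ℝ) • (ax (y * z) - ax (x * (y * z))) := by
    simp only [map_sub, LinearMap.sub_apply]
    rw [h2A y hy z hz hy1 hz1 (Ne.symm hzy), h2A y hy _ hxz hy1 xz1 n1,
      h2A _ hxy z hz xy1 hz1 n2, h2A _ hxy _ hxz xy1 xz1 n3, e1, e2, e3]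
    module
  have hfus := hA.2.2.2 (1 / 4) (by simp [Cfsg.Axial.majoranaSpectrum]) (1 / 4)
    (by simp [Cfsg.Axial.majoranaSpectrum]) _ (Module.End.mem_eigenspace_iff.mpr hby)
    _ (Module.End.mem_eigenspace_iff.mpr hbz)
  rw [prod, show Cfsg.Axial.monsterLaw (1 / 4 : ℝ) (1 / 32) (1 / 4) (1 / 4) = {1, 0} by
    simp [Cfsg.Axial.monsterLaw]] at hfus
  have hzero := quarter_inter mul a _ (by rw [map_smul, hbw, smul_comm]) hfus
  have heq : ax (y * z) = ax (x * (y * z)) := by
    rw [smul_eq_zero] at hzero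
    exact sub_eq_zero.mp (hzero.resolve_left (by norm_num))
  obtain ⟨w, hw⟩ : ∃ w, w = ax (y * z) := ⟨_, rfl⟩
  have hne : y * z ≠ x * (y * z) := fun h => hx1 (mul_eq_right.mp h.symm)
  have hp := h2A _ hyz _ hxyz yz1 xyz1 hne
  have e4 : (y * z) * (x * (y * z)) = x := by
    rw [comm _ hyz _ hxyz, mul_assoc, hX _ hyz, mul_one]
  rw [e4, ← heq, ← hw, ← ha] at hp
  have hWA := (hax _ hyz yz1).2.2.1.1
  rw [← hw] at hWA
  rw [hWA.2.1] at hp
  have ha6 : a = (-6 : ℝ) • w := by linear_combination (norm := module) (8 : ℝ) • hp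
  have hidem := hA.2.1
  rw [ha6, map_smul, map_smul, LinearMap.smul_apply, hWA.2.1] at hidem
  have : w = 0 := by linear_combination (norm := module) (1 / 42 : ℝ) • hidem
  exact hWA.1 this

end Cfsg.Agent.S5543
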