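import Cfsg.Statements.S5545
-- import your own Cfsg.Agent.* helpers here

set_option autoImplicit false
open Cfsg

namespace Cfsg.Agent.S5545

section
open Cfsg.Axial

variable {V : Type*} [AddCommGroup V] [Module ℝ V] (mul : V →ₗ[ℝ] V →ₗ[ℝ] V)

theorem map_eigen_eq (σ : V ≃ₗ[ℝ] V) (hσ : ∀ u v, σ (mul u v) = mul (σ u) (σ v)) (a : V) (c : ℝ) :
    (eigen mul a c).map (σ : V →ₗ[ℝ] V) = eigen mul (σ a) c := by
  ext v
  simp only [Submodule.mem_map_equiv, eigen, Module.End.mem_eigenspace_iff]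
  rw [← σ.injective.eq_iff, hσ, map_smul, σ.apply_symm_apply]

theorem map_eigenSum_eq (σ : V ≃ₗ[ℝ] V) (hσ : ∀ u v, σ (mul u v) = mul (σ u) (σ v)) (a : V)
    (S : Set ℝ) :
    (eigenSum mul a S).map (σ : V →ₗ[ℝ] V) = eigenSum mul (σ a) S := by
  simp only [eigenSum, Submodule.map_iSup, map_eigen_eq mul σ hσ]

theorem fixes (B : LinearMap.BilinForm ℝ V) (μ₀ μ₁ : V ≃ₗ[ℝ] V) (a₀ a₁ : V)
    (h₀ : IsMajoranaPair mul B μ₀ a₀) (h₁ : IsMajoranaPair mul B μ₁ a₁)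
    (hu₁ : ∀ a : V, IsMajoranaPair mul B μ₁ a → a = a₁) (hc : μ₀ * μ₁ = μ₁ * μ₀) :
    μ₀ a₁ = a₁ := by
  apply hu₁
  obtain ⟨hm, hB, ⟨⟨hne, hid, htop, hfus⟩, hprim⟩, hfix, hneg⟩ := h₁
  have hσ := h₀.1
  have hcomm : ∀ v, μ₁ (μ₀ v) = μ₀ (μ₁ v) := fun v => (LinearEquiv.congr_fun hc v).symm
  refine ⟨hm, hB, ⟨⟨?_, ?_, ?_, ?_⟩, ?_⟩, ?_, ?_⟩
  · simpa using hne
  · rw [← hσ, hid]
  · rw [← map_eigenSum_eq mul μ₀ hσ, htop, Submodule.map_top, LinearEquiv.range]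
  · intro c hc d hd u hu v hv
    rw [← map_eigen_eq mul μ₀ hσ, Submodule.mem_map] at hu hv
    obtain ⟨u, hu', rfl⟩ := hu
    obtain ⟨v, hv', rfl⟩ := hv
    simp only [LinearEquiv.coe_coe]
    rw [← hσ, ← map_eigenSum_eq mul μ₀ hσ]
    exact Submodule.mem_map_of_mem (hfus c hc d hd u hu' v hv')
  · rw [← map_eigen_eq mul μ₀ hσ, hprim, Submodule.map_span, Set.image_singleton]
    rfl
  · intro v hv
    rw [← map_eigenSum_eq mul μ₀ hσ, Submodule.mem_map] at hv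
    obtain ⟨w, hw, rfl⟩ := hv
    have := hfix w hw
    simp only [LinearEquiv.coe_coe] at this ⊢
    rw [hcomm, this]
  · intro v hv
    rw [← map_eigen_eq mul μ₀ hσ, Submodule.mem_map] at hv
    obtain ⟨w, hw, rfl⟩ := hv
    have := hneg w hw
    simp only [LinearEquiv.coe_coe] at this ⊢
    rw [hcomm, this, map_neg]

theorem decompose (B : LinearMap.BilinForm ℝ V) (hV : IsMajoranaAmbient mul B) (μ : V ≃ₗ[ℝ] V)
    (a b : V) (h : IsMajoranaPair mul B μ a) (hn : B a a = 1) (hfix : μ b = b) :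
    ∃ u v : V, mul a u = 0 ∧ mul a v = (1 / 4 : ℝ) • v ∧ b = (B a b) • a + u + v := by
  obtain ⟨hm, hB, ⟨⟨hne, hid, htop, hfus⟩, hprim⟩, hfix', hneg⟩ := h
  have hb : b ∈ eigenSum mul a majoranaSpectrum := by rw [htop]; trivial
  simp only [majoranaSpectrum, eigenSum, iSup_insert, iSup_singleton, Submodule.mem_sup] at hb
  obtain ⟨p, hp, y, ⟨q, hq, z, ⟨r, hr, s, hs, rfl⟩, rfl⟩, rfl⟩ := hb
  have mem : ∀ c ∈ ({1, 0, 1 / 4} : Set ℝ), ∀ w ∈ eigen mul a c, μ w = w := fun c hc w hw =>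
    hfix' w (Submodule.mem_iSup_of_mem c (Submodule.mem_iSup_of_mem hc hw))
  have hμ : μ s = -s := hneg s hs
  rw [map_add, map_add, map_add, mem 1 (by simp) p hp, mem 0 (by simp) q hq,
    mem (1 / 4) (by simp) r hr, hμ] at hfix
  have hs0 : s = 0 := by linear_combination (norm := module) (-1 / 2 : ℝ) • hfix
  subst hs0
  rw [hprim, Submodule.mem_span_singleton] at hp
  obtain ⟨l, rfl⟩ := hp
  simp only [eigen, Module.End.mem_eigenspace_iff, zero_smul] at hq hr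
  refine ⟨q, r, hq, hr, ?_⟩
  obtain ⟨-, -, -, hassoc, -⟩ := hV
  have hq0 : B a q = 0 := by
    have := hassoc a a q
    rw [hq, hid, map_zero] at this
    exact this.symm
  have hr0 : B a r = 0 := by
    have := hassoc a a r
    rw [hr, hid, map_smul, smul_eq_mul] at this
    linarith
  simp only [map_add, map_smul, map_zero, smul_eq_mul, hn, hq0, hr0]
  module

theorem quadratic (B : LinearMap.BilinForm ℝ V) (hV : IsMajoranaAmbient mul B) (μ : V ≃ₗ[ℝ] V)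
    (a b P : V) (h : IsMajoranaPair mul B μ a) (hn : B a a = 1) (hfix : μ b = b)
    (hP : mul a b = P) (l : ℝ) (hl : B a b = l) :
    mul a P = (1 / 4 : ℝ) • P + (3 * l / 4) • a := by
  obtain ⟨u, v, hu, hv, hb⟩ := decompose mul B hV μ a b h hn hfix
  rw [hl] at hb
  have hid := h.2.2.1.1.2.1
  rw [← hP, hb]
  simp only [map_add, map_smul, map_zero, hid, hu, hv]
  module

theorem single_eigen (a w : V) (c : ℝ) (hw : w ∈ eigenSum mul a {c}) : mul a w = c • w := by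
  simp only [eigenSum, iSup_singleton, eigen, Module.End.mem_eigenspace_iff] at hw
  exact hw

theorem main_step (B : LinearMap.BilinForm ℝ V) (hV : IsMajoranaAmbient mul B) (μ : V ≃ₗ[ℝ] V)
    (a b P S : V) (h : IsMajoranaPair mul B μ a) (hn : B a a = 1) (hfix : μ b = b)
    (hbb : mul b b = b) (hP : mul a b = P) (hS : mul P P = S) (l : ℝ) (hl : B a b = l)
    (hbP : mul b P = (1 / 4 : ℝ) • P + (3 * l / 4) • b) :
    (16 : ℝ) • S = (12 * l - 2) • P + (3 * l) • b + (3 * l) • a ∧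
      (8 * l - 1) • (P - l • a) = 0 := by
  obtain ⟨u, v, hu, hv, hb⟩ := decompose mul B hV μ a b h hn hfix
  rw [hl] at hb
  have hcomm := hV.1
  have hid := h.2.2.1.1.2.1
  have haP := quadratic mul B hV μ a b P h hn hfix hP l hl
  have hba : mul b a = P := by rw [hcomm b a, hP]
  have hPa : mul P a = (1 / 4 : ℝ) • P + (3 * l / 4) • a := by rw [hcomm P a, haP]
  have hPb : mul P b = (1 / 4 : ℝ) • P + (3 * l / 4) • b := by rw [hcomm P b, hbP]
  have hfus := h.2.2.1.1.2.2.2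
  have hmu : u ∈ eigen mul a 0 := by
    simp only [eigen, Module.End.mem_eigenspace_iff, zero_smul, hu]
  have hmv : v ∈ eigen mul a (1 / 4) := Module.End.mem_eigenspace_iff.mpr hv
  have s0 : (0 : ℝ) ∈ majoranaSpectrum := by simp [majoranaSpectrum]
  have s4 : (1 / 4 : ℝ) ∈ majoranaSpectrum := by simp [majoranaSpectrum]
  have E1 := single_eigen mul a _ 0 (by
    have := hfus 0 s0 0 s0 u hmu u hmu
    rwa [show monsterLaw (1 / 4 : ℝ) (1 / 32) 0 0 = {0} by simp [monsterLaw]] at this)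
  have E2 := single_eigen mul a _ (1 / 4) (by
    have := hfus 0 s0 (1 / 4) s4 u hmu v hmv
    rwa [show monsterLaw (1 / 4 : ℝ) (1 / 32) 0 (1 / 4) = {1 / 4} by
      simp [monsterLaw]] at this)
  have E3 : mul a (mul a (mul v v)) = mul a (mul v v) := by
    have := hfus (1 / 4) s4 (1 / 4) s4 v hmv v hmv
    rw [show monsterLaw (1 / 4 : ℝ) (1 / 32) (1 / 4) (1 / 4) = {1, 0} by
      simp [monsterLaw]] at this
    simp only [eigenSum, iSup_insert, iSup_singleton, Submodule.mem_sup] at this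
    obtain ⟨p, hp, q, hq, hpq⟩ := this
    simp only [eigen, Module.End.mem_eigenspace_iff, one_smul, zero_smul] at hp hq
    rw [← hpq, map_add, hp, hq, add_zero, hp]
  have hve : v = (4 : ℝ) • P - (4 * l) • a := by
    have := hP
    rw [hb] at this
    simp only [map_add, map_smul, hid, hu, hv] at this
    linear_combination (norm := module) (4 : ℝ) • this
  have hue : u = b + (3 * l) • a - (4 : ℝ) • P := by
    linear_combination (norm := module) -hb - hve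
  rw [hue] at E1
  rw [hue, hve] at E2
  rw [hve] at E3
  simp only [map_add, map_sub, map_smul, LinearMap.add_apply, LinearMap.sub_apply,
    LinearMap.smul_apply, hid, hbb, hP, hba, haP, hPa, hbP, hPb, hS, zero_smul] at E1 E2 E3
  have hS' : (16 : ℝ) • S = (12 * l - 2) • P + (3 * l) • b + (3 * l) • a := by
    linear_combination (norm := module) (4 : ℝ) • E2 + (4 : ℝ) • E1
  refine ⟨hS', ?_⟩
  have hS2 : S = ((12 * l - 2) / 16) • P + (3 * l / 16) • b + (3 * l / 16) • a := by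
    linear_combination (norm := module) (1 / 16 : ℝ) • hS'
  rw [hS2] at E3
  simp only [map_add, map_sub, map_smul, hid, hP, haP] at E3
  linear_combination (norm := module) (-8 / 3 : ℝ) • E3

end

/-- Let V be a finite-dimensional real vector space with a commutative bilinear product and a positive-definite symmetric bilinear form that associates with the product and satisfies the Norton inequality (the Majorana setting of the definitions). Let μ₀, μ₁ be commuting Majorana involutions with distinct axial vectors a₀ ≠ a₁ of squared length 1, each involution having no other axial vector. Then either a₀ and a₁ are orthogonal with a₀ ∘ a₁ = 0 (type 2B), or their inner product is 1/8 and, with a₂ = a₀ + a₁ − 8 a₀ ∘ a₁, the vector a₂ is an idempotent and a₀ ∘ a₂ = (1/8)(a₀ + a₂ − a₁), a₁ ∘ a₂ = (1/8)(a₁ + a₂ − a₀) (type 2A: the three idempotents span a subalgebra with aᵢ ∘ aⱼ = (1/8)(aᵢ + aⱼ − aₖ)).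 -/
theorem result {V : Type*} [AddCommGroup V] [Module ℝ V] [FiniteDimensional ℝ V] (mul : V →ₗ[ℝ] V →ₗ[ℝ] V) (B : LinearMap.BilinForm ℝ V) (hV : Cfsg.Axial.IsMajoranaAmbient mul B) (μ₀ μ₁ : V ≃ₗ[ℝ] V) (a₀ a₁ : V) (h₀ : Cfsg.Axial.IsMajoranaPair mul B μ₀ a₀) (h₁ : Cfsg.Axial.IsMajoranaPair mul B μ₁ a₁) (hu₀ : ∀ a : V, Cfsg.Axial.IsMajoranaPair mul B μ₀ a → a = a₀) (hu₁ : ∀ a : V, Cfsg.Axial.IsMajoranaPair mul B μ₁ a → a = a₁) (hn₀ : B a₀ a₀ = 1) (hn₁ : B a₁ a₁ = 1) (hc : μ₀ * μ₁ = μ₁ * μ₀) (hne : a₀ ≠ a₁) : (B a₀ a₁ = 0 ∧ mul a₀ a₁ = 0) ∨ (B a₀ a₁ = 1 / 8 ∧ mul (a₀ + a₁ - (8 : ℝ) • mul a₀ a₁) (a₀ + a₁ - (8 : ℝ) • mul a₀ a₁) = a₀ + a₁ - (8 : ℝ) • mul a₀ a₁ ∧ mul a₀ (a₀ + a₁ - (8 : ℝ) • mul a₀ a₁) = (1 / 8 : ℝ) • (a₀ + (a₀ + a₁ - (8 : ℝ) • mul a₀ a₁) - a₁) ∧ mul a₁ (a₀ + a₁ - (8 : ℝ) • mul a₀ a₁) = (1 / 8 : ℝ) • (a₁ + (a₀ + a₁ - (8 : ℝ) • mul a₀ a₁) - a₀)) := by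
  have f₁ : μ₀ a₁ = a₁ := fixes mul B μ₀ μ₁ a₀ a₁ h₀ h₁ hu₁ hc
  have f₀ : μ₁ a₀ = a₀ := fixes mul B μ₁ μ₀ a₁ a₀ h₁ h₀ hu₀ hc.symm
  obtain ⟨P, hP⟩ : ∃ P, mul a₀ a₁ = P := ⟨_, rfl⟩
  obtain ⟨S, hS⟩ : ∃ S, mul P P = S := ⟨_, rfl⟩
  obtain ⟨l, hl⟩ : ∃ l, B a₀ a₁ = l := ⟨_, rfl⟩
  have hl' : B a₁ a₀ = l := by rw [hV.2.1, hl]
  have hP' : mul a₁ a₀ = P := by rw [hV.1, hP]
  have q₀ := quadratic mul B hV μ₀ a₀ a₁ P h₀ hn₀ f₁ hP l hl
  have q₁ := quadratic mul B hV μ₁ a₁ a₀ P h₁ hn₁ f₀ hP' l hl'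
  have i₀ := h₀.2.2.1.1.2.1
  have i₁ := h₁.2.2.1.1.2.1
  obtain ⟨hS', c₀⟩ := main_step mul B hV μ₀ a₀ a₁ P S h₀ hn₀ f₁ i₁ hP hS l hl q₁
  obtain ⟨-, c₁⟩ := main_step mul B hV μ₁ a₁ a₀ P S h₁ hn₁ f₀ i₀ hP' hS l hl' q₀
  rw [hl, hP]
  by_cases h8 : 8 * l - 1 = 0
  · right
    have h18 : l = 1 / 8 := by linarith
    subst h18
    have qa : mul P a₀ = mul a₀ P := hV.1 _ _
    have qb : mul P a₁ = mul a₁ P := hV.1 _ _
    refine ⟨rfl, ?_, ?_, ?_⟩
    · simp only [map_add, map_sub, map_smul, LinearMap.add_apply, LinearMap.sub_apply,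
        LinearMap.smul_apply, i₀, i₁, hP, hP', qa, qb, q₀, q₁, hS]
      linear_combination (norm := module) (4 : ℝ) • hS'
    · simp only [map_add, map_sub, map_smul, i₀, hP, q₀]
      module
    · simp only [map_add, map_sub, map_smul, i₁, hP', q₁]
      module
  · left
    rw [smul_eq_zero] at c₀ c₁
    have d₀ := sub_eq_zero.mp (c₀.resolve_left h8)
    have d₁ := sub_eq_zero.mp (c₁.resolve_left h8)
    have h0 : l • (a₀ - a₁) = 0 := by rw [smul_sub, ← d₀, ← d₁, sub_self]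
    have hl0 : l = 0 := (smul_eq_zero.mp h0).resolve_right (sub_ne_zero.mpr hne)
    subst hl0
    exact ⟨rfl, by rw [d₀, zero_smul]⟩

end Cfsg.Agent.S5545
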