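import Cfsg.Statements.S5546
import Cfsg.Agent.Lib.Leech.Norm

set_option autoImplicit false
open Cfsg

namespace Cfsg.Agent.S5546

set_option maxHeartbeats 400000

/-- 13 is prime. -/
local instance primeThirteenFact : Fact (Nat.Prime 13) := ⟨by norm_num⟩

/-- Eight times a coordinate vector. -/
def e8 (j : Cfsg.GolayPt) : Cfsg.GolayPt → ℤ := fun i => if i = j then 8 else 0

theorem e8_mem (j : Cfsg.GolayPt) : e8 j ∈ Cfsg.leechLattice := by
  rw [CfsgLib.Leech.mem_leech_iff]
  refine ⟨fun i => ?_, ?_, ?_⟩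
  · simp only [e8]; split <;> split <;> rfl
  · have : CfsgLib.Leech.bits (e8 j) = 0 := by
      funext i
      simp only [CfsgLib.Leech.bits, CfsgLib.Leech.bit, e8, Pi.zero_apply]
      split <;> rfl
    rw [this]
    exact Submodule.zero_mem _
  · simp only [e8, Finset.sum_ite_eq', Finset.mem_univ, if_true]
    split <;> rfl

/-- The basis vectors as lattice vectors. -/
def e8L (j : Cfsg.GolayPt) : ↥Cfsg.leechLattice := ⟨e8 j, e8_mem j⟩

/-- An element of `Co2` as an additive map. -/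
def addHom (g : ↥Cfsg.Spor.Co2) : ↥Cfsg.leechLattice →+ ↥Cfsg.leechLattice :=
  AddMonoidHom.mk' (g : Equiv.Perm ↥Cfsg.leechLattice) g.2.1.1

theorem eight_apply (g : ↥Cfsg.Spor.Co2) (v : ↥Cfsg.leechLattice) (i : Cfsg.GolayPt) :
    8 * ((addHom g v : ↥Cfsg.leechLattice) : Cfsg.GolayPt → ℤ) i =
      ∑ j, ((addHom g (e8L j) : ↥Cfsg.leechLattice) : Cfsg.GolayPt → ℤ) i *
        (v : Cfsg.GolayPt → ℤ) j := by
  have h : (8 : ℤ) • v = ∑ j, (v : Cfsg.GolayPt → ℤ) j • e8L j := by
    apply Subtype.ext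
    funext k
    simp only [AddSubgroup.val_finsetSum, Finset.sum_apply, AddSubgroup.coe_zsmul, Pi.smul_apply,
      smul_eq_mul, e8L, e8, mul_ite, mul_zero, Finset.sum_ite_eq, Finset.mem_univ, if_true]
    exact mul_comm _ _
  have h2 := congrArg (fun w : ↥Cfsg.leechLattice => (w : Cfsg.GolayPt → ℤ) i) (congrArg (addHom g) h)
  simp only [map_zsmul, map_sum, AddSubgroup.val_finsetSum, Finset.sum_apply, AddSubgroup.coe_zsmul,
    Pi.smul_apply, smul_eq_mul] at h2
  rw [h2]
  exact Finset.sum_congr rfl fun j _ => mul_comm _ _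

/-- Reduction modulo 13. -/
def red (v : Cfsg.GolayPt → ℤ) : Cfsg.GolayPt → ZMod 13 := fun i => (v i : ZMod 13)

/-- The matrix modulo 13. -/
def mat (g : ↥Cfsg.Spor.Co2) : Matrix Cfsg.GolayPt Cfsg.GolayPt (ZMod 13) :=
  fun i j => 5 * ((((addHom g (e8L j) : ↥Cfsg.leechLattice) : Cfsg.GolayPt → ℤ) i : ℤ) : ZMod 13)

theorem mat_red (g : ↥Cfsg.Spor.Co2) (v : ↥Cfsg.leechLattice) :
    (mat g).mulVec (red v) = red (addHom g v : ↥Cfsg.leechLattice) := by
  funext i
  have h := congrArg (fun t : ℤ => (t : ZMod 13)) (eight_apply g v i)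
  simp only [Int.cast_mul, Int.cast_sum, Int.cast_ofNat] at h
  simp only [Matrix.mulVec, dotProduct, mat, red, mul_assoc, ← Finset.mul_sum]
  rw [← h, ← mul_assoc, show (5 : ZMod 13) * 8 = 1 by decide, one_mul]

theorem linearMap_ext_e8 {f f' : (Cfsg.GolayPt → ZMod 13) →ₗ[ZMod 13] (Cfsg.GolayPt → ZMod 13)}
    (h : ∀ v : ↥Cfsg.leechLattice, f (red v) = f' (red v)) : f = f' := by
  refine LinearMap.pi_ext fun j x => ?_
  have : Pi.single j x = (5 * x) • red (e8L j : Cfsg.GolayPt → ℤ) := by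
    funext i
    simp only [Pi.single_apply, Pi.smul_apply, smul_eq_mul, red, e8L, e8]
    split
    · rw [Int.cast_ofNat, mul_comm 5 x, mul_assoc,
        show (5 : ZMod 13) * 8 = 1 by decide, mul_one]
    · simp
  rw [this, map_smul, map_smul, h]

/-- The inner product with `(4, 4, 0²²)` divided by 4. -/
def phi : (Cfsg.GolayPt → ZMod 13) →ₗ[ZMod 13] ZMod 13 :=
  LinearMap.proj (R := ZMod 13) (φ := fun _ : Cfsg.GolayPt => ZMod 13) none +
    LinearMap.proj (R := ZMod 13) (φ := fun _ : Cfsg.GolayPt => ZMod 13) (some 0)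

theorem dot_preserved (g : ↥Cfsg.Spor.Co2) (v : ↥Cfsg.leechLattice) :
    Cfsg.dotInt ((addHom g v : ↥Cfsg.leechLattice) : Cfsg.GolayPt → ℤ) Cfsg.Spor.vecU =
      Cfsg.dotInt (v : Cfsg.GolayPt → ℤ) Cfsg.Spor.vecU := by
  have key : ∀ a b : Cfsg.GolayPt → ℤ,
      Cfsg.sqNorm (a + b) = Cfsg.sqNorm a + 2 * Cfsg.dotInt a b + Cfsg.sqNorm b := by
    intro a b
    simp only [Cfsg.sqNorm, Cfsg.dotInt, Finset.mul_sum, ← Finset.sum_add_distrib]
    exact Finset.sum_congr rfl fun i _ => by simp only [Pi.add_apply]; ring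
  have hfix : addHom g Cfsg.Spor.leechU = Cfsg.Spor.leechU := g.2.2
  have h1 : Cfsg.sqNorm ((addHom g (v + Cfsg.Spor.leechU) : ↥Cfsg.leechLattice) : Cfsg.GolayPt → ℤ) =
      Cfsg.sqNorm ((v + Cfsg.Spor.leechU : ↥Cfsg.leechLattice) : Cfsg.GolayPt → ℤ) :=
    g.2.1.2 _
  have h2 : Cfsg.sqNorm ((addHom g v : ↥Cfsg.leechLattice) : Cfsg.GolayPt → ℤ) =
      Cfsg.sqNorm (v : Cfsg.GolayPt → ℤ) := g.2.1.2 _
  rw [map_add, hfix, AddSubgroup.coe_add, AddSubgroup.coe_add, key, key, h2] at h1
  have h3 : (Cfsg.Spor.leechU : Cfsg.GolayPt → ℤ) = Cfsg.Spor.vecU := rfl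
  rw [h3] at h1
  omega

theorem phi_red (v : Cfsg.GolayPt → ℤ) :
    4 * phi (red v) = ((Cfsg.dotInt v Cfsg.Spor.vecU : ℤ) : ZMod 13) := by
  have : Cfsg.dotInt v Cfsg.Spor.vecU = 4 * (v none + v (some 0)) := by
    have hterm : ∀ i, v i * Cfsg.Spor.vecU i =
        (if i = none then 4 * v none else 0) + (if i = some 0 then 4 * v (some 0) else 0) := by
      intro i
      unfold Cfsg.Spor.vecU
      by_cases h1 : i = none
      · subst h1; simp [mul_comm]
      · by_cases h2 : i = some 0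
        · subst h2; simp [mul_comm]
        · simp [h1, h2]
    rw [Cfsg.dotInt, Finset.sum_congr rfl fun i _ => hterm i, Finset.sum_add_distrib,
      Finset.sum_ite_eq', Finset.sum_ite_eq']
    simp only [Finset.mem_univ, if_true]
    ring
  rw [this]
  push_cast
  simp only [phi, red, LinearMap.add_apply, LinearMap.proj_apply]

theorem phi_mat (g : ↥Cfsg.Spor.Co2) (w : Cfsg.GolayPt → ZMod 13) :
    phi ((mat g).mulVec w) = phi w := by
  have h : phi.comp (mat g).mulVecLin = phi := by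
    have : ∀ v : ↥Cfsg.leechLattice, phi ((mat g).mulVec (red v)) = phi (red v) := by
      intro v
      have h1 := phi_red ((addHom g v : ↥Cfsg.leechLattice) : Cfsg.GolayPt → ℤ)
      rw [dot_preserved, ← phi_red, ← mat_red] at h1
      exact (mul_right_injective₀ (show (4 : ZMod 13) ≠ 0 by decide)) h1
    refine LinearMap.pi_ext fun j x => ?_
    have hx : Pi.single j x = (5 * x) • red (e8L j : Cfsg.GolayPt → ℤ) := by
      funext i
      simp only [Pi.single_apply, Pi.smul_apply, smul_eq_mul, red, e8L, e8]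
      split
      · rw [Int.cast_ofNat, mul_comm 5 x, mul_assoc,
          show (5 : ZMod 13) * 8 = 1 by decide, mul_one]
      · simp
    rw [hx, map_smul, map_smul]
    exact congrArg _ (this (e8L j))
  exact LinearMap.congr_fun h w

theorem eq_one_of_red_eq (g : ↥Cfsg.Spor.Co2)
    (h : ∀ v : ↥Cfsg.leechLattice, red (addHom g v : ↥Cfsg.leechLattice) = red v) : g = 1 := by
  have hfix : ∀ j, addHom g (e8L j) = e8L j := by
    intro j
    obtain ⟨d, hd⟩ : ∃ d, d = addHom g (e8L j) - e8L j := ⟨_, rfl⟩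
    obtain ⟨a, ha⟩ : ∃ a : Cfsg.GolayPt → ℤ,
        a = ((addHom g (e8L j) : ↥Cfsg.leechLattice) : Cfsg.GolayPt → ℤ) := ⟨_, rfl⟩
    have hn : Cfsg.sqNorm a = 64 := by
      have h1 : Cfsg.sqNorm ((addHom g (e8L j) : ↥Cfsg.leechLattice) : Cfsg.GolayPt → ℤ) =
          Cfsg.sqNorm (e8 j) := g.2.1.2 (e8L j)
      rw [ha, h1]
      simp only [Cfsg.sqNorm, e8, ite_pow, Finset.sum_ite_eq', Finset.mem_univ, if_true,
        zero_pow two_ne_zero]
      norm_num
    have hmod : ∀ i, a i % 13 = e8 j i % 13 := by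
      intro i
      have h1 := congrFun (h (e8L j)) i
      simp only [red, ← ha] at h1
      exact (ZMod.intCast_eq_intCast_iff' _ _ 13).1 h1
    have hb : ∀ i, a i ^ 2 ≤ 64 := fun i => hn ▸
      Finset.single_le_sum (fun k _ => sq_nonneg (a k)) (Finset.mem_univ i)
    have hb' : ∀ i, -8 ≤ a i ∧ a i ≤ 8 := fun i => ⟨by nlinarith [hb i], by nlinarith [hb i]⟩
    apply Subtype.ext
    funext i
    show ((addHom g (e8L j) : ↥Cfsg.leechLattice) : Cfsg.GolayPt → ℤ) i = e8 j i
    rw [← ha]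
    have h1 := hmod i
    have h2 := hb' i
    by_cases hij : i = j
    · subst hij
      have e : e8 i i = 8 := by simp [e8]
      rw [e] at h1 ⊢
      obtain ⟨k, hk⟩ := Fintype.exists_ne_of_one_lt_card (by simp : 1 < Fintype.card Cfsg.GolayPt) i
      have h3 := hmod k
      have h4 := hb' k
      rw [show e8 i k = 0 by simp [e8, hk]] at h3
      have hpar := (CfsgLib.Leech.mem_leech_iff.1 (addHom g (e8L i)).2).1
      rw [← ha] at hpar
      have := hpar i; have := hpar k
      omega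
    · rw [show e8 j i = 0 by simp [e8, hij]] at h1 ⊢
      omega
  apply Subtype.ext
  apply Equiv.ext
  intro v
  apply Subtype.ext
  funext i
  have h1 := eight_apply g v i
  simp only [hfix] at h1
  have h2 : ∑ j, e8 j i * (v : Cfsg.GolayPt → ℤ) j = 8 * (v : Cfsg.GolayPt → ℤ) i := by
    simp [e8]
  have h4 : 8 * ((addHom g v : ↥Cfsg.leechLattice) : Cfsg.GolayPt → ℤ) i =
      8 * (v : Cfsg.GolayPt → ℤ) i := h1.trans h2
  exact mul_left_cancel₀ (by norm_num) h4

/-- The representation on the hyperplane orthogonal to the fixed vector. -/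
noncomputable def rep : ↥Cfsg.Spor.Co2 →* Module.End (ZMod 13) ↥(LinearMap.ker phi) where
  toFun g := LinearMap.restrict (p := LinearMap.ker phi) (q := LinearMap.ker phi) (mat g).mulVecLin
    (fun w hw => by
      rw [LinearMap.mem_ker] at hw ⊢
      rw [Matrix.mulVecLin_apply, phi_mat, hw])
  map_one' := by
    have h : (mat 1).mulVecLin = LinearMap.id := linearMap_ext_e8 fun v => mat_red 1 v
    ext w : 2
    exact LinearMap.congr_fun h (w : Cfsg.GolayPt → ZMod 13)
  map_mul' g g' := by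
    have h : (mat (g * g')).mulVecLin = (mat g).mulVecLin.comp (mat g').mulVecLin :=
      linearMap_ext_e8 fun v => by
        simp only [LinearMap.comp_apply, Matrix.mulVecLin_apply, mat_red]
        rfl
    ext w : 2
    exact LinearMap.congr_fun h (w : Cfsg.GolayPt → ZMod 13)

theorem rep_apply (g : ↥Cfsg.Spor.Co2) (w : ↥(LinearMap.ker phi)) :
    ((rep g w : ↥(LinearMap.ker phi)) : Cfsg.GolayPt → ZMod 13) = (mat g).mulVec w := rfl

theorem rep_injective : Function.Injective rep := by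
  rw [injective_iff_map_eq_one]
  intro g hg
  apply eq_one_of_red_eq
  intro v
  rw [← mat_red]
  obtain ⟨u, hu⟩ : ∃ u, u = red Cfsg.Spor.vecU := ⟨_, rfl⟩
  have hgu : (mat g).mulVec u = u := by
    rw [hu]
    have h := mat_red g Cfsg.Spor.leechU
    have hfix : addHom g Cfsg.Spor.leechU = Cfsg.Spor.leechU := g.2.2
    have hcoe : ((Cfsg.Spor.leechU : ↥Cfsg.leechLattice) : Cfsg.GolayPt → ℤ) = Cfsg.Spor.vecU := rfl
    rw [hfix, hcoe] at h
    exact h
  have hphi : phi u = 8 := by
    rw [hu]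
    simp only [phi, red, LinearMap.add_apply, LinearMap.proj_apply, Cfsg.Spor.vecU, true_or, or_true, if_true]
    norm_num
  obtain ⟨c, hc⟩ : ∃ c, c = 5 * phi (red (v : Cfsg.GolayPt → ℤ)) := ⟨_, rfl⟩
  have hw : red (v : Cfsg.GolayPt → ℤ) - c • u ∈ LinearMap.ker phi := by
    rw [LinearMap.mem_ker, map_sub, map_smul, hphi, hc, smul_eq_mul, mul_comm 5 (phi _), mul_assoc,
      show (5 : ZMod 13) * 8 = 1 by decide, mul_one, sub_self]
  have h1 : (mat g).mulVec (red (v : Cfsg.GolayPt → ℤ) - c • u) = red (v : Cfsg.GolayPt → ℤ) - c • u := by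
    have h := congrArg (fun f : Module.End (ZMod 13) ↥(LinearMap.ker phi) =>
      ((f ⟨_, hw⟩ : ↥(LinearMap.ker phi)) : Cfsg.GolayPt → ZMod 13)) hg
    simpa only [rep_apply, Module.End.one_apply] using h
  rw [Matrix.mulVec_sub, Matrix.mulVec_smul, hgu] at h1
  exact sub_left_inj.1 h1

/-- The second Conway group (the stabilizer in the Leech lattice automorphism group of the short vector fixed in the definitions) is isomorphic to a subgroup of the general linear group of degree 23 over the field with 13 elements: there is an injective homomorphism into it. -/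
theorem result : ∃ f : ↥Cfsg.Spor.Co2 →* GL (Fin 23) (ZMod 13), Function.Injective f := by
  have hdim : Module.finrank (ZMod 13) ↥(LinearMap.ker phi) = 23 := by
    have h := LinearMap.finrank_range_add_finrank_ker phi
    have hr : LinearMap.range phi = ⊤ := LinearMap.range_eq_top.2 fun a =>
      ⟨Pi.single none a, by simp [phi]⟩
    rw [hr, finrank_top, Module.finrank_self, Module.finrank_fintype_fun_eq_card] at h
    simp only [Fintype.card_option, ZMod.card] at h
    omega
  let b := Module.finBasisOfFinrankEq (ZMod 13) ↥(LinearMap.ker phi) hdim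
  refine ⟨((LinearMap.toMatrixAlgEquiv b).toMulEquiv.toMonoidHom.comp rep).toHomUnits, ?_⟩
  intro g g' h
  apply rep_injective
  apply (LinearMap.toMatrixAlgEquiv b).injective
  exact congrArg Units.val h

end Cfsg.Agent.S5546
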