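import Cfsg.Statements.S5548
import Cfsg.Agent.Lib.Golay.M24
import Cfsg.Agent.Lib.GolayCoset.Basic

set_option autoImplicit false
open Cfsg

namespace Cfsg.Agent.S5548

open CfsgLib CfsgLib.Golay
open scoped symmDiff Pointwise

/-- The word of a point set. -/
def ind (s : Finset GolayPt) : GolayPt → ZMod 2 := fun p => if p ∈ s then 1 else 0

theorem support₂_ind (s : Finset GolayPt) : support₂ (ind s) = s := by
  ext p; simp [support₂, ind]

theorem ind_support₂ (w : GolayPt → ZMod 2) : ind (support₂ w) = w :=
  support₂_injective (support₂_ind _)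

theorem ind_symmDiff (s t : Finset GolayPt) : ind (s ∆ t) = ind s + ind t := by
  funext p
  simp only [ind, Pi.add_apply, Finset.mem_symmDiff]
  by_cases hs : p ∈ s <;> by_cases ht : p ∈ t <;> simp [hs, ht] <;> decide

theorem ind_smul (σ : Equiv.Perm GolayPt) (s : Finset GolayPt) :
    ind (σ • s) = fun p => ind s (σ.symm p) := by
  funext p
  simp only [ind, ← Finset.inv_smul_mem_iff, Equiv.Perm.smul_def]
  rfl

theorem ind_empty : ind ∅ = 0 := by funext p; simp [ind]

theorem ind_univ : ind Finset.univ = fun _ => 1 := by funext p; simp [ind]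

theorem mem_C_iff {s : Finset GolayPt} :
    ind s ∈ golayCode ↔ s ∈ supports (golayCode : Set (GolayPt → ZMod 2)) := by
  rw [← support₂_mem_supports, support₂_ind]

theorem sum_ind (s : Finset GolayPt) : ∑ p, ind s p = (s.card : ZMod 2) := by
  simp [ind]

theorem univ_mem_supports : (Finset.univ : Finset GolayPt) ∈ supports (golayCode : Set (GolayPt → ZMod 2)) := by
  rw [← mem_C_iff, ind_univ]; exact one_mem_golay

theorem zmod2_add_self (v : GolayPt → ZMod 2) : v + v = 0 := by
  funext p; exact CharTwo.add_self_eq_zero (v p)

/-- Two pairs of a block type summing to an octad. -/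
theorem fixed_pairs :
    (∃ a ∈ octads, ∃ b ∈ octads, a ∆ b ∈ octads) ∧
      ∃ a ∈ dodecads, ∃ b ∈ dodecads, a ∆ b ∈ octads := by
  have key : ∀ n k : ℕ, n < 2 ^ 24 → memb n = true → pc 24 n = k →
      toSet n ∈ supports (golayCode : Set (GolayPt → ZMod 2)) ∧ (toSet n).card = k :=
    fun n k h1 h2 h3 => ⟨(toSet_mem_supports h1).2 h2, by rw [card_toSet, h3]⟩
  refine ⟨⟨_, key 13062145 8 (by norm_num) (by decide +kernel) (by decide +kernel),
      _, key 4845570 8 (by norm_num) (by decide +kernel) (by decide +kernel), ?_⟩,
    ⟨_, key 8245261 12 (by norm_num) (by decide +kernel) (by decide +kernel),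
      _, key 15953934 12 (by norm_num) (by decide +kernel) (by decide +kernel), ?_⟩⟩ <;>
  · rw [← toSet_xor]
    exact key _ 8 (Nat.xor_lt_two_pow (by norm_num) (by norm_num)) (by decide +kernel)
      (by decide +kernel)

/-- An invariant space containing a codeword other than `0, 1` contains the code. -/
theorem code_le {W : Submodule (ZMod 2) (GolayPt → ZMod 2)}
    (hW : ∀ σ ∈ M24, ∀ s, ind s ∈ W → ind (σ • s) ∈ W) {s : Finset GolayPt} (hsW : ind s ∈ W)
    (hsC : s ∈ supports (golayCode : Set (GolayPt → ZMod 2))) (h0 : s ≠ ∅) (h1 : s ≠ Finset.univ) :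
    golayCode ≤ W := by
  have hd : ∀ a b, ind a ∈ W → ind b ∈ W → ind (a ∆ b) ∈ W := fun a b ha hb => by
    rw [ind_symmDiff]; exact add_mem ha hb
  obtain ⟨⟨o1, ho1, o2, ho2, ho⟩, d1, hd1, d2, hd2, hdo⟩ := fixed_pairs
  obtain ⟨o, hoW, hoo⟩ : ∃ o, ind o ∈ W ∧ o ∈ octads := by
    rcases supports_card hsC with h | h | h | h | h
    · exact absurd (Finset.card_eq_zero.1 h) h0
    · exact ⟨s, hsW, hsC, h⟩
    · obtain ⟨g, hg, hgs⟩ := exists_smul_dodecad (show s ∈ dodecads from ⟨hsC, h⟩) hd1
      obtain ⟨g', hg', hgs'⟩ := exists_smul_dodecad (show s ∈ dodecads from ⟨hsC, h⟩) hd2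
      exact ⟨_, hd _ _ (hgs ▸ hW g hg s hsW) (hgs' ▸ hW g' hg' s hsW), hdo⟩
    · have hco : sᶜ ∈ octads := by
        refine ⟨?_, ?_⟩
        · have := supports_symmDiff hsC univ_mem_supports
          rwa [← Finset.top_eq_univ, symmDiff_top, hnot_eq_compl] at this
        · rw [Finset.card_compl, h, show Fintype.card GolayPt = 24 from by simp [Fintype.card_option]]
      have hcompl : ∀ σ : Equiv.Perm GolayPt, σ • sᶜ = (σ • s)ᶜ := fun σ => by
        ext p; simp [← Finset.inv_smul_mem_iff]
      obtain ⟨g, hg, hgs⟩ := exists_smul_octad hco ho1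
      obtain ⟨g', hg', hgs'⟩ := exists_smul_octad hco ho2
      refine ⟨_, hd _ _ (hW g hg s hsW) (hW g' hg' s hsW), ?_⟩
      rw [hcompl] at hgs hgs'
      rw [← compl_compl (g • s), ← compl_compl (g' • s), compl_symmDiff_compl, hgs, hgs']
      exact ho
    · exact absurd (Finset.eq_univ_of_card _ (h.trans (by simp [Fintype.card_option]))) h1
  have all : ∀ t ∈ octads, ind t ∈ W := fun t ht => by
    obtain ⟨g, hg, rfl⟩ := exists_smul_octad hoo ht
    exact hW g hg o hoW
  intro w hw
  obtain ⟨x, hx, rfl⟩ := mem_golay_iff.1 hw
  refine toWord_comb_mem_of (fun b hb => ?_) x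
  have hb' : b < 2 ^ 24 ∧ memb b = true ∧ pc 24 b = 8 := by
    have : basis.all (fun b => decide (b < 2 ^ 24) && memb b && (pc 24 b == 8)) = true := by
      decide +kernel
    simpa [and_assoc] using List.all_eq_true.1 this b hb
  have := all (toSet b) ⟨(toSet_mem_supports hb'.1).2 hb'.2.1, by rw [card_toSet, hb'.2.2]⟩
  rwa [show ind (toSet b) = toWord b by funext p; simp [ind, toSet, toWord]] at this

/-- For the automorphism group of the length-24 binary Golay code of the definitions (the Mathieu group of degree 24) acting on binary words of length 24 by permuting coordinates, the only invariant subspaces of the space of all words are: zero, the span of the all-ones word, the code itself, the even-weight words, and the whole space. (So the permutation module has a unique composition series.) -/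
theorem result (W : Submodule (ZMod 2) (Cfsg.GolayPt → ZMod 2)) (hW : ∀ σ ∈ Cfsg.M24, ∀ w ∈ W, (fun p => w (σ.symm p)) ∈ W) : W = ⊥ ∨ W = Submodule.span (ZMod 2) {fun _ => (1 : ZMod 2)} ∨ W = Cfsg.golayCode ∨ (W : Set (Cfsg.GolayPt → ZMod 2)) = {w | ∑ p, w p = 0} ∨ W = ⊤ := by
  classical
  have hWs : ∀ σ ∈ M24, ∀ s, ind s ∈ W → ind (σ • s) ∈ W := fun σ hσ s hs => by
    rw [ind_smul]; exact hW σ hσ _ hs
  have hd : ∀ a b, ind a ∈ W → ind b ∈ W → ind (a ∆ b) ∈ W := fun a b ha hb => by
    rw [ind_symmDiff]; exact add_mem ha hb
  have CS := fun (a b : Finset GolayPt) => supports_symmDiff (s := a) (t := b)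
  -- a word outside the code forces all pairs, modulo the code
  have pairs : ∀ s, ind s ∈ W → s ∉ supports (golayCode : Set (GolayPt → ZMod 2)) →
      ∀ p q : GolayPt, p ≠ q → ∃ r, ind r ∈ W ∧
        r ∆ {p, q} ∈ supports (golayCode : Set (GolayPt → ZMod 2)) := by
    intro s hsW hsC p q hpq
    obtain ⟨t, hst, ht4⟩ := GolayCoset.exists_cong_card_le_four s
    set U : Finset GolayPt → Prop := fun u => ∃ r, ind r ∈ W ∧
      r ∆ u ∈ supports (golayCode : Set (GolayPt → ZMod 2)) with hU
    have hUt : U t := ⟨s, hsW, hst⟩
    have Usmul : ∀ σ ∈ M24, ∀ u, U u → U (σ • u) := by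
      rintro σ hσ u ⟨r, hr, hru⟩
      refine ⟨σ • r, hWs σ hσ r hr, ?_⟩
      rw [← Finset.smul_finset_symmDiff]
      exact (M24_smul_mem_supports hσ).2 hru
    have Uadd : ∀ u v, U u → U v → U (u ∆ v) := by
      rintro u v ⟨r, hr, hru⟩ ⟨r', hr', hru'⟩
      refine ⟨r ∆ r', hd _ _ hr hr', ?_⟩
      rw [symmDiff_symmDiff_symmDiff_comm]
      exact CS _ _ hru hru'
    obtain ⟨a, ha⟩ : t.Nonempty := by
      rw [Finset.nonempty_iff_ne_empty]
      intro h
      subst h
      apply hsC
      have := hst
      unfold GolayCoset.Cong at this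
      rwa [← Finset.bot_eq_empty, symmDiff_bot] at this
    -- a translate of `t` differing only at `a`
    obtain ⟨x, hx⟩ : ∃ x, x ∉ t := by
      by_contra h
      push Not at h
      have := Finset.card_le_card (fun y (_ : y ∈ Finset.univ) => h y)
      rw [Finset.card_univ, show Fintype.card GolayPt = 24 from by simp [Fintype.card_option]] at this
      omega
    obtain ⟨σ, hσ, hmap⟩ := exists_map_M24 (xs := a :: (t.erase a).toList)
      (ys := x :: (t.erase a).toList)
      (List.nodup_cons.2 ⟨by simp, Finset.nodup_toList _⟩)
      (List.nodup_cons.2 ⟨by simp [hx], Finset.nodup_toList _⟩) (by simp)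
      (by simp [Finset.card_erase_of_mem ha]; omega)
    rw [List.map_cons, List.cons.injEq] at hmap
    have hfix : ∀ y ∈ t.erase a, σ y = y := by
      intro y hy
      have h' : (t.erase a).toList.map σ = (t.erase a).toList.map id := by
        rw [List.map_id]; exact hmap.2
      exact List.map_inj_left.1 h' y (Finset.mem_toList.2 hy)
    have himg : σ • t = insert x (t.erase a) := by
      conv_lhs => rw [← Finset.insert_erase ha]
      rw [Finset.smul_finset_insert, Equiv.Perm.smul_def, hmap.1]
      congr 1
      ext y
      constructor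
      · intro hy
        obtain ⟨z, hz, rfl⟩ := Finset.mem_smul_finset.1 hy
        rw [Equiv.Perm.smul_def, hfix z hz]; exact hz
      · intro hy
        exact Finset.mem_smul_finset.2 ⟨y, hy, hfix y hy⟩
    have hpair : U {a, x} := by
      have := Uadd t _ hUt (Usmul σ hσ t hUt)
      rw [himg] at this
      have e : t ∆ insert x (t.erase a) = {a, x} := by
        ext y
        simp only [Finset.mem_symmDiff, Finset.mem_insert, Finset.mem_erase, Finset.mem_singleton]
        by_cases h1 : y = a
        · subst h1
          have : y ≠ x := fun e => hx (e ▸ ha)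
          simp [ha, this]
        · by_cases h2 : y = x
          · subst h2; simp [hx]
          · simp [h1, h2]
      rwa [e] at this
    obtain ⟨τ, hτ, hτm⟩ := exists_map_M24 (xs := [a, x]) (ys := [p, q])
      (by simpa using fun e : a = x => hx (e ▸ ha)) (by simpa using hpq) rfl (by simp)
    have := Usmul τ hτ _ hpair
    simp only [List.map_cons, List.map_nil, List.cons.injEq, and_true] at hτm
    rw [Finset.smul_finset_insert, Finset.smul_finset_singleton, Equiv.Perm.smul_def,
      Equiv.Perm.smul_def, hτm.1, hτm.2] at this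
    exact this
  by_cases hbig : ∃ s, ind s ∈ W ∧ s ∈ supports (golayCode : Set (GolayPt → ZMod 2)) ∧ s ≠ ∅ ∧
      s ≠ Finset.univ
  · obtain ⟨s, hsW, hsC, h0, h1⟩ := hbig
    have hCW := code_le hWs hsW hsC h0 h1
    right; right
    by_cases hWC : W ≤ golayCode
    · exact Or.inl (le_antisymm hWC hCW)
    right
    obtain ⟨w, hwW, hwC⟩ := SetLike.not_le_iff_exists.1 hWC
    have hw' : support₂ w ∉ supports (golayCode : Set (GolayPt → ZMod 2)) := fun h =>
      hwC (support₂_mem_supports.1 h)
    have hpW : ∀ p q : GolayPt, p ≠ q → ind {p, q} ∈ W := by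
      intro p q hpq
      obtain ⟨r, hr, hrc⟩ := pairs (support₂ w) (by rwa [ind_support₂]) hw' p q hpq
      have := hd _ _ hr (hCW (mem_C_iff.2 hrc))
      rwa [symmDiff_symmDiff_cancel_left] at this
    have single : ∀ p, ind {p} + ind {none} ∈ W := by
      intro p
      by_cases hp : p = none
      · subst hp; rw [zmod2_add_self]; exact zero_mem _
      · have := hpW p none hp
        rwa [show ({p, none} : Finset GolayPt) = {p} ∆ {none} by
          ext y; simp [Finset.mem_symmDiff]; by_cases h1 : y = p <;> simp [h1, hp],
          ind_symmDiff] at this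
    have even : ∀ s : Finset GolayPt, ind s + (s.card : ZMod 2) • ind {none} ∈ W := by
      intro s
      induction s using Finset.induction_on with
      | empty => simp [ind_empty]
      | @insert a s has ih =>
        have hs' : ind (insert a s) = ind {a} + ind s := by
          rw [← ind_symmDiff]; congr 1; ext y
          simp only [Finset.mem_symmDiff, Finset.mem_singleton, Finset.mem_insert]
          by_cases h1 : y = a <;> simp [h1, has]
        rw [Finset.card_insert_of_notMem has, hs', Nat.cast_succ, add_smul, one_smul]
        have := add_mem ih (single a)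
        convert this using 1
        abel
    by_cases hone : ind {none} ∈ W
    · refine Or.inr (eq_top_iff.2 fun v _ => ?_)
      have := sub_mem (even (support₂ v)) (W.smul_mem ((support₂ v).card : ZMod 2) hone)
      rwa [add_sub_cancel_right, ind_support₂] at this
    · refine Or.inl (Set.ext fun v => ?_)
      simp only [SetLike.mem_coe, Set.mem_setOf_eq]
      have hv := even (support₂ v)
      rw [ind_support₂] at hv
      rw [← ind_support₂ v, sum_ind, ind_support₂]
      constructor
      · intro h
        rcases zmod_two_cases ((support₂ v).card : ZMod 2) with e | e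
        · exact e
        · rw [e, one_smul] at hv
          exact absurd (by simpa using sub_mem hv h) hone
      · intro h
        rw [h, zero_smul, add_zero] at hv
        exact hv
  · push Not at hbig
    have only : ∀ s, ind s ∈ W → s ∈ supports (golayCode : Set (GolayPt → ZMod 2)) →
        s = ∅ ∨ s = Finset.univ := fun s h1 h2 => or_iff_not_imp_left.2 fun h => hbig s h1 h2 (Finset.nonempty_iff_ne_empty.2 h)
    have small : ∀ s, ind s ∈ W → s = ∅ ∨ s = Finset.univ := by
      intro s hsW
      by_cases hsC : s ∈ supports (golayCode : Set (GolayPt → ZMod 2))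
      · exact only s hsW hsC
      exfalso
      -- every pair is in `W` up to the all-ones word
      have pw : ∀ p q : GolayPt, p ≠ q → ∃ e, (e = ∅ ∨ e = Finset.univ) ∧ ind ({p, q} ∆ e) ∈ W := by
        intro p q hpq
        obtain ⟨r, hr, hrc⟩ := pairs s hsW hsC p q hpq
        refine ⟨r ∆ {p, q}, ?_, by rwa [symmDiff_comm r, symmDiff_symmDiff_cancel_left]⟩
        set c := r ∆ {p, q} with hc
        by_contra hne
        push Not at hne
        have hcard : c.card = 8 ∨ c.card = 12 ∨ c.card = 16 := by
          rcases supports_card hrc with h | h | h | h | h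
          · exact absurd (Finset.card_eq_zero.1 h) hne.1.ne_empty
          · omega
          · omega
          · omega
          · exact absurd (Finset.eq_univ_of_card _ (h.trans (by simp [Fintype.card_option]))) hne.2
        obtain ⟨a, b, ha, hb, hab⟩ : ∃ a b, a ∈ c \ {p, q} ∧ b ∈ c \ {p, q} ∧ a ≠ b := by
          have : 1 < (c \ {p, q}).card := by
            have := Finset.le_card_sdiff ({p, q} : Finset GolayPt) c
            have := Finset.card_le_two (a := p) (b := q)
            omega
          exact Finset.one_lt_card_iff.1 this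
        obtain ⟨z, hz⟩ : (cᶜ \ {p, q}).Nonempty := by
          rw [← Finset.card_pos]
          have := Finset.le_card_sdiff ({p, q} : Finset GolayPt) cᶜ
          have := Finset.card_le_two (a := p) (b := q)
          rw [Finset.card_compl, show Fintype.card GolayPt = 24 from by simp [Fintype.card_option]] at *
          omega
        simp only [Finset.mem_sdiff, Finset.mem_insert, Finset.mem_singleton, not_or,
          Finset.mem_compl] at ha hb hz
        have haz : a ≠ z := fun e => hz.1 (e ▸ ha.1)
        have hbz : b ≠ z := fun e => hz.1 (e ▸ hb.1)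
        obtain ⟨σ, hσ, hm⟩ := exists_map_M24 (xs := [p, q, a, b]) (ys := [p, q, a, z])
          (by simp [hpq, hab, Ne.symm ha.2.1, Ne.symm ha.2.2, Ne.symm hb.2.1, Ne.symm hb.2.2])
          (by simp [hpq, haz, Ne.symm ha.2.1, Ne.symm ha.2.2, Ne.symm hz.2.1, Ne.symm hz.2.2])
          rfl (by simp)
        simp only [List.map_cons, List.map_nil, List.cons.injEq, and_true] at hm
        have hr2 := hd _ _ hr (hWs σ hσ r hr)
        have e : r ∆ (σ • r) = c ∆ (σ • c) := by
          have hσpq : σ • ({p, q} : Finset GolayPt) = {p, q} := by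
            rw [Finset.smul_finset_insert, Finset.smul_finset_singleton, Equiv.Perm.smul_def,
              Equiv.Perm.smul_def, hm.1, hm.2.1]
          rw [hc, Finset.smul_finset_symmDiff, hσpq, symmDiff_symmDiff_symmDiff_comm,
            symmDiff_self, symmDiff_bot]
        rw [e] at hr2
        rcases only _ hr2 (CS _ _ hrc ((M24_smul_mem_supports hσ).2 hrc)) with h | h
        · have : σ • c = c := (symmDiff_eq_bot.1 h).symm
          apply hz.1
          rw [← this, ← hm.2.2.2]
          exact Finset.smul_mem_smul_finset hb.1
        · have haσ : a ∈ σ • c := by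
            have := Finset.smul_mem_smul_finset (a := σ) ha.1
            rwa [Equiv.Perm.smul_def, hm.2.2.1] at this
          have : a ∈ c ∆ (σ • c) := by rw [h]; exact Finset.mem_univ a
          simp [Finset.mem_symmDiff, ha.1, haσ] at this
      obtain ⟨o, ho⟩ := fixed_pairs.1
      have two : ∀ a b, (a = ∅ ∨ a = (Finset.univ : Finset GolayPt)) → (b = ∅ ∨ b = Finset.univ) →
          a ∆ b = ∅ ∨ a ∆ b = Finset.univ := by
        rintro a b (rfl | rfl) (rfl | rfl) <;> simp [← Finset.bot_eq_empty, ← Finset.top_eq_univ]
      have evens : ∀ k, ∀ u : Finset GolayPt, u.card = 2 * k →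
          ∃ e, (e = ∅ ∨ e = Finset.univ) ∧ ind (u ∆ e) ∈ W := by
        intro k
        induction k with
        | zero =>
          intro u hu
          refine ⟨∅, Or.inl rfl, ?_⟩
          rw [Finset.card_eq_zero.1 (by omega : u.card = 0), symmDiff_self, Finset.bot_eq_empty,
            ind_empty]
          exact zero_mem _
        | succ k ih =>
          intro u hu
          obtain ⟨a, b, ha, hb, hab⟩ := Finset.one_lt_card_iff.1 (by omega : 1 < u.card)
          have hsub : ({a, b} : Finset GolayPt) ⊆ u := by simp [Finset.insert_subset_iff, ha, hb]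
          obtain ⟨e, he, hew⟩ := pw a b hab
          obtain ⟨e', he', hew'⟩ := ih (u \ {a, b}) (by
            rw [Finset.card_sdiff_of_subset hsub, hu, Finset.card_pair hab]; omega)
          refine ⟨e ∆ e', two _ _ he he', ?_⟩
          have := hd _ _ hew hew'
          rw [symmDiff_symmDiff_symmDiff_comm] at this
          rwa [show ({a, b} : Finset GolayPt) ∆ (u \ {a, b}) = u by
            rw [(disjoint_sdiff_self_right).symmDiff_eq_sup]
            exact Finset.union_sdiff_of_subset hsub] at this
      obtain ⟨hoC, ho8⟩ := ho.1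
      obtain ⟨e, he, hew⟩ := evens 4 o ho8
      have heC : e ∈ supports (golayCode : Set (GolayPt → ZMod 2)) := by
        rcases he with rfl | rfl
        · rw [← mem_C_iff, ind_empty]; exact zero_mem _
        · exact univ_mem_supports
      have hcard : (o ∆ e).card = 8 ∨ (o ∆ e).card = 16 := by
        rcases he with rfl | rfl
        · left; rwa [← Finset.bot_eq_empty, symmDiff_bot]
        · right
          rw [← Finset.top_eq_univ, symmDiff_top, hnot_eq_compl, Finset.card_compl, ho8,
            show Fintype.card GolayPt = 24 from by simp [Fintype.card_option]]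
      rcases only _ hew (CS _ _ hoC heC) with h | h <;> rw [h] at hcard
      · simp at hcard
      · rw [Finset.card_univ, show Fintype.card GolayPt = 24 from by simp [Fintype.card_option]] at hcard
        omega
    by_cases h1 : (fun _ => (1 : ZMod 2)) ∈ W
    · right; left
      refine le_antisymm (fun w hw => ?_) ((Submodule.span_singleton_le_iff_mem _ _).2 h1)
      rcases small (support₂ w) (by rwa [ind_support₂]) with h | h
      · rw [← ind_support₂ w, h, ind_empty]; exact zero_mem _
      · rw [← ind_support₂ w, h, ind_univ]; exact Submodule.mem_span_singleton_self _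
    · left
      refine eq_bot_iff.2 fun w hw => ?_
      rcases small (support₂ w) (by rwa [ind_support₂]) with h | h
      · rw [Submodule.mem_bot, ← ind_support₂ w, h, ind_empty]
      · rw [← ind_support₂ w, h, ind_univ] at hw
        exact absurd hw h1

end Cfsg.Agent.S5548
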