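import Cfsg.Statements.S5549
import Cfsg.Agent.Lib.Golay.M24
import Cfsg.Agent.Lib.M24Orbits.Perm
import Cfsg.Agent.Lib.Sporadic.GolayRigidData

set_option autoImplicit false
open Cfsg

namespace Cfsg.Agent.S5549

open CfsgLib CfsgLib.Golay
open scoped symmDiff Pointwise

/-- The type of a weight modulo complementation. -/
def ty (k : ℕ) : ℕ := bif Nat.beq k 0 || Nat.beq k 24 then 0 else bif Nat.beq k 12 then 2 else 1

/-- The combination of a list of masks selected by the bits of `k`. -/
def combL : List ℕ → ℕ → ℕ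
  | [], _ => 0
  | b :: bs, k => (bif Nat.beq (k % 2) 1 then b else 0) ^^^ combL bs (k / 2)

/-- The entries passing a test, in increasing order. -/
def collect (f : ℕ → Bool) : ℕ → ℕ → List ℕ
  | 0, lo => bif f lo then [comb lo] else []
  | k + 1, lo => collect f k lo ++ collect f k (lo + 2 ^ k)

theorem mem_collect {f : ℕ → Bool} : ∀ {k lo x : ℕ}, lo ≤ x → x < lo + 2 ^ k → f x = true →
    comb x ∈ collect f k lo
  | 0, lo, x, h₁, h₂, h => by
    obtain rfl : x = lo := by simp at h₂; omega
    simp [collect, h]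
  | k + 1, lo, x, h₁, h₂, h => by
    rw [collect, List.mem_append]
    rcases Nat.lt_or_ge x (lo + 2 ^ k) with hlt | hge
    · exact Or.inl (mem_collect h₁ hlt h)
    · exact Or.inr (mem_collect hge (by rw [pow_succ] at h₂; omega) h)

/-- A candidate for the image of the octad `o`. -/
noncomputable def candB (prev : List ℕ) (o : ℕ) (tests : List ℕ) (y : ℕ) : Bool :=
  Nat.beq (pc24 (comb y)) 8 && tests.all fun s =>
    Nat.beq (ty (pc24 (comb y ^^^ combL prev s))) (ty (pc24 (o ^^^ combL prev s)))

/-- The check of one level. -/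
noncomputable def levelB (prev : List ℕ) (e : ℕ × List ℕ × List ℕ) : Bool :=
  Nat.blt e.1 16777216 && memb e.1 && Nat.beq (pc24 e.1) 8 &&
    e.2.2.all (fun p => M24Orbits.okM24 p &&
      prev.all fun b => Nat.beq (M24Orbits.app p b) b) &&
    (collect (candB prev e.1 e.2.1) 12 0 == e.2.2.map fun p => M24Orbits.app p e.1)

/-- The check of all levels. -/
noncomputable def allB : List ℕ → List (ℕ × List ℕ × List ℕ) → Bool
  | _, [] => true
  | prev, e :: es => levelB prev e && allB (prev ++ [e.1]) es

theorem allB_data : allB [GolayRigid.Data.first] GolayRigid.Data.levels = true := by decide +kernel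

theorem expr_check :
    ((GolayRigid.Data.first < 16777216 ∧ memb GolayRigid.Data.first = true ∧
      pc24 GolayRigid.Data.first = 8) ∧
    (GolayRigid.Data.expr.map (combL
      ([GolayRigid.Data.first] ++ GolayRigid.Data.levels.map (·.1) ++ [16777215]))) = basis) := by
  decide +kernel

/-- The quotient by the all-ones word. -/
abbrev qmap : (GolayPt → ZMod 2) →ₗ[ZMod 2]
    ((GolayPt → ZMod 2) ⧸ Submodule.span (ZMod 2) {(fun _ => (1 : ZMod 2) : GolayPt → ZMod 2)}) :=
  Submodule.mkQ _

theorem qmap_eq_iff {a b : GolayPt → ZMod 2} :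
    qmap a = qmap b ↔ a = b ∨ a = b + fun _ => 1 := by
  simp only [qmap, Submodule.mkQ_apply, Submodule.Quotient.eq, Submodule.mem_span_singleton]
  constructor
  · rintro ⟨c, hc⟩
    rcases zmod_two_cases c with rfl | rfl
    · rw [zero_smul] at hc
      exact Or.inl (sub_eq_zero.1 hc.symm)
    · rw [one_smul] at hc
      exact Or.inr (by rw [hc, add_sub_cancel])
  · rintro (rfl | rfl)
    · exact ⟨0, by simp⟩
    · exact ⟨1, by simp⟩

theorem qmap_one : qmap (fun _ => (1 : ZMod 2)) = 0 := by
  simp [qmap, Submodule.Quotient.mk_eq_zero, Submodule.mem_span_singleton_self]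

/-- The weight type of a word. -/
def tyW (w : GolayPt → ZMod 2) : ℕ := ty (support₂ w).card

theorem tyW_toWord (n : ℕ) : tyW (toWord n) = ty (pc24 n) := by
  rw [tyW, support₂_toWord, card_toSet, pc24_eq]

theorem ty_compl {k : ℕ} (hk : k ≤ 24) : ty (24 - k) = ty k := by
  interval_cases k <;> rfl

theorem support₂_compl (w : GolayPt → ZMod 2) :
    support₂ (w + fun _ => 1) = (support₂ w)ᶜ := by
  ext p
  simp only [support₂, Finset.mem_compl, Finset.mem_filter, Finset.mem_univ, true_and, Pi.add_apply]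
  rcases zmod_two_cases (w p) with h | h <;> rw [h] <;> decide

theorem tyW_congr {a b : GolayPt → ZMod 2} (h : qmap a = qmap b) : tyW a = tyW b := by
  rcases qmap_eq_iff.1 h with rfl | rfl
  · rfl
  · have hle : (support₂ b).card ≤ 24 := by
      have := Finset.card_le_univ (support₂ b)
      simpa [Fintype.card_option] using this
    rw [tyW, tyW, support₂_compl, Finset.card_compl,
      show Fintype.card GolayPt = 24 by simp [Fintype.card_option], ty_compl hle]

theorem tyW_smul (σ : Equiv.Perm GolayPt) (w : GolayPt → ZMod 2) :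
    tyW (fun p => w (σ.symm p)) = tyW w := by
  rw [tyW, tyW, show support₂ (fun p => w (σ.symm p)) = σ • support₂ w from
    M24Orbits.support₂_comp σ w, Finset.card_smul_finset]

theorem perm_toWord {p : ℕ} (hok : M24Orbits.okM24 p = true) (b : ℕ) :
    (fun q => toWord b ((M24Orbits.perm p).symm q)) = toWord (M24Orbits.app p b) := by
  refine support₂_injective ?_
  rw [show support₂ (fun q => toWord b ((M24Orbits.perm p).symm q)) =
    M24Orbits.perm p • support₂ (toWord b) from
      M24Orbits.support₂_comp (M24Orbits.perm p) (toWord b),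
    support₂_toWord, support₂_toWord, M24Orbits.toSet_app (M24Orbits.okM24_ok hok)]

/-- Let X be a group of linear automorphisms of the length-24 binary Golay code of the definitions that fix the all-ones word, containing the coordinate-permutation action of every element of the code's automorphism group (the Mathieu group of degree 24), and such that every element of X sends each codeword into its orbit under that Mathieu group up to adding the all-ones word (X has the same orbits as the Mathieu group on the code modulo the all-ones word). Then every element of X agrees, modulo the all-ones word, with the action of a single element of the Mathieu group: X induces exactly the Mathieu group on the code modulo the all-ones word. -/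
theorem result (X : Subgroup (↥Cfsg.golayCode ≃ₗ[ZMod 2] ↥Cfsg.golayCode)) (h1 : ∀ x ∈ X, ∀ e : ↥Cfsg.golayCode, (e : (Cfsg.GolayPt → ZMod 2)) = (fun _ => (1 : ZMod 2)) → x e = e) (hM : ∀ σ ∈ Cfsg.M24, ∃ x ∈ X, ∀ c : ↥Cfsg.golayCode, ((x c : ↥Cfsg.golayCode) : (Cfsg.GolayPt → ZMod 2)) = fun p => (c : (Cfsg.GolayPt → ZMod 2)) (σ.symm p)) (horb : ∀ x ∈ X, ∀ c : ↥Cfsg.golayCode, ∃ σ ∈ Cfsg.M24, ((x c : ↥Cfsg.golayCode) : (Cfsg.GolayPt → ZMod 2)) = (fun p => (c : (Cfsg.GolayPt → ZMod 2)) (σ.symm p)) ∨ ((x c : ↥Cfsg.golayCode) : (Cfsg.GolayPt → ZMod 2)) = (fun p => (c : (Cfsg.GolayPt → ZMod 2)) (σ.symm p)) + fun _ => (1 : ZMod 2)) (x : ↥Cfsg.golayCode ≃ₗ[ZMod 2] ↥Cfsg.golayCode) (hx : x ∈ X) : ∃ σ ∈ Cfsg.M24, ∀ c : ↥Cfsg.golayCode, ((x c : ↥Cfsg.golayCode) : (Cfsg.GolayPt → ZMod 2)) = (fun p => (c : (Cfsg.GolayPt → ZMod 2)) (σ.symm p)) ∨ ((x c : ↥Cfsg.golayCode) : (Cfsg.GolayPt → ZMod 2)) = (fun p => (c : (Cfsg.GolayPt → ZMod 2)) (σ.symm p)) + fun _ => (1 : ZMod 2) := by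
  classical
  obtain ⟨⟨hf1, hf2, hf3⟩, hexpr⟩ := expr_check
  -- `Good z l`: `z` fixes the listed codewords modulo the all-ones word
  let Good : (↥Cfsg.golayCode ≃ₗ[ZMod 2] ↥Cfsg.golayCode) → List ℕ → Prop := fun z l =>
    ∀ b ∈ l, ∀ h : toWord b ∈ golayCode,
      qmap ((z ⟨toWord b, h⟩ : ↥Cfsg.golayCode) : GolayPt → ZMod 2) = qmap (toWord b)
  have hmulcoe : ∀ (y z : ↥Cfsg.golayCode ≃ₗ[ZMod 2] ↥Cfsg.golayCode) (c : ↥Cfsg.golayCode),
      (y * z) c = y (z c) := fun _ _ _ => rfl
  -- composing with an element of the group of the code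
  have comp : ∀ σ ∈ M24, ∀ y ∈ X, (∀ c : ↥Cfsg.golayCode, ((y c : ↥Cfsg.golayCode) :
        GolayPt → ZMod 2) = fun p => (c : GolayPt → ZMod 2) (σ.symm p)) →
      ∀ (z : ↥Cfsg.golayCode ≃ₗ[ZMod 2] ↥Cfsg.golayCode) (c : ↥Cfsg.golayCode)
        (d : GolayPt → ZMod 2), qmap ((z c : ↥Cfsg.golayCode) : GolayPt → ZMod 2) = qmap d →
        qmap (((y * z) c : ↥Cfsg.golayCode) : GolayPt → ZMod 2) =
          qmap (fun p => d (σ.symm p)) := by
    intro σ _ y _ hy z c d hd
    rw [hmulcoe, hy]
    rcases qmap_eq_iff.1 hd with h | h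
    · rw [h]
    · rw [h, qmap_eq_iff]; exact Or.inr rfl
  -- images of words keep their type
  have htype : ∀ z ∈ X, ∀ c : ↥Cfsg.golayCode,
      tyW ((z c : ↥Cfsg.golayCode) : GolayPt → ZMod 2) = tyW (c : GolayPt → ZMod 2) := by
    intro z hz c
    obtain ⟨σ, -, h | h⟩ := horb z hz c
    · rw [h, tyW_smul]
    · rw [h, tyW_congr (qmap_eq_iff.2 (Or.inr rfl)), tyW_smul]
  -- an octad is sent to an octad
  have himg : ∀ z ∈ X, ∀ o, memb o = true → pc24 o = 8 → ∀ h : toWord o ∈ golayCode,
      ∃ y < 2 ^ 12, pc24 (comb y) = 8 ∧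
        qmap ((z ⟨toWord o, h⟩ : ↥Cfsg.golayCode) : GolayPt → ZMod 2) = qmap (toWord (comb y)) := by
    intro z hz o _ ho8 h
    obtain ⟨σ, hσ, he⟩ := horb z hz ⟨toWord o, h⟩
    have hmem : (fun p => toWord o (σ.symm p)) ∈ golayCode :=
      M24_comp (inv_mem hσ) h
    obtain ⟨y, hy, hyw⟩ := mem_golay_iff.1 hmem
    refine ⟨y, hy, ?_, ?_⟩
    · rw [pc24_eq, ← card_toSet, ← support₂_toWord, hyw,
        show support₂ (fun p => toWord o (σ.symm p)) = σ • support₂ (toWord o) from
          M24Orbits.support₂_comp σ (toWord o), Finset.card_smul_finset, support₂_toWord, card_toSet,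
        ← pc24_eq]
      exact ho8
    · rw [hyw, qmap_eq_iff]; exact he
  -- linearity: combinations of fixed words are fixed
  have hcomb : ∀ (z : ↥Cfsg.golayCode ≃ₗ[ZMod 2] ↥Cfsg.golayCode) (l : List ℕ),
      (∀ b ∈ l, toWord b ∈ golayCode) → Good z l →
      ∀ s, ∃ h : toWord (combL l s) ∈ golayCode,
        qmap ((z ⟨toWord (combL l s), h⟩ : ↥Cfsg.golayCode) : GolayPt → ZMod 2) =
          qmap (toWord (combL l s)) := by
    intro z l
    induction l with
    | nil =>
      intro _ _ s
      refine ⟨by rw [combL, toWord_zero]; exact zero_mem _, ?_⟩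
      have h0 : toWord 0 ∈ golayCode := by rw [toWord_zero]; exact zero_mem _
      have : (⟨toWord 0, h0⟩ : ↥Cfsg.golayCode) = 0 := Subtype.ext toWord_zero
      show qmap ((z ⟨toWord 0, h0⟩ : ↥Cfsg.golayCode) : GolayPt → ZMod 2) = qmap (toWord 0)
      rw [this, map_zero, toWord_zero]
      rfl
    | cons b bs ih =>
      intro hC hG s
      obtain ⟨h', hq⟩ := ih (fun c hc => hC c (List.mem_cons_of_mem _ hc))
        (fun c hc => hG c (List.mem_cons_of_mem _ hc)) (s / 2)
      have hb := hC b List.mem_cons_self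
      cases hs : Nat.beq (s % 2) 1
      · have e : combL (b :: bs) s = combL bs (s / 2) := by simp [combL, hs]
        simp only [e]; exact ⟨h', hq⟩
      · have e : toWord (combL (b :: bs) s) = toWord b + toWord (combL bs (s / 2)) := by
          simp [combL, hs, toWord_xor]
        refine ⟨by rw [e]; exact add_mem hb h', ?_⟩
        have e' : (⟨toWord (combL (b :: bs) s), by rw [e]; exact add_mem hb h'⟩ :
            ↥Cfsg.golayCode) = ⟨toWord b, hb⟩ + ⟨toWord (combL bs (s / 2)), h'⟩ := Subtype.ext e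
        rw [e', map_add, Submodule.coe_add, map_add, hG b List.mem_cons_self hb, hq, e, map_add]
  -- normalise the first octad
  have hfC : toWord GolayRigid.Data.first ∈ golayCode :=
    (toWord_mem_iff (by simpa using hf1)).2 hf2
  obtain ⟨σ0, hσ0, z0, hz0, hrel0, hgood0⟩ : ∃ σ ∈ M24, ∃ z ∈ X,
      (∀ c : ↥Cfsg.golayCode, qmap ((x c : ↥Cfsg.golayCode) : GolayPt → ZMod 2) =
        qmap (fun p => ((z c : ↥Cfsg.golayCode) : GolayPt → ZMod 2) (σ.symm p))) ∧
      Good z [GolayRigid.Data.first] := by
    obtain ⟨y, hy, hy8, hq⟩ := himg x hx _ hf2 hf3 hfC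
    have ho : toSet GolayRigid.Data.first ∈ octads :=
      ⟨(toSet_mem_supports (by simpa using hf1)).2 hf2, by rw [card_toSet, ← pc24_eq]; exact hf3⟩
    have ho' : toSet (comb y) ∈ octads :=
      ⟨(toSet_mem_supports (comb_lt hy)).2 (memb_comb hy), by rw [card_toSet, ← pc24_eq]; exact hy8⟩
    obtain ⟨g, hg, hgo⟩ := exists_smul_octad ho' ho
    obtain ⟨yg, hyg, hygc⟩ := hM g hg
    refine ⟨g⁻¹, inv_mem hg, yg * x, X.mul_mem hyg hx, fun c => ?_, ?_⟩
    · rw [hmulcoe, hygc]
      congr 1
      funext p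
      show _ = ((x c : ↥Cfsg.golayCode) : GolayPt → ZMod 2) (g.symm ((g⁻¹).symm p))
      rw [show (g⁻¹).symm p = g p from rfl, Equiv.symm_apply_apply]
    · intro b hb h
      rw [List.mem_singleton] at hb
      subst hb
      rw [comp g hg yg hyg hygc x ⟨_, h⟩ _ hq]
      congr 1
      refine support₂_injective ?_
      rw [show support₂ (fun p => toWord (comb y) (g.symm p)) = g • support₂ (toWord (comb y)) from
        M24Orbits.support₂_comp g (toWord (comb y)), support₂_toWord, support₂_toWord]
      exact hgo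
  -- the levels
  have run : ∀ (es : List (ℕ × List ℕ × List ℕ)) (prev : List ℕ), allB prev es = true →
      (∀ b ∈ prev, toWord b ∈ golayCode) → ∀ z ∈ X, Good z prev →
      (∀ b ∈ prev ++ es.map (·.1), toWord b ∈ golayCode) ∧
      ∃ σ ∈ M24, ∃ z' ∈ X,
        (∀ c : ↥Cfsg.golayCode, qmap ((z c : ↥Cfsg.golayCode) : GolayPt → ZMod 2) =
          qmap (fun p => ((z' c : ↥Cfsg.golayCode) : GolayPt → ZMod 2) (σ.symm p))) ∧
        Good z' (prev ++ es.map (·.1)) := by
    intro es
    induction es with
    | nil =>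
      intro prev _ hC z hz hG
      refine ⟨by simpa using hC, 1, one_mem _, z, hz, fun c => rfl, by simpa using hG⟩
    | cons e es ih =>
      intro prev hall hC z hz hG
      obtain ⟨o, tests, codes⟩ := e
      simp only [allB, levelB, Bool.and_eq_true, Nat.blt_eq, Nat.beq_eq, List.all_eq_true,
        beq_iff_eq] at hall
      obtain ⟨⟨⟨⟨⟨ho1, ho2⟩, ho3⟩, hcodes⟩, hcoll⟩, hrest⟩ := hall
      have hoC : toWord o ∈ golayCode := (toWord_mem_iff (by simpa using ho1)).2 ho2
      obtain ⟨y, hy, hy8, hq⟩ := himg z hz o ho2 ho3 hoC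
      have hcand : candB prev o tests y = true := by
        simp only [candB, Bool.and_eq_true, Nat.beq_eq, List.all_eq_true]
        refine ⟨hy8, fun s _ => ?_⟩
        obtain ⟨hsC, hsq⟩ := hcomb z prev hC hG s
        rw [← tyW_toWord, ← tyW_toWord, toWord_xor, toWord_xor]
        have := htype z hz (⟨toWord o, hoC⟩ + ⟨toWord (combL prev s), hsC⟩)
        rw [Submodule.coe_add] at this
        rw [← this]
        refine tyW_congr ?_
        rw [map_add, map_add, Submodule.coe_add, map_add, hq, hsq]
      have hmem := mem_collect (f := candB prev o tests) (k := 12) (lo := 0) (Nat.zero_le y)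
        (by simpa using hy) hcand
      rw [hcoll, List.mem_map] at hmem
      obtain ⟨p, hp, hpy⟩ := hmem
      obtain ⟨hok, hfix⟩ := hcodes p hp
      set g := (M24Orbits.perm p)⁻¹ with hg
      have hgM : g ∈ M24 := inv_mem (M24Orbits.perm_mem_M24 hok)
      obtain ⟨yg, hyg, hygc⟩ := hM g hgM
      have key : ∀ b c : ℕ, M24Orbits.app p b = c →
          (fun q => toWord c (g.symm q)) = toWord b := by
        intro b c hbc
        rw [← hbc, ← perm_toWord hok]
        funext q
        show toWord b ((M24Orbits.perm p).symm (g.symm q)) = _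
        rw [hg, show ((M24Orbits.perm p)⁻¹).symm q = M24Orbits.perm p q from rfl,
          Equiv.symm_apply_apply]
      have hgood : Good (yg * z) (prev ++ [o]) := by
        intro b hb h
        rcases List.mem_append.1 hb with hb | hb
        · rw [comp g hgM yg hyg hygc z _ _ (hG b hb h), key b b (hfix b hb)]
        · rw [List.mem_singleton] at hb
          subst hb
          rw [comp g hgM yg hyg hygc z _ _ hq, key b (comb y) hpy]
      have hC' : ∀ b ∈ prev ++ [o], toWord b ∈ golayCode := by
        intro b hb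
        rcases List.mem_append.1 hb with hb | hb
        · exact hC b hb
        · rw [List.mem_singleton] at hb; subst hb; exact hoC
      obtain ⟨hC2, σ, hσ, z', hz', hrel, hgood'⟩ :=
        ih (prev ++ [o]) hrest hC' (yg * z) (X.mul_mem hyg hz) hgood
      refine ⟨by simpa using hC2, g⁻¹ * σ, mul_mem (inv_mem hgM) hσ, z', hz', fun c => ?_,
        by simpa using hgood'⟩
      have h := hrel c
      rw [hmulcoe, hygc] at h
      rcases qmap_eq_iff.1 h with h | h <;> rw [qmap_eq_iff]
      · left
        funext q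
        have := congrFun h (g q)
        simp only [Equiv.symm_apply_apply] at this
        rw [this]; rfl
      · right
        funext q
        have := congrFun h (g q)
        simp only [Equiv.symm_apply_apply] at this
        rw [this]; rfl
  obtain ⟨hC2, σ1, hσ1, z1, hz1, hrel1, hgood1⟩ := run GolayRigid.Data.levels
    [GolayRigid.Data.first] allB_data (by simpa using hfC) z0 hz0 hgood0
  -- `z1` fixes the whole code modulo the all-ones word
  have hone : toWord 16777215 = fun _ => (1 : ZMod 2) := by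
    funext p; revert p; decide +kernel
  set full := [GolayRigid.Data.first] ++ GolayRigid.Data.levels.map (·.1) ++ [16777215] with hfull
  have hC3 : ∀ b ∈ full, toWord b ∈ golayCode := by
    intro b hb
    rcases List.mem_append.1 hb with hb | hb
    · exact hC2 b hb
    · rw [List.mem_singleton] at hb; subst hb; rw [hone]; exact one_mem_golay
  have hgood2 : Good z1 full := by
    intro b hb h
    rcases List.mem_append.1 hb with hb | hb
    · exact hgood1 b hb h
    · rw [List.mem_singleton] at hb; subst hb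
      rw [h1 z1 hz1 ⟨_, h⟩ hone]
  let ι := (Cfsg.golayCode).subtype
  let M : Submodule (ZMod 2) (GolayPt → ZMod 2) :=
    (LinearMap.eqLocus (qmap.comp (ι.comp z1.toLinearMap)) (qmap.comp ι)).map ι
  have hbM : ∀ b ∈ basis, toWord b ∈ M := by
    intro b hb
    rw [← hexpr, List.mem_map] at hb
    obtain ⟨k, -, rfl⟩ := hb
    obtain ⟨h, hq⟩ := hcomb z1 full hC3 hgood2 k
    exact ⟨⟨_, h⟩, hq, rfl⟩
  have hall : ∀ c : ↥Cfsg.golayCode,
      qmap ((z1 c : ↥Cfsg.golayCode) : GolayPt → ZMod 2) = qmap (c : GolayPt → ZMod 2) := by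
    intro c
    obtain ⟨k, -, hk⟩ := mem_golay_iff.1 c.2
    obtain ⟨d, hd, hdc⟩ := toWord_comb_mem_of hbM k
    rw [hk] at hdc
    have : d = c := Subtype.ext hdc
    subst this
    exact hd
  refine ⟨σ0 * σ1, mul_mem hσ0 hσ1, fun c => qmap_eq_iff.1 ?_⟩
  rw [hrel0 c]
  rcases qmap_eq_iff.1 (hrel1 c) with h | h <;>
    rcases qmap_eq_iff.1 (hall c) with h' | h' <;> rw [h, qmap_eq_iff]
  · left; funext p; rw [h']; rfl
  · right; funext p; rw [h']; rfl
  · right; funext p; rw [h']; rfl
  · left
    funext p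
    rw [h']
    simp only [Pi.add_apply]
    rw [add_assoc, CharTwo.add_self_eq_zero, add_zero]
    rfl

end Cfsg.Agent.S5549
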