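import Cfsg.Statements.S5550
import Cfsg.Agent.Lib.Golay.M24
import Cfsg.Agent.Lib.M24Orbits.Perm

set_option autoImplicit false
open Cfsg

namespace Cfsg.Agent.S5550

open CfsgLib CfsgLib.Golay
open scoped symmDiff Pointwise

/-- Every nonzero coset is moved by one of the listed permutations, each fixing the mask `S`. -/
noncomputable def coverB (S : ℕ) (L : List ℕ) : Bool :=
  L.all (fun p => M24Orbits.okM24 p && (M24Orbits.app p S == S)) &&
    allR (fun x => x == 0 || L.any fun p =>
      !(memb (M24Orbits.app p (x * 4096) ^^^ (x * 4096)))) 12 0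

/-- Elements of the stabiliser of the empty set. -/
def gensZero : List ℕ :=
  [49334317866102709473837111155532999828546651686927601156,
   417031473067181743645187826702064621059061785223881953301]

theorem coverZero : coverB 0 gensZero = true := by decide +kernel

/-- Elements of the octad stabiliser. -/
def gensOct : List ℕ :=
  [123370015466122666293747381259037125008616263901801153041,
   124137008648196204539555498620169716505497990598067552771]

theorem coverOct : coverB 8536111 gensOct = true := by decide +kernel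

/-- Elements of the dodecad stabiliser. -/
def gensDod : List ℕ :=
  [50578717797078978567483625958774739515135221085964078081,
   467893786379145317055525415952525565857871196890071237121,
   25481871602153841836693473903977270134267547426917450496]

theorem coverDod : coverB 10260655 gensDod = true := by decide +kernel

theorem supports_congr_smul {g : Equiv.Perm GolayPt} (hg : g ∈ M24) {s : Finset GolayPt} :
    g • s ∈ supports (golayCode : Set (GolayPt → ZMod 2)) ↔
      s ∈ supports (golayCode : Set (GolayPt → ZMod 2)) :=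
  M24_smul_mem_supports hg

theorem exists_mask (s : Finset GolayPt) : ∃ n < 2 ^ 24, toSet n = s := by
  classical
  refine ⟨bitsOf (fun i => decide (pt i ∈ s)) 24, bitsOf_lt _ _, ?_⟩
  ext p
  simp [mem_toSet, testBit_bitsOf, bit_lt, pt_bit]

theorem exists_move {S : ℕ} {L : List ℕ} (h : coverB S L = true) {T : Finset GolayPt}
    (hT : T ∉ supports (golayCode : Set (GolayPt → ZMod 2))) :
    ∃ g ∈ M24, g • toSet S = toSet S ∧
      (g • T) ∆ T ∉ supports (golayCode : Set (GolayPt → ZMod 2)) := by
  simp only [coverB, Bool.and_eq_true, List.all_eq_true, beq_iff_eq] at h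
  obtain ⟨hL, hall⟩ := h
  obtain ⟨n, hn, rfl⟩ := exists_mask T
  set i := n &&& 4095 with hi
  have hi12 : i < 2 ^ 12 := lt_of_le_of_lt Nat.and_le_right (by norm_num)
  obtain ⟨hc1, hc2, -⟩ := comb_spec hi12
  set m := n ^^^ comb i with hm
  have hm24 : m < 2 ^ 24 := Nat.xor_lt_two_pow hn hc1
  have hlow : m &&& 4095 = 0 := by
    rw [hm, Nat.and_xor_distrib_right, hc2, ← hi, Nat.xor_self]
  have hmod : m % 4096 = 0 := by
    have := Nat.and_two_pow_sub_one_eq_mod m 12
    norm_num at this
    omega
  have hC : toSet (comb i) ∈ supports (golayCode : Set (GolayPt → ZMod 2)) :=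
    (toSet_mem_supports hc1).2 (memb_comb hi12)
  have hnm : toSet n = toSet m ∆ toSet (comb i) := by
    rw [← toSet_xor, hm, Nat.xor_assoc, Nat.xor_self, Nat.xor_zero]
  have hx := allR_spec hall (m / 4096) (Nat.zero_le _) (by omega)
  have hne : m / 4096 ≠ 0 := by
    intro h0
    apply hT
    rw [hnm, show m = 0 by omega, ← toSet_xor, Nat.zero_xor]
    exact hC
  rw [show m / 4096 * 4096 = m by omega] at hx
  simp only [Bool.or_eq_true, beq_iff_eq, hne, false_or, List.any_eq_true,
    Bool.not_eq_true'] at hx
  obtain ⟨p, hp, hpm⟩ := hx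
  obtain ⟨hok, hS⟩ := hL p hp
  have hmem := M24Orbits.perm_mem_M24 hok
  have hok' := M24Orbits.okM24_ok hok
  refine ⟨_, hmem, by rw [← M24Orbits.toSet_app hok', hS], fun hc => ?_⟩
  have h2 := supports_symmDiff hc (supports_symmDiff ((M24_smul_mem_supports hmem).2 hC) hC)
  rw [hnm, Finset.smul_finset_symmDiff, symmDiff_symmDiff_symmDiff_comm (_ • toSet m),
    symmDiff_assoc, symmDiff_self, symmDiff_bot, ← M24Orbits.toSet_app hok', ← toSet_xor,
    toSet_mem_supports (Nat.xor_lt_two_pow (M24Orbits.app_lt hok' _) hm24), hpm] at h2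
  exact Bool.false_ne_true h2

theorem exists_move' {S : ℕ} {L : List ℕ} (h : coverB S L = true) {U T : Finset GolayPt}
    (hU : ∃ g ∈ M24, g • toSet S = U) (hT : T ∉ supports (golayCode : Set (GolayPt → ZMod 2))) :
    ∃ g ∈ M24, g • U = U ∧ (g • T) ∆ T ∉ supports (golayCode : Set (GolayPt → ZMod 2)) := by
  obtain ⟨k, hk, rfl⟩ := hU
  have hT' : k⁻¹ • T ∉ supports (golayCode : Set (GolayPt → ZMod 2)) := fun hh =>
    hT (by simpa using (M24_smul_mem_supports hk).2 hh)
  obtain ⟨g, hg, hgS, hgT⟩ := exists_move h hT'
  refine ⟨k * g * k⁻¹, mul_mem (mul_mem hk hg) (inv_mem hk), ?_, fun hc => hgT ?_⟩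
  · rw [← mul_smul, inv_mul_cancel_right, mul_smul, hgS]
  · have := (M24_smul_mem_supports (inv_mem hk)).2 hc
    rw [Finset.smul_finset_symmDiff, ← mul_smul, mul_assoc k g, inv_mul_cancel_left, mul_smul] at this
    exact this

/-- Let u be a word of the length-24 binary Golay code of the definitions (possibly zero or all-ones) and w any binary word of length 24 outside the code. Then some automorphism of the code (a coordinate permutation preserving it) fixes u but moves w to a word not congruent to w modulo the code: the stabilizer of a codeword fixes no non-zero element of the quotient of the space of all words by the code. -/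
theorem result (u : (Cfsg.GolayPt → ZMod 2)) (hu : u ∈ Cfsg.golayCode) (w : (Cfsg.GolayPt → ZMod 2)) (hw : w ∉ Cfsg.golayCode) : ∃ σ ∈ Cfsg.M24, (fun p => u (σ.symm p)) = u ∧ (fun p => w (σ.symm p)) - w ∉ Cfsg.golayCode := by
  classical
  set S := support₂ u with hS
  set T := support₂ w with hTdef
  have hT : T ∉ supports (golayCode : Set (GolayPt → ZMod 2)) := fun h =>
    hw (support₂_mem_supports.1 h)
  have hSC : S ∈ supports (golayCode : Set (GolayPt → ZMod 2)) := support₂_mem_supports.2 hu
  have huniv : (Finset.univ : Finset GolayPt) ∈ supports (golayCode : Set (GolayPt → ZMod 2)) :=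
    ⟨1, one_mem_golay, by ext p; simp [support₂]⟩
  have h24 : Fintype.card GolayPt = 24 := by simp [Fintype.card_option]
  obtain ⟨g, hg, hgS, hgT⟩ : ∃ g ∈ M24, g • S = S ∧
      (g • T) ∆ T ∉ supports (golayCode : Set (GolayPt → ZMod 2)) := by
    have empty_case : ∃ g ∈ M24, (g • T) ∆ T ∉ supports (golayCode : Set (GolayPt → ZMod 2)) := by
      obtain ⟨g, hg, -, h⟩ := exists_move coverZero hT
      exact ⟨g, hg, h⟩
    rcases supports_card hSC with h | h | h | h | h
    · obtain ⟨g, hg, hgT⟩ := empty_case
      exact ⟨g, hg, by rw [Finset.card_eq_zero.1 h]; simp, hgT⟩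
    · obtain ⟨k, hk, hk'⟩ := exists_smul_octad octad0_mem (show S ∈ octads from ⟨hSC, h⟩)
      exact exists_move' coverOct ⟨k, hk, hk'⟩ hT
    · obtain ⟨k, hk, hk'⟩ := exists_smul_dodecad0 (show S ∈ dodecads from ⟨hSC, h⟩)
      exact exists_move' coverDod ⟨k, hk, hk'⟩ hT
    · have hco : Sᶜ ∈ octads := by
        refine ⟨?_, ?_⟩
        · have := supports_symmDiff hSC huniv
          rwa [← Finset.top_eq_univ, symmDiff_top, hnot_eq_compl] at this
        · rw [Finset.card_compl, h, h24]
      obtain ⟨k, hk, hk'⟩ := exists_smul_octad octad0_mem hco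
      obtain ⟨g, hg, hgS, hgT⟩ := exists_move' coverOct ⟨k, hk, hk'⟩ hT
      refine ⟨g, hg, ?_, hgT⟩
      have e : (g • S)ᶜ = g • Sᶜ := by ext p; simp [← Finset.inv_smul_mem_iff]
      exact compl_injective (e.trans hgS)
    · obtain ⟨g, hg, hgT⟩ := empty_case
      exact ⟨g, hg, by rw [Finset.eq_univ_of_card S (h.trans h24.symm)]; simp, hgT⟩
  refine ⟨g, hg, support₂_injective ?_, fun hc => hgT ?_⟩
  · exact (M24Orbits.support₂_comp g u).trans hgS
  · have h1 := support₂_mem_supports.2 hc
    have e : (fun p => w (g.symm p)) - w = (fun p => w (g.symm p)) + w := by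
      funext p; exact CharTwo.sub_eq_add _ _
    have e2 : ∀ a b : GolayPt → ZMod 2, support₂ (a + b) = support₂ a ∆ support₂ b := by
      intro a b
      ext p
      simp only [support₂, Finset.mem_filter, Finset.mem_univ, true_and, Finset.mem_symmDiff,
        Pi.add_apply]
      rcases zmod_two_cases (a p) with h1 | h1 <;> rcases zmod_two_cases (b p) with h2 | h2 <;>
        rw [h1, h2] <;> decide
    rw [e, e2, show support₂ (fun p => w (g.symm p)) = g • T from M24Orbits.support₂_comp g w] at h1
    exact h1

end Cfsg.Agent.S5550
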