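import Cfsg.Statements.S5552
import Cfsg.Agent.Lib.Leech.Orbits.Classify
import Cfsg.Agent.S1570

set_option autoImplicit false
open Cfsg

namespace Cfsg.Agent.S5552

open CfsgLib.Leech CfsgLib.Leech.Orbits

/-- First test vector. -/
def lu : List ℤ := [4, 4, 0, 0, 0, 0, 0, 0, 0, 0, 0, 0, 0, 0, 0, 0, 0, 0, 0, 0, 0, 0, 0, 0]
/-- Second test vector. -/
def lw0 : List ℤ := [0, -4, 0, 0, 0, 0, 0, 0, 0, 0, 0, 0, 4, 0, 0, 0, 0, 0, 0, 0, 0, 0, 0, 0]
/-- Third test vector. -/
def lw1 : List ℤ := [-4, 0, 4, 0, 0, 0, 0, 0, 0, 0, 0, 0, 0, 0, 0, 0, 0, 0, 0, 0, 0, 0, 0, 0]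
/-- Fourth test vector. -/
def lw2 : List ℤ := [-2, 0, 0, 0, 0, 0, 0, 0, 0, 0, 0, 0, -2, 0, 2, 0, 2, 2, 2, 0, 0, 0, 2, 2]

/-- A test lattice vector. -/
def tU : ↥Cfsg.leechLattice := ⟨vecOf lu, mem_of_leechB (by decide +kernel)⟩

/-- A test lattice vector. -/
def tV0 : ↥Cfsg.leechLattice := ⟨vecOf lw0, mem_of_leechB (by decide +kernel)⟩

/-- A test lattice vector. -/
def tW1 : ↥Cfsg.leechLattice := ⟨vecOf lw1, mem_of_leechB (by decide +kernel)⟩

/-- A test lattice vector. -/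
def tW2 : ↥Cfsg.leechLattice := ⟨vecOf lw2, mem_of_leechB (by decide +kernel)⟩

/-- On the Leech lattice of the definitions, let Q be a function to the field with two elements that is constant on cosets of twice the lattice, is a quadratic form there (Q(u+v+w) + Q(u) + Q(v) + Q(w) = Q(u+v) + Q(u+w) + Q(v+w) for all u, v, w), is invariant under every lattice automorphism, and is not identically zero. Then Q(v) is the squared length of v divided by 16, reduced modulo 2, for every lattice vector v (squared lengths of lattice vectors are multiples of 16). -/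
theorem result (Q : ↥Cfsg.leechLattice → ZMod 2) (hcoset : ∀ v w : ↥Cfsg.leechLattice, Q (v + (w + w)) = Q v) (hquad : ∀ u v w : ↥Cfsg.leechLattice, Q (u + v + w) + Q u + Q v + Q w = Q (u + v) + Q (u + w) + Q (v + w)) (hinv : ∀ (g : ↥Cfsg.Co0) (v : ↥Cfsg.leechLattice), Q (g • v) = Q v) (hne : ∃ v : ↥Cfsg.leechLattice, Q v ≠ 0) (v : ↥Cfsg.leechLattice) : Q v = ((Cfsg.sqNorm (v : Cfsg.GolayPt → ℤ) / 16 : ℤ) : ZMod 2) := by
  have z2 : ∀ a : ZMod 2, a = 0 ∨ a = 1 := zmod_two_cases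
  -- constant on the three short orbits
  have orb : ∀ N : ℤ, (N = 32 ∨ N = 48 ∨ N = 64) → ∀ x y : ↥Cfsg.leechLattice,
      Cfsg.sqNorm (x : Cfsg.GolayPt → ℤ) = N → Cfsg.sqNorm (y : Cfsg.GolayPt → ℤ) = N →
      Q x = Q y := by
    intro N hN x y hx hy
    have : ∃ g : ↥Cfsg.Co0, g • x = y := by
      rcases hN with rfl | rfl | rfl
      exacts [transitive32 x y hx hy, transitive48 x y hx hy, transitive64 x y hx hy]
    obtain ⟨g, rfl⟩ := this
    exact (hinv g x).symm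
  have hQ0 : Q 0 = 0 := by
    have := hquad 0 0 0
    simp only [add_zero] at this
    rcases z2 (Q 0) with e | e
    · exact e
    · rw [e] at this; exact absurd this (by decide)
  have A := hquad tU tV0 tW1
  have B := hquad tU tV0 tW2
  have e32 : ∀ x : ↥Cfsg.leechLattice, Cfsg.sqNorm (x : Cfsg.GolayPt → ℤ) = 32 → Q x = Q tU :=
    fun x hx => orb 32 (Or.inl rfl) x tU hx (by decide +kernel)
  rw [e32 (tU + tV0 + tW1) (by decide +kernel),
    e32 tV0 (by decide +kernel), e32 tW1 (by decide +kernel),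
    e32 (tU + tV0) (by decide +kernel),
    e32 (tU + tW1) (by decide +kernel)] at A
  rw [e32 (tU + tV0 + tW2) (by decide +kernel),
    e32 tV0 (by decide +kernel), e32 tW2 (by decide +kernel),
    e32 (tU + tV0) (by decide +kernel),
    orb 48 (Or.inr (Or.inl rfl)) (tV0 + tW2) (tU + tW2)
      (by decide +kernel)
      (by decide +kernel)] at B
  have ha : Q tU = 0 := by
    rcases z2 (Q tU) with e | e
    · exact e
    · rw [e] at B; rcases z2 (Q (tU + tW2)) with e' | e' <;> rw [e'] at B <;>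
        exact absurd B (by decide)
  have hc : Q (tV0 + tW1) = 0 := by
    rw [ha] at A
    rcases z2 (Q (tV0 + tW1)) with e | e
    · exact e
    · rw [e] at A; exact absurd A (by decide)
  -- reduce to a short representative
  have red : ∀ x : ↥Cfsg.leechLattice, ∃ y : ↥Cfsg.leechLattice,
      Cfsg.sqNorm (y : Cfsg.GolayPt → ℤ) ≤ 64 ∧ Q x = Q y ∧
        ((Cfsg.sqNorm (x : Cfsg.GolayPt → ℤ) / 16 : ℤ) : ZMod 2) =
          ((Cfsg.sqNorm (y : Cfsg.GolayPt → ℤ) / 16 : ℤ) : ZMod 2) := by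
    intro x
    obtain ⟨y, hy, hyn, z, hz, hxy⟩ := Cfsg.Agent.S1570.result _ x.2
    refine ⟨⟨y, hy⟩, hyn, ?_, ?_⟩
    · have : x = (⟨y, hy⟩ : ↥Cfsg.leechLattice) + (⟨z, hz⟩ + ⟨z, hz⟩) := by
        apply Subtype.ext
        simp only [AddSubgroup.coe_add]
        rw [← two_nsmul, ← hxy, add_sub_cancel]
      rw [this, hcoset]
    · have hx : (x : Cfsg.GolayPt → ℤ) = y + 2 • z := by rw [← hxy, add_sub_cancel]
      have hz16 := leech_even hz
      obtain ⟨t, ht⟩ := hz16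
      have h8 : (8 : ℤ) ∣ Cfsg.dotInt y z := by
        have h1 := leech_even (add_mem hy hz)
        have h2 := leech_even hy
        rw [sqNorm_add, ht] at h1
        omega
      obtain ⟨s, hs⟩ := h8
      have hd : Cfsg.dotInt y (2 • z) = 2 * Cfsg.dotInt y z := by
        simp only [Cfsg.dotInt, Finset.mul_sum, Pi.smul_apply, nsmul_eq_mul]
        exact Finset.sum_congr rfl fun i _ => by push_cast; ring
      have hn : Cfsg.sqNorm (2 • z) = 4 * Cfsg.sqNorm z := by
        simp only [Cfsg.sqNorm, Finset.mul_sum, Pi.smul_apply, nsmul_eq_mul]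
        exact Finset.sum_congr rfl fun i _ => by push_cast; ring
      rw [hx, sqNorm_add, hd, hn, ht, hs]
      show (((Cfsg.sqNorm y + 2 * (2 * (8 * s)) + 4 * (16 * t)) / 16 : ℤ) : ZMod 2) = _
      rw [show (Cfsg.sqNorm y + 2 * (2 * (8 * s)) + 4 * (16 * t)) / 16 =
          Cfsg.sqNorm y / 16 + 2 * (s + 2 * t) by omega]
      push_cast
      rw [show (2 : ZMod 2) = 0 from by decide, zero_mul, add_zero]
  have norms : ∀ y : ↥Cfsg.leechLattice, Cfsg.sqNorm (y : Cfsg.GolayPt → ℤ) ≤ 64 →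
      y = 0 ∨ Cfsg.sqNorm (y : Cfsg.GolayPt → ℤ) = 32 ∨ Cfsg.sqNorm (y : Cfsg.GolayPt → ℤ) = 48 ∨
        Cfsg.sqNorm (y : Cfsg.GolayPt → ℤ) = 64 := by
    intro y hy
    by_cases h : (y : Cfsg.GolayPt → ℤ) = 0
    · exact Or.inl (Subtype.ext h)
    · have h1 := leech_min_norm y.2 h
      have h2 := leech_even y.2
      omega
  have v48 : Cfsg.sqNorm ((tU + tW2 : ↥Cfsg.leechLattice) : Cfsg.GolayPt → ℤ) = 48 := by
    decide +kernel
  have v64 : Cfsg.sqNorm ((tV0 + tW1 : ↥Cfsg.leechLattice) : Cfsg.GolayPt → ℤ) = 64 := by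
    decide +kernel
  have hb : Q (tU + tW2) = 1 := by
    rcases z2 (Q (tU + tW2)) with e | e
    · exfalso
      obtain ⟨x, hx⟩ := hne
      obtain ⟨y, hyn, hxy, -⟩ := red x
      apply hx
      rw [hxy]
      rcases norms y hyn with h | h | h | h
      · rw [h, hQ0]
      · rw [e32 y h, ha]
      · rw [orb 48 (Or.inr (Or.inl rfl)) y _ h v48, e]
      · rw [orb 64 (Or.inr (Or.inr rfl)) y _ h v64, hc]
    · exact e
  obtain ⟨y, hyn, hxy, hn⟩ := red v
  rw [hxy, hn]
  rcases norms y hyn with h | h | h | h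
  · subst h; rw [hQ0]; simp [Cfsg.sqNorm]
  · rw [e32 y h, ha, h]; decide
  · rw [orb 48 (Or.inr (Or.inl rfl)) y _ h v48, hb, h]; decide
  · rw [orb 64 (Or.inr (Or.inr rfl)) y _ h v64, hc, h]; decide

end Cfsg.Agent.S5552
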