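import Cfsg.Statements.S5553
import Cfsg.Agent.Lib.Leech.Norm
import Cfsg.Agent.Lib.Leech.Gens

set_option autoImplicit false
open Cfsg

namespace Cfsg.Agent.S5553

open CfsgLib.Leech in
/-- The parity and bit class of a lattice vector. -/
noncomputable def classHom : ↥Cfsg.leechLattice →+
    ZMod 2 × (↥Cfsg.golayCode ⧸ Submodule.span (ZMod 2) {(⟨1, one_mem_golayCode⟩ : ↥Cfsg.golayCode)}) where
  toFun x := (((x : Cfsg.GolayPt → ℤ) none : ℤ), Submodule.Quotient.mk ⟨bits x, (mem_leech_iff.1 x.2).2.1⟩)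
  map_zero' := by
    refine Prod.ext (by simp) ?_
    show Submodule.Quotient.mk _ = 0
    rw [Submodule.Quotient.mk_eq_zero]
    have : (⟨bits ((0 : ↥Cfsg.leechLattice) : Cfsg.GolayPt → ℤ), (mem_leech_iff.1 (0 : ↥Cfsg.leechLattice).2).2.1⟩ :
        ↥Cfsg.golayCode) = 0 := Subtype.ext (funext fun i => by simp [bits, bit])
    rw [this]
    exact zero_mem _
  map_add' x y := by
    refine Prod.ext (by simp) ?_
    show Submodule.Quotient.mk _ = Submodule.Quotient.mk _ + Submodule.Quotient.mk _
    rw [← Submodule.Quotient.mk_add, Submodule.Quotient.eq, Submodule.mem_span_singleton]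
    refine ⟨(((x : Cfsg.GolayPt → ℤ) none % 2 * ((y : Cfsg.GolayPt → ℤ) none % 2) : ℤ) : ZMod 2),
      Subtype.ext ?_⟩
    have h := bits_add (x : Cfsg.GolayPt → ℤ) (y : Cfsg.GolayPt → ℤ) (mem_leech_iff.1 x.2).1
      (mem_leech_iff.1 y.2).1
    simp only [Submodule.coe_smul, Submodule.coe_add, AddSubgroup.coe_add, AddSubgroupClass.coe_sub]
    rw [h]
    funext i
    simp

/-- The Leech lattice of the definitions has an additive subgroup A containing twice the lattice, of index 2^12 in the lattice, all of whose vectors have squared length divisible by 32: the invariant quadratic form 'squared length over 16 modulo 2' on the lattice modulo twice the lattice (a 24-dimensional space over the field with two elements) vanishes on a 12-dimensional subspace, so it is of plus type. -/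
theorem result : ∃ A : AddSubgroup (Cfsg.GolayPt → ℤ), A ≤ Cfsg.leechLattice ∧ (∀ v ∈ Cfsg.leechLattice, (2 : ℤ) • v ∈ A) ∧ (A.addSubgroupOf Cfsg.leechLattice).index = 2 ^ 12 ∧ ∀ v ∈ A, (32 : ℤ) ∣ Cfsg.sqNorm v := by
  refine ⟨classHom.ker.map Cfsg.leechLattice.subtype, AddSubgroup.map_subtype_le _, ?_, ?_, ?_⟩
  · intro v hv
    refine ⟨(2 : ℤ) • ⟨v, hv⟩, ?_, rfl⟩
    rw [SetLike.mem_coe, AddMonoidHom.mem_ker, map_zsmul, two_zsmul]
    refine Prod.ext (CharTwo.add_self_eq_zero _) ?_
    exact ZModModule.add_self _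
  · rw [AddSubgroup.addSubgroupOf,
      AddSubgroup.comap_map_eq_self_of_injective (AddSubgroup.subtype_injective _),
      AddSubgroup.index_ker]
    have hsurj : Function.Surjective classHom := by
      rintro ⟨p, q⟩
      obtain ⟨⟨c, hc⟩, rfl⟩ := Submodule.Quotient.mk_surjective _ q
      have hodd : CfsgLib.Leech.leechGen 12 ∈ Cfsg.leechLattice := CfsgLib.Leech.leechGen_mem (by norm_num)
      have key : ∀ c' : Cfsg.GolayPt → ZMod 2, ∀ hc' : c' ∈ Cfsg.golayCode,
          ∃ a : ↥Cfsg.leechLattice, classHom a = (0, Submodule.Quotient.mk ⟨c', hc'⟩) := by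
        intro c' hc'
        obtain ⟨h, hh, h2, hb⟩ := CfsgLib.Leech.exists_even_mem_genSub hc'
        refine ⟨⟨h, CfsgLib.Leech.genSub_le hh⟩, Prod.ext ?_ ?_⟩
        · show ((h none : ℤ) : ZMod 2) = 0
          rw [ZMod.intCast_zmod_eq_zero_iff_dvd]
          have := h2 none
          push_cast
          omega
        · show Submodule.Quotient.mk _ = Submodule.Quotient.mk _
          congr 1
          exact Subtype.ext hb
      rcases CfsgLib.Leech.zmod_two_cases p with rfl | rfl
      · exact key c hc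
      · obtain ⟨a, ha⟩ := key (c - CfsgLib.Leech.bits (CfsgLib.Leech.leechGen 12))
          (sub_mem hc (CfsgLib.Leech.mem_leech_iff.1 hodd).2.1)
        refine ⟨a + ⟨_, hodd⟩, ?_⟩
        rw [map_add, ha]
        refine Prod.ext (show (0 : ZMod 2) + ((CfsgLib.Leech.leechGen 12 none : ℤ) : ZMod 2) = 1 by decide) ?_
        show Submodule.Quotient.mk _ + Submodule.Quotient.mk _ = Submodule.Quotient.mk _
        rw [← Submodule.Quotient.mk_add]
        congr 1
        exact Subtype.ext (sub_add_cancel _ _)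
    rw [AddMonoidHom.range_eq_top.2 hsurj, AddSubgroup.card_top, Nat.card_prod, Nat.card_zmod]
    have hcq := Submodule.card_eq_card_quotient_mul_card
      (Submodule.span (ZMod 2) {(⟨1, CfsgLib.Leech.one_mem_golayCode⟩ : ↥Cfsg.golayCode)})
    rw [CfsgLib.Golay.card_golay, Module.natCard_eq_pow_finrank (K := ZMod 2)
      (V := ↥(Submodule.span (ZMod 2) {(⟨1, CfsgLib.Leech.one_mem_golayCode⟩ : ↥Cfsg.golayCode)})),
      finrank_span_singleton (fun h => by
        have := congrFun (congrArg Subtype.val h) none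
        simp at this), Nat.card_zmod] at hcq
    omega
  · rintro v ⟨⟨v, hv⟩, hk, rfl⟩
    rw [SetLike.mem_coe, AddMonoidHom.mem_ker] at hk
    have hk1 : ((v none : ℤ) : ZMod 2) = 0 := congrArg Prod.fst hk
    have hk2 : Submodule.Quotient.mk _ = 0 := congrArg Prod.snd hk
    rw [Submodule.Quotient.mk_eq_zero, Submodule.mem_span_singleton] at hk2
    obtain ⟨a, ha⟩ := hk2
    have ha' : ∀ i, CfsgLib.Leech.bit (v i) = a := fun i => by
      have := congrFun (congrArg Subtype.val ha) i
      simpa [CfsgLib.Leech.bits] using this.symm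
    have hL := CfsgLib.Leech.mem_leech_iff.1 hv
    have hp0 : v none % 2 = 0 := by
      rw [ZMod.intCast_zmod_eq_zero_iff_dvd] at hk1
      push_cast at hk1
      omega
    obtain ⟨r, hr, hmod⟩ : ∃ r : ℤ, (r = 0 ∨ r = 2) ∧ ∀ i, v i % 4 = r := by
      refine ⟨v none % 4, by omega, fun i => ?_⟩
      have h1 := hL.1 i
      have h2 := (ha' i).trans (ha' none).symm
      simp only [CfsgLib.Leech.bit] at h2
      rw [ZMod.intCast_eq_intCast_iff] at h2
      simp only [Int.ModEq, Nat.cast_ofNat] at h2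
      omega
    show (32 : ℤ) ∣ Cfsg.sqNorm v
    have hs := hL.2.2
    obtain ⟨k, hk'⟩ : ∃ k : Cfsg.GolayPt → ℤ, ∀ i, v i = 4 * k i + r :=
      ⟨fun i => v i / 4, fun i => show v i = 4 * (v i / 4) + r by have := hmod i; omega⟩
    have hsum : ∑ i, v i = 4 * ∑ i, k i + 24 * r := by
      rw [← CfsgLib.Leech.sum_card_const, Finset.mul_sum, ← Finset.sum_add_distrib]
      exact Finset.sum_congr rfl fun i _ => hk' i
    have hnorm : Cfsg.sqNorm v = 16 * ∑ i, k i ^ 2 + 8 * r * ∑ i, k i + 24 * r ^ 2 := by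
      rw [← CfsgLib.Leech.sum_card_const, Cfsg.sqNorm, Finset.mul_sum, Finset.mul_sum,
        ← Finset.sum_add_distrib, ← Finset.sum_add_distrib]
      exact Finset.sum_congr rfl fun i _ => by rw [hk' i]; ring
    have hpar : (∑ i, k i ^ 2) % 2 = (∑ i, k i) % 2 := by
      rw [Finset.sum_int_mod, Finset.sum_int_mod (f := k)]
      refine congrArg (· % 2) (Finset.sum_congr rfl fun i _ => ?_)
      rw [pow_two, Int.mul_emod]
      rcases Int.emod_two_eq_zero_or_one (k i) with h | h <;> rw [h] <;> rfl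
    have hn := hk' none
    rcases hr with rfl | rfl <;> rw [hsum, hn] at hs <;> rw [hnorm] <;> omega

end Cfsg.Agent.S5553
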