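import Cfsg.Statements.S5555
import Cfsg.Agent.Lib.Sporadic.ThreeGen
import Cfsg.Agent.Lib.Sporadic.SUThreeTwo

set_option autoImplicit false
open Cfsg

namespace Cfsg.Agent.S5555

theorem cube_of_image {G X : Type*} [Group G] [Group X] (π : G →* X) {x y : G}
    (h : (x * y) ^ 2 = 1 ∨ (x * y) ^ 3 = 1) (h1 : π x * π y ≠ 1) (h3 : (π x * π y) ^ 3 = 1) :
    (x * y) ^ 3 = 1 := by
  rcases h with h2 | h3'
  · exfalso
    have h2' : (π x * π y) ^ 2 = 1 := by rw [← map_mul, ← map_pow, h2, map_one]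
    rw [pow_succ, h2', one_mul] at h3
    exact h1 h3
  · exact h3'

theorem complement_of_map {G X : Type*} [Group G] [Finite G] [Group X] [Finite X] {D : Set G}
    (hD : Cfsg.IsThreeTranspositionClass D) {V : Subgroup G} (π : G →* X)
    (hsurj : Function.Surjective π) (hker : π.ker = V) (d₀ a₀ b₀ : X)
    (hR₀ : CfsgLib.ThreeGen.Rel d₀ a₀ b₀) (hd₀ : d₀ ≠ 1) (hab₀ : a₀ * b₀ ≠ b₀ * a₀)
    (htop₀ : Subgroup.closure ({d₀, a₀, b₀} : Set X) = ⊤) (hc54 : Nat.card X = 54) :
    ∃ K : Subgroup G, V.IsComplement' K := by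
  classical
  have : Fact (Nat.Prime 2) := ⟨Nat.prime_two⟩
  obtain ⟨⟨hord, hprod⟩, ⟨e₀, he₀, hcls⟩, hgen⟩ := hD
  -- all involutions of `X` are conjugate
  have hconjX : ∀ x y : X, orderOf x = 2 → orderOf y = 2 → ∃ g : X, g * x * g⁻¹ = y := by
    intro x y hx hy
    have hf : 2 ^ (Nat.card X).factorization 2 = 2 := by
      rw [hc54, show (54 : ℕ) = 2 ^ 1 * 27 from rfl, Nat.factorization_mul (by norm_num) (by norm_num),
        Finsupp.add_apply, Nat.Prime.factorization_pow Nat.prime_two, Finsupp.single_eq_same,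
        Nat.factorization_eq_zero_of_not_dvd (by norm_num : ¬ 2 ∣ 27)]
      norm_num
    let Sx : Sylow 2 X := Sylow.ofCard (Subgroup.zpowers x) (by rw [Nat.card_zpowers, hx, hf])
    let Sy : Sylow 2 X := Sylow.ofCard (Subgroup.zpowers y) (by rw [Nat.card_zpowers, hy, hf])
    obtain ⟨g, hg⟩ := MulAction.exists_smul_eq X Sx Sy
    refine ⟨g, ?_⟩
    have hmem : g * x * g⁻¹ ∈ Subgroup.zpowers y := by
      have : (Sy : Subgroup X) = (Sx : Subgroup X).map (MulAut.conj g).toMonoidHom := by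
        rw [← hg]; rfl
      have hSy : (Sy : Subgroup X) = Subgroup.zpowers y := rfl
      rw [← hSy, this]
      exact ⟨x, Subgroup.mem_zpowers x, rfl⟩
    obtain ⟨k, hk⟩ := Subgroup.mem_zpowers_iff.1 hmem
    have hy2 : y ^ 2 = 1 := hy ▸ pow_orderOf_eq_one y
    rcases Int.even_or_odd k with ⟨m, rfl⟩ | ⟨m, rfl⟩
    · exfalso
      rw [← two_mul, zpow_mul, zpow_ofNat, hy2, one_zpow, eq_comm, mul_inv_eq_one, mul_eq_left] at hk
      rw [hk, orderOf_one] at hx
      norm_num at hx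
    · rw [← hk, zpow_add, zpow_mul, zpow_ofNat, hy2, one_zpow, one_mul, zpow_one]
  have hpe : orderOf (π e₀) = 2 := by
    refine orderOf_eq_prime ?_ ?_
    · rw [← map_pow, ← hord e₀ he₀, pow_orderOf_eq_one, map_one]
    · intro h1
      have : ∀ g, π g = 1 := by
        intro g
        have hg : g ∈ Subgroup.closure D := hgen ▸ Subgroup.mem_top g
        induction hg using Subgroup.closure_induction with
        | mem z hz =>
          rw [hcls, conjugatesOf, Set.mem_setOf_eq, isConj_iff] at hz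
          obtain ⟨c, rfl⟩ := hz
          simp [h1]
        | one => exact map_one _
        | mul u v _ _ hu hv => simp [hu, hv]
        | inv u _ hu => simp [hu]
      obtain ⟨g, hg⟩ := hsurj d₀
      exact hd₀ (by rw [← hg]; exact this g)
  have lift : ∀ x : X, orderOf x = 2 → ∃ e ∈ D, π e = x := by
    intro x hx
    obtain ⟨c, hc⟩ := hconjX (π e₀) x hpe hx
    obtain ⟨g, rfl⟩ := hsurj c
    refine ⟨g * e₀ * g⁻¹, ?_, by simpa using hc⟩
    rw [hcls, conjugatesOf, Set.mem_setOf_eq, isConj_iff]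
    exact ⟨g, rfl⟩
  have inv_of : ∀ x : X, x * x = 1 → x ≠ 1 → orderOf x = 2 := fun x h1 h2 =>
    orderOf_eq_prime (by rw [pow_two]; exact h1) h2
  have hA : a₀ ≠ 1 := fun h => hab₀ (by simp [h])
  have hB : b₀ ≠ 1 := fun h => hab₀ (by simp [h])
  have hda : d₀ * a₀ * (d₀ * a₀) = 1 := by
    rw [← mul_assoc, hR₀.dad, mul_assoc (a₀ * a₀) d₀ d₀, hR₀.dd, mul_one, hR₀.aaa]
  have hdb : d₀ * b₀ * (d₀ * b₀) = 1 := by
    rw [← mul_assoc, hR₀.dbd, mul_assoc (b₀ * b₀) d₀ d₀, hR₀.dd, mul_one, hR₀.bbb]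
  have notb : ∀ x : X, x * x * x = 1 → d₀ * x ≠ 1 := by
    intro x hx h
    have hxd : x = d₀ := by rw [← one_mul x, ← hR₀.dd, mul_assoc, h, mul_one]
    rw [hxd, hR₀.dd, one_mul] at hx
    exact hd₀ hx
  obtain ⟨d, hdD, hd⟩ := lift d₀ (inv_of _ hR₀.dd hd₀)
  obtain ⟨e, heD, he⟩ := lift (d₀ * a₀) (inv_of _ hda (notb _ hR₀.aaa))
  obtain ⟨f, hfD, hf⟩ := lift (d₀ * b₀) (inv_of _ hdb (notb _ hR₀.bbb))
  have sq : ∀ x ∈ D, x * x = 1 := fun x hx => by
    rw [← pow_two, ← hord x hx, pow_orderOf_eq_one]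
  have i1 : π d * π e = a₀ := by rw [hd, he, ← mul_assoc, hR₀.dd, one_mul]
  have i2 : π d * π f = b₀ := by rw [hd, hf, ← mul_assoc, hR₀.dd, one_mul]
  have i3 : π e * π f = a₀ * a₀ * b₀ := by
    rw [he, hf, ← mul_assoc, hR₀.dad, mul_assoc (a₀ * a₀) d₀ d₀, hR₀.dd, mul_one]
  have p3 : ∀ x : X, x ^ 3 = x * x * x := fun x => by rw [pow_succ, pow_two]
  have hnab : a₀ * a₀ * b₀ ≠ 1 := by
    intro h
    refine hab₀ ?_
    have : b₀ = a₀ := by
      rw [← one_mul b₀, ← hR₀.aaa, mul_assoc, mul_assoc]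
      conv_lhs => rw [show a₀ * (a₀ * b₀) = 1 from by rw [← mul_assoc]; exact h]
      rw [mul_one]
    rw [this]
  have hded : d * e * d ∈ D := by
    rw [hcls, conjugatesOf, Set.mem_setOf_eq, isConj_iff] at heD ⊢
    obtain ⟨c, rfl⟩ := heD
    refine ⟨d * c, ?_⟩
    rw [mul_inv_rev, inv_eq_of_mul_eq_one_left (sq d hdD)]
    group
  have i4 : π (d * e * d) * π f = a₀ * b₀ := by
    rw [map_mul, map_mul, i1, mul_assoc, i2]
  have hnab' : a₀ * b₀ ≠ 1 := fun h => hab₀ (by
    rw [eq_inv_of_mul_eq_one_right h]; simp)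
  have hR := CfsgLib.ThreeGen.rel_of_involutions (sq d hdD) (sq e heD) (sq f hfD)
    (cube_of_image π (hprod d hdD e heD) (by rw [i1]; exact hA) (by rw [i1, p3]; exact hR₀.aaa))
    (cube_of_image π (hprod d hdD f hfD) (by rw [i2]; exact hB) (by rw [i2, p3]; exact hR₀.bbb))
    (cube_of_image π (hprod e heD f hfD) (by rw [i3]; exact hnab)
      (by rw [i3, p3]; exact hR₀.aabaab))
    (by
      rw [← mul_assoc (d * e) d f]
      exact cube_of_image π (hprod _ hded f hfD) (by rw [i4]; exact hnab')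
        (by rw [i4, p3]; exact hR₀.abab))
  set K := Subgroup.closure ({d, d * e, d * f} : Set G) with hK
  refine ⟨K, Subgroup.IsComplement'.symm ?_⟩
  have hmap : K.map π = ⊤ := by
    rw [hK, MonoidHom.map_closure, Set.image_insert_eq, Set.image_insert_eq, Set.image_singleton,
      map_mul, map_mul, i1, i2, hd, htop₀]
  have hKle : Nat.card K ≤ 54 := hR.card_le
  have hsurjK : Function.Surjective (π.comp K.subtype) := by
    intro x
    have hx : x ∈ K.map π := hmap ▸ Subgroup.mem_top x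
    obtain ⟨k, hk, rfl⟩ := hx
    exact ⟨⟨k, hk⟩, rfl⟩
  have hKcard : Nat.card K = 54 :=
    le_antisymm hKle (hc54 ▸ Nat.card_le_card_of_surjective _ hsurjK)
  have hbij := (Nat.bijective_iff_surjective_and_card (π.comp K.subtype)).2
    ⟨hsurjK, by rw [hKcard, hc54]⟩
  refine Subgroup.isComplement'_of_card_mul_and_disjoint ?_ ?_
  · have hGV : Nat.card (G ⧸ V) = 54 := by rw [← hker, Nat.card_congr (QuotientGroup.quotientKerEquivOfSurjective π hsurj).toEquiv, hc54]
    rw [hKcard, V.card_eq_card_quotient_mul_card_subgroup, hGV]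
  · rw [disjoint_iff, eq_bot_iff]
    rintro x ⟨hxK, hxV⟩
    have : π.comp K.subtype ⟨x, hxK⟩ = π.comp K.subtype 1 := by
      have : π x = 1 := by rw [← MonoidHom.mem_ker, hker]; exact hxV
      simpa using this
    simpa using congrArg Subtype.val (hbij.1 this)

/-- Let G be a finite group generated by a conjugacy class D of 3-transpositions, with trivial centre and with generalized Fitting subgroup F*(G) = O₂(G) (so the Fitting subgroup is O₂(G) too). If G/O₂(G) is isomorphic to the derived group of SU₃(2) (the group of order 54 generated by nine 3-transpositions), then O₂(G) has a complement in G. -/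
theorem result {G : Type*} [Group G] [Finite G] {D : Set G} (hD : Cfsg.IsThreeTranspositionClass D)
    (hZ : Subgroup.center G = ⊥) (hF : Cfsg.generalizedFittingSubgroup G = Cfsg.pCore 2 G)
    (hq : ∃ (F : Type) (_ : Field F) (_ : Fintype F), Fintype.card F = 4 ∧ Nonempty (G ⧸ Cfsg.pCore 2 G ≃* ↥(commutator ↥(Cfsg.SU 3 F 2)))) :
    ∃ K : Subgroup G, (Cfsg.pCore 2 G).IsComplement' K := by
  obtain ⟨F, _, _, hF4, ⟨ψ⟩⟩ := hq
  obtain ⟨d₀, a₀, b₀, hR₀, hd₀, hab₀, htop₀, hc54⟩ := CfsgLib.SUThreeTwo.exists_commutator_gens hF4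
  have : Finite ↥(commutator ↥(Cfsg.SU 3 F 2)) :=
    Nat.finite_of_card_ne_zero (by rw [hc54]; norm_num)
  exact complement_of_map hD (ψ.toMonoidHom.comp (QuotientGroup.mk' (Cfsg.pCore 2 G)))
    (ψ.surjective.comp (QuotientGroup.mk'_surjective _)) (by ext x; simp) d₀ a₀ b₀ hR₀ hd₀ hab₀
    htop₀ hc54

end Cfsg.Agent.S5555
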