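import Cfsg.Statements.S5556
import Cfsg.Agent.Lib.ThreeTranspUnitary.Main
import Cfsg.Agent.Lib.ThreeTranspUnitary.Cover
import Cfsg.Agent.Lib.ThreeTranspUnitary.SylowLift
import Cfsg.Agent.Lib.Solvable.Core
import Cfsg.Agent.Lib.Solvable.Gaschutz

set_option autoImplicit false
open Cfsg

namespace Cfsg.Agent.S5556
open CfsgLib.Classical.Herm CfsgLib.ThreeTranspUnitary


/-- Let G be a finite group generated by a conjugacy class D of 3-transpositions, with trivial centre and with generalized Fitting subgroup F*(G) = O₂(G) (so the Fitting subgroup is O₂(G) too). If G/O₂(G) is isomorphic to SU₅(2), then O₂(G) is elementary abelian and has a complement in G. -/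
theorem result {G : Type*} [Group G] [Finite G] {D : Set G} (hD : Cfsg.IsThreeTranspositionClass D)
    (hZ : Subgroup.center G = ⊥) (hF : Cfsg.generalizedFittingSubgroup G = Cfsg.pCore 2 G)
    (hq : ∃ (F : Type) (_ : Field F) (_ : Fintype F), Fintype.card F = 4 ∧ Nonempty (G ⧸ Cfsg.pCore 2 G ≃* ↥(Cfsg.SU 5 F 2))) :
    Cfsg.IsElementaryAbelian 2 (Cfsg.pCore 2 G) ∧ ∃ K : Subgroup G, (Cfsg.pCore 2 G).IsComplement' K := by
  obtain ⟨F, _, _, hc, ⟨e⟩⟩ := hq
  have hF' : Fintype.card F = 2 ^ 2 := hc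
  let ψ := e.trans (suEquiv hF' 5)
  let π : G →* SFive hF' := ψ.toMonoidHom.comp (QuotientGroup.mk' (Cfsg.pCore 2 G))
  have hker : π.ker = Cfsg.pCore 2 G := by
    show (ψ.toMonoidHom.comp (QuotientGroup.mk' (Cfsg.pCore 2 G))).ker = _
    ext x
    simp [MonoidHom.mem_ker]
  have : Fact (Nat.Prime 2) := ⟨Nat.prime_two⟩
  have hp : IsPGroup 2 π.ker := by
    rw [hker]; exact CfsgLib.Solvable.pCore_isPGroup _ G
  have hsurj : Function.Surjective π := ψ.surjective.comp (QuotientGroup.mk'_surjective _)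
  have hel : Cfsg.IsElementaryAbelian 2 π.ker :=
    ker_elementary_of_unitary hF' (le_refl 5) hD π hsurj hp hZ
      (noDoubleCover_of_noExt (noExt_five_two hF'))
  rw [← hker]
  refine ⟨hel, ?_⟩
  obtain ⟨htv, hmem, hgen⟩ := image_facts hF' (le_refl 5) hD π hsurj
  obtain ⟨W, -, hw⟩ := exists_cube_root hF'
  obtain ⟨A, hA, hle⟩ := exists_sylow_lift hw ⟨hD, hsurj, hel, hZ, hgen⟩ htv hmem
  have : IsMulCommutative π.ker := hel.1
  refine CfsgLib.Solvable.exists_isComplement'_of_le (U := π.ker ⊔ A) le_sup_left ?_ hA rfl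
  have hfin : Finite (SFive hF') := Finite.of_surjective π hsurj
  -- the index is odd
  set K := (twoGrp hF').subgroupOf (SFive hF') with hK
  have hU : K.comap π ≤ π.ker ⊔ A := by
    intro g hg
    obtain ⟨a, ha, hga⟩ := hle hg
    rw [show g = g * a⁻¹ * a by group]
    exact mul_mem (Subgroup.mem_sup_left (show π (g * a⁻¹) = 1 by rw [map_mul, map_inv, hga, mul_inv_cancel]))
      (Subgroup.mem_sup_right ha)
  have hidx : (π.ker ⊔ A).index ∣ 13365 := by
    refine (Subgroup.index_dvd_of_le hU).trans ?_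
    rw [Subgroup.index_comap_of_surjective _ hsurj]
    have h1 := K.card_mul_index
    have h2 : Nat.card K = Nat.card (twoGrp hF') :=
      Nat.card_congr (Subgroup.subgroupOfEquivOfLe (twoGrp_le_SG hF')).toEquiv
    have h3 := card_twoGrp hF'
    rw [show Nat.card (CfsgLib.PSUCover.SG (stdHerm hF' 5)) = Nat.card K * K.index from h1.symm, ← h2,
      mul_comm (Nat.card K)] at h3
    exact Nat.dvd_of_mul_dvd_mul_right Nat.card_pos h3
  obtain ⟨k, hk⟩ := hp.exists_card_eq
  rw [hk]
  exact (Nat.Coprime.coprime_dvd_right hidx (Nat.Coprime.pow_left k (by norm_num)))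

end Cfsg.Agent.S5556
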