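import Cfsg.Statements.S5557
import Cfsg.Agent.Lib.ThreeTranspUnitary.Main
import Cfsg.Agent.Lib.ThreeTranspUnitary.Cover
import Cfsg.Agent.Lib.ThreeTranspUnitary.FiveTwo
import Cfsg.Agent.Lib.PSUCover.Seven
import Cfsg.Agent.Lib.Solvable.Core

set_option autoImplicit false
open Cfsg

namespace Cfsg.Agent.S5557
open CfsgLib.Classical.Herm CfsgLib.ThreeTranspUnitary


/-- Let G be a finite group generated by a conjugacy class D of 3-transpositions, with trivial centre and with generalized Fitting subgroup F*(G) = O₂(G) (so the Fitting subgroup is O₂(G) too). If G/O₂(G) is isomorphic to SU₇(2), then O₂(G) is elementary abelian. No complement is asserted. -/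
theorem result {G : Type*} [Group G] [Finite G] {D : Set G} (hD : Cfsg.IsThreeTranspositionClass D)
    (hZ : Subgroup.center G = ⊥) (hF : Cfsg.generalizedFittingSubgroup G = Cfsg.pCore 2 G)
    (hq : ∃ (F : Type) (_ : Field F) (_ : Fintype F), Fintype.card F = 4 ∧ Nonempty (G ⧸ Cfsg.pCore 2 G ≃* ↥(Cfsg.SU 7 F 2))) :
    Cfsg.IsElementaryAbelian 2 (Cfsg.pCore 2 G) := by
  obtain ⟨F, _, _, hc, ⟨e⟩⟩ := hq
  have hF' : Fintype.card F = 2 ^ 2 := hc
  let ψ := e.trans (suEquiv hF' 7)
  let π : G →* (detHom (stdHerm hF' 7)).ker :=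
    ψ.toMonoidHom.comp (QuotientGroup.mk' (Cfsg.pCore 2 G))
  have hker : π.ker = Cfsg.pCore 2 G := by
    show (ψ.toMonoidHom.comp (QuotientGroup.mk' (Cfsg.pCore 2 G))).ker = _
    ext x
    simp [MonoidHom.mem_ker]
  haveI : Fact (Nat.Prime 2) := ⟨Nat.prime_two⟩
  rw [← hker]
  refine ker_elementary_of_unitary hF' (by norm_num) hD π
    (ψ.surjective.comp (QuotientGroup.mk'_surjective _)) ?_ hZ
    (noDoubleCover_of_noExt (CfsgLib.PSUCover.noExt_seven hF' (noExt_five_two hF')))
  rw [hker]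
  exact CfsgLib.Solvable.pCore_isPGroup _ G

end Cfsg.Agent.S5557
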