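import Cfsg.Statements.S5558
import Cfsg.Statements.S5558
import Cfsg.Agent.S5349
import Cfsg.Agent.Lib.ThreeTransp.CoreAction
import Cfsg.Agent.Lib.Components.GenFitting

set_option autoImplicit false
open Cfsg

namespace Cfsg.Agent.S5558
open Subgroup CfsgLib.ThreeTransp CfsgLib.ThreeTransp.Quad
open scoped IsMulCommutative

section Translate

variable {G : Type*} [Group G] [Finite G] (V : Subgroup G) [V.Normal] [IsMulCommutative V]
  (hexp : ∀ v ∈ V, v * v = 1) (hV : V = Cfsg.pCore 2 G) {D E : Set G}
  (hD : Cfsg.IsThreeTranspositionClass D) (hE : Cfsg.IsThreeTranspositionClass E)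
  (hE2 : ∃ a ∈ E, ∃ b ∈ E, a ≠ b)

/-- The vectors carrying a member `d` of one class into the other. -/
def Shift (E : Set G) (d : G) : Set (Additive V) := {u | d * emb V u ∈ E}

/-- The projection on the fixed space of the group of order 6 given by two members. -/
noncomputable def proj (d f : G) : AddMonoid.End (Additive V) :=
  1 + nil (act V) d * nil (act V) f + nil (act V) f * nil (act V) d

theorem proj_comm (d f : G) : proj V d f = proj V f d := by
  rw [proj, proj, add_right_comm]

include hE in
theorem shift_conj {d : G} {u : Additive V} (g : G) (hu : u ∈ Shift V E d) :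
    act V g u ∈ Shift V E (g * d * g⁻¹) := by
  show g * d * g⁻¹ * emb V (act V g u) ∈ E
  rw [emb_act, show g * d * g⁻¹ * (g * emb V u * g⁻¹) = g * (d * emb V u) * g⁻¹ by group]
  exact class_conj_mem hE g hu

include hexp hD hE in
theorem nil_shift {d : G} (hd : d ∈ D) {u : Additive V} (hu : u ∈ Shift V E d) :
    nil (act V) d u = 0 := by
  refine emb_inj V ?_
  rw [emb_nil, emb_zero, inv_eq_self (hD.1.1 d hd)]
  have h := mul_self_eq_one (hE.1.1 _ hu)
  rw [← h]; group

include hexp hV hD hE hE2 in
theorem shift_diff {d : G} (hd : d ∈ D) {u u' : Additive V} (hu : u ∈ Shift V E d)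
    (hu' : u' ∈ Shift V E d) : ∃ y, u' = u + nil (act V) d y := by
  obtain ⟨h1, h2⟩ := Cfsg.Agent.S5349.result hE hE2 hu
  have hm : d * emb V u' ∈ {v : G | v ∈ E ∧ (d * emb V u)⁻¹ * v ∈ Cfsg.pCore 2 G} := by
    refine ⟨hu', ?_⟩
    rw [← hV, show (d * emb V u)⁻¹ * (d * emb V u') = (emb V u)⁻¹ * emb V u' by group]
    exact mul_mem (inv_mem (emb_mem V u)) (emb_mem V u')
  rw [← h1, h2] at hm
  obtain ⟨g, hg, hgu⟩ := hm
  rw [← hV] at hg
  refine ⟨Additive.ofMul ⟨g, hg⟩, ?_⟩
  set y : Additive V := Additive.ofMul ⟨g, hg⟩ with hy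
  have hyg : emb V y = g := rfl
  have hdi := inv_eq_self (hD.1.1 d hd)
  have hgi : g⁻¹ = g := inv_eq_of_mul_eq_one_right (hexp g hg)
  have h3 : u' = act V d y + u + y := by
    refine emb_inj V ?_
    rw [emb_add, emb_add, emb_act, hyg]
    calc emb V u' = d⁻¹ * (d * emb V u') := by group
      _ = _ := by rw [hgu, hgi, hdi]; group
  rw [h3]
  show act V d y + u + y = u + (act V d y + y)
  abel

include hexp hV hD in
theorem adj' {d f : G} (hd : d ∈ D) (hf : f ∈ D) (h : ¬ Commute d f) :
    nil (act V) d * nil (act V) f * nil (act V) d = nil (act V) d :=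
  nil_mul_nil_mul_nil V hexp hD hV hd hf h

include hexp hD in
theorem sq' {d : G} (hd : d ∈ D) : nil (act V) d * nil (act V) d = 0 :=
  nil_sq (end_add_self V hexp) (mul_self_eq_one (hD.1.1 d hd))

include hexp hV hD in
theorem proj_nil {d f : G} (hd : d ∈ D) (hf : f ∈ D) (h : ¬ Commute d f) :
    proj V d f * nil (act V) d = 0 := by
  rw [proj, add_mul, add_mul, one_mul, adj' V hexp hV hD hd hf h, mul_assoc (nil (act V) f),
    sq' V hexp hD hd, mul_zero, add_zero, end_add_self V hexp]

include hexp hV hD in
theorem nil_proj {d f : G} (hd : d ∈ D) (hf : f ∈ D) (h : ¬ Commute d f) :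
    nil (act V) d * proj V d f = 0 := by
  rw [proj, mul_add, mul_add, mul_one, ← mul_assoc, sq' V hexp hD hd, zero_mul, add_zero, ← mul_assoc,
    adj' V hexp hV hD hd hf h, end_add_self V hexp]

include hexp hV hD in
theorem proj_nil_conj {d f : G} (hd : d ∈ D) (hf : f ∈ D) (h : ¬ Commute d f) :
    proj V d f * nil (act V) (d * f * d) = 0 := by
  have ha := proj_nil V hexp hV hD hd hf h
  have hb := proj_nil V hexp hV hD hf hd fun h' => h h'.symm
  rw [proj_comm] at hb
  rw [nil_conj' (end_add_self V hexp) (mul_self_eq_one (hD.1.1 d hd)), adj' V hexp hV hD hd hf h]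
  simp only [mul_add, ← mul_assoc, ha, hb, zero_mul, add_zero]

include hexp hV hD in
theorem proj_act {d f : G} (hd : d ∈ D) (hf : f ∈ D) (h : ¬ Commute d f) :
    proj V d f * act V d = proj V d f := by
  rw [pi_eq (end_add_self V hexp) d, mul_add, mul_one, proj_nil V hexp hV hD hd hf h, add_zero]

include hexp hV hD in
theorem proj_conj_eq {d f : G} (hd : d ∈ D) (hf : f ∈ D) (h : ¬ Commute d f) :
    proj V d (d * f * d) = proj V d f := by
  rw [proj, proj, nil_conj' (end_add_self V hexp) (mul_self_eq_one (hD.1.1 d hd)),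
    adj' V hexp hV hD hd hf h]
  have hs := sq' V hexp hD hd
  have hadj := adj' V hexp hV hD hd hf h
  set α := nil (act V) d
  set β := nil (act V) f
  simp only [mul_add, add_mul, ← mul_assoc, hs, hadj, zero_mul, zero_add, add_zero]
  rw [mul_assoc β α α, hs, mul_zero, add_zero]
  calc 1 + (α * β + α) + (β * α + α) = 1 + α * β + β * α + (α + α) := by abel
    _ = _ := by rw [end_add_self V hexp, add_zero]

include hexp hV hD hE hE2 in
theorem proj_shift_eq {d f : G} (hd : d ∈ D) (hf : f ∈ D) (h : ¬ Commute d f) {u v : Additive V}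
    (hu : u ∈ Shift V E d) (hv : v ∈ Shift V E f) : proj V d f u = proj V d f v := by
  have h' : ¬ Commute f d := fun h' => h h'.symm
  have hdi := inv_eq_self (hD.1.1 d hd)
  have hfi := inv_eq_self (hD.1.1 f hf)
  have h1 : act V f u ∈ Shift V E (d * f * d) := by
    have := shift_conj V hE f hu
    rwa [hfi, ← CfsgLib.ThreeTransp.braid hD.1 hd hf h] at this
  have h2 : act V d v ∈ Shift V E (d * f * d) := by
    have := shift_conj V hE d hv
    rwa [hdi] at this
  obtain ⟨y, hy⟩ := shift_diff V hexp hV hD hE hE2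
    (by simpa [hdi] using class_conj_mem hD d hf) h1 h2
  have hv' : proj V d f (act V d v) = proj V d f v := by rw [← end_mul, proj_act V hexp hV hD hd hf h]
  have hu' : proj V d f (act V f u) = proj V d f u := by
    rw [← end_mul, proj_comm, proj_act V hexp hV hD hf hd h']
  rw [← hu', ← hv', hy, map_add, ← end_mul V (proj V d f) (nil (act V) _), proj_nil_conj V hexp hV hD hd hf h, end_zero, add_zero]

include hexp hV hD hE in
theorem proj_shift {d f : G} (hd : d ∈ D) (hf : f ∈ D) (h : ¬ Commute d f) {u : Additive V}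
    (hu : u ∈ Shift V E d) :
    proj V d f u = u + nil (act V) d (nil (act V) f u) := by
  rw [proj, end_add, end_add, end_one, end_mul, end_mul, nil_shift V hexp hD hE hd hu, map_zero, add_zero]

variable (hcent : centralizer (V : Set G) ≤ V) (hZ : center G = ⊥)
  (hshift : ∀ d ∈ D, (Shift V E d).Nonempty)

include hexp hV hD hE hE2 hcent hZ hshift in
theorem proj_eq_of_commute {d f h : G} (hd : d ∈ D) (hf : f ∈ D) (hh : h ∈ D) (hdf : ¬ Commute d f)
    (hdh : ¬ Commute d h) (hfh : Commute f h) {u : Additive V} (hu : u ∈ Shift V E d) :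
    proj V d f u = proj V d h u := by
  have hQ := isQuadClass V hexp hD hV hcent hZ
  obtain ⟨uf, huf⟩ := hshift f hf
  obtain ⟨uh, huh⟩ := hshift h hh
  -- the corresponding members of the other class commute
  have hcE : Commute (f * emb V uf) (h * emb V uh) := by
    refine commute_of_commute_mk V hE hV huf huh ?_
    simp only [QuotientGroup.mk_mul, (QuotientGroup.eq_one_iff _).2 (emb_mem V uf),
      (QuotientGroup.eq_one_iff _).2 (emb_mem V uh), mul_one]
    exact hfh.map (QuotientGroup.mk' V)
  have hfi := inv_eq_self (hD.1.1 f hf)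
  have hhi := inv_eq_self (hD.1.1 h hh)
  have he : act V h uf + uh = act V f uh + uf := by
    refine emb_inj V ?_
    rw [emb_add, emb_add, emb_act, emb_act]
    calc h * emb V uf * h⁻¹ * emb V uh = h * f * (f * emb V uf * (h * emb V uh)) := by
          rw [hhi]
          calc h * emb V uf * h * emb V uh = h * (f * f) * emb V uf * h * emb V uh := by
                rw [mul_self_eq_one (hD.1.1 f hf), mul_one]
            _ = _ := by group
      _ = f * h * (h * emb V uh * (f * emb V uf)) := by rw [hcE.eq, hfh.eq]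
      _ = f * (h * h) * emb V uh * f * emb V uf := by group
      _ = f * emb V uh * f⁻¹ * emb V uf := by rw [mul_self_eq_one (hD.1.1 h hh), mul_one, hfi]
  have hcross : nil (act V) f uh = nil (act V) h uf := by
    show act V f uh + uh = act V h uf + uf
    have h2' := vec_add_self V hexp
    calc act V f uh + uh = (act V f uh + uf) + (uh + uf) := by
          calc act V f uh + uh = act V f uh + uh + (uf + uf) := by rw [h2', add_zero]
            _ = _ := by abel
      _ = (act V h uf + uh) + (uh + uf) := by rw [he]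
      _ = act V h uf + uf + (uh + uh) := by abel
      _ = act V h uf + uf := by rw [h2', add_zero]
  have hdf' : ¬ Commute f d := fun h => hdf h.symm
  have hdh' : ¬ Commute h d := fun h => hdh h.symm
  have hpf : proj V d f u = proj V d f uf := proj_shift_eq V hexp hV hD hE hE2 hd hf hdf hu huf
  have hph : proj V d h u = proj V d h uh := proj_shift_eq V hexp hV hD hE hE2 hd hh hdh hu huh
  set s1 := proj V d f u with hs1
  set s2 := proj V d h u with hs2
  set y := nil (act V) f u + nil (act V) h u with hy
  set w := nil (act V) d y with hw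
  have hws : s1 + s2 = w := by
    rw [hs1, hs2, proj_shift V hexp hV hD hE hd hf hdf hu, proj_shift V hexp hV hD hE hd hh hdh hu,
      hw, hy, map_add]
    calc _ = (u + u) + (nil (act V) d (nil (act V) f u) + nil (act V) d (nil (act V) h u)) := by abel
      _ = _ := by rw [vec_add_self V hexp, zero_add]
  have hs1' : nil (act V) f s1 = 0 := by
    rw [hs1, ← end_mul, proj_comm, nil_proj V hexp hV hD hf hd hdf', end_zero]
  have hs2' : nil (act V) h s2 = 0 := by
    rw [hs2, ← end_mul, proj_comm, nil_proj V hexp hV hD hh hd hdh', end_zero]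
  have hfuh : nil (act V) f uh = nil (act V) f s2 := by
    rw [hph, proj_comm, proj_shift V hexp hV hD hE hh hd hdh' huh, map_add, ← end_mul (x := nil (act V) f),
      nil_mul_nil_eq_zero V hexp hD hV hf hh hfh, end_zero, add_zero]
  have hhuf : nil (act V) h uf = nil (act V) h s1 := by
    rw [hpf, proj_comm, proj_shift V hexp hV hD hE hf hd hdf' huf, map_add, ← end_mul (x := nil (act V) h),
      nil_mul_nil_eq_zero V hexp hD hV hh hf hfh.symm, end_zero, add_zero]
  have hfw : nil (act V) f w = nil (act V) f s2 := by rw [← hws, map_add, hs1', zero_add]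
  have hhw : nil (act V) h w = nil (act V) h s1 := by rw [← hws, map_add, hs2', add_zero]
  have heq : nil (act V) f w = nil (act V) h w := by rw [hfw, hhw, ← hfuh, ← hhuf, hcross]
  by_cases hx : nil (act V) f w = 0
  · have hw0 : w = 0 := by
      rw [hw, ← adj' V hexp hV hD hd hf hdf, end_mul, end_mul, ← hw, hx, map_zero]
    refine eq_of_sub_eq_zero ?_
    rw [sub_eq_add_neg, neg_eq_of_add_eq_zero_right (vec_add_self V hexp s2), hws, hw0]
  · -- otherwise the two members agree modulo the core
    have hmk : (f : G ⧸ V) = (h : G ⧸ V) := by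
      refine hQ.sep _ ⟨f, hf, rfl⟩ _ ⟨h, hh, rfl⟩ ?_
      rintro _ ⟨x, hx', rfl⟩
      have key : ∀ {a : G}, a ∈ D → nil (act V) a w = nil (act V) f w →
          (Commute (QuotientGroup.mk' V x) (QuotientGroup.mk' V a) ↔
            nil (act V) x (nil (act V) f w) = 0) := by
        intro a ha haw
        refine ⟨fun hc => ?_, fun h0 => ?_⟩
        · rw [← haw, ← end_mul,
            nil_mul_nil_eq_zero V hexp hD hV hx' ha (commute_of_commute_mk V hD hV hx' ha hc), end_zero]
        · by_contra hc
          have hax : ¬ Commute a x := fun h => hc (h.symm.map _)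
          apply hx
          rw [← haw, ← adj' V hexp hV hD ha hx' hax, end_mul, end_mul, haw, h0, map_zero]
      exact (key hf rfl).trans (key hh heq.symm).symm
    have : nil (act V) f = nil (act V) h := by
      show act V f + 1 = act V h + 1
      rw [← qact_mk V f, hmk, qact_mk]
    rw [hs1, hs2, proj, proj, this]

include hexp hV hD hE hE2 hcent hZ hshift in
/-- The projection of a shift does not depend on the chosen neighbour. -/
theorem proj_eq {d f h : G} (hd : d ∈ D) (hf : f ∈ D) (hh : h ∈ D) (hdf : ¬ Commute d f)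
    (hdh : ¬ Commute d h) {u : Additive V} (hu : u ∈ Shift V E d) :
    proj V d f u = proj V d h u := by
  have hdd := mul_self_eq_one (hD.1.1 d hd)
  have hdi := inv_eq_self (hD.1.1 d hd)
  by_cases hfh : Commute f h
  · exact proj_eq_of_commute V hexp hV hD hE hE2 hcent hZ hshift hd hf hh hdf hdh hfh hu
  set f' := d * f * d with hf'_def
  have hf' : f' ∈ D := by
    have := class_conj_mem hD d hf
    rwa [hdi] at this
  have hdf' : ¬ Commute d f' := by
    intro hc
    apply hdf
    have e1 : d * f' = f * d := by rw [hf'_def]; simp only [← mul_assoc, hdd, one_mul]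
    have e2 : f' * d = d * f := by rw [hf'_def]; simp only [mul_assoc, hdd, mul_one]
    exact ((e2.symm.trans hc.eq.symm).trans e1)
  by_cases hf'h : Commute f' h
  · rw [← proj_eq_of_commute V hexp hV hD hE hE2 hcent hZ hshift hd hf' hh hdf' hdh hf'h hu, hf'_def,
      proj_conj_eq V hexp hV hD hd hf hdf]
  obtain ⟨uf, huf⟩ := hshift f hf
  obtain ⟨uh, huh⟩ := hshift h hh
  have hdf0 : ¬ Commute f d := fun h => hdf h.symm
  have hdh0 : ¬ Commute h d := fun h => hdh h.symm
  have hfh0 : ¬ Commute h f := fun h => hfh h.symm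
  have hpf : proj V d f u = proj V d f uf := proj_shift_eq V hexp hV hD hE hE2 hd hf hdf hu huf
  have hph : proj V d h u = proj V d h uh := proj_shift_eq V hexp hV hD hE hE2 hd hh hdh hu huh
  have h3 : proj V f h uf = proj V f h uh := proj_shift_eq V hexp hV hD hE hE2 hf hh hfh huf huh
  have hadf := adj' V hexp hV hD hd hf hdf
  have hadh := adj' V hexp hV hD hd hh hdh
  have hafd := adj' V hexp hV hD hf hd hdf0
  have hahd := adj' V hexp hV hD hh hd hdh0
  have hahf := adj' V hexp hV hD hh hf hfh0
  have hahf' := adj' V hexp hV hD hh hf' (fun h => hf'h h.symm)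
  have hb2 := sq' V hexp hD hf
  have hc2 := sq' V hexp hD hh
  rw [hf'_def, nil_conj' (end_add_self V hexp) hdd, hadf] at hahf'
  set α := nil (act V) d with hα
  set β := nil (act V) f with hβ
  set η := nil (act V) h with hη
  set s1 := proj V d f u with hs1
  set s2 := proj V d h u with hs2
  set w := s1 + s2 with hw
  set p := β (α uf + η uf) with hp
  set q := η (α uh + β uh) with hq
  have hpq : p + q = w := by
    rw [hw, hpf, hph, proj_comm V d f, proj_comm V d h, proj_shift V hexp hV hD hE hf hd hdf0 huf,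
      proj_shift V hexp hV hD hE hh hd hdh0 huh, ← hα, ← hβ, ← hη]
    have e3 : uf + β (η uf) = uh + η (β uh) := by
      have := h3
      rwa [proj_shift V hexp hV hD hE hf hh hfh huf, proj_comm V f h,
        proj_shift V hexp hV hD hE hh hf hfh0 huh, ← hβ, ← hη] at this
    rw [hp, hq, map_add, map_add]
    calc β (α uf) + β (η uf) + (η (α uh) + η (β uh))
        = β (α uf) + η (α uh) + ((uf + β (η uf)) + η (β uh) + uf) + (0 : Additive V) := by
          rw [add_zero]
          calc _ = β (α uf) + η (α uh) + (β (η uf) + η (β uh)) + (0 : Additive V) := by abel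
            _ = β (α uf) + η (α uh) + (β (η uf) + η (β uh)) + (uf + uf) := by
              rw [vec_add_self V hexp]
            _ = _ := by abel
      _ = β (α uf) + η (α uh) + (uf + uh) + (η (β uh) + η (β uh)) := by rw [e3]; abel
      _ = _ := by rw [vec_add_self V hexp]; abel
  have hw0 : ∃ y, w = α y := by
    refine ⟨β u + η u, ?_⟩
    rw [hw, hs1, hs2, proj_shift V hexp hV hD hE hd hf hdf hu, proj_shift V hexp hV hD hE hd hh hdh hu,
      ← hα, ← hβ, ← hη, map_add]
    calc _ = (u + u) + (α (β u) + α (η u)) := by abel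
      _ = _ := by rw [vec_add_self V hexp, zero_add]
  obtain ⟨y, hy⟩ := hw0
  have hαw : α w = 0 := by rw [hy, ← end_mul, sq' V hexp hD hd, end_zero]
  set m := α p with hm
  have hmq : α q = m := by
    refine eq_of_sub_eq_zero ?_
    rw [sub_eq_add_neg, neg_eq_of_add_eq_zero_right (vec_add_self V hexp m), hm, add_comm, ← map_add, hpq,
      hαw]
  have hβm : β m = p := by rw [hm, hp, ← end_mul V β α, ← end_mul V (β * α) β, hafd]
  have hηm : η m = q := by rw [← hmq, hq, ← end_mul V η α, ← end_mul V (η * α) η, hahd]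
  have hαβm : α (β m) = m := by rw [hβm]
  have hαηm : α (η m) = m := by rw [hηm, hmq]
  have hαβw : α (β w) = w := by rw [hy, ← end_mul, ← end_mul, hadf]
  have hαηw : α (η w) = w := by rw [hy, ← end_mul, ← end_mul, hadh]
  have hA : α (β (η m)) = w := by
    conv_rhs => rw [← hαβw, ← hpq, ← hβm, ← hηm]
    rw [map_add, ← end_mul V β β, hb2, end_zero, zero_add]
  have hB : α (η (β m)) = w := by
    conv_rhs => rw [← hαηw, ← hpq, ← hβm, ← hηm]
    rw [map_add, ← end_mul V η η, hc2, end_zero, add_zero]
  have hkey : η * (α * β + β * α) * η = η := by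
    calc η * (α * β + β * α) * η
        = η * (β + α * β + β * α + α) * η + (η * β * η + η * α * η) := by
          simp only [mul_add, add_mul]
          calc _ = η * (α * β) * η + η * (β * α) * η + ((η * β * η + η * β * η) + (η * α * η + η * α * η)) := by
                simp [end_add_self V hexp]
            _ = _ := by abel
      _ = η := by rw [hahf', hahf, hahd, end_add_self V hexp, add_zero]
  have hm0 : m = 0 := by
    have h5 := congrArg (fun z : AddMonoid.End (Additive V) => α (z m)) hkey
    simp only [end_mul, end_add, map_add, hαηm] at h5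
    rw [← hαηm, ← h5]
    rw [hB, hA, hαηw, vec_add_self V hexp, map_zero, map_zero]
  have hw' : w = 0 := by rw [← hA, hm0, map_zero, map_zero, map_zero]
  refine eq_of_sub_eq_zero ?_
  rw [sub_eq_add_neg, neg_eq_of_add_eq_zero_right (vec_add_self V hexp s2), ← hw, hw']

include hexp hV hD hE hE2 hcent hZ hshift in
theorem mem_of_shift {d : G} (hd : d ∈ D) {u : Additive V} (hu : u ∈ Shift V E d) :
    d * emb V u ∈ D := by
  have hQ := isQuadClass V hexp hD hV hcent hZ
  have hadj : ∀ a ∈ D, ∃ b ∈ D, ¬ Commute a b := by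
    intro a ha
    obtain ⟨_, ⟨b, hb, rfl⟩, hab⟩ := hQ.exists_adj _ ⟨a, ha, rfl⟩
    exact ⟨b, hb, fun h => hab (h.map _)⟩
  obtain ⟨f0, hf0, hdf0⟩ := hadj d hd
  set s := proj V d f0 u with hs
  -- the projection is fixed by every member
  have hfix : ∀ g ∈ D, act V g s = s := by
    intro g hg
    by_cases hdg : Commute d g
    · have hgi := inv_eq_self (hD.1.1 g hg)
      have hgg := mul_self_eq_one (hD.1.1 g hg)
      have hgd : g * d * g⁻¹ = d := by rw [← hdg.eq, mul_inv_cancel_right]
      have hf1 : g * f0 * g⁻¹ ∈ D := class_conj_mem hD g hf0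
      have hdf1 : ¬ Commute d (g * f0 * g⁻¹) := by
        rw [← hgd, commute_conj_iff]; exact hdf0
      have hu1 : act V g u ∈ Shift V E d := by
        have := shift_conj V hE g hu
        rwa [hgd] at this
      obtain ⟨y, hy⟩ := shift_diff V hexp hV hD hE hE2 hd hu hu1
      have hnc : ∀ x : G, nil (act V) (g * x * g⁻¹) * act V g = act V g * nil (act V) x := by
        intro x
        rw [nil, nil, add_mul, mul_add, one_mul, mul_one, ← map_mul, ← map_mul]
        congr 2; group
      have hcomm : act V g (proj V d f0 u) = proj V d (g * f0 * g⁻¹) (act V g u) := by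
        rw [← end_mul, ← end_mul]
        congr 1
        have e1 := hnc d
        have e2 := hnc f0
        rw [hgd] at e1
        rw [proj, proj, mul_add, mul_add, add_mul, add_mul, mul_one, one_mul,
          mul_assoc (nil (act V) d), e2, ← mul_assoc (nil (act V) d), e1, mul_assoc (act V g),
          mul_assoc (nil (act V) (g * f0 * g⁻¹)), e1, ← mul_assoc (nil (act V) (g * f0 * g⁻¹)), e2,
          mul_assoc (act V g)]
      rw [hs, hcomm, hy, map_add, ← end_mul V (proj V d _),
        proj_nil V hexp hV hD hd hf1 hdf1, end_zero, add_zero,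
        proj_eq V hexp hV hD hE hE2 hcent hZ hshift hd hf1 hf0 hdf1 hdf0 hu]
    · rw [hs, proj_eq V hexp hV hD hE hE2 hcent hZ hshift hd hf0 hg hdf0 hdg hu, ← end_mul]
      congr 1
      rw [pi_eq (end_add_self V hexp) g, add_mul, one_mul, proj_comm,
        nil_proj V hexp hV hD hg hd (fun h => hdg h.symm), add_zero]
  have hs0 : s = 0 := by
    refine emb_inj V ?_
    rw [emb_zero, ← mem_bot, ← hZ, mem_center_iff]
    intro g
    have hle : closure D ≤ centralizer {emb V s} := by
      refine (closure_le _).2 fun a ha => mem_centralizer_singleton_iff.2 ?_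
      have := congrArg (emb V) (hfix a ha)
      rw [emb_act, mul_inv_eq_iff_eq_mul] at this
      exact this
    exact mem_centralizer_singleton_iff.1 (hle (by rw [(class_to_group hD).2.2]; trivial))
  rw [hs, proj_shift V hexp hV hD hE hd hf0 hdf0 hu] at hs0
  set v := nil (act V) f0 u with hv
  have hu' : u = nil (act V) d v := by
    refine eq_of_sub_eq_zero ?_
    rwa [sub_eq_add_neg, neg_eq_of_add_eq_zero_right (vec_add_self V hexp _)]
  rw [hu', emb_nil]
  have hdd := mul_self_eq_one (hD.1.1 d hd)
  have : d * (d * emb V v * d⁻¹ * emb V v) = emb V v * d * (emb V v)⁻¹ := by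
    rw [inv_eq_self (hD.1.1 d hd), emb_inv V hexp v]
    simp only [← mul_assoc, hdd, one_mul]
  rw [this]
  exact class_conj_mem hD _ hd

end Translate


/-- Let G be a finite group generated by a conjugacy class D of 3-transpositions, with trivial centre and with generalized Fitting subgroup F*(G) = O₂(G) (so the Fitting subgroup is O₂(G) too). If moreover O₂(G) is elementary abelian, then D is the only conjugacy class of 3-transpositions generating G. -/
theorem result {G : Type*} [Group G] [Finite G] {D : Set G} (hD : Cfsg.IsThreeTranspositionClass D)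
    (hZ : Subgroup.center G = ⊥) (hF : Cfsg.generalizedFittingSubgroup G = Cfsg.pCore 2 G)
    (hV : Cfsg.IsElementaryAbelian 2 (Cfsg.pCore 2 G)) :
    ∀ E : Set G, Cfsg.IsThreeTranspositionClass E → E = D := by
  set V := Cfsg.pCore 2 G with hVdef
  have : IsMulCommutative V := hV.1
  have : V.Normal := hVdef ▸ (inferInstance : (Cfsg.pCore 2 G).Normal)
  have hexp : ∀ v ∈ V, v * v = 1 := fun v hv => by rw [← pow_two]; exact hV.2 v hv
  have hcent : Subgroup.centralizer (V : Set G) ≤ V := by
    have := CfsgLib.Components.centralizer_genFitting_le (G := G)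
    rwa [hF] at this
  intro E hE
  have hQD := isQuadClass V hexp hD rfl hcent hZ
  have hQE := isQuadClass V hexp hE rfl hcent hZ
  have two : ∀ {S : Set G}, Cfsg.IsThreeTranspositionClass S →
      IsQuadClass (qact V) ((QuotientGroup.mk' V) '' S) → ∃ a ∈ S, ∃ b ∈ S, a ≠ b := by
    intro S hS hQ
    obtain ⟨d, hd, -⟩ := hS.2.1
    obtain ⟨_, ⟨b, hb, rfl⟩, hab⟩ := hQ.exists_adj _ ⟨d, hd, rfl⟩
    exact ⟨d, hd, b, hb, fun h => hab (h ▸ Commute.refl _)⟩
  obtain ⟨_, ⟨d0, hd0, rfl⟩, e0, he0, hde⟩ := exists_mem_both (end_add_self V hexp)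
    (qact_injective V hcent) hQD hQE (quotient_no_central_involution V hexp rfl)
    (let ⟨e, he, _⟩ := hE.2.1; ⟨_, e, he, rfl⟩)
  have hshift : ∀ d ∈ D, (Shift V E d).Nonempty := by
    intro d hd
    obtain ⟨k, hk⟩ := class_conj hD hd0 hd
    have hm : d⁻¹ * (k * e0 * k⁻¹) ∈ V := by
      refine (QuotientGroup.eq_one_iff (N := V) _).1 ?_
      show QuotientGroup.mk' V _ = 1
      simp only [← hk, map_mul, map_inv, hde]
      group
    refine ⟨Additive.ofMul ⟨_, hm⟩, ?_⟩
    show d * (d⁻¹ * (k * e0 * k⁻¹)) ∈ E
    rw [mul_inv_cancel_left]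
    exact class_conj_mem hE k he0
  have hsub : E ⊆ D := by
    intro e he
    obtain ⟨k, hk⟩ := class_conj hE he0 he
    have hd : k * d0 * k⁻¹ ∈ D := class_conj_mem hD k hd0
    set d := k * d0 * k⁻¹ with hd_def
    have hm : d⁻¹ * e ∈ V := by
      refine (QuotientGroup.eq_one_iff (N := V) _).1 ?_
      show QuotientGroup.mk' V _ = 1
      simp only [← hk, hd_def, map_mul, map_inv, hde]
      group
    have hu : d * emb V (Additive.ofMul (⟨_, hm⟩ : V)) = e := mul_inv_cancel_left d e
    rw [← hu]
    exact mem_of_shift V hexp rfl hD hE (two hE hQE) hcent hZ hshift hd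
      (show d * emb V _ ∈ E by rw [hu]; exact he)
  refine Set.Subset.antisymm hsub fun d hd => ?_
  obtain ⟨k, hk⟩ := class_conj hD (hsub he0) hd
  rw [← hk]
  exact class_conj_mem hE k he0

end Cfsg.Agent.S5558
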