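import Cfsg.Statements.S5559
import Cfsg.Agent.Lib.Sporadic.ThreeGen
import Cfsg.Agent.Lib.Sporadic.ThreeTwoClassify
import Cfsg.Agent.Lib.Sporadic.SUThreeTwo
import Cfsg.Agent.Lib.Solvable.CoprimeAction
import Cfsg.Agent.Lib.Solvable.Core
import Cfsg.Agent.Lib.Transfer.PGroup
import Cfsg.Agent.S1265

set_option autoImplicit false
open Cfsg

namespace Cfsg.Agent.S5559

theorem quotient_aut_exists {V : Type*} [Group V] (N : Subgroup V) [hc : N.Characteristic] :
    ∃ τ : MulAut V →* MulAut (V ⧸ N), ∀ (f : MulAut V) (v : V), τ f (v : V ⧸ N) = ((f v : V) : V ⧸ N) :=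
  ⟨{ toFun := fun f => QuotientGroup.congr N N f
        (Subgroup.characteristic_iff_map_eq.1 hc f)
     map_one' := MulEquiv.ext fun x => by
       obtain ⟨v, rfl⟩ := QuotientGroup.mk_surjective x
       rfl
     map_mul' := fun f g => MulEquiv.ext fun x => by
       obtain ⟨v, rfl⟩ := QuotientGroup.mk_surjective x
       rfl }, fun _ _ => rfl⟩

/-- A group of order 6 generated by an involution and an inverted element of order 3 is `S₃`. -/
theorem mulEquiv_perm_three {X : Type*} [Group X] [Finite X] {d a : X} (dd : d * d = 1)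
    (aaa : a * a * a = 1) (ha1 : a ≠ 1) (hd1 : d ≠ 1) (hda : d * a = a * a * d)
    (hgen : Subgroup.closure ({d, a} : Set X) = ⊤) : Nonempty (X ≃* Equiv.Perm (Fin 3)) := by
  classical
  have : Fact (Nat.Prime 2) := ⟨Nat.prime_two⟩
  have : Fact (Nat.Prime 3) := ⟨Nat.prime_three⟩
  have hR : CfsgLib.ThreeGen.Rel d a 1 :=
    ⟨dd, aaa, by simp, hda, by simp, by simpa using aaa,
      by rw [mul_one, show a * a * (a * a) * (a * a) = (a * a * a) * (a * a * a) by group, aaa,
        one_mul]⟩
  have hsurj : Function.Surjective fun p : Fin 3 × Fin 2 => a ^ p.1.val * d ^ p.2.val := by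
    intro x
    have hx : x ∈ Subgroup.closure ({d, a, (1 : X)} : Set X) := by
      have : Subgroup.closure ({d, a} : Set X) ≤ Subgroup.closure ({d, a, (1 : X)} : Set X) :=
        Subgroup.closure_mono (by simp [Set.subset_def])
      exact this (hgen ▸ Subgroup.mem_top x)
    obtain ⟨⟨i, j, k, l⟩, rfl⟩ := hR.range_closed x hx
    exact ⟨(k, l), by simp [CfsgLib.ThreeGen.nf, CfsgLib.ThreeGen.bc]⟩
  have hle : Nat.card X ≤ 6 := by simpa using Nat.card_le_card_of_surjective _ hsurj
  have hoa : orderOf a = 3 := orderOf_eq_prime (by rw [pow_succ, pow_two]; exact aaa) ha1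
  have hod : orderOf d = 2 := orderOf_eq_prime (by rw [pow_two]; exact dd) hd1
  have h6 : Nat.card X = 6 := by
    have h2 := orderOf_dvd_natCard d
    have h3 := orderOf_dvd_natCard a
    rw [hoa] at h3
    rw [hod] at h2
    obtain ⟨c, hc⟩ := Nat.Coprime.mul_dvd_of_dvd_of_dvd (by norm_num : Nat.Coprime 2 3) h2 h3
    have := Nat.card_pos (α := X)
    rcases c with _ | _ | c <;> omega
  set H := Subgroup.zpowers d with hH
  have hidx : Nat.card (X ⧸ H) = 3 := by
    have := H.card_eq_card_quotient_mul_card_subgroup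
    have h2 : Nat.card H = 2 := by rw [hH, Nat.card_zpowers, hod]
    rw [h6, h2] at this
    omega
  set φ : X →* Equiv.Perm (X ⧸ H) := MulAction.toPermHom X (X ⧸ H)
  have hinj : Function.Injective φ := by
    rw [← MonoidHom.ker_eq_bot_iff, ← Subgroup.normalCore_eq_ker, Subgroup.eq_bot_iff_forall]
    intro x hx
    have hxH : x ∈ H := Subgroup.normalCore_le H hx
    obtain ⟨n, rfl⟩ := Subgroup.mem_zpowers_iff.1 hxH
    have hd2 : d ^ (2 : ℤ) = 1 := by rw [zpow_two, dd]
    rcases Int.even_or_odd n with ⟨m, rfl⟩ | ⟨m, rfl⟩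
    · rw [← two_mul, zpow_mul, hd2, one_zpow]
    · exfalso
      have hdm : d ^ (2 * m + 1) = d := by
        rw [zpow_add, zpow_mul, hd2, one_zpow, one_mul, zpow_one]
      rw [hdm] at hx
      have hc := Subgroup.normalCore_le H ((Subgroup.normalCore_normal H).conj_mem d hx a)
      have e : a * d * a⁻¹ = a * a * d := by
        rw [mul_inv_eq_iff_eq_mul, mul_assoc (a * a) d a, hda,
          show a * a * (a * a * d) = (a * a * a) * (a * d) by group, aaa, one_mul]
      rw [e] at hc
      have haa := mul_mem hc (inv_mem (Subgroup.mem_zpowers d))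
      rw [mul_inv_cancel_right] at haa
      have hdvd := Subgroup.orderOf_dvd_natCard H haa
      have hpow : (a * a) ^ 2 = a := by
        calc (a * a) ^ 2 = a * a * a * a := by simp [pow_two, mul_assoc]
          _ = a := by rw [aaa, one_mul]
      rw [hH, Nat.card_zpowers, hod] at hdvd
      have := orderOf_dvd_iff_pow_eq_one.1 hdvd
      exact ha1 (hpow.symm.trans this)
  let e3 : (X ⧸ H) ≃ Fin 3 := (Finite.equivFinOfCardEq hidx)
  let ψ : X →* Equiv.Perm (Fin 3) := e3.permCongrHom.toMonoidHom.comp φ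
  exact ⟨MulEquiv.ofBijective ψ ((Nat.bijective_iff_injective_and_card ψ).2
    ⟨e3.permCongrHom.injective.comp hinj, by rw [h6, Nat.card_perm, Nat.card_fin]; rfl⟩)⟩

/-- Let H be a finite group generated by a conjugacy class E of 3-transpositions with at least two members, with F*(H) = O₂(H), and such that H/O₂(H) has a normal Sylow 3-subgroup of 2-power index (that is, H = O_{2,3,2}(H)). Then H/O₂(H) is isomorphic to the symmetric group of degree 3 or to the derived group of SU₃(2) (of order 54). -/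
theorem result {H : Type*} [Group H] [Finite H] {E : Set H} (hE : Cfsg.IsThreeTranspositionClass E)
    (hE2 : ∃ a ∈ E, ∃ b ∈ E, a ≠ b) (hF : Cfsg.generalizedFittingSubgroup H = Cfsg.pCore 2 H)
    (h232 : ∃ P : Sylow 3 (H ⧸ Cfsg.pCore 2 H), (P : Subgroup (H ⧸ Cfsg.pCore 2 H)).Normal ∧
      ∃ k : ℕ, (P : Subgroup (H ⧸ Cfsg.pCore 2 H)).index = 2 ^ k) :
    Nonempty (H ⧸ Cfsg.pCore 2 H ≃* Equiv.Perm (Fin 3)) ∨
      ∃ (F : Type) (_ : Field F) (_ : Fintype F), Fintype.card F = 4 ∧
        Nonempty (H ⧸ Cfsg.pCore 2 H ≃* ↥(commutator ↥(Cfsg.SU 3 F 2))) := by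
  classical
  have : Fact (Nat.Prime 2) := ⟨Nat.prime_two⟩
  obtain ⟨⟨hord, hprod⟩, ⟨d₀, hd₀E, hcls⟩, hgen⟩ := hE
  set V := Cfsg.pCore 2 H with hVdef
  have hV2 : IsPGroup 2 V := CfsgLib.Solvable.pCore_isPGroup 2 H
  have sq : ∀ x ∈ E, x * x = 1 := fun x hx => by rw [← pow_two, ← hord x hx, pow_orderOf_eq_one]
  have not2 : ¬ IsPGroup 2 H := by
    intro h2
    have := h2.isNilpotent
    have htop := CfsgLib.ThreeTwoClassify.zpowers_eq_top_of_class (hcls ▸ hgen)
    obtain ⟨a, ha, b, hb, hab⟩ := hE2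
    have single : ∀ x ∈ E, x = d₀ := by
      intro x hx
      rw [hcls] at hx
      obtain ⟨c, rfl⟩ := isConj_iff.1 (show IsConj d₀ x from hx)
      obtain ⟨n, rfl⟩ := Subgroup.mem_zpowers_iff.1 (htop ▸ Subgroup.mem_top c)
      rw [← (Commute.zpow_self d₀ n).eq.symm, mul_inv_cancel_right]
    exact hab ((single a ha).trans (single b hb).symm)
  have notV : ∀ x ∈ E, x ∉ V := by
    intro x hx hxV
    refine not2 ?_
    have hsub : E ⊆ V := by
      intro y hy
      rw [hcls] at hx hy
      obtain ⟨c, rfl⟩ := isConj_iff.1 ((show IsConj d₀ x from hx).symm.trans (show IsConj d₀ y from hy))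
      exact (CfsgLib.Solvable.pCore_normal 2 H).conj_mem x hxV c
    have : V = ⊤ := eq_top_iff.2 (hgen ▸ (Subgroup.closure_le _).2 hsub)
    rw [this] at hV2
    exact hV2.of_equiv Subgroup.topEquiv
  -- the action on the Frattini quotient
  set N := frattini ↥V with hN
  have : N.Characteristic := frattini_characteristic
  obtain ⟨τ, hτ⟩ := quotient_aut_exists N
  have := hV2.isNilpotent
  have hcommW : ∀ x y : ↥V ⧸ N, x * y = y * x := by
    intro x y
    obtain ⟨u, rfl⟩ := QuotientGroup.mk'_surjective N x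
    obtain ⟨v, rfl⟩ := QuotientGroup.mk'_surjective N y
    rw [← commutatorElement_eq_one_iff_mul_comm, ← map_commutatorElement,
      QuotientGroup.mk'_apply, QuotientGroup.eq_one_iff]
    exact CfsgLib.Transfer.commutator_le_frattini
      (Subgroup.commutator_mem_commutator (Subgroup.mem_top u) (Subgroup.mem_top v))
  let _ : CommGroup (↥V ⧸ N) := { (inferInstance : Group (↥V ⧸ N)) with mul_comm := hcommW }
  have hW : ∀ w : ↥V ⧸ N, w * w = 1 := by
    intro w
    obtain ⟨v, rfl⟩ := QuotientGroup.mk_surjective w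
    rw [← QuotientGroup.mk_mul, QuotientGroup.eq_one_iff, ← pow_two]
    exact CfsgLib.Transfer.pow_mem_frattini hV2 v
  let σ : H →* MulAut (↥V ⧸ N) := τ.comp MulAut.conjNormal
  have hσ : ∀ g (v : ↥V), σ g (v : ↥V ⧸ N) = ((MulAut.conjNormal g v : ↥V) : ↥V ⧸ N) :=
    fun g v => hτ _ v
  have hσV : V ≤ σ.ker := by
    intro g hg
    refine MonoidHom.mem_ker.2 (MulEquiv.ext fun w => ?_)
    obtain ⟨v, rfl⟩ := QuotientGroup.mk_surjective w
    rw [hσ, MulAut.one_apply]
    have : MulAut.conjNormal g v = ⟨g, hg⟩ * v * ⟨g, hg⟩⁻¹ := Subtype.ext (by simp)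
    rw [this, QuotientGroup.mk_mul, QuotientGroup.mk_mul, QuotientGroup.mk_inv, hcommW _ (v : ↥V ⧸ N),
      mul_inv_cancel_right]
  have hker : σ.ker = V := by
    refine le_antisymm (CfsgLib.Solvable.le_pCore (MonoidHom.normal_ker σ) ?_) hσV
    intro g
    obtain ⟨k, m, hm, hkm⟩ := Nat.exists_eq_pow_mul_and_not_dvd
      (orderOf_pos (g : H)).ne' 2 (by norm_num)
    refine ⟨k, Subtype.ext ?_⟩
    push_cast
    set h := (g : H) ^ 2 ^ k with hh
    have hord' : orderOf h = m := by
      rw [hh, orderOf_pow_of_dvd (by positivity) (hkm ▸ dvd_mul_right _ _), hkm,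
        Nat.mul_div_cancel_left _ (by positivity)]
    have hhK : ∀ a ∈ Subgroup.zpowers h, a ∈ σ.ker :=
      fun a ha => (Subgroup.zpowers_le.2 (pow_mem g.2 _)) ha
    have hcen : Subgroup.zpowers h ≤ Subgroup.centralizer (V : Set H) := by
      refine CfsgLib.Solvable.le_centralizer_of_trivial_on_frattini_quotient ?_ ?_
      · rw [Nat.card_zpowers, hord']
        obtain ⟨n, hn⟩ := (hV2.to_subgroup (frattini ↥V)).exists_card_eq
        rw [hn]
        exact ((Nat.Prime.coprime_iff_not_dvd Nat.prime_two).2 hm).symm.pow_right n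
      · intro a ha v hv
        have h1 := congrArg (fun f : MulAut (↥V ⧸ N) => f ((⟨v, hv⟩ : ↥V) : ↥V ⧸ N))
          (MonoidHom.mem_ker.1 (hhK a ha))
        simp only [hσ, MulAut.one_apply] at h1
        have h2 := (QuotientGroup.eq.1 h1.symm)
        refine ⟨MulAut.conjNormal a ⟨v, hv⟩ * (⟨v, hv⟩ : ↥V)⁻¹, ?_, by simp⟩
        exact (inferInstance : N.Normal).mem_comm h2
    have hF' : Cfsg.generalizedFittingSubgroup H = V := hF
    have hC := Cfsg.Agent.S1265.result (G := H)
    rw [hF'] at hC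
    have hhV : h ∈ V := hC (hcen (Subgroup.mem_zpowers h))
    obtain ⟨j, hj⟩ := hV2 ⟨h, hhV⟩
    have hj' : h ^ 2 ^ j = 1 := by simpa using congrArg Subtype.val hj
    have hdvd : orderOf h ∣ 2 ^ j := orderOf_dvd_of_pow_eq_one hj'
    rw [hord'] at hdvd
    have hm1 : m = 1 := Nat.Coprime.eq_one_of_dvd
      (((Nat.Prime.coprime_iff_not_dvd Nat.prime_two).2 hm).symm.pow_right j) hdvd
    exact orderOf_eq_one_iff.1 (hord'.trans hm1)
  have : V.Normal := CfsgLib.Solvable.pCore_normal 2 H
  let ρ : H ⧸ V →* MulAut (↥V ⧸ N) := QuotientGroup.lift V σ hσV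
  have hρ : Function.Injective ρ := by
    rw [← MonoidHom.ker_eq_bot_iff, QuotientGroup.ker_lift, hker,
      Subgroup.map_eq_bot_iff, QuotientGroup.ker_mk']
  set π := QuotientGroup.mk' V with hπ
  obtain ⟨P, hPn, hPi⟩ := h232
  have hP1 : (P : Subgroup (H ⧸ V)) ≠ ⊥ := by
    intro h
    obtain ⟨k, hk⟩ := hPi
    rw [h, Subgroup.index_bot] at hk
    refine not2 ?_
    obtain ⟨n, hn⟩ := hV2.exists_card_eq
    exact IsPGroup.of_card (n := k + n) (by
      rw [V.card_eq_card_quotient_mul_card_subgroup, hk, hn, pow_add])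
  have imD : π '' E = conjugatesOf (π d₀) := by
    ext x
    constructor
    · rintro ⟨y, hy, rfl⟩
      rw [hcls] at hy
      obtain ⟨c, rfl⟩ := isConj_iff.1 (show IsConj d₀ y from hy)
      exact isConj_iff.2 ⟨π c, by simp⟩
    · intro hx
      obtain ⟨c, rfl⟩ := isConj_iff.1 (show IsConj (π d₀) x from hx)
      obtain ⟨g, rfl⟩ := QuotientGroup.mk'_surjective V c
      exact ⟨g * d₀ * g⁻¹, by rw [hcls]; exact isConj_iff.2 ⟨g, rfl⟩, by simp [hπ]⟩
  have hX := CfsgLib.ThreeTwoClassify.classify ρ hρ hW (π '' E)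
    (by rintro _ ⟨x, hx, rfl⟩; rw [← map_mul, sq x hx, map_one])
    (by rintro _ ⟨x, hx, rfl⟩ h; exact notV x hx ((QuotientGroup.eq_one_iff x).1 h))
    ⟨π d₀, ⟨d₀, hd₀E, rfl⟩, imD⟩
    (by rw [← MonoidHom.map_closure, hgen, ← MonoidHom.range_eq_map,
      MonoidHom.range_eq_top.2 (QuotientGroup.mk'_surjective V)])
    (by
      rintro _ ⟨x, hx, rfl⟩ _ ⟨y, hy, rfl⟩
      rcases hprod x hx y hy with h | h
      · left; rw [← map_mul, ← map_pow, h, map_one]
      · right; rw [← map_mul, ← map_pow, h, map_one])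
    (P : Subgroup (H ⧸ V)) P.isPGroup' hP1 hPi
    (by
      rintro _ ⟨x, hx, rfl⟩ _ ⟨y, hy, rfl⟩ hne w hw
      obtain ⟨v, rfl⟩ := QuotientGroup.mk_surjective w
      have hx2 := sq x hx
      have hρσ : ∀ g : H, ρ (π g) = σ g := fun g => rfl
      rw [← map_mul, hρσ] at hw
      rw [hρσ]
      set a := x * y with ha
      -- the conjugate of `x` by `v`
      have hxv : (v : H) * x * (v : H)⁻¹ ∈ E := by
        rw [hcls] at hx ⊢
        exact IsConj.trans (show IsConj d₀ x from hx) (isConj_iff.2 ⟨(v : H), rfl⟩)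
      have him : π ((v : H) * x * (v : H)⁻¹) = π x := by
        have : π (v : H) = 1 := (QuotientGroup.eq_one_iff _).2 v.2
        simp [this]
      have hy2 : π y * π y = 1 := by rw [← map_mul, sq y hy, map_one]
      have cube : ((v : H) * x * (v : H)⁻¹ * y) ^ 3 = 1 ∧ a ^ 3 = 1 := by
        have h3 : ∀ z ∈ E, π z = π x → (z * y) ^ 3 = 1 := by
          intro z hz hzx
          rcases hprod z hz y hy with h | h
          · exfalso
            -- an image of order two lies in the normal 3-subgroup only if it is trivial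
            obtain ⟨k, hk⟩ := hPi
            have hp2 : IsPGroup 2 ((H ⧸ V) ⧸ (P : Subgroup (H ⧸ V))) :=
              IsPGroup.of_card (n := k) (by rw [← hk]; rfl)
            have := hp2.isNilpotent
            have htop : Subgroup.zpowers (QuotientGroup.mk' (P : Subgroup (H ⧸ V)) (π d₀)) = ⊤ := by
              refine CfsgLib.ThreeTwoClassify.zpowers_eq_top_of_class (eq_top_iff.2 ?_)
              have hsurj : Function.Surjective ((QuotientGroup.mk' (P : Subgroup (H ⧸ V))).comp π) :=
                (QuotientGroup.mk'_surjective _).comp (QuotientGroup.mk'_surjective V)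
              rw [← MonoidHom.range_eq_top.2 hsurj, MonoidHom.range_eq_map, ← hgen,
                MonoidHom.map_closure]
              refine Subgroup.closure_mono ?_
              rintro _ ⟨e, he, rfl⟩
              rw [hcls] at he
              obtain ⟨c, rfl⟩ := isConj_iff.1 (show IsConj d₀ e from he)
              exact isConj_iff.2 ⟨(QuotientGroup.mk' _) (π c), by simp⟩
            have hconst : ∀ e ∈ E, QuotientGroup.mk' (P : Subgroup (H ⧸ V)) (π e) =
                QuotientGroup.mk' (P : Subgroup (H ⧸ V)) (π d₀) := by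
              intro e he
              rw [hcls] at he
              obtain ⟨c, rfl⟩ := isConj_iff.1 (show IsConj d₀ e from he)
              obtain ⟨n, hn⟩ := Subgroup.mem_zpowers_iff.1
                (htop ▸ Subgroup.mem_top (QuotientGroup.mk' (P : Subgroup (H ⧸ V)) (π c)))
              rw [map_mul, map_mul, map_mul, map_mul, map_inv, map_inv, ← hn,
                ((Commute.refl _).zpow_left n).eq, mul_inv_cancel_right]
            have hmemP : π z * π y ∈ (P : Subgroup (H ⧸ V)) := by
              rw [← QuotientGroup.eq_one_iff, ← QuotientGroup.mk'_apply, map_mul, hconst z hz,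
                hconst y hy, ← map_mul, ← map_mul, sq d₀ hd₀E, map_one, map_one]
            have h2 : (π z * π y) ^ 2 = 1 := by rw [← map_mul, ← map_pow, h, map_one]
            obtain ⟨j, hj⟩ := P.isPGroup' ⟨_, hmemP⟩
            have hj' : (π z * π y) ^ 3 ^ j = 1 := by simpa using congrArg Subtype.val hj
            obtain ⟨r, hr⟩ : Odd (3 ^ j) := Odd.pow (by decide)
            rw [hr, pow_succ, pow_mul, h2, one_pow, one_mul, hzx] at hj'
            exact hne (by rw [← mul_one (π x), ← hy2, ← mul_assoc, hj', one_mul])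
          · exact h
        exact ⟨h3 _ hxv him, h3 x hx rfl⟩
      obtain ⟨hc1, hc2⟩ := cube
      set u : ↥V := v * MulAut.conjNormal x v⁻¹ with hu
      have huH : (u : H) * a = (v : H) * x * (v : H)⁻¹ * y := by
        rw [hu, ha]
        simp only [Subgroup.coe_mul, MulAut.conjNormal_apply, InvMemClass.coe_inv]
        rw [mul_inv_eq_one.1 (show x * x⁻¹ = 1 from mul_inv_cancel x) |>.symm]
        group
      have hrel : u * MulAut.conjNormal a u * MulAut.conjNormal (a * a) u = 1 := by
        apply Subtype.ext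
        simp only [Subgroup.coe_mul, MulAut.conjNormal_apply, Subgroup.coe_one]
        rw [← hc1, ← huH]
        calc (u : H) * (a * u * a⁻¹) * (a * a * u * (a * a)⁻¹)
            = (u : H) * a * ((u : H) * a) * ((u : H) * a) * (a ^ 3)⁻¹ := by group
          _ = ((u : H) * a) ^ 3 := by rw [hc2]; simp [pow_succ, mul_assoc]
      have hmul : ∀ g k : H, ∀ q, σ (g * k) q = σ g (σ k q) := fun g k q => by
        rw [map_mul, MulAut.mul_apply]
      set q := σ x (v : ↥V ⧸ N) with hq
      have hxx : ∀ z, σ x (σ x z) = z := fun z => by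
        rw [← hmul, hx2, map_one, MulAut.one_apply]
      have hax : a * x * a = x := by
        have hy' := sq y hy
        calc a * x * a = x * y * (x * x) * y := by simp [ha, mul_assoc]
          _ = x * (y * y) := by rw [hx2]; group
          _ = x := by rw [hy', mul_one]
      have haq : σ a q = q := by
        rw [hq, ← hmul]
        conv_lhs => rw [← hw]
        rw [← hmul, hax]
      have hu' : (u : ↥V ⧸ N) = (v : ↥V ⧸ N) * q := by
        rw [hu, QuotientGroup.mk_mul, ← hσ, QuotientGroup.mk_inv, map_inv, ← hq]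
        congr 1
        exact inv_eq_of_mul_eq_one_left (hW q)
      have hau : σ a ((v : ↥V ⧸ N) * q) = (v : ↥V ⧸ N) * q := by rw [map_mul, hw, haq]
      have h3 := congrArg (fun t : ↥V => (t : ↥V ⧸ N)) hrel
      simp only [QuotientGroup.mk_mul, ← hσ, QuotientGroup.mk_one, hu', hmul, hau] at h3
      rw [hW, one_mul] at h3
      rw [← mul_inv_eq_one, inv_eq_of_mul_eq_one_left (hW _), hcommW]
      exact h3)
  rcases hX with ⟨d, a, dd, aaa, ha1, hd1, hda, htop⟩ | ⟨d, a, b, hR, hd1, hab, htop⟩
  · exact Or.inl (mulEquiv_perm_three dd aaa ha1 hd1 hda htop)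
  · right
    let _ : Fintype (GaloisField 2 2) := Fintype.ofFinite _
    have hF4 : Fintype.card (GaloisField 2 2) = 4 := by
      rw [← Nat.card_eq_fintype_card, GaloisField.card 2 2 (by norm_num)]; rfl
    obtain ⟨d', a', b', hR', -, -, htop', hc'⟩ :=
      CfsgLib.SUThreeTwo.exists_commutator_gens hF4
    have hc : Nat.card (H ⧸ V) = 54 := by
      have := hR.card_eq hd1 hab
      rwa [htop, Subgroup.card_top] at this
    exact ⟨GaloisField 2 2, inferInstance, inferInstance, hF4,
      CfsgLib.ThreeGen.nonempty_mulEquiv hR htop hc hR' htop' hc'⟩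

end Cfsg.Agent.S5559
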