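import Cfsg.Statements.S5562
-- import your own Cfsg.Agent.* helpers here

set_option autoImplicit false
open Cfsg

namespace Cfsg.Agent.S5562

theorem eq_of_sq_eq_of_odd {G : Type*} [Group G] {g h : G} (hg : Odd (orderOf g))
    (hh : Odd (orderOf h)) (hs : g * g = h * h) : g = h := by
  obtain ⟨N, hN⟩ := hg.mul hh
  have h1 : g ^ (2 * N + 1) = 1 := by
    rw [← hN]; exact orderOf_dvd_iff_pow_eq_one.mp (dvd_mul_right _ _)
  have h2 : h ^ (2 * N + 1) = 1 := by
    rw [← hN]; exact orderOf_dvd_iff_pow_eq_one.mp (dvd_mul_left _ _)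
  have key : ∀ y : G, y ^ (2 * N + 1) = 1 → y = (y * y) ^ (N + 1) := fun y hy => by
    rw [← pow_two, ← pow_mul, show 2 * (N + 1) = 2 * N + 1 + 1 by ring, pow_succ, hy, one_mul]
  rw [key g h1, key h h2, hs]

/-- Let G be a finite group, d an involution of G whose conjugates pairwise have products of odd order, and x any involution of G. Then the conjugacy class of d is the disjoint union, over the conjugates a of d commuting with x, of the sets of conjugates of d commuting with ax: every conjugate of d commutes with ax for exactly one conjugate a of d that commutes with x. -/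
theorem result {G : Type*} [Group G] [Finite G] (d : G) (hd : orderOf d = 2)
    (hodd : ∀ a ∈ conjugatesOf d, ∀ b ∈ conjugatesOf d, Odd (orderOf (a * b)))
    (x : G) (hx : orderOf x = 2) :
    ∀ e ∈ conjugatesOf d,
      ∃! a : G, a ∈ conjugatesOf d ∧ Commute a x ∧ Commute e (a * x) := by
  intro e he
  have inv_of : ∀ a ∈ conjugatesOf d, a * a = 1 := by
    intro a ha
    obtain ⟨c, rfl⟩ := isConj_iff.mp (ha : IsConj d a)
    have hdd : d * d = 1 := by rw [← pow_two, ← hd, pow_orderOf_eq_one]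
    calc c * d * c⁻¹ * (c * d * c⁻¹) = c * (d * d) * c⁻¹ := by group
      _ = 1 := by rw [hdd]; group
  have hxx : x * x = 1 := by rw [← pow_two, ← hx, pow_orderOf_eq_one]
  have hee := inv_of e he
  have hxi : x⁻¹ = x := inv_eq_of_mul_eq_one_right hxx
  have hei : e⁻¹ = e := inv_eq_of_mul_eq_one_right hee
  obtain ⟨f, hf⟩ : ∃ f, f = x * e * x := ⟨_, rfl⟩
  have hfD : f ∈ conjugatesOf d := by
    show IsConj d _
    exact (he : IsConj d e).trans (isConj_iff.mpr ⟨x, by rw [hxi, hf]⟩)
  have hfi : f⁻¹ = f := inv_eq_of_mul_eq_one_right (inv_of f hfD)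
  obtain ⟨r, hr⟩ : ∃ r, r = f * e := ⟨_, rfl⟩
  obtain ⟨m, hm⟩ := hodd f hfD e he
  rw [← hr] at hm
  obtain ⟨i, hi⟩ : ∃ i, i = m + 1 := ⟨_, rfl⟩
  have hr2 : r ^ (2 * i) = r := by
    have h1 : r ^ (orderOf r) = 1 := pow_orderOf_eq_one r
    rw [hm] at h1
    rw [show 2 * i = 2 * m + 1 + 1 by omega, pow_succ, h1, one_mul]
  have hre : ∀ k : ℕ, e * (r⁻¹) ^ k = r ^ k * e := by
    intro k
    have h1 : e * r⁻¹ * e⁻¹ = r := by
      rw [hr, mul_inv_rev, hfi, hei, ← mul_assoc, hee, one_mul]
    have h2 : (e * r⁻¹ * e⁻¹) ^ k = r ^ k := by rw [h1]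
    rw [conj_pow] at h2
    exact mul_inv_eq_iff_eq_mul.mp h2
  obtain ⟨a, ha⟩ : ∃ a, a = r ^ i * e := ⟨_, rfl⟩
  have haD : a ∈ conjugatesOf d := by
    show IsConj d _
    refine (he : IsConj d e).trans (isConj_iff.mpr ⟨r ^ (i * i), ?_⟩)
    calc r ^ (i * i) * e * (r ^ (i * i))⁻¹ = r ^ (i * i) * (r ^ (i * i) * e) := by
          rw [mul_assoc, ← inv_pow, hre]
      _ = (r ^ (2 * i)) ^ i * e := by
          rw [← mul_assoc, ← pow_add, ← pow_mul, show i * i + i * i = 2 * i * i by ring]
      _ = a := by rw [hr2, ha]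
  have haea : a * e * a = f := by
    calc a * e * a = r ^ i * (e * e) * (r ^ i * e) := by rw [ha]; group
      _ = r ^ (2 * i) * e := by rw [hee, mul_one, ← mul_assoc, ← pow_add, ← two_mul]
      _ = f := by rw [hr2, hr, mul_assoc, hee, mul_one]
  have hxax : x * a * x = a := by
    have h1 : x * r * x⁻¹ = r⁻¹ := by
      rw [hr, mul_inv_rev, hfi, hei, hxi, hf]
      calc x * (x * e * x * e) * x = (x * x) * e * x * e * x := by group
        _ = e * (x * e * x) := by rw [hxx, one_mul]; group
    have h2 : x * r ^ i * x⁻¹ = (r⁻¹) ^ i := by rw [← conj_pow, h1]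
    calc x * a * x = (x * r ^ i * x⁻¹) * (x * e * x) := by rw [ha]; group
      _ = (r⁻¹) ^ i * (r * e) := by rw [h2, ← hf, hr, mul_assoc f e e, hee, mul_one]
      _ = (r⁻¹) ^ i * (r ^ (2 * i) * e) := by rw [hr2]
      _ = a := by rw [ha, two_mul, pow_add]; group
  have comm_x : Commute a x := by
    show a * x = x * a
    calc a * x = (x * a * x) * x := by rw [hxax]
      _ = x * a := by rw [mul_assoc, hxx, mul_one]
  refine ⟨a, ⟨haD, comm_x, ?_⟩, ?_⟩
  · show e * (a * x) = a * x * e
    calc e * (a * x) = (a * a) * e * (a * x) := by rw [inv_of a haD, one_mul]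
      _ = a * (a * e * a) * x := by group
      _ = a * x * e * (x * x) := by rw [haea, hf]; group
      _ = a * x * e := by rw [hxx, mul_one]
  · rintro b ⟨hbD, hbx, hbe⟩
    have hbeb : b * e * b = f := by
      have h1 : e * (b * x) = b * x * e := hbe
      calc b * e * b = b * (e * (b * x)) * x⁻¹ := by group
        _ = (b * b) * (x * e * x⁻¹) := by rw [h1]; group
        _ = f := by rw [inv_of b hbD, hxi, one_mul, hf]
    have h3 : b * e = a * e := by
      apply eq_of_sq_eq_of_odd (hodd b hbD e he) (hodd a haD e he)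
      calc b * e * (b * e) = (b * e * b) * e := by group
        _ = (a * e * a) * e := by rw [hbeb, haea]
        _ = a * e * (a * e) := by group
    exact mul_right_cancel h3

end Cfsg.Agent.S5562
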