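import Cfsg.Statements.S5594
import Cfsg.Agent.Lib.Leech.Norm
import Cfsg.Agent.Lib.Leech.Check
import Cfsg.Agent.Lib.Leech.Gens

set_option autoImplicit false
open Cfsg

namespace Cfsg.Agent.S5594

theorem projInv_mem : Cfsg.projInv ∈ Cfsg.M24 :=
  CfsgLib.Leech.mem_M24_of_m24B _ (by decide +kernel)

theorem projInv_invol (i : Cfsg.GolayPt) : Cfsg.projInv (Cfsg.projInv i) = i := Cfsg.projInv.left_inv i

theorem flip_check : ∀ i : Cfsg.GolayPt,
    (Cfsg.qrWord 0 i = 1 ↔ ¬ Cfsg.qrWord 0 (Cfsg.projInv i) = 1) := by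
  decide +kernel

theorem qrWord_zero_mem : Cfsg.qrWord 0 ∈ Cfsg.golayCode :=
  Submodule.subset_span (Or.inl ⟨0, rfl⟩)

/-- The signed permutation squaring to negation. -/
def root (x : Cfsg.GolayPt → ℤ) : Cfsg.GolayPt → ℤ :=
  fun i => if Cfsg.qrWord 0 i = 1 then -x (Cfsg.projInv i) else x (Cfsg.projInv i)

theorem root_root (x : Cfsg.GolayPt → ℤ) : root (root x) = -x := by
  funext i
  simp only [root, projInv_invol, Pi.neg_apply]
  have h := flip_check i
  by_cases h1 : Cfsg.qrWord 0 i = 1
  · rw [if_pos h1, if_neg (h.1 h1)]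
  · rw [if_neg h1, if_pos (by by_contra h2; exact h1 (h.2 h2))]

theorem root_mem {x : Cfsg.GolayPt → ℤ} (hx : x ∈ Cfsg.leechLattice) : root x ∈ Cfsg.leechLattice := by
  rw [CfsgLib.Leech.mem_leech_iff] at hx ⊢
  exact CfsgLib.Leech.isLeech_signChange (CfsgLib.Leech.isLeech_comp projInv_mem hx) qrWord_zero_mem

theorem root_norm (x : Cfsg.GolayPt → ℤ) : Cfsg.sqNorm (root x) = Cfsg.sqNorm x := by
  rw [Cfsg.sqNorm, Cfsg.sqNorm, ← Equiv.sum_comp Cfsg.projInv (fun i => x i ^ 2)]
  refine Finset.sum_congr rfl fun i _ => ?_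
  simp only [root]
  split <;> ring

/-- The signed permutation as a permutation of the lattice. -/
def rootPerm : Equiv.Perm ↥Cfsg.leechLattice where
  toFun v := ⟨root v, root_mem v.2⟩
  invFun v := ⟨-root v, neg_mem (root_mem v.2)⟩
  left_inv v := Subtype.ext (by simp [root_root])
  right_inv v := Subtype.ext (by
    show root (-root v) = v
    funext i
    have h := congrFun (root_root v) i
    simp only [Pi.neg_apply] at h
    have : root (-root (v : Cfsg.GolayPt → ℤ)) i = - root (root (v : Cfsg.GolayPt → ℤ)) i := by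
      simp only [root, Pi.neg_apply]; split <;> rfl
    rw [this, h, neg_neg])

theorem rootPerm_mem : rootPerm ∈ Cfsg.Co0 :=
  ⟨fun v w => Subtype.ext (funext fun i => by
    show root ((v : Cfsg.GolayPt → ℤ) + w) i = root v i + root w i
    simp only [root, Pi.add_apply]; split <;> ring), fun v => root_norm v⟩

/-- The automorphism group of the Leech lattice contains the negation map, and the subgroup of order 2 it generates has no complement: the automorphism group is a non-split extension of its quotient by that subgroup (it is not the direct product of a group of order 2 with the first Conway group). -/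
theorem result :
    ∃ n : ↥Cfsg.Co0, (∀ v : ↥Cfsg.leechLattice, ((n • v : ↥Cfsg.leechLattice) : Cfsg.GolayPt → ℤ) = -(v : Cfsg.GolayPt → ℤ)) ∧
    ∀ K : Subgroup ↥Cfsg.Co0, ¬ (Subgroup.zpowers n).IsComplement' K := by
  obtain ⟨g, hg⟩ : ∃ g : ↥Cfsg.Co0, g = ⟨rootPerm, rootPerm_mem⟩ := ⟨_, rfl⟩
  have hn : ∀ v : ↥Cfsg.leechLattice,
      (((g * g) • v : ↥Cfsg.leechLattice) : Cfsg.GolayPt → ℤ) = -(v : Cfsg.GolayPt → ℤ) := by
    intro v
    subst hg
    exact root_root v
  refine ⟨g * g, hn, fun K hK => ?_⟩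
  have hne : g * g ≠ 1 := by
    intro h
    have h2 := hn ⟨CfsgLib.Leech.leechGen 12, CfsgLib.Leech.leechGen_mem (by norm_num)⟩
    rw [h, one_smul] at h2
    have := congrFun h2 none
    simp [CfsgLib.Leech.leechGen] at this
  have hnn : g * g * (g * g) = 1 := by
    apply Subtype.ext
    apply Equiv.ext
    intro v
    apply Subtype.ext
    have h1 := hn ((g * g) • v)
    rw [hn v, neg_neg, ← mul_smul] at h1
    exact h1
  have hor : orderOf (g * g) = 2 := orderOf_eq_prime (by rw [pow_two]; exact hnn) hne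
  have hidx : K.index = 2 := by rw [hK.index_eq_card, Nat.card_zpowers, hor]
  have hK2 : g * g ∈ K := Subgroup.mul_self_mem_of_index_two hidx g
  exact hne (Subgroup.disjoint_def.1 hK.disjoint (Subgroup.mem_zpowers _) hK2)

end Cfsg.Agent.S5594
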