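import Cfsg.Statements.S5596
import Cfsg.Agent.Lib.Sporadic.SingularInvolutions

set_option autoImplicit false
open Cfsg

namespace Cfsg.Agent.S5596

/-- Setting: `z` is an involution of the finite group `G`; for each element `x`, `Q x` is the largest normal 2-subgroup of the centralizer of `x`; `Q z` is extraspecial and contains its own centralizer in `G`. A subgroup `U` is singular when it is elementary abelian, every non-identity element of `U` is conjugate to `z`, and any two non-identity elements `u`, `v` of `U` are orthogonal (`v ∈ Q u`). Write `QU` for the intersection of the `Q u` and `LU` for the join of the `Q u` over the non-identity `u` in `U`. If `U` is singular of order `2 ^ n` with `n ≥ 2`, then `U ≤ QU ≤ LU`, `LU` normalizes `U`, and `LU` induces on `U` its full automorphism group (the general linear group of dimension `n` over the field with two elements): every automorphism of `U` is conjugation by some element of `LU`. -/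
theorem result {G : Type*} [Group G] [Finite G]
    (Q : G → Subgroup G)
    (hQ : ∀ x : G, Q x = (Cfsg.pCore 2 ↥(Subgroup.centralizer ({x} : Set G))).map (Subgroup.centralizer ({x} : Set G)).subtype)
    (z : G) (hz : orderOf z = 2) (hE : Cfsg.IsExtraspecial 2 ↥(Q z))
    (hC : Subgroup.centralizer ((Q z : Subgroup G) : Set G) ≤ Q z)
    (U : Subgroup G) (hU2 : ∀ u ∈ U, u * u = 1)
    (hS : ∀ u ∈ U, u ≠ 1 → ∃ g : G, g * z * g⁻¹ = u)
    (hO : ∀ u ∈ U, ∀ v ∈ U, u ≠ 1 → v ≠ 1 → v ∈ Q u)
    (QU LU : Subgroup G) (hQU : QU = ⨅ u ∈ ((U : Set G) \ {1}), Q u) (hLU : LU = ⨆ u ∈ ((U : Set G) \ {1}), Q u)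
    (n : ℕ) (hn : 2 ≤ n) (hcard : Nat.card ↥U = 2 ^ n) :
    U ≤ QU ∧ QU ≤ LU ∧ LU ≤ Subgroup.normalizer (U : Set G) ∧
      ∀ φ : ↥U ≃* ↥U, ∃ g ∈ LU, ∀ u : ↥U, g * (u : G) * g⁻¹ = ((φ u : ↥U) : G) := by
  classical
  have hLz := CfsgLib.Sporadic.Singular.large_of_extraspecial Q hQ z hz hE hC
  have heq := CfsgLib.Sporadic.Singular.equivariant_of_eq Q hQ
  have hlarge : ∀ u ∈ U, u ≠ 1 → CfsgLib.Sporadic.Singular.Large Q u := fun u hu hu1 => by
    obtain ⟨g, hg⟩ := hS u hu hu1
    exact hg ▸ hLz.conjugate heq g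
  have hUQ : ∀ u ∈ U, u ≠ 1 → ∀ t ∈ U, t ∈ Q u := fun u hu hu1 t ht => by
    by_cases ht1 : t = 1
    · subst ht1; exact one_mem _
    exact hO u hu t ht hu1 ht1
  obtain ⟨u₀, hu₀, hu₀1⟩ : ∃ u ∈ U, u ≠ 1 := by
    by_contra hcon
    push Not at hcon
    have h1 : U = ⊥ := (Subgroup.eq_bot_iff_forall U).mpr hcon
    rw [h1, Subgroup.card_bot] at hcard
    have h2 : 1 < 2 ^ n := Nat.one_lt_two_pow (by omega)
    omega
  have hQle : ∀ u ∈ U, u ≠ 1 → Q u ≤ LU := fun u hu hu1 t ht => by
    rw [hLU]
    exact Subgroup.mem_iSup_of_mem u (Subgroup.mem_iSup_of_mem ⟨hu, hu1⟩ ht)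
  have hnormal : ∀ g ∈ LU, ∀ t ∈ U, g * t * g⁻¹ ∈ U := by
    intro g hg
    rw [hLU, iSup_subtype'] at hg
    refine Subgroup.iSup_induction (C := fun g => ∀ t ∈ U, g * t * g⁻¹ ∈ U) _ hg ?_ ?_ ?_
    · rintro ⟨u, huU, hu1⟩ y hy t ht
      rcases (hlarge u huU hu1).comm y hy t (hUQ u huU hu1 t ht) with h | h <;> rw [h]
      exacts [ht, U.mul_mem huU ht]
    · intro t ht; simpa using ht
    · intro a b ha hb t ht
      rw [show a * b * t * (a * b)⁻¹ = a * (b * t * b⁻¹) * a⁻¹ by group]
      exact ha _ (hb t ht)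
  refine ⟨?_, ?_, ?_, ?_⟩
  · intro t ht
    rw [hQU]
    simp only [Subgroup.mem_iInf]
    rintro u ⟨hu, hu1⟩
    exact hUQ u hu hu1 t ht
  · intro t ht
    rw [hQU] at ht
    simp only [Subgroup.mem_iInf] at ht
    exact hQle u₀ hu₀ hu₀1 (ht u₀ ⟨hu₀, hu₀1⟩)
  · intro g hg
    rw [Subgroup.mem_normalizer_iff]
    refine fun t => ⟨hnormal g hg t, fun ht => ?_⟩
    have := hnormal g⁻¹ (inv_mem hg) _ ht
    rwa [show g⁻¹ * (g * t * g⁻¹) * g⁻¹⁻¹ = t by group] at this
  · intro φ
    suffices hmain : ∀ s : Finset ↥U, ∃ g ∈ LU, ∀ a ∈ s, g * (a : G) * g⁻¹ = ((φ a : ↥U) : G) by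
      have := Fintype.ofFinite ↥U
      obtain ⟨g, hg, h⟩ := hmain Finset.univ
      exact ⟨g, hg, fun a => h a (Finset.mem_univ a)⟩
    intro s
    induction s using Finset.induction_on with
    | empty => exact ⟨1, one_mem _, by simp⟩
    | @insert v s hvs ih =>
      obtain ⟨g, hg, hgs⟩ := ih
      let f₁ : ↥U →* G := (MulAut.conj g).toMonoidHom.comp U.subtype
      let f₂ : ↥U →* G := U.subtype.comp φ.toMonoidHom
      have hagree : ∀ a ∈ Subgroup.closure (s : Set ↥U), g * (a : G) * g⁻¹ = ((φ a : ↥U) : G) :=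
        fun a ha => MonoidHom.eqOn_closure (f := f₁) (g := f₂) (fun b hb => hgs b hb) ha
      by_cases hvW : v ∈ Subgroup.closure (s : Set ↥U)
      · refine ⟨g, hg, fun a ha => ?_⟩
        rcases Finset.mem_insert.mp ha with rfl | ha
        exacts [hagree _ hvW, hgs a ha]
      obtain ⟨v', hv', hgv'⟩ : ∃ v' : ↥U, v' ∉ Subgroup.closure (s : Set ↥U) ∧
          g * (v' : G) * g⁻¹ = ((φ v : ↥U) : G) := by
        have hmem := hnormal g⁻¹ (inv_mem hg) _ (φ v).2
        refine ⟨⟨_, hmem⟩, fun hW => hvW ?_, by group⟩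
        have h1 := hagree _ hW
        rw [show g * (g⁻¹ * ((φ v : ↥U) : G) * g⁻¹⁻¹) * g⁻¹ = ((φ v : ↥U) : G) by group] at h1
        exact (φ.injective (Subtype.ext h1)).symm ▸ hW
      by_cases hvv : v' = v
      · refine ⟨g, hg, fun a ha => ?_⟩
        rcases Finset.mem_insert.mp ha with rfl | ha
        exacts [hvv ▸ hgv', hgs a ha]
      obtain ⟨u, hu⟩ : ∃ u : ↥U, u = v' * v := ⟨_, rfl⟩
      have hsq : ∀ a : ↥U, a * a = 1 := fun a => Subtype.ext (hU2 a a.2)
      have hu1 : (u : G) ≠ 1 := by
        intro h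
        apply hvv
        have h' : v' * v = 1 := hu ▸ Subtype.ext h
        rw [← inv_eq_of_mul_eq_one_left h', inv_eq_of_mul_eq_one_right (hsq v)]
      have hLu := hlarge u u.2 hu1
      have hmem : ∀ a ∈ s.image U.subtype, a ∈ Q u := fun a ha => by
        obtain ⟨b, -, rfl⟩ := Finset.mem_image.mp ha
        exact hUQ u u.2 hu1 b b.2
      obtain ⟨h, hh, hhs, hhv⟩ : ∃ h ∈ Q u, (∀ a ∈ s, h * (a : G) = a * h) ∧ h * v ≠ v * h := by
        by_contra hcon
        push Not at hcon
        have h1 := hLu.mem_closure_of_forall_commute _ hmem v (hUQ u u.2 hu1 v v.2)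
          (fun h hh hb => hcon h hh fun a ha => hb a (Finset.mem_image_of_mem _ ha))
        have himg : insert (u : G) ((s.image U.subtype : Finset G) : Set G) =
            U.subtype '' insert u (s : Set ↥U) := by
          rw [Set.image_insert_eq, Finset.coe_image]; rfl
        rw [himg, ← MonoidHom.map_closure] at h1
        obtain ⟨v₁, hv₁, hv₁e⟩ := h1
        have : v₁ = v := Subtype.ext hv₁e
        subst this
        have hcomm : ∀ a b : ↥U, a * b = b * a := fun a b => by
          have := inv_eq_of_mul_eq_one_right (hsq (a * b))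
          rw [mul_inv_rev, inv_eq_of_mul_eq_one_right (hsq a),
            inv_eq_of_mul_eq_one_right (hsq b)] at this
          exact this.symm
        have hK : ∀ t ∈ Subgroup.closure (insert u (s : Set ↥U)),
            t ∈ Subgroup.closure (s : Set ↥U) ∨ u * t ∈ Subgroup.closure (s : Set ↥U) := by
          intro t ht
          induction ht using Subgroup.closure_induction with
          | mem t ht =>
            rcases ht with rfl | ht
            · right; rw [hsq]; exact one_mem _
            · left; exact Subgroup.subset_closure ht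
          | one => left; exact one_mem _
          | inv t _ iht => rwa [inv_eq_of_mul_eq_one_right (hsq t)]
          | mul a b _ _ iha ihb =>
            rcases iha with iha | iha <;> rcases ihb with ihb | ihb
            · left; exact mul_mem iha ihb
            · right; rw [← mul_assoc, hcomm u a, mul_assoc]; exact mul_mem iha ihb
            · right; rw [← mul_assoc]; exact mul_mem iha ihb
            · left
              have := mul_mem iha ihb
              rwa [← mul_assoc, hcomm (u * a) u, ← mul_assoc, hsq, one_mul] at this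
        rcases hK _ hv₁ with h' | h'
        · exact hvW h'
        · rw [hu, mul_assoc, hsq, mul_one] at h'
          exact hv' h'
      have hhv' : h * (v : G) * h⁻¹ = v' := by
        rw [(hLu.comm h hh v (hUQ u u.2 hu1 v v.2)).resolve_left
          fun he => hhv (mul_inv_eq_iff_eq_mul.mp he), hu]
        simp only [Subgroup.coe_mul]
        rw [mul_assoc, hU2 v v.2, mul_one]
      refine ⟨g * h, mul_mem hg (hQle u u.2 hu1 hh), fun a ha => ?_⟩
      rw [show g * h * (a : G) * (g * h)⁻¹ = g * (h * a * h⁻¹) * g⁻¹ by group]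
      rcases Finset.mem_insert.mp ha with rfl | ha
      · rw [hhv', hgv']
      · rw [hhs a ha, mul_inv_cancel_right, hgs a ha]

end Cfsg.Agent.S5596
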