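import Cfsg.Statements.S5597
import Cfsg.Agent.Lib.Sporadic.SingularInvolutions

set_option autoImplicit false
open Cfsg

namespace Cfsg.Agent.S5597

/-- Setting: `z` is an involution of the finite group `G`; for each element `x`, `Q x` is the largest normal 2-subgroup of the centralizer of `x`; `Q z` is extraspecial and contains its own centralizer in `G`. A subgroup `U` is singular when it is elementary abelian, every non-identity element of `U` is conjugate to `z`, and any two non-identity elements `u`, `v` of `U` are orthogonal (`v ∈ Q u`). Write `QU` for the intersection of the `Q u` and `LU` for the join of the `Q u` over the non-identity `u` in `U`. If `U` is a non-trivial singular subgroup, then `LU` acts trivially on `QU / U` (every commutator of an element of `LU` with an element of `QU` lies in `U`), and for every `x` in `QU` outside `U` the centralizer of `U` in `LU` permutes the coset `x U` transitively: each `x u` with `u ∈ U` is a conjugate of `x` by an element of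 `LU` centralizing `U`. -/
theorem result {G : Type*} [Group G] [Finite G]
    (Q : G → Subgroup G)
    (hQ : ∀ x : G, Q x = (Cfsg.pCore 2 ↥(Subgroup.centralizer ({x} : Set G))).map (Subgroup.centralizer ({x} : Set G)).subtype)
    (z : G) (hz : orderOf z = 2) (hE : Cfsg.IsExtraspecial 2 ↥(Q z))
    (hC : Subgroup.centralizer ((Q z : Subgroup G) : Set G) ≤ Q z)
    (U : Subgroup G) (hU2 : ∀ u ∈ U, u * u = 1)
    (hS : ∀ u ∈ U, u ≠ 1 → ∃ g : G, g * z * g⁻¹ = u)
    (hO : ∀ u ∈ U, ∀ v ∈ U, u ≠ 1 → v ≠ 1 → v ∈ Q u)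
    (QU LU : Subgroup G) (hQU : QU = ⨅ u ∈ ((U : Set G) \ {1}), Q u) (hLU : LU = ⨆ u ∈ ((U : Set G) \ {1}), Q u)
    (hU : U ≠ ⊥) :
    (∀ g ∈ LU, ∀ x ∈ QU, g * x * g⁻¹ * x⁻¹ ∈ U) ∧
      ∀ x ∈ QU, x ∉ U → ∀ u ∈ U, ∃ g ∈ LU ⊓ Subgroup.centralizer (U : Set G), g * x * g⁻¹ = x * u := by
  classical
  have hLz := CfsgLib.Sporadic.Singular.large_of_extraspecial Q hQ z hz hE hC
  have heq := CfsgLib.Sporadic.Singular.equivariant_of_eq Q hQ
  have hlarge : ∀ u ∈ U, u ≠ 1 → CfsgLib.Sporadic.Singular.Large Q u := fun u hu hu1 => by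
    obtain ⟨g, hg⟩ := hS u hu hu1
    exact hg ▸ hLz.conjugate heq g
  have hQUle : ∀ x ∈ QU, ∀ u ∈ U, u ≠ 1 → x ∈ Q u := fun x hx u hu hu1 => by
    rw [hQU] at hx
    simp only [Subgroup.mem_iInf] at hx
    exact hx u ⟨hu, hu1⟩
  constructor
  · intro g hg
    rw [hLU, iSup_subtype'] at hg
    have : (∀ t ∈ U, g * t * g⁻¹ ∈ U) ∧ ∀ x ∈ QU, g * x * g⁻¹ * x⁻¹ ∈ U := by
      refine Subgroup.iSup_induction (C := fun g => (∀ t ∈ U, g * t * g⁻¹ ∈ U) ∧
        ∀ x ∈ QU, g * x * g⁻¹ * x⁻¹ ∈ U) _ hg ?_ ?_ ?_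
      · rintro ⟨u, huU, hu1⟩ y hy
        have hu' : u ≠ 1 := hu1
        have hLu := hlarge u huU hu'
        refine ⟨fun t ht => ?_, fun x hx => ?_⟩
        · by_cases ht1 : t = 1
          · subst ht1; simp
          rcases hLu.comm y hy t (hO u huU t ht hu' ht1) with h | h <;> rw [h]
          exacts [ht, U.mul_mem huU ht]
        · rcases hLu.comm y hy x (hQUle x hx u huU hu') with h | h <;> rw [h]
          · rw [mul_inv_cancel]; exact U.one_mem
          · rw [mul_inv_cancel_right]; exact huU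
      · exact ⟨fun t ht => by simpa using ht, fun x _ => by simp⟩
      · rintro a b ⟨ha1, ha2⟩ ⟨hb1, hb2⟩
        refine ⟨fun t ht => ?_, fun x hx => ?_⟩
        · rw [show a * b * t * (a * b)⁻¹ = a * (b * t * b⁻¹) * a⁻¹ by group]
          exact ha1 _ (hb1 t ht)
        · rw [show a * b * x * (a * b)⁻¹ * x⁻¹ =
            (a * (b * x * b⁻¹ * x⁻¹) * a⁻¹) * (a * x * a⁻¹ * x⁻¹) by group]
          exact U.mul_mem (ha1 _ (hb2 x hx)) (ha2 x hx)
    exact this.2
  · intro x hx hxU u hu
    by_cases hu1 : u = 1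
    · exact ⟨1, Subgroup.one_mem _, by simp [hu1]⟩
    have hLu := hlarge u hu hu1
    have hxQ := hQUle x hx u hu hu1
    obtain ⟨h, hh, hhU, hhx⟩ : ∃ h ∈ Q u, (∀ a ∈ U, h * a = a * h) ∧ h * x ≠ x * h := by
      by_contra hcon
      push Not at hcon
      have hmem : ∀ a ∈ (Set.toFinite (U : Set G)).toFinset, a ∈ Q u := fun a ha => by
        rw [Set.Finite.mem_toFinset] at ha
        by_cases ha1 : a = 1
        · subst ha1; exact one_mem _
        exact hO u hu a ha hu1 ha1
      have h1 := hLu.mem_closure_of_forall_commute _ hmem x hxQ (fun h hh hb =>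
        hcon h hh fun a ha => hb a (by simpa using ha))
      rw [Set.Finite.coe_toFinset, Set.insert_eq_of_mem (show u ∈ (U : Set G) from hu),
        Subgroup.closure_eq] at h1
      exact hxU h1
    refine ⟨h, ⟨?_, ?_⟩, ?_⟩
    · rw [hLU]
      exact Subgroup.mem_iSup_of_mem u (Subgroup.mem_iSup_of_mem ⟨hu, hu1⟩ hh)
    · exact Subgroup.mem_centralizer_iff.mpr fun a ha => (hhU a ha).symm
    · rw [(hLu.comm h hh x hxQ).resolve_left fun he => hhx (mul_inv_eq_iff_eq_mul.mp he),
        hLu.commute_self x hxQ]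

end Cfsg.Agent.S5597
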