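import Cfsg.Statements.S5598
import Cfsg.Agent.Lib.Sporadic.SingularInvolutions

set_option autoImplicit false
open Cfsg

namespace Cfsg.Agent.S5598

/-- Setting: `z` is an involution of the finite group `G`; for each element `x`, `Q x` is the largest normal 2-subgroup of the centralizer of `x`; `Q z` is extraspecial and contains its own centralizer in `G`. A subgroup `U` is singular when it is elementary abelian, every non-identity element of `U` is conjugate to `z`, and any two non-identity elements `u`, `v` of `U` are orthogonal (`v ∈ Q u`). Write `QU` for the intersection of the `Q u` and `LU` for the join of the `Q u` over the non-identity `u` in `U`. If the singular subgroup `U` is generated by a set `T` of non-identity elements, then `QU` is already the intersection of the `Q t` over `t ∈ T`. -/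
theorem result {G : Type*} [Group G] [Finite G]
    (Q : G → Subgroup G)
    (hQ : ∀ x : G, Q x = (Cfsg.pCore 2 ↥(Subgroup.centralizer ({x} : Set G))).map (Subgroup.centralizer ({x} : Set G)).subtype)
    (z : G) (hz : orderOf z = 2) (hE : Cfsg.IsExtraspecial 2 ↥(Q z))
    (hC : Subgroup.centralizer ((Q z : Subgroup G) : Set G) ≤ Q z)
    (U : Subgroup G) (hU2 : ∀ u ∈ U, u * u = 1)
    (hS : ∀ u ∈ U, u ≠ 1 → ∃ g : G, g * z * g⁻¹ = u)
    (hO : ∀ u ∈ U, ∀ v ∈ U, u ≠ 1 → v ≠ 1 → v ∈ Q u)
    (QU LU : Subgroup G) (hQU : QU = ⨅ u ∈ ((U : Set G) \ {1}), Q u) (hLU : LU = ⨆ u ∈ ((U : Set G) \ {1}), Q u)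
    (T : Set G) (hT : Subgroup.closure T = U) (hT1 : (1 : G) ∉ T) :
    QU = ⨅ t ∈ T, Q t := by
  have hLz := CfsgLib.Sporadic.Singular.large_of_extraspecial Q hQ z hz hE hC
  have heq := CfsgLib.Sporadic.Singular.equivariant_of_eq Q hQ
  have hTU : ∀ t ∈ T, t ∈ U := fun t ht => hT ▸ Subgroup.subset_closure ht
  rw [hQU]
  refine le_antisymm (le_iInf₂ fun t ht => iInf₂_le t ⟨hTU t ht, fun h => hT1 ((Set.mem_singleton_iff.mp h) ▸ ht)⟩)
    (fun a ha => ?_)
  simp only [Subgroup.mem_iInf] at ha ⊢
  have key : ∀ u ∈ Subgroup.closure T, u = 1 ∨ a ∈ Q u := by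
    intro u hu
    induction hu using Subgroup.closure_induction with
    | mem t ht => exact Or.inr (ha t ht)
    | one => exact Or.inl rfl
    | inv t ht iht =>
      rw [hT] at ht
      rw [inv_eq_of_mul_eq_one_right (hU2 t ht)]
      exact iht
    | mul u v hu hv ihu ihv =>
      rw [hT] at hu hv
      by_cases hu1 : u = 1
      · rw [hu1, one_mul]; exact ihv
      by_cases hv1 : v = 1
      · rw [hv1, mul_one]; exact ihu
      by_cases hvu : v = u
      · exact Or.inl (by rw [hvu, hU2 u hu])
      right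
      obtain ⟨g, hg⟩ := hS u hu hu1
      have hw : u * v ≠ 1 := fun h => hvu (by
        rw [← inv_eq_of_mul_eq_one_right h, inv_eq_of_mul_eq_one_right (hU2 u hu)])
      exact (hg ▸ hLz.conjugate heq g).mem_of_mem_pair heq (hO u hu v hv hu1 hv1) hv1 hvu
        (hO _ (U.mul_mem hu hv) u hu hw hu1) (ihu.resolve_left hu1) (ihv.resolve_left hv1)
  rintro u ⟨huU, hu1⟩
  exact (key u (hT.symm ▸ huU)).resolve_left hu1

end Cfsg.Agent.S5598
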