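import Cfsg.Statements.S5599
import Cfsg.Agent.Lib.Golay.Mathieu
-- import your own Cfsg.Agent.* helpers here

set_option autoImplicit false
open scoped Pointwise
open Cfsg

open CfsgLib.Golay
open scoped Pointwise

namespace Cfsg.Agent.S5599

theorem mem_M22_iff {g : Equiv.Perm Cfsg.GolayPt} :
    g ∈ Cfsg.Spor.M22 ↔ g ∈ Cfsg.M24 ∧ g (some 0) = some 0 ∧ g none = none := by
  rw [spor_M22_eq, mem_fixPts]
  simp only [List.forall_mem_cons, List.not_mem_nil, IsEmpty.forall_iff, implies_true, and_true]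

theorem mem_pair_stab {g : Equiv.Perm Cfsg.GolayPt} :
    g ∈ Cfsg.M24 ⊓ MulAction.stabilizer (Equiv.Perm Cfsg.GolayPt) ({none, some 0} : Finset Cfsg.GolayPt) ↔
      g ∈ Cfsg.M24 ∧ ((g none = none ∧ g (some 0) = some 0) ∨ (g none = some 0 ∧ g (some 0) = none)) := by
  rw [Subgroup.mem_inf, MulAction.mem_stabilizer_iff]
  refine and_congr_right fun _ => ⟨fun h => ?_, fun h => ?_⟩
  · have h1 : g none ∈ ({none, some 0} : Finset Cfsg.GolayPt) := by
      rw [← h]; exact Finset.smul_mem_smul_finset (by simp)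
    have h2 : g (some 0) ∈ ({none, some 0} : Finset Cfsg.GolayPt) := by
      rw [← h]; exact Finset.smul_mem_smul_finset (by simp)
    have h3 : g none ≠ g (some 0) := fun e => by simpa using g.injective e
    simp only [Finset.mem_insert, Finset.mem_singleton] at h1 h2
    rcases h1 with a | a <;> rcases h2 with b | b <;> simp_all
  · rcases h with ⟨a, b⟩ | ⟨a, b⟩ <;>
      simp [Finset.smul_finset_insert, Finset.smul_finset_singleton, a, b, Finset.pair_comm]

/-- In the automorphism group of the length-24 code, the two-point Mathieu group (permutations of the code's group fixing the extra point and the residue 0) has index 2 in the setwise stabiliser of that pair of points, and an element of the code's group interchanging the two points normalises the two-point group and induces on it, by conjugation, an automorphism that is not inner. -/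
theorem result (g : Equiv.Perm Cfsg.GolayPt) (hg : g ∈ Cfsg.M24) (h₁ : g none = some 0) (h₂ : g (some 0) = none) : Cfsg.Spor.M22.relIndex (Cfsg.M24 ⊓ MulAction.stabilizer (Equiv.Perm Cfsg.GolayPt) ({none, some 0} : Finset Cfsg.GolayPt)) = 2 ∧ (∀ x ∈ Cfsg.Spor.M22, g * x * g⁻¹ ∈ Cfsg.Spor.M22) ∧ ¬ ∃ h ∈ Cfsg.Spor.M22, ∀ x ∈ Cfsg.Spor.M22, g * x * g⁻¹ = h * x * h⁻¹ := by
  have hgi1 : g⁻¹ none = some 0 := by rw [← h₂, perm_inv_apply]
  have hgi2 : g⁻¹ (some 0) = none := by rw [← h₁, perm_inv_apply]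
  refine ⟨?_, fun x hx => ?_, ?_⟩
  · rw [Subgroup.relIndex, Subgroup.index_eq_two_iff]
    refine ⟨⟨g, mem_pair_stab.2 ⟨hg, Or.inr ⟨h₁, h₂⟩⟩⟩, fun b => ?_⟩
    obtain ⟨b, hb⟩ := b
    obtain ⟨hbM, hcase⟩ := mem_pair_stab.1 hb
    simp only [Subgroup.mem_subgroupOf, Subgroup.coe_mul, mem_M22_iff, Equiv.Perm.mul_apply, h₁, h₂]
    rcases hcase with ⟨a, a'⟩ | ⟨a, a'⟩
    · exact Or.inr ⟨⟨hbM, a', a⟩, fun h => absurd (a.symm.trans h.2.1) (by simp)⟩
    · exact Or.inl ⟨⟨mul_mem hbM hg, a, a'⟩, fun h => absurd (a'.symm.trans h.2.1) (by simp)⟩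
  · rw [mem_M22_iff] at hx ⊢
    exact ⟨mul_mem (mul_mem hg hx.1) (inv_mem hg),
      by rw [Equiv.Perm.mul_apply, Equiv.Perm.mul_apply, hgi2, hx.2.2, h₁],
      by rw [Equiv.Perm.mul_apply, Equiv.Perm.mul_apply, hgi1, hx.2.1, h₂]⟩
  · rintro ⟨h, hh, hconj⟩
    set c := h⁻¹ * g with hc
    obtain ⟨hhM, hh0, hhn⟩ := mem_M22_iff.1 hh
    have hcM : c ∈ Cfsg.M24 := mul_mem (inv_mem hhM) hg
    have hcn : c none = some 0 := by
      rw [hc, Equiv.Perm.mul_apply, h₁]; conv_lhs => rw [← hh0]
      rw [perm_inv_apply]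
    have hc0 : c (some 0) = none := by
      rw [hc, Equiv.Perm.mul_apply, h₂]; conv_lhs => rw [← hhn]
      rw [perm_inv_apply]
    have hcomm : ∀ x ∈ Cfsg.Spor.M22, c * x = x * c := fun x hx => by
      have e := hconj x hx
      rw [mul_inv_eq_iff_eq_mul] at e
      rw [hc, mul_assoc, e]; group
    have hfix : ∀ p, p ≠ none → p ≠ some 0 → c p = p := by
      intro p hp hp'
      by_contra hne
      have hq : c p ≠ none := fun e => hp' (c.injective (e.trans hc0.symm))
      have hq' : c p ≠ some 0 := fun e => hp (c.injective (e.trans hcn.symm))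
      obtain ⟨r, hr⟩ : ∃ r, r ∉ [none, some 0, p, c p] := by
        by_contra hall
        push Not at hall
        have := Finset.card_le_card (s := Finset.univ) (t := [none, some 0, p, c p].toFinset)
          fun x _ => List.mem_toFinset.2 (hall x)
        rw [Finset.card_univ] at this
        exact absurd (this.trans (List.toFinset_card_le _)) (by simp [Fintype.card_option, ZMod.card])
      simp only [List.mem_cons, List.not_mem_nil, or_false, not_or] at hr
      obtain ⟨x, hx, hxm⟩ := exists_map_M24 (xs := [none, some 0, p, c p])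
        (ys := [none, some 0, p, r])
        (by simp [Ne.symm hp, Ne.symm hp', Ne.symm hq, Ne.symm hq', Ne.symm hne])
        (by simp [Ne.symm hp, Ne.symm hp', Ne.symm hr.1, Ne.symm hr.2.1, Ne.symm hr.2.2.1])
        rfl (by simp)
      simp only [List.map_cons, List.map_nil, List.cons.injEq, and_true] at hxm
      have e := congrArg (fun σ : Equiv.Perm Cfsg.GolayPt => σ p)
        (hcomm x (mem_M22_iff.2 ⟨hx, hxm.2.1, hxm.1⟩))
      simp only [Equiv.Perm.mul_apply, hxm.2.2.1, hxm.2.2.2] at e
      exact hr.2.2.2 e.symm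
    obtain ⟨u, hu, hum⟩ := exists_map_M24 (xs := [none, some 0])
      (ys := [(some 7 : Cfsg.GolayPt), some 8]) (by simp) (by decide +kernel) rfl (by simp)
    simp only [List.map_cons, List.map_nil, List.cons.injEq, and_true] at hum
    have h1 : u * c * u⁻¹ ∈
        fixPts Cfsg.M24 [some 4, some 5, some 3, some 2, some 1, some 0, none] := by
      refine mem_fixPts.2 ⟨mul_mem (mul_mem hu hcM) (inv_mem hu), fun x hx => ?_⟩
      have hx' : x ≠ some 7 ∧ x ≠ some 8 := by revert x; decide +kernel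
      rw [Equiv.Perm.mul_apply, Equiv.Perm.mul_apply, hfix (u⁻¹ x)
        (fun e => hx'.1 (by rw [← perm_apply_inv u x, e, hum.1]))
        (fun e => hx'.2 (by rw [← perm_apply_inv u x, e, hum.2])), perm_apply_inv]
    rw [fixPts_base7, Subgroup.mem_bot, conj_eq_one_iff] at h1
    rw [h1, Equiv.Perm.one_apply] at hcn
    exact absurd hcn (by simp)

end Cfsg.Agent.S5599
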