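import Cfsg.Statements.S5600
import Cfsg.Agent.Lib.M24Elt.SixData
-- import your own Cfsg.Agent.* helpers here

set_option autoImplicit false
open scoped Pointwise
open Cfsg

open CfsgLib.M24Elt CfsgLib.Golay
open scoped Pointwise

namespace Cfsg.Agent.S5600

theorem transversal_checks :
    (fixFiveIn.all (fun c => good c && [23, 0, 1, 2, 3].all fun b => Nat.beq (app c b) b) &&
    fixFiveOut.all (fun c => good c && [23, 0, 1, 2, 3].all fun b => Nat.beq (app c b) b) &&
    allLt 24 (fun j => !(Nat.testBit 147488 j) || fixFiveIn.any fun c => Nat.beq (app c 5) j) &&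
    allLt 24 (fun j => !(Nat.testBit 8241104 j) || fixFiveOut.any fun c => Nat.beq (app c 4) j)) = true := by
  decide +kernel

theorem six_checks :
    ((moves rotInCode sixIn rotIn && moves swapInCode sixIn swapIn) &&
    (moves rotOutCode sixOut rotOut && moves swapOutCode sixOut swapOut)) = true := by
  decide +kernel

theorem six_tables : ∀ i : Fin 6,
    (rotIn.getD i 0 = sixIn.getD ((finRotate 6 i : Fin 6) : ℕ) 0 ∧
      swapIn.getD i 0 = sixIn.getD ((Equiv.swap 0 1 i : Fin 6) : ℕ) 0) ∧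
    (rotOut.getD i 0 = sixOut.getD ((finRotate 6 i : Fin 6) : ℕ) 0 ∧
      swapOut.getD i 0 = sixOut.getD ((Equiv.swap 0 1 i : Fin 6) : ℕ) 0) := by decide +kernel

theorem five_points {g : Equiv.Perm Cfsg.GolayPt} {c : ℕ} (hc : good c = true) (he : pm c = g)
    (h : ([23, 0, 1, 2, 3].all fun b => Nat.beq (app c b) b) = true) :
    g ∈ fixPts Cfsg.M24 [some 3, some 2, some 1, some 0, none] := by
  subst he
  refine mem_fixPts.2 ⟨pm_mem hc, fun x hx => bit_injective ?_⟩
  rw [← isPermOf_pm (good_ok hc)]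
  have hb : bit x ∈ [23, 0, 1, 2, 3] := by revert x; decide +kernel
  exact Nat.eq_of_beq_eq_true (List.all_eq_true.1 h _ hb)

theorem low_in : ∀ x ∈ toSet 147488,
    ∃ t, t ∈ fixPts Cfsg.M24 [some 3, some 2, some 1, some 0, none] ∧ t (some 5) = x := by
  intro x hx
  have h := transversal_checks
  simp only [Bool.and_eq_true] at h
  have h2 := allLt_spec h.1.2 _ (bit_lt x)
  rw [mem_toSet.1 hx, Bool.not_true, Bool.false_or, List.any_eq_true] at h2
  obtain ⟨c, hc, hce⟩ := h2
  have h3 := List.all_eq_true.1 h.1.1.1 c hc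
  rw [Bool.and_eq_true] at h3
  refine ⟨pm c, five_points h3.1 rfl h3.2, bit_injective ?_⟩
  rw [← isPermOf_pm (good_ok h3.1)]
  exact Nat.eq_of_beq_eq_true hce

theorem low_out : ∀ x ∈ toSet 8241104,
    ∃ t, t ∈ fixPts Cfsg.M24 [some 3, some 2, some 1, some 0, none] ∧ t (some 4) = x := by
  intro x hx
  have h := transversal_checks
  simp only [Bool.and_eq_true] at h
  have h2 := allLt_spec h.2 _ (bit_lt x)
  rw [mem_toSet.1 hx, Bool.not_true, Bool.false_or, List.any_eq_true] at h2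
  obtain ⟨c, hc, hce⟩ := h2
  have h3 := List.all_eq_true.1 h.1.1.2 c hc
  rw [Bool.and_eq_true] at h3
  refine ⟨pm c, five_points h3.1 rfl h3.2, bit_injective ?_⟩
  rw [← isPermOf_pm (good_ok h3.1)]
  exact Nat.eq_of_beq_eq_true hce

theorem card_fix_out :
    Nat.card (fixPts Cfsg.M24 [some 4, some 3, some 2, some 1, some 0, none]) = 3 := by
  have h := card_fixPts_step (b := (some 4 : Cfsg.GolayPt)) (Δ := toSet 8241104)
    (fun g hg => ?_) low_out
  · rw [card_fix5, card_toSet, ← pc24_eq, show pc24 8241104 = 16 by decide +kernel] at h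
    omega
  · rw [mask_eqs.2.2.2.2.2.2, Finset.mem_filter]
    refine ⟨Finset.mem_univ _, fun h => ?_⟩
    rw [← octad0_fixed (mem_base5_of (by decide) hg), ← Equiv.Perm.smul_def,
      Finset.smul_mem_smul_finset_iff] at h
    exact absurd h (by decide +kernel)

/-- The six-set as the image of one of the two standard sequences. -/
theorem exists_frame {E : Finset Cfsg.GolayPt} (hE : E.card = 6) :
    ∃ u ∈ Cfsg.M24,
      ((∃ o ∈ Cfsg.octads, E ⊆ o) ∧ E = u • toSet 8388655) ∨
      ((¬ ∃ o ∈ Cfsg.octads, E ⊆ o) ∧ E = u • toSet 8388639) := by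
  obtain ⟨p, hp⟩ := Finset.card_pos.1 (by omega : 0 < E.card)
  have hs : (E.erase p).card = 5 := by rw [Finset.card_erase_of_mem hp, hE]
  obtain ⟨g, hg, hgm⟩ := exists_map_M24 (xs := base5) (ys := (E.erase p).toList) (by decide)
    (Finset.nodup_toList _) (by rw [Finset.length_toList, hs]; rfl) (by simp [base5])
  have hfive : g • base5.toFinset = E.erase p := by
    ext x
    rw [← Finset.mem_toList (s := E.erase p), ← hgm, Finset.mem_smul_finset, List.mem_map]
    simp only [List.mem_toFinset, Equiv.Perm.smul_def]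
  have hEq : E = g • insert (g⁻¹ p) base5.toFinset := by
    rw [Finset.smul_finset_insert, hfive, Equiv.Perm.smul_def, perm_apply_inv, Finset.insert_erase hp]
  have hq : g⁻¹ p ∉ base5.toFinset := fun h => by
    have := Finset.smul_mem_smul_finset (a := g) h
    rw [hfive, Equiv.Perm.smul_def, perm_apply_inv] at this
    exact Finset.notMem_erase p E this
  have hb5 : base5.toFinset ⊆ octad0 := by decide +kernel
  have fin : ∀ {t : Equiv.Perm Cfsg.GolayPt} {x : Cfsg.GolayPt} {m : ℕ},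
      t ∈ fixPts Cfsg.M24 [some 3, some 2, some 1, some 0, none] → t x = g⁻¹ p →
      toSet m = insert x base5.toFinset → E = (g * t) • toSet m := by
    intro t x m ht htx hm
    rw [hEq, mul_smul, hm, Finset.smul_finset_insert (a := t), Equiv.Perm.smul_def, htx]
    congr 2
    refine (Finset.eq_of_subset_of_card_le (fun y hy => ?_) ?_)
    · refine Finset.mem_smul_finset.2 ⟨y, hy, ht.2 y ?_⟩
      revert y; decide +kernel
    · rw [Finset.card_smul_finset]
  by_cases hin : g⁻¹ p ∈ octad0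
  · obtain ⟨t, ht, htx⟩ := low_in (g⁻¹ p) (by
      rw [mask_eqs.2.2.2.2.2.1, Finset.mem_filter]
      refine ⟨hin, fun h => hq (List.mem_toFinset.2 ?_)⟩
      exact (by decide : ∀ q : Cfsg.GolayPt,
        q ∈ [(some 3 : Cfsg.GolayPt), some 2, some 1, some 0, none] → q ∈ base5) _ h)
    refine ⟨g * t, mul_mem hg ht.1, Or.inl ⟨⟨g • octad0, (M24_smul_mem_octads hg).2 octad0_mem, ?_⟩,
      fin ht htx (by decide +kernel)⟩⟩
    rw [hEq]
    exact Finset.smul_finset_subset_smul_finset (Finset.insert_subset hin hb5)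
  · obtain ⟨t, ht, htx⟩ := low_out (g⁻¹ p) (by
      rw [mask_eqs.2.2.2.2.2.2, Finset.mem_filter]; exact ⟨Finset.mem_univ _, hin⟩)
    refine ⟨g * t, mul_mem hg ht.1, Or.inr ⟨?_, fin ht htx (by decide +kernel)⟩⟩
    rintro ⟨o, ho, hsub⟩
    refine hin ?_
    have hsub' : insert (g⁻¹ p) base5.toFinset ⊆ g⁻¹ • o := by
      have := Finset.smul_finset_subset_smul_finset (a := g⁻¹) hsub
      rwa [hEq, inv_smul_smul] at this
    have he : g⁻¹ • o = octad0 := by
      refine octad_eq_of_five ((M24_smul_mem_octads (inv_mem hg)).2 ho) octad0_mem ?_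
      refine le_trans (by decide +kernel : 5 ≤ base5.toFinset.card) (Finset.card_le_card ?_)
      exact Finset.subset_inter ((Finset.subset_insert _ _).trans hsub') hb5
    exact he ▸ hsub' (Finset.mem_insert_self _ _)

/-- The action on a six-set framed by a standard sequence. -/
theorem frame_action {E : Finset Cfsg.GolayPt} {u : Equiv.Perm Cfsg.GolayPt} (hu : u ∈ Cfsg.M24)
    {m cr cs : ℕ} {pts rot sw : List ℕ} {l : List Cfsg.GolayPt} {N : ℕ}
    (hr : moves cr pts rot = true) (hs : moves cs pts sw = true)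
    (htab : ∀ i : Fin 6, rot.getD i 0 = pts.getD ((finRotate 6 i : Fin 6) : ℕ) 0 ∧
      sw.getD i 0 = pts.getD ((Equiv.swap 0 1 i : Fin 6) : ℕ) 0)
    (hm : ∀ p, p ∈ toSet m ↔ ∃ i : Fin 6, CfsgLib.Golay.pt (pts.getD i 0) = p)
    (hinj : Function.Injective fun i : Fin 6 => CfsgLib.Golay.pt (pts.getD i 0))
    (hl : ∀ p, p ∈ l ↔ p ∈ toSet m) (hN : Nat.card (fixPts Cfsg.M24 l) = N)
    (hE : E = u • toSet m) :
    (∀ σ : Equiv.Perm ↥E, ∃ g ∈ Cfsg.M24, ∀ p : ↥E, g p = σ p) ∧
      Nat.card {g : Equiv.Perm Cfsg.GolayPt // g ∈ Cfsg.M24 ∧ ∀ p ∈ E, g p = p} = N ∧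
      Nat.card ↥(MulAction.stabilizer Cfsg.M24 E) = 720 * N := by
  let L : Fin 6 → Cfsg.GolayPt := fun i => u (CfsgLib.Golay.pt (pts.getD i 0))
  have hL : Function.Injective L := u.injective.comp hinj
  have hmem : ∀ p, p ∈ E ↔ ∃ i, L i = p := by
    intro p
    rw [hE, ← Finset.inv_smul_mem_iff, hm]
    refine exists_congr fun i => ⟨fun e => ?_, fun e => ?_⟩
    · show u _ = p; rw [e, Equiv.Perm.smul_def, perm_apply_inv]
    · rw [← e, Equiv.Perm.smul_def, perm_inv_apply]
  have wit : ∀ {c : ℕ} {tgt : List ℕ} {σ : Equiv.Perm (Fin 6)}, moves c pts tgt = true →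
      (∀ i : Fin 6, tgt.getD i 0 = pts.getD ((σ i : Fin 6) : ℕ) 0) →
      ∃ g ∈ MulAction.stabilizer ↥Cfsg.M24 E,
        ∀ i, ((g : ↥Cfsg.M24) : Equiv.Perm Cfsg.GolayPt) (L i) = L (σ i) := by
    intro c tgt σ hc ht
    have hgood : good c = true := by
      simp only [moves, Bool.and_eq_true] at hc; exact hc.1.1.1
    have himg : ∀ i, (u * pm c * u⁻¹) (L i) = L (σ i) := fun i => by
      show u (pm c (u⁻¹ (u _))) = u _
      rw [perm_inv_apply, moves_spec hc i, ht i]
    refine ⟨⟨u * pm c * u⁻¹, mul_mem (mul_mem hu (pm_mem hgood)) (inv_mem hu)⟩, ?_, himg⟩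
    show (u * pm c * u⁻¹) • E = E
    refine Finset.eq_of_subset_of_card_le (fun p hp => ?_) (by rw [Finset.card_smul_finset])
    obtain ⟨q, hq, rfl⟩ := Finset.mem_smul_finset.1 hp
    obtain ⟨i, rfl⟩ := (hmem q).1 hq
    exact (hmem _).2 ⟨σ i, (himg i).symm⟩
  obtain ⟨f, hf, hfL⟩ := exists_hom_six hL (K := MulAction.stabilizer ↥Cfsg.M24 E) (fun g hg i => by
      have hgE : (g : Equiv.Perm Cfsg.GolayPt) • E = E := hg
      obtain ⟨j, hj⟩ := (hmem ((g : Equiv.Perm Cfsg.GolayPt) (L i))).1 (by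
        rw [← hgE]; exact Finset.smul_mem_smul_finset ((hmem _).2 ⟨i, rfl⟩))
      exact ⟨j, hj.symm⟩)
    (wit hr fun i => (htab i).1) (wit hs fun i => (htab i).2)
  have hfixE : ∀ g : Equiv.Perm Cfsg.GolayPt, (∀ p ∈ E, g p = p) → g • E = E := fun g hg => by
    refine (Finset.eq_of_subset_of_card_le (fun p hp => ?_) ?_).symm
    · exact Finset.mem_smul_finset.2 ⟨p, hp, hg p hp⟩
    · rw [Finset.card_smul_finset]
  have hpt : Nat.card {g : Equiv.Perm Cfsg.GolayPt // g ∈ Cfsg.M24 ∧ ∀ p ∈ E, g p = p} = N := by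
    rw [← hN]
    refine Nat.card_congr
      { toFun := fun g => ⟨u⁻¹ * g.1 * u, mul_mem (mul_mem (inv_mem hu) g.2.1) hu, fun x hx => ?_⟩
        invFun := fun g => ⟨u * g.1 * u⁻¹, mul_mem (mul_mem hu g.2.1) (inv_mem hu), fun p hp => ?_⟩
        left_inv := fun g => Subtype.ext (by group)
        right_inv := fun g => Subtype.ext (by group) }
    · have := g.2.2 (u x) (by rw [hE]; exact Finset.smul_mem_smul_finset ((hl x).1 hx))
      rw [Equiv.Perm.mul_apply, Equiv.Perm.mul_apply, this, perm_inv_apply]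
    · rw [hE, ← Finset.inv_smul_mem_iff] at hp
      have := g.2.2 _ ((hl _).2 hp)
      rw [Equiv.Perm.smul_def] at this
      rw [Equiv.Perm.mul_apply, Equiv.Perm.mul_apply, this, perm_apply_inv]
  refine ⟨fun σ => ?_, hpt, ?_⟩
  · let φ : Fin 6 ≃ ↥E := Equiv.ofBijective (fun i => ⟨L i, (hmem _).2 ⟨i, rfl⟩⟩)
      ⟨fun i j e => hL (congrArg Subtype.val e), fun p => by
        obtain ⟨i, hi⟩ := (hmem p).1 p.2; exact ⟨i, Subtype.ext hi⟩⟩
    obtain ⟨g, hg⟩ := hf ((φ.trans σ).trans φ.symm)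
    refine ⟨((g : ↥Cfsg.M24) : Equiv.Perm Cfsg.GolayPt), (g : ↥Cfsg.M24).2, fun p => ?_⟩
    obtain ⟨i, rfl⟩ := φ.surjective p
    show ((g : ↥Cfsg.M24) : Equiv.Perm Cfsg.GolayPt) (L i) = _
    rw [hfL g i, hg]
    show L (φ.symm (σ (φ i))) = _
    exact congrArg Subtype.val (φ.apply_symm_apply (σ (φ i)))
  · rw [← Subgroup.index_mul_card f.ker, Subgroup.index_ker, MonoidHom.range_eq_top.2 hf,
      Subgroup.card_top, Nat.card_perm, Nat.card_fin, ← hpt]
    congr 1
    refine Nat.card_congr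
      { toFun := fun g => ⟨((g.1.1 : ↥Cfsg.M24) : Equiv.Perm Cfsg.GolayPt), g.1.1.2, fun p hp => ?_⟩
        invFun := fun g => ⟨⟨⟨g.1, g.2.1⟩, hfixE g.1 g.2.2⟩, ?_⟩
        left_inv := fun g => rfl
        right_inv := fun g => rfl }
    · obtain ⟨i, rfl⟩ := (hmem p).1 hp
      rw [hfL g.1 i, (MonoidHom.mem_ker).1 g.2]; rfl
    · refine MonoidHom.mem_ker.2 (Equiv.ext fun i => hL ?_)
      refine (hfL _ i).symm.trans ?_
      exact g.2.2 _ ((hmem _).2 ⟨i, rfl⟩)

/-- Although the group of the length-24 code is only 5-transitive on the 24 points, it induces the full symmetric group on every 6-element subset: every permutation of a 6-set E is the restriction of an element of the group mapping E to itself. The pointwise stabiliser of E has order 16 when E lies in an octad and order 3 otherwise; in the latter case the setwise stabiliser of E has order 2160. -/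
theorem result (E : Finset Cfsg.GolayPt) (hE : E.card = 6) : (∀ σ : Equiv.Perm ↥E, ∃ g ∈ Cfsg.M24, ∀ p : ↥E, g p = σ p) ∧ ((∃ o ∈ Cfsg.octads, E ⊆ o) → Nat.card {g : Equiv.Perm Cfsg.GolayPt // g ∈ Cfsg.M24 ∧ ∀ p ∈ E, g p = p} = 16) ∧ ((¬ ∃ o ∈ Cfsg.octads, E ⊆ o) → Nat.card {g : Equiv.Perm Cfsg.GolayPt // g ∈ Cfsg.M24 ∧ ∀ p ∈ E, g p = p} = 3 ∧ Nat.card ↥(MulAction.stabilizer Cfsg.M24 E) = 2160) := by
  have hs := six_checks
  simp only [Bool.and_eq_true] at hs
  obtain ⟨u, hu, ⟨hin, he⟩ | ⟨hout, he⟩⟩ := exists_frame hE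
  · obtain ⟨h1, h2, -⟩ := frame_action (l := [some 5, some 3, some 2, some 1, some 0, none]) hu
      hs.1.1 hs.1.2 (fun i => (six_tables i).1) (by decide +kernel) (by decide +kernel)
      (by decide +kernel) card_fix6 he
    exact ⟨h1, fun _ => h2, fun h => absurd hin h⟩
  · obtain ⟨h1, h2, h3⟩ := frame_action (l := [some 4, some 3, some 2, some 1, some 0, none]) hu
      hs.2.1 hs.2.2 (fun i => (six_tables i).2) (by decide +kernel) (by decide +kernel)
      (by decide +kernel) card_fix_out he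
    exact ⟨h1, fun h => absurd h hout, fun _ => ⟨h2, by rw [h3]⟩⟩

end Cfsg.Agent.S5600
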