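import Cfsg.Statements.S5601
import Cfsg.Agent.Lib.M24Elt.Classes

set_option autoImplicit false
open Cfsg
open scoped Pointwise

namespace Cfsg.Agent.S5601

open CfsgLib.M24Elt CfsgLib.Comp CfsgLib.Golay

theorem exists_gen {X : Subgroup ↥Cfsg.M24} (hX : Nat.card X = 3) :
    ∃ g : ↥Cfsg.M24, X = Subgroup.zpowers g ∧ orderOf (g : Equiv.Perm GolayPt) = 3 := by
  haveI : Fact (Nat.Prime 3) := ⟨Nat.prime_three⟩
  have hne : X ≠ ⊥ := by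
    rintro rfl
    rw [Subgroup.card_bot] at hX
    omega
  obtain ⟨g, hg, hg1⟩ := X.bot_or_exists_ne_one.resolve_left hne
  have ho : orderOf g = 3 := by
    have h1 : (⟨g, hg⟩ : X) ^ 3 = 1 := by rw [← hX]; exact pow_card_eq_one'
    exact orderOf_eq_prime (congrArg Subtype.val h1) hg1
  refine ⟨g, (Subgroup.eq_of_le_of_card_ge (Subgroup.zpowers_le.2 hg) ?_).symm, ?_⟩
  · rw [Nat.card_zpowers, ho, hX]
  · rw [Subgroup.orderOf_coe, ho]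

theorem fix_ncard (g : ↥Cfsg.M24) :
    {p : Cfsg.GolayPt | ∀ x ∈ Subgroup.zpowers g, ((x : ↥Cfsg.M24) : Equiv.Perm Cfsg.GolayPt) p = p}.ncard =
      fixCard (g : Equiv.Perm GolayPt) := by
  rw [fixCard, ← Set.ncard_coe_finset]
  congr 1
  ext p
  simp only [Finset.coe_filter, Finset.mem_univ, true_and, Set.mem_ofPred_eq]
  constructor
  · exact fun h => h g (Subgroup.mem_zpowers g)
  · intro h x hx
    obtain ⟨n, rfl⟩ := Subgroup.mem_zpowers_iff.1 hx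
    rw [SubgroupClass.coe_zpow]
    exact Equiv.Perm.zpow_apply_eq_self_of_apply_eq_self h n

theorem result : (∀ X : Subgroup ↥Cfsg.M24, Nat.card X = 3 → {p : Cfsg.GolayPt | ∀ x ∈ X, ((x : ↥Cfsg.M24) : Equiv.Perm Cfsg.GolayPt) p = p}.ncard = 6 ∨ {p : Cfsg.GolayPt | ∀ x ∈ X, ((x : ↥Cfsg.M24) : Equiv.Perm Cfsg.GolayPt) p = p}.ncard = 0) ∧ (∃ X : Subgroup ↥Cfsg.M24, Nat.card X = 3 ∧ {p : Cfsg.GolayPt | ∀ x ∈ X, ((x : ↥Cfsg.M24) : Equiv.Perm Cfsg.GolayPt) p = p}.ncard = 6) ∧ (∃ X : Subgroup ↥Cfsg.M24, Nat.card X = 3 ∧ {p : Cfsg.GolayPt | ∀ x ∈ X, ((x : ↥Cfsg.M24) : Equiv.Perm Cfsg.GolayPt) p = p}.ncard = 0) ∧ ∀ X Y : Subgroup ↥Cfsg.M24, Nat.card X = 3 → Nat.card Y = 3 → {p : Cfsg.GolayPt | ∀ x ∈ X, ((x : ↥Cfsg.M24) : Equiv.Perm Cfsg.GolayPt) p = p}.ncard = {p : Cfsg.GolayPt | ∀ x ∈ Y, ((x : ↥Cfsg.M24) : Equiv.Perm Cfsg.GolayPt) p = p}.ncard → ∃ k : ↥Cfsg.M24, MulAut.conj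 k • X = Y := by
  haveI : Fact (Nat.Prime 3) := ⟨Nat.prime_three⟩
  have hex : ∀ r f, good r = true → isOne (powc r 3) = true → isOne r = false → fixN r = f →
      ∃ X : Subgroup ↥Cfsg.M24, Nat.card X = 3 ∧ {p : Cfsg.GolayPt | ∀ x ∈ X, ((x : ↥Cfsg.M24) : Equiv.Perm Cfsg.GolayPt) p = p}.ncard = f := by
    intro r f hr h3 h1 hf
    refine ⟨Subgroup.zpowers ⟨pm r, pm_mem hr⟩, ?_, ?_⟩
    · rw [Nat.card_zpowers, ← Subgroup.orderOf_coe]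
      exact orderOf_pm (good_ok hr) h3 h1
    · rw [fix_ncard, fixCard_pm (good_ok hr), hf]
  refine ⟨?_, hex ClassData.rep3_6 6 rep_goods.2.2.1 (by decide +kernel) (by decide +kernel) (by decide +kernel),
    hex ClassData.rep3_0 0 rep_goods.2.2.2 (by decide +kernel) (by decide +kernel) (by decide +kernel), ?_⟩
  · intro X hX
    obtain ⟨g, rfl, hg⟩ := exists_gen hX
    rw [fix_ncard]
    rcases three_class g.2 hg with ⟨h, -⟩ | ⟨h, -⟩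
    exacts [Or.inl h, Or.inr h]
  · intro X Y hX hY hXY
    obtain ⟨g, rfl, hg⟩ := exists_gen hX
    obtain ⟨h, rfl, hh⟩ := exists_gen hY
    rw [fix_ncard, fix_ncard] at hXY
    obtain ⟨k, hk, hkg⟩ : ∃ k ∈ Cfsg.M24, k * (g : Equiv.Perm GolayPt) * k⁻¹ = h := by
      rcases three_class g.2 hg with ⟨a, u, hu, hue⟩ | ⟨a, u, hu, hue⟩ <;>
        rcases three_class h.2 hh with ⟨b, v, hv, hve⟩ | ⟨b, v, hv, hve⟩ <;>
        first
        | omega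
        | exact ⟨v * u⁻¹, mul_mem hv (inv_mem hu), by rw [← hve, ← hue]; group⟩
    refine ⟨⟨k, hk⟩, ?_⟩
    have e : (MulAut.conj (⟨k, hk⟩ : ↥Cfsg.M24)) g = h := Subtype.ext hkg
    rw [← e]
    exact MonoidHom.map_zpowers (MulAut.conj (⟨k, hk⟩ : ↥Cfsg.M24)).toMonoidHom g

end Cfsg.Agent.S5601
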