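import Cfsg.Statements.S5607
import Cfsg.Agent.Lib.M24Elt.Centralisers
-- import your own Cfsg.Agent.* helpers here

set_option autoImplicit false
open scoped Pointwise
open Cfsg

open CfsgLib.Golay CfsgLib.M24Elt
open scoped Pointwise

namespace Cfsg.Agent.S5607

theorem points_check : (Nat.beq CentData.cent0Points.length 24 && allLt 24 (fun j =>
    good (CentData.cent0Points.getD j 0) &&
    eqc (CfsgLib.Comp.PermCode.mul 24 (CentData.cent0Points.getD j 0) ClassData.rep2_0)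
      (CfsgLib.Comp.PermCode.mul 24 ClassData.rep2_0 (CentData.cent0Points.getD j 0)) &&
    Nat.beq (app (CentData.cent0Points.getD j 0) 0) j)) = true := by
  decide +kernel

theorem exists_to (p : Cfsg.GolayPt) :
    ∃ c ∈ cz (pm ClassData.rep2_0), c (CfsgLib.Golay.pt 0) = p := by
  have h := points_check
  rw [Bool.and_eq_true] at h
  have h1 := allLt_spec h.2 _ (bit_lt p)
  simp only [Bool.and_eq_true] at h1
  obtain ⟨⟨hg, hcom⟩, happ⟩ := h1
  have hr := good_ok rep_goods.2.1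
  refine ⟨pm (CentData.cent0Points.getD (bit p) 0), mem_cz.2 ⟨pm_mem hg, ?_⟩, bit_injective ?_⟩
  · rw [← pm_mul (good_ok hg) hr, ← pm_mul hr (good_ok hg)]
    exact pm_eq_of_eqc (ok_pm_mul (good_ok hg) hr) (ok_pm_mul hr (good_ok hg)) hcom
  · rw [← isPermOf_pm (good_ok hg), bit_pt (by norm_num)]
    exact Nat.eq_of_beq_eq_true happ

/-- For a fixed-point-free involution t of the group of the length-24 code: its centraliser in that group has order 7680, is transitive on the 24 points, and is contained, together with t, in the stabiliser of some sextet. -/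
theorem result (t : Equiv.Perm Cfsg.GolayPt) (ht : t ∈ Cfsg.M24) (h₂ : orderOf t = 2) (h₀ : ∀ p, t p ≠ p) : Nat.card {c : Equiv.Perm Cfsg.GolayPt // c ∈ Cfsg.M24 ∧ c * t = t * c} = 7680 ∧ (∀ p q : Cfsg.GolayPt, ∃ c ∈ Cfsg.M24, c * t = t * c ∧ c p = q) ∧ ∃ S ∈ Cfsg.sextets, t • S = S ∧ ∀ c ∈ Cfsg.M24, c * t = t * c → c • S = S := by
  obtain ⟨u, hu, rfl⟩ := exists_conj_2_0 ht h₂ (fixCard_eq_zero h₀)
  have hback : ∀ c ∈ cz (pm ClassData.rep2_0),
      u * c * u⁻¹ * (u * pm ClassData.rep2_0 * u⁻¹) = u * pm ClassData.rep2_0 * u⁻¹ * (u * c * u⁻¹) := by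
    intro c hc
    calc u * c * u⁻¹ * (u * pm ClassData.rep2_0 * u⁻¹) = u * (c * pm ClassData.rep2_0) * u⁻¹ := by group
      _ = u * (pm ClassData.rep2_0 * c) * u⁻¹ := by rw [(mem_cz.1 hc).2]
      _ = _ := by group
  refine ⟨?_, fun p q => ?_, u • mset CentData.sext0, (smul_mem_sextets hu).2 sext0_mem, ?_, fun c hc hct => ?_⟩
  · rw [← card_cz_rep0, ← card_cz_conj hu]
    exact Nat.card_congr (Equiv.subtypeEquivRight fun c => mem_cz.symm)
  · obtain ⟨a, ha, hap⟩ := exists_to (u⁻¹ p)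
    obtain ⟨b, hb, hbq⟩ := exists_to (u⁻¹ q)
    refine ⟨u * (b * a⁻¹) * u⁻¹, mul_mem (mul_mem hu (mem_cz.1 (mul_mem hb (inv_mem ha))).1) (inv_mem hu),
      hback _ (mul_mem hb (inv_mem ha)), ?_⟩
    rw [Equiv.Perm.mul_apply, Equiv.Perm.mul_apply, Equiv.Perm.mul_apply, ← hap, perm_inv_apply, hbq,
      perm_apply_inv]
  · rw [mul_smul, mul_smul, inv_smul_smul, cz_sext0 (mem_cz.2 ⟨pm_mem rep_goods.2.1, rfl⟩)]
  · have hmem : u⁻¹ * c * u ∈ cz (pm ClassData.rep2_0) := by
      refine mem_cz.2 ⟨mul_mem (mul_mem (inv_mem hu) hc) hu, ?_⟩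
      calc u⁻¹ * c * u * pm ClassData.rep2_0
          = u⁻¹ * (c * (u * pm ClassData.rep2_0 * u⁻¹)) * u := by group
        _ = u⁻¹ * (u * pm ClassData.rep2_0 * u⁻¹ * c) * u := by rw [hct]
        _ = _ := by group
    have := cz_sext0 hmem
    rw [mul_smul, mul_smul, inv_smul_eq_iff] at this
    exact this

end Cfsg.Agent.S5607
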