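import Cfsg.Statements.S5608
import Cfsg.Agent.Lib.M24Elt.Centralisers
-- import your own Cfsg.Agent.* helpers here

set_option autoImplicit false
open scoped Pointwise
open Cfsg

open CfsgLib.Golay CfsgLib.M24Elt

namespace Cfsg.Agent.S5608

theorem sylow_checks : (closedCheck CentData.three8SGens CentData.three8Elts &&
    closedCheck CentData.three0SGens CentData.three0Elts &&
    (CentData.three8SGens.all fun s => good s &&
      eqc (CfsgLib.Comp.PermCode.mul 24 s ClassData.rep2_8) (CfsgLib.Comp.PermCode.mul 24 ClassData.rep2_8 s)) &&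
    (CentData.three0SGens.all fun s => good s &&
      eqc (CfsgLib.Comp.PermCode.mul 24 s ClassData.rep2_0) (CfsgLib.Comp.PermCode.mul 24 ClassData.rep2_0 s)) &&
    (CentData.three8Elts.all fun e => isOne e.1 || Nat.beq (fixN e.1) 6) &&
    (CentData.three0Elts.all fun e => isOne e.1 || Nat.beq (fixN e.1) 0)) = true := by
  decide +kernel

theorem fix_of_commute {r N c : ℕ} {gens : List ℕ} {elts : List (ℕ × List ℕ)}
    (hN : Nat.card (cz (pm r)) = N) (hr : CfsgLib.Comp.PermCode.Ok 24 r)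
    (hg : (gens.all fun s => good s &&
      eqc (CfsgLib.Comp.PermCode.mul 24 s r) (CfsgLib.Comp.PermCode.mul 24 r s)) = true)
    (hcl : closedCheck gens elts = true)
    (hcard : Nat.card (CfsgLib.Comp.PermCode.span 24 gens) = 3 ^ 1) (hk : ¬ 3 ^ (1 + 1) ∣ N)
    (hall : (elts.all fun e => isOne e.1 || Nat.beq (fixN e.1) c) = true)
    {x : Equiv.Perm Cfsg.GolayPt} (hx : x ∈ cz (pm r)) (h3 : orderOf x = 3) : fixCard x = c := by
  haveI : Fact (Nat.Prime 3) := ⟨Nat.prime_three⟩
  obtain ⟨u, -, e, he, hok, hue⟩ := exists_conj_code_in hN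
    (fun s hs => spanPts_le_cz hr hg (pm_mem_spanPts hs)) hcl hcard hk hx h3
  have h1 := List.all_eq_true.1 hall e he
  rw [← fixCard_conj x u, hue, fixCard_pm hok]
  rcases Bool.eq_false_or_eq_true (isOne e.1) with h | h
  · exfalso
    rw [pm_eq_one hok h, conj_eq_one_iff] at hue
    rw [hue, orderOf_one] at h3
    omega
  · rw [h, Bool.false_or] at h1
    exact Nat.eq_of_beq_eq_true h1

/-- If an element of order 3 and an involution of the group of the length-24 code commute, then either the element of order 3 has exactly 6 fixed points and the involution exactly 8, or both are fixed-point-free. -/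
theorem result (x s : Equiv.Perm Cfsg.GolayPt) (hx : x ∈ Cfsg.M24) (hs : s ∈ Cfsg.M24) (h₃ : orderOf x = 3) (h₂ : orderOf s = 2) (hc : Commute x s) : ((Finset.univ.filter fun p => x p = p).card = 6 ∧ (Finset.univ.filter fun p => s p = p).card = 8) ∨ ((Finset.univ.filter fun p => x p = p).card = 0 ∧ (Finset.univ.filter fun p => s p = p).card = 0) := by
  have h := sylow_checks
  simp only [Bool.and_eq_true] at h
  have key : ∀ {r : ℕ} {u : Equiv.Perm Cfsg.GolayPt}, u ∈ Cfsg.M24 → u * pm r * u⁻¹ = s →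
      ∃ y ∈ cz (pm r), orderOf y = 3 ∧ fixCard y = fixCard x := by
    intro r u hu he
    refine ⟨u⁻¹ * x * u, mem_cz.2 ⟨mul_mem (mul_mem (inv_mem hu) hx) hu, ?_⟩, ?_, ?_⟩
    · calc u⁻¹ * x * u * pm r = u⁻¹ * (x * (u * pm r * u⁻¹)) * u := by group
        _ = u⁻¹ * (u * pm r * u⁻¹ * x) * u := by rw [he, hc.eq]
        _ = _ := by group
    · rw [← h₃, show u⁻¹ * x * u = u⁻¹ * x * (u⁻¹)⁻¹ by rw [inv_inv], ← MulAut.conj_apply]
      exact MulEquiv.orderOf_eq _ x
    · rw [show u⁻¹ * x * u = u⁻¹ * x * (u⁻¹)⁻¹ by rw [inv_inv], fixCard_conj]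
  rcases involution_class hs h₂ with ⟨hf, u, hu, he⟩ | ⟨hf, u, hu, he⟩
  · obtain ⟨y, hy, hy3, hyf⟩ := key hu he
    exact Or.inl ⟨hyf.symm.trans (fix_of_commute card_cz_rep8 (good_ok rep_goods.1) h.1.1.1.2
      h.1.1.1.1.1 CentData.three8S_card (by norm_num) h.1.2 hy hy3), hf⟩
  · obtain ⟨y, hy, hy3, hyf⟩ := key hu he
    exact Or.inr ⟨hyf.symm.trans (fix_of_commute card_cz_rep0 (good_ok rep_goods.2.1) h.1.1.2
      h.1.1.1.1.2 CentData.three0S_card (by norm_num) h.2 hy hy3), hf⟩

end Cfsg.Agent.S5608
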