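import Cfsg.Statements.S5609
import Cfsg.Agent.Lib.M24Elt.OctPairs
import Mathlib.Combinatorics.SimpleGraph.Metric
-- import your own Cfsg.Agent.* helpers here

set_option autoImplicit false
open scoped Pointwise
open Cfsg

open CfsgLib.M24Elt CfsgLib.Golay
open scoped Pointwise

namespace Cfsg.Agent.S5609

theorem disjoint_smul {g : Equiv.Perm Cfsg.GolayPt} {a b : Finset Cfsg.GolayPt} (h : Disjoint a b) :
    Disjoint (g • a) (g • b) := by
  rw [Finset.disjoint_iff_inter_eq_empty] at h ⊢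
  rw [← Finset.smul_finset_inter, h, Finset.smul_finset_empty]

theorem toSet_disjoint {m n : ℕ} (h : m &&& n = 0) : Disjoint (toSet m) (toSet n) := by
  rw [Finset.disjoint_iff_inter_eq_empty, ← toSet_and, h]
  ext p; simp [mem_toSet]

theorem oct_of {m : ℕ} (h : (Nat.blt m 16777216 && isOct m) = true) : toSet m ∈ Cfsg.octads := by
  rw [Bool.and_eq_true, Nat.blt_eq] at h
  exact toSet_mem_octads (by simpa using h.1) h.2

theorem base_checks : (([5279, 10558, 8077824, 31554, 1009728, 5275709].all fun m =>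
      Nat.blt m 16777216 && isOct m) &&
    Nat.beq (pc24 (5279 &&& 10558)) 4 && Nat.beq (pc24 (5279 &&& 31554)) 2 &&
    TableData.octTab.all fun m => !(Nat.beq (5279 &&& m) 0 && Nat.beq (m &&& 31554) 0)) = true := by
  decide +kernel

theorem common_neighbour {o o' : Finset Cfsg.GolayPt} (ho : o ∈ Cfsg.octads) (ho' : o' ∈ Cfsg.octads)
    (h : (o ∩ o').card = 4) : ∃ w ∈ Cfsg.octads, Disjoint o w ∧ Disjoint w o' := by
  have hb := base_checks
  simp only [Bool.and_eq_true, List.all_eq_true] at hb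
  have hm : ∀ m ∈ [5279, 10558, 8077824, 31554, 1009728, 5275709], toSet m ∈ Cfsg.octads :=
    fun m hm => oct_of (by rw [Bool.and_eq_true]; exact hb.1.1.1 m hm)
  refine of_same_inter (P := fun a b => ∃ w ∈ Cfsg.octads, Disjoint a w ∧ Disjoint w b) ?_
    (hm 5279 (by decide)) (hm 10558 (by decide)) ho ho' ?_
    ⟨toSet 8077824, hm _ (by decide), toSet_disjoint (by decide +kernel),
      toSet_disjoint (by decide +kernel)⟩
  · rintro g hg a b ⟨w, hw, h1, h2⟩
    exact ⟨g • w, (M24_smul_mem_octads hg).2 hw, disjoint_smul h1, disjoint_smul h2⟩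
  · rw [← toSet_and, card_toSet, ← pc24_eq, Nat.eq_of_beq_eq_true hb.1.1.2, h]

theorem far_pair {o o' : Finset Cfsg.GolayPt} (ho : o ∈ Cfsg.octads) (ho' : o' ∈ Cfsg.octads)
    (h : (o ∩ o').card = 2) :
    (∃ w ∈ Cfsg.octads, ∃ x ∈ Cfsg.octads, Disjoint o w ∧ Disjoint w x ∧ Disjoint x o') ∧
      ¬ ∃ w ∈ Cfsg.octads, Disjoint o w ∧ Disjoint w o' := by
  have hb := base_checks
  simp only [Bool.and_eq_true, List.all_eq_true] at hb
  have hm : ∀ m ∈ [5279, 10558, 8077824, 31554, 1009728, 5275709], toSet m ∈ Cfsg.octads :=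
    fun m hm => oct_of (by rw [Bool.and_eq_true]; exact hb.1.1.1 m hm)
  have hc : (toSet 5279 ∩ toSet 31554).card = (o ∩ o').card := by
    rw [← toSet_and, card_toSet, ← pc24_eq, Nat.eq_of_beq_eq_true hb.1.2, h]
  refine ⟨?_, ?_⟩
  · refine of_same_inter (P := fun a b => ∃ w ∈ Cfsg.octads, ∃ x ∈ Cfsg.octads,
        Disjoint a w ∧ Disjoint w x ∧ Disjoint x b) ?_ (hm 5279 (by decide)) (hm 31554 (by decide))
      ho ho' hc ⟨toSet 1009728, hm _ (by decide), toSet 5275709, hm _ (by decide),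
        toSet_disjoint (by decide +kernel), toSet_disjoint (by decide +kernel),
        toSet_disjoint (by decide +kernel)⟩
    rintro g hg a b ⟨w, hw, x, hx, h1, h2, h3⟩
    exact ⟨g • w, (M24_smul_mem_octads hg).2 hw, g • x, (M24_smul_mem_octads hg).2 hx,
      disjoint_smul h1, disjoint_smul h2, disjoint_smul h3⟩
  · refine of_same_inter (P := fun a b => ¬ ∃ w ∈ Cfsg.octads, Disjoint a w ∧ Disjoint w b) ?_
      (hm 5279 (by decide)) (hm 31554 (by decide)) ho ho' hc ?_
    · rintro g hg a b hab ⟨w, hw, h1, h2⟩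
      exact hab ⟨g⁻¹ • w, (M24_smul_mem_octads (inv_mem hg)).2 hw,
        by simpa using disjoint_smul (g := g⁻¹) h1, by simpa using disjoint_smul (g := g⁻¹) h2⟩
    · rintro ⟨w, hw, h1, h2⟩
      rw [octads_eq, Finset.mem_coe, List.mem_toFinset, List.mem_map] at hw
      obtain ⟨m, hm', rfl⟩ := hw
      have h5 := hb.2 m hm'
      have z : ∀ {a b : ℕ}, a < 2 ^ 24 → Disjoint (toSet a) (toSet b) → a &&& b = 0 := by
        intro a b ha hd
        refine toSet_inj (lt_of_le_of_lt Nat.and_le_left ha) (by norm_num) ?_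
        rw [toSet_and, Finset.disjoint_iff_inter_eq_empty.1 hd]
        ext p; simp [mem_toSet]
      rw [z (by norm_num) h1, z (octTab_lt m hm') h2] at h5
      exact absurd h5 (by decide)

/-- In the graph on the 759 octads of the length-24 code in which two octads are adjacent when they are disjoint, the graph is connected (of diameter 3) and two distinct octads are at distance 1, 2 or 3 exactly when they meet in 0, 4 or 2 points respectively. -/
theorem result (o o' : Finset Cfsg.GolayPt) (ho : o ∈ Cfsg.octads) (ho' : o' ∈ Cfsg.octads) (hne : o ≠ o') : (Cfsg.blockGraph Cfsg.octads).Connected ∧ ((Cfsg.blockGraph Cfsg.octads).dist ⟨o, ho⟩ ⟨o', ho'⟩ = 1 ↔ (o ∩ o').card = 0) ∧ ((Cfsg.blockGraph Cfsg.octads).dist ⟨o, ho⟩ ⟨o', ho'⟩ = 2 ↔ (o ∩ o').card = 4) ∧ ((Cfsg.blockGraph Cfsg.octads).dist ⟨o, ho⟩ ⟨o', ho'⟩ = 3 ↔ (o ∩ o').card = 2) := by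
  set G := Cfsg.blockGraph Cfsg.octads
  have hadj : ∀ {a b : ↥Cfsg.octads}, Disjoint (a : Finset Cfsg.GolayPt) b → G.Adj a b := by
    intro a b hd
    refine (SimpleGraph.fromRel_adj _ a b).2 ⟨fun e => ?_, Or.inl hd⟩
    rw [e, disjoint_self] at hd
    have := (mem_octads.1 b.2).2
    rw [hd] at this
    simp at this
  have hdis : ∀ {a b : ↥Cfsg.octads}, G.Adj a b → Disjoint (a : Finset Cfsg.GolayPt) b := fun hab => by
    rcases ((SimpleGraph.fromRel_adj _ _ _).1 hab).2 with h | h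
    · exact h
    · exact h.symm
  have hcases : ∀ {a b : ↥Cfsg.octads}, a ≠ b →
      ((a.1 ∩ b.1).card = 0 ∧ G.Reachable a b ∧ G.dist a b = 1) ∨
      ((a.1 ∩ b.1).card = 4 ∧ G.Reachable a b ∧ G.dist a b = 2) ∨
      ((a.1 ∩ b.1).card = 2 ∧ G.Reachable a b ∧ G.dist a b = 3) := by
    intro a b hab
    have hab' : a.1 ≠ b.1 := fun e => hab (Subtype.ext e)
    have h0 : (a.1 ∩ b.1).card ≠ 0 → G.dist a b ≠ 1 := fun hne e => hne (by
      rw [Finset.disjoint_iff_inter_eq_empty.1 (hdis (SimpleGraph.dist_eq_one_iff_adj.1 e)),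
        Finset.card_empty])
    rcases CfsgLib.GolayDesign.octad_inter_card a.2 b.2 hab' with h | h | h
    · have := hadj (Finset.disjoint_iff_inter_eq_empty.2 (Finset.card_eq_zero.1 h))
      exact Or.inl ⟨h, this.reachable, SimpleGraph.dist_eq_one_iff_adj.2 this⟩
    · obtain ⟨⟨w, hw, x, hx, h1, h2, h3⟩, hno⟩ := far_pair a.2 b.2 h
      let p : G.Walk a b := .cons (hadj (b := ⟨w, hw⟩) h1)
        (.cons (hadj (b := ⟨x, hx⟩) h2) (.cons (hadj h3) .nil))
      have hle : G.dist a b ≤ 3 := SimpleGraph.dist_le p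
      have hne : G.dist a b ≠ 0 := fun e => hab ((p.reachable.dist_eq_zero_iff).1 e)
      have h2' : G.dist a b ≠ 2 := by
        intro e
        obtain ⟨q, hq⟩ := p.reachable.exists_walk_length_eq_dist
        rw [e] at hq
        match q, hq with
        | .cons e1 (.cons e2 .nil), _ => exact hno ⟨_, Subtype.prop _, hdis e1, hdis e2⟩
      have h1' := h0 (by omega)
      exact Or.inr (Or.inr ⟨h, p.reachable, by omega⟩)
    · obtain ⟨w, hw, h1, h2⟩ := common_neighbour a.2 b.2 h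
      let p : G.Walk a b := .cons (hadj (b := ⟨w, hw⟩) h1) (.cons (hadj h2) .nil)
      have hle : G.dist a b ≤ 2 := SimpleGraph.dist_le p
      have hne : G.dist a b ≠ 0 := fun e => hab ((p.reachable.dist_eq_zero_iff).1 e)
      have h1' := h0 (by omega)
      exact Or.inr (Or.inl ⟨h, p.reachable, by omega⟩)
  have hne' : (⟨o, ho⟩ : ↥Cfsg.octads) ≠ ⟨o', ho'⟩ := fun e => hne (congrArg Subtype.val e)
  haveI : Nonempty ↥Cfsg.octads := ⟨⟨o, ho⟩⟩
  refine ⟨⟨fun a b => ?_⟩, ?_⟩
  · rcases eq_or_ne a b with rfl | h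
    · exact SimpleGraph.Reachable.refl a
    · rcases hcases h with h | h | h <;> exact h.2.1
  · rcases hcases hne' with ⟨h, -, hd⟩ | ⟨h, -, hd⟩ | ⟨h, -, hd⟩ <;>
      simp only at h <;> rw [h, hd] <;> omega

end Cfsg.Agent.S5609
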