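import Cfsg.Statements.S5610
import Cfsg.Agent.Lib.M24Elt.Transitive
import Cfsg.Agent.Lib.M24Elt.Orbit.OctTrio
import Cfsg.Agent.Lib.M24Elt.Orbit.OctSext
-- import your own Cfsg.Agent.* helpers here

set_option autoImplicit false
open scoped Pointwise
open Cfsg

open CfsgLib.M24Elt CfsgLib.Golay

namespace Cfsg.Agent.S5610

/-- The stabiliser of an octad in the group of the length-24 code has exactly three orbits on the 3795 trios, of sizes 15, 420 and 3360, and exactly three orbits on the 1771 sextets, of sizes 35, 840 and 896. -/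
theorem result (o : Finset Cfsg.GolayPt) (ho : o ∈ Cfsg.octads) : (∃ X₁ ∈ Cfsg.trios, ∃ X₂ ∈ Cfsg.trios, ∃ X₃ ∈ Cfsg.trios, (MulAction.orbit ↥(MulAction.stabilizer Cfsg.M24 o) X₁).ncard = 15 ∧ (MulAction.orbit ↥(MulAction.stabilizer Cfsg.M24 o) X₂).ncard = 420 ∧ (MulAction.orbit ↥(MulAction.stabilizer Cfsg.M24 o) X₃).ncard = 3360 ∧ Cfsg.trios = MulAction.orbit ↥(MulAction.stabilizer Cfsg.M24 o) X₁ ∪ MulAction.orbit ↥(MulAction.stabilizer Cfsg.M24 o) X₂ ∪ MulAction.orbit ↥(MulAction.stabilizer Cfsg.M24 o) X₃) ∧ (∃ Y₁ ∈ Cfsg.sextets, ∃ Y₂ ∈ Cfsg.sextets, ∃ Y₃ ∈ Cfsg.sextets, (MulAction.orbit ↥(MulAction.stabilizer Cfsg.M24 o) Y₁).ncard = 35 ∧ (MulAction.orbit ↥(MulAction.stabilizer Cfsg.M24 o) Y₂).ncard = 840 ∧ (MulAction.orbit ↥(MulAction.stabilizer Cfsg.M24 o) Y₃).ncard = 896 ∧ Cfsg.sextets = MulAction.orbit ↥(MulAction.stabilizer Cfsg.M24 o) Y₁ ∪ MulAction.orbit ↥(MulAction.stabilizer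 Cfsg.M24 o) Y₂ ∪ MulAction.orbit ↥(MulAction.stabilizer Cfsg.M24 o) Y₃) := by
  obtain ⟨u, hu, he⟩ := exists_smul_baseOct ho
  rw [← stabilizer_singleton o]
  constructor
  · obtain ⟨X₁, h₁, e₁, n₁⟩ := exists_orbit tabTrios octTrio_class64 hu he
    obtain ⟨X₂, h₂, e₂, n₂⟩ := exists_orbit tabTrios octTrio_class32 hu he
    obtain ⟨X₃, h₃, e₃, n₃⟩ := exists_orbit tabTrios octTrio_class24 hu he
    exact ⟨X₁, h₁, X₂, h₂, X₃, h₃, n₁, n₂, n₃,
      eq_union_three e₁ e₂ e₃ fun X hX => pinv_cases tabTrios octTrio_cover hu he hX⟩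
  · obtain ⟨X₁, h₁, e₁, n₁⟩ := exists_orbit tabSextets octSext_class32 hu he
    obtain ⟨X₂, h₂, e₂, n₂⟩ := exists_orbit tabSextets octSext_class16 hu he
    obtain ⟨X₃, h₃, e₃, n₃⟩ := exists_orbit tabSextets octSext_class14 hu he
    exact ⟨X₁, h₁, X₂, h₂, X₃, h₃, n₁, n₂, n₃,
      eq_union_three e₁ e₂ e₃ fun X hX => pinv_cases tabSextets octSext_cover hu he hX⟩

end Cfsg.Agent.S5610
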