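import Cfsg.Statements.S5611
import Cfsg.Agent.Lib.M24Elt.Transitive
import Cfsg.Agent.Lib.M24Elt.Orbit.SextOct
import Cfsg.Agent.Lib.M24Elt.Orbit.SextTrio
-- import your own Cfsg.Agent.* helpers here

set_option autoImplicit false
open scoped Pointwise
open Cfsg

open CfsgLib.M24Elt CfsgLib.Golay

namespace Cfsg.Agent.S5611

/-- The stabiliser of a sextet in the group of the length-24 code has exactly three orbits on the 759 octads, of sizes 15, 360 and 384, and exactly four orbits on the 3795 trios, of sizes 15, 180, 720 and 2880. -/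
theorem result (S : Finset (Finset Cfsg.GolayPt)) (hS : S ∈ Cfsg.sextets) : (∃ X₁ ∈ Cfsg.octads, ∃ X₂ ∈ Cfsg.octads, ∃ X₃ ∈ Cfsg.octads, (MulAction.orbit ↥(MulAction.stabilizer Cfsg.M24 S) X₁).ncard = 15 ∧ (MulAction.orbit ↥(MulAction.stabilizer Cfsg.M24 S) X₂).ncard = 360 ∧ (MulAction.orbit ↥(MulAction.stabilizer Cfsg.M24 S) X₃).ncard = 384 ∧ Cfsg.octads = MulAction.orbit ↥(MulAction.stabilizer Cfsg.M24 S) X₁ ∪ MulAction.orbit ↥(MulAction.stabilizer Cfsg.M24 S) X₂ ∪ MulAction.orbit ↥(MulAction.stabilizer Cfsg.M24 S) X₃) ∧ (∃ Y₁ ∈ Cfsg.trios, ∃ Y₂ ∈ Cfsg.trios, ∃ Y₃ ∈ Cfsg.trios, ∃ Y₄ ∈ Cfsg.trios, (MulAction.orbit ↥(MulAction.stabilizer Cfsg.M24 S) Y₁).ncard = 15 ∧ (MulAction.orbit ↥(MulAction.stabilizer Cfsg.M24 S) Y₂).ncard = 180 ∧ (MulAction.orbit ↥(MulAction.stabilizer Cfsg.M24 S) Y₃).ncard = 720 ∧ (MulAction.orbit ↥(MulAction.stabilizer Cfsg.M24 S) Y₄).ncard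 = 2880 ∧ Cfsg.trios = MulAction.orbit ↥(MulAction.stabilizer Cfsg.M24 S) Y₁ ∪ MulAction.orbit ↥(MulAction.stabilizer Cfsg.M24 S) Y₂ ∪ MulAction.orbit ↥(MulAction.stabilizer Cfsg.M24 S) Y₃ ∪ MulAction.orbit ↥(MulAction.stabilizer Cfsg.M24 S) Y₄) := by
  obtain ⟨u, hu, he⟩ := exists_smul_baseSext hS
  constructor
  · obtain ⟨X₁, h₁, e₁, n₁⟩ := exists_orbit_octads sextOct_class32 hu he
    obtain ⟨X₂, h₂, e₂, n₂⟩ := exists_orbit_octads sextOct_class16 hu he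
    obtain ⟨X₃, h₃, e₃, n₃⟩ := exists_orbit_octads sextOct_class14 hu he
    exact ⟨X₁, h₁, X₂, h₂, X₃, h₃, n₁, n₂, n₃, eq_union_three e₁ e₂ e₃
      fun X hX => pinv_cases tabOctads sextOct_cover hu he (singleton_mem_octSing hX)⟩
  · obtain ⟨X₁, h₁, e₁, n₁⟩ := exists_orbit tabTrios sextTrio_class96 hu he
    obtain ⟨X₂, h₂, e₂, n₂⟩ := exists_orbit tabTrios sextTrio_class64 hu he
    obtain ⟨X₃, h₃, e₃, n₃⟩ := exists_orbit tabTrios sextTrio_class48 hu he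
    obtain ⟨X₄, h₄, e₄, n₄⟩ := exists_orbit tabTrios sextTrio_class44 hu he
    exact ⟨X₁, h₁, X₂, h₂, X₃, h₃, X₄, h₄, n₁, n₂, n₃, n₄,
      eq_union_four e₁ e₂ e₃ e₄ fun X hX => pinv_cases tabTrios sextTrio_cover hu he hX⟩

end Cfsg.Agent.S5611
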