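import Cfsg.Statements.S5612
import Cfsg.Agent.Lib.M24Elt.Transitive
import Cfsg.Agent.Lib.M24Elt.Orbit.TrioOct
import Cfsg.Agent.Lib.M24Elt.Orbit.TrioSext
-- import your own Cfsg.Agent.* helpers here

set_option autoImplicit false
open scoped Pointwise
open Cfsg

open CfsgLib.M24Elt CfsgLib.Golay

namespace Cfsg.Agent.S5612

/-- The stabiliser of a trio in the group of the length-24 code has exactly three orbits on the 759 octads, of sizes 3, 84 and 672, and exactly four orbits on the 1771 sextets, of sizes 7, 84, 336 and 1344. -/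
theorem result (T : Finset (Finset Cfsg.GolayPt)) (hT : T ∈ Cfsg.trios) : (∃ X₁ ∈ Cfsg.octads, ∃ X₂ ∈ Cfsg.octads, ∃ X₃ ∈ Cfsg.octads, (MulAction.orbit ↥(MulAction.stabilizer Cfsg.M24 T) X₁).ncard = 3 ∧ (MulAction.orbit ↥(MulAction.stabilizer Cfsg.M24 T) X₂).ncard = 84 ∧ (MulAction.orbit ↥(MulAction.stabilizer Cfsg.M24 T) X₃).ncard = 672 ∧ Cfsg.octads = MulAction.orbit ↥(MulAction.stabilizer Cfsg.M24 T) X₁ ∪ MulAction.orbit ↥(MulAction.stabilizer Cfsg.M24 T) X₂ ∪ MulAction.orbit ↥(MulAction.stabilizer Cfsg.M24 T) X₃) ∧ (∃ Y₁ ∈ Cfsg.sextets, ∃ Y₂ ∈ Cfsg.sextets, ∃ Y₃ ∈ Cfsg.sextets, ∃ Y₄ ∈ Cfsg.sextets, (MulAction.orbit ↥(MulAction.stabilizer Cfsg.M24 T) Y₁).ncard = 7 ∧ (MulAction.orbit ↥(MulAction.stabilizer Cfsg.M24 T) Y₂).ncard = 84 ∧ (MulAction.orbit ↥(MulAction.stabilizer Cfsg.M24 T) Y₃).ncard = 336 ∧ (MulAction.orbit ↥(MulAction.stabilizer Cfsg.M24 T) Y₄).ncard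 = 1344 ∧ Cfsg.sextets = MulAction.orbit ↥(MulAction.stabilizer Cfsg.M24 T) Y₁ ∪ MulAction.orbit ↥(MulAction.stabilizer Cfsg.M24 T) Y₂ ∪ MulAction.orbit ↥(MulAction.stabilizer Cfsg.M24 T) Y₃ ∪ MulAction.orbit ↥(MulAction.stabilizer Cfsg.M24 T) Y₄) := by
  obtain ⟨u, hu, he⟩ := exists_smul_baseTrio hT
  constructor
  · obtain ⟨X₁, h₁, e₁, n₁⟩ := exists_orbit_octads trioOct_class64 hu he
    obtain ⟨X₂, h₂, e₂, n₂⟩ := exists_orbit_octads trioOct_class32 hu he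
    obtain ⟨X₃, h₃, e₃, n₃⟩ := exists_orbit_octads trioOct_class24 hu he
    exact ⟨X₁, h₁, X₂, h₂, X₃, h₃, n₁, n₂, n₃, eq_union_three e₁ e₂ e₃
      fun X hX => pinv_cases tabOctads trioOct_cover hu he (singleton_mem_octSing hX)⟩
  · obtain ⟨X₁, h₁, e₁, n₁⟩ := exists_orbit tabSextets trioSext_class96 hu he
    obtain ⟨X₂, h₂, e₂, n₂⟩ := exists_orbit tabSextets trioSext_class64 hu he
    obtain ⟨X₃, h₃, e₃, n₃⟩ := exists_orbit tabSextets trioSext_class48 hu he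
    obtain ⟨X₄, h₄, e₄, n₄⟩ := exists_orbit tabSextets trioSext_class44 hu he
    exact ⟨X₁, h₁, X₂, h₂, X₃, h₃, X₄, h₄, n₁, n₂, n₃, n₄,
      eq_union_four e₁ e₂ e₃ e₄ fun X hX => pinv_cases tabSextets trioSext_cover hu he hX⟩

end Cfsg.Agent.S5612
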