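import Cfsg.Statements.S5614
import Cfsg.Agent.Lib.M24Elt.SixPoints
import Cfsg.Agent.S5613
-- import your own Cfsg.Agent.* helpers here

set_option autoImplicit false
open scoped Pointwise
open Cfsg

open CfsgLib.M24Elt CfsgLib.Golay
open scoped Pointwise

namespace Cfsg.Agent.S5614

def pts : List ℕ := [0, 2, 3, 4, 7, 10]

theorem pts_spec : ∀ p : Cfsg.GolayPt, p ∈ toSet 5279 ∧ p ∉ toSet 31554 ↔
    ∃ i : Fin 6, CfsgLib.Golay.pt (pts.getD i 0) = p := by decide +kernel

theorem moves_check : (moves 490885358476367395144106470656154308128254727606694513666 pts [2, 3, 4, 7, 10, 0] && moves 443471912787791072230560690331803173656955000818008853506 pts [2, 0, 3, 4, 7, 10]) = true := by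
  decide +kernel

theorem moves_tables : ∀ i : Fin 6, ([2, 3, 4, 7, 10, 0] : List ℕ).getD i 0 = pts.getD ((finRotate 6 i : Fin 6) : ℕ) 0 ∧
    ([2, 0, 3, 4, 7, 10] : List ℕ).getD i 0 = pts.getD ((Equiv.swap 0 1 i : Fin 6) : ℕ) 0 := by decide +kernel

theorem stab_check : (Nat.beq (push 490885358476367395144106470656154308128254727606694513666 5279) 5279 && Nat.beq (push 490885358476367395144106470656154308128254727606694513666 31554) 31554 &&
    Nat.beq (push 443471912787791072230560690331803173656955000818008853506 5279) 5279 && Nat.beq (push 443471912787791072230560690331803173656955000818008853506 31554) 31554) = true := by decide +kernel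

/-- In the group of the length-24 code, the joint stabiliser of two octads meeting in exactly two points is isomorphic to the symmetric group of degree 6. -/
theorem result (o o' : Finset Cfsg.GolayPt) (ho : o ∈ Cfsg.octads) (ho' : o' ∈ Cfsg.octads) (h₂ : (o ∩ o').card = 2) : Nonempty (↥(MulAction.stabilizer Cfsg.M24 o ⊓ MulAction.stabilizer Cfsg.M24 o') ≃* Equiv.Perm (Fin 6)) := by
  obtain ⟨u₀, hu₀, he₀⟩ := exists_smul_octad
    (toSet_mem_octads (m := 5279) (by norm_num) (by decide +kernel)) ho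
  obtain ⟨v, hv, hv1, hv2⟩ := exists_map_octad_pair ho ((M24_smul_mem_octads hu₀).2
    (toSet_mem_octads (m := 31554) (by norm_num) (by decide +kernel))) ho' (by
      rw [h₂, ← he₀, ← Finset.smul_finset_inter, Finset.card_smul_finset]
      decide +kernel)
  set u := v * u₀ with hu
  have huM : u ∈ Cfsg.M24 := mul_mem hv hu₀
  have he : u • toSet 5279 = o := by rw [hu, mul_smul, he₀, hv1]
  have he' : u • toSet 31554 = o' := by rw [hu, mul_smul, hv2]
  let L : Fin 6 → Cfsg.GolayPt := fun i => u (CfsgLib.Golay.pt (pts.getD i 0))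
  have hL : Function.Injective L := u.injective.comp
    (by decide +kernel : Function.Injective fun i : Fin 6 => CfsgLib.Golay.pt (pts.getD i 0))
  have hmem : ∀ p, p ∈ o ∧ p ∉ o' ↔ ∃ i, L i = p := by
    intro p
    rw [← he, ← he', ← Finset.inv_smul_mem_iff, ← Finset.inv_smul_mem_iff, pts_spec]
    refine exists_congr fun i => ⟨fun e => ?_, fun e => ?_⟩
    · show u _ = p; rw [e, Equiv.Perm.smul_def, perm_apply_inv]
    · rw [← e, Equiv.Perm.smul_def, perm_inv_apply]
  have hst := stab_check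
  simp only [Bool.and_eq_true] at hst
  have wit : ∀ {c : ℕ} {tgt : List ℕ} {σ : Equiv.Perm (Fin 6)}, moves c pts tgt = true →
      Nat.beq (push c 5279) 5279 = true → Nat.beq (push c 31554) 31554 = true →
      (∀ i : Fin 6, tgt.getD i 0 = pts.getD ((σ i : Fin 6) : ℕ) 0) →
      ∃ g ∈ MulAction.stabilizer ↥Cfsg.M24 o ⊓ MulAction.stabilizer ↥Cfsg.M24 o',
        ∀ i, ((g : ↥Cfsg.M24) : Equiv.Perm Cfsg.GolayPt) (L i) = L (σ i) := by
    intro c tgt σ hc ha hb ht
    have hgood : good c = true := by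
      simp only [moves, Bool.and_eq_true] at hc; exact hc.1.1.1
    refine ⟨⟨u * pm c * u⁻¹, mul_mem (mul_mem huM (pm_mem hgood)) (inv_mem huM)⟩, ⟨?_, ?_⟩, fun i => ?_⟩
    · show (u * pm c * u⁻¹) • o = o
      rw [mul_smul, mul_smul, inv_smul_eq_iff.2 he.symm, ← toSet_push (isPermOf_pm (good_ok hgood)),
        Nat.eq_of_beq_eq_true ha, he]
    · show (u * pm c * u⁻¹) • o' = o'
      rw [mul_smul, mul_smul, inv_smul_eq_iff.2 he'.symm, ← toSet_push (isPermOf_pm (good_ok hgood)),
        Nat.eq_of_beq_eq_true hb, he']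
    · show u (pm c (u⁻¹ (u _))) = u _
      rw [perm_inv_apply, moves_spec hc i, ht i]
  have hm := moves_check
  rw [Bool.and_eq_true] at hm
  obtain ⟨f, hf, -⟩ := exists_hom_six hL (K := MulAction.stabilizer ↥Cfsg.M24 o ⊓
      MulAction.stabilizer ↥Cfsg.M24 o') (fun g hg i => by
      obtain ⟨h1, h2⟩ := (hmem (L i)).2 ⟨i, rfl⟩
      have hgo : (g : Equiv.Perm Cfsg.GolayPt) • o = o := hg.1
      have hgo' : (g : Equiv.Perm Cfsg.GolayPt) • o' = o' := hg.2
      obtain ⟨j, hj⟩ := (hmem ((g : Equiv.Perm Cfsg.GolayPt) (L i))).1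
        ⟨by rw [← hgo]; exact Finset.smul_mem_smul_finset h1,
         fun h => h2 (by rw [← hgo'] at h; exact (Finset.smul_mem_smul_finset_iff _).1 h)⟩
      exact ⟨j, hj.symm⟩)
    (wit hm.1 hst.1.1.1 hst.1.1.2 fun i => (moves_tables i).1)
    (wit hm.2 hst.1.2 hst.2 fun i => (moves_tables i).2)
  exact (nonempty_iso_six ((Cfsg.Agent.S5613.result o o' ho ho').2.2 h₂) hf).2

end Cfsg.Agent.S5614
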