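import Cfsg.Statements.S5615
import Cfsg.Agent.Lib.M24Elt.Transitive
import Cfsg.Agent.Lib.M24Elt.Orbit.OctTrio
import Cfsg.Agent.Lib.M24Elt.Orbit.Fifteen
-- import your own Cfsg.Agent.* helpers here

set_option autoImplicit false
open scoped Pointwise
open Cfsg

open CfsgLib.M24Elt CfsgLib.Golay
open scoped Pointwise

namespace Cfsg.Agent.S5615

theorem pinv_eq_64_iff {o : Finset Cfsg.GolayPt} (ho : o ∈ Cfsg.octads)
    {T : Finset (Finset Cfsg.GolayPt)} (hT : T ∈ Cfsg.trios) : pinv 2 {o} T = 64 ↔ o ∈ T := by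
  obtain ⟨hc, hoct, hdis⟩ := hT
  rw [pinv, Finset.sum_singleton]
  constructor
  · intro h
    by_contra hn
    have hle : ∀ x ∈ T, (o ∩ x).card ^ 2 ≤ 16 := fun x hx => by
      have hne : o ≠ x := fun e => hn (e ▸ hx)
      rcases CfsgLib.GolayDesign.octad_inter_card ho (hoct x hx) hne with e | e | e <;> simp [e]
    have := Finset.sum_le_card_nsmul T _ 16 hle
    rw [h, hc] at this
    norm_num at this
  · intro h
    rw [Finset.sum_eq_single_of_mem o h fun x hx hne => by
      rw [Finset.disjoint_iff_inter_eq_empty.1 (hdis o h x hx hne.symm)]; simp]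
    rw [Finset.inter_self, ho.2]
    norm_num

theorem rows_check : ((trioChunks.flatten.filter fun r => r.any (Nat.beq 5279)) == fifteenRows &&
    fifteenRows.all (fun r => Nat.beq r.length 3 && r.any (fun m => Nat.testBit m 5)) &&
    fifteenFixed.all (fun n => !(Nat.beq n 5279) && fifteenRows.any (fun r => r.any (Nat.beq n))) &&
    !(Nat.testBit 5279 5) && fifteenRows.any (fun r => sameM r fifteenFirst) &&
    rowOk fifteenFirst && fifteenFirst.any (Nat.beq 5279)) = true := by
  decide +kernel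

theorem orbit_check : orbitOk [[5279], fifteenFirst] fifteenGens trioChunks
    (fun r => r.any (Nat.beq 5279) && !sameM r fifteenFirst) fifteenRoot fifteenForest fifteenK = true := by
  decide +kernel

theorem codes_check : (pointwiseCodes.all (fun c => good c &&
      allLt 24 (fun j => !(Nat.testBit 5279 j) || Nat.beq (app c j) j) &&
      fifteenRows.all (fun r => sameM (r.map (push c)) r)) &&
    allLt 24 (fun j => Nat.testBit 5279 j || pointwiseCodes.any fun c => Nat.beq (app c 5) j) &&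
    Nat.beq pointwiseCodes.length 16 && incr (pointwiseCodes.map fun c => app c 5)) = true := by
  decide +kernel

theorem base_check : baseCheck ([5279, 2 ^ 5] ++ fifteenFixed) fifteenSteps = true := by
  decide +kernel

theorem base_mem : toSet 5279 ∈ Cfsg.octads := toSet_mem_octads (by norm_num) (by decide +kernel)

theorem mem_rows_iff {T : Finset (Finset Cfsg.GolayPt)} :
    T ∈ Cfsg.trios ∧ toSet 5279 ∈ T ↔ ∃ r ∈ fifteenRows, mset r = T := by
  have h := rows_check
  simp only [Bool.and_eq_true, beq_iff_eq] at h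
  rw [← h.1.1.1.1.1.1, tabTrios.mem_iff]
  simp only [List.mem_filter, List.any_eq_true]
  constructor
  · rintro ⟨⟨r, hr, rfl⟩, hm⟩
    obtain ⟨m, hm, he⟩ := mem_mset.1 hm
    have hlt := (rowOk_spec (List.all_eq_true.1 tabTrios.ok r hr)).2 m hm
    refine ⟨r, ⟨hr, m, hm, ?_⟩, rfl⟩
    rw [toSet_inj hlt (by norm_num) he]; rfl
  · rintro ⟨r, ⟨hr, m, hm, e⟩, rfl⟩
    exact ⟨⟨r, hr, rfl⟩, mem_mset.2 ⟨m, hm, by rw [← Nat.eq_of_beq_eq_true e]⟩⟩

theorem two_point {T₁ T₂ T₂' : Finset (Finset Cfsg.GolayPt)} (h₁ : T₁ = mset fifteenFirst)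
    (h₂ : T₂ ∈ Cfsg.trios) (h₂' : T₂' ∈ Cfsg.trios) (ho₂ : toSet 5279 ∈ T₂) (ho₂' : toSet 5279 ∈ T₂')
    (hn : T₂ ≠ T₁) (hn' : T₂' ≠ T₁) :
    ∃ g ∈ Cfsg.M24, g • toSet 5279 = toSet 5279 ∧ g • T₁ = T₁ ∧ g • T₂ = T₂' := by
  obtain ⟨r, hr, rfl⟩ := mem_rows_iff.1 ⟨h₂, ho₂⟩
  obtain ⟨r', hr', rfl⟩ := mem_rows_iff.1 ⟨h₂', ho₂'⟩
  have h := rows_check
  simp only [Bool.and_eq_true, beq_iff_eq] at h
  have hflt := h.1.1.1.1.1.1
  have hok := h.1.2
  rw [← hflt, List.mem_filter] at hr hr'
  subst h₁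
  have hq : ∀ s ∈ trioChunks.flatten, s.any (Nat.beq 5279) = true → mset s ≠ mset fifteenFirst →
      (s.any (Nat.beq 5279) && !sameM s fifteenFirst) = true := by
    intro s hs ha hne
    rw [ha, Bool.true_and, Bool.not_eq_true']
    exact Bool.eq_false_iff.2 fun e => hne ((sameM_iff
      (rowOk_spec (List.all_eq_true.1 tabTrios.ok s hs)).2 (rowOk_spec hok).2).1 e)
  obtain ⟨g, hg, hgf, he⟩ := exists_map_of_orbitOk tabTrios.ok orbit_check hr.1
    (hq r hr.1 hr.2 hn) hr'.1 (hq r' hr'.1 hr'.2 hn')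
  refine ⟨g, hg, ?_, hgf _ (by simp), he⟩
  have := hgf [5279] (by simp)
  rwa [mset_singleton, Finset.smul_finset_singleton, Finset.singleton_inj] at this

theorem kernel_base {g : Equiv.Perm Cfsg.GolayPt} (hg : g ∈ Cfsg.M24)
    (ho : g • toSet 5279 = toSet 5279) :
    (∀ T ∈ Cfsg.trios, toSet 5279 ∈ T → g • T = T) ↔ ∀ p ∈ toSet 5279, g p = p := by
  have hc := codes_check
  simp only [Bool.and_eq_true, List.all_eq_true, Nat.beq_eq] at hc
  obtain ⟨⟨⟨hcod, htrans⟩, hlen⟩, hincr⟩ := hc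
  let S : Set (Equiv.Perm Cfsg.GolayPt) := {x | ∃ c ∈ pointwiseCodes, pm c = x}
  let H := Cfsg.M24 ⊓ fixingSubgroup (Equiv.Perm Cfsg.GolayPt) (toSet 5279 : Set Cfsg.GolayPt)
  have hsub : S ⊆ (H : Set (Equiv.Perm Cfsg.GolayPt)) := by
    rintro _ ⟨c, hc, rfl⟩
    obtain ⟨⟨hgood, hfix⟩, -⟩ := hcod c hc
    refine ⟨pm_mem hgood, (mem_fixingSubgroup_iff _).2 fun p hp => bit_injective ?_⟩
    show bit (pm c p) = bit p
    rw [← isPermOf_pm (good_ok hgood) p]
    have := allLt_spec hfix _ (bit_lt p)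
    rw [mem_toSet.1 (Finset.mem_coe.1 hp), Bool.not_true, Bool.false_or] at this
    exact Nat.eq_of_beq_eq_true this
  have hS : S = (H : Set (Equiv.Perm Cfsg.GolayPt)) := by
    refine Set.eq_of_subset_of_ncard_le hsub ?_ (Set.toFinite _)
    have e : S = ↑((pointwiseCodes.map pm).toFinset) := by
      ext x; simp [S]
    rw [← Nat.card_coe_set_eq, SetLike.coe_sort_coe, (octad_pointwise base_mem).1, e,
      Set.ncard_coe_finset, List.toFinset_card_of_nodup, List.length_map, hlen]
    refine List.Nodup.map_on (fun a ha b hb hab => ?_)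
      (List.Nodup.of_map _ ((incr_pairwise hincr).imp Nat.ne_of_lt))
    have hnd := (incr_pairwise hincr).imp Nat.ne_of_lt
    refine List.inj_on_of_nodup_map hnd ha hb ?_
    have e1 := isPermOf_pm (good_ok (hcod a ha).1.1) (CfsgLib.Golay.pt 5)
    have e2 := isPermOf_pm (good_ok (hcod b hb).1.1) (CfsgLib.Golay.pt 5)
    rw [bit_pt (by norm_num)] at e1 e2
    rw [e1, e2, hab]
  constructor
  · intro hT
    have h := rows_check
    simp only [Bool.and_eq_true, List.all_eq_true, List.any_eq_true, Bool.not_eq_true',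
      beq_iff_eq] at h
    obtain ⟨⟨⟨⟨⟨⟨-, hrows⟩, hfixed⟩, hx0⟩, -⟩, -⟩, -⟩ := h
    have hx : CfsgLib.Golay.pt 5 ∉ toSet 5279 := by
      rw [mem_toSet, bit_pt (by norm_num), hx0]; exact Bool.false_ne_true
    have hgx : g (CfsgLib.Golay.pt 5) ∉ toSet 5279 := fun e => hx (by
      rw [← ho] at e; exact (Finset.smul_mem_smul_finset_iff g).1 e)
    have ht := allLt_spec htrans _ (bit_lt (g (CfsgLib.Golay.pt 5)))
    rw [Bool.eq_false_iff.2 (fun e => hgx (mem_toSet.2 e)), Bool.false_or, List.any_eq_true] at ht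
    obtain ⟨c, hc, hce⟩ := ht
    have hmem : pm c ∈ H := hsub ⟨c, hc, rfl⟩
    obtain ⟨⟨hgood, -⟩, hfr⟩ := hcod c hc
    have hcx : pm c (CfsgLib.Golay.pt 5) = g (CfsgLib.Golay.pt 5) := bit_injective (by
      rw [← isPermOf_pm (good_ok hgood), bit_pt (by norm_num)]
      exact Nat.eq_of_beq_eq_true hce)
    have h2 := (mem_fixingSubgroup_iff _).1 hmem.2
    set k := (pm c)⁻¹ * g with hk
    have hkx : k (CfsgLib.Golay.pt 5) = CfsgLib.Golay.pt 5 := by
      rw [hk, Equiv.Perm.mul_apply, ← hcx, perm_inv_apply]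
    have hko : k • toSet 5279 = toSet 5279 := by
      rw [hk, mul_smul, ho, inv_smul_eq_iff]
      refine (Finset.eq_of_subset_of_card_le (fun p hp => ?_) ?_)
      · exact Finset.mem_smul_finset.2 ⟨p, hp, h2 p hp⟩
      · rw [Finset.card_smul_finset]
    have hkT : ∀ r ∈ fifteenRows, k • mset r = mset r := by
      intro r hr
      obtain ⟨hT1, hT2⟩ := mem_rows_iff.2 ⟨r, hr, rfl⟩
      rw [hk, mul_smul, hT _ hT1 hT2, inv_smul_eq_iff]
      exact (sameM_push (good_ok hgood)
        (rowOk_spec (List.all_eq_true.1 tabTrios.ok r (by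
          have hh := rows_check
          simp only [Bool.and_eq_true, beq_iff_eq] at hh
          rw [← hh.1.1.1.1.1.1] at hr
          exact (List.mem_filter.1 hr).1))).2 (hfr r hr)).symm
    have hk1 : k = 1 := by
      refine baseCheck_spec (mul_mem (inv_mem hmem.1) hg) fifteenSteps _ (fun n hn => ?_) base_check
      rcases List.mem_append.1 hn with hn | hn
      · simp only [List.mem_cons, List.not_mem_nil, or_false] at hn
        rcases hn with rfl | rfl
        · exact hko
        · rw [toSet_two_pow (by norm_num), Finset.smul_finset_singleton]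
          exact congrArg _ hkx
      · obtain ⟨hne, r, hr, m, hm, hme⟩ := hfixed n hn
        obtain rfl := Nat.eq_of_beq_eq_true hme
        have hTk := hkT r hr
        obtain ⟨hT1, hT2⟩ := mem_rows_iff.2 ⟨r, hr, rfl⟩
        obtain ⟨hcard, hoct, hdis⟩ := hT1
        have hlt : ∀ x ∈ r, x < 2 ^ 24 := (rowOk_spec (List.all_eq_true.1 tabTrios.ok r (by
          have hh := rows_check
          simp only [Bool.and_eq_true, beq_iff_eq] at hh
          rw [← hh.1.1.1.1.1.1] at hr
          exact (List.mem_filter.1 hr).1))).2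
        obtain ⟨-, x, hxr, hxb⟩ := hrows r hr
        have hnT : toSet n ∈ mset r := mem_mset.2 ⟨n, hm, rfl⟩
        have hxT : toSet x ∈ mset r := mem_mset.2 ⟨x, hxr, rfl⟩
        have hno : toSet n ≠ toSet 5279 := fun e => by
          rw [toSet_inj (hlt n hm) (by norm_num) e] at hne
          exact absurd hne (by decide)
        have hpx : CfsgLib.Golay.pt 5 ∈ toSet x := by rw [mem_toSet, bit_pt (by norm_num)]; exact hxb
        have himg : ∀ {a : Finset Cfsg.GolayPt}, a ∈ mset r → k • a ∈ mset r := fun ha => by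
          rw [← hTk]; exact Finset.smul_mem_smul_finset ha
        have hkxfix : k • toSet x = toSet x := by
          by_contra hne'
          refine Finset.disjoint_left.1 (hdis _ (himg hxT) _ hxT hne') ?_ hpx
          exact Finset.mem_smul_finset.2 ⟨_, hpx, hkx⟩
        by_cases hnx : toSet n = toSet x
        · rw [hnx]; exact hkxfix
        by_contra hne'
        have hxo : toSet x ≠ toSet 5279 := fun e => hx (e ▸ hpx)
        have h4 : ({toSet 5279, toSet x, toSet n, k • toSet n} : Finset (Finset Cfsg.GolayPt)).card ≤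
            3 := by
          rw [← hcard]
          refine Finset.card_le_card ?_
          simp only [Finset.insert_subset_iff, Finset.singleton_subset_iff]
          exact ⟨hT2, hxT, hnT, himg hnT⟩
        have i1 : k • toSet n ≠ toSet 5279 := fun e => hno (MulAction.injective k (e.trans hko.symm))
        have i2 : k • toSet n ≠ toSet x := fun e => hnx (MulAction.injective k (e.trans hkxfix.symm))
        rw [Finset.card_insert_of_notMem (by simp [hxo.symm, hno.symm, i1.symm]),
          Finset.card_insert_of_notMem (by simp [Ne.symm hnx, i2.symm]),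
          Finset.card_insert_of_notMem (by simp [Ne.symm hne']), Finset.card_singleton] at h4
        omega
    have hgc : g = pm c := by rw [hk, inv_mul_eq_one] at hk1; exact hk1.symm
    intro p hp
    rw [hgc]; exact h2 p hp
  · intro hp T hT1 hT2
    have : g ∈ H := ⟨hg, (mem_fixingSubgroup_iff _).2 hp⟩
    rw [← SetLike.mem_coe, ← hS] at this
    obtain ⟨c, hc, rfl⟩ := this
    obtain ⟨r, hr, rfl⟩ := mem_rows_iff.1 ⟨hT1, hT2⟩
    obtain ⟨⟨hgood, -⟩, hfr⟩ := hcod c hc
    refine sameM_push (good_ok hgood) ?_ (hfr r hr)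
    obtain ⟨r', hr', e⟩ := tabTrios.mem_iff.1 hT1
    have hh := rows_check
    simp only [Bool.and_eq_true, beq_iff_eq] at hh
    rw [← hh.1.1.1.1.1.1] at hr
    exact (rowOk_spec (List.all_eq_true.1 tabTrios.ok r (List.mem_filter.1 hr).1)).2

/-- An octad of the length-24 code lies in exactly 15 trios; the stabiliser of the octad in the code's group acts doubly transitively on these 15 trios, and the kernel of this action is the pointwise stabiliser of the octad. -/
theorem result (o : Finset Cfsg.GolayPt) (ho : o ∈ Cfsg.octads) : {T : Finset (Finset Cfsg.GolayPt) | T ∈ Cfsg.trios ∧ o ∈ T}.ncard = 15 ∧ (∀ T₁ T₂ T₁' T₂' : Finset (Finset Cfsg.GolayPt), T₁ ∈ Cfsg.trios → T₂ ∈ Cfsg.trios → T₁' ∈ Cfsg.trios → T₂' ∈ Cfsg.trios → o ∈ T₁ → o ∈ T₂ → o ∈ T₁' → o ∈ T₂' → T₁ ≠ T₂ → T₁' ≠ T₂' → ∃ g ∈ Cfsg.M24, g • o = o ∧ g • T₁ = T₁' ∧ g • T₂ = T₂') ∧ ∀ g ∈ Cfsg.M24, g • o = o → ((∀ T ∈ Cfsg.trios, o ∈ T → g • T = T) ↔ ∀ p ∈ o, g p = p) := by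
  obtain ⟨u, hu, he⟩ := exists_smul_baseOct ho
  have he' : u • toSet 5279 = o := by
    rw [mset_singleton, Finset.smul_finset_singleton, Finset.singleton_inj] at he
    exact he
  refine ⟨?_, ?_, ?_⟩
  · obtain ⟨X, -, e, n⟩ := exists_orbit tabTrios octTrio_class64 hu he
    rw [e] at n
    rw [← n]
    congr 1
    ext T
    exact and_congr_right fun hT => (pinv_eq_64_iff ho hT).symm
  · intro T₁ T₂ T₁' T₂' h₁ h₂ h₁' h₂' m₁ m₂ m₁' m₂' n₁ n₂
    have hfirst : mset fifteenFirst ∈ Cfsg.trios ∧ toSet 5279 ∈ mset fifteenFirst := by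
      have h := rows_check
      simp only [Bool.and_eq_true, List.any_eq_true, beq_iff_eq] at h
      obtain ⟨r, hr, hre⟩ := h.1.1.2
      have h3 := mem_rows_iff.2 ⟨r, hr, rfl⟩
      have hflt := h.1.1.1.1.1.1
      rw [← hflt] at hr
      rw [(sameM_iff (rowOk_spec (List.all_eq_true.1 tabTrios.ok r (List.mem_filter.1 hr).1)).2
        (rowOk_spec h.1.2).2).1 hre] at h3
      exact h3
    have hBo : u • mset fifteenFirst ∈ Cfsg.trios ∧ o ∈ u • mset fifteenFirst := by
      refine ⟨(smul_mem_trios hu).2 hfirst.1, ?_⟩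
      rw [← he']; exact Finset.smul_mem_smul_finset hfirst.2
    -- move a first trio onto the base one
    have move : ∀ T, T ∈ Cfsg.trios → o ∈ T →
        ∃ g ∈ Cfsg.M24, g • o = o ∧ g • T = u • mset fifteenFirst := fun T hT hm => by
      obtain ⟨g, hg, hgB, hgX⟩ := exists_map_class tabTrios octTrio_class64 hu he hT
        ((pinv_eq_64_iff ho hT).2 hm) hBo.1 ((pinv_eq_64_iff ho hBo.1).2 hBo.2)
      rw [Finset.smul_finset_singleton, Finset.singleton_inj] at hgB
      exact ⟨g, hg, hgB, hgX⟩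
    obtain ⟨a, ha, hao, haT⟩ := move T₁ h₁ m₁
    obtain ⟨b, hb, hbo, hbT⟩ := move T₁' h₁' m₁'
    have back : ∀ {c : Equiv.Perm Cfsg.GolayPt} {T : Finset (Finset Cfsg.GolayPt)}, c ∈ Cfsg.M24 →
        c • o = o → T ∈ Cfsg.trios → o ∈ T →
        u⁻¹ • c • T ∈ Cfsg.trios ∧ toSet 5279 ∈ u⁻¹ • c • T := by
      intro c T hc hco hT hm
      refine ⟨(smul_mem_trios (inv_mem hu)).2 ((smul_mem_trios hc).2 hT), ?_⟩
      rw [Finset.mem_inv_smul_finset_iff, he']
      have := Finset.smul_mem_smul_finset (a := c) hm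
      rwa [hco] at this
    obtain ⟨g, hg, hgo, hg1, hg2⟩ := two_point rfl (back ha hao h₂ m₂).1 (back hb hbo h₂' m₂').1
      (back ha hao h₂ m₂).2 (back hb hbo h₂' m₂').2
      (fun e => n₁ (MulAction.injective a (show a • T₁ = a • T₂ by rw [haT, ← e, smul_inv_smul])))
      (fun e => n₂ (MulAction.injective b (show b • T₁' = b • T₂' by rw [hbT, ← e, smul_inv_smul])))
    refine ⟨b⁻¹ * (u * g * u⁻¹) * a,
      mul_mem (mul_mem (inv_mem hb) (mul_mem (mul_mem hu hg) (inv_mem hu))) ha, ?_, ?_, ?_⟩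
    · rw [mul_smul, hao, mul_smul, inv_smul_eq_iff, hbo, mul_smul, mul_smul,
        inv_smul_eq_iff.2 he'.symm, hgo, he']
    · rw [mul_smul, haT, mul_smul, inv_smul_eq_iff, hbT, mul_smul, mul_smul, inv_smul_smul, hg1]
    · rw [mul_smul, mul_smul, inv_smul_eq_iff, mul_smul, mul_smul, hg2, smul_inv_smul]
  · intro g hg hgo
    have hcj : u⁻¹ * g * u ∈ Cfsg.M24 := mul_mem (mul_mem (inv_mem hu) hg) hu
    have hco : (u⁻¹ * g * u) • toSet 5279 = toSet 5279 := by
      rw [mul_smul, mul_smul, he', hgo, inv_smul_eq_iff, he']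
    have hk := kernel_base hcj hco
    constructor
    · intro h p hp
      have h2 := hk.1 (fun T hT hm => by
        rw [mul_smul, mul_smul, h (u • T) ((smul_mem_trios hu).2 hT)
          (by rw [← he']; exact Finset.smul_mem_smul_finset hm), inv_smul_smul])
      have hp' : u⁻¹ p ∈ toSet 5279 := by
        rw [← he'] at hp
        exact Finset.inv_smul_mem_iff.2 hp
      have := h2 _ hp'
      rw [Equiv.Perm.mul_apply, Equiv.Perm.mul_apply, perm_apply_inv] at this
      exact u⁻¹.injective this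
    · intro h T hT hm
      have h2 := hk.2 (fun p hp => by
        rw [Equiv.Perm.mul_apply, Equiv.Perm.mul_apply,
          h (u p) (by rw [← he']; exact Finset.smul_mem_smul_finset hp), perm_inv_apply])
        (u⁻¹ • T) ((smul_mem_trios (inv_mem hu)).2 hT) (by
          rw [Finset.mem_inv_smul_finset_iff, he']; exact hm)
      rw [mul_smul, mul_smul, smul_inv_smul] at h2
      exact MulAction.injective u⁻¹ h2

end Cfsg.Agent.S5615
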