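import Cfsg.Statements.S5616
import Cfsg.Agent.Lib.M24Elt.Orbit.ThreePoints
-- import your own Cfsg.Agent.* helpers here

set_option autoImplicit false
open scoped Pointwise
open Cfsg

open CfsgLib.M24Elt CfsgLib.Golay
open scoped Pointwise

namespace Cfsg.Agent.S5616

/-- The number of tetrads of `S` meeting `Y`. -/
def meet (Y : Finset Cfsg.GolayPt) (S : Finset (Finset Cfsg.GolayPt)) : ℕ :=
  (S.filter fun t => (t ∩ Y).Nonempty).card

theorem meet_smul (g : Equiv.Perm Cfsg.GolayPt) (Y : Finset Cfsg.GolayPt)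
    (S : Finset (Finset Cfsg.GolayPt)) : meet (g • Y) (g • S) = meet Y S := by
  rw [meet, meet, Finset.smul_finset_def (s := S), Finset.filter_image,
    Finset.card_image_of_injective _ (MulAction.injective g)]
  congr 1
  refine Finset.filter_congr fun t _ => ?_
  rw [← Finset.card_pos, ← Finset.card_pos (s := t ∩ Y), ← Finset.smul_finset_inter,
    Finset.card_smul_finset]

theorem meet_mset {r : List ℕ} (hr : rowOk r = true) : meet (toSet 7) (mset r) = meetN r := by
  obtain ⟨hi, hlt⟩ := rowOk_spec hr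
  have hnd : (r.map toSet).Nodup :=
    List.Nodup.map_on (fun a ha b hb e => toSet_inj (hlt a ha) (hlt b hb) e)
      ((incr_pairwise hi).imp Nat.ne_of_lt)
  have e : ((r.map toSet).toFinset.filter fun t => (t ∩ toSet 7).Nonempty) =
      ((r.map toSet).filter fun t => decide (t ∩ toSet 7).Nonempty).toFinset := by
    ext t; simp
  rw [meet, mset, meetN, e, List.toFinset_card_of_nodup (hnd.filter _),
    List.filter_map, List.length_map]
  congr 1
  refine List.filter_congr fun m hm => ?_
  show decide (toSet m ∩ toSet 7).Nonempty = !Nat.beq (Nat.land m 7) 0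
  rw [← toSet_and]
  show decide (toSet (m &&& 7)).Nonempty = !Nat.beq (m &&& 7) 0
  rcases eq_or_ne (m &&& 7) 0 with h | h
  · rw [h, show toSet 0 = ∅ by ext p; simp [mem_toSet]]; simp
  · have h0 : Nat.beq (m &&& 7) 0 = false := Bool.eq_false_iff.2 fun e => h (Nat.eq_of_beq_eq_true e)
    rw [h0, Bool.not_false, decide_eq_true_iff]
    rw [Finset.nonempty_iff_ne_empty]
    intro e
    refine h (toSet_inj (lt_of_le_of_lt Nat.and_le_right (by norm_num)) (by norm_num) ?_)
    rw [e]; ext p; simp [mem_toSet]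


/-- Let Y be a set of 3 of the 24 points. The sextets of the length-24 code whose tetrads meeting Y number 1, 2 or 3 are respectively 21, 630 and 1120 in number, and two sextets with the same number of tetrads meeting Y are conjugate under the setwise stabiliser of Y in the code's group. -/
theorem result (Y : Finset Cfsg.GolayPt) (hY : Y.card = 3) : {S : Finset (Finset Cfsg.GolayPt) | S ∈ Cfsg.sextets ∧ (S.filter fun t => (t ∩ Y).Nonempty).card = 1}.ncard = 21 ∧ {S : Finset (Finset Cfsg.GolayPt) | S ∈ Cfsg.sextets ∧ (S.filter fun t => (t ∩ Y).Nonempty).card = 2}.ncard = 630 ∧ {S : Finset (Finset Cfsg.GolayPt) | S ∈ Cfsg.sextets ∧ (S.filter fun t => (t ∩ Y).Nonempty).card = 3}.ncard = 1120 ∧ ∀ S S' : Finset (Finset Cfsg.GolayPt), S ∈ Cfsg.sextets → S' ∈ Cfsg.sextets → (S.filter fun t => (t ∩ Y).Nonempty).card = (S'.filter fun t => (t ∩ Y).Nonempty).card → ∃ g ∈ Cfsg.M24, g • Y = Y ∧ g • S = S' := by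
  show {S | S ∈ Cfsg.sextets ∧ meet Y S = 1}.ncard = 21 ∧
    {S | S ∈ Cfsg.sextets ∧ meet Y S = 2}.ncard = 630 ∧
    {S | S ∈ Cfsg.sextets ∧ meet Y S = 3}.ncard = 1120 ∧
    ∀ S S', S ∈ Cfsg.sextets → S' ∈ Cfsg.sextets → meet Y S = meet Y S' →
      ∃ g ∈ Cfsg.M24, g • Y = Y ∧ g • S = S'
  obtain ⟨u, hu, he⟩ : ∃ u ∈ Cfsg.M24, u • toSet 7 = Y := by
    obtain ⟨g, hg, hgm⟩ := exists_map_M24 (xs := (toSet 7).toList) (ys := Y.toList)
      (Finset.nodup_toList _) Y.nodup_toList
      (by rw [Finset.length_toList, Finset.length_toList, hY]; decide +kernel)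
      (by rw [Finset.length_toList]; decide +kernel)
    refine ⟨g, hg, ?_⟩
    ext p
    rw [← Finset.mem_toList (s := Y), ← hgm, Finset.mem_smul_finset, List.mem_map]
    simp only [Finset.mem_toList, Equiv.Perm.smul_def]
  have hm : ∀ S, meet Y S = meet (toSet 7) (u⁻¹ • S) := fun S => by
    rw [← meet_smul u (toSet 7) (u⁻¹ • S), he, smul_inv_smul]
  have count : ∀ c, {S | S ∈ Cfsg.sextets ∧ meet Y S = c}.ncard =
      (sextChunks.flatten.filter fun r => Nat.beq (meetN r) c).length := by
    intro c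
    rw [← ncard_tab tabSextets.eq tabSextets.nodup tabSextets.inj (fun S => meet (toSet 7) S = c)
      (fun r => Nat.beq (meetN r) c) fun r hr => by
        rw [meet_mset (List.all_eq_true.1 tabSextets.ok r hr), Nat.beq_eq],
      ← Set.ncard_image_of_injective {S | S ∈ Cfsg.sextets ∧ meet (toSet 7) S = c} (MulAction.injective u)]
    congr 1
    ext S
    constructor
    · rintro ⟨h1, h2⟩
      exact ⟨u⁻¹ • S, ⟨(smul_mem_sextets (inv_mem hu)).2 h1, by rw [← hm, h2]⟩, smul_inv_smul u S⟩
    · rintro ⟨T, ⟨h1, h2⟩, rfl⟩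
      exact ⟨(smul_mem_sextets hu).2 h1, by rw [hm, inv_smul_smul, h2]⟩
  have hlist := three_counts
  simp only [List.range_succ, List.range_zero, List.map_append, List.map_cons, List.map_nil,
    List.nil_append, List.cons_append, List.cons.injEq, and_true] at hlist
  refine ⟨by rw [count, hlist.2.1], by rw [count, hlist.2.2.1], by rw [count, hlist.2.2.2], ?_⟩
  intro S S' hS hS' heq
  obtain ⟨r, hr, hre⟩ := tabSextets.mem_iff.1 ((smul_mem_sextets (inv_mem hu)).2 hS)
  obtain ⟨r', hr', hre'⟩ := tabSextets.mem_iff.1 ((smul_mem_sextets (inv_mem hu)).2 hS')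
  have hval : meetN r = meetN r' := by
    rw [← meet_mset (List.all_eq_true.1 tabSextets.ok r hr), hre,
      ← meet_mset (List.all_eq_true.1 tabSextets.ok r' hr'), hre', ← hm, ← hm, heq]
  have hzero : meetN r ≠ 0 := fun e => by
    have : r ∈ sextChunks.flatten.filter fun r => Nat.beq (meetN r) 0 :=
      List.mem_filter.2 ⟨hr, by rw [e]; rfl⟩
    rw [List.eq_nil_of_length_eq_zero hlist.1] at this
    simp at this
  have hle : meetN r ≤ 3 := by
    rw [← meet_mset (List.all_eq_true.1 tabSextets.ok r hr), hre, ← hm, meet]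
    have hdis : ∀ a ∈ S, ∀ b ∈ S, a ≠ b → Disjoint a b := fun a ha b hb hne =>
      CfsgLib.GolayDesign.tetrads_disjoint (hS.2.1 a ha) (hS.2.1 b hb) (hS.2.2 a ha b hb hne)
    calc (S.filter fun t => (t ∩ Y).Nonempty).card
        = ∑ t ∈ S.filter fun t => (t ∩ Y).Nonempty, 1 := Finset.card_eq_sum_ones _
      _ ≤ ∑ t ∈ S.filter fun t => (t ∩ Y).Nonempty, (t ∩ Y).card :=
          Finset.sum_le_sum fun t ht => Finset.card_pos.2 (Finset.mem_filter.1 ht).2
      _ = ((S.filter fun t => (t ∩ Y).Nonempty).biUnion fun t => t ∩ Y).card := by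
          refine (Finset.card_biUnion fun a ha b hb hne => ?_).symm
          exact (hdis a (Finset.mem_filter.1 ha).1 b (Finset.mem_filter.1 hb).1 hne).mono
            Finset.inter_subset_left Finset.inter_subset_left
      _ ≤ Y.card := Finset.card_le_card (Finset.biUnion_subset.2 fun t _ => Finset.inter_subset_right)
      _ = 3 := hY
  have go : ∀ {c root K : ℕ} {forest : List (ℕ × ℕ × ℕ)},
      orbitOk [[7]] threeGens sextChunks (fun r => Nat.beq (meetN r) c) root forest K = true →
      meetN r = c → ∃ g ∈ Cfsg.M24, g • Y = Y ∧ g • S = S' := by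
    intro c root K forest hok hc
    obtain ⟨g, hg, hgf, hge⟩ := exists_map_of_orbitOk tabSextets.ok hok hr
      (by rw [hc]; exact Nat.beq_refl c) hr' (by rw [hval.symm.trans hc]; exact Nat.beq_refl c)
    have h7 := hgf [7] List.mem_cons_self
    rw [mset_singleton, Finset.smul_finset_singleton, Finset.singleton_inj] at h7
    refine ⟨u * g * u⁻¹, mul_mem (mul_mem hu hg) (inv_mem hu), ?_, ?_⟩
    · rw [mul_smul, mul_smul, inv_smul_eq_iff.2 he.symm, h7, he]
    · rw [mul_smul, mul_smul, ← hre, hge, hre', smul_inv_smul]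
  rcases (by omega : meetN r = 1 ∨ meetN r = 2 ∨ meetN r = 3) with h | h | h
  · exact go three_orbit1 h
  · exact go three_orbit2 h
  · exact go three_orbit3 h

end Cfsg.Agent.S5616
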