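import Cfsg.Statements.S5618
import Cfsg.Agent.Lib.Golay.Mathieu
import Cfsg.Agent.Lib.M24Elt.SixPoints
-- import your own Cfsg.Agent.* helpers here

set_option autoImplicit false
open scoped Pointwise
open Cfsg

open CfsgLib.Golay CfsgLib.M24Elt
open scoped Pointwise

namespace Cfsg.Agent.S5618

/-- Five points of the dodecad determine an element of its stabiliser. -/
theorem eq_one_of_five {d : Finset Cfsg.GolayPt} (hd : d ∈ Cfsg.dodecads) {T : Finset Cfsg.GolayPt}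
    (hT : T ⊆ d) (h5 : 5 ≤ T.card) {g : ↥Cfsg.M24} (hg : g ∈ MulAction.stabilizer Cfsg.M24 d)
    (hfix : ∀ p ∈ T, (g : Equiv.Perm Cfsg.GolayPt) p = p) : g = 1 := by
  obtain ⟨s, hs, hsc⟩ := Finset.exists_subset_card_eq h5
  let x : Fin 5 ↪ Cfsg.GolayPt :=
    (finCongr hsc.symm).toEmbedding.trans (s.equivFin.symm.toEmbedding.trans (Function.Embedding.subtype _))
  have hxs : ∀ i, x i ∈ s := fun i => (s.equivFin.symm _).2
  obtain ⟨a, -, huniq⟩ := stab_dodecad_sharp hd x x (fun i => hT (hs (hxs i))) (fun i => hT (hs (hxs i)))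
  have e1 := huniq ⟨g, hg⟩ fun i => hfix _ (hs (hxs i))
  have e2 := huniq 1 fun i => rfl
  exact congrArg Subtype.val (e1.trans e2.symm)

/-- For a dodecad d of the length-24 code and a hexad C on it (a 6-point intersection of d with an octad): the joint stabiliser of d and C in the code's group is isomorphic to the symmetric group of degree 6, and it acts faithfully both on the six points of C and on the six points of d outside C. -/
theorem result (d : Finset Cfsg.GolayPt) (hd : d ∈ Cfsg.dodecads) (C : Finset Cfsg.GolayPt) (hC : C ∈ Cfsg.hexadsOn d) : Nonempty (↥(MulAction.stabilizer Cfsg.M24 d ⊓ MulAction.stabilizer Cfsg.M24 C) ≃* Equiv.Perm (Fin 6)) ∧ (∀ g ∈ MulAction.stabilizer Cfsg.M24 d ⊓ MulAction.stabilizer Cfsg.M24 C, (∀ p ∈ C, ((g : ↥Cfsg.M24) : Equiv.Perm Cfsg.GolayPt) p = p) → g = 1) ∧ ∀ g ∈ MulAction.stabilizer Cfsg.M24 d ⊓ MulAction.stabilizer Cfsg.M24 C, (∀ p ∈ d \ C, ((g : ↥Cfsg.M24) : Equiv.Perm Cfsg.GolayPt)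 p = p) → g = 1 := by
  obtain ⟨hC6, o, ho, hoC⟩ := hC
  have hCd : C ⊆ d := hoC ▸ Finset.inter_subset_right
  let L : Fin 6 → Cfsg.GolayPt := fun i => (C.equivFin.symm (Fin.cast hC6.symm i)).1
  have hL : Function.Injective L := fun i j e =>
    Fin.cast_injective _ (C.equivFin.symm.injective (Subtype.ext e))
  have hmem : ∀ p, p ∈ C ↔ ∃ i, L i = p := by
    refine fun p => ⟨fun hp => ⟨Fin.cast hC6 (C.equivFin ⟨p, hp⟩), by simp [L]⟩, ?_⟩
    rintro ⟨i, rfl⟩
    exact (C.equivFin.symm _).2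
  have hrange : Finset.univ.image L = C := by
    ext p; simp [hmem]
  -- every permutation of the hexad is induced
  have wit : ∀ σ : Equiv.Perm (Fin 6),
      ∃ g ∈ MulAction.stabilizer ↥Cfsg.M24 d ⊓ MulAction.stabilizer ↥Cfsg.M24 C,
        ∀ i, ((g : ↥Cfsg.M24) : Equiv.Perm Cfsg.GolayPt) (L i) = L (σ i) := by
    intro σ
    let x : Fin 5 ↪ Cfsg.GolayPt := ⟨fun i => L (Fin.castSucc i), hL.comp (Fin.castSucc_injective _)⟩
    let y : Fin 5 ↪ Cfsg.GolayPt :=
      ⟨fun i => L (σ (Fin.castSucc i)), hL.comp (σ.injective.comp (Fin.castSucc_injective _))⟩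
    obtain ⟨⟨g, hg⟩, hgi, -⟩ := stab_dodecad_sharp hd x y
      (fun i => hCd ((hmem _).2 ⟨_, rfl⟩)) (fun i => hCd ((hmem _).2 ⟨_, rfl⟩))
    have hgd : (g : Equiv.Perm Cfsg.GolayPt) • d = d := hg
    have hgi' : ∀ i : Fin 5, (g : Equiv.Perm Cfsg.GolayPt) (L (Fin.castSucc i)) = L (σ (Fin.castSucc i)) :=
      hgi
    have hgo : (g : Equiv.Perm Cfsg.GolayPt) • o = o := by
      refine octad_eq_of_five ((M24_smul_mem_octads g.2).2 ho) ho ?_
      refine le_trans (le_of_eq ?_) (Finset.card_le_card (s := Finset.univ.image y) ?_)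
      · rw [Finset.card_image_of_injective _ y.injective, Finset.card_univ, Fintype.card_fin]
      intro p hp
      obtain ⟨i, -, rfl⟩ := Finset.mem_image.1 hp
      have hmemo : ∀ j, L j ∈ o := fun j => by
        have := (hmem (L j)).2 ⟨j, rfl⟩
        rw [← hoC] at this; exact (Finset.mem_inter.1 this).1
      refine Finset.mem_inter.2 ⟨Finset.mem_smul_finset.2 ⟨_, hmemo (Fin.castSucc i), hgi' i⟩, hmemo _⟩
    have hgC : (g : Equiv.Perm Cfsg.GolayPt) • C = C := by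
      rw [← hoC, Finset.smul_finset_inter, hgo, hgd]
    refine ⟨g, ⟨hg, hgC⟩, fun i => ?_⟩
    rcases Fin.eq_castSucc_or_eq_last i with ⟨j, rfl⟩ | rfl
    · exact hgi' j
    · obtain ⟨j, hj⟩ := (hmem _).1 (hgC ▸ Finset.smul_mem_smul_finset
        ((hmem (L (Fin.last 5))).2 ⟨_, rfl⟩))
      rw [Equiv.Perm.smul_def] at hj
      obtain ⟨k, rfl⟩ := σ.surjective j
      rcases Fin.eq_castSucc_or_eq_last k with ⟨m, rfl⟩ | rfl
      · rw [← hgi' m] at hj
        exact absurd (hL ((g : Equiv.Perm Cfsg.GolayPt).injective hj)) (Fin.castSucc_lt_last m).ne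
      · exact hj.symm
  obtain ⟨f, hf, hfL⟩ := exists_hom_six hL (fun g hg i => by
      have hgC : (g : Equiv.Perm Cfsg.GolayPt) • C = C := hg.2
      obtain ⟨j, hj⟩ := (hmem ((g : Equiv.Perm Cfsg.GolayPt) (L i))).1 (by
        rw [← hgC]; exact Finset.smul_mem_smul_finset ((hmem _).2 ⟨i, rfl⟩))
      exact ⟨j, hj.symm⟩) (wit _) (wit _)
  have inj1 : ∀ g ∈ MulAction.stabilizer Cfsg.M24 d ⊓ MulAction.stabilizer Cfsg.M24 C,
      (∀ p ∈ C, ((g : ↥Cfsg.M24) : Equiv.Perm Cfsg.GolayPt) p = p) → g = 1 :=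
    fun g hg h => eq_one_of_five hd hCd (by omega) hg.1 h
  refine ⟨⟨MulEquiv.ofBijective f ⟨(injective_iff_map_eq_one f).2 fun g hg => ?_, hf⟩⟩, inj1,
    fun g hg h => eq_one_of_five hd Finset.sdiff_subset ?_ hg.1 h⟩
  · refine Subtype.ext (inj1 g.1 g.2 fun p hp => ?_)
    obtain ⟨i, rfl⟩ := (hmem p).1 hp
    rw [hfL g i, hg]; rfl
  · rw [Finset.card_sdiff_of_subset hCd, hd.2, hC6]
    norm_num

end Cfsg.Agent.S5618
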