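import Cfsg.Statements.S5619
import Cfsg.Agent.Lib.M24Elt.M9Data
import Cfsg.Agent.Lib.M24Elt.Basic
import Cfsg.Agent.Lib.Golay.Mathieu
-- import your own Cfsg.Agent.* helpers here

set_option autoImplicit false
open scoped Pointwise
open Cfsg

open CfsgLib.Golay CfsgLib.M24Elt CfsgLib.Comp
open scoped Pointwise

namespace Cfsg.Agent.S5619

/-- The group of order 72 at the standard place. -/
noncomputable def K0 : Subgroup (Equiv.Perm Cfsg.GolayPt) :=
  fixPts Cfsg.Spor.M12 [some 2, some 1, some 0]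

theorem card_K0 : Nat.card K0 = 72 := by
  obtain ⟨c0, c1, c2, -, -, -⟩ := level12_checks
  obtain ⟨m0, m1, m2, -, -, -⟩ := mask12_eqs
  have e0 := card_fixPts_step (up12 (b := some 0) m0 (by decide +kernel)) (low12 c0)
  have e1 := card_fixPts_step (up12 (b := some 1) m1 (by decide +kernel)) (low12 c1)
  have e2 := card_fixPts_step (up12 (b := some 2) m2 (by decide +kernel)) (low12 c2)
  rw [fixPts_nil, card_toSet, ← pc24_eq, show pc24 340831 = 12 by decide +kernel, card_M12] at e0
  rw [card_toSet, ← pc24_eq, show pc24 340830 = 11 by decide +kernel] at e1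
  rw [card_toSet, ← pc24_eq, show pc24 340828 = 10 by decide +kernel] at e2
  rw [K0]
  omega

/-- The test for lying in the standard group. -/
noncomputable def inK0 (c : ℕ) : Bool :=
  good c && Nat.beq (push c 340831) 340831 && [0, 1, 2].all fun b => Nat.beq (app c b) b

theorem inK0_spec {c : ℕ} (h : inK0 c = true) : pm c ∈ K0 := by
  simp only [inK0, Bool.and_eq_true] at h
  refine mem_fixPts.2 ⟨mem_M12.2 ⟨pm_mem h.1.1, ?_⟩, fun x hx => bit_injective ?_⟩
  · rw [squareDodecad_eq, ← toSet_push (isPermOf_pm (good_ok h.1.1)), Nat.eq_of_beq_eq_true h.1.2]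
  · rw [← isPermOf_pm (good_ok h.1.1)]
    have hb : bit x ∈ [0, 1, 2] := by revert x; decide +kernel
    exact Nat.eq_of_beq_eq_true (List.all_eq_true.1 h.2 _ hb)

/-- The codes of the quaternion group. -/
noncomputable def quatCode : QuaternionGroup 2 → ℕ
  | .a i => powc M9Data.quatA i.val
  | .xa i => PermCode.mul 24 M9Data.quatX (powc M9Data.quatA i.val)

/-- The eight elements of the quaternion group. -/
def quatList : List (QuaternionGroup 2) :=
  [.a 0, .a 1, .a 2, .a 3, .xa 0, .xa 1, .xa 2, .xa 3]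

theorem quatList_complete : ∀ g : QuaternionGroup 2, g ∈ quatList := by
  rintro (i | i) <;> revert i <;> decide

/-- Products of powers of the two generators of the subgroup of order 9. -/
noncomputable def nineProd (i j : ℕ) : ℕ :=
  PermCode.mul 24 (powc (M9Data.nineGens.getD 0 0) i) (powc (M9Data.nineGens.getD 1 0) j)

theorem nine_checks :
    (M9Data.m9Gens.all inK0 && M9Data.nineGens.all inK0 && closedCheck M9Data.nineGens M9Data.nineElts &&
    (M9Data.nineElts.all fun e => isOne (powc e.1 3)) &&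
    Nat.beq M9Data.nineGens.length 2 &&
    M9Data.m9Gens.all fun s => M9Data.nineGens.all fun a => (List.range 3).any fun i =>
      (List.range 3).any fun j =>
      eqc (PermCode.mul 24 s a) (PermCode.mul 24 (nineProd i j) s)) = true := by
  decide +kernel

theorem quat_checks :
    ((quatList.all fun g => inK0 (quatCode g)) &&
    (quatList.all fun g => quatList.all fun h =>
      eqc (PermCode.mul 24 (quatCode g) (quatCode h)) (quatCode (g * h)) &&
      (decide (g = h) || !eqc (quatCode g) (quatCode h)))) = true := by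
  decide +kernel

theorem standard_structure : (∃ A : Subgroup K0, A.Normal ∧ Nat.card A = 9 ∧ ∀ x ∈ A, x ^ 3 = 1) ∧
    ∃ B : Subgroup K0, Nat.card B = 8 ∧ Nonempty (B ≃* QuaternionGroup 2) := by
  have h := nine_checks
  simp only [Bool.and_eq_true, List.all_eq_true, List.any_eq_true] at h
  obtain ⟨⟨⟨⟨⟨hK, hA⟩, hcl⟩, hexp⟩, hlen⟩, hnorm⟩ := h
  have hspan : spanPts M9Data.m9Gens = K0 := by
    refine Subgroup.eq_of_le_of_card_ge (spanPts_le fun s hs => inK0_spec (hK s hs)) ?_
    rw [card_K0, card_spanPts, M9Data.m9_card]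
  have hAle : spanPts M9Data.nineGens ≤ K0 := spanPts_le fun s hs => inK0_spec (hA s hs)
  have hgood : ∀ {c : ℕ}, inK0 c = true → PermCode.Ok 24 c := fun hc => by
    simp only [inK0, Bool.and_eq_true] at hc; exact good_ok hc.1.1
  have hconj : ∀ g ∈ K0, ∀ x ∈ spanPts M9Data.nineGens, g * x * g⁻¹ ∈ spanPts M9Data.nineGens := by
    have hgens : ∀ s ∈ M9Data.m9Gens, ∀ x ∈ spanPts M9Data.nineGens,
        pm s * x * (pm s)⁻¹ ∈ spanPts M9Data.nineGens := by
      intro s hs x hx
      have hle : spanPts M9Data.nineGens ≤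
          (spanPts M9Data.nineGens).comap (MulAut.conj (pm s)).toMonoidHom := by
        refine spanPts_le fun a ha => ?_
        obtain ⟨i, -, j, -, hee⟩ := hnorm s hs a ha
        show pm s * pm a * (pm s)⁻¹ ∈ spanPts M9Data.nineGens
        have hget : ∀ k, k < 2 → M9Data.nineGens.getD k 0 ∈ M9Data.nineGens := fun k hk => by
          rw [List.getD_eq_getElem _ _ (by rw [Nat.eq_of_beq_eq_true hlen]; exact hk)]
          exact List.getElem_mem _
        have h0 := hgood (hA _ (hget 0 (by norm_num)))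
        have h1 := hgood (hA _ (hget 1 (by norm_num)))
        have hok : PermCode.Ok 24 (nineProd i j) := ok_pm_mul (powc_ok h0 i) (powc_ok h1 j)
        have e1 := pm_eq_of_eqc (ok_pm_mul (hgood (hK s hs)) (hgood (hA a ha)))
          (ok_pm_mul hok (hgood (hK s hs))) hee
        rw [pm_mul (hgood (hK s hs)) (hgood (hA a ha)), pm_mul hok (hgood (hK s hs)), nineProd,
          pm_mul (powc_ok h0 i) (powc_ok h1 j), pm_powc h0, pm_powc h1] at e1
        rw [e1, mul_inv_cancel_right]
        exact mul_mem (pow_mem (pm_mem_spanPts (hget 0 (by norm_num))) i)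
          (pow_mem (pm_mem_spanPts (hget 1 (by norm_num))) j)
      exact hle hx
    intro g hg
    rw [← hspan] at hg
    let N : Subgroup (Equiv.Perm Cfsg.GolayPt) :=
      Subgroup.normalizer (spanPts M9Data.nineGens : Set (Equiv.Perm Cfsg.GolayPt))
    have hN : spanPts M9Data.m9Gens ≤ N := spanPts_le fun s hs => by
      refine Subgroup.mem_normalizer_iff.2 fun x => ⟨hgens s hs x, fun hx => ?_⟩
      have hmap : (spanPts M9Data.nineGens).map (MulAut.conj (pm s)).toMonoidHom = spanPts M9Data.nineGens := by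
        refine Subgroup.eq_of_le_of_card_ge ?_ ?_
        · rintro _ ⟨y, hy, rfl⟩; exact hgens s hs y hy
        · rw [Subgroup.card_map_of_injective (MulAut.conj (pm s)).injective]
      rw [← hmap] at hx
      obtain ⟨y, hy, hyx⟩ := hx
      exact (MulAut.conj (pm s)).injective hyx ▸ hy
    exact fun x hx => (Subgroup.mem_normalizer_iff.1 (hN hg) x).1 hx
  refine ⟨⟨(spanPts M9Data.nineGens).subgroupOf K0, ⟨fun x hx g => hconj g g.2 x hx⟩, ?_, ?_⟩, ?_⟩
  · rw [Nat.card_congr (Subgroup.subgroupOfEquivOfLe hAle).toEquiv, card_spanPts, M9Data.nine_card]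
  · intro x hx
    obtain ⟨e, he, hok, hee⟩ := exists_code_of_mem hcl hx
    refine Subtype.ext ?_
    show (x : Equiv.Perm Cfsg.GolayPt) ^ 3 = 1
    have hee' : pm e.1 = (x : Equiv.Perm Cfsg.GolayPt) := hee
    rw [← hee', ← pm_powc hok, pm_eq_one (powc_ok hok 3) (hexp e he)]
  · have hq := quat_checks
    simp only [Bool.and_eq_true, List.all_eq_true, Bool.or_eq_true, decide_eq_true_eq,
      Bool.not_eq_true'] at hq
    have hin := fun g => hq.1 g (quatList_complete g)
    let f : QuaternionGroup 2 →* K0 := MonoidHom.mk' (fun g => ⟨pm (quatCode g), inK0_spec (hin g)⟩)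
      fun g h => Subtype.ext (by
        show pm (quatCode (g * h)) = pm (quatCode g) * pm (quatCode h)
        rw [← pm_mul (hgood (hin g)) (hgood (hin h))]
        exact (pm_eq_of_eqc (ok_pm_mul (hgood (hin g)) (hgood (hin h))) (hgood (hin _))
          (hq.2 g (quatList_complete g) h (quatList_complete h)).1).symm)
    have hf : Function.Injective f := fun g h e => by
      rcases (hq.2 g (quatList_complete g) h (quatList_complete h)).2 with e' | e'
      · exact e'
      · have := eqc_of_pm_eq (hgood (hin g)) (hgood (hin h)) (congrArg Subtype.val e)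
        rw [this] at e'
        exact Bool.noConfusion e'
    refine ⟨f.range, ?_, ⟨(MonoidHom.ofInjective hf).symm⟩⟩
    rw [← Nat.card_congr (MonoidHom.ofInjective hf).toEquiv, Nat.card_eq_fintype_card, QuaternionGroup.card]

/-- In the group of the length-24 code, the subgroup fixing a dodecad setwise and three of its points individually (a group of order 72) has a normal Sylow 3-subgroup that is elementary abelian of order 9, and its Sylow 2-subgroups are quaternion of order 8. -/
theorem result (d : Finset Cfsg.GolayPt) (hd : d ∈ Cfsg.dodecads) (p q r : Cfsg.GolayPt) (hp : p ∈ d) (hq : q ∈ d) (hr : r ∈ d) (hpq : p ≠ q) (hpr : p ≠ r) (hqr : q ≠ r) : (∀ Q : Sylow 3 ↥(MulAction.stabilizer Cfsg.M24 d ⊓ MulAction.stabilizer Cfsg.M24 p ⊓ MulAction.stabilizer Cfsg.M24 q ⊓ MulAction.stabilizer Cfsg.M24 r), (Q : Subgroup ↥(MulAction.stabilizer Cfsg.M24 d ⊓ MulAction.stabilizer Cfsg.M24 p ⊓ MulAction.stabilizer Cfsg.M24 q ⊓ MulAction.stabilizer Cfsg.M24 r)).Normal ∧ Nat.card ↥Q = 9 ∧ ∀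 x ∈ (Q : Subgroup ↥(MulAction.stabilizer Cfsg.M24 d ⊓ MulAction.stabilizer Cfsg.M24 p ⊓ MulAction.stabilizer Cfsg.M24 q ⊓ MulAction.stabilizer Cfsg.M24 r)), x ^ 3 = 1) ∧ ∀ P : Sylow 2 ↥(MulAction.stabilizer Cfsg.M24 d ⊓ MulAction.stabilizer Cfsg.M24 p ⊓ MulAction.stabilizer Cfsg.M24 q ⊓ MulAction.stabilizer Cfsg.M24 r), Nonempty (↥P ≃* QuaternionGroup 2) := by
  obtain ⟨g, hg, hgd, hgm⟩ : ∃ g ∈ Cfsg.M24, g • Cfsg.Spor.squareDodecad = d ∧
      ([some 2, some 1, some 0] : List Cfsg.GolayPt).map g = [r, q, p] := by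
    obtain ⟨g₁, hg₁, hd₁⟩ := exists_smul_dodecad squareDodecad_mem hd
    have hback : ∀ {x : Cfsg.GolayPt}, x ∈ d → g₁⁻¹ x ∈ Cfsg.Spor.squareDodecad := fun hx =>
      Finset.inv_smul_mem_iff.2 (hd₁ ▸ hx)
    obtain ⟨s, hs, hsc⟩ := Finset.exists_subset_card_eq (s := (d \ {p, q, r})) (n := 2) (by
      rw [Finset.card_sdiff_of_subset (by simp [Finset.insert_subset_iff, hp, hq, hr]), hd.2,
        Finset.card_insert_of_notMem (by simp [hpq, hpr]), Finset.card_pair hqr]
      norm_num)
    have hmem : ∀ y ∈ s, y ∈ d ∧ y ≠ p ∧ y ≠ q ∧ y ≠ r := fun y hy => by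
      have := hs hy
      simp only [Finset.mem_sdiff, Finset.mem_insert, Finset.mem_singleton, not_or] at this
      exact this
    obtain ⟨h, ⟨hh, hhm⟩, -⟩ := M12_sharp (xs := [some 2, some 1, some 0, some 3, some 4])
      (ys := ([r, q, p] ++ s.toList).map (g₁⁻¹ : Equiv.Perm Cfsg.GolayPt)) (by decide +kernel)
      (List.Nodup.map g₁⁻¹.injective (List.nodup_append.2 ⟨by simp [hqr.symm, hpr.symm, hpq.symm],
        s.nodup_toList, fun a ha b hb e => by
          obtain ⟨-, h1, h2, h3⟩ := hmem b (Finset.mem_toList.1 hb)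
          simp only [List.mem_cons, List.not_mem_nil, or_false] at ha
          rcases ha with rfl | rfl | rfl
          · exact h3 e.symm
          · exact h2 e.symm
          · exact h1 e.symm⟩)) rfl (by simp [hsc])
      (by rw [squareDodecad_eq]; decide +kernel) (fun x hx => by
        obtain ⟨y, hy, rfl⟩ := List.mem_map.1 hx
        refine hback ?_
        rcases List.mem_append.1 hy with hy | hy
        · simp only [List.mem_cons, List.not_mem_nil, or_false] at hy
          rcases hy with rfl | rfl | rfl <;> assumption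
        · exact (hmem y (Finset.mem_toList.1 hy)).1)
    refine ⟨g₁ * h, mul_mem hg₁ (mem_M12.1 hh).1, by rw [mul_smul, (mem_M12.1 hh).2, hd₁], ?_⟩
    have h3 := congrArg (List.take 3) hhm
    simp only [List.map_cons, List.map_nil, List.take_succ_cons, List.take_zero, List.map_append,
      List.cons_append, List.nil_append, List.cons.injEq, and_true] at h3
    simp only [List.map_cons, List.map_nil, Equiv.Perm.mul_apply, h3.1, h3.2.1, h3.2.2, perm_apply_inv]
  simp only [List.map_cons, List.map_nil, List.cons.injEq, and_true] at hgm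
  obtain ⟨hgr, hgq, hgp⟩ := hgm
  set K := MulAction.stabilizer Cfsg.M24 d ⊓ MulAction.stabilizer Cfsg.M24 p ⊓
    MulAction.stabilizer Cfsg.M24 q ⊓ MulAction.stabilizer Cfsg.M24 r with hKdef
  have hiff : ∀ x : ↥Cfsg.M24, x ∈ K ↔ g⁻¹ * (x : Equiv.Perm Cfsg.GolayPt) * g ∈ K0 := by
    intro x
    have hM : g⁻¹ * (x : Equiv.Perm Cfsg.GolayPt) * g ∈ Cfsg.M24 := mul_mem (mul_mem (inv_mem hg) x.2) hg
    rw [K0, mem_fixPts, mem_M12]
    simp only [hM, true_and]
    simp only [hKdef, Subgroup.mem_inf, MulAction.mem_stabilizer_iff,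
      List.forall_mem_cons, List.not_mem_nil, IsEmpty.forall_iff, implies_true, and_true,
      Subgroup.smul_def, Equiv.Perm.smul_def, Equiv.Perm.mul_apply, mul_smul, hgd, hgp, hgq, hgr,
      inv_smul_eq_iff]
    have e1 : ∀ y z : Cfsg.GolayPt, g⁻¹ y = z ↔ y = g z := fun y z =>
      ⟨fun e => by rw [← e, perm_apply_inv], fun e => by rw [e, perm_inv_apply]⟩
    simp only [e1, hgp, hgq, hgr]
    tauto
  let φ : K ≃* K0 :=
    { toFun := fun x => ⟨g⁻¹ * ((x : ↥Cfsg.M24) : Equiv.Perm Cfsg.GolayPt) * g, (hiff x).1 x.2⟩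
      invFun := fun y => ⟨⟨g * y * g⁻¹, mul_mem (mul_mem hg (mem_M12.1 y.2.1).1) (inv_mem hg)⟩,
        (hiff _).2 (by show g⁻¹ * (g * y.1 * g⁻¹) * g ∈ K0; rw [show g⁻¹ * (g * y.1 * g⁻¹) * g = y.1 by group]; exact y.2)⟩
      left_inv := fun x => Subtype.ext (Subtype.ext (by
        show g * (g⁻¹ * ((x : ↥Cfsg.M24) : Equiv.Perm Cfsg.GolayPt) * g) * g⁻¹ = _; group))
      right_inv := fun y => Subtype.ext (by show g⁻¹ * (g * y.1 * g⁻¹) * g = _; group)
      map_mul' := fun x y => Subtype.ext (by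
        show g⁻¹ * (((x : ↥Cfsg.M24) : Equiv.Perm Cfsg.GolayPt) * ((y : ↥Cfsg.M24) : Equiv.Perm Cfsg.GolayPt)) * g =
          g⁻¹ * ((x : ↥Cfsg.M24) : Equiv.Perm Cfsg.GolayPt) * g * (g⁻¹ * ((y : ↥Cfsg.M24) : Equiv.Perm Cfsg.GolayPt) * g)
        group) }
  have hK72 : Nat.card K = 72 := by rw [Nat.card_congr φ.toEquiv, card_K0]
  obtain ⟨⟨A, hAn, hA9, hA3⟩, B, hB8, ⟨eB⟩⟩ := standard_structure
  haveI := hAn
  let A' : Subgroup K := A.comap φ.toMonoidHom
  have hA' : Nat.card A' = 9 := by
    rw [← hA9]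
    exact Nat.card_congr
      { toFun := fun x => ⟨φ x.1, x.2⟩
        invFun := fun y => ⟨φ.symm y.1, by show φ (φ.symm y.1) ∈ A; rw [φ.apply_symm_apply]; exact y.2⟩
        left_inv := fun x => Subtype.ext (φ.symm_apply_apply x.1)
        right_inv := fun y => Subtype.ext (φ.apply_symm_apply y.1) }
  let eA : ↥(B.comap φ.toMonoidHom) ≃* B :=
    { toFun := fun x => ⟨φ x.1, x.2⟩
      invFun := fun y => ⟨φ.symm y.1, by show φ (φ.symm y.1) ∈ B; rw [φ.apply_symm_apply]; exact y.2⟩
      left_inv := fun x => Subtype.ext (φ.symm_apply_apply x.1)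
      right_inv := fun y => Subtype.ext (φ.apply_symm_apply y.1)
      map_mul' := fun x y => Subtype.ext (map_mul φ x.1 y.1) }
  have f3 : (72 : ℕ).factorization 3 = 2 := by
    rw [show (72 : ℕ) = 2 ^ 3 * 3 ^ 2 by norm_num, Nat.factorization_mul (by norm_num) (by norm_num),
      Finsupp.add_apply, Nat.Prime.factorization_pow Nat.prime_two, Nat.Prime.factorization_pow Nat.prime_three,
      Finsupp.single_apply, Finsupp.single_apply]
    norm_num
  have f2 : (72 : ℕ).factorization 2 = 3 := by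
    rw [show (72 : ℕ) = 2 ^ 3 * 3 ^ 2 by norm_num, Nat.factorization_mul (by norm_num) (by norm_num),
      Finsupp.add_apply, Nat.Prime.factorization_pow Nat.prime_two, Nat.Prime.factorization_pow Nat.prime_three,
      Finsupp.single_apply, Finsupp.single_apply]
    norm_num
  haveI : Fact (Nat.Prime 3) := ⟨Nat.prime_three⟩
  haveI : Fact (Nat.Prime 2) := ⟨Nat.prime_two⟩
  refine ⟨fun Q => ?_, fun P => ?_⟩
  · let S : Sylow 3 K := Sylow.ofCard A' (by rw [hA', hK72, f3]; norm_num)
    haveI hSn : (S : Subgroup K).Normal := by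
      rw [Sylow.coe_ofCard]
      exact hAn.comap _
    haveI := Sylow.unique_of_normal S hSn
    have hQ : (Q : Subgroup K) = A' := by
      rw [Subsingleton.elim Q S]; exact Sylow.coe_ofCard A' _
    refine ⟨by rw [hQ]; exact hAn.comap _, Q.card_eq_multiplicity.trans (by rw [hK72, f3]; norm_num), fun x hx => ?_⟩
    rw [hQ] at hx
    exact φ.injective (by rw [map_pow, map_one]; exact hA3 _ hx)
  · let S : Sylow 2 K := Sylow.ofCard (B.comap φ.toMonoidHom) (by
      rw [Nat.card_congr eA.toEquiv, hB8, hK72, f2]; norm_num)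
    exact ⟨(Sylow.equiv P S).trans ((MulEquiv.subgroupCongr (Sylow.coe_ofCard _ _)).trans (eA.trans eB))⟩

end Cfsg.Agent.S5619
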