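import Cfsg.Statements.S5620
import Cfsg.Agent.Lib.Golay.Mathieu
import Cfsg.Agent.Lib.M24Elt.Basic
import Cfsg.Agent.Lib.GolayDesign.Octads
-- import your own Cfsg.Agent.* helpers here

set_option autoImplicit false
open scoped Pointwise
open Cfsg

open CfsgLib.Golay CfsgLib.M24Elt
open scoped Pointwise

namespace Cfsg.Agent.S5620

theorem witness_check : ([565977270218746942108523459264630844645425212229468294406, 565975007774450468195829103765074436559695611759962884356].all (fun c => good c &&
      Nat.beq (push c 340831) 340831 && Nat.beq (app c 23) 23) &&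
    allLt 24 (fun j => !(Nat.testBit 340831 j) || [565977270218746942108523459264630844645425212229468294406, 565975007774450468195829103765074436559695611759962884356].any (fun c => !Nat.beq (app c j) j))) = true := by
  decide +kernel

theorem compl_mem : (Finset.univ \ Cfsg.Spor.squareDodecad) ∈ Cfsg.dodecads := by
  refine mem_dodecads.2 ⟨?_, ?_⟩
  · have := CfsgLib.GolayDesign.compl_mem_supports (mem_dodecads.1 squareDodecad_mem).1
    rwa [Finset.compl_eq_univ_sdiff] at this
  · rw [squareDodecad_eq]; decide +kernel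

/-- Inside the stabiliser of the dodecad of squares (a Mathieu group of degree 12), the stabiliser of the residue 0 (a point of the dodecad) and the stabiliser of the extra point (a point outside the dodecad) are isomorphic but not conjugate; conjugation by a suitable element of the code's group that maps the dodecad of squares onto its complement carries the first onto the second. -/
theorem result : Nonempty (↥(Cfsg.Spor.M12 ⊓ MulAction.stabilizer (Equiv.Perm Cfsg.GolayPt) (none : Cfsg.GolayPt)) ≃* ↥Cfsg.Spor.M11) ∧ (¬ ∃ k ∈ Cfsg.Spor.M12, MulAut.conj k • Cfsg.Spor.M11 = Cfsg.Spor.M12 ⊓ MulAction.stabilizer (Equiv.Perm Cfsg.GolayPt) (none : Cfsg.GolayPt)) ∧ ∃ g ∈ Cfsg.M24, g • Cfsg.Spor.squareDodecad = Finset.univ \ Cfsg.Spor.squareDodecad ∧ MulAut.conj g • Cfsg.Spor.M11 = Cfsg.Spor.M12 ⊓ MulAction.stabilizer (Equiv.Perm Cfsg.GolayPt) (none : Cfsg.GolayPt) := by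
  obtain ⟨g, hg, hgd, hgp⟩ := exists_smul_dodecad_point compl_mem
    (p := (none : Cfsg.GolayPt)) (by rw [squareDodecad_eq]; decide +kernel)
  have hgc : g • (Finset.univ \ Cfsg.Spor.squareDodecad) = Cfsg.Spor.squareDodecad := by
    rw [Finset.smul_finset_sdiff, Finset.smul_finset_univ, hgd, Finset.sdiff_sdiff_eq_self (Finset.subset_univ _)]
  have hconj : MulAut.conj g • Cfsg.Spor.M11 =
      Cfsg.Spor.M12 ⊓ MulAction.stabilizer (Equiv.Perm Cfsg.GolayPt) (none : Cfsg.GolayPt) := by
    ext x
    rw [Subgroup.mem_pointwise_smul_iff_inv_smul_mem, spor_M11_eq, mem_fixPts, Subgroup.mem_inf,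
      MulAction.mem_stabilizer_iff, List.forall_mem_singleton, MulAut.smul_def, MulAut.conj_inv_apply,
      mem_M12, mem_M12, Equiv.Perm.smul_def]
    constructor
    · rintro ⟨⟨h1, h2⟩, h3⟩
      have hx : x ∈ Cfsg.M24 := by
        have := mul_mem (mul_mem hg h1) (inv_mem hg)
        rwa [show g * (g⁻¹ * x * g) * g⁻¹ = x by group] at this
      refine ⟨⟨hx, ?_⟩, ?_⟩
      · rw [mul_smul, mul_smul, hgd, inv_smul_eq_iff, hgd] at h2
        have e := congrArg (fun s => Finset.univ \ s) h2
        rw [Finset.sdiff_sdiff_eq_self (Finset.subset_univ _), Finset.smul_finset_sdiff,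
          Finset.smul_finset_univ] at e
        rw [Finset.sdiff_sdiff_eq_self (Finset.subset_univ _)] at e
        exact e
      · rw [Equiv.Perm.mul_apply, Equiv.Perm.mul_apply, hgp] at h3
        rw [← perm_apply_inv g (x none), h3, hgp]
    · rintro ⟨⟨h1, h2⟩, h3⟩
      refine ⟨⟨mul_mem (mul_mem (inv_mem hg) h1) hg, ?_⟩, ?_⟩
      · rw [mul_smul, mul_smul, hgd, inv_smul_eq_iff, hgd, Finset.smul_finset_sdiff,
          Finset.smul_finset_univ, h2]
      · rw [Equiv.Perm.mul_apply, Equiv.Perm.mul_apply, hgp, h3]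
        conv_lhs => rw [← hgp]
        rw [perm_inv_apply]
  refine ⟨⟨?_⟩, ?_, g, hg, hgd, hconj⟩
  · rw [← hconj]
    exact (Subgroup.equivSMul (MulAut.conj g) Cfsg.Spor.M11).symm
  · rintro ⟨k, hk, hkc⟩
    have h := witness_check
    simp only [Bool.and_eq_true, List.all_eq_true] at h
    have hd0 : (some 0 : Cfsg.GolayPt) ∈ Cfsg.Spor.squareDodecad := by
      rw [squareDodecad_eq]; decide +kernel
    have hkD : k (some 0) ∈ toSet 340831 := by
      rw [← squareDodecad_eq]; exact (M12_apply_mem hk _).2 hd0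
    have hj := allLt_spec h.2 _ (bit_lt (k (some 0)))
    rw [mem_toSet.1 hkD, Bool.not_true, Bool.false_or, List.any_eq_true] at hj
    obtain ⟨c, hc, hcne⟩ := hj
    obtain ⟨⟨hgood, hpush⟩, hnone⟩ := h.1 c hc
    have hmem : pm c ∈ Cfsg.Spor.M12 ⊓ MulAction.stabilizer (Equiv.Perm Cfsg.GolayPt)
        (none : Cfsg.GolayPt) := by
      refine ⟨mem_M12.2 ⟨pm_mem hgood, ?_⟩, ?_⟩
      · rw [squareDodecad_eq, ← toSet_push (isPermOf_pm (good_ok hgood)), Nat.eq_of_beq_eq_true hpush]
      · show pm c none = none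
        refine bit_injective ?_
        rw [← isPermOf_pm (good_ok hgood)]
        exact Nat.eq_of_beq_eq_true hnone
    rw [← hkc, Subgroup.mem_pointwise_smul_iff_inv_smul_mem, spor_M11_eq, mem_fixPts,
      List.forall_mem_singleton, MulAut.smul_def, MulAut.conj_inv_apply, Equiv.Perm.mul_apply,
      Equiv.Perm.mul_apply] at hmem
    have e : pm c (k (some 0)) = k (some 0) := by
      have := congrArg k hmem.2
      rwa [perm_apply_inv] at this
    rw [isPermOf_pm (good_ok hgood) (k (some 0)), e] at hcne
    simp at hcne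

end Cfsg.Agent.S5620
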