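import Cfsg.Statements.S5622
import Cfsg.Agent.Lib.Sporadic.AbstractGolay

set_option autoImplicit false
open Cfsg

namespace Cfsg.Agent.S5622

/-- Let C be a self-dual binary code of length 24 with minimum weight at least 8 (a 12-dimensional subspace of the 24-dimensional space over the field with two elements, any two of whose words have dot product zero, with no non-zero word of weight below 8 — an abstract extended binary Golay code). Then the minimum weight of C is exactly 8, and the supports of the words of weight 8 (the octads) form a Steiner system S(5, 8, 24) on the 24 coordinates: every 5 coordinates lie in the support of exactly one word of weight 8. -/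
theorem result (C : Submodule (ZMod 2) (Fin 24 → ZMod 2)) (hdim : Module.finrank (ZMod 2) C = 12) (horth : ∀ v ∈ C, ∀ w ∈ C, ∑ i, v i * w i = 0) (hmin : ∀ w ∈ C, w ≠ 0 → 8 ≤ hammingNorm w) : (∃ w ∈ C, hammingNorm w = 8) ∧ Cfsg.IsSteinerSystem 5 8 (Cfsg.wordsOfWeight (C : Set (Fin 24 → ZMod 2)) 8) := by
  have hK := CfsgLib.Sporadic.AbstractGolay.isGolay_family (by simp) C hdim horth hmin
  have hmem : ∀ b : Finset (Fin 24),
      b ∈ Cfsg.wordsOfWeight (C : Set (Fin 24 → ZMod 2)) 8 ↔
        b ∈ CfsgLib.Sporadic.AbstractGolay.family C ∧ b.card = 8 := by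
    intro b
    refine and_congr_left fun _ => ?_
    constructor
    · rintro ⟨w, hw, rfl⟩
      exact CfsgLib.Sporadic.AbstractGolay.supp_mem_family.mpr hw
    · intro hb
      exact ⟨_, CfsgLib.Sporadic.AbstractGolay.mem_family.mp hb,
        CfsgLib.Sporadic.AbstractGolay.supp_wordOf b⟩
  refine ⟨?_, ?_, ?_⟩
  · obtain ⟨o, ho, ho8⟩ := CfsgLib.Sporadic.AbstractGolay.exists_octad hK
    refine ⟨_, CfsgLib.Sporadic.AbstractGolay.mem_family.mp ho, ?_⟩
    rw [← CfsgLib.Sporadic.AbstractGolay.card_supp, CfsgLib.Sporadic.AbstractGolay.supp_wordOf, ho8]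
  · exact fun b hb => ((hmem b).mp hb).2
  · intro s hs
    simp only [hmem]
    exact CfsgLib.Sporadic.AbstractGolay.octad_existsUnique hK hs

end Cfsg.Agent.S5622
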