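import Cfsg.Statements.S5624
import Cfsg.Agent.Lib.Sporadic.AbstractGolay

set_option autoImplicit false
open Cfsg

namespace Cfsg.Agent.S5624

/-- Let C be a self-dual binary code of length 24 with minimum weight at least 8 (a 12-dimensional subspace of the 24-dimensional space over the field with two elements, any two of whose words have dot product zero, with no non-zero word of weight below 8 — an abstract extended binary Golay code). Then C is spanned, as a vector space over the field with two elements, by its words of weight 8. -/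
theorem result (C : Submodule (ZMod 2) (Fin 24 → ZMod 2)) (hdim : Module.finrank (ZMod 2) C = 12) (horth : ∀ v ∈ C, ∀ w ∈ C, ∑ i, v i * w i = 0) (hmin : ∀ w ∈ C, w ≠ 0 → 8 ≤ hammingNorm w) : Submodule.span (ZMod 2) {w : Fin 24 → ZMod 2 | w ∈ C ∧ hammingNorm w = 8} = C := by
  have hK := CfsgLib.Sporadic.AbstractGolay.isGolay_family (by simp) C hdim horth hmin
  refine le_antisymm (Submodule.span_le.mpr fun w hw => hw.1) fun w hw => ?_
  have h := (CfsgLib.Sporadic.AbstractGolay.doublyEven_and_generated hK
    (fun a => CfsgLib.Sporadic.AbstractGolay.wordOf a ∈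
      Submodule.span (ZMod 2) {w : Fin 24 → ZMod 2 | w ∈ C ∧ hammingNorm w = 8})
    (by
      have : CfsgLib.Sporadic.AbstractGolay.wordOf (∅ : Finset (Fin 24)) = 0 := by
        funext i; simp [CfsgLib.Sporadic.AbstractGolay.wordOf]
      simp [this])
    (fun a b _ hb hb8 hab => ?_) _ (CfsgLib.Sporadic.AbstractGolay.supp_mem_family.mpr hw)).2
  · rwa [CfsgLib.Sporadic.AbstractGolay.wordOf_supp] at h
  · have hbs : CfsgLib.Sporadic.AbstractGolay.wordOf b ∈
        Submodule.span (ZMod 2) {w : Fin 24 → ZMod 2 | w ∈ C ∧ hammingNorm w = 8} := by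
      refine Submodule.subset_span ⟨CfsgLib.Sporadic.AbstractGolay.mem_family.mp hb, ?_⟩
      rw [← CfsgLib.Sporadic.AbstractGolay.card_supp, CfsgLib.Sporadic.AbstractGolay.supp_wordOf, hb8]
    have := Submodule.add_mem _ hab hbs
    rwa [show CfsgLib.Sporadic.AbstractGolay.wordOf (symmDiff a b) +
        CfsgLib.Sporadic.AbstractGolay.wordOf b = CfsgLib.Sporadic.AbstractGolay.wordOf a from
      CfsgLib.Sporadic.AbstractGolay.supp_injective (by
        simp only [CfsgLib.Sporadic.AbstractGolay.supp_add,
          CfsgLib.Sporadic.AbstractGolay.supp_wordOf, symmDiff_symmDiff_cancel_right])] at this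

end Cfsg.Agent.S5624
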