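import Cfsg.Statements.S5625
-- import your own Cfsg.Agent.* helpers here

set_option autoImplicit false
open Cfsg

namespace Cfsg.Agent.S5625

/-- Count of the `t`-subsets between `s` and `u`. -/
theorem card_between {α : Type*} [DecidableEq α] (t : ℕ) (s u : Finset α) (h : s ⊆ u) (hs : s.card ≤ t) :
    ((u.powersetCard t).filter fun T => s ⊆ T).card = (u.card - s.card).choose (t - s.card) := by
  rw [← Finset.card_sdiff_of_subset h, ← Finset.card_powersetCard]
  refine Finset.card_nbij' (fun T => T \ s) (fun T => T ∪ s) ?_ ?_ ?_ ?_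
  · intro T hT
    simp only [Finset.coe_filter, Finset.mem_powersetCard, Set.mem_ofPred_eq] at hT
    simp only [Finset.mem_coe, Finset.mem_powersetCard]
    refine ⟨Finset.sdiff_subset_sdiff hT.1.1 subset_rfl, ?_⟩
    rw [Finset.card_sdiff_of_subset hT.2, hT.1.2]
  · intro T hT
    simp only [Finset.mem_coe, Finset.mem_powersetCard] at hT
    simp only [Finset.coe_filter, Finset.mem_powersetCard, Set.mem_ofPred_eq]
    refine ⟨⟨Finset.union_subset (hT.1.trans Finset.sdiff_subset) h, ?_⟩, Finset.subset_union_right⟩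
    rw [Finset.card_union_of_disjoint (Finset.disjoint_of_subset_left hT.1 Finset.sdiff_disjoint), hT.2]
    omega
  · intro T hT
    simp only [Finset.coe_filter, Finset.mem_powersetCard, Set.mem_ofPred_eq] at hT
    exact Finset.sdiff_union_of_subset hT.2
  · intro T hT
    simp only [Finset.mem_coe, Finset.mem_powersetCard] at hT
    exact Finset.union_sdiff_cancel_right (Finset.disjoint_of_subset_left hT.1 Finset.sdiff_disjoint)

/-- Blocks through a set of at most `t` points. -/
theorem card_through {α : Type*} [Fintype α] [DecidableEq α] {t k : ℕ} (Bf : Finset (Finset α))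
    (hk : ∀ b ∈ Bf, b.card = k) (huniq : ∀ T : Finset α, T.card = t → ∃! b, b ∈ Bf ∧ T ⊆ b)
    (s : Finset α) (hs : s.card ≤ t) :
    (Bf.filter fun b => s ⊆ b).card * (k - s.card).choose (t - s.card) =
      (Fintype.card α - s.card).choose (t - s.card) := by
  have hu := card_between t s Finset.univ (Finset.subset_univ s) hs
  rw [Finset.card_univ] at hu
  rw [← hu, mul_comm]
  have e1 : ∀ b ∈ Bf.filter (fun b => s ⊆ b),
      ((b.powersetCard t).filter fun T => s ⊆ T).card = (k - s.card).choose (t - s.card) := by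
    intro b hb
    rw [Finset.mem_filter] at hb
    rw [card_between t s b hb.2 hs, hk b hb.1]
  have e2 : (Finset.univ.powersetCard t).filter (fun T => s ⊆ T) =
      (Bf.filter fun b => s ⊆ b).biUnion fun b => (b.powersetCard t).filter fun T => s ⊆ T := by
    ext T
    simp only [Finset.mem_filter, Finset.mem_powersetCard, Finset.mem_biUnion]
    constructor
    · rintro ⟨⟨-, hT⟩, hsT⟩
      obtain ⟨b, ⟨hb, hTb⟩, -⟩ := huniq T hT
      exact ⟨b, ⟨hb, hsT.trans hTb⟩, ⟨hTb, hT⟩, hsT⟩
    · rintro ⟨b, -, ⟨-, hT⟩, hsT⟩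
      exact ⟨⟨Finset.subset_univ _, hT⟩, hsT⟩
  rw [e2, Finset.card_biUnion, Finset.sum_congr rfl e1, Finset.sum_const, smul_eq_mul, mul_comm]
  intro b hb b' hb' hne
  rw [Function.onFun, Finset.disjoint_left]
  intro T hT hT'
  simp only [Finset.mem_filter, Finset.mem_powersetCard] at hT hT'
  exact hne ((huniq T hT.1.2).unique ⟨(Finset.mem_filter.mp hb).1, hT.1.1⟩
    ⟨(Finset.mem_filter.mp hb').1, hT'.1.1⟩)

/-- In any Steiner system S(5, 8, 24) and for any set Y of three points, the blocks meeting Y in exactly 3, 2, 1 and 0 points number 21, 168, 360 and 210 respectively (so there are 759 blocks in all). -/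
theorem result (α : Type*) [Fintype α] [DecidableEq α] (hα : Fintype.card α = 24) (B : Set (Finset α)) (hB : Cfsg.IsSteinerSystem 5 8 B) (Y : Finset α) (hY : Y.card = 3) : {b : Finset α | b ∈ B ∧ (b ∩ Y).card = 3}.ncard = 21 ∧ {b : Finset α | b ∈ B ∧ (b ∩ Y).card = 2}.ncard = 168 ∧ {b : Finset α | b ∈ B ∧ (b ∩ Y).card = 1}.ncard = 360 ∧ {b : Finset α | b ∈ B ∧ (b ∩ Y).card = 0}.ncard = 210 := by
  classical
  obtain ⟨Bf, rfl⟩ : ∃ Bf : Finset (Finset α), (Bf : Set (Finset α)) = B :=
    ⟨B.toFinite.toFinset, Set.Finite.coe_toFinset _⟩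
  obtain ⟨hk, huniq⟩ := hB
  simp only [Finset.mem_coe] at hk huniq
  have hlam : ∀ s : Finset α, s.card ≤ 5 →
      (Bf.filter fun b => s ⊆ b).card * (8 - s.card).choose (5 - s.card) =
        (24 - s.card).choose (5 - s.card) := fun s hs => by
    rw [← hα]; exact card_through Bf hk huniq s hs
  -- double counting over the subsets of `Y`
  have hsum : ∀ j : ℕ, ∑ b ∈ Bf, ((b ∩ Y).card).choose j =
      ∑ s ∈ Y.powersetCard j, (Bf.filter fun b => s ⊆ b).card := by
    intro j
    refine (Finset.sum_congr rfl fun b _ => ?_).trans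
      (Finset.sum_card_bipartiteAbove_eq_sum_card_bipartiteBelow (s := Bf) (t := Y.powersetCard j)
        (fun (b s : Finset α) => s ⊆ b))
    rw [← Finset.card_powersetCard, Finset.bipartiteAbove]
    congr 1
    ext s
    simp only [Finset.mem_powersetCard, Finset.mem_filter, Finset.subset_inter_iff]
    tauto
  obtain ⟨v, hv⟩ : ∃ v : ℕ → ℕ, ∀ j, v j = ∑ b ∈ Bf, ((b ∩ Y).card).choose j := ⟨_, fun _ => rfl⟩
  have hv' : ∀ j ≤ 3, v j * (8 - j).choose (5 - j) = Nat.choose 3 j * (24 - j).choose (5 - j) := by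
    intro j hj
    rw [hv, hsum, Finset.sum_mul]
    rw [Finset.sum_congr rfl (g := fun _ => (24 - j).choose (5 - j))]
    · rw [Finset.sum_const, Finset.card_powersetCard, hY, smul_eq_mul]
    · intro s hs
      have := (Finset.mem_powersetCard.mp hs).2
      subst this
      exact hlam s (by omega)
  obtain ⟨n, hn⟩ : ∃ n : ℕ → ℕ, ∀ i, n i = (Bf.filter fun b => (b ∩ Y).card = i).card := ⟨_, fun _ => rfl⟩
  have hvn : ∀ j, v j = ∑ i ∈ Finset.range 4, n i * i.choose j := by
    intro j
    rw [hv, ← Finset.sum_fiberwise_of_maps_to (g := fun b => (b ∩ Y).card) (t := Finset.range 4)]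
    · refine Finset.sum_congr rfl fun i _ => ?_
      rw [hn, ← smul_eq_mul, ← Finset.sum_const]
      exact Finset.sum_congr rfl fun b hb => by rw [(Finset.mem_filter.mp hb).2]
    · intro b _
      simp only [Finset.mem_range]
      have := Finset.card_le_card (Finset.inter_subset_right (s₁ := b) (s₂ := Y))
      omega
  have h0 := hv' 0 (by norm_num)
  have h1 := hv' 1 (by norm_num)
  have h2 := hv' 2 (by norm_num)
  have h3 := hv' 3 (by norm_num)
  simp only [hvn, Finset.sum_range_succ, Finset.sum_range_zero] at h0 h1 h2 h3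
  simp (config := { decide := true }) [Nat.choose] at h0 h1 h2 h3
  have hset : ∀ i, {b : Finset α | b ∈ (Bf : Set (Finset α)) ∧ (b ∩ Y).card = i}.ncard = n i := by
    intro i
    rw [hn, ← Set.ncard_coe_finset, Finset.coe_filter]
    rfl
  rw [hset, hset, hset, hset]
  omega

end Cfsg.Agent.S5625
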