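import Cfsg.Statements.S5626
import Cfsg.Agent.Lib.Sporadic.PlaneFour

set_option autoImplicit false
open Cfsg

namespace Cfsg.Agent.S5626

/-- Uniqueness of the projective plane of order 4: any two Steiner systems S(2, 5, 21) (21 points, lines of 5 points, two points on exactly one line) are isomorphic. -/
theorem result {α β : Type*} [Fintype α] [DecidableEq α] [Fintype β] [DecidableEq β] (hα : Fintype.card α = 21) (hβ : Fintype.card β = 21) {L : Set (Finset α)} {L' : Set (Finset β)} (hL : Cfsg.IsSteinerSystem 2 5 L) (hL' : Cfsg.IsSteinerSystem 2 5 L') : Cfsg.SetSystemIso L L' := by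
  obtain ⟨Lf, rfl, hP⟩ := CfsgLib.Sporadic.PlaneFour.isPlane_of_steiner hα hL
  obtain ⟨Lf', rfl, hP'⟩ := CfsgLib.Sporadic.PlaneFour.isPlane_of_steiner hβ hL'
  obtain ⟨e, he⟩ := hP.exists_labelling
  obtain ⟨φ, -, hφ⟩ := hP.exists_coordinates e he
  obtain ⟨e', he'⟩ := hP'.exists_labelling
  obtain ⟨ψ, -, hψ⟩ := hP'.exists_coordinates e' he'
  refine ⟨φ.trans ψ.symm, ?_⟩
  rw [← Finset.coe_image, Finset.coe_inj]
  calc Lf.image (fun b => b.image (φ.trans ψ.symm))
      = (Lf.image fun b => b.image φ).image (fun s => s.image ψ.symm) := by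
        rw [Finset.image_image]
        exact Finset.image_congr fun b _ => by simp [Finset.image_image]
    _ = (Lf'.image fun b => b.image ψ).image (fun s => s.image ψ.symm) := by rw [hφ, hψ]
    _ = Lf' := by
        rw [Finset.image_image]
        conv_rhs => rw [← Finset.image_id (s := Lf')]
        exact Finset.image_congr fun b _ => by simp [Finset.image_image]

end Cfsg.Agent.S5626
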