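import Cfsg.Statements.S5628
import Cfsg.Agent.Lib.Sporadic.PlaneFour

set_option autoImplicit false
open Cfsg

namespace Cfsg.Agent.S5628

/-- In a projective plane of order 4 (a Steiner system S(2, 5, 21)), every permutation of the six points of a hyperoval (a 6-set met by no line in more than two points) is the restriction of exactly one automorphism of the plane. In particular the stabiliser of a hyperoval in the automorphism group is isomorphic to the symmetric group of degree 6 acting faithfully on the hyperoval. -/
theorem result {α : Type*} [Fintype α] [DecidableEq α] (hα : Fintype.card α = 21) (L : Set (Finset α)) (hL : Cfsg.IsSteinerSystem 2 5 L) (H : Finset α) (hH : (H.card = 6 ∧ ∀ l ∈ L, (l ∩ H).card ≤ 2)) (σ : Equiv.Perm ↥H) : ∃! g : Equiv.Perm α, g ∈ Cfsg.setSystemAut L ∧ ∀ p : ↥H, g p = σ p := by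
  obtain ⟨Lf, rfl, hP⟩ := CfsgLib.Sporadic.PlaneFour.isPlane_of_steiner hα hL
  obtain ⟨hH6, hI⟩ := hH
  obtain ⟨e, he⟩ : ∃ e : Fin 6 ≃ ↥H, True := ⟨(H.equivFinOfCardEq hH6).symm, trivial⟩
  have hmap : ∀ f : Fin 6 ≃ ↥H,
      Finset.univ.map (f.toEmbedding.trans (Function.Embedding.subtype _)) = H := fun f => by
    rw [← Finset.map_map, Finset.map_univ_equiv, Finset.univ_eq_attach, Finset.attach_map_val]
  obtain ⟨φ, hφe, hφ⟩ := hP.exists_coordinates (e.toEmbedding.trans (Function.Embedding.subtype _))
    (by rw [hmap]; exact hI)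
  obtain ⟨ψ, hψe, hψ⟩ := hP.exists_coordinates
    ((e.trans σ).toEmbedding.trans (Function.Embedding.subtype _)) (by rw [hmap]; exact hI)
  open scoped Pointwise in
  have hmem : ∀ g : Equiv.Perm α, g ∈ Cfsg.setSystemAut (Lf : Set (Finset α)) ↔
      Lf.image (fun l => l.image g) = Lf := by
    intro g
    rw [MulAction.mem_stabilizer_iff, ← Finset.coe_inj, Finset.coe_image]
    have : (g • (Lf : Set (Finset α))) = (fun l : Finset α => l.image g) '' (Lf : Set (Finset α)) := by
      rw [← Set.image_smul]
      rfl
    rw [this]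
  refine ⟨φ.trans ψ.symm, ⟨(hmem _).mpr ?_, ?_⟩, ?_⟩
  · calc Lf.image (fun b => b.image (φ.trans ψ.symm))
        = (Lf.image fun b => b.image φ).image (fun s => s.image ψ.symm) := by
          rw [Finset.image_image]
          exact Finset.image_congr fun b _ => by simp [Finset.image_image]
      _ = (Lf.image fun b => b.image ψ).image (fun s => s.image ψ.symm) := by rw [hφ, hψ]
      _ = Lf := by
          rw [Finset.image_image]
          conv_rhs => rw [← Finset.image_id (s := Lf)]
          exact Finset.image_congr fun b _ => by simp [Finset.image_image]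
  · intro p
    obtain ⟨i, rfl⟩ := e.surjective p
    rw [Equiv.trans_apply, Equiv.symm_apply_eq]
    exact (hφe i).trans (hψe i).symm
  · rintro g ⟨hg, hgp⟩
    have hgL := (hmem g).mp hg
    have h1 : ∀ l ∈ Lf, l.image (φ.trans ψ.symm) ∈ Lf := by
      intro l hl
      have h2 : l.image φ ∈ Lf.image (fun b => b.image ψ) := by
        rw [hψ, ← hφ]; exact Finset.mem_image_of_mem _ hl
      obtain ⟨m, hm, hme⟩ := Finset.mem_image.mp h2
      rw [Equiv.coe_trans, ← Finset.image_image, ← hme, Finset.image_image]
      simpa using hm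
    have key : ∀ x, g.symm ((φ.trans ψ.symm) x) = x := by
      refine hP.eq_self_of_fix_hyperoval hH6 hI ((φ.trans ψ.symm).trans g.symm) ?_ ?_
      · intro l hl
        have h2 := h1 l hl
        rw [← hgL] at h2
        obtain ⟨m, hm, hme⟩ := Finset.mem_image.mp h2
        rw [Equiv.coe_trans, ← Finset.image_image, ← hme, Finset.image_image]
        simpa using hm
      · intro p hp
        obtain ⟨i, hi⟩ := e.surjective ⟨p, hp⟩
        show g.symm (ψ.symm (φ p)) = p
        rw [Equiv.symm_apply_eq, Equiv.symm_apply_eq]
        have e1 : φ p = CfsgLib.Sporadic.PlaneFour.hPt i := by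
          have := hφe i
          simpa [hi] using this
        rw [e1, hgp ⟨p, hp⟩, ← hψe i]
        simp [hi]
    ext x
    have := key x
    rw [Equiv.symm_apply_eq] at this
    exact this.symm

end Cfsg.Agent.S5628
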