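import Cfsg.Statements.S5630
import Cfsg.Agent.Lib.Aschbacher.Main

set_option autoImplicit false
open Cfsg

namespace Cfsg.Agent.S5630

/-- Subgroup structure of the finite linear groups in dimension at least 3. Let F be a finite field, n ≥ 3, and let H be a subgroup of SL_n(F) (the kernel of the determinant inside GL_n(F)) whose product with the scalar matrices of determinant one is not all of SL_n(F), i.e. H does not cover PSL_n(F). Then either H is contained in a member of one of the eight geometric classes of subgroups of GL_n(F) (reducible, imprimitive, extension field, tensor product, subfield, symplectic-type normaliser, tensor wreath, similarity group of a form, with the conditions built into InLinearClass), or H is in the residual class: modulo scalars it is almost simple, and the perfect preimage of its socle acts absolutely irreducibly, is realisable over no proper subfield, and fixes no non-degenerate quadratic, symplectic or unitary form. (Dimension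 2, where the linear and symplectic groups coincide, is left to the classical list of subgroups of PSL_2.) -/
theorem result {F : Type*} [Field F] [Fintype F] (n : ℕ) (hn : 3 ≤ n) (H : Subgroup (Matrix.GeneralLinearGroup (Fin n) F)) (hH : H ≤ Cfsg.Geo.specialLinear (Fin n) F) (hproper : H ⊔ (Cfsg.Geo.scalars (Fin n) F ⊓ Cfsg.Geo.specialLinear (Fin n) F) ≠ Cfsg.Geo.specialLinear (Fin n) F) : (∃ M : Subgroup (Matrix.GeneralLinearGroup (Fin n) F), Cfsg.Geo.InLinearClass n F M ∧ H ≤ M) ∨ Cfsg.Geo.InLinearResidualClass H := by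
  have hle : ∀ {M : Subgroup (Matrix.GeneralLinearGroup (Fin n) F)},
      H ⊔ Cfsg.Geo.scalars (Fin n) F ≤ M → H ≤ M := fun h => le_sup_left.trans h
  rcases CfsgLib.Asch.linear_cases' (ι := Fin n) (by simpa using hn) H with
    ⟨W, h0, h1, h⟩ | ⟨t, m, D, hD, -, h⟩ | ⟨r, K, hr, hK, -, h⟩ | ⟨a, b, e, P, h2, h3, -, h⟩ |
      ⟨F₀, r, P, hr, hc, h⟩ | ⟨r, R, hR, -, h⟩ | ⟨m, t, e, P, hm, ht, -, h⟩ | ⟨Q, hQ, ho, h⟩ |
      ⟨f, hf, he, h⟩ | ⟨σ, f, hf, h⟩ | h
  · exact Or.inl ⟨_, Or.inl ⟨W, h0, h1, rfl⟩, hle h⟩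
  · exact Or.inl ⟨_, .inr (.inr (.inr (.inl ⟨t, m, D, hD, rfl⟩))), hle h⟩
  · exact Or.inl ⟨_, .inr (.inr (.inr (.inr (.inl ⟨r, K, hr, hK, rfl⟩)))), hle h⟩
  · exact Or.inl ⟨_, .inr (.inr (.inr (.inr (.inr (.inl ⟨a, b, e, P, h2, h3, rfl⟩))))), hle h⟩
  · exact Or.inl ⟨_, .inr (.inr (.inr (.inr (.inr (.inr (.inl ⟨F₀, r, P, hr, hc, rfl⟩)))))), hle h⟩
  · exact Or.inl ⟨_, .inr (.inr (.inr (.inr (.inr (.inr (.inr (.inl ⟨r, R, hR, rfl⟩))))))), hle h⟩
  · exact Or.inl ⟨_, .inr (.inr (.inr (.inr (.inr (.inr (.inr (.inr (.inl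
      ⟨m, t, e, P, hm, ht, rfl⟩)))))))), hle h⟩
  · exact Or.inl ⟨_, .inr (.inr (.inr (.inr (.inr (.inr (.inr (.inr (.inr (.inr (.inr
      ⟨Q, hQ, ho, hn, rfl⟩)))))))))), hle h⟩
  · obtain ⟨k, hk⟩ : Even n := by simpa using he
    exact Or.inl ⟨_, .inr (.inr (.inr (.inr (.inr (.inr (.inr (.inr (.inr (.inl
      ⟨f, hf, ⟨k, hk⟩, by omega, rfl⟩))))))))), hle h⟩
  · exact Or.inl ⟨_, .inr (.inr (.inr (.inr (.inr (.inr (.inr (.inr (.inr (.inr (.inl
      ⟨σ, f, hf, hn, rfl⟩)))))))))), hle h⟩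
  · exact Or.inr h

end Cfsg.Agent.S5630
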