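import Cfsg.Statements.S5633
import Cfsg.Agent.Lib.ClassicalMax.LinFlags

set_option autoImplicit false
open Cfsg

namespace Cfsg.Agent.S5633

/-- For a finite field F and complementary non-zero subspaces W ⊕ U = F^n with dim W < dim U, the elements of SL_n(F) stabilising both W and U form a subgroup that is not maximal in SL_n(F): some subgroup lies strictly between it and SL_n(F). -/
theorem result {F : Type*} [Field F] [Fintype F] (n : ℕ) (W U : Submodule F (Fin n → F)) (hW0 : W ≠ ⊥) (hWU : W ⊓ U = ⊥) (hWU' : W ⊔ U = ⊤) (hdim : Module.finrank F W < Module.finrank F U) : ∃ K : Subgroup (Matrix.GeneralLinearGroup (Fin n) F), Cfsg.Geo.subspaceStabilizer W ⊓ Cfsg.Geo.subspaceStabilizer U ⊓ Cfsg.Geo.specialLinear (Fin n) F < K ∧ K < Cfsg.Geo.specialLinear (Fin n) F := by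
  obtain ⟨w, hw, hw0⟩ := Submodule.exists_mem_ne_zero_of_ne_bot hW0
  obtain ⟨x, hx, hx0⟩ := Submodule.exists_mem_ne_zero_of_ne_bot (p := U) fun e => by
    rw [e, finrank_bot] at hdim
    omega
  have hxW : x ∉ W := fun h => hx0 ((Submodule.mem_bot F).1 (hWU ▸ ⟨h, hx⟩))
  have hwU : w ∉ U := fun h => hw0 ((Submodule.mem_bot F).1 (hWU ▸ ⟨hw, h⟩))
  refine CfsgLib.ClassicalMax.pair_stabilizer_not_maximal
    ⟨w, hw, x, CfsgLib.ClassicalMax.notMem_span_of_notMem hw hw0 hxW, hxW⟩ ⟨x, hx, w, ?_, hwU⟩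
  rwa [sup_eq_left.2 ((Submodule.span_singleton_le_iff_mem _ _).2 hw)]

end Cfsg.Agent.S5633
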