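import Cfsg.Statements.S5635
import Cfsg.Agent.Lib.ClassicalMax.DecompNotMax

set_option autoImplicit false
open Cfsg

namespace Cfsg.Agent.S5635

/-- For a finite field F with q elements and n ≥ 13, let D be a decomposition of F^n into t ≥ 2 independent subspaces of equal dimension m spanning F^n, where m = 1 and q ≤ 4, or m = 2 and q = 2. Then the elements of SL_n(F) permuting the members of D form a subgroup that is not maximal: some subgroup lies strictly between it and SL_n(F). -/
theorem result {F : Type*} [Field F] [Fintype F] (n : ℕ) (hn : 13 ≤ n) {t : ℕ} (m : ℕ) (D : Fin t → Submodule F (Fin n → F)) (hD : Cfsg.Geo.IsMDecomposition m D) (h : (m = 1 ∧ Fintype.card F ≤ 4) ∨ (m = 2 ∧ Fintype.card F = 2)) : ∃ K : Subgroup (Matrix.GeneralLinearGroup (Fin n) F), Cfsg.Geo.decompositionStabilizer D ⊓ Cfsg.Geo.specialLinear (Fin n) F < K ∧ K < Cfsg.Geo.specialLinear (Fin n) F := by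
  classical
  rcases h with ⟨rfl, hq⟩ | ⟨rfl, hq⟩
  · have hpow : ∀ a : F, a ≠ 0 → a ^ (Fintype.card F - 1) = 1 := fun a ha =>
      FiniteField.pow_card_sub_one_eq_one a ha
    have hcast : (Fintype.card F : F) = 0 := FiniteField.cast_card_eq_zero F
    have h1 : 1 < Fintype.card F := Fintype.one_lt_card
    interval_cases hc : Fintype.card F
    · refine CfsgLib.ClassicalMax.DecompNot.monomial_not_maximal hD (by simp; omega) (RingHom.id F)
        (fun _ => rfl) (fun a ha => ?_) (by linear_combination (3 : F) * hcast)
      have := hpow a ha
      simp only [Nat.reduceSub, pow_one] at this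
      simp [this]
    · refine CfsgLib.ClassicalMax.DecompNot.monomial_not_maximal hD (by simp; omega) (RingHom.id F)
        (fun _ => rfl) (fun a ha => ?_) (by linear_combination (2 : F) * hcast)
      have := hpow a ha
      simp only [Nat.reduceSub, pow_two] at this
      simpa using this
    · have h2 : (2 : F) = 0 := by
        have : (2 : F) ^ 2 = 0 := by norm_num at hcast ⊢; exact hcast
        exact eq_zero_of_pow_eq_zero this
      haveI : CharP F 2 := CharTwo.of_one_ne_zero_of_two_eq_zero one_ne_zero h2
      refine CfsgLib.ClassicalMax.DecompNot.monomial_not_maximal hD (by simp; omega) (frobenius F 2)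
        (fun a => ?_) (fun a ha => ?_) (by linear_combination (3 : F) * h2)
      · simp only [frobenius_def, ← pow_mul]
        calc a ^ (2 * 2) = a ^ Fintype.card F := by rw [hc]
          _ = a := FiniteField.pow_card a
      · have := hpow a ha
        simp only [frobenius_def]
        rw [← pow_succ']
        exact this
  · exact CfsgLib.ClassicalMax.DecompNot.plane_not_maximal hq hD (by simp; omega)

end Cfsg.Agent.S5635
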