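import Cfsg.Statements.S5649
import Cfsg.Agent.Lib.ClassicalMax.SympPair

set_option autoImplicit false
open Cfsg

namespace Cfsg.Agent.S5649

/-- For a finite field F of odd order and m ≥ 7, let D be a decomposition of F^(2m) into two complementary subspaces of dimension m on each of which the standard alternating form vanishes identically. Then the elements of Sp_2m(F) preserving or interchanging the two subspaces form a maximal subgroup of Sp_2m(F). -/
theorem result {F : Type*} [Field F] [Fintype F] (m : ℕ) (hm : 7 ≤ m) (hodd : Odd (Fintype.card F)) (D : Fin 2 → Submodule F (Fin m ⊕ Fin m → F)) (hD : Cfsg.Geo.IsMDecomposition m D) (hts : ∀ i, Cfsg.Geo.IsTotallySingularFor (Cfsg.sympForm m F) (D i)) : Cfsg.Geo.IsMaximalIn (Cfsg.spGL m F) (Cfsg.Geo.decompositionStabilizer D ⊓ Cfsg.spGL m F) := by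
  classical
  rw [CfsgLib.ClassicalMax.spGL_eq_isoOf]
  have hcompl : IsCompl (D 0) (D 1) := by
    refine ⟨?_, ?_⟩
    · exact hD.indep.pairwiseDisjoint (by decide : (0 : Fin 2) ≠ 1)
    · rw [codisjoint_iff, ← hD.iSup_eq_top]
      exact le_antisymm (sup_le (le_iSup D 0) (le_iSup D 1))
        (iSup_le fun i => by fin_cases i; exacts [le_sup_left, le_sup_right])
  have P : CfsgLib.ClassicalMax.SympPair.Pair (Cfsg.sympForm m F) (D 0) (D 1) := {
    hf := CfsgLib.ClassicalMax.isSymplecticForm_sympForm m F
    tsA := hts 0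
    tsB := hts 1
    split := fun x => Submodule.mem_sup.1 (by rw [hcompl.sup_eq_top]; trivial)
    disj := hcompl.inf_eq_bot
    dimA := by rw [hD.finrank_eq]; omega
    dimB := by rw [hD.finrank_eq, hD.finrank_eq] }
  refine CfsgLib.ClassicalMax.SympPair.pair_stabilizer_maximal P ?_ rfl rfl
  intro h2
  haveI : CharP F 2 := CharTwo.of_one_ne_zero_of_two_eq_zero one_ne_zero h2
  have h := FiniteField.even_card_of_char_two (F := F) (ringChar.eq F 2)
  have := Nat.odd_iff.1 hodd
  omega

end Cfsg.Agent.S5649
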