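import Cfsg.Statements.S5657
import Cfsg.Agent.Lib.ClassicalMax.UnitPair
import Cfsg.Agent.Lib.ClassicalMax.UnitStd

set_option autoImplicit false
open Cfsg

namespace Cfsg.Agent.S5657

/-- Let F be the field with q² elements and n = 2k ≥ 13. Let D be a decomposition of F^n into two complementary subspaces of dimension k on each of which the standard unitary form vanishes identically. Then the elements of SU_n(q) preserving or interchanging the two subspaces form a maximal subgroup of SU_n(q). -/
theorem result {F : Type*} [Field F] [Fintype F] (n q : ℕ) (hF : Fintype.card F = q ^ 2) (hn : 13 ≤ n) (k : ℕ) (hk : 2 * k = n) (D : Fin 2 → Submodule F (Fin n → F)) (hD : Cfsg.Geo.IsMDecomposition k D) (hts : ∀ i, Cfsg.Geo.IsTotallySingularFor (Cfsg.hermForm n F q) (D i)) : Cfsg.Geo.IsMaximalIn (Cfsg.GU n F q ⊓ Cfsg.Geo.specialLinear (Fin n) F) (Cfsg.Geo.decompositionStabilizer D ⊓ (Cfsg.GU n F q ⊓ Cfsg.Geo.specialLinear (Fin n) F)) := by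
  classical
  obtain ⟨σ, hσ, -, hne⟩ := CfsgLib.ClassicalMax.Unit.exists_powEquiv hF
  rw [CfsgLib.ClassicalMax.Unit.GU_eq_isoOf]
  have hcompl : IsCompl (D 0) (D 1) := by
    refine ⟨?_, ?_⟩
    · exact hD.indep.pairwiseDisjoint (by decide : (0 : Fin 2) ≠ 1)
    · rw [codisjoint_iff, ← hD.iSup_eq_top]
      exact le_antisymm (sup_le (le_iSup D 0) (le_iSup D 1))
        (iSup_le fun i => by fin_cases i; exacts [le_sup_left, le_sup_right])
  have P : CfsgLib.ClassicalMax.Unit.Pair.IsPair σ (Cfsg.hermForm n F q) (D 0) (D 1) := {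
    hf := CfsgLib.ClassicalMax.Unit.isUnitaryForm_hermForm hF n hσ hne
    tsA := hts 0
    tsB := hts 1
    split := fun x => Submodule.mem_sup.1 (by rw [hcompl.sup_eq_top]; trivial)
    disj := hcompl.inf_eq_bot
    dimA := by rw [hD.finrank_eq]; omega
    dimB := by rw [hD.finrank_eq, hD.finrank_eq] }
  exact CfsgLib.ClassicalMax.Unit.Pair.pair_stabilizer_maximal P (by rw [Fintype.card_fin]; omega) rfl rfl

end Cfsg.Agent.S5657
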