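import Cfsg.Statements.S5662
import Cfsg.Agent.Lib.Aschbacher.FormFinal
-- import your own Cfsg.Agent.* helpers here

set_option autoImplicit false
open Cfsg

namespace Cfsg.Agent.S5662

/-- Subgroup structure of the finite symplectic groups. Let F be a finite field and m ≥ 2 with (m, |F|) ≠ (2, 2), and let Sp_2m(F) be the group of invertible matrices preserving the standard alternating form on F^(2m). Let H be a subgroup of Sp_2m(F) whose product with the scalar matrices ±1 is not all of Sp_2m(F) (H does not cover PSp_2m(F)). Then either H is contained in a member of one of the eight geometric classes of subgroups of Sp_2m(F) (with the conditions built into InSymplecticClass), or H is in the residual class: modulo scalars it is almost simple, and the perfect preimage of its socle acts absolutely irreducibly, is realisable over no proper subfield, and fixes no non-degenerate quadratic form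 and no non-degenerate unitary form on F^(2m). -/
theorem result {F : Type*} [Field F] [Fintype F] (m : ℕ) (hm : 2 ≤ m) (hex : ¬ (m = 2 ∧ Fintype.card F = 2)) (H : Subgroup (Matrix.GeneralLinearGroup (Fin m ⊕ Fin m) F)) (hH : H ≤ Cfsg.spGL m F) (hproper : H ⊔ (Cfsg.Geo.scalars (Fin m ⊕ Fin m) F ⊓ Cfsg.spGL m F) ≠ Cfsg.spGL m F) : (∃ M : Subgroup (Matrix.GeneralLinearGroup (Fin m ⊕ Fin m) F), Cfsg.Geo.InSymplecticClass m F M ∧ H ≤ M) ∨ Cfsg.Geo.InSymplecticResidualClass H := by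
  have hle : ∀ {X : Subgroup (Matrix.GeneralLinearGroup (Fin m ⊕ Fin m) F)}, H ≤ X → H ≤ X ⊓ Cfsg.spGL m F :=
    fun h => le_inf h hH
  rcases CfsgLib.Asch.sympCase_of_le hm hH with
    ⟨W, h0, hs, h⟩ | ⟨W, h0, hnd, hd, h⟩ | ⟨t, k, D, hD, -, h⟩ | ⟨D, ho, hD, hs, h⟩ |
    ⟨r, K, hr, hK, -, hself, hskew, h⟩ | ⟨K, ho, hK, hadj, hns, h⟩ |
    ⟨n₁, n₂, e, P, f₁, f₂, ho, -, -, h₂, -, hf₁, hf₂, hstr, h⟩ | ⟨F₀, r, P, ζ, hr, hc, hζ, hrat, h⟩ |
    ⟨R, p, k, hR, hirr, hsim, hp, hpo, hF, hcard, hz, hminus, -, h⟩ | ⟨Q, hev, hQ, hpol, h⟩ |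
    ⟨k, t, e, P, f₁, ho, -, ht, ht3, hex', -, hf₁, hstr, h⟩ | h
  · exact Or.inl ⟨_, .inl (.inl ⟨W, h0, hs, rfl⟩), hle h⟩
  · exact Or.inl ⟨_, .inl (.inr (.inl ⟨W, h0, hnd, hd, rfl⟩)), hle h⟩
  · exact Or.inl ⟨_, .inl (.inr (.inr (.inl ⟨t, k, D, hD, rfl⟩))), hle h⟩
  · exact Or.inl ⟨_, .inl (.inr (.inr (.inr (.inl ⟨D, ho, hD, hs, rfl⟩)))), hle h⟩
  · exact Or.inl ⟨_, .inr (.inl ⟨r, K, hr, hK, hself, hskew, rfl⟩), hle h⟩
  · exact Or.inl ⟨_, .inr (.inr (.inl ⟨K, ho, hK, hadj, hns, rfl⟩)), hle h⟩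
  · exact Or.inl ⟨_, .inr (.inr (.inr (.inl ⟨n₁, n₂, e, P, f₁, f₂, ho, h₂, hf₁, hf₂, hstr, rfl⟩))), hle h⟩
  · exact Or.inl ⟨_, .inl (.inr (.inr (.inr (.inr (.inl ⟨F₀, r, P, ζ, hr, hc, hζ, hrat, rfl⟩))))), hle h⟩
  · exact Or.inl ⟨_, .inl (.inr (.inr (.inr (.inr (.inr (.inl
      ⟨R, p, k, hR, hirr, hsim, hp, hpo, hF, hcard, hz, hminus, rfl⟩)))))), hle h⟩
  · exact Or.inl ⟨_, .inl (.inr (.inr (.inr (.inr (.inr (.inr ⟨Q, hev, hQ, hpol, rfl⟩)))))), hle h⟩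
  · exact Or.inl ⟨_, .inr (.inr (.inr (.inr ⟨k, t, e, P, f₁, ho, ht, ht3, hex', hf₁, hstr, rfl⟩))), hle h⟩
  · exact Or.inr h

end Cfsg.Agent.S5662
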