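import Cfsg.Statements.S5663
import Cfsg.Agent.Lib.Aschbacher.FormFinal
-- import your own Cfsg.Agent.* helpers here

set_option autoImplicit false
open Cfsg

namespace Cfsg.Agent.S5663

/-- Subgroup structure of the finite unitary groups. Let F be the field with q² elements and n ≥ 3 with (n, q) ≠ (3, 2), and let SU_n(q) be the group of matrices of determinant one preserving the standard unitary form Σ u_i v_i^q on F^n. Let H be a subgroup of SU_n(q) whose product with the scalar matrices in SU_n(q) is not all of SU_n(q) (H does not cover PSU_n(q)). Then either H is contained in a member of one of the geometric classes of subgroups of the unitary group GU_n(q) (with the conditions built into InUnitaryClass), or H is in the residual class: modulo scalars it is almost simple, and the perfect preimage of its socle acts absolutely irreducibly, is realisable over no proper subfield of F, and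 fixes no non-degenerate quadratic form and no non-degenerate symplectic form on F^n. -/
theorem result {F : Type*} [Field F] [Fintype F] (n q : ℕ) (hF : Fintype.card F = q ^ 2) (hn : 3 ≤ n) (hex : ¬ (n = 3 ∧ q = 2)) (H : Subgroup (Matrix.GeneralLinearGroup (Fin n) F)) (hH : H ≤ (Cfsg.GU n F q ⊓ Cfsg.Geo.specialLinear (Fin n) F)) (hproper : H ⊔ (Cfsg.Geo.scalars (Fin n) F ⊓ (Cfsg.GU n F q ⊓ Cfsg.Geo.specialLinear (Fin n) F)) ≠ (Cfsg.GU n F q ⊓ Cfsg.Geo.specialLinear (Fin n) F)) : (∃ M : Subgroup (Matrix.GeneralLinearGroup (Fin n) F), Cfsg.Geo.InUnitaryClass n F q M ∧ H ≤ M) ∨ Cfsg.Geo.InUnitaryResidualClass H := by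
  have hGU : H ≤ Cfsg.GU n F q := hH.trans inf_le_left
  have hle : ∀ {X : Subgroup (Matrix.GeneralLinearGroup (Fin n) F)}, H ≤ X → H ≤ X ⊓ Cfsg.GU n F q :=
    fun h => le_inf h hGU
  rcases CfsgLib.Asch.unitCase_of_le hF hn hGU with
    ⟨W, h0, hs, h⟩ | ⟨W, h0, hnd, hd, h⟩ | ⟨t, k, D, hD, -, h⟩ | ⟨k, D, hk, hD, hs, h⟩ |
    ⟨r, K, hr, hro, -, hK, hadj, h⟩ | ⟨n₁, n₂, e, P, f₁, f₂, h₁, h₁₂, -, hf₁, hf₂, hstr, h⟩ |
    ⟨k, t, e, P, f₁, hk, ht, hex', -, hf₁, hstr, h⟩ | ⟨F₀, r, P, hr, hro, hc, hrat, h⟩ |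
    ⟨F₀, P, hqo, hc, hrat, h⟩ | ⟨F₀, P, ζ, hne, hc, hζ, hζq, hrat, halt, h⟩ |
    ⟨r, R, p, e, k, hR, hirr, hsim, hrp, hmin, hk, -, hcase, h⟩ | h
  · exact Or.inl ⟨_, .inl (.inl ⟨W, h0, hs, rfl⟩), hle h⟩
  · exact Or.inl ⟨_, .inl (.inr (.inl ⟨W, h0, hnd, hd, rfl⟩)), hle h⟩
  · exact Or.inl ⟨_, .inl (.inr (.inr (.inl ⟨t, k, D, hD, rfl⟩))), hle h⟩
  · exact Or.inl ⟨_, .inl (.inr (.inr (.inr (.inl ⟨k, D, hk, hD, hs, rfl⟩)))), hle h⟩
  · exact Or.inl ⟨_, .inr (.inl ⟨r, K, hr, hro, hK, hadj, rfl⟩), hle h⟩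
  · exact Or.inl ⟨_, .inr (.inr (.inl ⟨n₁, n₂, e, P, f₁, f₂, h₁, h₁₂, hf₁, hf₂, hstr, rfl⟩)), hle h⟩
  · exact Or.inl ⟨_, .inr (.inr (.inr ⟨k, t, e, P, f₁, hk, ht, hex', hf₁, hstr, rfl⟩)), hle h⟩
  · exact Or.inl ⟨_, .inl (.inr (.inr (.inr (.inr (.inl ⟨F₀, r, P, hr, hro, hc, hrat, rfl⟩))))), hle h⟩
  · exact Or.inl ⟨_, .inl (.inr (.inr (.inr (.inr (.inr (.inl ⟨F₀, P, hqo, hc, hrat, rfl⟩)))))), hle h⟩
  · exact Or.inl ⟨_, .inl (.inr (.inr (.inr (.inr (.inr (.inr (.inl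
      ⟨F₀, P, ζ, hne, hc, hζ, hζq, hrat, halt, rfl⟩))))))), hle h⟩
  · refine Or.inl ⟨_, .inl (.inr (.inr (.inr (.inr (.inr (.inr (.inr
      ⟨r, R, p, e, k, hR, hirr, hsim, hrp, hmin, ?_, rfl⟩))))))), hle h⟩
    rcases hcase with ⟨h1, h2, h3⟩ | h1
    · exact Or.inl ⟨h1, h2, hk, h3⟩
    · exact Or.inr h1
  · exact Or.inr h

end Cfsg.Agent.S5663
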