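import Cfsg.Statements.S5666
import Cfsg.Agent.Lib.ClassicalMax.STensMax

set_option autoImplicit false
open Cfsg

namespace Cfsg.Agent.S5666

/-- For a finite field F of odd order q and m ≥ 7, suppose the standard alternating form on F^(2m) is similar, through a change of basis P and a bijection of index sets e, to the tensor product of a non-degenerate symplectic form f₁ on F^(n₁) and a non-degenerate symmetric bilinear form f₂ on F^(n₂) with n₂ ≥ 3. Unless q = 3 and n₂ = 3, the elements of Sp_2m(F) in the stabiliser of this tensor decomposition (the conjugate by P of the Kronecker-product subgroup transported along e) form a maximal subgroup of Sp_2m(F). -/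
theorem result {F : Type*} [Field F] [Fintype F] (m : ℕ) (hm : 7 ≤ m) (hodd : Odd (Fintype.card F)) (n₁ n₂ : ℕ) (hn₂ : 3 ≤ n₂) (hex : ¬ (Fintype.card F = 3 ∧ n₂ = 3)) (e : (Fin m ⊕ Fin m) ≃ Fin n₁ × Fin n₂) (P : Matrix.GeneralLinearGroup (Fin m ⊕ Fin m) F) (f₁ : (Fin n₁ → F) → (Fin n₁ → F) → F) (f₂ : (Fin n₂ → F) → (Fin n₂ → F) → F) (hf₁ : Cfsg.Geo.IsSymplecticForm f₁) (hf₂ : Cfsg.Geo.IsSymmetricForm f₂) (hT : Cfsg.Geo.IsTensorFormStructure id (Cfsg.sympForm m F) f₁ f₂ e P) : Cfsg.Geo.IsMaximalIn (Cfsg.spGL m F) (Cfsg.Geo.tensorProductSubgroup n₁ n₂ e P ⊓ Cfsg.spGL m F) := by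
  classical
  obtain ⟨c, hc0, hc⟩ := hT
  have hf₁' : Cfsg.Geo.IsSymplecticForm fun x y => c * f₁ x y :=
    { bilinear :=
        { add_left := fun x y z => by simp only [hf₁.bilinear.add_left, mul_add]
          smul_left := fun r x z => by simp only [hf₁.bilinear.smul_left]; ring
          add_right := fun x y z => by simp only [hf₁.bilinear.add_right, mul_add]
          smul_right := fun r x z => by simp only [hf₁.bilinear.smul_right]; ring }
      skew := fun x y => by simp only [hf₁.skew x y]; ring
      alternating := fun x => by simp only [hf₁.alternating, mul_zero]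
      nondegenerate := fun v hv => by
        obtain ⟨⟨x, hx⟩, ⟨y, hy⟩⟩ := hf₁.nondegenerate v hv
        exact ⟨⟨x, mul_ne_zero hc0 hx⟩, ⟨y, mul_ne_zero hc0 hy⟩⟩ }
  rw [CfsgLib.ClassicalMax.spGL_eq_isoOf]
  refine CfsgLib.ClassicalMax.STens.sympOrth_tensor_maximal
    (CfsgLib.ClassicalMax.isSymplecticForm_sympForm m F) e P hf₁' hf₂ (fun u u' w w' => ?_) ?_
    (fun h => by
      have hc' := Fintype.card_congr e
      simp only [h, Fintype.card_sum, Fintype.card_fin, Fintype.card_prod, zero_mul] at hc'
      omega)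
    (fun h => by
      have hc' := Fintype.card_congr e
      simp only [h.1, h.2, Fintype.card_sum, Fintype.card_fin, Fintype.card_prod] at hc'
      omega) hn₂ ?_
  · rw [CfsgLib.ClassicalMax.Tensor.form_pureL (σ := id) e P (fun _ _ => rfl) hc
      (CfsgLib.ClassicalMax.Tensor.formOfGram_gram hf₁.bilinear.add_left hf₁.bilinear.smul_left
        hf₁.bilinear.add_right hf₁.bilinear.smul_right)
      (CfsgLib.ClassicalMax.Tensor.formOfGram_gram hf₂.bilinear.add_left hf₂.bilinear.smul_left
        hf₂.bilinear.add_right hf₂.bilinear.smul_right), mul_assoc]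
  · intro h2
    obtain ⟨k, hk⟩ := hodd
    have : (2 : ℕ) ∣ Fintype.card F := by
      have : CharP F 2 := CfsgLib.OrthCrit.charP_two_of h2
      obtain ⟨n, -, hn⟩ := FiniteField.card F 2
      rw [hn]
      exact dvd_pow_self 2 n.pos.ne'
    omega
  · rw [Nat.card_eq_fintype_card]
    by_cases h4 : 4 ≤ n₂
    · exact Or.inl h4
    · refine Or.inr ?_
      have h3 : Fintype.card F ≠ 3 := fun h => hex ⟨h, by omega⟩
      have := Fintype.one_lt_card (α := F)
      obtain ⟨k, hk⟩ := hodd
      omega

end Cfsg.Agent.S5666
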