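import Cfsg.Statements.S5670
import Cfsg.Agent.Lib.ClassicalMax.TensorUnitMax
import Cfsg.Agent.Lib.ClassicalMax.UnitStd

set_option autoImplicit false
open Cfsg

namespace Cfsg.Agent.S5670

open CfsgLib.ClassicalMax in
/-- Let F be the field with q² elements and n = n₁ n₂ ≥ 13 with 2 ≤ n₁ < n₂ and (n₁, q) ≠ (2, 2). Suppose the standard unitary form on F^n is similar, through a change of basis P and a bijection of index sets e, to the tensor product of non-degenerate unitary forms f₁ on F^(n₁) and f₂ on F^(n₂) (forms linear in the first argument with f_i(v, w) = f_i(w, v)^q). Then the elements of SU_n(q) in the stabiliser of this tensor decomposition form a maximal subgroup of SU_n(q). -/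
theorem result {F : Type*} [Field F] [Fintype F] (n q : ℕ) (hF : Fintype.card F = q ^ 2) (hn : 13 ≤ n) (n₁ n₂ : ℕ) (h1 : 2 ≤ n₁) (h12 : n₁ < n₂) (hex : ¬ (n₁ = 2 ∧ q = 2)) (e : Fin n ≃ Fin n₁ × Fin n₂) (P : Matrix.GeneralLinearGroup (Fin n) F) (f₁ : (Fin n₁ → F) → (Fin n₁ → F) → F) (f₂ : (Fin n₂ → F) → (Fin n₂ → F) → F) (hf₁ : Cfsg.Geo.IsUnitaryFormPow q f₁) (hf₂ : Cfsg.Geo.IsUnitaryFormPow q f₂) (hT : Cfsg.Geo.IsTensorFormStructure (fun x : F => x ^ q) (Cfsg.hermForm n F q) f₁ f₂ e P) : Cfsg.Geo.IsMaximalIn (Cfsg.GU n F q ⊓ Cfsg.Geo.specialLinear (Fin n) F) (Cfsg.Geo.tensorProductSubgroup n₁ n₂ e P ⊓ (Cfsg.GU n F q ⊓ Cfsg.Geo.specialLinear (Fin n) F)) := by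
  classical
  obtain ⟨σ, hσ, hσ2, hne⟩ := Unit.exists_powEquiv hF
  have hq := Unit.two_le_of_card_eq_sq hF
  have hH := Unit.isUnitaryForm_hermForm hF n hσ hne
  have hu₁ : Cfsg.Geo.IsUnitaryForm σ f₁ :=
    ⟨hne, hσ2, hf₁.add_left, hf₁.smul_left, fun v w => by rw [hσ]; exact hf₁.herm v w,
      hf₁.nondegenerate⟩
  have hu₂ : Cfsg.Geo.IsUnitaryForm σ f₂ :=
    ⟨hne, hσ2, hf₂.add_left, hf₂.smul_left, fun v w => by rw [hσ]; exact hf₂.herm v w,
      hf₂.nondegenerate⟩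
  obtain ⟨c, hc0, hc⟩ := hT
  have hmul : ∀ x y : F, (x * y) ^ q = x ^ q * y ^ q := fun x y => mul_pow x y q
  have hgram : ∀ {m : ℕ} {g : (Fin m → F) → (Fin m → F) → F}, Cfsg.Geo.IsUnitaryForm σ g →
      ∀ u v, Cfsg.Geo.formOfGram (fun x : F => x ^ q) (Cfsg.Geo.gramMatrix g) u v = g u v :=
    fun {m g} hg u v => Tensor.formOfGram_gram hg.add_left hg.smul_left (Unit.add_right hg)
      (fun d v x => by rw [← hσ]; exact Unit.smul_right hg d v x) u v
  have hform := Tensor.form_pureL e P hmul hc (hgram hu₁) (hgram hu₂)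
  haveI : Nonempty (Fin n₁) := ⟨⟨0, by omega⟩⟩
  haveI : Nonempty (Fin n₂) := ⟨⟨0, by omega⟩⟩
  obtain ⟨x, hx⟩ := TensorUnit.exists_anisotropic hu₁
  obtain ⟨w, hw⟩ := TensorUnit.exists_anisotropic hu₂
  have hcσ : σ c = c := by
    have h := Unit.self_fixed hH (Tensor.pureL e P x w)
    rw [hform, map_mul, map_mul, Unit.self_fixed hu₁, Unit.self_fixed hu₂] at h
    exact mul_right_cancel₀ (mul_ne_zero hx hw) h
  have hu₁' : Cfsg.Geo.IsUnitaryForm σ fun u v => c * f₁ u v :=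
    { ne_refl := hne
      involutive := hσ2
      add_left := fun u v z => by simp only [hu₁.add_left, mul_add]
      smul_left := fun d u v => by simp only [hu₁.smul_left]; ring
      herm := fun u v => by simp only [map_mul, hcσ, ← hu₁.herm]
      nondegenerate := fun v hv => by
        obtain ⟨⟨z, hz⟩, y, hy⟩ := hu₁.nondegenerate v hv
        exact ⟨⟨z, mul_ne_zero hc0 hz⟩, y, mul_ne_zero hc0 hy⟩ }
  rw [Unit.GU_eq_isoOf]
  refine TensorUnit.unit_tensor_maximal hH e P hu₁' hu₂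
    (fun u u' z z' => by rw [hform, mul_assoc]) h1 h12 ?_
  by_cases h3 : 3 ≤ n₁
  · exact Or.inl h3
  · exact Or.inr (TensorUnit.exists_fixed_ne hne hσ2 (by
      rcases Nat.lt_or_ge q 3 with h | h
      · exact absurd ⟨by omega, by omega⟩ hex
      · exact h) hF)

end Cfsg.Agent.S5670
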