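import Cfsg.Statements.S5672
import Cfsg.Agent.Lib.ClassicalMax.TWU.Max
import Cfsg.Agent.Lib.ClassicalMax.TensorUnitMax
import Cfsg.Agent.Lib.ClassicalMax.UnitStd

set_option autoImplicit false
open Cfsg

namespace Cfsg.Agent.S5672

open CfsgLib.ClassicalMax in
/-- Let F be the field with q² elements and n = k^t ≥ 13 with k ≥ 3, t ≥ 2 and (q, k) ≠ (2, 3). Suppose the standard unitary form on F^n is similar, through a change of basis P and a bijection of index sets e, to the t-fold tensor power of a non-degenerate unitary form f₁ on F^k. Then the elements of SU_n(q) in the stabiliser of this decomposition (the conjugate by P of the standard tensor-wreath subgroup transported along e) form a maximal subgroup of SU_n(q). -/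
theorem result {F : Type*} [Field F] [Fintype F] (n q : ℕ) (hF : Fintype.card F = q ^ 2) (hn : 13 ≤ n) (k t : ℕ) (hk : 3 ≤ k) (ht : 2 ≤ t) (hex : ¬ (q = 2 ∧ k = 3)) (e : Fin n ≃ (Fin t → Fin k)) (P : Matrix.GeneralLinearGroup (Fin n) F) (f₁ : (Fin k → F) → (Fin k → F) → F) (hf₁ : Cfsg.Geo.IsUnitaryFormPow q f₁) (hT : Cfsg.Geo.IsTensorPowerFormStructure (fun x : F => x ^ q) (Cfsg.hermForm n F q) f₁ e P) : Cfsg.Geo.IsMaximalIn (Cfsg.GU n F q ⊓ Cfsg.Geo.specialLinear (Fin n) F) (Cfsg.Geo.tensorWreathSubgroup k t e P ⊓ (Cfsg.GU n F q ⊓ Cfsg.Geo.specialLinear (Fin n) F)) := by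
  classical
  obtain ⟨σ, hσ, hσ2, hne⟩ := Unit.exists_powEquiv hF
  have hq := Unit.two_le_of_card_eq_sq hF
  have hH := Unit.isUnitaryForm_hermForm hF n hσ hne
  have hu₁ : Cfsg.Geo.IsUnitaryForm σ f₁ :=
    ⟨hne, hσ2, hf₁.add_left, hf₁.smul_left, fun v w => by rw [hσ]; exact hf₁.herm v w,
      hf₁.nondegenerate⟩
  have hfun : (fun x : F => x ^ q) = fun x => σ x := funext fun x => (hσ x).symm
  rw [hfun] at hT
  rw [Unit.GU_eq_isoOf]
  refine TWU.unit_tensor_wreath_maximal hH e P hu₁ hT hk ht ?_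
  by_cases h4 : 4 ≤ k
  · exact Or.inl h4
  · refine Or.inr (TensorUnit.exists_fixed_ne hne hσ2 ?_ hF)
    by_contra h
    exact hex ⟨by omega, by omega⟩

end Cfsg.Agent.S5672
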