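import Cfsg.Statements.S5673
import Cfsg.Agent.Lib.Aschbacher.FormFinal
-- import your own Cfsg.Agent.* helpers here

set_option autoImplicit false
open Cfsg

namespace Cfsg.Agent.S5673

/-- Subgroup structure of the odd-dimensional orthogonal groups. Let F be a finite field of odd order and m ≥ 3, let Q be the standard quadratic form x₀² + Σ x_i y_i on F^(2m+1), and let Ω be the commutator subgroup of its isometry group, viewed inside GL_(2m+1)(F). Let H be a subgroup of Ω whose product with the scalar matrices in Ω is not all of Ω. Then either H is contained in a member of one of the geometric classes of subgroups of the isometry group (with the conditions built into InOrthogonalOddClass), or H is in the residual class: modulo scalars it is almost simple, and the perfect preimage of its socle acts absolutely irreducibly, is realisable over no proper subfield, and fixes no non-degenerate unitary form.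 -/
theorem result {F : Type*} [Field F] [Fintype F] (hodd : Odd (Fintype.card F)) (m : ℕ) (hm : 3 ≤ m) (H : Subgroup (Matrix.GeneralLinearGroup (Unit ⊕ (Fin m ⊕ Fin m)) F)) (hH : H ≤ Cfsg.Geo.omegaGL (Cfsg.quadFormOdd m F)) (hproper : H ⊔ (Cfsg.Geo.scalars (Unit ⊕ (Fin m ⊕ Fin m)) F ⊓ Cfsg.Geo.omegaGL (Cfsg.quadFormOdd m F)) ≠ Cfsg.Geo.omegaGL (Cfsg.quadFormOdd m F)) : (∃ M : Subgroup (Matrix.GeneralLinearGroup (Unit ⊕ (Fin m ⊕ Fin m)) F), Cfsg.Geo.InOrthogonalOddClass m F M ∧ H ≤ M) ∨ Cfsg.Geo.InOrthogonalResidualClass H := by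
  have hI : H ≤ Cfsg.isometryGroup F (Cfsg.quadFormOdd m F) := hH.trans (Subgroup.map_subtype_le _)
  have hle : ∀ {X : Subgroup (Matrix.GeneralLinearGroup (Unit ⊕ (Fin m ⊕ Fin m)) F)},
      H ≤ X → H ≤ X ⊓ Cfsg.isometryGroup F (Cfsg.quadFormOdd m F) := fun h => le_inf h hI
  rcases CfsgLib.Asch.oddCase_of_le hodd hm hH with
    ⟨W, h0, hs, h⟩ | ⟨W, h0, h1, -, hnd, h⟩ | ⟨t, k, D, hk, hD, -, h⟩ | ⟨D, hp, hD, h⟩ |
    ⟨r, K, hr, hne, -, hK, hself, h⟩ | ⟨n₁, n₂, e, P, f₁, f₂, h₁, h₁₂, -, hf₁, hf₂, hstr, h⟩ |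
    ⟨F₀, r, P, hr, hc, hrat, h⟩ | ⟨k, t, e, P, f₁, hk, ht, hex, -, hf₁, hstr, h⟩ | h
  · exact Or.inl ⟨_, .inl ⟨W, h0, hs, rfl⟩, hle h⟩
  · exact Or.inl ⟨_, .inr (.inl ⟨W, h0, h1, hnd, rfl⟩), hle h⟩
  · exact Or.inl ⟨_, .inr (.inr (.inl ⟨t, k, D, hk, hD, rfl⟩)), hle h⟩
  · exact Or.inl ⟨_, .inr (.inr (.inr (.inl ⟨_, D, hp, hD, rfl⟩))), hle h⟩
  · exact Or.inl ⟨_, .inr (.inr (.inr (.inr (.inl ⟨r, K, hr, hne, hK, hself, rfl⟩)))), hle h⟩
  · exact Or.inl ⟨_, .inr (.inr (.inr (.inr (.inr (.inl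
      ⟨n₁, n₂, e, P, f₁, f₂, h₁, h₁₂, hf₁, hf₂, hstr, rfl⟩))))), hle h⟩
  · exact Or.inl ⟨_, .inr (.inr (.inr (.inr (.inr (.inr (.inl ⟨F₀, r, P, hr, hc, hrat, rfl⟩)))))), hle h⟩
  · exact Or.inl ⟨_, .inr (.inr (.inr (.inr (.inr (.inr (.inr ⟨k, t, e, P, f₁, hk, ht, hex, hf₁, hstr, rfl⟩)))))), hle h⟩
  · exact Or.inr h

end Cfsg.Agent.S5673
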