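import Cfsg.Statements.S5677
import Cfsg.Agent.Lib.ClassicalMax.OrthDecompMax
import Cfsg.Agent.Lib.ClassicalMax.UnitFrame
import Cfsg.Agent.Lib.ClassicalMax.OrthSingular

set_option autoImplicit false
open Cfsg

namespace Cfsg.Agent.S5677

/-- Let F be a finite field of odd order q, m ≥ 6, Q the standard quadratic form on F^(2m+1) and Ω the commutator subgroup of its isometry group. Let D be a decomposition of F^(2m+1) into t ≥ 2 pairwise orthogonal, pairwise Q-isometric subspaces of equal dimension k > 1 on which the polar form is non-degenerate. Unless q = 3 and k = 3, the elements of Ω permuting the members of D form a maximal subgroup of Ω. -/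
theorem result {F : Type*} [Field F] [Fintype F] (hodd : Odd (Fintype.card F)) (m : ℕ) (hm : 6 ≤ m) {t : ℕ} (k : ℕ) (hk : 1 < k) (D : Fin t → Submodule F (Unit ⊕ (Fin m ⊕ Fin m) → F)) (hD : Cfsg.Geo.IsOrthogonalMDecomposition (Cfsg.quadFormOdd m F) k D) (hex : ¬ (Fintype.card F = 3 ∧ k = 3)) : Cfsg.Geo.IsMaximalIn (Cfsg.Geo.omegaGL (Cfsg.quadFormOdd m F)) (Cfsg.Geo.decompositionStabilizer D ⊓ Cfsg.Geo.omegaGL (Cfsg.quadFormOdd m F)) := by
  classical
  have h2 : (2 : F) ≠ 0 := by
    intro h2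
    haveI : CharP F 2 := CharTwo.of_one_ne_zero_of_two_eq_zero one_ne_zero h2
    have h := FiniteField.even_card_of_char_two (F := F) (ringChar.eq F 2)
    have := Nat.odd_iff.1 hodd
    omega
  have hc := CfsgLib.ClassicalMax.Unit.Frame.card_blocks hD.decomp.decomp
  simp only [Fintype.card_sum, Fintype.card_unit, Fintype.card_fin] at hc
  have hodd2 : Odd (t * k) := ⟨m, by rw [Nat.mul_comm]; omega⟩
  obtain ⟨ht, hk'⟩ := Nat.odd_mul.1 hodd2
  have ht2 := hD.decomp.decomp.two_le
  obtain ⟨a, rfl⟩ := hk'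
  obtain ⟨b, rfl⟩ := ht
  have hq := Fintype.one_lt_card (α := F)
  obtain ⟨c, hqc⟩ := hodd
  have hex' : 5 ≤ 2 * a + 1 ∨ (2 * a + 1 = 3 ∧ 5 ≤ Fintype.card F) := by
    by_cases h5 : 5 ≤ 2 * a + 1
    · exact Or.inl h5
    · refine Or.inr ⟨by omega, ?_⟩
      by_contra h
      exact hex ⟨by omega, by omega⟩
  exact CfsgLib.ClassicalMax.OrthBlk.decomposition_maximal
    (Q := CfsgLib.OrthCrit.oddForm m F)
    ⟨CfsgLib.OrthCrit.ndPolar_oddForm h2 m, h2, by omega, by omega, hD⟩
    (CfsgLib.ClassicalMax.OmS.oddFrame (by omega)) hex'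

end Cfsg.Agent.S5677
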