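import Cfsg.Statements.S5680
import Cfsg.Agent.Lib.ExtFieldOrth.Matrix
import Cfsg.Agent.Lib.OrthCrit.Forms
import Cfsg.Agent.Lib.Classical.Quad.Std

set_option autoImplicit false
open Cfsg

namespace Cfsg.Agent.S5680

/-- Let F be a finite field of odd order, m ≥ 6, Q the standard quadratic form on F^(2m+1) and Ω the commutator subgroup of its isometry group. Let K be a subfield of the algebra of (2m+1) × (2m+1) matrices over F containing the scalars, of prime degree r over F with r ≠ 2m + 1, whose elements are self-adjoint for the polar form of Q. Then the elements of Ω normalising K form a maximal subgroup of Ω. -/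
theorem result {F : Type*} [Field F] [Fintype F] (hodd : Odd (Fintype.card F)) (m : ℕ) (hm : 6 ≤ m) (r : ℕ) (hr : r.Prime) (hrn : 2 * m + 1 ≠ r) (K : Subalgebra F (Matrix (Unit ⊕ (Fin m ⊕ Fin m)) (Unit ⊕ (Fin m ⊕ Fin m)) F)) (hK : Cfsg.Geo.IsFieldSubalgebra r K) (hsa : Cfsg.Geo.IsSelfAdjointFor (QuadraticMap.polar (Cfsg.quadFormOdd m F)) K) : Cfsg.Geo.IsMaximalIn (Cfsg.Geo.omegaGL (Cfsg.quadFormOdd m F)) (Cfsg.Geo.subalgebraNormalizer K ⊓ Cfsg.Geo.omegaGL (Cfsg.quadFormOdd m F)) := by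
  have h2 : (2 : F) ≠ 0 := CfsgLib.Classical.Quad.two_ne_zero_iff_odd.2 (by rwa [Nat.card_eq_fintype_card])
  have hdvd : r ∣ 2 * m + 1 := by
    letI iK : Field ↥K := CfsgLib.ExtFieldOrth.subField hK
    letI iV : Module ↥K (Unit ⊕ (Fin m ⊕ Fin m) → F) := CfsgLib.ExtFieldOrth.vecMod K
    haveI : IsScalarTower F ↥K (Unit ⊕ (Fin m ⊕ Fin m) → F) := ⟨fun a k v => Matrix.smul_mulVec a _ v⟩
    haveI : FiniteDimensional F ↥K :=
      Module.finite_of_finrank_pos (lt_of_lt_of_eq hr.pos hK.finrank_eq.symm)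
    refine ⟨Module.finrank ↥K (Unit ⊕ (Fin m ⊕ Fin m) → F), ?_⟩
    conv_rhs => rw [← hK.finrank_eq]
    rw [Module.finrank_mul_finrank F ↥K (Unit ⊕ (Fin m ⊕ Fin m) → F), Module.finrank_fintype_fun_eq_card]
    simp; omega
  have hcard : Fintype.card (Unit ⊕ (Fin m ⊕ Fin m)) = 2 * m + 1 := by simp; omega
  obtain ⟨N, hN⟩ := hdvd
  have hro : Odd r := Nat.Odd.of_mul_left (hN ▸ ⟨m, rfl⟩ : Odd (r * N))
  have hNo : Odd N := Nat.Odd.of_mul_right (hN ▸ ⟨m, rfl⟩ : Odd (r * N))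
  obtain ⟨j, hj⟩ := hNo
  rcases Nat.eq_zero_or_pos j with rfl | hj0
  · exfalso
    rw [hj] at hN
    simp at hN
    omega
  have hbig : 3 * r < 2 * m + 1 ∨ (2 * m + 1 = 3 * r ∧ 3 ≤ r) := by
    rcases Nat.lt_or_ge j 2 with h | h
    · have : j = 1 := by omega
      subst this
      rw [hj] at hN
      norm_num at hN
      refine Or.inr ⟨by omega, ?_⟩
      omega
    · refine Or.inl ?_
      have : r * 5 ≤ r * N := Nat.mul_le_mul_left r (by omega)
      have := hr.pos
      omega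
  exact CfsgLib.ExtFieldOrth.isMaximalIn_omega (Q := CfsgLib.OrthCrit.oddForm m F) r h2
    (by
      refine ⟨fun x hx => CfsgLib.OrthCrit.ndPolar_oddForm h2 m x hx, fun y hy => ?_⟩
      refine CfsgLib.OrthCrit.ndPolar_oddForm h2 m y fun x => ?_
      rw [QuadraticMap.polar_comm]; exact hy x) (by rw [hcard]; omega) hr hK hsa (by rwa [hcard])

end Cfsg.Agent.S5680
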