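import Cfsg.Statements.S5681
import Cfsg.Agent.Lib.ClassicalMax.OrthTensorMax.Max
import Cfsg.Agent.Lib.PrimeGraph.OrthOddBridge

set_option autoImplicit false
open Cfsg

namespace Cfsg.Agent.S5681

/-- Let F be a finite field of odd order q, m ≥ 6, Q the standard quadratic form on F^(2m+1) and Ω the commutator subgroup of its isometry group. Suppose the polar form of Q is similar, through a change of basis P and a bijection of index sets e, to the tensor product of non-degenerate symmetric bilinear forms f₁ on F^(n₁) and f₂ on F^(n₂) with 3 ≤ n₁ < n₂. Unless q = 3 and n₁ = 3, the elements of Ω in the stabiliser of this tensor decomposition form a maximal subgroup of Ω. -/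
theorem result {F : Type*} [Field F] [Fintype F] (hodd : Odd (Fintype.card F)) (m : ℕ) (hm : 6 ≤ m) (n₁ n₂ : ℕ) (h1 : 3 ≤ n₁) (h12 : n₁ < n₂) (hex : ¬ (Fintype.card F = 3 ∧ n₁ = 3)) (e : (Unit ⊕ (Fin m ⊕ Fin m)) ≃ Fin n₁ × Fin n₂) (P : Matrix.GeneralLinearGroup (Unit ⊕ (Fin m ⊕ Fin m)) F) (f₁ : (Fin n₁ → F) → (Fin n₁ → F) → F) (f₂ : (Fin n₂ → F) → (Fin n₂ → F) → F) (hf₁ : Cfsg.Geo.IsSymmetricForm f₁) (hf₂ : Cfsg.Geo.IsSymmetricForm f₂) (hT : Cfsg.Geo.IsTensorFormStructure id (QuadraticMap.polar (Cfsg.quadFormOdd m F)) f₁ f₂ e P) : Cfsg.Geo.IsMaximalIn (Cfsg.Geo.omegaGL (Cfsg.quadFormOdd m F)) (Cfsg.Geo.tensorProductSubgroup n₁ n₂ e P ⊓ Cfsg.Geo.omegaGL (Cfsg.quadFormOdd m F)) := by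
  classical
  have h2 : (2 : F) ≠ 0 := by
    have h : ringChar F ≠ 2 := fun e => by
      have := FiniteField.even_card_iff_char_two.1 e
      rw [Nat.odd_iff] at hodd
      omega
    exact Ring.two_ne_zero h
  have hcard : n₁ * n₂ = 2 * m + 1 := by
    have := Fintype.card_congr e
    simp [Fintype.card_prod] at this
    omega
  have ho1 : Odd n₁ := (Nat.odd_mul.1 (hcard ▸ odd_two_mul_add_one m)).1
  have ho2 : Odd n₂ := (Nat.odd_mul.1 (hcard ▸ odd_two_mul_add_one m)).2
  obtain ⟨j, hj⟩ := ho1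
  obtain ⟨k, hk⟩ := ho2
  have hqd : CfsgLib.Classical.Quad.NDPolar (CfsgLib.PrimeGraph.stdForm m F) := fun x hx =>
    (CfsgLib.PrimeGraph.stdForm_nondeg m h2).1 x hx
  have hex' : 4 ≤ n₁ ∨ ∃ t : F, t ≠ 0 ∧ t * t ≠ 1 := by
    by_cases h4 : 4 ≤ n₁
    · exact Or.inl h4
    right
    by_contra hcon
    push Not at hcon
    refine hex ⟨le_antisymm ?_ ?_, by omega⟩
    · have hsub : (Finset.univ : Finset F) ⊆ {0, 1, -1} := fun t _ => by
        by_cases ht : t = 0
        · simp [ht]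
        · rcases mul_self_eq_one_iff.1 (hcon t ht) with h | h <;> simp [h]
      exact le_trans (Finset.card_le_card hsub) Finset.card_le_three
    · have := Fintype.one_lt_card (α := F)
      rw [Nat.odd_iff] at hodd
      omega
  rw [← CfsgLib.PrimeGraph.stdForm_coe m] at hT ⊢
  refine CfsgLib.ClassicalMax.OTens.tensor_maximal _ hqd h2 e P hf₁ hf₂ hT h1 (by omega) (by omega)
    (fun _ => ⟨j, hj⟩) hex' fun u r hu hr hur hu0 hind => ?_
  have := CfsgLib.ClassicalMax.OTens.four_le_of_plane hf₁ h2 hu hr hur hu0 hind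
  omega

end Cfsg.Agent.S5681
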