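import Cfsg.Statements.S5683
import Cfsg.Agent.Lib.ClassicalMax.OrthSubfield
import Cfsg.Agent.Lib.ClassicalMax.OmegaTools
-- import your own Cfsg.Agent.* helpers here

set_option autoImplicit false
open Cfsg

namespace Cfsg.Agent.S5683

/-- Let F be a finite field of odd order, m ≥ 6, Q the standard quadratic form on F^(2m+1) and Ω the commutator subgroup of its isometry group. Let F₀ be a subfield with |F| = |F₀| ^ r for a prime r and P an invertible matrix such that Q takes values in F₀ on the F₀-span of the columns of P. Then the elements of Ω lying in the subfield group of P (the conjugate by P of the product of GL_(2m+1)(F₀) with the scalars) form a maximal subgroup of Ω. -/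
theorem result {F : Type*} [Field F] [Fintype F] (hodd : Odd (Fintype.card F)) (m : ℕ) (hm : 6 ≤ m) (F₀ : Subfield F) (r : ℕ) (hr : r.Prime) (hcard : Fintype.card F = Nat.card F₀ ^ r) (P : Matrix.GeneralLinearGroup (Unit ⊕ (Fin m ⊕ Fin m)) F) (hP : Cfsg.Geo.IsQuadFormRationalStructure (Cfsg.quadFormOdd m F) F₀ P) : Cfsg.Geo.IsMaximalIn (Cfsg.Geo.omegaGL (Cfsg.quadFormOdd m F)) (Cfsg.Geo.subfieldSubgroup F₀ P ⊓ Cfsg.Geo.omegaGL (Cfsg.quadFormOdd m F)) := by
  classical
  have h2 : (2 : F) ≠ 0 := Ring.two_ne_zero fun h => by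
    obtain ⟨n, -, hn⟩ := @FiniteField.card F _ _ 2 ((ringChar.eq_iff).1 h)
    rw [hn] at hodd
    exact (Nat.not_odd_iff_even.2 (even_two.pow_of_ne_zero n.ne_zero)) hodd
  have hQ := CfsgLib.ClassicalMax.Om.isNondegenerate_quadFormOdd m h2
  have hnd := CfsgLib.ClassicalMax.OmE.ndPolar_qf _ hQ
  have hP' : Cfsg.Geo.IsQuadFormRationalStructure
      (fun v => (1 : F) * CfsgLib.ClassicalMax.OmE.qf _ hQ v) F₀ P := fun u hu => by
    simp only [one_mul, CfsgLib.ClassicalMax.OmE.coe_qf]
    exact hP u hu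
  obtain ⟨Q₀, R⟩ := CfsgLib.ClassicalMax.OmSub.rat_of_structure hnd (one_ne_zero (α := F)) hP'
  have h := CfsgLib.ClassicalMax.OmSub.subfield_maximal R
    (by simp only [Fintype.card_sum, Fintype.card_unit, Fintype.card_fin]; omega) r hr hcard
  rw [CfsgLib.ClassicalMax.OmE.coe_qf] at h
  exact h

end Cfsg.Agent.S5683
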