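import Cfsg.Statements.S5692
import Cfsg.Agent.Lib.ClassicalMax.OrthPlanesGen
import Cfsg.Agent.Lib.ClassicalMax.UnitFrame

set_option autoImplicit false
open Cfsg

namespace Cfsg.Agent.S5692

/-- Let F be a finite field with q elements, n ≥ 13 even, Q a non-degenerate quadratic form on F^n of plus type (some subspace of dimension n/2 is totally singular), and Ω the commutator subgroup of the isometry group of Q, viewed inside GL_n(F). Let D be a decomposition of F^n into t ≥ 2 pairwise orthogonal, pairwise Q-isometric subspaces of equal dimension k ≥ 2 on which the polar form is non-degenerate, such that: if k is even, either every member is of plus type or t is even; if k is odd, q is odd and the discriminant of Q is a square. Exclude the cases k = 2 with q = 3, k = 2 with plus-type members and q ∈ {2, 4, 5}, k = 3 with q = 3, and k = 4 with plus-type members and q = 2. Then the elements of Ω permuting the members of D form a maximal subgroup of Ω. -/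
theorem result {F : Type*} [Field F] [Fintype F] {n : ℕ} (hn : 13 ≤ n) (heven : Even n) (Q : (Fin n → F) → F) (hQ : Cfsg.Geo.IsNondegenerateQuadraticForm Q) (hplus : Cfsg.Geo.IsPlusTypeOn Q ⊤) {t : ℕ} (k : ℕ) (hk : 2 ≤ k) (D : Fin t → Submodule F (Fin n → F)) (hD : Cfsg.Geo.IsOrthogonalMDecomposition Q k D) (hke : Even k → ((∀ i, Cfsg.Geo.IsPlusTypeOn Q (D i)) ∨ Even t)) (hko : Odd k → (Odd (Fintype.card F) ∧ Cfsg.Geo.HasSquareDiscriminant Q)) (hex : ¬ ((k = 2 ∧ (Fintype.card F = 3 ∨ ((∀ i, Cfsg.Geo.IsPlusTypeOn Q (D i)) ∧ (Fintype.card F = 2 ∨ Fintype.card F = 4 ∨ Fintype.card F = 5)))) ∨ (k = 3 ∧ Fintype.card F = 3) ∨ (k = 4 ∧ Fintype.card F = 2 ∧ ∀ i, Cfsg.Geo.IsPlusTypeOn Q (D i)))) : Cfsg.Geo.IsMaximalIn (Cfsg.Geo.omegaGL Q) (Cfsg.Geo.decompositionStabilizer D ⊓ Cfsg.Geo.omegaGL Q) := by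
  classical
  have hnd := CfsgLib.ClassicalMax.OmE.ndPolar_qf _ hQ
  have htk := CfsgLib.ClassicalMax.Unit.Frame.card_blocks hD.decomp.decomp
  rw [Fintype.card_fin] at htk
  have hD' : Cfsg.Geo.IsOrthogonalMDecomposition ⇑(CfsgLib.ClassicalMax.OmE.qf Q hQ) k D := hD
  have hodd2 : Odd (Fintype.card F) → (2 : F) ≠ 0 := by
    rintro ⟨r, hr⟩ h
    have hc := Nat.cast_card_eq_zero F
    rw [hr] at hc
    push_cast at hc
    rw [h, zero_mul, zero_add] at hc
    exact one_ne_zero hc
  by_cases hk2 : k = 2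
  · subst hk2
    exact CfsgLib.ClassicalMax.OmD2.Good2.maximal (Q := CfsgLib.ClassicalMax.OmE.qf Q hQ)
      { nd := hnd
        dec := hD'
        card := by rw [Fintype.card_fin]; omega
        t5 := by omega
        big := fun i => ⟨fun e => hex (Or.inl ⟨rfl, Or.inl e⟩), fun ⟨v, hv, hv0, hQv⟩ => by
          have hp := CfsgLib.ClassicalMax.OmD2.plus_of_singular (hD'.decomp.decomp.finrank_eq i) hv hv0 hQv
          have hall : ∀ j, Cfsg.Geo.IsPlusTypeOn Q (D j) := fun j =>
            CfsgLib.ClassicalMax.OmD2.plus_transfer (j := j) hD' hp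
          have h3 : Fintype.card F ≠ 3 := fun e => hex (Or.inl ⟨rfl, Or.inl e⟩)
          have h2 : Fintype.card F ≠ 2 := fun e => hex (Or.inl ⟨rfl, Or.inr ⟨hall, Or.inl e⟩⟩)
          have h4 : Fintype.card F ≠ 4 := fun e => hex (Or.inl ⟨rfl, Or.inr ⟨hall, Or.inr (Or.inl e)⟩⟩)
          have h5 : Fintype.card F ≠ 5 := fun e => hex (Or.inl ⟨rfl, Or.inr ⟨hall, Or.inr (Or.inr e)⟩⟩)
          have h6 : Fintype.card F ≠ 6 := fun e => by
            obtain ⟨p, hchar⟩ := CharP.exists F
            obtain ⟨n, hp, hn⟩ := FiniteField.card F p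
            rw [e] at hn
            have h2 : 2 ∣ p ^ (n : ℕ) := ⟨3, by omega⟩
            have h3 : 3 ∣ p ^ (n : ℕ) := ⟨2, by omega⟩
            have e2 := (Nat.prime_dvd_prime_iff_eq Nat.prime_two hp).1 (Nat.prime_two.dvd_of_dvd_pow h2)
            have e3 := (Nat.prime_dvd_prime_iff_eq Nat.prime_three hp).1 (Nat.prime_three.dvd_of_dvd_pow h3)
            omega
          have hq := Fintype.one_lt_card (α := F)
          omega⟩ }
  exact CfsgLib.ClassicalMax.OmD.Good.maximal (Q := CfsgLib.ClassicalMax.OmE.qf Q hQ)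
    { nd := hnd
      dec := hD'
      three := by omega
      card := by rw [Fintype.card_fin]; omega
      k3 := fun h3 => by
        have hoddq := (hko (by rw [h3]; decide)).1
        have hne : Fintype.card F ≠ 3 := fun e => hex (Or.inr (Or.inl ⟨h3, e⟩))
        have hq := Fintype.one_lt_card (α := F)
        obtain ⟨r, hr⟩ := hoddq
        exact ⟨hodd2 ⟨r, hr⟩, by omega, by subst h3; omega⟩
      k4 := fun h4 h2q i hp => hex (Or.inr (Or.inr ⟨h4, h2q, fun j => CfsgLib.ClassicalMax.OmD2.plus_transfer (j := j) hD' hp⟩)) }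

end Cfsg.Agent.S5692
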