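import Cfsg.Statements.S5693
import Cfsg.Agent.Lib.ClassicalMax.OrthPlanesFrames
import Cfsg.Agent.Lib.ClassicalMax.OrthFrame
-- import your own Cfsg.Agent.* helpers here

set_option autoImplicit false
open Cfsg

namespace Cfsg.Agent.S5693

/-- Let F be a finite field with q elements, n ≥ 13 even, Q a non-degenerate quadratic form on F^n of plus type (some subspace of dimension n/2 is totally singular), and Ω the commutator subgroup of the isometry group of Q, viewed inside GL_n(F). Let D be a decomposition of F^n into t ≥ 2 pairwise orthogonal, pairwise Q-isometric subspaces of equal dimension k on which the polar form is non-degenerate (with, for even k, all members of plus type or t even; for odd k, q odd and square discriminant), in one of the cases: k = 2 with q = 3; k = 2 with plus-type members and q ∈ {2, 4, 5}; k = 3 with q = 3; k = 4 with plus-type members and q = 2. Then the elements of Ω permuting the members of D form a subgroup that is not maximal: some subgroup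 lies strictly between it and Ω. -/
theorem result {F : Type*} [Field F] [Fintype F] {n : ℕ} (hn : 13 ≤ n) (heven : Even n) (Q : (Fin n → F) → F) (hQ : Cfsg.Geo.IsNondegenerateQuadraticForm Q) (hplus : Cfsg.Geo.IsPlusTypeOn Q ⊤) {t : ℕ} (k : ℕ) (D : Fin t → Submodule F (Fin n → F)) (hD : Cfsg.Geo.IsOrthogonalMDecomposition Q k D) (hke : Even k → ((∀ i, Cfsg.Geo.IsPlusTypeOn Q (D i)) ∨ Even t)) (hko : Odd k → (Odd (Fintype.card F) ∧ Cfsg.Geo.HasSquareDiscriminant Q)) (hcase : ((k = 2 ∧ (Fintype.card F = 3 ∨ ((∀ i, Cfsg.Geo.IsPlusTypeOn Q (D i)) ∧ (Fintype.card F = 2 ∨ Fintype.card F = 4 ∨ Fintype.card F = 5)))) ∨ (k = 3 ∧ Fintype.card F = 3) ∨ (k = 4 ∧ Fintype.card F = 2 ∧ ∀ i, Cfsg.Geo.IsPlusTypeOn Q (D i)))) : ∃ K : Subgroup (Matrix.GeneralLinearGroup (Fin n) F), Cfsg.Geo.decompositionStabilizer D ⊓ Cfsg.Geo.omegaGL Q < K ∧ K < Cfsg.Geo.omegaGL Q := by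
  classical
  haveI : Nonempty (Fin n) := ⟨⟨0, by omega⟩⟩
  have hnd := CfsgLib.ClassicalMax.OmE.ndPolar_qf Q hQ
  obtain ⟨⟨P⟩, -, -, -⟩ := CfsgLib.ClassicalMax.OmE.exists_frame hnd (by simp; omega)
  have hcard := CfsgLib.ClassicalMax.Unit.Frame.card_blocks hD.decomp.decomp
  rw [Fintype.card_fin] at hcard
  have hiso : ∀ i, Cfsg.Geo.IsPlusTypeOn Q (D i) → ∀ l, Cfsg.Geo.IsPlusTypeOn Q (D l) := by
    rintro i ⟨U, hUD, hU, hUd⟩ l
    obtain ⟨e, he⟩ := hD.isometric i l
    refine ⟨((U.comap (D i).subtype).map e.toLinearMap).map (D l).subtype,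
      Submodule.map_subtype_le _ _, ?_, ?_⟩
    · rintro _ ⟨_, ⟨x, hx, rfl⟩, rfl⟩
      exact (he x).trans (hU _ hx)
    · rw [Submodule.finrank_map_subtype_eq, LinearEquiv.finrank_map_eq,
        (Submodule.comapSubtypeEquivOfLe hUD).finrank_eq, hUd, hD.decomp.decomp.finrank_eq,
        hD.decomp.decomp.finrank_eq]
  rcases hcase with ⟨rfl, h⟩ | ⟨rfl, hq⟩ | ⟨rfl, hq, hp⟩
  · rcases h with hq | ⟨hp, hq | hq | hq⟩
    · by_cases hp : Cfsg.Geo.IsPlusTypeOn Q (D ⟨0, by omega⟩)
      · exact CfsgLib.ClassicalMax.OmP.plus_planes_three hnd P hq (by omega) hD (hiso _ hp)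
      · exact CfsgLib.ClassicalMax.OmP.minus_planes_three hnd P hQ hq (by simp; omega) (by omega)
          hD _ hp
    · exact CfsgLib.ClassicalMax.OmP.plus_planes_two hnd P hq (by omega) hD hp
    · exact CfsgLib.ClassicalMax.OmP.plus_planes_four hnd P hQ hq (by omega) hD hp
    · exact CfsgLib.ClassicalMax.OmP.plus_planes_five hnd P hQ hq (by simp; omega) (by omega) hD
        ⟨0, by omega⟩ (hp _)
  · exact CfsgLib.ClassicalMax.Om.blocks_not_maximal hq hQ (by simp; omega) hD
  · exact CfsgLib.ClassicalMax.OmP.plus_quads_two hnd P hQ hq (by omega) hD hp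

end Cfsg.Agent.S5693
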