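import Cfsg.Statements.S5694
import Cfsg.Agent.Lib.ClassicalMax.OrthPlanesGen
import Cfsg.Agent.Lib.ClassicalMax.UnitFrame

set_option autoImplicit false
open Cfsg

namespace Cfsg.Agent.S5694

/-- Let F be a finite field with q elements, n ≥ 13 even, Q a non-degenerate quadratic form on F^n of minus type (no subspace of dimension n/2 is totally singular), and Ω the commutator subgroup of the isometry group of Q, viewed inside GL_n(F). Let D be a decomposition of F^n into t ≥ 2 pairwise orthogonal, pairwise Q-isometric subspaces of equal dimension k ≥ 2 on which the polar form is non-degenerate, such that: if k is odd, q is odd and the discriminant of Q is a square; if k is even, t is odd and no member is of plus type. Unless q = 3 and k ∈ {2, 3}, the elements of Ω permuting the members of D form a maximal subgroup of Ω. -/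
theorem result {F : Type*} [Field F] [Fintype F] {n : ℕ} (hn : 13 ≤ n) (heven : Even n) (Q : (Fin n → F) → F) (hQ : Cfsg.Geo.IsNondegenerateQuadraticForm Q) (hminus : ¬ Cfsg.Geo.IsPlusTypeOn Q ⊤) {t : ℕ} (k : ℕ) (hk : 2 ≤ k) (D : Fin t → Submodule F (Fin n → F)) (hD : Cfsg.Geo.IsOrthogonalMDecomposition Q k D) (hko : Odd k → (Odd (Fintype.card F) ∧ Cfsg.Geo.HasSquareDiscriminant Q)) (hke : Even k → (Odd t ∧ ∀ i, ¬ Cfsg.Geo.IsPlusTypeOn Q (D i))) (hex : ¬ (Fintype.card F = 3 ∧ (k = 2 ∨ k = 3))) : Cfsg.Geo.IsMaximalIn (Cfsg.Geo.omegaGL Q) (Cfsg.Geo.decompositionStabilizer D ⊓ Cfsg.Geo.omegaGL Q) := by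
  classical
  have hnd := CfsgLib.ClassicalMax.OmE.ndPolar_qf _ hQ
  have htk := CfsgLib.ClassicalMax.Unit.Frame.card_blocks hD.decomp.decomp
  rw [Fintype.card_fin] at htk
  have hD' : Cfsg.Geo.IsOrthogonalMDecomposition ⇑(CfsgLib.ClassicalMax.OmE.qf Q hQ) k D := hD
  have hodd2 : Odd (Fintype.card F) → (2 : F) ≠ 0 := by
    rintro ⟨r, hr⟩ h
    have hc := Nat.cast_card_eq_zero F
    rw [hr] at hc
    push_cast at hc
    rw [h, zero_mul, zero_add] at hc
    exact one_ne_zero hc
  by_cases hk2 : k = 2
  · subst hk2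
    exact CfsgLib.ClassicalMax.OmD2.Good2.maximal (Q := CfsgLib.ClassicalMax.OmE.qf Q hQ)
      { nd := hnd
        dec := hD'
        card := by rw [Fintype.card_fin]; omega
        t5 := by omega
        big := fun i => ⟨fun e => hex ⟨e, Or.inl rfl⟩, fun ⟨v, hv, hv0, hQv⟩ =>
          absurd (CfsgLib.ClassicalMax.OmD2.plus_of_singular (hD'.decomp.decomp.finrank_eq i) hv hv0 hQv)
            ((hke (by decide)).2 i)⟩ }
  exact CfsgLib.ClassicalMax.OmD.Good.maximal (Q := CfsgLib.ClassicalMax.OmE.qf Q hQ)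
    { nd := hnd
      dec := hD'
      three := by omega
      card := by rw [Fintype.card_fin]; omega
      k3 := fun h3 => by
        have hoddq := (hko (by rw [h3]; decide)).1
        have hne : Fintype.card F ≠ 3 := fun e => hex (⟨e, Or.inr h3⟩)
        have hq := Fintype.one_lt_card (α := F)
        obtain ⟨r, hr⟩ := hoddq
        exact ⟨hodd2 ⟨r, hr⟩, by omega, by subst h3; omega⟩
      k4 := fun h4 _ i => (hke (by rw [h4]; decide)).2 i }

end Cfsg.Agent.S5694
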