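import Cfsg.Statements.S5699
import Cfsg.Agent.Lib.ClassicalMax.OrthNondegEven
import Cfsg.Agent.Lib.ClassicalMax.Frames
-- import your own Cfsg.Agent.* helpers here

set_option autoImplicit false
open Cfsg

namespace Cfsg.Agent.S5699

/-- Let F be a finite field with q elements, n ≥ 13 even, Q a non-degenerate quadratic form on F^n (of either type), and Ω the commutator subgroup of the isometry group of Q, viewed inside GL_n(F). Let D be a decomposition of F^n into two orthogonal subspaces of odd dimension n/2 on which the polar form is non-degenerate and which are not Q-isometric to each other. Then the elements of Ω permuting (necessarily fixing) the two subspaces form a maximal subgroup of Ω. -/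
theorem result {F : Type*} [Field F] [Fintype F] {n : ℕ} (hn : 13 ≤ n) (heven : Even n) (Q : (Fin n → F) → F) (hQ : Cfsg.Geo.IsNondegenerateQuadraticForm Q) (k : ℕ) (hk : 2 * k = n) (hko : Odd k) (D : Fin 2 → Submodule F (Fin n → F)) (hD : Cfsg.Geo.IsNondegenerateMDecomposition (QuadraticMap.polar Q) k D) (hni : ¬ Cfsg.Geo.AreIsometricFor Q (D 0) (D 1)) : Cfsg.Geo.IsMaximalIn (Cfsg.Geo.omegaGL Q) (Cfsg.Geo.decompositionStabilizer D ⊓ Cfsg.Geo.omegaGL Q) := by
  classical
  haveI : Nonempty (Fin n) := ⟨⟨0, by omega⟩⟩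
  have hn' : Fintype.card (Fin n) = n := Fintype.card_fin n
  have hnd := CfsgLib.ClassicalMax.OmE.ndPolar_qf Q hQ
  obtain ⟨⟨P⟩, -, -, -⟩ := CfsgLib.ClassicalMax.OmE.exists_frame hnd (by omega)
  have hd0 := hD.decomp.finrank_eq 0
  have hd1 := hD.decomp.finrank_eq 1
  -- the second member is the perpendicular of the first
  have hsup : ∀ x : Fin n → F, ∃ a ∈ D 0, ∃ b ∈ D 1, a + b = x := fun x => by
    have he : iSup D = D 0 ⊔ D 1 := le_antisymm
      (iSup_le fun i => by fin_cases i <;> simp) (sup_le (le_iSup D 0) (le_iSup D 1))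
    have : x ∈ D 0 ⊔ D 1 := by rw [← he, hD.decomp.iSup_eq_top]; trivial
    exact Submodule.mem_sup.1 this
  have hperp : ∀ x, (∀ w ∈ D 0, QuadraticMap.polar Q x w = 0) → x ∈ D 1 := by
    intro x hx
    obtain ⟨a, ha, b, hb, rfl⟩ := hsup x
    suffices a = 0 by rw [this, zero_add]; exact hb
    by_contra h
    obtain ⟨-, y, hy, hne⟩ := hD.nondegenerate 0 a ha h
    have h1 := hx y hy
    rw [hQ.polar_bilinear.add_left, hD.orthogonal 1 0 (by decide) b hb y hy, add_zero] at h1
    exact hne h1
  -- isometries between the members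
  have hno : ∀ g ∈ Cfsg.Geo.omegaGL Q, ¬ ∀ x ∈ D 0,
      Matrix.mulVec (g : Matrix (Fin n) (Fin n) F) x ∈ D 1 := by
    intro g hg h
    let L : D 0 →ₗ[F] D 1 :=
      (Matrix.toLin' (g : Matrix (Fin n) (Fin n) F)).restrict fun x hx => by simpa using h x hx
    have hL : Function.Injective L := fun x y e => Subtype.ext
      (CfsgLib.ClassicalMax.gl_mulVec_injective g (by simpa [L] using congrArg Subtype.val e))
    refine hni ⟨LinearEquiv.ofBijective L ⟨hL,
      (LinearMap.injective_iff_surjective_of_finrank_eq_finrank (hd0.trans hd1.symm)).1 hL⟩,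
      fun w => ?_⟩
    change Q (Matrix.toLin' (g : Matrix (Fin n) (Fin n) F) (w : Fin n → F)) = Q w
    rw [Matrix.toLin'_apply]
    exact CfsgLib.ClassicalMax.OmS.omega_iso (Q := CfsgLib.ClassicalMax.OmE.qf Q hQ) hg _
  have heq : Cfsg.Geo.decompositionStabilizer D ⊓ Cfsg.Geo.omegaGL Q =
      Cfsg.Geo.subspaceStabilizer (D 0) ⊓ Cfsg.Geo.omegaGL Q := by
    ext g
    constructor
    · rintro ⟨hgD, hgo⟩
      obtain ⟨j, hj⟩ := CfsgLib.ClassicalMax.Frames.exists_block_image hgD 0
      refine ⟨CfsgLib.ClassicalMax.mem_subspaceStabilizer_of_forall ?_, hgo⟩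
      fin_cases j
      · exact hj
      · exact absurd hj (hno g hgo)
    · rintro ⟨hgW, hgo⟩
      have h0 : ∀ x ∈ D 0, Matrix.mulVec (g : Matrix (Fin n) (Fin n) F) x ∈ D 0 :=
        fun x hx => (hgW x).1 hx
      have h1 : ∀ x ∈ D 1, Matrix.mulVec (g : Matrix (Fin n) (Fin n) F) x ∈ D 1 := fun x hx => by
        refine hperp _ fun w hw => ?_
        obtain ⟨w', hw', rfl⟩ := CfsgLib.ClassicalMax.exists_preimage_mem h0 hw
        rw [CfsgLib.ClassicalMax.Om.iso_polar hQ (CfsgLib.ClassicalMax.Om.omega_le hgo)]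
        exact hD.orthogonal 1 0 (by decide) x hx w' hw'
      refine ⟨⟨1, fun i => ?_⟩, hgo⟩
      refine Submodule.eq_of_le_of_finrank_eq ?_ (LinearEquiv.finrank_eq
        (Submodule.equivMapOfInjective _ (fun x y e => CfsgLib.ClassicalMax.gl_mulVec_injective g
          (by simpa [Matrix.toLin'_apply] using e)) _).symm)
      rintro _ ⟨x, hx, rfl⟩
      rw [Matrix.toLin'_apply]
      fin_cases i
      · exact h0 x hx
      · exact h1 x hx
  rw [heq]
  refine CfsgLib.ClassicalMax.OmN.nondegenerate_stabilizer_maximal hnd P (by omega)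
    (fun h => by rw [h, finrank_bot] at hd0; omega)
    (fun h => by rw [h, finrank_top, Module.finrank_fin_fun] at hd0; omega)
    (hD.nondegenerate 0) (fun _ g hg h => hno g hg fun x hx => hperp _ (h x hx)) ?_
  rintro ⟨-, U, hU, -, -, rfl | ⟨-, hs⟩⟩ <;> omega

end Cfsg.Agent.S5699
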