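import Cfsg.Statements.S5701
import Cfsg.Agent.Lib.ExtFieldOrth.Matrix
import Cfsg.Agent.Lib.Classical.Quad.Std

set_option autoImplicit false
open Cfsg

namespace Cfsg.Agent.S5701

/-- Let F be a finite field with q elements, n ≥ 13 even, Q a non-degenerate quadratic form on F^n (of either type), and Ω the commutator subgroup of the isometry group of Q, viewed inside GL_n(F). Suppose q is odd. Let K be a subfield of the algebra of n × n matrices over F containing the scalars, of prime degree r over F with n/r ≥ 3, whose elements are self-adjoint for the polar form of Q. Then the elements of Ω normalising K form a maximal subgroup of Ω. -/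
theorem result {F : Type*} [Field F] [Fintype F] {n : ℕ} (hn : 13 ≤ n) (heven : Even n) (Q : (Fin n → F) → F) (hQ : Cfsg.Geo.IsNondegenerateQuadraticForm Q) (hodd : Odd (Fintype.card F)) (r : ℕ) (hr : r.Prime) (hnr : 3 * r ≤ n) (K : Subalgebra F (Matrix (Fin n) (Fin n) F)) (hK : Cfsg.Geo.IsFieldSubalgebra r K) (hsa : Cfsg.Geo.IsSelfAdjointFor (QuadraticMap.polar Q) K) : Cfsg.Geo.IsMaximalIn (Cfsg.Geo.omegaGL Q) (Cfsg.Geo.subalgebraNormalizer K ⊓ Cfsg.Geo.omegaGL Q) := by
  have hne : 3 * r < n := by
    rcases lt_or_eq_of_le hnr with h | h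
    · exact h
    · exfalso
      rcases hr.eq_two_or_odd' with rfl | ho
      · omega
      · exact Nat.not_even_iff_odd.mpr ((by decide : Odd 3).mul ho) (h ▸ heven)
  have h2 : (2 : F) ≠ 0 := CfsgLib.Classical.Quad.two_ne_zero_iff_odd.2 (by rwa [Nat.card_eq_fintype_card])
  obtain ⟨Qf, rfl⟩ : ∃ Qf : QuadraticForm F (Fin n → F), ⇑Qf = Q := by
    refine ⟨QuadraticMap.ofPolar Q (fun a x => by rw [smul_eq_mul, hQ.smul]; ring)
      (fun x x' y => hQ.polar_bilinear.add_left x x' y) (fun a x y => hQ.polar_bilinear.smul_left a x y), rfl⟩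
  have hnd : (QuadraticMap.polarBilin Qf).Nondegenerate := by
    refine ⟨fun x hx => by_contra fun h0 => ?_, fun y hy => by_contra fun h0 => ?_⟩
    · obtain ⟨z, hz⟩ := (hQ.nondegenerate x h0).2
      exact hz (hx z)
    · obtain ⟨z, hz⟩ := (hQ.nondegenerate y h0).1
      exact hz (hy z)
  exact CfsgLib.ExtFieldOrth.isMaximalIn_omega r h2 hnd (by rw [Fintype.card_fin]; omega) hr hK hsa
    (Or.inl (by rwa [Fintype.card_fin]))

end Cfsg.Agent.S5701
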