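import Cfsg.Statements.S5704
import Cfsg.Agent.Lib.ClassicalMax.TensorSympMax

set_option autoImplicit false
open Cfsg

namespace Cfsg.Agent.S5704

/-- Let F be a finite field with q elements, n ≥ 13 even, Q a non-degenerate quadratic form on F^n of plus type (some subspace of dimension n/2 is totally singular), and Ω the commutator subgroup of the isometry group of Q, viewed inside GL_n(F). Suppose that, through a change of basis P and a bijection of index sets e, the polar form of Q is similar to the tensor product of non-degenerate symplectic forms f₁ on F^(n₁) and f₂ on F^(n₂) with n₁ < n₂, and Q vanishes on the images of all pure tensors. Unless q = 2 and n₁ = 2, the elements of Ω in the stabiliser of this tensor decomposition form a maximal subgroup of Ω. -/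
theorem result {F : Type*} [Field F] [Fintype F] {n : ℕ} (hn : 13 ≤ n) (heven : Even n) (Q : (Fin n → F) → F) (hQ : Cfsg.Geo.IsNondegenerateQuadraticForm Q) (hplus : Cfsg.Geo.IsPlusTypeOn Q ⊤) (n₁ n₂ : ℕ) (h12 : n₁ < n₂) (hex : ¬ (Fintype.card F = 2 ∧ n₁ = 2)) (e : (Fin n) ≃ Fin n₁ × Fin n₂) (P : Matrix.GeneralLinearGroup (Fin n) F) (f₁ : (Fin n₁ → F) → (Fin n₁ → F) → F) (f₂ : (Fin n₂ → F) → (Fin n₂ → F) → F) (hf₁ : Cfsg.Geo.IsSymplecticForm f₁) (hf₂ : Cfsg.Geo.IsSymplecticForm f₂) (hT : Cfsg.Geo.IsTensorFormStructure id (QuadraticMap.polar Q) f₁ f₂ e P) (hpure : (∀ (x₁ : Fin n₁ → F) (x₂ : Fin n₂ → F), Q (Matrix.mulVec (P : Matrix (Fin n) (Fin n) F) ((fun a : Fin n₁ × Fin n₂ => x₁ a.1 * x₂ a.2) ∘ e)) = 0)) : Cfsg.Geo.IsMaximalIn (Cfsg.Geo.omegaGL Q) (Cfsg.Geo.tensorProductSubgroup n₁ n₂ e P ⊓ Cfsg.Geo.omegaGL Q) := by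
  classical
  obtain ⟨c, hc, hform⟩ := hT
  have hb : ∀ {k : ℕ} {f : (Fin k → F) → (Fin k → F) → F}, Cfsg.Geo.IsSymplecticForm f →
      ∀ u v, Cfsg.Geo.formOfGram id (Cfsg.Geo.gramMatrix f) u v = f u v := fun h u v =>
    CfsgLib.ClassicalMax.Tensor.formOfGram_gram h.bilinear.add_left h.bilinear.smul_left
      h.bilinear.add_right h.bilinear.smul_right u v
  have hf₁' : Cfsg.Geo.IsSymplecticForm fun u v => c * f₁ u v :=
    ⟨⟨fun x y v => by rw [hf₁.bilinear.add_left, mul_add],
      fun d x v => by rw [hf₁.bilinear.smul_left, mul_left_comm],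
      fun v x y => by rw [hf₁.bilinear.add_right, mul_add],
      fun d v x => by rw [hf₁.bilinear.smul_right, mul_left_comm]⟩,
      fun v w => by rw [hf₁.skew, mul_neg],
      fun v => by rw [hf₁.alternating, mul_zero],
      fun v hv => by
        obtain ⟨⟨x, hx⟩, ⟨y, hy⟩⟩ := hf₁.nondegenerate v hv
        exact ⟨⟨x, mul_ne_zero hc hx⟩, ⟨y, mul_ne_zero hc hy⟩⟩⟩
  refine CfsgLib.ClassicalMax.TensorSymp.symp_tensor_maximal
    (Q := CfsgLib.ClassicalMax.OmE.qf Q hQ) (CfsgLib.ClassicalMax.OmE.ndPolar_qf Q hQ) e P hf₁' hf₂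
    (fun u u' w w' => ?_) (fun u w => ?_) h12 (by simp; omega) ?_
  · rw [CfsgLib.ClassicalMax.OmE.coe_qf, CfsgLib.ClassicalMax.Tensor.form_pureL (σ := id) e P (fun _ _ => rfl)
      (f := QuadraticMap.polar Q) hform (hb hf₁) (hb hf₂), mul_assoc]
  · rw [CfsgLib.ClassicalMax.Tensor.pureL_eq]
    exact hpure u w
  by_cases h3 : 3 ≤ n₁
  · exact Or.inl h3
  · have h2 : n₁ = 2 := by
      have hev : Even n₁ := by simpa using CfsgLib.Asch.symplectic_even hf₁
      have h0 : n₁ ≠ 0 := fun h => by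
        subst h
        exact (e ⟨0, by omega⟩).1.elim0
      obtain ⟨k, hk⟩ := hev
      omega
    obtain ⟨x, y, z, hxy, hxz, hyz⟩ := Fintype.two_lt_card_iff.1 (show 2 < Fintype.card F by
      have := Fintype.one_lt_card (α := F)
      have : Fintype.card F ≠ 2 := fun hc => hex ⟨hc, h2⟩
      omega)
    refine Or.inr ?_
    by_contra hcon
    push Not at hcon
    have key : ∀ t : F, t = 0 ∨ t = 1 := fun t => (eq_or_ne t 0).imp_right (hcon t)
    rcases key x with rfl | rfl <;> rcases key y with rfl | rfl <;> rcases key z with rfl | rfl <;> simp_all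

end Cfsg.Agent.S5704
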