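import Cfsg.Statements.S5705
import Cfsg.Agent.Lib.ClassicalMax.OrthTensorTwo
-- import your own Cfsg.Agent.* helpers here

set_option autoImplicit false
open Cfsg

namespace Cfsg.Agent.S5705

/-- Let F be the field with 2 elements, n = 2 n₂ ≥ 13 even, Q a non-degenerate quadratic form on F^n of plus type and Ω the commutator subgroup of its isometry group. Suppose that, through P and e, the polar form of Q is similar to the tensor product of non-degenerate symplectic forms f₁ on F^2 and f₂ on F^(n₂), and Q vanishes on the images of all pure tensors. Then the elements of Ω in the stabiliser of this tensor decomposition form a subgroup that is not maximal: some subgroup lies strictly between it and Ω. -/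
theorem result {F : Type*} [Field F] [Fintype F] {n : ℕ} (hn : 13 ≤ n) (heven : Even n) (Q : (Fin n → F) → F) (hQ : Cfsg.Geo.IsNondegenerateQuadraticForm Q) (hplus : Cfsg.Geo.IsPlusTypeOn Q ⊤) (hq : Fintype.card F = 2) (n₂ : ℕ) (h2 : 2 < n₂) (e : (Fin n) ≃ Fin 2 × Fin n₂) (P : Matrix.GeneralLinearGroup (Fin n) F) (f₁ : (Fin 2 → F) → (Fin 2 → F) → F) (f₂ : (Fin n₂ → F) → (Fin n₂ → F) → F) (hf₁ : Cfsg.Geo.IsSymplecticForm f₁) (hf₂ : Cfsg.Geo.IsSymplecticForm f₂) (hT : Cfsg.Geo.IsTensorFormStructure id (QuadraticMap.polar Q) f₁ f₂ e P) (hpure : (∀ (x₁ : Fin 2 → F) (x₂ : Fin n₂ → F), Q (Matrix.mulVec (P : Matrix (Fin n) (Fin n) F) ((fun a : Fin 2 × Fin n₂ => x₁ a.1 * x₂ a.2) ∘ e)) = 0)) : ∃ K : Subgroup (Matrix.GeneralLinearGroup (Fin n) F), Cfsg.Geo.tensorProductSubgroup 2 n₂ e P ⊓ Cfsg.Geo.omegaGL Q < K ∧ K < Cfsg.Geo.omegaGL Q := by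
  classical
  obtain ⟨c, hc0, hc⟩ := hT
  haveI : Nonempty (Fin n) := ⟨⟨0, by omega⟩⟩
  have hnd := CfsgLib.ClassicalMax.OmE.ndPolar_qf Q hQ
  obtain ⟨⟨R⟩, -, -, -⟩ := CfsgLib.ClassicalMax.OmE.exists_frame hnd (by simp; omega)
  have hc1 : c = 1 := by
    have h := FiniteField.pow_card_sub_one_eq_one c hc0
    rwa [hq, pow_one] at h
  have hform : ∀ u u' w w', QuadraticMap.polar Q (CfsgLib.ClassicalMax.Tensor.pureL e P u w)
      (CfsgLib.ClassicalMax.Tensor.pureL e P u' w') = f₁ u u' * f₂ w w' := fun u u' w w' => by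
    rw [CfsgLib.ClassicalMax.Tensor.form_pureL e P (σ := id) (fun _ _ => rfl) hc
      (CfsgLib.ClassicalMax.Tensor.formOfGram_gram hf₁.bilinear.add_left hf₁.bilinear.smul_left
        hf₁.bilinear.add_right hf₁.bilinear.smul_right)
      (CfsgLib.ClassicalMax.Tensor.formOfGram_gram hf₂.bilinear.add_left hf₂.bilinear.smul_left
        hf₂.bilinear.add_right hf₂.bilinear.smul_right), hc1, one_mul]
  exact CfsgLib.ClassicalMax.OmT.symp_square_not_maximal hnd R hq (by omega) e P hf₁ hf₂ hform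
    fun u w => by rw [CfsgLib.ClassicalMax.Tensor.pureL_eq]; exact hpure u w

end Cfsg.Agent.S5705
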