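import Cfsg.Statements.S5707
import Cfsg.Agent.Lib.ClassicalMax.SpinTensor
import Cfsg.Agent.Lib.ClassicalMax.TensorTools
-- import your own Cfsg.Agent.* helpers here

set_option autoImplicit false
open Cfsg

namespace Cfsg.Agent.S5707

/-- Let F be a finite field with q elements, n ≥ 13 even, Q a non-degenerate quadratic form on F^n of plus type (some subspace of dimension n/2 is totally singular), and Ω the commutator subgroup of the isometry group of Q, viewed inside GL_n(F). Suppose q is even and that, through P and e, the polar form of Q is similar to the t-fold tensor power (t ≥ 2) of a non-degenerate symplectic form f₁ on F^k with k ≤ 4 and (q, k) ≠ (2, 2), Q vanishing on the images of all pure tensors. Then the elements of Ω in the stabiliser of this decomposition form a subgroup that is not maximal: some subgroup lies strictly between it and Ω. -/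
theorem result {F : Type*} [Field F] [Fintype F] {n : ℕ} (hn : 13 ≤ n) (heven : Even n) (Q : (Fin n → F) → F) (hQ : Cfsg.Geo.IsNondegenerateQuadraticForm Q) (hplus : Cfsg.Geo.IsPlusTypeOn Q ⊤) (hchar : ¬ Odd (Fintype.card F)) (k t : ℕ) (ht : 2 ≤ t) (hk : k ≤ 4) (hex1 : ¬ (Fintype.card F = 2 ∧ k = 2)) (e : (Fin n) ≃ (Fin t → Fin k)) (P : Matrix.GeneralLinearGroup (Fin n) F) (f₁ : (Fin k → F) → (Fin k → F) → F) (hf₁ : Cfsg.Geo.IsSymplecticForm f₁) (hT : Cfsg.Geo.IsTensorPowerFormStructure id (QuadraticMap.polar Q) f₁ e P) (hpure : (∀ xs : Fin t → (Fin k → F), Q (Matrix.mulVec (P : Matrix (Fin n) (Fin n) F) ((fun a : Fin t → Fin k => ∏ i, xs i (a i)) ∘ e)) = 0)) : ∃ K : Subgroup (Matrix.GeneralLinearGroup (Fin n) F), Cfsg.Geo.tensorWreathSubgroup k t e P ⊓ Cfsg.Geo.omegaGL Q < K ∧ K < Cfsg.Geo.omegaGL Q := by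
  classical
  have hn0 : 0 < k := by
    by_contra hk0
    obtain rfl : k = 0 := by omega
    have := Fintype.card_congr e
    simp [zero_pow (show t ≠ 0 by omega)] at this
    omega
  haveI : CharP F 2 := by
    have h2 : ringChar F = 2 := FiniteField.even_card_iff_char_two.2
      (Nat.even_iff.1 (Nat.not_odd_iff_even.1 hchar))
    exact h2 ▸ ringChar.charP F
  set G := Cfsg.Geo.gramMatrix f₁ with hGdef
  have hsym : G.transpose = G := by
    ext a b
    show f₁ _ _ = f₁ _ _
    rw [hf₁.skew, CharTwo.neg_eq]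
  have hdiag : ∀ i, G i i = 0 := fun i => hf₁.alternating _
  have hdet : G.det ≠ 0 := by
    intro h0
    obtain ⟨v, hv0, hv⟩ := Matrix.exists_mulVec_eq_zero_iff.2 h0
    obtain ⟨x, hx⟩ := (hf₁.nondegenerate v hv0).1
    refine hx ?_
    rw [← CfsgLib.ClassicalMax.Tensor.formOfGram_gram (σ := id) hf₁.bilinear.add_left
      hf₁.bilinear.smul_left hf₁.bilinear.add_right hf₁.bilinear.smul_right x v]
    have e1 : Cfsg.Geo.formOfGram id (Cfsg.Geo.gramMatrix f₁) x v = dotProduct x (Matrix.mulVec G v) := by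
      simp [Cfsg.Geo.formOfGram, dotProduct, Matrix.mulVec, Finset.mul_sum, mul_assoc, hGdef]
    rw [e1, hv, dotProduct_zero]
  obtain ⟨c, hc0, hc⟩ := hT
  have hS : CfsgLib.SpinTensor.Setup G
      (fun x => Q (Matrix.mulVec (P : Matrix (Fin n) (Fin n) F) (x ∘ e))) c := by
    refine ⟨hc0, fun s x => ?_, fun x y => ?_, hpure, hsym⟩
    · rw [show (s • x) ∘ e = s • (x ∘ e) from rfl, Matrix.mulVec_smul, hQ.smul]
    · rw [show (x + y) ∘ e = x ∘ e + y ∘ e from rfl, Matrix.mulVec_add]
      have h := hc x y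
      rw [QuadraticMap.polar, sub_sub, sub_eq_iff_eq_add] at h
      rw [h]
      have e1 : dotProduct x (Matrix.mulVec (CfsgLib.Asch.pw fun _ : Fin t => G) y) =
          ∑ a, ∑ b, x a * (∏ i, G (a i) (b i)) * id (y b) := by
        simp [dotProduct, Matrix.mulVec, CfsgLib.Asch.pw, Finset.mul_sum, mul_assoc]
      rw [e1, hGdef]
      ring
  rcases CfsgLib.SpinTensor.exists_coords G hk hn0 hsym hdiag hdet with ⟨hk2, T, hTG⟩ | ⟨hk4, T, hTG⟩
  · subst hk2
    have hcard : 1 < Fintype.card F := Fintype.one_lt_card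
    obtain ⟨l, hl⟩ : ∃ l : F, l ∉ ({0, 1} : Finset F) := by
      by_contra hcon
      push Not at hcon
      have h2 : ({0, 1} : Finset F).card ≤ 2 := Finset.card_le_two
      have h3 := Finset.card_le_card (s := (Finset.univ : Finset F)) (t := {0, 1}) fun x _ => hcon x
      have h4 : Fintype.card F ≠ 2 := fun h => hex1 ⟨h, rfl⟩
      rw [Finset.card_univ] at h3
      omega
    simp at hl
    have hnt := Fintype.card_congr e
    simp at hnt
    have ht4 : 4 ≤ t := by
      by_contra ht4
      have : 2 ^ t ≤ 2 ^ 3 := Nat.pow_le_pow_right (by norm_num) (by omega)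
      omega
    exact CfsgLib.SpinTensor.not_maximal_two Q e P hS T hTG hl.1 hl.2 ht4
  · subst hk4
    exact CfsgLib.SpinTensor.not_maximal_four Q e P hS T hTG ht

end Cfsg.Agent.S5707
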