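import Cfsg.Statements.S5709
import Cfsg.Agent.Lib.ClassicalMax.OrthTensorMax.Max2

set_option autoImplicit false
open Cfsg

namespace Cfsg.Agent.S5709

/-- Let F be a finite field with q elements, n ≥ 13 even, Q a non-degenerate quadratic form on F^n of minus type (no subspace of dimension n/2 is totally singular), and Ω the commutator subgroup of the isometry group of Q, viewed inside GL_n(F). Suppose q is odd and that, through a change of basis P and a bijection of index sets e, the polar form of Q is similar to the tensor product of non-degenerate symmetric bilinear forms f₁ on F^(n₁), n₁ odd and at least 3, and f₂ on F^(n₂), n₂ even and at least 4 with no totally isotropic subspace of dimension n₂/2 (minus type). Unless q = 3 and n₁ = 3, the elements of Ω in the stabiliser of this tensor decomposition form a maximal subgroup of Ω. -/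
theorem result {F : Type*} [Field F] [Fintype F] {n : ℕ} (hn : 13 ≤ n) (heven : Even n) (Q : (Fin n → F) → F) (hQ : Cfsg.Geo.IsNondegenerateQuadraticForm Q) (hminus : ¬ Cfsg.Geo.IsPlusTypeOn Q ⊤) (hodd : Odd (Fintype.card F)) (n₁ n₂ : ℕ) (h1 : 3 ≤ n₁) (h1o : Odd n₁) (h2 : 4 ≤ n₂) (h2e : Even n₂) (hex : ¬ (Fintype.card F = 3 ∧ n₁ = 3)) (e : (Fin n) ≃ Fin n₁ × Fin n₂) (P : Matrix.GeneralLinearGroup (Fin n) F) (f₁ : (Fin n₁ → F) → (Fin n₁ → F) → F) (f₂ : (Fin n₂ → F) → (Fin n₂ → F) → F) (hf₁ : Cfsg.Geo.IsSymmetricForm f₁) (hf₂ : Cfsg.Geo.IsSymmetricForm f₂) (hf₂m : ¬ Cfsg.Geo.IsPlusTypeOn (fun v : Fin n₂ → F => f₂ v v) ⊤) (hT : Cfsg.Geo.IsTensorFormStructure id (QuadraticMap.polar Q) f₁ f₂ e P) : Cfsg.Geo.IsMaximalIn (Cfsg.Geo.omegaGL Q) (Cfsg.Geo.tensorProductSubgroup n₁ n₂ e P ⊓ Cfsg.Geo.omegaGL Q) := by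
  classical
  have h20 : (2 : F) ≠ 0 := Ring.two_ne_zero fun h => by
    have := FiniteField.even_card_iff_char_two.1 h
    rw [Nat.odd_iff] at hodd
    omega
  have hcard : n = n₁ * n₂ := by simpa using Fintype.card_congr e
  have hne : n₁ ≠ n₂ := fun h => Nat.not_even_iff_odd.2 h1o (h ▸ h2e)
  have hnd := CfsgLib.ClassicalMax.OmE.ndPolar_qf Q hQ
  rcases lt_or_gt_of_ne hne with hlt | hlt
  · have hb : 5 ≤ n₂ := by
      by_contra hb
      have : n₁ * n₂ ≤ 3 * 4 := Nat.mul_le_mul (by omega) (by omega)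
      omega
    have hex' : 4 ≤ n₁ ∨ ∃ t : F, t ≠ 0 ∧ t * t ≠ 1 := by
      by_cases h4 : 4 ≤ n₁
      · exact Or.inl h4
      refine Or.inr (by_contra fun hcon => hex ⟨?_, by omega⟩)
      push Not at hcon
      have hsub : (Finset.univ : Finset F) ⊆ {0, 1, -1} := fun x _ => by
        rcases eq_or_ne x 0 with h | h
        · simp [h]
        · rcases mul_self_eq_one_iff.1 (hcon x h) with h | h <;> simp [h]
      have h3 := (Finset.card_le_card hsub).trans Finset.card_le_three
      rw [Finset.card_univ] at h3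
      have h1lt := Fintype.one_lt_card (α := F)
      rw [Nat.odd_iff] at hodd
      omega
    exact CfsgLib.ClassicalMax.OTens.tensor_maximal' (CfsgLib.ClassicalMax.OmE.qf Q hQ) hnd h20 e P hf₁ hf₂
      hT h1 hb hlt hex' fun u r hu hr hur hu0 hind => by
        have := CfsgLib.ClassicalMax.OTens.four_le_of_plane hf₁ h20 hu hr hur hu0 hind
        rw [Nat.odd_iff] at h1o
        omega
  · have hb : 5 ≤ n₁ := by omega
    rw [← CfsgLib.ClassicalMax.OTens.tensorProductSubgroup_swap e P]
    exact CfsgLib.ClassicalMax.OTens.tensor_maximal' (CfsgLib.ClassicalMax.OmE.qf Q hQ) hnd h20 _ P hf₂ hf₁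
      (CfsgLib.ClassicalMax.OTens.isTensorFormStructure_swap hT) (by omega) hb hlt (Or.inl h2)
      fun u r hu hr hur hu0 hind => by
        by_contra h5
        exact hf₂m (CfsgLib.ClassicalMax.OTens.isPlusTypeOn_of_plane hf₂ (by omega) hu hr hur hu0 hind)

end Cfsg.Agent.S5709
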