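import Cfsg.Statements.S5713
import Cfsg.Agent.Lib.MinDegree.Babai
-- import your own Cfsg.Agent.* helpers here

set_option autoImplicit false
open Cfsg

namespace Cfsg.Agent.S5713

/-- A classification-free minimal-degree bound. Let G be a finite group acting faithfully and primitively on a finite set Ω with n elements, and suppose that the image of G in the symmetric group on Ω does not contain the alternating group on Ω. Then every non-identity element of G moves at least (√n − 1)/2 points of Ω, that is, it fixes at most n − (√n − 1)/2 points. -/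
theorem result {G Ω : Type*} [Group G] [Finite G] [MulAction G Ω] [FaithfulSMul G Ω] [Fintype Ω] [DecidableEq Ω]
    (hprim : MulAction.IsPreprimitive G Ω)
    (hA : ¬ alternatingGroup Ω ≤ (MulAction.toPermHom G Ω).range)
    (g : G) (hg : g ≠ 1) :
    (Real.sqrt (Fintype.card Ω) - 1) / 2 ≤ (Fintype.card Ω : ℝ) - Nat.card (MulAction.fixedBy Ω g) := by
  classical
  have := hprim
  obtain ⟨x, hx⟩ : ∃ x : Ω, g • x ≠ x := by
    by_contra hh
    simp only [not_exists, not_not] at hh
    exact hg (eq_of_smul_eq_smul (α := Ω) fun z => by rw [hh z, one_smul])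
  set M : Finset Ω := (Finset.univ : Finset Ω).filter fun z => g • z ≠ z with hM
  have hfix : (Fintype.card Ω : ℝ) - Nat.card (MulAction.fixedBy Ω g) = M.card := by
    have h1 : M.card + Nat.card (MulAction.fixedBy Ω g) = Fintype.card Ω := by
      rw [Nat.card_eq_fintype_card, ← Set.toFinset_card, ← Finset.card_univ, add_comm,
        ← Finset.card_union_of_disjoint]
      · congr 1
        ext z
        simp [hM, em]
      · rw [Finset.disjoint_left]
        intro z h1 h2
        simp [hM] at h1 h2
        exact h2 h1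
    rw [← h1]; push_cast; ring
  rw [hfix]
  have hM1 : 1 ≤ M.card := Finset.card_pos.mpr ⟨x, by simp [hM, hx]⟩
  have key : Fintype.card Ω ≤ 4 * M.card ^ 2 + 1 := by
    by_cases h2 : ∀ a b c d : Ω, a ≠ b → c ≠ d → CfsgLib.MinDegree.SameCol G a b c d
    · by_contra hh
      have hsq : (M.card - 1) ^ 2 ≤ M.card ^ 2 := Nat.pow_le_pow_left (Nat.sub_le _ _) 2
      obtain ⟨σ, hσ, h3⟩ := CfsgLib.MinDegree.exists_threeCycle h2 g x hx (by rw [← hM]; omega)
      refine hA (Equiv.Perm.alternatingGroup_le_of_isPreprimitive_of_isThreeCycle_mem ?_ h3 hσ)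
      exact (MulAction.isPreprimitive_congr (M := G) (N := (MulAction.toPermHom G Ω).range) (α := Ω) (β := Ω)
        (φ := (MulAction.toPermHom G Ω).rangeRestrict)
        (MonoidHom.rangeRestrict_surjective _)
        (f := { toFun := id, map_smul' := fun _ _ => rfl }) Function.bijective_id).mp hprim
    · have h := CfsgLib.MinDegree.dist_bound (G := G) x (g • x) (Ne.symm hx) h2
      have hsub := Finset.card_le_card (CfsgLib.MinDegree.dist_subset_moved (G := G) g x)
      rw [← hM] at hsub
      have := Nat.pow_le_pow_left hsub 2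
      omega
  have hkey : (Fintype.card Ω : ℝ) ≤ (2 * (M.card : ℝ) + 1) ^ 2 := by
    have : (Fintype.card Ω : ℝ) ≤ ((4 * M.card ^ 2 + 1 : ℕ) : ℝ) := by exact_mod_cast key
    push_cast at this
    nlinarith [Nat.cast_nonneg (α := ℝ) M.card]
  have : Real.sqrt (Fintype.card Ω) ≤ 2 * (M.card : ℝ) + 1 :=
    Real.sqrt_le_iff.mpr ⟨by positivity, hkey⟩
  linarith

end Cfsg.Agent.S5713
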