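import Cfsg.Statements.S5726
import Cfsg.Agent.Lib.PermDerange.SylowOrbit

set_option autoImplicit false
open Cfsg

namespace Cfsg.Agent.S5726


/-- If a finite group acts faithfully and transitively on a set with p^k elements, p a prime and k ≥ 1, then some element of order p fixes no point. -/
theorem result {G Ω : Type*} [Group G] [Finite G] [MulAction G Ω] [FaithfulSMul G Ω] [Fintype Ω] (htr : MulAction.IsPretransitive G Ω)
    (p k : ℕ) (hp : p.Prime) (hk : 1 ≤ k) (hΩ : Fintype.card Ω = p ^ k) :
    ∃ g : G, orderOf g = p ∧ ∀ ω : Ω, g • ω ≠ ω := by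
  haveI := Fact.mk hp
  haveI := htr
  obtain ⟨P⟩ : Nonempty (Sylow p G) := inferInstance
  have hpos : 0 < Fintype.card Ω := by rw [hΩ]; exact pow_pos hp.pos k
  obtain ⟨α⟩ := Fintype.card_pos_iff.1 hpos
  have horb : ∀ x : Ω, x ∈ MulAction.orbit (P : Subgroup G) α := by
    have h := CfsgLib.PermDerange.pow_dvd_card_sylow_orbit P k (by rw [Nat.card_eq_fintype_card, hΩ]) α
    have hle : p ^ k ≤ Nat.card (MulAction.orbit (P : Subgroup G) α) :=
      Nat.le_of_dvd (Nat.card_pos_iff.2 ⟨⟨⟨α, MulAction.mem_orbit_self α⟩⟩, inferInstance⟩) h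
    intro x
    have : MulAction.orbit (P : Subgroup G) α = Set.univ := by
      apply Set.eq_of_subset_of_ncard_le (Set.subset_univ _)
      rw [Set.ncard_univ, ← Nat.card_coe_set_eq, Nat.card_eq_fintype_card (α := Ω), hΩ]
      exact hle
    rw [this]; trivial
  haveI : Nontrivial (P : Subgroup G) := by
    by_contra h
    rw [not_nontrivial_iff_subsingleton] at h
    have h2 : Fintype.card Ω ≤ 1 := by
      rw [Fintype.card_le_one_iff]
      intro x y
      obtain ⟨g, rfl⟩ := horb x
      obtain ⟨g', rfl⟩ := horb y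
      rw [Subsingleton.elim g g']
    rw [hΩ] at h2
    exact absurd h2 (not_le.2 (Nat.one_lt_pow (by omega) hp.one_lt))
  haveI := P.isPGroup'.center_nontrivial
  have hc : p ∣ Nat.card (Subgroup.center (P : Subgroup G)) := by
    obtain ⟨n, hn⟩ := (IsPGroup.iff_card).1 (P.isPGroup'.to_subgroup (Subgroup.center (P : Subgroup G)))
    rw [hn]
    refine dvd_pow_self p ?_
    rintro rfl
    rw [pow_zero] at hn
    exact absurd hn (by have := Finite.one_lt_card (α := Subgroup.center (P : Subgroup G)); omega)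
  obtain ⟨z, hz⟩ := exists_prime_orderOf_dvd_card' p hc
  refine ⟨((z : (P : Subgroup G)) : G), ?_, ?_⟩
  · rw [Subgroup.orderOf_coe, Subgroup.orderOf_coe, hz]
  intro ω hω
  have hz1 : ((z : (P : Subgroup G)) : G) = 1 := by
    refine eq_of_smul_eq_smul (α := Ω) fun x => ?_
    obtain ⟨g, rfl⟩ := horb x
    obtain ⟨g', hg'⟩ := horb ω
    have hcomm : ∀ y : (P : Subgroup G), (z : (P : Subgroup G)) * y = y * z := fun y => (Subgroup.mem_center_iff.1 z.2 y).symm
    have hfix : (z : (P : Subgroup G)) • ω = ω := hω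
    have key : (z : (P : Subgroup G)) • (g • α) = g • α := by
      have e : g • α = (g * g'⁻¹) • ω := by rw [← hg', ← mul_smul, inv_mul_cancel_right]
      rw [e, ← mul_smul, hcomm, mul_smul, hfix]
    rw [one_smul]
    exact key
  have : orderOf z = 1 := by
    rw [← Subgroup.orderOf_coe, ← Subgroup.orderOf_coe, hz1, orderOf_one]
  rw [hz] at this
  exact hp.one_lt.ne' this

end Cfsg.Agent.S5726
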