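import Cfsg.Statements.S5727
import Cfsg.Agent.Lib.PermDerange.SylowOrbit
import Cfsg.Agent.S5726

set_option autoImplicit false
open Cfsg

namespace Cfsg.Agent.S5727


/-- If a finite group acts faithfully and transitively on a set with m·p elements, where p is a prime and 1 ≤ m ≤ p, then some element of order p fixes no point. -/
theorem result {G Ω : Type*} [Group G] [Finite G] [MulAction G Ω] [FaithfulSMul G Ω] [Fintype Ω] (htr : MulAction.IsPretransitive G Ω)
    (p m : ℕ) (hp : p.Prime) (hm : 1 ≤ m) (hmp : m ≤ p) (hΩ : Fintype.card Ω = m * p) :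
    ∃ g : G, orderOf g = p ∧ ∀ ω : Ω, g • ω ≠ ω := by
  haveI := Fact.mk hp
  haveI := htr
  obtain ⟨P⟩ : Nonempty (Sylow p G) := inferInstance
  classical
  have hdvd : ∀ α : Ω, p ∣ Nat.card (MulAction.orbit (P : Subgroup G) α) := fun α => by
    simpa using CfsgLib.PermDerange.pow_dvd_card_sylow_orbit P 1
      (by rw [pow_one, Nat.card_eq_fintype_card, hΩ]; exact dvd_mul_left p m) α
  by_cases hbig : ∃ α : Ω, p < Nat.card (MulAction.orbit (P : Subgroup G) α)
  · obtain ⟨α, hα⟩ := hbig
    have hle : Nat.card (MulAction.orbit (P : Subgroup G) α) ≤ Fintype.card Ω := by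
      rw [← Nat.card_eq_fintype_card]
      exact Nat.card_le_card_of_injective _ Subtype.val_injective
    obtain ⟨j, hj⟩ := P.isPGroup'.card_orbit α
    have hj2 : 2 ≤ j := by
      by_contra hcon
      have : p ^ j ≤ p := (Nat.pow_le_pow_right hp.pos (by omega : j ≤ 1)).trans (pow_one p).le
      omega
    have hp2 : p ^ 2 ≤ m * p := by
      rw [← hΩ]; exact ((Nat.pow_le_pow_right hp.pos hj2).trans hj.ge).trans hle
    have hmp' : m = p := by
      have : p * p ≤ m * p := by rw [← sq]; exact hp2
      exact le_antisymm hmp (Nat.le_of_mul_le_mul_right this hp.pos)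
    subst hmp'
    exact Cfsg.Agent.S5726.result htr m 2 hp (by omega) (by rw [hΩ, sq])
  · push Not at hbig
    have hposΩ : 0 < Fintype.card Ω := by rw [hΩ]; exact Nat.mul_pos hm hp.pos
    have hcard : ∀ α : Ω, Nat.card (MulAction.orbit (P : Subgroup G) α) = p := fun α =>
      le_antisymm (hbig α) (Nat.le_of_dvd
        (Nat.card_pos_iff.2 ⟨⟨⟨α, MulAction.mem_orbit_self α⟩⟩, inferInstance⟩) (hdvd α))
    haveI : Fintype (P : Subgroup G) := Fintype.ofFinite _
    let K : Ω → Finset (P : Subgroup G) := fun α =>
      Finset.univ.filter fun x => x • α = α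
    have hK : ∀ α, (K α).card * p = Fintype.card (P : Subgroup G) := fun α => by
      have h := Nat.card_congr (MulAction.orbitProdStabilizerEquivGroup (P : Subgroup G) α)
      rw [Nat.card_prod, hcard, ← Nat.card_eq_fintype_card (α := (P : Subgroup G))] at *
      rw [mul_comm, ← h]
      congr 1
      rw [← Nat.card_eq_finsetCard]
      exact Nat.card_congr (Equiv.subtypeEquivRight fun x => by simp [K])
    have horb : ∀ q : MulAction.orbitRel.Quotient (P : Subgroup G) Ω, Nat.card q.orbit = p := fun q => by
      rw [MulAction.orbitRel.Quotient.orbit_eq_orbit_out q Quotient.out_eq']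
      exact hcard _
    haveI : Fintype (MulAction.orbitRel.Quotient (P : Subgroup G) Ω) := Fintype.ofFinite _
    have hQ : Fintype.card (MulAction.orbitRel.Quotient (P : Subgroup G) Ω) = m := by
      have h := Nat.card_congr (MulAction.selfEquivSigmaOrbits' (P : Subgroup G) Ω)
      rw [Nat.card_sigma, Nat.card_eq_fintype_card, hΩ] at h
      simp only [horb, Finset.sum_const, Finset.card_univ, smul_eq_mul] at h
      exact (Nat.eq_of_mul_eq_mul_right hp.pos h).symm
    let B : Finset (P : Subgroup G) :=
      Finset.univ.biUnion fun q : MulAction.orbitRel.Quotient (P : Subgroup G) Ω => (K q.out).erase 1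
    have hex : ∃ x : (P : Subgroup G), x ≠ 1 ∧ x ∉ B := by
      by_contra hcon
      push Not at hcon
      have hsub : Finset.univ.erase 1 ⊆ B := fun x hx => hcon x (Finset.mem_erase.1 hx).1
      have h1 := (Finset.card_le_card hsub).trans (Finset.card_biUnion_le)
      obtain ⟨α⟩ := Fintype.card_pos_iff.1 hposΩ
      have hc0 := hK α
      have h2 : ∀ q : MulAction.orbitRel.Quotient (P : Subgroup G) Ω, ((K q.out).erase 1).card = (K α).card - 1 := fun q => by
        rw [Finset.card_erase_of_mem (by simp [K]),
          Nat.eq_of_mul_eq_mul_right hp.pos ((hK q.out).trans hc0.symm)]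
      rw [Finset.card_erase_of_mem (Finset.mem_univ _), Finset.card_univ, ← hc0] at h1
      simp only [h2, Finset.sum_const, Finset.card_univ, hQ, smul_eq_mul] at h1
      obtain ⟨c, hc⟩ : ∃ c, (K α).card = c + 1 :=
        ⟨(K α).card - 1, by have : 0 < (K α).card := Finset.card_pos.2 ⟨1, by simp [K]⟩; omega⟩
      rw [hc, Nat.add_sub_cancel] at h1
      have h3 : (c + 1) * p - 1 ≤ p * c := h1.trans (Nat.mul_le_mul_right c hmp)
      have h4 : (c + 1) * p = p * c + p := by ring
      have := hp.two_le
      omega
    obtain ⟨x, hx1, hxB⟩ := hex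
    have hfree : ∀ ω : Ω, x • ω ≠ ω := by
      intro ω hω
      apply hxB
      simp only [B, K, Finset.mem_biUnion, Finset.mem_univ, true_and, Finset.mem_erase, Finset.mem_filter]
      refine ⟨Quotient.mk'' ω, hx1, ?_⟩
      -- the stabilizers of a point of an orbit of size p all agree
      set o := (Quotient.mk'' ω : MulAction.orbitRel.Quotient (P : Subgroup G) Ω).out with ho
      have hmem : o ∈ MulAction.orbit (P : Subgroup G) ω :=
        MulAction.orbitRel_apply.1 (Quotient.mk_out' ω)
      obtain ⟨y, hy⟩ := hmem
      have hidx : (MulAction.stabilizer (P : Subgroup G) ω).index = p := by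
        rw [MulAction.index_stabilizer, ← Nat.card_coe_set_eq]
        exact hcard ω
      haveI hn : (MulAction.stabilizer (P : Subgroup G) ω).Normal := by
        apply Subgroup.normal_of_index_eq_minFac_card
        obtain ⟨a, ha⟩ := (IsPGroup.iff_card).1 P.isPGroup'
        have hd : p ∣ Nat.card (P : Subgroup G) := by
          have := (MulAction.stabilizer (P : Subgroup G) ω).index_dvd_card
          rwa [hidx] at this
        have ha0 : a ≠ 0 := by
          rintro rfl
          rw [pow_zero] at ha
          rw [ha, Nat.dvd_one] at hd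
          exact hp.one_lt.ne' hd
        rw [hidx, ha, Nat.pow_minFac ha0, hp.minFac_eq]
      have hx' : y⁻¹ * x * y ∈ MulAction.stabilizer (P : Subgroup G) ω := by
        have := hn.conj_mem x hω y⁻¹
        rwa [inv_inv] at this
      rw [← hy]
      have h5 : (y⁻¹ * x * y) • ω = ω := hx'
      calc x • y • ω = y • ((y⁻¹ * x * y) • ω) := by
            rw [← mul_smul, ← mul_smul]; congr 1; group
        _ = y • ω := by rw [h5]
    refine ⟨(x : G), ?_, hfree⟩
    have hxp : (x : G) ^ p = 1 := by
      refine eq_of_smul_eq_smul (α := Ω) fun ω => ?_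
      rw [one_smul]
      obtain ⟨a, ha⟩ := P.isPGroup' x
      have hper : Function.minimalPeriod (x • ·) ω ∣ p := by
        have h1 : Function.minimalPeriod (x • ·) ω ∣ p ^ a := by
          rw [← MulAction.pow_smul_eq_iff_minimalPeriod_dvd, ha, one_smul]
        obtain ⟨i, hi, hi'⟩ := (Nat.dvd_prime_pow hp).1 h1
        rw [hi']
        by_cases hi1 : i ≤ 1
        · exact (pow_dvd_pow p hi1).trans (pow_one p).dvd
        · exfalso
          have h2 : Function.minimalPeriod (x • ·) ω ≤ p := by
            rw [MulAction.minimalPeriod_eq_card, ← Nat.card_eq_fintype_card]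
            refine le_trans ?_ (hcard ω).le
            apply Nat.card_le_card_of_injective
              (fun z => (⟨z.1, ?_⟩ : MulAction.orbit (P : Subgroup G) ω))
            · intro z z' h; exact Subtype.ext (congrArg (fun w : MulAction.orbit (P : Subgroup G) ω => (w : Ω)) h)
            · obtain ⟨g, hg⟩ := z.2
              exact ⟨g.1, hg⟩
          rw [hi'] at h2
          have : p ^ 2 ≤ p ^ i := Nat.pow_le_pow_right hp.pos (by omega)
          have : p < p ^ 2 := by
            calc p = p ^ 1 := (pow_one p).symm
              _ < p ^ 2 := Nat.pow_lt_pow_right hp.one_lt (by omega)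
          omega
      have := (MulAction.pow_smul_eq_iff_minimalPeriod_dvd (a := x) (b := ω)).2 hper
      exact this
    exact orderOf_eq_prime hxp (fun h => hx1 (Subtype.ext h))

end Cfsg.Agent.S5727
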