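import Cfsg.Statements.S5728

set_option autoImplicit false
open Cfsg

namespace Cfsg.Agent.S5728

/-- The affine permutation `y ↦ a * y + b`. -/
def affPerm {R : Type*} [CommRing R] (a : Rˣ) (b : R) : Equiv.Perm R where
  toFun y := a * y + b
  invFun y := (a⁻¹ : Rˣ) * (y - b)
  left_inv y := by simp
  right_inv y := by simp

theorem affPerm_apply {R : Type*} [CommRing R] (a : Rˣ) (b y : R) : affPerm a b y = a * y + b := rfl

theorem affPerm_inv_apply {R : Type*} [CommRing R] (a : Rˣ) (b y : R) :
    (affPerm a b)⁻¹ y = (a⁻¹ : Rˣ) * (y - b) := rfl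

theorem affPerm_mem {R : Type*} [CommRing R] (a : Rˣ) (b : R) : affPerm a b ∈ Cfsg.affineGroup R :=
  ⟨a, b, fun _ => rfl⟩

theorem mem_range_of_pow_eq {p : ℕ} [Fact p.Prime] {F : Type*} [Field F] [Algebra (ZMod p) F]
    {x : F} (hx : x ^ p = x) : ∃ a₀ : ZMod p, algebraMap (ZMod p) F a₀ = x := by
  classical
  by_contra hcon
  push Not at hcon
  let S : Finset F := insert x (Finset.univ.image (algebraMap (ZMod p) F))
  have hS : S.card = p + 1 := by
    rw [Finset.card_insert_of_notMem (by simpa using hcon),
      Finset.card_image_of_injective _ (algebraMap (ZMod p) F).injective, Finset.card_univ, ZMod.card]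
  have hroot : ∀ z ∈ S, (Polynomial.X ^ p - Polynomial.X : Polynomial F).IsRoot z := by
    intro z hz
    simp only [Polynomial.IsRoot.def, Polynomial.eval_sub, Polynomial.eval_pow, Polynomial.eval_X, sub_eq_zero]
    rcases Finset.mem_insert.1 hz with rfl | hz
    · exact hx
    · obtain ⟨w, -, rfl⟩ := Finset.mem_image.1 hz
      rw [← map_pow, ZMod.pow_card]
  have hne : (Polynomial.X ^ p - Polynomial.X : Polynomial F) ≠ 0 :=
    FiniteField.X_pow_card_sub_X_ne_zero F (Fact.out : p.Prime).one_lt
  have hle : S.card ≤ (Polynomial.X ^ p - Polynomial.X : Polynomial F).natDegree := by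
    refine le_trans ?_ (Polynomial.card_roots' _)
    refine le_trans (Finset.card_le_card (t := (Polynomial.X ^ p - Polynomial.X : Polynomial F).roots.toFinset) ?_)
      (Multiset.toFinset_card_le _)
    intro z hz
    rw [Multiset.mem_toFinset, Polynomial.mem_roots hne]
    exact hroot z hz
  rw [FiniteField.X_pow_card_sub_X_natDegree_eq F (Fact.out : p.Prime).one_lt, hS] at hle
  omega


theorem main {F : Type*} [Field F] [Finite F] (p s : ℕ) [Fact p.Prime] [Algebra (ZMod p) F]
    (hcardF : Nat.card F = p ^ 2) (hs : p = 2 ^ s - 1)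
    (g : Equiv.Perm F) (hg : g ∈ Cfsg.affineGroup F) (hord : (orderOf g).Prime) :
    ∃ x ∈ Cfsg.affineGroup F, ∃ a b : ZMod p, a ≠ 0 ∧
      ∀ y : F, (x * g * x⁻¹) y = algebraMap (ZMod p) F a * y + algebraMap (ZMod p) F b := by
  obtain ⟨a, b, hab⟩ := hg
  by_cases ha : (a : F) = 1
  · by_cases hb : b = 0
    · exfalso
      have : g = 1 := Equiv.ext fun y => by simp [hab, ha, hb]
      rw [this, orderOf_one] at hord
      exact Nat.not_prime_one hord
    · refine ⟨affPerm (Units.mk0 b hb)⁻¹ 0, affPerm_mem _ _, 1, 1, one_ne_zero, fun y => ?_⟩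
      simp only [Equiv.Perm.mul_apply, affPerm_apply, affPerm_inv_apply, hab, ha, map_one]
      simp only [inv_inv, Units.val_mk0, Units.val_inv_eq_inv_val, add_zero, sub_zero, one_mul]
      field_simp
  · -- fixed point
    have h1a : (1 : F) - a ≠ 0 := sub_ne_zero.2 (Ne.symm ha)
    set c : F := b / (1 - a) with hc
    have hbc : b = c * (1 - a) := by rw [hc, div_mul_cancel₀ _ h1a]
    -- linear part has prime order
    have hiter : ∀ (k : ℕ) (y : F), (g ^ k) y - c = (a : F) ^ k * (y - c) := by
      intro k
      induction k with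
      | zero => intro y; simp
      | succ k ih =>
        intro y
        rw [pow_succ', Equiv.Perm.mul_apply, hab, pow_succ' (a : F) k, mul_assoc, ← ih, hbc]
        ring
    obtain ⟨r, hr⟩ : ∃ r, orderOf g = r := ⟨_, rfl⟩
    rw [hr] at hord
    have har : (a : F) ^ r = 1 := by
      have := hiter r (c + 1)
      rw [← hr] at this ⊢
      rw [pow_orderOf_eq_one] at this
      simpa using this.symm
    haveI := Fact.mk hord
    have hordA : orderOf (a : F) = r := orderOf_eq_prime har ha
    have hdvd : r ∣ p ^ 2 - 1 := by
      haveI : Fintype F := Fintype.ofFinite F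
      rw [← hordA, ← hcardF, Nat.card_eq_fintype_card]
      exact orderOf_dvd_of_pow_eq_one (FiniteField.pow_card_sub_one_eq_one _ a.ne_zero)
    have hfix : (a : F) ^ (p - 1) = 1 := by
      have hp := (Fact.out : p.Prime)
      have h2 : r ∣ (p + 1) * (p - 1) := by
        rwa [← Nat.sq_sub_sq, one_pow]
      rcases hord.dvd_mul.1 h2 with h | h
      · have hp1 : p + 1 = 2 ^ s := by
          have := Nat.one_le_two_pow (n := s)
          omega
        rw [hp1] at h
        have hr2 : r = 2 := (Nat.prime_dvd_prime_iff_eq hord Nat.prime_two).1 (hord.dvd_of_dvd_pow h)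
        have hpodd : Odd p := by
          rcases hp.eq_two_or_odd' with hp2 | hp2
          · exfalso
            rw [hp2] at hs
            rcases s with _ | s
            · simp at hs
            · rw [pow_succ] at hs; omega
          · exact hp2
        obtain ⟨e, he⟩ := hpodd
        have : p - 1 = r * e := by rw [hr2]; omega
        rw [this, pow_mul, har, one_pow]
      · obtain ⟨e, he⟩ := h
        rw [he, pow_mul, har, one_pow]
    have hmem : ∃ a₀ : ZMod p, algebraMap (ZMod p) F a₀ = a := by
      have h0 : (a : F) ^ p = a := by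
        have hp := (Fact.out : p.Prime)
        calc (a : F) ^ p = (a : F) ^ (p - 1) * a := by
              rw [← pow_succ]; congr 1; have := hp.pos; omega
          _ = a := by rw [hfix, one_mul]
      exact mem_range_of_pow_eq h0
    obtain ⟨a₀, ha₀⟩ := hmem
    refine ⟨affPerm 1 (-c), affPerm_mem _ _, a₀, 0, ?_, fun y => ?_⟩
    · rintro rfl
      rw [map_zero] at ha₀
      exact a.ne_zero ha₀.symm
    · simp only [Equiv.Perm.mul_apply, affPerm_apply, affPerm_inv_apply, hab, map_zero]
      rw [ha₀, hbc]
      simp
      ring


/-- An elusive transitive action. Let p = 2^s − 1 be a prime and let F be the field with p² elements. Inside the group of affine maps x ↦ a·x + b of F (a ≠ 0), consider the subgroup of maps with both coefficients in the prime field. Then every element of prime order of the affine group is conjugate, within the affine group, to an element of that subgroup; equivalently, in the transitive action of the affine group on the cosets of that subgroup (of degree p(p + 1)) every element of prime order fixes a point. -/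
theorem result (p s : ℕ) [Fact p.Prime] (hs : p = 2 ^ s - 1)
    (g : Equiv.Perm (GaloisField p 2)) (hg : g ∈ Cfsg.affineGroup (GaloisField p 2)) (hord : (orderOf g).Prime) :
    ∃ x ∈ Cfsg.affineGroup (GaloisField p 2), ∃ a b : ZMod p, a ≠ 0 ∧
      ∀ y : GaloisField p 2, (x * g * x⁻¹) y = algebraMap (ZMod p) (GaloisField p 2) a * y + algebraMap (ZMod p) (GaloisField p 2) b := by
  exact main p s (GaloisField.card p 2 (by omega)) hs g hg hord

end Cfsg.Agent.S5728
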