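import Cfsg.Statements.S5729
import Cfsg.Agent.Lib.PermDerange.Counting

set_option autoImplicit false
open Cfsg

namespace Cfsg.Agent.S5729


/-- Let a finite group G act faithfully and transitively on a set with n ≥ 3 points. Then either G is a Frobenius permutation group (Frobenius as a permutation group: transitive, some non-identity element fixes a point, and no non-identity element fixes two points) of order n(n − 1) and exactly |G|/n of its elements are derangements (fix no point), or the number of derangements is greater than |G|/n. -/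
theorem result {G Ω : Type*} [Group G] [Finite G] [MulAction G Ω] [FaithfulSMul G Ω] [Fintype Ω] (htr : MulAction.IsPretransitive G Ω) (hn : 3 ≤ Fintype.card Ω) :
    ((MulAction.IsPretransitive G Ω ∧ (∃ g : G, g ≠ 1 ∧ ∃ ω : Ω, g • ω = ω) ∧ ∀ g : G, g ≠ 1 → Nat.card (MulAction.fixedBy Ω g) ≤ 1) ∧ Nat.card G = Fintype.card Ω * (Fintype.card Ω - 1) ∧ Fintype.card Ω * Nat.card {g : G // ∀ ω : Ω, g • ω ≠ ω} = Nat.card G) ∨
    Nat.card G < Fintype.card Ω * Nat.card {g : G // ∀ ω : Ω, g • ω ≠ ω} := by
  classical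
  haveI := htr
  haveI : Fintype G := Fintype.ofFinite G
  haveI : Nontrivial Ω := Fintype.one_lt_card_iff_nontrivial.1 (by omega)
  have hid := CfsgLib.PermDerange.derangement_identity (G := G) (Ω := Ω)
  have hr := CfsgLib.PermDerange.two_le_numOrbitals (G := G) (Ω := Ω)
  have hnn : 0 ≤ ∑ g : G, CfsgLib.PermDerange.excess Ω g :=
    Finset.sum_nonneg fun g _ => CfsgLib.PermDerange.excess_nonneg g
  rw [Nat.card_eq_fintype_card (α := Ω)] at hid
  have hGpos : 0 < (Nat.card G : ℤ) := by exact_mod_cast Nat.card_pos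
  by_cases hstrict : Nat.card G < Fintype.card Ω * Nat.card {g : G // ∀ ω : Ω, g • ω ≠ ω}
  · exact Or.inr hstrict
  left
  have hle : (Fintype.card Ω : ℤ) * (Nat.card {g : G // ∀ ω : Ω, g • ω ≠ ω} : ℤ) ≤ (Nat.card G : ℤ) := by
    exact_mod_cast not_lt.1 hstrict
  have hmul : (Nat.card G : ℤ) ≤ ((CfsgLib.PermDerange.numOrbitals G Ω : ℤ) - 1) * (Nat.card G : ℤ) := by
    nlinarith
  have hsum : ∑ g : G, CfsgLib.PermDerange.excess Ω g = 0 := by linarith
  have hD : (Fintype.card Ω : ℤ) * (Nat.card {g : G // ∀ ω : Ω, g • ω ≠ ω} : ℤ) = (Nat.card G : ℤ) := by linarith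
  have hr2 : CfsgLib.PermDerange.numOrbitals G Ω = 2 := by
    have : ((CfsgLib.PermDerange.numOrbitals G Ω : ℤ) - 1) * (Nat.card G : ℤ) = 1 * (Nat.card G : ℤ) := by linarith
    have := mul_right_cancel₀ hGpos.ne' this
    omega
  have hfix : ∀ g : G, g ≠ 1 → Nat.card (MulAction.fixedBy Ω g) ≤ 1 := by
    intro g hg
    have h0 := (Finset.sum_eq_zero_iff_of_nonneg fun g _ => CfsgLib.PermDerange.excess_nonneg g).1 hsum g (Finset.mem_univ g)
    unfold CfsgLib.PermDerange.excess at h0
    split at h0
    · omega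
    · rcases mul_eq_zero.1 h0 with h | h
      · omega
      · exfalso
        apply hg
        refine eq_of_smul_eq_smul (α := Ω) fun x => ?_
        have huniv : MulAction.fixedBy Ω g = Set.univ := by
          apply Set.eq_of_subset_of_ncard_le (Set.subset_univ _)
          rw [Set.ncard_univ, ← Nat.card_coe_set_eq]
          omega
        rw [one_smul]
        exact (Set.eq_univ_iff_forall.1 huniv x)
  obtain ⟨a, b, hab⟩ := exists_pair_ne Ω
  have hpairs := CfsgLib.PermDerange.pretransitive_pairs_of_numOrbitals hr2 a b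
  have hcardG : Nat.card G = Fintype.card Ω * (Fintype.card Ω - 1) := by
    let f : G → {x : Ω × Ω // x.1 ≠ x.2} := fun g => ⟨(g • a, g • b), fun h => hab (MulAction.injective g h)⟩
    have hf : Function.Bijective f := by
      constructor
      · intro g g' h
        have h1 : g • a = g' • a := congrArg (fun x : {x : Ω × Ω // x.1 ≠ x.2} => x.1.1) h
        have h2 : g • b = g' • b := congrArg (fun x : {x : Ω × Ω // x.1 ≠ x.2} => x.1.2) h
        by_contra hne
        have hle1 := hfix (g'⁻¹ * g) (fun h => hne (inv_mul_eq_one.1 h).symm)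
        have ha' : (g'⁻¹ * g) • a = a := by rw [mul_smul, h1, inv_smul_smul]
        have hb' : (g'⁻¹ * g) • b = b := by rw [mul_smul, h2, inv_smul_smul]
        haveI : Nontrivial (MulAction.fixedBy Ω (g'⁻¹ * g)) :=
          ⟨⟨⟨a, ha'⟩, ⟨b, hb'⟩, fun h => hab (congrArg Subtype.val h)⟩⟩
        have := Finite.one_lt_card (α := MulAction.fixedBy Ω (g'⁻¹ * g))
        omega
      · rintro ⟨⟨c, d⟩, hcd⟩
        obtain ⟨g, h1, h2⟩ := hpairs c d hab hcd
        exact ⟨g, Subtype.ext (Prod.ext h1 h2)⟩
    rw [Nat.card_eq_of_bijective f hf, Nat.card_eq_fintype_card, Fintype.card_subtype]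
    have : (Finset.univ.filter fun x : Ω × Ω => x.1 ≠ x.2) = (Finset.univ : Finset Ω).offDiag := by
      ext x; simp [Finset.mem_offDiag]
    rw [this, Finset.offDiag_card, Finset.card_univ, Nat.mul_sub, mul_one]
  refine ⟨⟨htr, ?_, hfix⟩, hcardG, by exact_mod_cast hD⟩
  obtain ⟨c, hca, hcb⟩ : ∃ c, c ≠ a ∧ c ≠ b := by
    by_contra hcon
    push Not at hcon
    have : (Finset.univ : Finset Ω) ⊆ {a, b} := fun c _ => by
      by_cases h : c = a
      · simp [h]
      · simp [hcon c h]
    have := (Finset.card_le_card this).trans Finset.card_le_two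
    rw [Finset.card_univ] at this
    omega
  obtain ⟨g, h1, h2⟩ := hpairs a c hab hca.symm
  refine ⟨g, ?_, a, h1⟩
  rintro rfl
  rw [one_smul] at h2
  exact hcb h2.symm

end Cfsg.Agent.S5729
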