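import Cfsg.Statements.S5730
import Cfsg.Agent.Lib.PermDerange.Counting
import Cfsg.Agent.Lib.PermDerange.TwoTrans
import Cfsg.Agent.Lib.PermDerange.TwoTransBound

set_option autoImplicit false
open Cfsg

namespace Cfsg.Agent.S5730

section

open MulAction CfsgLib.PermDerange
open Classical

variable {G Ω : Type*} [Group G] [Fintype G] [MulAction G Ω] [Fintype Ω]

theorem sum_pairs {M : Type*} [AddCommMonoid M] (f : G → M) :
    ∑ g : G, ∑ _p ∈ (fixPts Ω g).offDiag, f g
      = ∑ p ∈ (Finset.univ : Finset Ω).offDiag, ∑ g ∈ Finset.univ.filter (· ∈ stab2 G p.1 p.2), f g := by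
  refine Finset.sum_comm' fun g p => ?_
  simp only [Finset.mem_offDiag, mem_fixPts, mem_stab2, Finset.mem_filter, Finset.mem_univ, true_and]
  tauto

theorem card_eq [IsPretransitive G Ω] [Nonempty Ω] (h2 : IsTwoTrans G Ω) (hr : numOrbitals G Ω = 2)
    {a b : Ω} (hab : a ≠ b) :
    Nat.card G = Fintype.card Ω * (Fintype.card Ω - 1) * Nat.card (stab2 G a b) := by
  have h1 : ∑ g : G, (fixPts Ω g).offDiag.card = Nat.card G := by
    have e1 := sum_sq_card_fixedBy (G := G) (Ω := Ω)
    have e2 := sum_card_fixedBy_transitive (G := G) (Ω := Ω)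
    rw [hr] at e1
    have e3 : ∀ g : G, (fixPts Ω g).offDiag.card + Nat.card (fixedBy Ω g)
        = Nat.card (fixedBy Ω g) * Nat.card (fixedBy Ω g) := fun g => by
      rw [Finset.offDiag_card, card_fixPts, Nat.sub_add_cancel (Nat.le_mul_self _)]
    have e4 := Finset.sum_congr rfl fun g (_ : g ∈ Finset.univ) => e3 g
    rw [Finset.sum_add_distrib, e1, e2] at e4
    omega
  have h3 := sum_pairs (G := G) (Ω := Ω) (fun _ => (1 : ℕ))
  simp only [Finset.sum_const, smul_eq_mul, mul_one] at h3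
  rw [← h1, h3, Finset.sum_congr rfl fun p hp => (card_mem_filter _).trans
    (card_stab2_eq h2 (Finset.mem_offDiag.1 hp).2.2 hab), Finset.sum_const, smul_eq_mul,
    Finset.offDiag_card, Finset.card_univ, Nat.mul_sub, mul_one]

theorem sum_stab2_smul {M : Type*} [AddCommMonoid M] (f : ℕ → M) (u : G) (a b : Ω) :
    ∑ g ∈ Finset.univ.filter (· ∈ stab2 G (u • a) (u • b)), f (fixPts Ω g).card
      = ∑ g ∈ Finset.univ.filter (· ∈ stab2 G a b), f (fixPts Ω g).card := by
  refine (Finset.sum_equiv (MulAut.conj u).toEquiv (fun g => ?_) fun g _ => ?_).symm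
  · simp [mem_stab2, mul_smul, inv_smul_smul, smul_left_cancel_iff]
  · congr 1
    rw [← Finset.card_image_of_injective (fixPts Ω g) (MulAction.injective u)]
    congr 1
    ext x
    simp only [mem_fixPts, Finset.mem_image, MulEquiv.toEquiv_eq_coe, MulEquiv.coe_toEquiv, MulAut.conj_apply,
      mul_smul]
    constructor
    · rintro ⟨y, hy, rfl⟩
      rw [inv_smul_smul, hy]
    · intro h
      exact ⟨u⁻¹ • x, by rw [eq_inv_smul_iff, h], smul_inv_smul u x⟩

theorem sum_excess_eq (h2 : IsTwoTrans G Ω) {a b : Ω} (hab : a ≠ b) :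
    ∑ g : G, ((excess Ω g : ℤ) : ℝ) = ((Fintype.card Ω * (Fintype.card Ω - 1) : ℕ) : ℝ) *
      ∑ g ∈ Finset.univ.filter (· ∈ stab2 G a b),
        ((Fintype.card Ω : ℝ) - (fixPts Ω g).card) / (fixPts Ω g).card := by
  set f : ℕ → ℝ := fun m => ((Fintype.card Ω : ℝ) - m) / m with hf
  have h1 : ∀ g : G, ((excess Ω g : ℤ) : ℝ) = ∑ _p ∈ (fixPts Ω g).offDiag, f (fixPts Ω g).card := by
    intro g
    rw [Finset.sum_const, Finset.offDiag_card, nsmul_eq_mul, Nat.cast_sub (Nat.le_mul_self _), hf]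
    unfold excess
    rw [← card_fixPts]
    by_cases h : (fixPts Ω g).card = 0
    · simp [h]
    · rw [if_neg h, Nat.card_eq_fintype_card (α := Ω)]
      have : ((fixPts Ω g).card : ℝ) ≠ 0 := by exact_mod_cast h
      push_cast
      field_simp
      try ring
  have hconst : ∀ p ∈ (Finset.univ : Finset Ω).offDiag,
      ∑ g ∈ Finset.univ.filter (· ∈ stab2 G p.1 p.2), f (fixPts Ω g).card
        = ∑ g ∈ Finset.univ.filter (· ∈ stab2 G a b), f (fixPts Ω g).card := by
    intro p hp
    obtain ⟨u, h3, h4⟩ := h2 a b p.1 p.2 hab (Finset.mem_offDiag.1 hp).2.2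
    rw [← h3, ← h4]
    exact sum_stab2_smul f u a b
  rw [Finset.sum_congr rfl fun g _ => h1 g, sum_pairs, Finset.sum_congr rfl hconst, Finset.sum_const,
    nsmul_eq_mul, Finset.offDiag_card, Finset.card_univ, Nat.mul_sub, mul_one]

end


/-- Let a finite group G act faithfully and transitively on a set with n ≥ 7 points. Then either G is a Frobenius permutation group (Frobenius as a permutation group: transitive, some non-identity element fixes a point, and no non-identity element fixes two points) of order n(n − 1)/a with a ∈ {1, 2}, in which case exactly a|G|/n of its elements are derangements, or the number of derangements is at least 2|G|/n. (Equality does occur: PSL₃(2) acting on the 7 points of the Fano plane has exactly 2|G|/7 derangements.) -/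
theorem result {G Ω : Type*} [Group G] [Finite G] [MulAction G Ω] [FaithfulSMul G Ω] [Fintype Ω] (htr : MulAction.IsPretransitive G Ω) (hn : 7 ≤ Fintype.card Ω) :
    (∃ a : ℕ, (a = 1 ∨ a = 2) ∧ (MulAction.IsPretransitive G Ω ∧ (∃ g : G, g ≠ 1 ∧ ∃ ω : Ω, g • ω = ω) ∧ ∀ g : G, g ≠ 1 → Nat.card (MulAction.fixedBy Ω g) ≤ 1) ∧ a * Nat.card G = Fintype.card Ω * (Fintype.card Ω - 1) ∧ Fintype.card Ω * Nat.card {g : G // ∀ ω : Ω, g • ω ≠ ω} = a * Nat.card G) ∨
    2 * Nat.card G ≤ Fintype.card Ω * Nat.card {g : G // ∀ ω : Ω, g • ω ≠ ω} := by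
  classical
  haveI := htr
  haveI : Fintype G := Fintype.ofFinite G
  haveI : Nontrivial Ω := Fintype.one_lt_card_iff_nontrivial.1 (by omega)
  have hid := CfsgLib.PermDerange.derangement_identity (G := G) (Ω := Ω)
  have hr := CfsgLib.PermDerange.two_le_numOrbitals (G := G) (Ω := Ω)
  have hnn : 0 ≤ ∑ g : G, CfsgLib.PermDerange.excess Ω g :=
    Finset.sum_nonneg fun g _ => CfsgLib.PermDerange.excess_nonneg g
  rw [Nat.card_eq_fintype_card (α := Ω)] at hid
  have hGpos : 0 < (Nat.card G : ℤ) := by exact_mod_cast Nat.card_pos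
  by_cases hr3 : 3 ≤ CfsgLib.PermDerange.numOrbitals G Ω
  · right
    have h3 : (3 : ℤ) ≤ CfsgLib.PermDerange.numOrbitals G Ω := by exact_mod_cast hr3
    have : 2 * (Nat.card G : ℤ) ≤ (Fintype.card Ω : ℤ) * Nat.card {g : G // ∀ ω : Ω, g • ω ≠ ω} := by nlinarith
    exact_mod_cast this
  have hr2 : CfsgLib.PermDerange.numOrbitals G Ω = 2 := by omega
  rw [hr2] at hid
  have h2 : CfsgLib.PermDerange.IsTwoTrans G Ω := fun a b c d hab hcd =>
    CfsgLib.PermDerange.pretransitive_pairs_of_numOrbitals hr2 a b c d hab hcd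
  obtain ⟨a, b, hab⟩ := exists_pair_ne Ω
  have hG : Nat.card G = Fintype.card Ω * (Fintype.card Ω - 1) * Nat.card (CfsgLib.PermDerange.stab2 G a b) :=
    card_eq h2 hr2 hab
  by_cases hs : 2 ≤ Nat.card (CfsgLib.PermDerange.stab2 G a b)
  · right
    have hkey : (Nat.card G : ℝ) ≤ ∑ g : G, ((CfsgLib.PermDerange.excess Ω g : ℤ) : ℝ) := by
      rw [sum_excess_eq h2 hab, hG, Nat.cast_mul]
      refine mul_le_mul_of_nonneg_left ?_ (Nat.cast_nonneg _)
      have hb := CfsgLib.PermDerange.two_mul_le_sum h2 hn hab hs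
      have hpos : ∀ g ∈ Finset.univ.filter (· ∈ CfsgLib.PermDerange.stab2 G a b),
          ((CfsgLib.PermDerange.fixPts Ω g).card : ℝ) ≠ 0 := fun g hg => by
        exact_mod_cast (Finset.card_pos.2 ⟨a, CfsgLib.PermDerange.line_subset_fixPts (Finset.mem_filter.1 hg).2
          (CfsgLib.PermDerange.left_mem_line a b)⟩).ne'
      rw [Finset.sum_congr rfl fun g hg => show (((Fintype.card Ω : ℝ) - (CfsgLib.PermDerange.fixPts Ω g).card) /
          (CfsgLib.PermDerange.fixPts Ω g).card) = (Fintype.card Ω : ℝ) / (CfsgLib.PermDerange.fixPts Ω g).card - 1 by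
            rw [sub_div, div_self (hpos g hg)], Finset.sum_sub_distrib, Finset.sum_const,
        CfsgLib.PermDerange.card_mem_filter, nsmul_eq_mul, mul_one]
      linarith
    have hk' : (Nat.card G : ℤ) ≤ ∑ g : G, CfsgLib.PermDerange.excess Ω g := by exact_mod_cast hkey
    have : 2 * (Nat.card G : ℤ) ≤ (Fintype.card Ω : ℤ) * Nat.card {g : G // ∀ ω : Ω, g • ω ≠ ω} := by push_cast at hid; linarith
    exact_mod_cast this
  left
  have hs1 : Nat.card (CfsgLib.PermDerange.stab2 G a b) = 1 := by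
    have : 0 < Nat.card (CfsgLib.PermDerange.stab2 G a b) := Nat.card_pos
    omega
  rw [hs1, mul_one] at hG
  have hfix : ∀ g : G, g ≠ 1 → Nat.card (MulAction.fixedBy Ω g) ≤ 1 := by
    intro g hg
    by_contra hcon
    haveI : Nontrivial (MulAction.fixedBy Ω g) := Finite.one_lt_card_iff_nontrivial.1 (by omega)
    obtain ⟨⟨c, hc⟩, ⟨d, hd⟩, hcd⟩ := exists_pair_ne (MulAction.fixedBy Ω g)
    have hcd' : c ≠ d := fun h => hcd (Subtype.ext h)
    have h1 := (CfsgLib.PermDerange.card_stab2_eq (G := G) h2 hcd' hab).trans hs1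
    rw [Subgroup.card_eq_one] at h1
    exact hg ((Subgroup.mem_bot).1 (h1 ▸ (⟨hc, hd⟩ : g ∈ CfsgLib.PermDerange.stab2 G c d)))
  have hsum : ∑ g : G, CfsgLib.PermDerange.excess Ω g = 0 := by
    refine Finset.sum_eq_zero fun g _ => ?_
    unfold CfsgLib.PermDerange.excess
    split
    · rfl
    · next h0 =>
      by_cases hg : g = 1
      · subst hg
        simp
      · have := hfix g hg
        rw [show Nat.card (MulAction.fixedBy Ω g) = 1 by omega]
        simp
  refine ⟨1, Or.inl rfl, ⟨htr, ?_, hfix⟩, by rw [one_mul]; exact hG, ?_⟩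
  · obtain ⟨c, -, hc⟩ := Finset.exists_mem_notMem_of_card_lt_card
      (s := ({a, b} : Finset Ω)) (t := Finset.univ) (by
        rw [Finset.card_univ]
        exact lt_of_le_of_lt Finset.card_le_two (by omega))
    simp only [Finset.mem_insert, Finset.mem_singleton, not_or] at hc
    obtain ⟨g, h1, h3⟩ := h2 a b a c hab (Ne.symm hc.1)
    refine ⟨g, ?_, a, h1⟩
    rintro rfl
    rw [one_smul] at h3
    exact hc.2 h3.symm
  · rw [hsum] at hid
    push_cast at hid
    have : (Fintype.card Ω : ℤ) * Nat.card {g : G // ∀ ω : Ω, g • ω ≠ ω} = 1 * (Nat.card G : ℤ) := by linarith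
    exact_mod_cast this

end Cfsg.Agent.S5730
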