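import Cfsg.Statements.S5737
import Cfsg.Agent.Lib.SuzukiBinary.Main
import Cfsg.Agent.Lib.SuzukiMatrix.Bridge

set_option autoImplicit false
open Cfsg

namespace Cfsg.Agent.S5737

/-- Let G = Sz(q) be a Suzuki group, q = 2^(2a+1) with a ≥ 1 (realised inside Sp₄ over the field with q elements), and let H be a proper subgroup of G. Then the action of G on the cosets of H is binary if and only if H is trivial or H is the centre of a Sylow 2-subgroup of G. Here an action is binary (relational complexity 2) when, for every n ≥ 2 and all n-tuples I, J of points, if for every pair of positions some group element carries the corresponding pair of entries of I to those of J, then a single group element carries I to J. -/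
theorem result {F : Type*} [Field F] [Fintype F] (a : ℕ) (ha : 1 ≤ a) (hF : Fintype.card F = 2 ^ (2 * a + 1))
    (H : Subgroup (Cfsg.Lie.Sz F (2 ^ (a + 1)))) (hH : H ≠ ⊤) :
    (∀ (n : ℕ) (I J : Fin n → (Cfsg.Lie.Sz F (2 ^ (a + 1))) ⧸ H), 2 ≤ n →
        (∀ i j : Fin n, i ≠ j → ∃ g : (Cfsg.Lie.Sz F (2 ^ (a + 1))), g • I i = J i ∧ g • I j = J j) → ∃ g : (Cfsg.Lie.Sz F (2 ^ (a + 1))), ∀ i, g • I i = J i) ↔
      (H = ⊥ ∨ ∃ P : Sylow 2 (Cfsg.Lie.Sz F (2 ^ (a + 1))), H = (Subgroup.center (P : Subgroup (Cfsg.Lie.Sz F (2 ^ (a + 1))))).map (P : Subgroup (Cfsg.Lie.Sz F (2 ^ (a + 1)))).subtype) := by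
  classical
  have h : CfsgLib.Suzuki.SzHyp F a := ⟨ha, hF⟩
  set e := CfsgLib.SuzukiMatrix.szEquiv h with he
  set K := H.map e.symm.toMonoidHom with hK
  have hKH : K.map e.toMonoidHom = H := by
    rw [hK, Subgroup.map_map]
    simp
  have hKtop : K ≠ ⊤ := fun c => hH (by
    rw [← hKH, c]
    exact Subgroup.map_top_of_surjective _ e.surjective)
  have htrans : CfsgLib.PSL2Sub.Binary.IsBinary H ↔ CfsgLib.PSL2Sub.Binary.IsBinary K :=
    ⟨fun hb => CfsgLib.SzBinary.isBinary_map_equiv e.symm hb,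
      fun hb => hKH ▸ CfsgLib.SzBinary.isBinary_map_equiv e hb⟩
  refine (htrans.trans (CfsgLib.SzBinary.isBinary_iff h hKtop)).trans ?_
  have center_map : ∀ {A B : Type _} [Group A] [Group B] (f : A ≃* B) (P : Subgroup A),
      ((Subgroup.center P).map P.subtype).map f.toMonoidHom =
        (Subgroup.center (P.map f.toMonoidHom)).map (P.map f.toMonoidHom).subtype := by
    intro A B _ _ f P
    ext g
    rw [CfsgLib.SzBinary.mem_center_map_iff]
    constructor
    · rintro ⟨x, hx, rfl⟩
      rw [SetLike.mem_coe, CfsgLib.SzBinary.mem_center_map_iff] at hx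
      refine ⟨⟨x, hx.1, rfl⟩, ?_⟩
      rintro _ ⟨y, hy, rfl⟩
      rw [← map_mul, ← map_mul, hx.2 y hy]
    · rintro ⟨⟨x, hx, rfl⟩, hc⟩
      refine ⟨x, ?_, rfl⟩
      rw [SetLike.mem_coe, CfsgLib.SzBinary.mem_center_map_iff]
      refine ⟨hx, fun y hy => f.injective ?_⟩
      rw [map_mul, map_mul]
      exact hc (f y) ⟨y, hy, rfl⟩
  refine or_congr ?_ ?_
  · rw [hK, Subgroup.map_eq_bot_iff_of_injective _ e.symm.injective]
  · constructor
    · rintro ⟨P, hP⟩
      refine ⟨P.mapSurjective (f := e.toMonoidHom) e.surjective, ?_⟩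
      rw [← hKH, hP]
      exact center_map e _
    · rintro ⟨P, hP⟩
      refine ⟨P.mapSurjective (f := e.symm.toMonoidHom) e.symm.surjective, ?_⟩
      rw [hK, hP]
      exact center_map e.symm _

end Cfsg.Agent.S5737
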