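import Cfsg.Statements.S5738
import Cfsg.Agent.Lib.PermDerange.Singer

set_option autoImplicit false
open Cfsg

namespace Cfsg.Agent.S5738


/-- Let F ⊆ K be finite fields with |F| = q and [K : F] = n ≥ 2, so |K| = q^n. Regard K as an n-dimensional F-vector space; the multiplications by non-zero elements of K form a cyclic subgroup of GL_F(K) of order q^n − 1 acting regularly on the non-zero vectors (a Singer group). Its normaliser in GL_F(K) has order n·(q^n − 1). -/
theorem result {F K : Type*} [Field F] [Fintype F] [Field K] [Fintype K] [Algebra F K] (n : ℕ) (hn : 2 ≤ n) (hdim : Module.finrank F K = n) :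
    Nat.card (Subgroup.normalizer (((Units.map ((Algebra.lmul F K : K →ₐ[F] Module.End F K) : K →* Module.End F K)).range : Subgroup (Module.End F K)ˣ) : Set (Module.End F K)ˣ)) = n * (Fintype.card K - 1) := by
  classical
  change Nat.card (Subgroup.normalizer (((CfsgLib.Singer.singerHom F K).range : Subgroup (Module.End F K)ˣ) : Set (Module.End F K)ˣ)) = n * (Fintype.card K - 1)
  haveI : FiniteDimensional F K := Module.Finite.of_finite
  set M : Subgroup (Module.End F K)ˣ := (CfsgLib.Singer.singerHom F K).range with hM
  have hmem : ∀ (c : Kˣ) (φ : K ≃ₐ[F] K), CfsgLib.Singer.semiUnit c φ ∈ Subgroup.normalizer (M : Set (Module.End F K)ˣ) := by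
    intro c φ
    have key : ∀ u : Kˣ, CfsgLib.Singer.semiUnit c φ * CfsgLib.Singer.singerHom F K u * (CfsgLib.Singer.semiUnit c φ)⁻¹ =
        CfsgLib.Singer.singerHom F K (Units.map (φ : K →* K) u) := by
      intro u
      rw [mul_inv_eq_iff_eq_mul]
      refine Units.ext (LinearMap.ext fun z => ?_)
      simp only [Units.val_mul, Module.End.mul_apply, CfsgLib.Singer.semiUnit_apply, CfsgLib.Singer.singerHom_apply, map_mul, Units.coe_map, MonoidHom.coe_coe]
      ring
    rw [Subgroup.mem_normalizer_iff]
    intro h
    constructor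
    · rintro ⟨u, rfl⟩
      exact ⟨_, (key u).symm⟩
    · rintro ⟨v, hv⟩
      refine ⟨Units.map (φ.symm : K →* K) v, ?_⟩
      apply mul_left_cancel (a := CfsgLib.Singer.semiUnit c φ)
      apply mul_right_cancel (b := (CfsgLib.Singer.semiUnit c φ)⁻¹)
      rw [key, ← hv]
      exact congrArg _ (Units.ext (φ.apply_symm_apply _))
  let f : Kˣ × (K ≃ₐ[F] K) → Subgroup.normalizer (M : Set (Module.End F K)ˣ) := fun x => ⟨CfsgLib.Singer.semiUnit x.1 x.2, hmem x.1 x.2⟩
  have hf : Function.Bijective f := by
    constructor
    · rintro ⟨c, φ⟩ ⟨d, ψ⟩ h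
      have h' : ∀ z, (c : K) * φ z = (d : K) * ψ z := fun z => by
        have := congrArg (fun u : Subgroup.normalizer (M : Set (Module.End F K)ˣ) => ((u : (Module.End F K)ˣ) : Module.End F K) z) h
        exact this
      have hcd : (c : K) = d := by simpa using h' 1
      refine Prod.ext (Units.ext hcd) (AlgEquiv.ext fun z => ?_)
      have := h' z
      rw [hcd] at this
      exact mul_left_cancel₀ d.ne_zero this
    · rintro ⟨g, hg⟩
      have hex : ∀ x : K, ∃ y : K, ∀ z, (g : Module.End F K) (x * z) = y * (g : Module.End F K) z := by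
        intro x
        by_cases hx : x = 0
        · exact ⟨0, fun z => by simp [hx]⟩
        · obtain ⟨v, hv⟩ := (Subgroup.mem_normalizer_iff.1 hg (CfsgLib.Singer.singerHom F K (Units.mk0 x hx))).1 ⟨_, rfl⟩
          refine ⟨v, fun z => ?_⟩
          rw [eq_mul_inv_iff_mul_eq] at hv
          exact (LinearMap.congr_fun (congrArg Units.val hv) z).symm
      choose φ hφ using hex
      have hg0 : (g : Module.End F K) 1 ≠ 0 := fun h => by
        have := congrArg ((g⁻¹ : (Module.End F K)ˣ).val) h
        rw [CfsgLib.Singer.inv_val_apply, map_zero] at this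
        exact one_ne_zero this
      have hg1 : ∀ x, (g : Module.End F K) x = φ x * (g : Module.End F K) 1 := fun x => by simpa using hφ x 1
      let ψ : K →ₐ[F] K :=
        AlgHom.ofLinearMap
          { toFun := φ
            map_add' := fun a b => mul_right_cancel₀ hg0 (by rw [add_mul, ← hg1, ← hg1, ← hg1, map_add])
            map_smul' := fun c a => mul_right_cancel₀ hg0 (by rw [RingHom.id_apply, smul_mul_assoc, ← hg1, ← hg1, map_smul]) }
          (mul_right_cancel₀ hg0 ((hg1 1).symm.trans (one_mul _).symm))
          (fun a b => mul_right_cancel₀ hg0 (by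
            change φ (a * b) * _ = φ a * φ b * _
            rw [← hg1, mul_assoc, ← hg1, hφ]))
      refine ⟨⟨Units.mk0 _ hg0, AlgEquiv.ofBijective ψ (Finite.injective_iff_bijective.1 ψ.injective)⟩, ?_⟩
      refine Subtype.ext (Units.ext (LinearMap.ext fun z => ?_))
      change (g : Module.End F K) 1 * φ z = (g : Module.End F K) z
      rw [hg1 z, mul_comm]
  rw [← Nat.card_eq_of_bijective f hf, Nat.card_prod, Nat.card_units, IsGalois.card_aut_eq_finrank, hdim, Nat.card_eq_fintype_card, mul_comm]

end Cfsg.Agent.S5738
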