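import Cfsg.Statements.S5739
import Cfsg.Agent.Lib.PermDerange.Singer

set_option autoImplicit false
open Cfsg

namespace Cfsg.Agent.S5739


/-- Let F ⊆ K be finite fields with |F| = q and [K : F] = n ≥ 2, and let M ≤ GL_F(K) be the Singer group of multiplications by non-zero elements of K. If g ∈ GL_F(K) does not normalise M, then the order of M ∩ gMg⁻¹ divides q^r − 1 for some proper divisor r of n. In particular, when n is prime, that order divides q − 1. -/
theorem result {F K : Type*} [Field F] [Fintype F] [Field K] [Fintype K] [Algebra F K] (n : ℕ) (hn : 2 ≤ n) (hdim : Module.finrank F K = n)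
    (g : (Module.End F K)ˣ) (hg : ((Units.map ((Algebra.lmul F K : K →ₐ[F] Module.End F K) : K →* Module.End F K)).range).map (MulAut.conj g).toMonoidHom ≠ (Units.map ((Algebra.lmul F K : K →ₐ[F] Module.End F K) : K →* Module.End F K)).range) :
    ∃ r : ℕ, 1 ≤ r ∧ r ∣ n ∧ r < n ∧ Nat.card ↥(((Units.map ((Algebra.lmul F K : K →ₐ[F] Module.End F K) : K →* Module.End F K)).range).map (MulAut.conj g).toMonoidHom ⊓ (Units.map ((Algebra.lmul F K : K →ₐ[F] Module.End F K) : K →* Module.End F K)).range) ∣ Fintype.card F ^ r - 1 := by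
  classical
  change ((CfsgLib.Singer.singerHom F K).range).map (MulAut.conj g).toMonoidHom ≠ (CfsgLib.Singer.singerHom F K).range at hg
  change ∃ r : ℕ, 1 ≤ r ∧ r ∣ n ∧ r < n ∧ Nat.card ↥(((CfsgLib.Singer.singerHom F K).range).map (MulAut.conj g).toMonoidHom ⊓ (CfsgLib.Singer.singerHom F K).range) ∣ _
  haveI : FiniteDimensional F K := Module.Finite.of_finite
  haveI : Finite (Module.End F K) := Finite.of_injective (fun f => (f : K → K)) DFunLike.coe_injective
  set L := CfsgLib.Singer.conjField g with hL
  have hmul : Module.finrank F L * Module.finrank L K = n := by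
    rw [Module.finrank_mul_finrank, hdim]
  refine ⟨Module.finrank F L, Module.finrank_pos, ⟨_, hmul.symm⟩, ?_, ?_⟩
  · refine lt_of_le_of_ne (Nat.le_of_dvd (by omega) ⟨_, hmul.symm⟩) fun heq => hg ?_
    have htop : L = ⊤ := IntermediateField.eq_of_le_of_finrank_eq le_top (by rw [heq, IntermediateField.finrank_top', hdim])
    refine (Subgroup.eq_of_le_of_card_ge ?_ ?_).symm
    · rintro _ ⟨x, rfl⟩
      rw [CfsgLib.Singer.singerHom_mem_conj_iff, ← hL, htop]
      trivial
    · exact (Subgroup.card_map_of_injective (MulEquiv.injective _)).le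
  · have hbij : Nat.card ↥(((CfsgLib.Singer.singerHom F K).range).map (MulAut.conj g).toMonoidHom ⊓ (CfsgLib.Singer.singerHom F K).range) = Nat.card Lˣ := by
      let f : Lˣ → ↥(((CfsgLib.Singer.singerHom F K).range).map (MulAut.conj g).toMonoidHom ⊓ (CfsgLib.Singer.singerHom F K).range) := fun u =>
        ⟨CfsgLib.Singer.singerHom F K (Units.map (L.val : L →* K) u),
          (CfsgLib.Singer.singerHom_mem_conj_iff g _).2 (u : L).2, ⟨_, rfl⟩⟩
      refine (Nat.card_eq_of_bijective f ⟨fun a b h => ?_, ?_⟩).symm
      · have h' := CfsgLib.Singer.singerHom_injective (congrArg Subtype.val h)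
        exact Units.ext (Subtype.ext (congrArg Units.val h'))
      · rintro ⟨_, h1, x, rfl⟩
        have hx := (CfsgLib.Singer.singerHom_mem_conj_iff g x).1 h1
        refine ⟨Units.mk0 ⟨(x : K), hx⟩ (fun h => x.ne_zero (congrArg Subtype.val h)), ?_⟩
        exact Subtype.ext (congrArg (CfsgLib.Singer.singerHom F K) (Units.ext rfl))
    rw [hbij, Nat.card_units, Module.natCard_eq_pow_finrank (K := F) (V := L), Nat.card_eq_fintype_card]

end Cfsg.Agent.S5739
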