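import Cfsg.Statements.S5746
import Cfsg.Agent.Lib.G2FourJTwo.Main
import Cfsg.Agent.Lib.Sporadic.SuzG2
import Cfsg.Agent.Lib.Chevalley.FieldMap

set_option autoImplicit false
open Cfsg

namespace Cfsg.Agent.S5746

/-- Transport along an isomorphism. -/
theorem transport {A B : Type*} [Group A] [Group B] (e : A ≃* B)
    (h : ∃ H : Subgroup A, IsCoatom H ∧ Cfsg.Spor.IsoJ2 H ∧
      ∀ x : A, x ∉ H → IsCoatom ((H ⊓ H.map (MulAut.conj x).toMonoidHom).subgroupOf H)) :
    ∃ H : Subgroup B, IsCoatom H ∧ Cfsg.Spor.IsoJ2 H ∧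
      ∀ x : B, x ∉ H → IsCoatom ((H ⊓ H.map (MulAut.conj x).toMonoidHom).subgroupOf H) := by
  obtain ⟨H, h1, ⟨h2⟩, h3⟩ := h
  refine ⟨H.map (e : A →* B), ?_, ⟨(e.subgroupMap H).symm.trans h2⟩, fun x hx => ?_⟩
  · exact ((e.mapSubgroup).isCoatom_iff H).2 h1
  · obtain ⟨a, rfl⟩ := e.surjective x
    have ha : a ∉ H := fun h => hx ⟨a, h, rfl⟩
    have hcomm : (H.map (e : A →* B)).map (MulAut.conj (e a)).toMonoidHom =
        (H.map (MulAut.conj a).toMonoidHom).map (e : A →* B) := by
      simp only [Subgroup.map_map]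
      congr 1
      ext z
      simp
    have hinj : Function.Injective (e : A →* B) := e.injective
    have hset : (H.map (e : A →* B) ⊓ (H.map (e : A →* B)).map (MulAut.conj (e a)).toMonoidHom).subgroupOf
        (H.map (e : A →* B)) = ((H ⊓ H.map (MulAut.conj a).toMonoidHom).subgroupOf H).map
          ((e.subgroupMap H : H ≃* H.map (e : A →* B)) : H →* H.map (e : A →* B)) := by
      rw [hcomm, ← Subgroup.map_inf _ _ _ hinj]
      refine Subgroup.map_injective (H.map (e : A →* B)).subtype_injective ?_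
      rw [Subgroup.map_subgroupOf_eq_of_le (Subgroup.map_mono inf_le_left), Subgroup.map_map]
      have hc : (H.map (e : A →* B)).subtype.comp ((e.subgroupMap H : H ≃* H.map (e : A →* B)) : H →* H.map (e : A →* B)) =
          (e : A →* B).comp H.subtype := MonoidHom.ext fun z => rfl
      rw [hc, ← Subgroup.map_map, Subgroup.map_subgroupOf_eq_of_le inf_le_left]
    rw [hset]
    exact (((e.subgroupMap H).mapSubgroup).isCoatom_iff _).2 (h3 a ha)

/-- The Chevalley group G₂(4) (over the field with 4 elements) has a maximal subgroup H isomorphic to the Hall–Janko group J₂ such that for every x outside H the intersection H ∩ xHx⁻¹ is a maximal subgroup of H; that is, the action of G₂(4) on the cosets of H is extremely primitive. -/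
theorem result {F : Type*} [Field F] [Fintype F] (hF : Fintype.card F = 4) :
    ∃ H : Subgroup (Cfsg.Lie.chevG2.group F), IsCoatom H ∧ Cfsg.Spor.IsoJ2 H ∧
      ∀ x : Cfsg.Lie.chevG2.group F, x ∉ H → IsCoatom ((H ⊓ H.map (MulAut.conj x).toMonoidHom).subgroupOf H) := by
  obtain ⟨e⟩ := CfsgLib.SuzG2.equiv_G2
  let f : CfsgLib.Recog.GF4.K4 ≃+* F :=
    FiniteField.ringEquivOfCardEq (CfsgLib.Recog.GF4.card_K4.trans hF.symm)
  exact transport (e.trans (CfsgLib.Chevalley.groupFieldEquiv Cfsg.Lie.chevG2 f))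
    CfsgLib.G2FourJTwo.extremely_primitive

end Cfsg.Agent.S5746
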