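import Cfsg.Statements.S5747

set_option autoImplicit false
open Cfsg

namespace Cfsg.Agent.S5747

section

variable {G Ω : Type*} [Group G] [MulAction G Ω]

/-- An irredundant base. -/
def IrrBase (G : Type*) {Ω : Type*} [Group G] [MulAction G Ω] {t : ℕ} (f : Fin t → Ω) : Prop :=
  (∀ g : G, (∀ i : Fin t, g • f i = f i) → g = 1) ∧
    ∀ i : Fin t, ∃ g : G, (∀ j : Fin t, j < i → g • f j = f j) ∧ g • f i ≠ f i

/-- Reorderability of irredundant bases. -/
def Reorderable (G Ω : Type*) [Group G] [MulAction G Ω] : Prop :=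
  ∀ (t : ℕ) (f : Fin t → Ω) (σ : Equiv.Perm (Fin t)), IrrBase G f → IrrBase G (f ∘ σ)

/-- A minimal base. -/
def MinBase (G : Type*) {Ω : Type*} [Group G] [MulAction G Ω] (S : Finset Ω) : Prop :=
  (∀ g : G, (∀ x ∈ S, g • x = x) → g = 1) ∧
    ∀ x ∈ S, ∃ g : G, (∀ y ∈ S, y ≠ x → g • y = y) ∧ g • x ≠ x

theorem reorder_of_same_size {t : ℕ} {f : Fin t → Ω}
    (h : ∀ (t' : ℕ) (f' : Fin t' → Ω), IrrBase G f' → t' = t) (σ : Equiv.Perm (Fin t))
    (hf : IrrBase G f) : IrrBase G (f ∘ σ) := by
  classical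
  have hbase : ∀ g : G, (∀ i : Fin t, g • (f ∘ σ) i = (f ∘ σ) i) → g = 1 := fun g hg =>
    hf.1 g fun i => by simpa using hg (σ.symm i)
  refine ⟨hbase, ?_⟩
  let S : Finset (Fin t) := Finset.univ.filter fun i =>
    ∃ g : G, (∀ j : Fin t, j < i → g • (f ∘ σ) j = (f ∘ σ) j) ∧ g • (f ∘ σ) i ≠ (f ∘ σ) i
  let e := S.orderEmbOfFin rfl
  have he : IrrBase G ((f ∘ σ) ∘ e) := by
    constructor
    · intro g hg
      apply hbase g
      intro i
      induction hi : i.val using Nat.strong_induction_on generalizing i with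
      | _ k ih =>
        by_cases hiS : i ∈ S
        · obtain ⟨a, ha⟩ : i ∈ Set.range e := by
            rw [Finset.range_orderEmbOfFin]; exact hiS
          rw [← ha]; exact hg a
        · by_contra hmove
          exact hiS (Finset.mem_filter.2 ⟨Finset.mem_univ _, g, fun j hj => ih j.val (hi ▸ hj) j rfl, hmove⟩)
    · intro a
      obtain ⟨-, g, h1, h2⟩ := Finset.mem_filter.1 (S.orderEmbOfFin_mem rfl a)
      exact ⟨g, fun b hb => h1 _ (e.strictMono hb), h2⟩
  have hS : S = Finset.univ := Finset.eq_univ_of_card _ (by rw [Fintype.card_fin]; exact h _ _ he)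
  intro i
  exact (Finset.mem_filter.1 (hS ▸ Finset.mem_univ i : i ∈ S)).2

theorem good_image [DecidableEq Ω] (h : Reorderable G Ω) {t : ℕ} {f : Fin t → Ω} (hf : IrrBase G f) :
    MinBase G (Finset.univ.image f) ∧ (Finset.univ.image f).card = t := by
  have hmin : ∀ i : Fin t, ∃ g : G, (∀ j : Fin t, j ≠ i → g • f j = f j) ∧ g • f i ≠ f i := by
    intro i
    obtain ⟨m, rfl⟩ : ∃ m, t = m + 1 := ⟨t - 1, by have := i.isLt; omega⟩
    obtain ⟨g, hg1, hg2⟩ := (h _ f (Equiv.swap i (Fin.last m)) hf).2 (Fin.last m)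
    refine ⟨g, fun j hj => ?_, ?_⟩
    · have hj' : Equiv.swap i (Fin.last m) j < Fin.last m := by
        refine lt_of_le_of_ne (Fin.le_last _) fun hc => hj ?_
        have := congrArg (Equiv.swap i (Fin.last m)) hc
        rwa [Equiv.swap_apply_self, Equiv.swap_apply_right] at this
      simpa using hg1 _ hj'
    · simpa using hg2
  have hinj : Function.Injective f := by
    intro i j hij
    by_contra hne
    obtain ⟨g, hg1, hg2⟩ := hmin i
    exact hg2 (hij ▸ hg1 j (Ne.symm hne))
  refine ⟨⟨fun g hg => hf.1 g fun i => hg _ (Finset.mem_image_of_mem f (Finset.mem_univ i)), ?_⟩,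
    (Finset.card_image_of_injective _ hinj).trans (Finset.card_fin t)⟩
  intro x hx
  obtain ⟨i, -, rfl⟩ := Finset.mem_image.1 hx
  obtain ⟨g, hg1, hg2⟩ := hmin i
  refine ⟨g, fun y hy hyx => ?_, hg2⟩
  obtain ⟨j, -, rfl⟩ := Finset.mem_image.1 hy
  exact hg1 j fun hji => hyx (hji ▸ rfl)

theorem exchange [DecidableEq Ω] (h : Reorderable G Ω) {B B' : Finset Ω} (hB : MinBase G B)
    (hB' : MinBase G B') {x : Ω} (hx : x ∈ B) :
    ∃ y ∈ B', y ∉ B.erase x ∧ MinBase G (insert y (B.erase x)) := by
  obtain ⟨g0, hg0, hg0x⟩ := hB.2 x hx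
  obtain ⟨y, hy, hyg⟩ : ∃ y ∈ B', g0 • y ≠ y := by
    by_contra hcon
    push Not at hcon
    exact hg0x (by rw [hB'.1 g0 hcon, one_smul])
  have hfix : ∀ z ∈ B.erase x, g0 • z = z := fun z hz =>
    hg0 z (Finset.mem_of_mem_erase hz) (Finset.ne_of_mem_erase hz)
  have hyn : y ∉ B.erase x := fun hc => hyg (hfix y hc)
  let e := (B.erase x).equivFin.symm
  let f : Fin ((B.erase x).card + 1) → Ω := Fin.snoc (fun i => (e i : Ω)) y
  have hmem : ∀ i : Fin (B.erase x).card, (e i : Ω) ∈ B ∧ (e i : Ω) ≠ x := fun i =>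
    ⟨Finset.mem_of_mem_erase (e i).2, Finset.ne_of_mem_erase (e i).2⟩
  have hsurj : ∀ z ∈ B.erase x, ∃ i, (e i : Ω) = z := fun z hz =>
    ⟨(B.erase x).equivFin ⟨z, hz⟩, by simp [e]⟩
  have hpre : ∀ i, ∃ g : G, (∀ j, j < i → g • f j = f j) ∧ g • f i ≠ f i := by
    intro i
    induction i using Fin.lastCases with
    | last =>
      refine ⟨g0, fun j hj => ?_, by simpa [f] using hyg⟩
      induction j using Fin.lastCases with
      | last => exact absurd hj (lt_irrefl _)
      | cast j => simpa [f] using hfix _ (e j).2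
    | cast i =>
      obtain ⟨g, hg, hgi⟩ := hB.2 _ (hmem i).1
      refine ⟨g, fun j hj => ?_, by simpa [f] using hgi⟩
      induction j using Fin.lastCases with
      | last => exact absurd hj (not_lt.2 (Fin.le_last _))
      | cast j =>
        have hne : (e j : Ω) ≠ (e i : Ω) := fun hc =>
          (Fin.castSucc_lt_castSucc_iff.1 hj).ne (e.injective (Subtype.ext hc))
        simpa [f] using hg _ (hmem j).1 hne
  have hbase : ∀ g : G, (∀ i, g • f i = f i) → g = 1 := by
    intro g hg
    by_contra hg1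
    have hgx : g • x ≠ x := fun hc => hg1 <| hB.1 g fun z hz => by
      by_cases hzx : z = x
      · rw [hzx]; exact hc
      · obtain ⟨i, hi⟩ := hsurj z (Finset.mem_erase.2 ⟨hzx, hz⟩)
        simpa [f, hi] using hg (Fin.castSucc i)
    let f2 : Fin ((B.erase x).card + 2) → Ω := Fin.snoc f x
    have hf2 : IrrBase G f2 := by
      constructor
      · intro a ha
        apply hB.1 a
        intro z hz
        by_cases hzx : z = x
        · simpa [f2, hzx] using ha (Fin.last _)
        · obtain ⟨i, hi⟩ := hsurj z (Finset.mem_erase.2 ⟨hzx, hz⟩)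
          simpa [f2, f, hi] using ha (Fin.castSucc (Fin.castSucc i))
      · intro i
        induction i using Fin.lastCases with
        | last =>
          refine ⟨g, fun j hj => ?_, by simpa [f2] using hgx⟩
          induction j using Fin.lastCases with
          | last => exact absurd hj (lt_irrefl _)
          | cast j => simpa [f2] using hg j
        | cast i =>
          obtain ⟨a, ha, hai⟩ := hpre i
          refine ⟨a, fun j hj => ?_, by simpa [f2] using hai⟩
          induction j using Fin.lastCases with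
          | last => exact absurd hj (not_lt.2 (Fin.le_last _))
          | cast j => simpa [f2] using ha j (Fin.castSucc_lt_castSucc_iff.1 hj)
    have hgood := (good_image h hf2).1
    obtain ⟨a, ha, hay⟩ := hgood.2 y (Finset.mem_image.2
      ⟨Fin.castSucc (Fin.last _), Finset.mem_univ _, by simp [f2, f]⟩)
    refine hay ?_
    rw [hB.1 a fun z hz => ?_, one_smul]
    by_cases hzx : z = x
    · rw [hzx]
      refine ha x (Finset.mem_image.2 ⟨Fin.last _, Finset.mem_univ _, by simp [f2]⟩) ?_
      rintro rfl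
      exact hgx (by simpa [f] using hg (Fin.last _))
    · obtain ⟨i, hi⟩ := hsurj z (Finset.mem_erase.2 ⟨hzx, hz⟩)
      refine ha z (Finset.mem_image.2 ⟨Fin.castSucc (Fin.castSucc i), Finset.mem_univ _, by simp [f2, f, hi]⟩) ?_
      rintro rfl
      exact hyn (Finset.mem_erase.2 ⟨hzx, hz⟩)
  refine ⟨y, hy, hyn, ?_⟩
  have himg : insert y (B.erase x) = Finset.univ.image f := by
    ext z
    simp only [Finset.mem_insert, Finset.mem_image, Finset.mem_univ, true_and]
    constructor
    · rintro (rfl | hz)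
      · exact ⟨Fin.last _, by simp [f]⟩
      · obtain ⟨i, hi⟩ := hsurj z hz
        exact ⟨Fin.castSucc i, by simp [f, hi]⟩
    · rintro ⟨i, rfl⟩
      induction i using Fin.lastCases with
      | last => exact Or.inl (by simp [f])
      | cast i => exact Or.inr (by simpa [f] using (e i).2)
  rw [himg]
  exact (good_image h ⟨hbase, hpre⟩).1

theorem good_card_eq (h : Reorderable G Ω) (B B' : Finset Ω) (hB : MinBase G B) (hB' : MinBase G B') :
    B.card = B'.card := by
  classical
  induction hn : (B \ B').card using Nat.strong_induction_on generalizing B with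
  | _ n ih =>
    by_cases hsub : B ⊆ B'
    · refine congrArg _ (Finset.Subset.antisymm hsub fun z hz => ?_)
      by_contra hzB
      obtain ⟨g, hg, hgz⟩ := hB'.2 z hz
      exact hgz (by rw [hB.1 g fun w hw => hg w (hsub hw) fun hwz => hzB (hwz ▸ hw), one_smul])
    · obtain ⟨x, hx, hxn⟩ := Finset.not_subset.1 hsub
      obtain ⟨y, hy, hyn, hnew⟩ := exchange h hB hB' hx
      have hlt : (insert y (B.erase x) \ B').card < n := by
        rw [← hn, Finset.insert_sdiff_of_mem _ hy]
        refine Finset.card_lt_card ⟨Finset.sdiff_subset_sdiff (Finset.erase_subset _ _) le_rfl, fun hc => ?_⟩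
        exact (Finset.mem_erase.1 (Finset.mem_sdiff.1 (hc (Finset.mem_sdiff.2 ⟨hx, hxn⟩))).1).1 rfl
      have := ih _ hlt _ hnew rfl
      rw [Finset.card_insert_of_notMem hyn, Finset.card_erase_of_mem hx] at this
      have := Finset.card_pos.2 ⟨x, hx⟩
      omega

end


/-- Let a finite group G act on a finite set Ω. An irredundant base is a sequence of points ω₁, …, ω_t whose pointwise stabiliser is trivial and in which each ω_i is moved by some element fixing ω₁, …, ω_{i−1}. Then all irredundant bases have the same length if and only if every reordering of an irredundant base is again an irredundant base. -/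
theorem result {G Ω : Type*} [Group G] [Finite G] [MulAction G Ω] [Fintype Ω] :
    (∀ (t t' : ℕ) (f : Fin t → Ω) (f' : Fin t' → Ω), ((∀ g : G, (∀ i : Fin t, g • f i = f i) → g = 1) ∧ ∀ i : Fin t, ∃ g : G, (∀ j : Fin t, j < i → g • f j = f j) ∧ g • f i ≠ f i) → ((∀ g : G, (∀ i : Fin t', g • f' i = f' i) → g = 1) ∧ ∀ i : Fin t', ∃ g : G, (∀ j : Fin t', j < i → g • f' j = f' j) ∧ g • f' i ≠ f' i) → t = t') ↔
    (∀ (t : ℕ) (f : Fin t → Ω) (σ : Equiv.Perm (Fin t)), ((∀ g : G, (∀ i : Fin t, g • f i = f i) → g = 1) ∧ ∀ i : Fin t, ∃ g : G, (∀ j : Fin t, j < i → g • f j = f j) ∧ g • f i ≠ f i) → ((∀ g : G, (∀ i : Fin t, g • (f ∘ σ) i = (f ∘ σ) i) → g = 1) ∧ ∀ i : Fin t, ∃ g : G, (∀ j : Fin t, j < i → g • (f ∘ σ) j = (f ∘ σ) j) ∧ g • (f ∘ σ) i ≠ (f ∘ σ) i)) := by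
  constructor
  · intro h t f σ hf
    exact reorder_of_same_size (fun t' f' hf' => (h t t' f f' hf hf').symm) σ hf
  · intro h t t' f f' hf hf'
    classical
    have h1 := good_image h hf
    have h2 := good_image h hf'
    rw [← h1.2, ← h2.2]
    exact good_card_eq h _ _ h1.1 h2.1

end Cfsg.Agent.S5747
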