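import Cfsg.Statements.S5752
import Cfsg.Agent.Lib.PermDerange.ThompsonWielandt

set_option autoImplicit false
open Cfsg

namespace Cfsg.Agent.S5752

/-- A form of the Thompson–Wielandt Theorem on primitive permutation groups. Let G be a finite group and M₁, M₂ two distinct conjugate maximal subgroups of G with trivial core in G; define two descending sequences of subgroups by A₀ = M₁, B₀ = M₂ and, for every i, A_{i+1} = the core in M₁ of A_i ∩ B_i and B_{i+1} = the core in M₂ of A_i ∩ B_i (the core in M of a subgroup Y ≤ M is the largest normal subgroup of M contained in Y). If A₂ and B₂ are both non-trivial, then for some prime p the subgroup generated by A₂ and B₂ is a p-group, and for each j the generalized Fitting subgroups of M_j and of its first core (A₁, resp. B₁) are their largest normal p-subgroups. -/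
theorem result {G : Type*} [Group G] [Finite G] (M₁ M₂ : Subgroup G) (hmax : IsCoatom M₁) (g : G)
    (hconj : M₂ = M₁.map (MulAut.conj g).toMonoidHom) (hne : M₁ ≠ M₂) (hcore : M₁.normalCore = ⊥)
    (A B : ℕ → Subgroup G) (hA0 : A 0 = M₁) (hB0 : B 0 = M₂)
    (hA : ∀ i, A (i + 1) = ((A i ⊓ B i).subgroupOf M₁).normalCore.map M₁.subtype)
    (hB : ∀ i, B (i + 1) = ((A i ⊓ B i).subgroupOf M₂).normalCore.map M₂.subtype) (hA2 : A 2 ≠ ⊥) (hB2 : B 2 ≠ ⊥) :
    ∃ p : ℕ, p.Prime ∧ IsPGroup p ↥(A 2 ⊔ B 2) ∧
      Cfsg.generalizedFittingSubgroup ↥M₁ = Cfsg.pCore p ↥M₁ ∧ Cfsg.generalizedFittingSubgroup ↥(A 1) = Cfsg.pCore p ↥(A 1) ∧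
      Cfsg.generalizedFittingSubgroup ↥M₂ = Cfsg.pCore p ↥M₂ ∧ Cfsg.generalizedFittingSubgroup ↥(B 1) = Cfsg.pCore p ↥(B 1) := by
  subst hconj
  set M₂ := M₁.map (MulAut.conj g).toMonoidHom with hM₂
  have hcores : M₂.normalCore = ⊥ := by
    rw [eq_bot_iff]
    intro x hx
    have h1 : M₂.normalCore ≤ M₁ := by
      intro y hy
      obtain ⟨z, hz, hzy⟩ := Subgroup.normalCore_le M₂ (Subgroup.normalCore_normal M₂ |>.conj_mem y hy g)
      have : z = y := (MulAut.conj g).injective (by simpa using hzy)
      exact this ▸ hz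
    have := Subgroup.normal_le_normalCore.2 h1 hx
    rwa [hcore] at this
  have hmax2 : IsCoatom M₂ := by
    have h := (OrderIso.isCoatom_iff (MulAut.conj g).mapSubgroup M₁).2 hmax
    exact h
  have hleA : ∀ i, A (i + 1) ≤ A i ⊓ B i := fun i => by
    rw [hA i]
    exact (Subgroup.map_mono (Subgroup.normalCore_le _)).trans
      ((Subgroup.subgroupOf_map_subtype _ M₁).le.trans inf_le_left)
  have hleB : ∀ i, B (i + 1) ≤ A i ⊓ B i := fun i => by
    rw [hB i]
    exact (Subgroup.map_mono (Subgroup.normalCore_le _)).trans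
      ((Subgroup.subgroupOf_map_subtype _ M₂).le.trans inf_le_left)
  have key : ∀ (H Y : Subgroup G), H ≤ Subgroup.normalizer (((Y.subgroupOf H).normalCore.map H.subtype : Subgroup G) : Set G) ∧
      ∀ X : Subgroup G, X ≤ H → X ≤ Y → H ≤ Subgroup.normalizer (X : Set G) → X ≤ (Y.subgroupOf H).normalCore.map H.subtype := by
    intro H Y
    haveI := Subgroup.normalCore_normal (Y.subgroupOf H)
    refine ⟨CfsgLib.TW.Setup.normalizes_map_char _, fun X hXH hXY hn => ?_⟩
    rw [← Subgroup.map_subgroupOf_eq_of_le hXH]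
    refine Subgroup.map_mono ?_
    haveI := (Subgroup.normal_subgroupOf_iff_le_normalizer hXH).2 hn
    exact Subgroup.normal_le_normalCore.2 fun z hz => hXY hz
  have S : CfsgLib.TW.Setup M₁ M₂ (A 1) (B 1) (A 2) (B 2) :=
    { maxM := hmax
      maxN := hmax2
      ne := hne
      coreM := hcore
      coreN := hcores
      iso := ⟨M₁.equivMapOfInjective _ (MulAut.conj g).injective⟩
      leA1 := (hleA 0).trans (by rw [hA0, hB0])
      leB1 := (hleB 0).trans (by rw [hA0, hB0])
      leA2 := hleA 1
      leB2 := hleB 1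
      normA1 := by rw [hA 0]; exact (key _ _).1
      normB1 := by rw [hB 0]; exact (key _ _).1
      normA2 := by rw [hA 1]; exact (key _ _).1
      normB2 := by rw [hB 1]; exact (key _ _).1
      univA1 := fun X hX hn => by
        rw [hA 0]
        exact (key _ _).2 X (hX.trans inf_le_left) (by rw [hA0, hB0]; exact hX) hn
      univB1 := fun X hX hn => by
        rw [hB 0]
        exact (key _ _).2 X (hX.trans inf_le_right) (by rw [hA0, hB0]; exact hX) hn
      univA2 := fun X hX hn => by
        rw [hA 1]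
        refine (key _ _).2 X ((hX.trans inf_le_left).trans ?_) hX hn
        exact ((hleA 0).trans inf_le_left).trans hA0.le
      univB2 := fun X hX hn => by
        rw [hB 1]
        refine (key _ _).2 X ((hX.trans inf_le_right).trans ?_) hX hn
        exact ((hleB 0).trans inf_le_right).trans hB0.le
      neA2 := hA2
      neB2 := hB2 }
  obtain ⟨p, hp, hpA⟩ := S.exists_prime_A2
  haveI := Fact.mk hp
  have hpB := S.prime_B2 hpA
  refine ⟨p, hp, ?_, S.genFitting_M hpA, S.genFitting_A1 hpA, S.symm.genFitting_M hpB, S.symm.genFitting_A1 hpB⟩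
  exact (S.isPGroup_A2 hpA).to_sup_of_normal_left' (S.symm.isPGroup_A2 hpB) (S.leM.2.2.2.trans S.normA2)

end Cfsg.Agent.S5752
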