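import Cfsg.Statements.S5753
import Cfsg.Agent.Lib.BinaryAffine.Field

set_option autoImplicit false
set_option linter.style.haveILetI false
open Cfsg

namespace Cfsg.Agent.S5753

/-- The binary primitive permutation groups of affine type (the known proof uses the classification of the finite simple groups). Let a finite group G act faithfully and primitively on a finite set Ω, with a non-trivial abelian normal subgroup, and suppose the action is binary: for every n ≥ 2 and all n-tuples I, J of points, if for every pair of positions some element of G carries the corresponding pair of entries of I to those of J, then a single element carries I to J. Then either Ω has a prime number of points and every point stabilizer has order at most 2, or Ω can be identified with a field E that is a quadratic extension of a subfield F in such a way that the permutations induced by G are exactly the maps x ↦ a·φ(x) + b with a ∈ E of norm 1 over F, φ an automorphism of E over F and b ∈ E (the affine group of the anisotropic plane orthogonal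 group). -/
theorem result {G Ω : Type*} [Group G] [Finite G] [MulAction G Ω] [FaithfulSMul G Ω] [Fintype Ω]
    (hprim : MulAction.IsPreprimitive G Ω)
    (haff : ∃ N : Subgroup G, N.Normal ∧ N ≠ ⊥ ∧ IsMulCommutative ↥N)
    (hbin : ∀ (n : ℕ) (I J : Fin n → Ω), 2 ≤ n →
      (∀ i j : Fin n, i ≠ j → ∃ g : G, g • I i = J i ∧ g • I j = J j) → ∃ g : G, ∀ i, g • I i = J i) :
    ((Fintype.card Ω).Prime ∧ ∀ ω : Ω, Nat.card ↥(MulAction.stabilizer G ω) ≤ 2) ∨
    (∃ (F E : Type) (_ : Field F) (_ : Fintype F) (_ : Field E) (_ : Fintype E) (_ : Algebra F E) (e : Ω ≃ E),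
        Module.finrank F E = 2 ∧
        ∀ σ : Equiv.Perm Ω, σ ∈ (MulAction.toPermHom G Ω).range ↔
          ∃ (a b : E) (φ : E ≃ₐ[F] E), Algebra.norm F a = 1 ∧ ∀ ω : Ω, e (σ ω) = a * φ (e ω) + b) := by
  classical
  obtain ⟨N, hN, hNne, hNc⟩ := haff
  haveI := hN
  haveI := hNc
  haveI := hprim
  letI : CommGroup N := { (inferInstance : Group N) with mul_comm := fun a b => mul_comm' a b }
  have hmove : ∃ n ∈ N, ∃ ω : Ω, n • ω ≠ ω := by
    obtain ⟨n, hn, hn1⟩ := (Subgroup.bot_or_exists_ne_one N).resolve_left hNne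
    by_contra hall
    push Not at hall
    exact hn1 (eq_of_smul_eq_smul (α := Ω) fun ω => by rw [hall n hn ω, one_smul])
  obtain ⟨n₁, hn₁, ω₀, hω₀⟩ := hmove
  haveI : MulAction.IsPretransitive N Ω :=
    MulAction.IsQuasiPreprimitive.isPretransitive_of_normal (G := G) fun e => by
      have h1 : ω₀ ∈ MulAction.fixedPoints N Ω := by rw [e]; trivial
      exact hω₀ (h1 ⟨n₁, hn₁⟩)
  have htrans : ∀ ω : Ω, ∃ n : N, (n : G) • ω₀ = ω := fun ω => MulAction.exists_smul_eq N ω₀ ω
  have hreg : ∀ n : N, (n : G) • ω₀ = ω₀ → n = 1 := fun n hn => Subtype.ext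
    (eq_of_smul_eq_smul (α := Ω) fun ω => by
      obtain ⟨m, rfl⟩ := htrans ω
      rw [← mul_smul, ← Subgroup.coe_mul, mul_comm n m, Subgroup.coe_mul, mul_smul, hn,
        Subgroup.coe_one, one_smul])
  let S₀ := MulAction.stabilizer G ω₀
  letI act : DistribMulAction S₀ (Additive N) :=
    { smul := fun h v => Additive.ofMul (MulAut.conjNormal (h : G) (Additive.toMul v))
      one_smul := fun v => by
        show Additive.ofMul (MulAut.conjNormal ((1 : S₀) : G) (Additive.toMul v)) = v
        rw [Subgroup.coe_one, map_one]; rfl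
      mul_smul := fun g h v => by
        show Additive.ofMul (MulAut.conjNormal ((g * h : S₀) : G) (Additive.toMul v)) = _
        rw [Subgroup.coe_mul, map_mul]; rfl
      smul_zero := fun h => by
        show Additive.ofMul (MulAut.conjNormal (h : G) (1 : N)) = 0
        rw [map_one]; rfl
      smul_add := fun h v w => by
        show Additive.ofMul (MulAut.conjNormal (h : G) (Additive.toMul v * Additive.toMul w)) = _
        rw [map_mul]; rfl }
  let pt : Additive N → Ω := fun v => ((Additive.toMul v : N) : G) • ω₀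
  have pt_zero : pt 0 = ω₀ := one_smul G ω₀
  have pt_add : ∀ u v, pt (u + v) = ((Additive.toMul u : N) : G) • pt v := fun u v => by
    show (((Additive.toMul u : N) * Additive.toMul v : N) : G) • ω₀ = _
    rw [Subgroup.coe_mul, mul_smul]
  have pt_smul : ∀ (h : S₀) v, pt (h • v) = (h : G) • pt v := fun h v => by
    show ((MulAut.conjNormal (h : G) (Additive.toMul v) : N) : G) • ω₀ = _
    rw [MulAut.conjNormal_apply, mul_smul, mul_smul,
      show (h : G)⁻¹ • ω₀ = ω₀ from (h⁻¹).2]
  have hpt : Function.Bijective pt := by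
    refine ⟨fun u v e => ?_, fun ω => ?_⟩
    · have e' : ((Additive.toMul u : N) : G) • ω₀ = ((Additive.toMul v : N) : G) • ω₀ := e
      refine Additive.toMul.injective (inv_mul_eq_one.1
        (hreg ((Additive.toMul v)⁻¹ * Additive.toMul u) ?_)).symm
      rw [Subgroup.coe_mul, mul_smul, e', Subgroup.coe_inv, inv_smul_smul]
    · obtain ⟨n, hn⟩ := htrans ω
      exact ⟨Additive.ofMul n, hn⟩
  have decomp : ∀ g : G, ∃ (u : Additive N) (h : S₀), ∀ v, g • pt v = pt (u + h • v) := fun g => by
    obtain ⟨n, hn⟩ := htrans (g • ω₀)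
    refine ⟨Additive.ofMul n, ⟨(n : G)⁻¹ * g, ?_⟩, fun v => ?_⟩
    · rw [MulAction.mem_stabilizer_iff, mul_smul, ← hn, inv_smul_smul]
    · rw [pt_add, pt_smul]
      show g • pt v = (n : G) • ((n : G)⁻¹ * g) • pt v
      rw [← mul_smul (n : G), mul_inv_cancel_left]
  have hV : ∃ x : Additive N, x ≠ 0 := by
    obtain ⟨n, hn, hn1⟩ := (Subgroup.bot_or_exists_ne_one N).resolve_left hNne
    exact ⟨Additive.ofMul ⟨n, hn⟩, fun e => hn1 (congrArg (fun v => ((Additive.toMul v : N) : G)) e)⟩
  have hfaith : ∀ h : S₀, (∀ v : Additive N, h • v = v) → h = 1 := fun h hh =>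
    Subtype.ext (eq_of_smul_eq_smul (α := Ω) fun ω => by
      obtain ⟨v, rfl⟩ := hpt.2 ω
      rw [← pt_smul, hh, Subgroup.coe_one, one_smul])
  have hirr : ∀ P : AddSubgroup (Additive N), (∀ h : S₀, ∀ v ∈ P, h • v ∈ P) →
      P = ⊥ ∨ P = ⊤ := by
    intro P hP
    let P' : Subgroup N := AddSubgroup.toSubgroup' P
    let Q : Subgroup G := P'.map N.subtype
    have hQn : Q.Normal := ⟨by
      rintro _ ⟨p, hp, rfl⟩ g
      obtain ⟨n, hn⟩ := htrans (g • ω₀)
      let h : S₀ := ⟨(n : G)⁻¹ * g, by rw [MulAction.mem_stabilizer_iff, mul_smul, ← hn, inv_smul_smul]⟩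
      refine ⟨MulAut.conjNormal (h : G) p, hP h (Additive.ofMul p) hp, ?_⟩
      have e : (n * MulAut.conjNormal (h : G) p * n⁻¹ : N) = MulAut.conjNormal (h : G) p := by
        rw [mul_comm n, mul_inv_cancel_right]
      rw [← e]
      show ((n * MulAut.conjNormal (h : G) p * n⁻¹ : N) : G) = g * (p : G) * g⁻¹
      simp only [Subgroup.coe_mul, Subgroup.coe_inv, MulAut.conjNormal_apply, h]
      group⟩
    by_cases hPb : P = ⊥
    · exact Or.inl hPb
    right
    obtain ⟨p, hp, hp0⟩ := (AddSubgroup.bot_or_exists_ne_zero P).resolve_left hPb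
    haveI := hQn
    have hQt : MulAction.IsPretransitive Q Ω :=
      MulAction.IsQuasiPreprimitive.isPretransitive_of_normal (G := G) fun e => by
        have h1 : ω₀ ∈ MulAction.fixedPoints Q Ω := by rw [e]; trivial
        have h2 : ((Additive.toMul p : N) : G) • ω₀ = ω₀ :=
          h1 ⟨_, Additive.toMul p, hp, rfl⟩
        exact hp0 (Additive.toMul.injective (hreg _ h2))
    refine eq_top_iff.2 fun v _ => ?_
    obtain ⟨⟨_, q, hq, rfl⟩, hqv⟩ := hQt.exists_smul_eq ω₀ (pt v)
    have h3 : pt (Additive.ofMul q) = pt v := hqv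
    rw [← hpt.1 h3]
    exact hq
  have htwo : (∀ v : Additive N, v + v = 0) ∨ ∀ v : Additive N, v + v = 0 → v = 0 := by
    let P : AddSubgroup (Additive N) :=
      (AddMonoidHom.mk' (fun v : Additive N => v + v) (fun a b => add_add_add_comm a b a b)).ker
    rcases hirr P (fun h v hv => show h • v + h • v = 0 by
      rw [← smul_add, show v + v = 0 from hv, smul_zero]) with e | e
    · refine Or.inr fun v hv => ?_
      have h1 : v ∈ P := hv
      rw [e] at h1
      exact AddSubgroup.mem_bot.1 h1
    · refine Or.inl fun v => ?_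
      have h1 : v ∈ P := by rw [e]; trivial
      exact h1
  haveI : Finite (Additive N) := inferInstanceAs (Finite N)
  have hswap : ∀ x y : Additive N, (∃ h : S₀, h • x = y) →
      ∃ j : S₀, j • x = y ∧
        ∀ z : Additive N, (∃ h : S₀, h • (z - x) = z - y) → j • z = z := by
    rintro x y ⟨h, hxy⟩
    let S := {z : Additive N // ∃ h : S₀, h • (z - x) = z - y}
    letI := Fintype.ofFinite S
    let I₀ : Option (Option S) → Additive N := fun i => i.elim 0 fun i => i.elim x Subtype.val
    let J₀ : Option (Option S) → Additive N := fun i => i.elim 0 fun i => i.elim y Subtype.val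
    let ι := Fintype.equivFin (Option (Option S))
    have hcard : 2 ≤ Fintype.card (Option (Option S)) := by
      rw [Fintype.card_option, Fintype.card_option]
      omega
    have hxz : ∀ z : S, ∃ g : G, g • pt x = pt y ∧ g • pt z.1 = pt z.1 := by
      rintro ⟨z, h', hz⟩
      refine ⟨((Additive.toMul (y - h' • x) : N) : G) * (h' : G), ?_, ?_⟩
      · rw [mul_smul, ← pt_smul, ← pt_add, sub_add_cancel]
      · rw [mul_smul, ← pt_smul, ← pt_add]
        congr 1
        rw [smul_sub, sub_eq_iff_eq_add] at hz
        rw [hz]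
        abel
    obtain ⟨g, hg⟩ := hbin _ (fun i => pt (I₀ (ι.symm i))) (fun i => pt (J₀ (ι.symm i))) hcard
      (fun i k hik => by
        generalize hi : ι.symm i = i'
        generalize hk : ι.symm k = k'
        have hne : i' ≠ k' := by
          rw [← hi, ← hk]
          exact fun e => hik (ι.symm.injective e)
        have h0 : ∀ g : S₀, (g : G) • pt 0 = pt 0 := fun g => by rw [← pt_smul, smul_zero]
        rcases i' with _ | _ | z <;> rcases k' with _ | _ | z'
        · exact absurd rfl hne
        · exact ⟨h, h0 h, by rw [← pt_smul]; exact congrArg pt hxy⟩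
        · exact ⟨1, one_smul G _, one_smul G _⟩
        · exact ⟨h, by rw [← pt_smul]; exact congrArg pt hxy, h0 h⟩
        · exact absurd rfl hne
        · exact hxz z'
        · exact ⟨1, one_smul G _, one_smul G _⟩
        · exact (hxz z).imp fun g hg => hg.symm
        · exact ⟨1, one_smul G _, one_smul G _⟩)
    have hg' : ∀ i, g • pt (I₀ i) = pt (J₀ i) := fun i => by
      simpa using hg (ι i)
    have hgs : g ∈ S₀ := by
      have h1 := hg' none
      show g • ω₀ = ω₀
      rw [← pt_zero]
      exact h1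
    refine ⟨⟨g, hgs⟩, hpt.1 ?_, fun z hz => hpt.1 ?_⟩
    · rw [pt_smul]
      exact hg' (some none)
    · rw [pt_smul]
      exact hg' (some (some ⟨z, hz⟩))
  have D : CfsgLib.BinAff.Data S₀ (Additive N) :=
    ⟨hirr, hswap, hfaith, htwo, inferInstance, inferInstance⟩
  let E₀ : Additive N ≃ Ω := Equiv.ofBijective pt hpt
  rcases CfsgLib.BinAff.classify D hV with ⟨h1, h2⟩ | ⟨F, E, iF, fF, iE, fE, alg, e, hfin, hto, hfrom⟩
  · refine Or.inl ⟨?_, fun ω => ?_⟩
    · rw [← Nat.card_eq_fintype_card, ← Nat.card_congr E₀]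
      exact h2
    · obtain ⟨n, hn⟩ := htrans ω
      rw [← Nat.card_congr (MulAction.stabilizerEquivStabilizer (g := (n : G)) hn.symm).toEquiv]
      exact h1
  · refine Or.inr ⟨F, E, iF, fF, iE, fE, alg, E₀.symm.trans e.toEquiv, hfin, fun σ => ?_⟩
    have happly : ∀ v, (E₀.symm.trans e.toEquiv) (pt v) = e v := fun v => by
      show e (E₀.symm (E₀ v)) = e v
      rw [Equiv.symm_apply_apply]
    constructor
    · rintro ⟨g, rfl⟩
      obtain ⟨u, h, hg⟩ := decomp g
      obtain ⟨a, φ, ha, hφ⟩ := hto h
      refine ⟨a, e u, φ, ha, fun ω => ?_⟩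
      obtain ⟨v, rfl⟩ := hpt.2 ω
      rw [MulAction.toPermHom_apply, MulAction.toPerm_apply, hg, happly, happly, map_add, hφ,
        add_comm]
    · rintro ⟨a, b, φ, ha, hσ⟩
      obtain ⟨h, hh⟩ := hfrom a φ ha
      refine ⟨((Additive.toMul (e.symm b) : N) : G) * (h : G), Equiv.ext fun ω => ?_⟩
      obtain ⟨v, rfl⟩ := hpt.2 ω
      refine (E₀.symm.trans e.toEquiv).injective ?_
      rw [hσ, MulAction.toPermHom_apply, MulAction.toPerm_apply, mul_smul, ← pt_smul, ← pt_add,
        happly, happly, map_add, hh, AddEquiv.apply_symm_apply, add_comm]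

end Cfsg.Agent.S5753
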