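import Cfsg.Statements.S5754

set_option autoImplicit false
open Cfsg

namespace Cfsg.Agent.S5754

section

variable {F V : Type*} [Field F] [AddCommGroup V] [Module F V] (Q : QuadraticForm F V)

/-- The reflection in an anisotropic vector, as a linear map. -/
def reflMap (d : V) : V →ₗ[F] V where
  toFun x := x - (QuadraticMap.polar Q x d / Q d) • d
  map_add' x y := by rw [QuadraticMap.polar_add_left, add_div, add_smul]; abel
  map_smul' c x := by
    rw [QuadraticMap.polar_smul_left, smul_eq_mul, mul_div_assoc, mul_smul, smul_sub]; rfl

theorem reflMap_involutive {d : V} (h : Q d ≠ 0) (x : V) : reflMap Q d (reflMap Q d x) = x := by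
  have e : QuadraticMap.polar Q d d = 2 * Q d := by
    rw [QuadraticMap.polar_self]; simp [two_smul, two_mul]
  simp only [reflMap, LinearMap.coe_mk, AddHom.coe_mk, QuadraticMap.polar_sub_left,
    QuadraticMap.polar_smul_left, smul_eq_mul, e]
  rw [sub_sub, ← add_smul]
  have : QuadraticMap.polar Q x d / Q d +
      (QuadraticMap.polar Q x d - QuadraticMap.polar Q x d / Q d * (2 * Q d)) / Q d = 0 := by
    field_simp; ring
  rw [this, zero_smul, sub_zero]

/-- The reflection in an anisotropic vector, as an isometry. -/
def reflIso (d : V) (h : Q d ≠ 0) : Q.IsometryEquiv Q where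
  toLinearEquiv := LinearEquiv.ofLinear (reflMap Q d) (reflMap Q d)
    (LinearMap.ext (reflMap_involutive Q h)) (LinearMap.ext (reflMap_involutive Q h))
  map_app' x := by
    change Q (x - (QuadraticMap.polar Q x d / Q d) • d) = Q x
    set c := QuadraticMap.polar Q x d / Q d with hc
    rw [sub_eq_add_neg, ← neg_smul, QuadraticMap.map_add Q x, QuadraticMap.map_smul,
      QuadraticMap.polar_smul_right, smul_eq_mul, smul_eq_mul]
    have : QuadraticMap.polar Q x d = c * Q d := by rw [hc, div_mul_cancel₀ _ h]
    rw [this]; ring

theorem reflIso_apply (d : V) (h : Q d ≠ 0) (x : V) :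
    reflIso Q d h x = x - (QuadraticMap.polar Q x d / Q d) • d := rfl

end


/-- Let V be a finite-dimensional vector space over a finite field F carrying an anisotropic quadratic form Q (Q(v) = 0 only for v = 0). Then the group of all maps v ↦ φ(v) + c, with φ an isometry of Q and c ∈ V, acts on V as a binary permutation group: given n ≥ 2 and two n-tuples u, u' of vectors such that every pair of corresponding entries of u is carried to that of u' by such a map, one such map carries u to u'. -/
theorem result {F V : Type*} [Field F] [Finite F] [AddCommGroup V] [Module F V] [Module.Finite F V]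
    (Q : QuadraticForm F V) (hQ : Q.Anisotropic) (n : ℕ) (hn : 2 ≤ n) (u u' : Fin n → V)
    (h2 : ∀ i j : Fin n, i ≠ j → ∃ (φ : Q.IsometryEquiv Q) (c : V), φ (u i) + c = u' i ∧ φ (u j) + c = u' j) :
    ∃ (φ : Q.IsometryEquiv Q) (c : V), ∀ i, φ (u i) + c = u' i := by
  classical
  have hpair : ∀ i j : Fin n, Q (u i - u j) = Q (u' i - u' j) := by
    intro i j
    by_cases hij : i = j
    · subst hij; simp
    · obtain ⟨φ, c, h1, h2'⟩ := h2 i j hij
      rw [← h1, ← h2', add_sub_add_right_eq_sub, ← map_sub, φ.map_app]
  let i₀ : Fin n := ⟨0, by omega⟩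
  have key : ∀ S : Finset (Fin n), ∃ φ : Q.IsometryEquiv Q, ∀ i ∈ S, φ (u i - u i₀) = u' i - u' i₀ := by
    intro S
    induction S using Finset.induction with
    | empty => exact ⟨QuadraticMap.IsometryEquiv.refl Q, by simp⟩
    | @insert a S haS ih =>
      obtain ⟨φ, hφ⟩ := ih
      set v := φ (u a - u i₀) with hv
      set v' := u' a - u' i₀ with hv'
      have hQvv' : Q v = Q v' := by rw [hv, hv', φ.map_app, hpair]
      by_cases hvv : v = v'
      · exact ⟨φ, fun i hi => by
          rcases Finset.mem_insert.1 hi with rfl | hi
          · exact hvv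
          · exact hφ i hi⟩
      · set d := v - v' with hd
        have hQd : Q d ≠ 0 := fun h => hvv (sub_eq_zero.1 (hQ d h))
        refine ⟨φ.trans (reflIso Q d hQd), fun i hi => ?_⟩
        show reflIso Q d hQd (φ (u i - u i₀)) = _
        rw [reflIso_apply]
        rcases Finset.mem_insert.1 hi with rfl | hi
        · have e : QuadraticMap.polar Q v d = Q d := by
            have h1 := QuadraticMap.polar_sub_right Q v v v'
            have h2 := QuadraticMap.map_add Q v' d
            have h3 : v' + d = v := by rw [hd]; abel
            rw [h3] at h2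
            have h4 : QuadraticMap.polar Q v v = 2 * Q v := by
              rw [QuadraticMap.polar_self]; simp [two_smul, two_mul]
            have h5 : QuadraticMap.polar Q v' d = QuadraticMap.polar Q v v' - 2 * Q v' := by
              rw [hd, QuadraticMap.polar_sub_right, QuadraticMap.polar_comm Q v' v, QuadraticMap.polar_self]
              simp [two_smul, two_mul]
            rw [← hd] at h1
            linear_combination h1 + h4 + h2 + h5 + hQvv'
          rw [← hv, ← hv', e, div_self hQd, one_smul, hd, sub_sub_cancel]
        · rw [hφ i hi]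
          have e : QuadraticMap.polar Q (u' i - u' i₀) d = 0 := by
            have hx : ∀ z z' : V, QuadraticMap.polar Q z z' = Q z + Q z' - Q (z - z') := fun z z' => by
              have h := QuadraticMap.map_add Q (z - z') z'
              rw [sub_add_cancel, QuadraticMap.polar_sub_left, QuadraticMap.polar_self] at h
              simp [two_smul] at h
              linear_combination -h
            have g1 : Q (u' i - u' i₀ - v') = Q (u i - u a) := by
              rw [hv', sub_sub_sub_cancel_right, hpair]
            have g2 : Q (u' i - u' i₀ - v) = Q (u i - u a) := by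
              rw [hv, ← hφ i hi, ← map_sub, φ.map_app, sub_sub_sub_cancel_right]
            rw [hd, QuadraticMap.polar_sub_right, hx, hx, g1, g2, hQvv', sub_self]
          rw [e, zero_div, zero_smul, sub_zero]
  obtain ⟨φ, hφ⟩ := key Finset.univ
  refine ⟨φ, u' i₀ - φ (u i₀), fun i => ?_⟩
  have := hφ i (Finset.mem_univ i)
  rw [map_sub] at this
  calc φ (u i) + (u' i₀ - φ (u i₀)) = (φ (u i) - φ (u i₀)) + u' i₀ := by abel
    _ = u' i := by rw [this, sub_add_cancel]

end Cfsg.Agent.S5754
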