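import Cfsg.Statements.S5763

set_option autoImplicit false
set_option maxRecDepth 20000
open Cfsg

namespace Cfsg.Agent.S5763

/-- Distance in the binary tree with leaves `0..7`. -/
def lev (a b : Fin 8) : ℕ :=
  if a.val = b.val then 0 else if a.val / 2 = b.val / 2 then 1 else if a.val / 4 = b.val / 4 then 2 else 3

/-- The same distance, read from a packed table. -/
def levN (a b : ℕ) : ℕ := 35885484740962446957435220030180687780 / 4 ^ (8 * a + b) % 4

theorem lev_eq : ∀ a b : Fin 8, lev a b = levN a.val b.val := by decide +kernel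

/-- The `i`-th entry of a packed map of `0..7`. -/
def nth (p i : ℕ) : ℕ := p / 8 ^ i % 8

theorem nth_lt (p i : ℕ) : nth p i < 8 := Nat.mod_lt _ (by norm_num)

/-- A packed map as a function. -/
def toF (p : ℕ) (i : Fin 8) : Fin 8 := ⟨nth p i.val, nth_lt p i.val⟩

/-- Packed inverse coset representative, three successors, and packed witness involution. -/
def table : List (ℕ × ℕ × ℕ × ℕ × ℕ) :=
[
  (16434824, 0, 5, 1, 14570689),
  (14038087, 2, 0, 3, 6852524),
  (14038136, 1, 53, 4, 6823845),
  (11641406, 3, 1, 5, 14570689),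
  (11641798, 6, 2, 7, 11789505),
  (9245173, 8, 3, 0, 6852524),
  (11641840, 4, 94, 9, 11789505),
  (9248309, 10, 4, 11, 5017068),
  (9245166, 5, 60, 12, 6823845),
  (9248645, 13, 6, 14, 16434376),
  (9248302, 7, 138, 15, 4988389),
  (6877612, 11, 7, 16, 14599816),
  (6852468, 17, 8, 18, 14570689),
  (9248680, 9, 68, 19, 16434376),
  (6880300, 14, 9, 20, 14599816),
  (6877556, 21, 10, 22, 14599816),
  (4689251, 23, 11, 24, 6823845),
  (6852454, 12, 61, 25, 14570689),
  (4488099, 26, 12, 27, 5017068),
  (6880580, 28, 13, 29, 14599816),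
  (4710755, 30, 14, 31, 16406152),
  (6877542, 15, 43, 32, 14599816),
  (4688803, 33, 15, 34, 4988389),
  (4689244, 16, 75, 35, 6852524),
  (3959578, 24, 16, 36, 11789505),
  (4487987, 37, 17, 38, 16434376),
  (4488092, 18, 76, 39, 4988389),
  (2350362, 27, 18, 40, 14570689),
  (6880608, 19, 81, 41, 14599816),
  (4712995, 42, 19, 43, 16406152),
  (4710748, 20, 104, 44, 16406152),
  (4131610, 31, 20, 45, 9925825),
  (4688691, 46, 21, 47, 16434376),
  (4688796, 22, 105, 48, 5017068),
  (3955994, 34, 22, 49, 11789505),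
  (3959522, 50, 23, 51, 14570689),
  (14899409, 52, 24, 53, 5017068),
  (4487966, 25, 272, 54, 16434376),
  (2349466, 38, 25, 55, 14570689),
  (2350306, 56, 26, 57, 14599816),
  (2025681, 58, 27, 59, 6823845),
  (4713219, 60, 28, 61, 14570689),
  (4712988, 29, 139, 62, 16406152),
  (4149530, 43, 29, 21, 16434817),
  (4131554, 63, 30, 64, 14570689),
  (16275665, 65, 31, 66, 14599816),
  (4688670, 32, 244, 67, 16434376),
  (3955098, 47, 32, 68, 11789505),
  (3955938, 69, 33, 70, 4988389),
  (14870737, 71, 34, 72, 4988389),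
  (3959508, 35, 124, 73, 14570689),
  (14898961, 74, 35, 75, 6852524),
  (14899402, 36, 152, 76, 4988389),
  (1754767, 77, 36, 2, 16406152),
  (2349298, 78, 37, 79, 14599816),
  (2018513, 80, 38, 81, 16406152),
  (2350292, 39, 126, 82, 14599816),
  (2025233, 83, 39, 84, 4988389),
  (2025674, 40, 154, 85, 6852524),
  (16205448, 59, 40, 86, 14570689),
  (4713240, 41, 86, 8, 14570689),
  (4151322, 61, 41, 17, 16434817),
  (4149474, 87, 42, 88, 2177406),
  (4131540, 44, 162, 89, 14570689),
  (16275217, 90, 44, 91, 14599816),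
  (16275658, 45, 194, 92, 14599816),
  (12764815, 93, 45, 94, 16406152),
  (3954930, 95, 46, 96, 4988389),
  (14863569, 97, 47, 13, 16406152),
  (3955924, 48, 164, 98, 5017068),
  (14870289, 99, 48, 100, 6823845),
  (14870730, 49, 196, 101, 5017068),
  (1525391, 82, 49, 102, 16434376),
  (14898849, 103, 50, 104, 16434376),
  (14898954, 51, 180, 105, 6823845),
  (1751183, 106, 51, 23, 14570689),
  (1754711, 107, 52, 26, 16406152),
  (1754809, 53, 78, 108, 16406152),
  (2349270, 54, 278, 77, 14599816),
  (2017169, 109, 54, 110, 16406152),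
  (2018506, 55, 198, 111, 16406152),
  (16148104, 81, 55, 28, 14570689),
  (2025121, 72, 56, 112, 16434376),
  (2025226, 57, 182, 113, 5017068),
  (16201864, 84, 57, 114, 16434817),
  (16205392, 115, 58, 116, 14570689),
  (12203079, 102, 59, 60, 5017068),
  (4149460, 62, 207, 117, 342391),
  (16418577, 118, 62, 119, 14599816),
  (16275105, 120, 63, 121, 14599816),
  (16275210, 64, 215, 122, 14599816),
  (12761231, 123, 64, 124, 14570689),
  (12764759, 125, 65, 126, 16406152),
  (12764857, 66, 95, 127, 16406152),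
  (1455230, 94, 66, 6, 9925825),
  (3954902, 67, 249, 93, 5017068),
  (14862225, 128, 67, 129, 16406152),
  (14863562, 68, 206, 130, 16406152),
  (14870177, 131, 69, 132, 16434376),
  (14870282, 70, 222, 133, 6852524),
  (1521807, 134, 70, 135, 11789505),
  (1525335, 136, 71, 137, 342391),
  (12203128, 86, 72, 138, 4988389),
  (14898828, 73, 205, 139, 16434376),
  (1750287, 140, 73, 30, 14570689),
  (1751127, 141, 74, 33, 11789505),
  (1751225, 75, 268, 142, 14570689),
  (1754746, 76, 274, 143, 16406152),
  (14038472, 108, 77, 144, 16434817),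
  (2017162, 79, 239, 145, 16406152),
  (16137352, 110, 79, 146, 16434817),
  (16148048, 147, 80, 148, 14570689),
  (16200968, 112, 82, 149, 16434817),
  (16201808, 150, 83, 151, 342391),
  (12174407, 135, 84, 152, 4988389),
  (16205378, 85, 237, 153, 14570689),
  (12202631, 137, 85, 154, 6852524),
  (16418465, 155, 87, 156, 14599816),
  (16418570, 88, 172, 157, 14599816),
  (13908111, 158, 88, 159, 11789505),
  (16275084, 89, 190, 160, 14599816),
  (12760335, 161, 89, 162, 14570689),
  (12761175, 163, 90, 164, 9925825),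
  (12761273, 91, 250, 165, 14570689),
  (1426558, 124, 91, 50, 11789505),
  (12764794, 92, 288, 166, 16406152),
  (1454782, 126, 92, 56, 9925825),
  (1455566, 167, 93, 168, 6823845),
  (14862218, 96, 273, 169, 16406152),
  (1457295, 170, 96, 171, 4988389),
  (1467991, 172, 97, 173, 371511),
  (14870156, 98, 243, 174, 16434376),
  (1520911, 175, 98, 176, 11789505),
  (1521751, 177, 99, 178, 14570689),
  (1521849, 100, 213, 179, 11789505),
  (12174456, 114, 100, 180, 5017068),
  (1525370, 101, 227, 181, 2177406),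
  (12202680, 116, 101, 182, 6823845),
  (13738949, 183, 102, 10, 16406152),
  (1750119, 174, 103, 42, 9925825),
  (1750329, 104, 265, 184, 14570689),
  (1751162, 105, 290, 185, 11789505),
  (14009800, 142, 106, 186, 16434817),
  (14037968, 187, 107, 188, 2206526),
  (11644486, 168, 108, 189, 11789505),
  (16137296, 190, 109, 191, 2177406),
  (11658311, 171, 110, 192, 14599816),
  (16148034, 111, 240, 155, 14570689),
  (11743879, 173, 111, 193, 14599816),
  (12167239, 176, 112, 194, 16406152),
  (16201794, 113, 256, 195, 2177406),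
  (12173959, 178, 113, 196, 6823845),
  (13509181, 192, 114, 52, 11789505),
  (12202519, 197, 115, 198, 16434376),
  (13734973, 193, 116, 58, 14570689),
  (16418444, 117, 147, 199, 14599816),
  (13907215, 200, 117, 201, 11789505),
  (13908055, 202, 118, 203, 9925825),
  (13908153, 119, 300, 204, 11789505),
  (10601598, 159, 119, 205, 9925825),
  (12760167, 206, 120, 207, 11789505),
  (12760377, 121, 231, 208, 14570689),
  (1419390, 162, 121, 63, 16406152),
  (12761210, 122, 279, 209, 9925825),
  (1426110, 164, 122, 69, 11789505),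
  (1426894, 210, 123, 211, 6852524),
  (1455062, 212, 125, 213, 6823845),
  (1455601, 127, 214, 214, 6852524),
  (11644528, 144, 127, 170, 11789505),
  (1457239, 215, 128, 216, 4988389),
  (1457337, 129, 168, 217, 5017068),
  (11658360, 146, 129, 218, 14599816),
  (1468026, 130, 183, 118, 2206526),
  (11743928, 148, 130, 219, 14599816),
  (1520743, 139, 131, 183, 9925825),
  (1520953, 132, 251, 220, 11789505),
  (12167288, 149, 132, 215, 16406152),
  (1521786, 133, 263, 221, 14570689),
  (12174008, 151, 133, 222, 6852524),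
  (12174792, 179, 134, 223, 16434817),
  (13509573, 224, 135, 74, 4988389),
  (12202960, 225, 136, 226, 371511),
  (13735365, 227, 137, 83, 11789505),
  (13738984, 138, 174, 172, 16406152),
  (14002632, 184, 140, 228, 14570689),
  (14009296, 229, 141, 230, 2177406),
  (11415110, 211, 142, 231, 14570689),
  (14037954, 143, 241, 232, 371511),
  (11640454, 213, 143, 233, 14599816),
  (9269813, 194, 144, 234, 9925825),
  (16137282, 145, 201, 120, 342391),
  (11657863, 216, 145, 235, 14599816),
  (9380413, 152, 146, 236, 11789505),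
  (10064957, 154, 148, 237, 14570689),
  (13451837, 189, 149, 65, 9925825),
  (12173847, 238, 150, 206, 16434376),
  (13505597, 235, 151, 71, 11789505),
  (12202554, 153, 295, 239, 16434376),
  (13734077, 199, 153, 80, 14570689),
  (13907047, 198, 155, 240, 14570689),
  (13907257, 156, 307, 241, 11789505),
  (10594430, 201, 156, 190, 16406152),
  (13908090, 157, 289, 242, 9925825),
  (10601150, 203, 157, 243, 9925825),
  (10601934, 244, 158, 229, 5017068),
  (926709, 245, 159, 103, 371511),
  (12760188, 160, 195, 97, 11789505),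
  (1418046, 207, 160, 87, 16406152),
  (1419726, 246, 161, 247, 16406152),
  (1426390, 223, 163, 248, 6852524),
  (1426929, 165, 217, 249, 6823845),
  (11415152, 186, 165, 250, 14570689),
  (1455090, 166, 220, 251, 6852524),
  (11640496, 188, 166, 134, 14599816),
  (11644808, 214, 167, 167, 14570689),
  (1457274, 169, 176, 90, 5017068),
  (11657912, 191, 169, 252, 14599816),
  (11658696, 217, 170, 210, 14599816),
  (9380805, 253, 171, 254, 4988389),
  (10065349, 255, 173, 256, 9925825),
  (12167624, 220, 175, 212, 14570689),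
  (12174288, 257, 177, 258, 342391),
  (13505989, 259, 178, 99, 14570689),
  (13512261, 209, 179, 260, 6823845),
  (13509608, 180, 301, 261, 5017068),
  (12202946, 181, 283, 262, 2206526),
  (13737605, 263, 181, 264, 11789505),
  (13735400, 182, 305, 136, 11789505),
  (11357766, 247, 184, 265, 14570689),
  (14009282, 185, 204, 266, 342391),
  (11411078, 248, 185, 267, 6823845),
  (7434805, 260, 186, 161, 11789505),
  (11640342, 268, 187, 269, 14599816),
  (9237557, 264, 188, 270, 9925825),
  (7049644, 234, 189, 246, 14599816),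
  (9376829, 196, 191, 271, 11789505),
  (7934444, 236, 192, 272, 16434817),
  (13410796, 237, 193, 115, 16434817),
  (12173882, 195, 275, 273, 16434376),
  (13734357, 274, 197, 109, 9925825),
  (10593086, 240, 199, 147, 16406152),
  (10594766, 272, 200, 187, 16406152),
  (10601430, 275, 202, 257, 5017068),
  (923125, 276, 203, 131, 2206526),
  (10601969, 204, 254, 46, 4988389),
  (926702, 205, 291, 277, 2206526),
  (1419761, 208, 234, 278, 16406152),
  (11357808, 228, 208, 268, 14570689),
  (11411120, 230, 209, 279, 6852524),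
  (11415432, 249, 210, 95, 11789505),
  (7435141, 266, 211, 123, 6852524),
  (11640720, 265, 212, 175, 14570689),
  (9377221, 280, 216, 281, 9925825),
  (9380840, 218, 292, 282, 5017068),
  (7937580, 254, 218, 244, 16434817),
  (10065384, 219, 297, 283, 9925825),
  (13413932, 256, 219, 150, 16434817),
  (12174274, 221, 242, 284, 2177406),
  (13508229, 285, 221, 286, 14570689),
  (13506024, 222, 286, 287, 14570689),
  (7434798, 231, 223, 288, 11789505),
  (7413574, 277, 224, 289, 371511),
  (13737493, 290, 225, 291, 9925825),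
  (13737640, 226, 302, 177, 11789505),
  (9237550, 233, 226, 276, 9925825),
  (6976053, 251, 228, 140, 14570689),
  (11410966, 250, 229, 292, 6823845),
  (7402549, 286, 230, 280, 11789505),
  (11640370, 232, 247, 106, 14599816),
  (9236661, 291, 232, 293, 9925825),
  (6791596, 270, 233, 294, 16434817),
  (7905772, 271, 235, 295, 16434817),
  (13143907, 241, 236, 37, 16406152),
  (13504981, 288, 238, 128, 9925825),
  (13734378, 239, 304, 107, 9925825),
  (10601458, 242, 281, 238, 4988389),
  (923118, 243, 264, 296, 371511),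
  (7413616, 261, 245, 297, 2206526),
  (11358088, 278, 246, 78, 9925825),
  (7402885, 284, 248, 163, 9925825),
  (9377256, 252, 267, 298, 9925825),
  (7908908, 281, 252, 275, 16434817),
  (7937860, 299, 253, 300, 342391),
  (13414212, 295, 255, 225, 2206526),
  (13508117, 279, 257, 301, 9925825),
  (13508264, 258, 285, 285, 14570689),
  (7402542, 267, 258, 259, 11789505),
  (7384902, 296, 259, 302, 342391),
  (9146739, 273, 260, 125, 9925825),
  (8976947, 303, 261, 202, 11789505),
  (13737514, 262, 306, 141, 9925825),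
  (9236654, 269, 262, 245, 9925825),
  (7401653, 301, 266, 253, 11789505),
  (6784428, 293, 269, 299, 16434817),
  (4001123, 298, 270, 304, 2206526),
  (12914531, 283, 271, 197, 371511),
  (7384944, 287, 276, 305, 2177406),
  (8977283, 305, 277, 255, 9925825),
  (7909188, 294, 280, 306, 371511),
  (7937888, 282, 293, 307, 2177406),
  (13171235, 308, 282, 158, 6823845),
  (7401646, 292, 284, 224, 11789505),
  (8747571, 309, 287, 263, 14570689),
  (8976926, 289, 314, 310, 11789505),
  (15231769, 307, 294, 274, 9925825),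
  (8747907, 297, 296, 227, 9925825),
  (12941859, 311, 298, 290, 6823845),
  (13171459, 304, 299, 200, 9925825),
  (13171228, 300, 312, 312, 6852524),
  (8747550, 302, 313, 313, 14570689),
  (4706548, 312, 303, 311, 14570689),
  (12941852, 306, 310, 314, 6852524),
  (4706534, 310, 308, 308, 14570689),
  (2871540, 314, 309, 309, 14570689),
  (2871526, 313, 311, 303, 14570689)]

/-- The witness involutions. -/
def wits : List ℕ := [14570689, 11789505, 9925825, 14599816, 16406152, 16434376, 16434817, 6852524, 5017068, 6823845, 4988389, 2206526, 2177406, 371511, 342391]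

/-- The representative with index `k`. -/
def rep (k : ℕ) : ℕ := (table.getD k (0, 0, 0, 0, 0)).1

/-- Comparison of two relabelled trees, as a Boolean. -/
def sameB (f g : ℕ → ℕ) : Bool :=
  (List.range 8).all fun a => (List.range 8).all fun b =>
    Nat.beq (levN (f a) (f b)) (levN (g a) (g b))

theorem sameB_spec {f g : ℕ → ℕ} (h : sameB f g = true) (a b : Fin 8) :
    levN (f a.val) (f b.val) = levN (g a.val) (g b.val) := by
  simp only [sameB, List.all_eq_true] at h
  exact Nat.eq_of_beq_eq_true (h a.val (List.mem_range.2 a.isLt) b.val (List.mem_range.2 b.isLt))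

theorem table_ok : (table.all fun x =>
    sameB (fun i => nth x.1 (nth 16434817 i)) (nth (rep x.2.1)) && Nat.blt x.2.1 315 &&
    sameB (fun i => nth x.1 (nth 2054353 i)) (nth (rep x.2.2.1)) && Nat.blt x.2.2.1 315 &&
    sameB (fun i => nth x.1 (nth 14038087 i)) (nth (rep x.2.2.2.1)) && Nat.blt x.2.2.2.1 315 &&
    sameB (fun i => nth x.1 (nth x.2.2.2.2 i)) (nth x.1) && wits.contains x.2.2.2.2) = true := by
  decide +kernel

theorem table_length : table.length = 315 := by decide +kernel

theorem wits_ok : ∀ h ∈ wits, ((∀ a, toF h (toF h a) = a) ∧ (∃ a, toF h a ≠ a)) ∧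
    ∀ a b, lev (toF h a) (toF h b) = lev a b := by
  decide +kernel

theorem table_spec {k : ℕ} (hk : k < 315) :
    (∀ g : ℕ, g = 16434817 ∨ g = 2054353 ∨ g = 14038087 →
      ∃ k' < 315, ∀ a b : Fin 8, levN (nth (rep k) (nth g a.val)) (nth (rep k) (nth g b.val)) =
        levN (nth (rep k') a.val) (nth (rep k') b.val)) ∧
    ∃ h ∈ wits, ∀ a b : Fin 8, levN (nth (rep k) (nth h a.val)) (nth (rep k) (nth h b.val)) =
      levN (nth (rep k) a.val) (nth (rep k) b.val) := by
  have hk' : k < table.length := by rw [table_length]; exact hk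
  have h := List.all_eq_true.1 table_ok _ (List.getElem_mem hk')
  simp only [Bool.and_eq_true, List.contains_iff_mem] at h
  obtain ⟨⟨⟨⟨⟨⟨⟨h1, l1⟩, h2⟩, l2⟩, h3⟩, l3⟩, h4⟩, h5⟩ := h
  have hr : rep k = (table[k]).1 := by rw [rep, List.getD_eq_getElem _ _ hk']
  refine ⟨?_, _, h5, fun a b => by rw [hr]; exact sameB_spec h4 a b⟩
  rintro g (rfl | rfl | rfl)
  · exact ⟨_, Nat.le_of_ble_eq_true l1, fun a b => by rw [hr]; exact sameB_spec h1 a b⟩
  · exact ⟨_, Nat.le_of_ble_eq_true l2, fun a b => by rw [hr]; exact sameB_spec h2 a b⟩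
  · exact ⟨_, Nat.le_of_ble_eq_true l3, fun a b => by rw [hr]; exact sameB_spec h3 a b⟩

/-- The stabilizer of the tree. -/
def treeStab : Subgroup (Equiv.Perm (Fin 8)) where
  carrier := {h | ∀ a b, lev (h a) (h b) = lev a b}
  mul_mem' {x y} hx hy a b := by rw [Equiv.Perm.mul_apply, Equiv.Perm.mul_apply, hx, hy]
  one_mem' a b := rfl
  inv_mem' {x} hx a b := by
    have := hx (x⁻¹ a) (x⁻¹ b)
    rwa [Equiv.Perm.coe_inv, Equiv.apply_symm_apply, Equiv.apply_symm_apply, eq_comm] at this

/-- The tree relabelled by `y` is the one with index `k`. -/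
def HasIndex (y : Equiv.Perm (Fin 8)) (k : ℕ) : Prop :=
  k < 315 ∧ ∀ a b, lev (y⁻¹ a) (y⁻¹ b) = levN (nth (rep k) a.val) (nth (rep k) b.val)

theorem exists_index (y : Equiv.Perm (Fin 8)) : ∃ k, HasIndex y k := by
  have hy : y ∈ Subgroup.closure ({finRotate 8, Equiv.swap 0 ((finRotate 8) 0)} : Set (Equiv.Perm (Fin 8))) := by
    rw [Equiv.Perm.closure_cycle_adjacent_swap isCycle_finRotate support_finRotate 0]; trivial
  have step : ∀ (u g : Equiv.Perm (Fin 8)) (c : ℕ),
      c = 16434817 ∨ c = 2054353 ∨ c = 14038087 →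
      (∀ i : Fin 8, (g⁻¹ i).val = nth c i.val) → (∃ k, HasIndex u k) → ∃ k, HasIndex (g * u) k := by
    rintro u g c hc hg ⟨k, hk, hu⟩
    obtain ⟨k', hk', h'⟩ := (table_spec hk).1 c hc
    refine ⟨k', hk', fun a b => ?_⟩
    rw [mul_inv_rev, Equiv.Perm.mul_apply, Equiv.Perm.mul_apply, hu, hg, hg, h']
  induction hy using Subgroup.closure_induction_left with
  | one => exact ⟨0, by decide +kernel, by unfold rep; decide +kernel⟩
  | mul_left g hg u _ ih =>
    rcases hg with rfl | rfl
    · exact step u _ 14038087 (Or.inr (Or.inr rfl)) (by decide +kernel) ih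
    · exact step u _ 16434817 (Or.inl rfl) (by decide +kernel) ih
  | inv_mul_cancel g hg u _ ih =>
    rcases hg with rfl | rfl
    · exact step u _ 2054353 (Or.inr (Or.inl rfl)) (by decide +kernel) ih
    · exact step u _ 16434817 (Or.inl rfl) (by decide +kernel) ih

theorem det1 : ∀ o x y : Fin 8, lev o x = 1 → lev o y = 1 → x = y := by decide +kernel

theorem det2 : ∀ o x y : Fin 8, lev o x = 2 → lev o y = 2 → x.val % 2 = y.val % 2 → x = y := by
  decide +kernel

theorem det3 : ∀ o x y : Fin 8, lev o x = 3 → lev o y = 3 → x.val % 4 = y.val % 4 → x = y := by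
  decide +kernel

theorem card_treeStab : Nat.card treeStab = 128 := by
  apply le_antisymm
  · let f : treeStab → Fin 8 × Fin 2 × Fin 4 × Fin 2 := fun h =>
      ((h : Equiv.Perm (Fin 8)) 0, ⟨((h : Equiv.Perm (Fin 8)) 2).val % 2, Nat.mod_lt _ (by norm_num)⟩,
        ⟨((h : Equiv.Perm (Fin 8)) 4).val % 4, Nat.mod_lt _ (by norm_num)⟩,
        ⟨((h : Equiv.Perm (Fin 8)) 6).val % 2, Nat.mod_lt _ (by norm_num)⟩)
    have hf : Function.Injective f := by
      rintro ⟨x, hx⟩ ⟨y, hy⟩ h
      simp only [f, Prod.mk.injEq, Fin.mk.injEq] at h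
      obtain ⟨h0, h2, h4, h6⟩ := h
      refine Subtype.ext (Equiv.ext fun i => ?_)
      have e2 : x 2 = y 2 := det2 _ _ _ (hx 0 2) (h0 ▸ hy 0 2) h2
      have e4 : x 4 = y 4 := det3 _ _ _ (hx 0 4) (h0 ▸ hy 0 4) h4
      have e6 : x 6 = y 6 := det2 _ _ _ (hx 4 6) (e4 ▸ hy 4 6) h6
      fin_cases i
      · exact h0
      · exact det1 _ _ _ (hx 0 1) (h0 ▸ hy 0 1)
      · exact e2
      · exact det1 _ _ _ (hx 2 3) (e2 ▸ hy 2 3)
      · exact e4
      · exact det1 _ _ _ (hx 4 5) (e4 ▸ hy 4 5)
      · exact e6
      · exact det1 _ _ _ (hx 6 7) (e6 ▸ hy 6 7)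
    refine (Nat.card_le_card_of_injective f hf).trans (le_of_eq ?_)
    simp [Nat.card_eq_fintype_card]
  · choose f hf using fun q : Equiv.Perm (Fin 8) ⧸ treeStab => exists_index q.out
    have hinj : Function.Injective (fun q => (⟨f q, (hf q).1⟩ : Fin 315)) := by
      intro p q h
      have hfe : f p = f q := congrArg Fin.val h
      rw [← Quotient.out_eq' p, ← Quotient.out_eq' q]
      refine Quotient.sound' (QuotientGroup.leftRel_apply.2 fun a b => ?_)
      simp only [Equiv.Perm.mul_apply]
      rw [(hf p).2, hfe, ← (hf q).2]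
      simp
    have h1 : treeStab.index ≤ 315 :=
      (Nat.card_le_card_of_injective _ hinj).trans (Nat.card_fin 315).le
    have h2 := treeStab.index_mul_card
    rw [Nat.card_perm, Nat.card_eq_fintype_card (α := Fin 8), Fintype.card_fin] at h2
    have h3 : Nat.factorial 8 = 315 * 128 := by decide +kernel
    rw [h3] at h2
    by_contra hlt
    have := Nat.mul_le_mul h1 (show Nat.card treeStab ≤ 127 by omega)
    omega

theorem meet_nontrivial (y : Equiv.Perm (Fin 8)) :
    treeStab ⊓ treeStab.map (MulAut.conj y).toMonoidHom ≠ ⊥ := by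
  obtain ⟨k, hk, hu⟩ := exists_index y
  obtain ⟨h, hh, h2⟩ := (table_spec hk).2
  obtain ⟨⟨hinv, a, ha⟩, h1⟩ := wits_ok h hh
  let w : Equiv.Perm (Fin 8) := Function.Involutive.toPerm (toF h) hinv
  have hw2 : w ∈ treeStab.map (MulAut.conj y).toMonoidHom := by
    refine ⟨y⁻¹ * w * y, fun p q => ?_, by simp [mul_assoc]⟩
    simp only [Equiv.Perm.mul_apply]
    rw [hu, show (w (y p)).val = nth h (y p).val from rfl, show (w (y q)).val = nth h (y q).val from rfl,
      h2, ← hu]
    simp
  intro hbot
  have : w = 1 := by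
    have hm : w ∈ treeStab ⊓ treeStab.map (MulAut.conj y).toMonoidHom := ⟨h1, hw2⟩
    rwa [hbot, Subgroup.mem_bot] at hm
  exact ha (Equiv.ext_iff.1 this a)


/-- In the symmetric group on 8 letters any two Sylow 2-subgroups have non-trivial intersection: for a Sylow 2-subgroup H and every element x, H ∩ xHx⁻¹ ≠ 1. -/
theorem result (H : Sylow 2 (Equiv.Perm (Fin 8))) (x : Equiv.Perm (Fin 8)) :
    (H : Subgroup (Equiv.Perm (Fin 8))) ⊓ (H : Subgroup (Equiv.Perm (Fin 8))).map (MulAut.conj x).toMonoidHom ≠ ⊥ := by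
  have hT : IsPGroup 2 treeStab := IsPGroup.of_card (n := 7) card_treeStab
  obtain ⟨P, hP⟩ := hT.exists_le_sylow
  obtain ⟨a, ha⟩ := MulAction.exists_smul_eq (Equiv.Perm (Fin 8)) P H
  have hH : (H : Subgroup (Equiv.Perm (Fin 8))) = treeStab.map (MulAut.conj a).toMonoidHom := by
    have h8 : Nat.factorization (Nat.card (Equiv.Perm (Fin 8))) 2 = 7 := by
      rw [Nat.card_perm, Nat.card_eq_fintype_card (α := Fin 8), Fintype.card_fin,
        show Nat.factorial 8 = 2 ^ 7 * 315 by decide +kernel,
        Nat.factorization_mul (by norm_num) (by norm_num), Nat.Prime.factorization_pow Nat.prime_two]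
      simp [Nat.factorization_eq_zero_of_not_dvd]
    have hPeq : treeStab = (P : Subgroup (Equiv.Perm (Fin 8))) := by
      refine Subgroup.eq_of_le_of_card_ge hP ?_
      rw [card_treeStab, P.card_eq_multiplicity, h8]
      norm_num
    rw [← ha, hPeq]
    rfl
  rw [hH]
  intro hbot
  apply meet_nontrivial (a⁻¹ * x * a)
  rw [eq_bot_iff]
  intro z hz
  obtain ⟨hz1, w, hw, hwz⟩ := hz
  have hmem : a * z * a⁻¹ ∈ treeStab.map (MulAut.conj a).toMonoidHom ⊓
      (treeStab.map (MulAut.conj a).toMonoidHom).map (MulAut.conj x).toMonoidHom := by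
    refine ⟨⟨z, hz1, rfl⟩, a * w * a⁻¹, ⟨w, hw, rfl⟩, ?_⟩
    rw [← hwz]
    simp [mul_assoc]
  rw [hbot, Subgroup.mem_bot] at hmem
  rw [Subgroup.mem_bot]
  simpa [mul_inv_eq_one] using hmem


end Cfsg.Agent.S5763
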