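import Cfsg.Statements.S5769
import Cfsg.Agent.Lib.ChevCent.E7NoSixtyFive
import Cfsg.Agent.Lib.ChevCent.SixtyFiveElements

set_option autoImplicit false
open Cfsg

namespace Cfsg.Agent.S5769

/-- a group with an element of order divisible by 65 is no subgroup of E7(2) -/
theorem no_iso (H : Subgroup ↥(Cfsg.Lie.chevE7.group (ZMod 2))) {X : Type*} [Group X] [Finite X]
    (hX : ∃ g : X, 65 ∣ orderOf g) : IsEmpty (↥H ≃* X) := by
  refine ⟨fun e => ?_⟩
  obtain ⟨g, hg⟩ := CfsgLib.ChevCent.SixtyFive.exists_order_eq hX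
  refine CfsgLib.ChevCent.E7.orderOf_ne_sixty_five (ZMod.card 2) (e.symm g : ↥H).1 ?_
  rw [Subgroup.orderOf_coe, MulEquiv.orderOf_eq, hg]

/-- The Chevalley group of type E₇ over the field with two elements (generated by its root elements in the adjoint representation) has no subgroup isomorphic to any of PSL₂(64), PSp₄(8), PSL₄(8), PSU₄(8) or PSp₆(8). Here F₈ and F₆₄ denote fields with 8 and 64 elements. -/
theorem result {F₈ F₆₄ : Type*} [Field F₈] [Fintype F₈] (h8 : Fintype.card F₈ = 8) [Field F₆₄] [Fintype F₆₄] (h64 : Fintype.card F₆₄ = 64)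
    (H : Subgroup ↥(Cfsg.Lie.chevE7.group (ZMod 2))) :
    IsEmpty (↥H ≃* Matrix.ProjectiveSpecialLinearGroup (Fin 2) F₆₄) ∧ IsEmpty (↥H ≃* Cfsg.PSp 2 F₈) ∧
    IsEmpty (↥H ≃* Matrix.ProjectiveSpecialLinearGroup (Fin 4) F₈) ∧ IsEmpty (↥H ≃* Cfsg.PSU 4 F₆₄ 8) ∧ IsEmpty (↥H ≃* Cfsg.PSp 3 F₈) := by
  classical
  refine ⟨no_iso H (CfsgLib.ChevCent.SixtyFive.psl_two h64), no_iso H ?_, no_iso H (CfsgLib.ChevCent.SixtyFive.psl_four h8),
    no_iso H (CfsgLib.ChevCent.SixtyFive.psu_four h8 h64), no_iso H (CfsgLib.ChevCent.SixtyFive.psp_three h8)⟩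
  obtain ⟨a, ha⟩ := CfsgLib.ChevCent.SixtyFive.psp_two h8
  exact ⟨_, ha⟩

end Cfsg.Agent.S5769
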