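import Cfsg.Statements.S5775
import Cfsg.Agent.Lib.Aschbacher.Singer

set_option autoImplicit false
open Cfsg

namespace Cfsg.Agent.S5775

/-- Every maximal subgroup of SL_3(q) is of one of the listed geometric types or lies in the residual class. Let F be a finite field with q elements and H a maximal subgroup of SL_3(F) (viewed inside GL_3(F)). Then H is the intersection with SL_3(F) of one of: the stabiliser of a proper non-zero subspace; for q ≥ 5, the stabiliser of a decomposition of F^3 into three independent lines; for q ≠ 4, the normaliser of a degree-3 subfield of the matrix algebra; a subfield group for a subfield F₀ with |F| = |F₀|^r, r prime; for q = p ≡ 1 mod 3 prime, the normaliser of an absolutely irreducible 3-subgroup R of exponent 3 with centre of order 3, all of whose characteristic abelian subgroups are cyclic, of order 3^(1+2m) for some m ≥ 1, with F the smallest field of characteristic p containing the cube roots of unity (so R is extraspecial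 of order 27); for q odd, the similarity group of a non-degenerate quadratic form; the similarity group of a non-degenerate unitary form — or else H lies in the residual class of the linear case (modulo scalars H is almost simple, with absolutely irreducible perfect socle preimage realisable over no proper subfield and fixing no non-degenerate quadratic, symplectic or unitary form). -/
theorem result {F : Type*} [Field F] [Fintype F] (H : Subgroup (Matrix.GeneralLinearGroup (Fin 3) F)) (hH : Cfsg.Geo.IsMaximalIn (Cfsg.Geo.specialLinear (Fin 3) F) H) :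
    (∃ W : Submodule F (Fin 3 → F), W ≠ ⊥ ∧ W ≠ ⊤ ∧ H = Cfsg.Geo.subspaceStabilizer W ⊓ Cfsg.Geo.specialLinear (Fin 3) F) ∨
    (5 ≤ Fintype.card F ∧ ∃ D : Fin 3 → Submodule F (Fin 3 → F), Cfsg.Geo.IsMDecomposition 1 D ∧ H = Cfsg.Geo.decompositionStabilizer D ⊓ Cfsg.Geo.specialLinear (Fin 3) F) ∨
    (Fintype.card F ≠ 4 ∧ ∃ K : Subalgebra F (Matrix (Fin 3) (Fin 3) F), Cfsg.Geo.IsFieldSubalgebra 3 K ∧ H = Cfsg.Geo.subalgebraNormalizer K ⊓ Cfsg.Geo.specialLinear (Fin 3) F) ∨
    (∃ (F₀ : Subfield F) (r : ℕ) (P : Matrix.GeneralLinearGroup (Fin 3) F), r.Prime ∧ Fintype.card F = Nat.card F₀ ^ r ∧ H = Cfsg.Geo.subfieldSubgroup F₀ P ⊓ Cfsg.Geo.specialLinear (Fin 3) F) ∨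
    (∃ (p : ℕ) (R : Subgroup (Matrix.GeneralLinearGroup (Fin 3) F)), p.Prime ∧ Fintype.card F = p ∧ p % 3 = 1 ∧ Cfsg.Geo.IsLinearSymplecticTypeData 3 R ∧ H = Cfsg.Geo.subgroupNormalizer R ⊓ Cfsg.Geo.specialLinear (Fin 3) F) ∨
    (Odd (Fintype.card F) ∧ ∃ Q : (Fin 3 → F) → F, Cfsg.Geo.IsNondegenerateQuadraticForm Q ∧ H = Cfsg.Geo.quadSimilarityGroup Q ⊓ Cfsg.Geo.specialLinear (Fin 3) F) ∨
    (∃ (σ : F ≃+* F) (f : (Fin 3 → F) → (Fin 3 → F) → F), Cfsg.Geo.IsUnitaryForm σ f ∧ H = Cfsg.Geo.similarityGroup f ⊓ Cfsg.Geo.specialLinear (Fin 3) F) ∨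
    Cfsg.Geo.InLinearResidualClass H := by
  rcases CfsgLib.Asch.linType_of_maximal (n := 3) (by norm_num) hH with
    ⟨W, h0, h1, he⟩ | ⟨t, m, D, hD, htm, h1, h2, -, he⟩ | ⟨r, K, hr, hK, hrn, he⟩ | ⟨a, b, e, P, ha, hab, hn', h2, he⟩ |
      ⟨F₀, r, P, hr, hc, he⟩ | ⟨r, k, R, hR, hk, hrk, he⟩ | ⟨m, t, e, P, hm, ht, hn', he⟩ | ⟨Q, hQ, ho, he⟩ |
      ⟨f, hf, hev, he⟩ | ⟨σ, f, hf, he⟩ | h
  · exact .inl ⟨W, h0, h1, he⟩
  · have ht2 := hD.two_le
    have hm0 := hD.pos
    have htn : t ≤ 3 := htm ▸ Nat.le_mul_of_pos_right t hm0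
    obtain ⟨rfl, rfl⟩ : t = 3 ∧ m = 1 := by
      interval_cases t <;> omega
    exact .inr (.inl ⟨h1 rfl, D, hD, he⟩)
  · obtain rfl := (Nat.prime_dvd_prime_iff_eq hr (by norm_num)).mp hrn
    by_cases hq : Fintype.card F = 4
    · have hle : H ≤ Cfsg.Geo.subalgebraNormalizer K ⊓ Cfsg.Geo.specialLinear (Fin 3) F := he.le
      obtain ⟨F₀, r, P, hr', hc, hs⟩ := CfsgLib.Asch.inSubfield_of_cubic hq hK
        (G := Cfsg.Geo.subalgebraNormalizer K ⊓ Cfsg.Geo.specialLinear (Fin 3) F)
        (fun g hg => ⟨hg.1, CfsgLib.Asch.det_mem_sl.mp hg.2⟩)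
      have hne : F₀ ≠ ⊤ := by
        rintro rfl
        have h1 : Nat.card (⊤ : Subfield F) = Fintype.card F := by
          rw [Nat.card_congr (Subfield.topEquiv (K := F)).toEquiv, Nat.card_eq_fintype_card]
        rw [h1] at hc
        have h4 := Nat.pow_lt_pow_right (show 1 < Fintype.card F by omega) hr'.one_lt
        rw [pow_one, ← hc] at h4
        exact lt_irrefl _ h4
      exact .inr (.inr (.inr (.inl ⟨F₀, r, P, hr', hc, CfsgLib.Asch.max_eq hH (hle.trans hs)
        (CfsgLib.Asch.sl_not_le_subfield (by simp) hne P)⟩)))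
    · exact .inr (.inr (.inl ⟨hq, K, hK, he⟩))
  · have han : a ≤ 3 := hn' ▸ Nat.le_mul_of_pos_right a (by omega)
    exfalso
    interval_cases a <;> omega
  · exact .inr (.inr (.inr (.inl ⟨F₀, r, P, hr, hc, he⟩)))
  · have hr := hR.symplecticType.prime
    have hrn : r ∣ 3 := hrk ▸ dvd_pow_self r (by omega)
    obtain rfl := (Nat.prime_dvd_prime_iff_eq hr (by norm_num)).mp hrn
    obtain ⟨p, e, hp, hchar, hcard, hcases⟩ := CfsgLib.Asch.sympType_congr hR (by simp)
    rcases hcases with ⟨-, he', hlt, hpr, hone, hmin⟩ | ⟨h2', -⟩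
    swap
    · exact absurd h2' (by norm_num)
    have hpl : p % 3 < 3 := Nat.mod_lt _ (by norm_num)
    obtain ⟨rfl, hp1⟩ : e = 1 ∧ p % 3 = 1 := by
      have h1 := hmin 1
      generalize p % 3 = x at *
      interval_cases e <;> interval_cases x <;> simp_all (config := {decide := true})
    exact .inr (.inr (.inr (.inr (.inl ⟨p, R, hp, by rw [hcard, pow_one], hp1, hR, he⟩))))
  · exfalso
    have hm2 : m ^ 2 ≤ m ^ t := Nat.pow_le_pow_right (by omega) ht
    nlinarith
  · exact .inr (.inr (.inr (.inr (.inr (.inl ⟨ho, Q, hQ, he⟩)))))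
  · exact absurd hev (by decide)
  · exact .inr (.inr (.inr (.inr (.inr (.inr (.inl ⟨σ, f, hf, he⟩))))))
  · exact .inr (.inr (.inr (.inr (.inr (.inr (.inr h))))))

end Cfsg.Agent.S5775
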