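import Cfsg.Statements.S5778
import Cfsg.Agent.Lib.Aschbacher.SuArith
import Cfsg.Agent.Lib.Aschbacher.SuThreeFields
import Cfsg.Agent.Lib.Aschbacher.SuThreeConfigs
import Cfsg.Agent.Lib.Aschbacher.SuThreeOrthLines
import Cfsg.Agent.Lib.Aschbacher.FormFinal

set_option autoImplicit false
open Cfsg

namespace Cfsg.Agent.S5778

/-- Every maximal subgroup of SU_3(q), q ≥ 3, is of one of the listed geometric types or lies in the residual class. Let F be the field with q² elements, f the standard unitary form Σ u_i v_i^q on F^3, and H a maximal subgroup of SU_3(q) (the determinant-one isometries of f, inside GL_3(F)). Then H is the intersection with SU_3(q) of one of: the stabiliser of a non-zero subspace on which f vanishes; the stabiliser of a non-degenerate 1-space; for q ≠ 5, the stabiliser of a decomposition into three mutually orthogonal non-degenerate 1-spaces; for q ≠ 3, 5, the normaliser of an adjoint-closed degree-3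 subfield of the matrix algebra; a subfield group of odd prime index whose F₀-structure carries f; for q odd, q ≥ 7, a subfield group of index 2 whose F₀-structure carries f; for q = p ≡ 2 mod 3 prime with p ≥ 11, the normaliser of an absolutely irreducible subgroup of order 27 with centre of order 3, exponent 3 and all characteristic abelian subgroups cyclic, contained in the similarity group of f — or else H lies in the residual class of the unitary case. -/
theorem result {F : Type*} [Field F] [Fintype F] (q : ℕ) (hF : Fintype.card F = q ^ 2) (hq : 3 ≤ q) (H : Subgroup (Matrix.GeneralLinearGroup (Fin 3) F)) (hH : Cfsg.Geo.IsMaximalIn (Cfsg.GU 3 F q ⊓ Cfsg.Geo.specialLinear (Fin 3) F) H) :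
    (∃ W : Submodule F (Fin 3 → F), W ≠ ⊥ ∧ Cfsg.Geo.IsTotallySingularFor (Cfsg.hermForm 3 F q) W ∧ H = Cfsg.Geo.subspaceStabilizer W ⊓ (Cfsg.GU 3 F q ⊓ Cfsg.Geo.specialLinear (Fin 3) F)) ∨
    (∃ W : Submodule F (Fin 3 → F), W ≠ ⊥ ∧ Cfsg.Geo.IsNondegenerateOn (Cfsg.hermForm 3 F q) W ∧ 2 * Module.finrank F W < 3 ∧ H = Cfsg.Geo.subspaceStabilizer W ⊓ (Cfsg.GU 3 F q ⊓ Cfsg.Geo.specialLinear (Fin 3) F)) ∨
    (q ≠ 5 ∧ ∃ D : Fin 3 → Submodule F (Fin 3 → F), Cfsg.Geo.IsNondegenerateMDecomposition (Cfsg.hermForm 3 F q) 1 D ∧ H = Cfsg.Geo.decompositionStabilizer D ⊓ (Cfsg.GU 3 F q ⊓ Cfsg.Geo.specialLinear (Fin 3) F)) ∨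
    (q ≠ 3 ∧ q ≠ 5 ∧ ∃ K : Subalgebra F (Matrix (Fin 3) (Fin 3) F), Cfsg.Geo.IsFieldSubalgebra 3 K ∧ Cfsg.Geo.IsAdjointClosedFor (Cfsg.hermForm 3 F q) K ∧ H = Cfsg.Geo.subalgebraNormalizer K ⊓ (Cfsg.GU 3 F q ⊓ Cfsg.Geo.specialLinear (Fin 3) F)) ∨
    (∃ (F₀ : Subfield F) (r : ℕ) (P : Matrix.GeneralLinearGroup (Fin 3) F), r.Prime ∧ Odd r ∧ Fintype.card F = Nat.card F₀ ^ r ∧ Cfsg.Geo.IsFormRationalStructure (Cfsg.hermForm 3 F q) F₀ 1 P ∧ H = Cfsg.Geo.subfieldSubgroup F₀ P ⊓ (Cfsg.GU 3 F q ⊓ Cfsg.Geo.specialLinear (Fin 3) F)) ∨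
    (Odd q ∧ 7 ≤ q ∧ ∃ (F₀ : Subfield F) (P : Matrix.GeneralLinearGroup (Fin 3) F), Fintype.card F = Nat.card F₀ ^ 2 ∧ Cfsg.Geo.IsFormRationalStructure (Cfsg.hermForm 3 F q) F₀ 1 P ∧ H = Cfsg.Geo.subfieldSubgroup F₀ P ⊓ (Cfsg.GU 3 F q ⊓ Cfsg.Geo.specialLinear (Fin 3) F)) ∨
    (∃ (p : ℕ) (R : Subgroup (Matrix.GeneralLinearGroup (Fin 3) F)), p.Prime ∧ q = p ∧ p % 3 = 2 ∧ 11 ≤ p ∧ Cfsg.Geo.IsSymplecticTypeGroup 3 R ∧ Cfsg.Geo.ActsAbsolutelyIrreducibly (Cfsg.Geo.matrixSet R) ∧ R ≤ Cfsg.Geo.similarityGroup (Cfsg.hermForm 3 F q) ∧ Nat.card R = 27 ∧ Nat.card (Subgroup.center R) = 3 ∧ H = Cfsg.Geo.subgroupNormalizer R ⊓ (Cfsg.GU 3 F q ⊓ Cfsg.Geo.specialLinear (Fin 3) F)) ∨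
    Cfsg.Geo.InUnitaryResidualClass H := by
  classical
  rcases CfsgLib.Asch.suType_of_case hF (n := 3) (by norm_num) (by norm_num) (fun _ => hq) hH
      (CfsgLib.Asch.unitCase_of_le hF (by norm_num) (hH.1.le.trans inf_le_left)) with
    ⟨W, h0, hs, he⟩ | ⟨W, h0, hnd, hd, he⟩ | ⟨t, k, D, ht, hk, htk, h2, hD, he⟩ | ⟨k, D, hk, hD, hs, he⟩ |
      ⟨r, K, hr, hro, hrn, hK, hadj, he⟩ |
      ⟨n₁, n₂, e, P, f₁, f₂, h₁, h₁₂, hn, h2, hf₁, hf₂, hstr, he⟩ |
      ⟨k, t, e, P, f₁, hk, ht, hn, h3, hf₁, hstr, he⟩ |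
      ⟨F₀, r, P, hr, hro, hc, hrat, he⟩ | ⟨F₀, P, hqo, hc, hrat, he⟩ |
      ⟨F₀, P, ζ, hne, hc, hζ, hζq, hrat, halt, he⟩ |
      ⟨r, R, p, j, k, hR, hirr, hsim, hp, hchar, hrp, hq', hk, hn, hj, hdiv, hmin, hcase, he⟩ | h
  · exact .inl ⟨W, h0, hs, he⟩
  · exact .inr (.inl ⟨W, h0, hnd, hd, he⟩)
  · obtain ⟨rfl, rfl⟩ : t = 3 ∧ k = 1 := by
      have : t ≤ 3 := by rw [← htk]; exact Nat.le_mul_of_pos_right t hk
      interval_cases t <;> omega
    by_cases h5 : q = 5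
    · exfalso
      subst h5
      obtain ⟨L, h1, h2'⟩ := CfsgLib.Asch.Three.lines_not_maximal hF hD
      rw [← he] at h1
      exact CfsgLib.Asch.maximal_elim hH h1 h2'
    · exact .inr (.inr (.inl ⟨h5, D, hD, he⟩))
  · omega
  · obtain rfl : r = 3 := by
      have := Nat.le_of_dvd (by norm_num) hrn
      obtain ⟨i, rfl⟩ := hro
      have : i ≤ 1 := by omega
      interval_cases i <;> first | (norm_num at hr; done) | omega
    by_cases h35 : q = 3 ∨ q = 5
    · exfalso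
      obtain ⟨L, h1, h2'⟩ := CfsgLib.Asch.Three.cubic_not_maximal h35 hF hK hadj
      rw [← he] at h1
      exact CfsgLib.Asch.maximal_elim hH h1 h2'
    · exact .inr (.inr (.inr (.inl ⟨fun h => h35 (.inl h), fun h => h35 (.inr h), K, hK, hadj, he⟩)))
  · have : n₁ ≤ 3 := by rw [← hn]; exact Nat.le_mul_of_pos_right n₁ (by omega)
    exfalso
    interval_cases n₁ <;> omega
  · exfalso
    have htk : t ≤ 2 := by
      by_contra hc
      have := Nat.pow_le_pow_right (show 1 ≤ k by omega) (show 3 ≤ t by omega)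
      nlinarith [Nat.mul_le_mul (Nat.mul_le_mul hk hk) hk]
    obtain rfl : t = 2 := by omega
    have : k ≤ 3 := by nlinarith
    obtain rfl : k = 3 := by omega
    omega
  · exact .inr (.inr (.inr (.inr (.inl ⟨F₀, r, P, hr, hro, hc, hrat, he⟩))))
  · by_cases h7 : 7 ≤ q
    · exact .inr (.inr (.inr (.inr (.inr (.inl ⟨hqo, h7, F₀, P, hc, hrat, he⟩)))))
    have h35 : q = 3 ∨ q = 5 := by
      obtain ⟨i, hi⟩ := hqo
      omega
    rcases h35 with rfl | rfl
    · obtain ⟨D, hD, hle⟩ := CfsgLib.Asch.Three.exists_lines_of_orth hF hc hrat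
      rw [← he] at hle
      obtain ⟨σ, hσ, -, hne⟩ := CfsgLib.ClassicalMax.Unit.exists_powEquiv hF
      have hf := CfsgLib.ClassicalMax.Unit.isUnitaryForm_hermForm hF 3 hσ hne
      exact .inr (.inr (.inl ⟨by norm_num, D, hD, CfsgLib.Asch.max_eq_inf hH hle (CfsgLib.Asch.su_not_le_lines hf hD (.inr ⟨le_rfl, by rw [hF]; norm_num⟩) (by simp))⟩))
    · exfalso
      obtain ⟨L, h1, h2'⟩ := CfsgLib.Asch.Three.orth_not_maximal hF hc hrat
      rw [← he] at h1
      exact CfsgLib.Asch.maximal_elim hH h1 h2'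
  · exact absurd hne (by decide)
  · have hrd : r ∣ 3 := hn ▸ dvd_pow_self r (by omega)
    have := Nat.le_of_dvd (by norm_num) hrd
    have hr := hR.prime
    have hcs : r = 3 := by interval_cases r <;> first | (norm_num at hr; done) | omega
    subst hcs
    obtain rfl : k = 1 := Nat.pow_right_injective (le_of_eq_of_le rfl (by norm_num)) (hn.trans (by norm_num))
    rcases hcase with ⟨-, hz, hcd⟩ | ⟨h, -⟩
    swap
    · exact absurd h (by decide)
    rw [hz] at hdiv hmin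
    obtain ⟨rfl, hp3⟩ := CfsgLib.Asch.symp_exp_three hp hrp hj hdiv hmin
    rw [pow_one] at hq'
    subst hq'
    by_cases h11 : 11 ≤ q
    · exact .inr (.inr (.inr (.inr (.inr (.inr (.inl ⟨q, R, hp, rfl, hp3, h11, hR, hirr, hsim, hcd.trans (by norm_num), hz, he⟩))))))
    exfalso
    obtain rfl : q = 5 := by interval_cases q <;> first | rfl | omega | (norm_num at hp)
    obtain ⟨L, h1, h2'⟩ := CfsgLib.Asch.Three.symp_not_maximal hF hR hirr hsim (hcd.trans (by norm_num)) hz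
    rw [← he] at h1
    exact CfsgLib.Asch.maximal_elim hH h1 h2'
  · exact .inr (.inr (.inr (.inr (.inr (.inr (.inr (h)))))))

end Cfsg.Agent.S5778
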