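import Cfsg.Statements.S5780
import Cfsg.Agent.Lib.ClassicalMax.SLGeoSmall
import Cfsg.Agent.Lib.ClassicalMax.DecompFour
import Cfsg.Agent.Lib.ClassicalMax.UnitFour
import Cfsg.Agent.Lib.ClassicalMax.QuadFour
import Cfsg.Agent.Lib.ExtFieldMax.Matrix
import Cfsg.Agent.Lib.ClassicalMax.OrthSix.C6Max
import Cfsg.Agent.Lib.ClassicalMax.OrthSix.CardR

set_option autoImplicit false
open Cfsg

namespace Cfsg.Agent.S5780

/-- Maximal subgroups of SL_4(q) of geometric type, for a finite field F with q elements (any q). Each of the following subgroups of GL_4(F), intersected with SL_4(F), is a maximal subgroup of SL_4(F): (1) the stabiliser of any proper non-zero subspace of F^4; (2) for q ≥ 7, the stabiliser of any decomposition of F^4 into four independent lines; (3) for q ≥ 4, the stabiliser of any decomposition of F^4 into two independent planes; (4) the normaliser of any degree-2 subfield of the 4 × 4 matrix algebra over F; (5) every subfield group for a subfield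 F₀ with |F| = |F₀|^r, r prime; (6) for q = p prime with p ≡ 1 mod 4, the normaliser of any absolutely irreducible 2-subgroup R of exponent 4 with centre of order 4, all of whose characteristic abelian subgroups are cyclic, of order 2^(2+2m) for some m (here |R| = 64), with 4 dividing p − 1; (7) for q odd, the group of similarities of any non-degenerate quadratic form on F^4 (of either sign); (8) the group of similarities of any non-degenerate symplectic form on F^4; (9) the group of similarities of any non-degenerate unitary form on F^4. -/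
theorem result {F : Type*} [Field F] [Fintype F] :
    (∀ W : Submodule F (Fin 4 → F), W ≠ ⊥ → W ≠ ⊤ → Cfsg.Geo.IsMaximalIn (Cfsg.Geo.specialLinear (Fin 4) F) (Cfsg.Geo.subspaceStabilizer W ⊓ Cfsg.Geo.specialLinear (Fin 4) F)) ∧
    (7 ≤ Fintype.card F → ∀ D : Fin 4 → Submodule F (Fin 4 → F), Cfsg.Geo.IsMDecomposition 1 D → Cfsg.Geo.IsMaximalIn (Cfsg.Geo.specialLinear (Fin 4) F) (Cfsg.Geo.decompositionStabilizer D ⊓ Cfsg.Geo.specialLinear (Fin 4) F)) ∧
    (4 ≤ Fintype.card F → ∀ D : Fin 2 → Submodule F (Fin 4 → F), Cfsg.Geo.IsMDecomposition 2 D → Cfsg.Geo.IsMaximalIn (Cfsg.Geo.specialLinear (Fin 4) F) (Cfsg.Geo.decompositionStabilizer D ⊓ Cfsg.Geo.specialLinear (Fin 4) F)) ∧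
    (∀ K : Subalgebra F (Matrix (Fin 4) (Fin 4) F), Cfsg.Geo.IsFieldSubalgebra 2 K → Cfsg.Geo.IsMaximalIn (Cfsg.Geo.specialLinear (Fin 4) F) (Cfsg.Geo.subalgebraNormalizer K ⊓ Cfsg.Geo.specialLinear (Fin 4) F)) ∧
    (∀ (F₀ : Subfield F) (r : ℕ) (P : Matrix.GeneralLinearGroup (Fin 4) F), r.Prime → Fintype.card F = Nat.card F₀ ^ r → Cfsg.Geo.IsMaximalIn (Cfsg.Geo.specialLinear (Fin 4) F) (Cfsg.Geo.subfieldSubgroup F₀ P ⊓ Cfsg.Geo.specialLinear (Fin 4) F)) ∧
    (∀ (p : ℕ) (R : Subgroup (Matrix.GeneralLinearGroup (Fin 4) F)), p.Prime → Fintype.card F = p → p % 4 = 1 → Cfsg.Geo.IsLinearSymplecticTypeData 2 R → Cfsg.Geo.IsMaximalIn (Cfsg.Geo.specialLinear (Fin 4) F) (Cfsg.Geo.subgroupNormalizer R ⊓ Cfsg.Geo.specialLinear (Fin 4) F)) ∧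
    (Odd (Fintype.card F) → ∀ Q : (Fin 4 → F) → F, Cfsg.Geo.IsNondegenerateQuadraticForm Q → Cfsg.Geo.IsMaximalIn (Cfsg.Geo.specialLinear (Fin 4) F) (Cfsg.Geo.quadSimilarityGroup Q ⊓ Cfsg.Geo.specialLinear (Fin 4) F)) ∧
    (∀ f : (Fin 4 → F) → (Fin 4 → F) → F, Cfsg.Geo.IsSymplecticForm f → Cfsg.Geo.IsMaximalIn (Cfsg.Geo.specialLinear (Fin 4) F) (Cfsg.Geo.similarityGroup f ⊓ Cfsg.Geo.specialLinear (Fin 4) F)) ∧
    (∀ (σ : F ≃+* F) (f : (Fin 4 → F) → (Fin 4 → F) → F), Cfsg.Geo.IsUnitaryForm σ f → Cfsg.Geo.IsMaximalIn (Cfsg.Geo.specialLinear (Fin 4) F) (Cfsg.Geo.similarityGroup f ⊓ Cfsg.Geo.specialLinear (Fin 4) F)) := by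
  classical
  refine ⟨fun W hW hW' => CfsgLib.ClassicalMax.SLGeo.subspace_maximal W hW hW',
    fun hq D hD => CfsgLib.ClassicalMax.DecompFour.decomposition_maximal hD (Fintype.card_fin 4)
      (Or.inl ⟨rfl, hq⟩),
    fun hq D hD => CfsgLib.ClassicalMax.DecompFour.decomposition_maximal hD (Fintype.card_fin 4)
      (Or.inr ⟨rfl, hq⟩),
    fun K hK => ?_,
    fun F₀ r P hr hcard => CfsgLib.ClassicalMax.SLGeo.subfield_maximal le_rfl F₀ r hr hcard P,
    fun p R hp hF hp4 hR => ?_, fun hodd Q hQ => ?_,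
    fun f hf => CfsgLib.ClassicalMax.SLGeo.symplectic_maximal (by norm_num) f hf,
    fun σ f hf => CfsgLib.ClassicalMax.Unit.unitary_similarity_maximal_sl_four hf (Fintype.card_fin 4)⟩
  · exact CfsgLib.ExtFieldMax.isMaximalIn_sl Nat.prime_two ⟨2, rfl⟩ (by norm_num) hK
  · haveI : Fact p.Prime := ⟨hp⟩
    haveI : CharP F p := charP_of_card_eq_prime hF
    have hne : ∀ k : ℕ, k.Prime → k ≠ p → (k : F) ≠ 0 := fun k hk hkp h => by
      rw [CharP.cast_eq_zero_iff F p] at h
      exact hkp ((Nat.prime_dvd_prime_iff_eq hp hk).1 h).symm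
    have h2 : (2 : F) ≠ 0 := by exact_mod_cast hne 2 Nat.prime_two (by omega)
    have h3 : (3 : F) ≠ 0 := by exact_mod_cast hne 3 Nat.prime_three (by omega)
    obtain ⟨hZ, m, hm⟩ : Nat.card (Subgroup.center R) = 4 ∧ ∃ m, Nat.card R = 2 ^ (2 + 2 * m) := by
      obtain ⟨_, e, -, -, h | h | h⟩ := hR.field
      · exact absurd h.1 (by decide)
      · exact ⟨h.2.2.1, h.2.2.2.2⟩
      · simp at h
    exact CfsgLib.ClassicalMax.OmSix.c6_maximal h2 hp hF hp4 hR
      (CfsgLib.ClassicalMax.OmSix.card_eq_sixty_four h2 h3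
        (CfsgLib.TwoSymp.good_of_sympType hR.symplecticType hR.absIrred h2) hZ hm)
  · have h2 : (2 : F) ≠ 0 := by
      intro h2
      haveI : CharP F 2 := CharTwo.of_one_ne_zero_of_two_eq_zero one_ne_zero h2
      have h := FiniteField.even_card_of_char_two (F := F) (ringChar.eq F 2)
      have := Nat.odd_iff.1 hodd
      omega
    let Q' : QuadraticForm F (Fin 4 → F) := QuadraticMap.ofPolar Q
      (fun a x => by rw [hQ.smul, smul_eq_mul]; ring)
      (fun x x' y => hQ.polar_bilinear.add_left x x' y)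
      (fun a x y => hQ.polar_bilinear.smul_left a x y)
    exact CfsgLib.ClassicalMax.QuadFour.similarity_maximal (Q := Q')
      (fun x hx => by
        by_contra h0
        obtain ⟨y, hy⟩ := (hQ.nondegenerate x h0).2
        exact hy (hx y))
      h2 (Fintype.card_fin 4)

end Cfsg.Agent.S5780
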