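import Cfsg.Statements.S5781
import Cfsg.Agent.Lib.Aschbacher.MonomialFive

set_option autoImplicit false
open Cfsg

namespace Cfsg.Agent.S5781

/-- Every maximal subgroup of SL_4(q) is of one of the listed geometric types or lies in the residual class. Let F be a finite field with q elements and H a maximal subgroup of SL_4(F) (inside GL_4(F)). Then H is the intersection with SL_4(F) of one of: the stabiliser of a proper non-zero subspace; for q ≥ 7, the stabiliser of a decomposition into four independent lines; for q ≥ 4, the stabiliser of a decomposition into two independent planes; the normaliser of a degree-2 subfield of the matrix algebra; a subfield group for a subfield F₀ with |F| = |F₀|^r, r prime; for q = p ≡ 1 mod 4 prime, the normaliser of an absolutely irreducible 2-subgroup R of exponent 4 with centre of order 4, all of whose characteristic abelian subgroups are cyclic, of order 2^(2+2m) for some m (here |R| = 64), with 4 dividing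 p − 1; for q odd, the similarity group of a non-degenerate quadratic form; the similarity group of a non-degenerate symplectic form; the similarity group of a non-degenerate unitary form — or else H lies in the residual class of the linear case. -/
theorem result {F : Type*} [Field F] [Fintype F] (H : Subgroup (Matrix.GeneralLinearGroup (Fin 4) F)) (hH : Cfsg.Geo.IsMaximalIn (Cfsg.Geo.specialLinear (Fin 4) F) H) :
    (∃ W : Submodule F (Fin 4 → F), W ≠ ⊥ ∧ W ≠ ⊤ ∧ H = Cfsg.Geo.subspaceStabilizer W ⊓ Cfsg.Geo.specialLinear (Fin 4) F) ∨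
    (7 ≤ Fintype.card F ∧ ∃ D : Fin 4 → Submodule F (Fin 4 → F), Cfsg.Geo.IsMDecomposition 1 D ∧ H = Cfsg.Geo.decompositionStabilizer D ⊓ Cfsg.Geo.specialLinear (Fin 4) F) ∨
    (4 ≤ Fintype.card F ∧ ∃ D : Fin 2 → Submodule F (Fin 4 → F), Cfsg.Geo.IsMDecomposition 2 D ∧ H = Cfsg.Geo.decompositionStabilizer D ⊓ Cfsg.Geo.specialLinear (Fin 4) F) ∨
    (∃ K : Subalgebra F (Matrix (Fin 4) (Fin 4) F), Cfsg.Geo.IsFieldSubalgebra 2 K ∧ H = Cfsg.Geo.subalgebraNormalizer K ⊓ Cfsg.Geo.specialLinear (Fin 4) F) ∨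
    (∃ (F₀ : Subfield F) (r : ℕ) (P : Matrix.GeneralLinearGroup (Fin 4) F), r.Prime ∧ Fintype.card F = Nat.card F₀ ^ r ∧ H = Cfsg.Geo.subfieldSubgroup F₀ P ⊓ Cfsg.Geo.specialLinear (Fin 4) F) ∨
    (∃ (p : ℕ) (R : Subgroup (Matrix.GeneralLinearGroup (Fin 4) F)), p.Prime ∧ Fintype.card F = p ∧ p % 4 = 1 ∧ Cfsg.Geo.IsLinearSymplecticTypeData 2 R ∧ H = Cfsg.Geo.subgroupNormalizer R ⊓ Cfsg.Geo.specialLinear (Fin 4) F) ∨
    (Odd (Fintype.card F) ∧ ∃ Q : (Fin 4 → F) → F, Cfsg.Geo.IsNondegenerateQuadraticForm Q ∧ H = Cfsg.Geo.quadSimilarityGroup Q ⊓ Cfsg.Geo.specialLinear (Fin 4) F) ∨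
    (∃ f : (Fin 4 → F) → (Fin 4 → F) → F, Cfsg.Geo.IsSymplecticForm f ∧ H = Cfsg.Geo.similarityGroup f ⊓ Cfsg.Geo.specialLinear (Fin 4) F) ∨
    (∃ (σ : F ≃+* F) (f : (Fin 4 → F) → (Fin 4 → F) → F), Cfsg.Geo.IsUnitaryForm σ f ∧ H = Cfsg.Geo.similarityGroup f ⊓ Cfsg.Geo.specialLinear (Fin 4) F) ∨
    Cfsg.Geo.InLinearResidualClass H := by
  rcases CfsgLib.Asch.linType_of_maximal (n := 4) (by norm_num) hH with
    ⟨W, h0, h1, he⟩ | ⟨t, m, D, hD, htm, h1, h2, h4, he⟩ | ⟨r, K, hr, hK, hrn, he⟩ | ⟨a, b, e, P, ha, hab, hn', h2, he⟩ |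
      ⟨F₀, r, P, hr, hc, he⟩ | ⟨r, k, R, hR, hk, hrk, he⟩ | ⟨m, t, e, P, hm, ht, hn', he⟩ | ⟨Q, hQ, ho, he⟩ |
      ⟨f, hf, hev, he⟩ | ⟨σ, f, hf, he⟩ | h
  · exact .inl ⟨W, h0, h1, he⟩
  · have ht2 := hD.two_le
    have hm0 := hD.pos
    have htn : t ≤ 4 := htm ▸ Nat.le_mul_of_pos_right t hm0
    obtain ⟨rfl, rfl⟩ | ⟨rfl, rfl⟩ : (t = 2 ∧ m = 2) ∨ (t = 4 ∧ m = 1) := by
      interval_cases t <;> omega
    · exact .inr (.inr (.inl ⟨h4 rfl rfl, D, hD, he⟩))
    · by_cases hq : Fintype.card F = 5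
      · obtain ⟨R, hR, hle⟩ := CfsgLib.Asch.exists_sympType_of_lines hq hD
        exact .inr (.inr (.inr (.inr (.inr (.inl ⟨5, R, by norm_num, hq, by norm_num, hR,
          CfsgLib.Asch.max_eq hH (he.le.trans (hle.trans le_rfl)) (CfsgLib.Asch.sl_not_le_normalizer (by simp) hR)⟩)))))
      · refine .inr (.inl ⟨?_, D, hD, he⟩)
        have h5 := h1 rfl
        by_contra hc
        have hq6 : Fintype.card F = 6 := by omega
        obtain ⟨p, f, hp, -, hf, hcard⟩ := CfsgLib.Asch.exists_prime_pow (F := F)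
        have h6 : p ^ f = 6 := hcard.symm.trans hq6
        have hdv : ∀ d, d.Prime → d ∣ 6 → d = p := fun d hd hd6 =>
          (Nat.prime_dvd_prime_iff_eq hd hp).mp (hd.dvd_of_dvd_pow (h6.symm ▸ hd6))
        have e2 := hdv 2 Nat.prime_two (by norm_num)
        have e3 := hdv 3 Nat.prime_three (by norm_num)
        omega
  · have hrle : r ≤ 4 := Nat.le_of_dvd (by norm_num) hrn
    have hr2 := hr.two_le
    obtain rfl : r = 2 := by
      interval_cases r <;> norm_num at *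
    exact .inr (.inr (.inr (.inl ⟨K, hK, he⟩)))
  · have han : a ≤ 4 := hn' ▸ Nat.le_mul_of_pos_right a (by omega)
    exfalso
    interval_cases a <;> omega
  · exact .inr (.inr (.inr (.inr (.inl ⟨F₀, r, P, hr, hc, he⟩))))
  · have hr := hR.symplecticType.prime
    have hrn : r ∣ 4 := hrk ▸ dvd_pow_self r (by omega)
    have hrle : r ≤ 4 := Nat.le_of_dvd (by norm_num) hrn
    have hr2 := hr.two_le
    obtain rfl : r = 2 := by interval_cases r <;> norm_num at *
    obtain ⟨p, e, hp, hchar, hcard, hcases⟩ := CfsgLib.Asch.sympType_congr hR (by simp)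
    rcases hcases with ⟨hodd, -⟩ | ⟨-, rfl, hp4⟩
    · exact absurd hodd (by decide)
    · exact .inr (.inr (.inr (.inr (.inr (.inl ⟨p, R, hp, by rw [hcard, pow_one], hp4, hR, he⟩)))))
  · exfalso
    have hm2 : m ^ 2 ≤ m ^ t := Nat.pow_le_pow_right (by omega) ht
    nlinarith
  · exact .inr (.inr (.inr (.inr (.inr (.inr (.inl ⟨ho, Q, hQ, he⟩))))))
  · exact .inr (.inr (.inr (.inr (.inr (.inr (.inr (.inl ⟨f, hf, he⟩)))))))
  · exact .inr (.inr (.inr (.inr (.inr (.inr (.inr (.inr (.inl ⟨σ, f, hf, he⟩))))))))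
  · exact .inr (.inr (.inr (.inr (.inr (.inr (.inr (.inr (.inr h))))))))

end Cfsg.Agent.S5781
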