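import Cfsg.Statements.S5783
import Cfsg.Agent.Lib.ClassicalMax.UnitFourPoint
import Cfsg.Agent.Lib.ClassicalMax.UnitFourDecomp.Mono
import Cfsg.Agent.Lib.ClassicalMax.UnitFourDecomp.Blocks
import Cfsg.Agent.Lib.ClassicalMax.UnitFourDecomp.Pair
import Cfsg.Agent.Lib.ClassicalMax.UnitSubFour.Clauses
import Cfsg.Agent.Lib.ClassicalMax.UnitOrthFour.Max
import Cfsg.Agent.Lib.ClassicalMax.OrthSix.UnitC6
import Cfsg.Agent.Lib.ClassicalMax.UnitStd

set_option autoImplicit false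
open Cfsg

namespace Cfsg.Agent.S5783

/-- Maximal subgroups of SU_4(q) of geometric type (any prime power q). Let F be the field with q² elements, f the standard unitary form Σ u_i v_i^q on F^4 and SU_4(q) its determinant-one isometry group inside GL_4(F). Each of the following, intersected with SU_4(q), is a maximal subgroup of SU_4(q): (1) the stabiliser of any non-zero subspace on which f vanishes identically (totally isotropic 1-spaces and 2-spaces); (2) the stabiliser of any non-degenerate 1-space; (3) for q ≠ 3, the stabiliser of any decomposition of F^4 into four mutually orthogonal non-degenerate 1-spaces; (4) for q ≥ 3, the stabiliser of any decomposition into two mutually orthogonal non-degenerate 2-spaces; (5) for q ≥ 4, the stabiliser of any decomposition into two totally isotropic 2-spaces; (6) every subfield group for a subfield F₀ of odd prime index in F whose F₀-structure carries f; (7) every subfield group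 for the subfield F₀ of index 2 whose F₀-structure carries ζ f for a non-zero ζ with ζ + ζ^q = 0, vanishing on pairs (u, u) (the symplectic type); (8) for q odd with q ≥ 5, every subfield group for the subfield F₀ of index 2 whose F₀-structure carries f (the orthogonal types, either sign); (9) for q = p prime with p ≡ 3 mod 4, the normaliser of any absolutely irreducible 2-group R of symplectic type and exponent 4 with |R| = 64 and centre of order 4, consisting of isometries of f. -/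
theorem result {F : Type*} [Field F] [Fintype F] (q : ℕ) (hF : Fintype.card F = q ^ 2) :
    (∀ W : Submodule F (Fin 4 → F), W ≠ ⊥ → Cfsg.Geo.IsTotallySingularFor (Cfsg.hermForm 4 F q) W → Cfsg.Geo.IsMaximalIn (Cfsg.GU 4 F q ⊓ Cfsg.Geo.specialLinear (Fin 4) F) (Cfsg.Geo.subspaceStabilizer W ⊓ (Cfsg.GU 4 F q ⊓ Cfsg.Geo.specialLinear (Fin 4) F))) ∧
    (∀ W : Submodule F (Fin 4 → F), W ≠ ⊥ → Cfsg.Geo.IsNondegenerateOn (Cfsg.hermForm 4 F q) W → 2 * Module.finrank F W < 4 → Cfsg.Geo.IsMaximalIn (Cfsg.GU 4 F q ⊓ Cfsg.Geo.specialLinear (Fin 4) F) (Cfsg.Geo.subspaceStabilizer W ⊓ (Cfsg.GU 4 F q ⊓ Cfsg.Geo.specialLinear (Fin 4) F))) ∧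
    (q ≠ 3 → ∀ D : Fin 4 → Submodule F (Fin 4 → F), Cfsg.Geo.IsNondegenerateMDecomposition (Cfsg.hermForm 4 F q) 1 D → Cfsg.Geo.IsMaximalIn (Cfsg.GU 4 F q ⊓ Cfsg.Geo.specialLinear (Fin 4) F) (Cfsg.Geo.decompositionStabilizer D ⊓ (Cfsg.GU 4 F q ⊓ Cfsg.Geo.specialLinear (Fin 4) F))) ∧
    (3 ≤ q → ∀ D : Fin 2 → Submodule F (Fin 4 → F), Cfsg.Geo.IsNondegenerateMDecomposition (Cfsg.hermForm 4 F q) 2 D → Cfsg.Geo.IsMaximalIn (Cfsg.GU 4 F q ⊓ Cfsg.Geo.specialLinear (Fin 4) F) (Cfsg.Geo.decompositionStabilizer D ⊓ (Cfsg.GU 4 F q ⊓ Cfsg.Geo.specialLinear (Fin 4) F))) ∧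
    (4 ≤ q → ∀ D : Fin 2 → Submodule F (Fin 4 → F), Cfsg.Geo.IsMDecomposition 2 D → (∀ i, Cfsg.Geo.IsTotallySingularFor (Cfsg.hermForm 4 F q) (D i)) → Cfsg.Geo.IsMaximalIn (Cfsg.GU 4 F q ⊓ Cfsg.Geo.specialLinear (Fin 4) F) (Cfsg.Geo.decompositionStabilizer D ⊓ (Cfsg.GU 4 F q ⊓ Cfsg.Geo.specialLinear (Fin 4) F))) ∧
    (∀ (F₀ : Subfield F) (r : ℕ) (P : Matrix.GeneralLinearGroup (Fin 4) F), r.Prime → Odd r → Fintype.card F = Nat.card F₀ ^ r → Cfsg.Geo.IsFormRationalStructure (Cfsg.hermForm 4 F q) F₀ 1 P → Cfsg.Geo.IsMaximalIn (Cfsg.GU 4 F q ⊓ Cfsg.Geo.specialLinear (Fin 4) F) (Cfsg.Geo.subfieldSubgroup F₀ P ⊓ (Cfsg.GU 4 F q ⊓ Cfsg.Geo.specialLinear (Fin 4) F))) ∧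
    (∀ (F₀ : Subfield F) (P : Matrix.GeneralLinearGroup (Fin 4) F) (ζ : F), Fintype.card F = Nat.card F₀ ^ 2 → ζ ≠ 0 → ζ + ζ ^ q = 0 → Cfsg.Geo.IsFormRationalStructure (Cfsg.hermForm 4 F q) F₀ ζ P → (∀ u : Fin 4 → F, (∀ i, u i ∈ F₀) → (Cfsg.hermForm 4 F q) (Matrix.mulVec (P : Matrix (Fin 4) (Fin 4) F) u) (Matrix.mulVec (P : Matrix (Fin 4) (Fin 4) F) u) = 0) → Cfsg.Geo.IsMaximalIn (Cfsg.GU 4 F q ⊓ Cfsg.Geo.specialLinear (Fin 4) F) (Cfsg.Geo.subfieldSubgroup F₀ P ⊓ (Cfsg.GU 4 F q ⊓ Cfsg.Geo.specialLinear (Fin 4) F))) ∧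
    (Odd q → 5 ≤ q → ∀ (F₀ : Subfield F) (P : Matrix.GeneralLinearGroup (Fin 4) F), Fintype.card F = Nat.card F₀ ^ 2 → Cfsg.Geo.IsFormRationalStructure (Cfsg.hermForm 4 F q) F₀ 1 P → Cfsg.Geo.IsMaximalIn (Cfsg.GU 4 F q ⊓ Cfsg.Geo.specialLinear (Fin 4) F) (Cfsg.Geo.subfieldSubgroup F₀ P ⊓ (Cfsg.GU 4 F q ⊓ Cfsg.Geo.specialLinear (Fin 4) F))) ∧
    (∀ (p : ℕ) (R : Subgroup (Matrix.GeneralLinearGroup (Fin 4) F)), p.Prime → q = p → p % 4 = 3 → Cfsg.Geo.IsSymplecticTypeGroup 2 R → Cfsg.Geo.ActsAbsolutelyIrreducibly (Cfsg.Geo.matrixSet R) → R ≤ Cfsg.GU 4 F q → Nat.card R = 64 → Nat.card (Subgroup.center R) = 4 → Cfsg.Geo.IsMaximalIn (Cfsg.GU 4 F q ⊓ Cfsg.Geo.specialLinear (Fin 4) F) (Cfsg.Geo.subgroupNormalizer R ⊓ (Cfsg.GU 4 F q ⊓ Cfsg.Geo.specialLinear (Fin 4) F))) := by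
  classical
  obtain ⟨σ, hσ, h2, hne⟩ := CfsgLib.ClassicalMax.Unit.exists_powEquiv hF
  have hf := CfsgLib.ClassicalMax.Unit.isUnitaryForm_hermForm hF 4 hσ hne
  have hqq : CfsgLib.ClassicalMax.UDec.qq σ = q := by
    have h := CfsgLib.ClassicalMax.UDec.card_F hne h2
    rw [hF] at h
    exact (Nat.pow_left_injective two_ne_zero h).symm
  refine ⟨?_, ?_, ?_, ?_, ?_, ?_, ?_, ?_, ?_⟩
  · intro W hW0 hW
    rw [CfsgLib.ClassicalMax.Unit.GU_eq_isoOf]
    exact CfsgLib.ClassicalMax.Unit.singular_stabilizer_maximal_four hf (by simp) W hW0 hW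
  · intro W hW0 hW hd
    rw [CfsgLib.ClassicalMax.Unit.GU_eq_isoOf]
    have h0 : Module.finrank F W ≠ 0 := fun h => hW0 (Submodule.finrank_eq_zero.1 h)
    exact CfsgLib.ClassicalMax.Unit.point_stabilizer_maximal_four hf (by simp) W hW (by omega)
  · intro hq D hD
    rw [CfsgLib.ClassicalMax.Unit.GU_eq_isoOf]
    exact CfsgLib.ClassicalMax.UDec.mono_maximal hf hD (by simp) (hqq.symm ▸ hq)
  · intro hq D hD
    rw [CfsgLib.ClassicalMax.Unit.GU_eq_isoOf]
    exact CfsgLib.ClassicalMax.UDec.blocks_maximal hf hD (by simp) le_rfl (fun _ => by omega)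
  · intro hq D hD hts
    rw [CfsgLib.ClassicalMax.Unit.GU_eq_isoOf]
    have hcompl : IsCompl (D 0) (D 1) := by
      refine ⟨?_, ?_⟩
      · exact hD.indep.pairwiseDisjoint (by decide : (0 : Fin 2) ≠ 1)
      · rw [codisjoint_iff, ← hD.iSup_eq_top]
        exact le_antisymm (sup_le (le_iSup D 0) (le_iSup D 1))
          (iSup_le fun i => by fin_cases i; exacts [le_sup_left, le_sup_right])
    have P : CfsgLib.ClassicalMax.Unit.PairFour.IsPair σ (Cfsg.hermForm 4 F q) (D 0) (D 1) := {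
      hf := hf
      tsA := hts 0
      tsB := hts 1
      split := fun x => Submodule.mem_sup.1 (by rw [hcompl.sup_eq_top]; trivial)
      disj := hcompl.inf_eq_bot
      dimA := by rw [hD.finrank_eq]
      dimB := by rw [hD.finrank_eq] }
    refine CfsgLib.ClassicalMax.Unit.PairFour.pair_stabilizer_maximal P (by simp) ?_ rfl rfl
    have hK : 4 ≤ Nat.card (CfsgLib.ClassicalMax.Unit.fixedField σ) := by
      have : Nat.card (CfsgLib.ClassicalMax.Unit.fixedField σ) = q := hqq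
      omega
    by_contra hall
    push_neg at hall
    haveI := Fintype.ofFinite (CfsgLib.ClassicalMax.Unit.fixedField σ)
    rw [Nat.card_eq_fintype_card] at hK
    have hsub : (Finset.univ.image fun x : CfsgLib.ClassicalMax.Unit.fixedField σ => (x : F)) ⊆
        ({0, 1, -1} : Finset F) := by
      intro b hb
      obtain ⟨x, -, rfl⟩ := Finset.mem_image.1 hb
      by_cases hx0 : (x : F) = 0
      · simp [hx0]
      · rcases mul_self_eq_one_iff.1 (hall _ hx0 (CfsgLib.ClassicalMax.Unit.mem_fixedField.1 x.2)) with h | h <;>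
          simp [h]
    have h3 := (Finset.card_le_card hsub).trans Finset.card_le_three
    rw [Finset.card_image_of_injective _ Subtype.val_injective, Finset.card_univ] at h3
    omega
  · intro F₀ r P hr hro hcard hP
    exact CfsgLib.ClassicalMax.UnitFour4.su_four_subfield_odd hF F₀ r P hr hro hcard hP
  · intro F₀ P ζ hcard hζ0 hζ hP halt
    exact CfsgLib.ClassicalMax.UnitFour4.su_four_subfield_symp hF F₀ P ζ hcard hζ0 hζ hP halt
  · intro hodd hq F₀ P hcard hP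
    exact CfsgLib.ClassicalMax.UnitOrth4.su_four_subfield_orth hF hodd hq F₀ P hcard hP
  · intro p R hp hqp hp4 hR hirr hRU hcard hZ
    exact CfsgLib.ClassicalMax.OmSix.U4.su_four_C6_maximal hF p R hp hqp hp4 hR hirr hRU hcard hZ

end Cfsg.Agent.S5783
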