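import Cfsg.Statements.S5784
import Cfsg.Agent.Lib.Aschbacher.SuArith
import Cfsg.Agent.Lib.Aschbacher.SuFourPair
import Cfsg.Agent.Lib.Aschbacher.SuFourLines
import Cfsg.Agent.Lib.Aschbacher.FormFinal

set_option autoImplicit false
open Cfsg

namespace Cfsg.Agent.S5784

/-- Every maximal subgroup of SU_4(q) is of one of the listed geometric types or lies in the residual class. Let F be the field with q² elements, f the standard unitary form Σ u_i v_i^q on F^4, and H a maximal subgroup of SU_4(q) (inside GL_4(F)). Then H is the intersection with SU_4(q) of one of: the stabiliser of a non-zero subspace on which f vanishes; the stabiliser of a non-degenerate 1-space; for q ≠ 3, the stabiliser of a decomposition into four mutually orthogonal non-degenerate 1-spaces; for q ≥ 3, of a decomposition into two orthogonal non-degenerate 2-spaces; for q ≥ 4, of a decomposition into two totally isotropic 2-spaces;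 a subfield group of odd prime index whose F₀-structure carries f; a subfield group of index 2 whose F₀-structure carries ζ f, vanishing on pairs (u, u), for some non-zero ζ with ζ + ζ^q = 0; for q odd, a subfield group of index 2 whose F₀-structure carries f; for q = p ≡ 3 mod 4 prime, the normaliser of an absolutely irreducible symplectic-type 2-group of exponent 4, order 64 and centre of order 4 inside the similarity group of f — or else H lies in the residual class of the unitary case. -/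
theorem result {F : Type*} [Field F] [Fintype F] (q : ℕ) (hF : Fintype.card F = q ^ 2) (H : Subgroup (Matrix.GeneralLinearGroup (Fin 4) F)) (hH : Cfsg.Geo.IsMaximalIn (Cfsg.GU 4 F q ⊓ Cfsg.Geo.specialLinear (Fin 4) F) H) :
    (∃ W : Submodule F (Fin 4 → F), W ≠ ⊥ ∧ Cfsg.Geo.IsTotallySingularFor (Cfsg.hermForm 4 F q) W ∧ H = Cfsg.Geo.subspaceStabilizer W ⊓ (Cfsg.GU 4 F q ⊓ Cfsg.Geo.specialLinear (Fin 4) F)) ∨
    (∃ W : Submodule F (Fin 4 → F), W ≠ ⊥ ∧ Cfsg.Geo.IsNondegenerateOn (Cfsg.hermForm 4 F q) W ∧ 2 * Module.finrank F W < 4 ∧ H = Cfsg.Geo.subspaceStabilizer W ⊓ (Cfsg.GU 4 F q ⊓ Cfsg.Geo.specialLinear (Fin 4) F)) ∨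
    (q ≠ 3 ∧ ∃ D : Fin 4 → Submodule F (Fin 4 → F), Cfsg.Geo.IsNondegenerateMDecomposition (Cfsg.hermForm 4 F q) 1 D ∧ H = Cfsg.Geo.decompositionStabilizer D ⊓ (Cfsg.GU 4 F q ⊓ Cfsg.Geo.specialLinear (Fin 4) F)) ∨
    (3 ≤ q ∧ ∃ D : Fin 2 → Submodule F (Fin 4 → F), Cfsg.Geo.IsNondegenerateMDecomposition (Cfsg.hermForm 4 F q) 2 D ∧ H = Cfsg.Geo.decompositionStabilizer D ⊓ (Cfsg.GU 4 F q ⊓ Cfsg.Geo.specialLinear (Fin 4) F)) ∨
    (4 ≤ q ∧ ∃ D : Fin 2 → Submodule F (Fin 4 → F), Cfsg.Geo.IsMDecomposition 2 D ∧ (∀ i, Cfsg.Geo.IsTotallySingularFor (Cfsg.hermForm 4 F q) (D i)) ∧ H = Cfsg.Geo.decompositionStabilizer D ⊓ (Cfsg.GU 4 F q ⊓ Cfsg.Geo.specialLinear (Fin 4) F)) ∨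
    (∃ (F₀ : Subfield F) (r : ℕ) (P : Matrix.GeneralLinearGroup (Fin 4) F), r.Prime ∧ Odd r ∧ Fintype.card F = Nat.card F₀ ^ r ∧ Cfsg.Geo.IsFormRationalStructure (Cfsg.hermForm 4 F q) F₀ 1 P ∧ H = Cfsg.Geo.subfieldSubgroup F₀ P ⊓ (Cfsg.GU 4 F q ⊓ Cfsg.Geo.specialLinear (Fin 4) F)) ∨
    (∃ (F₀ : Subfield F) (P : Matrix.GeneralLinearGroup (Fin 4) F) (ζ : F), Fintype.card F = Nat.card F₀ ^ 2 ∧ ζ ≠ 0 ∧ ζ + ζ ^ q = 0 ∧ Cfsg.Geo.IsFormRationalStructure (Cfsg.hermForm 4 F q) F₀ ζ P ∧ (∀ u : Fin 4 → F, (∀ i, u i ∈ F₀) → (Cfsg.hermForm 4 F q) (Matrix.mulVec (P : Matrix (Fin 4) (Fin 4) F) u) (Matrix.mulVec (P : Matrix (Fin 4) (Fin 4) F) u) = 0) ∧ H = Cfsg.Geo.subfieldSubgroup F₀ P ⊓ (Cfsg.GU 4 F q ⊓ Cfsg.Geo.specialLinear (Fin 4) F)) ∨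
    (Odd q ∧ ∃ (F₀ : Subfield F) (P : Matrix.GeneralLinearGroup (Fin 4) F), Fintype.card F = Nat.card F₀ ^ 2 ∧ Cfsg.Geo.IsFormRationalStructure (Cfsg.hermForm 4 F q) F₀ 1 P ∧ H = Cfsg.Geo.subfieldSubgroup F₀ P ⊓ (Cfsg.GU 4 F q ⊓ Cfsg.Geo.specialLinear (Fin 4) F)) ∨
    (∃ (p : ℕ) (R : Subgroup (Matrix.GeneralLinearGroup (Fin 4) F)), p.Prime ∧ q = p ∧ p % 4 = 3 ∧ Cfsg.Geo.IsSymplecticTypeGroup 2 R ∧ Cfsg.Geo.ActsAbsolutelyIrreducibly (Cfsg.Geo.matrixSet R) ∧ R ≤ Cfsg.Geo.similarityGroup (Cfsg.hermForm 4 F q) ∧ Nat.card R = 64 ∧ Nat.card (Subgroup.center R) = 4 ∧ H = Cfsg.Geo.subgroupNormalizer R ⊓ (Cfsg.GU 4 F q ⊓ Cfsg.Geo.specialLinear (Fin 4) F)) ∨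
    Cfsg.Geo.InUnitaryResidualClass H := by
  classical
  obtain ⟨σ, hσ, -, hne⟩ := CfsgLib.ClassicalMax.Unit.exists_powEquiv hF
  have hf := CfsgLib.ClassicalMax.Unit.isUnitaryForm_hermForm hF 4 hσ hne
  have hq2 := CfsgLib.ClassicalMax.Unit.two_le_of_card_eq_sq hF
  rcases CfsgLib.Asch.suType_of_case hF (n := 4) (by norm_num) (by norm_num) (by norm_num) hH
      (CfsgLib.Asch.unitCase_of_le hF (by norm_num) (hH.1.le.trans inf_le_left)) with
    ⟨W, h0, hs, he⟩ | ⟨W, h0, hnd, hd, he⟩ | ⟨t, k, D, ht, hk, htk, h2, hD, he⟩ | ⟨k, D, hk, hD, hs, he⟩ |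
      ⟨r, K, hr, hro, hrn, hK, hadj, he⟩ |
      ⟨n₁, n₂, e, P, f₁, f₂, h₁, h₁₂, hn, h2, hf₁, hf₂, hstr, he⟩ |
      ⟨k, t, e, P, f₁, hk, ht, hn, h3, hf₁, hstr, he⟩ |
      ⟨F₀, r, P, hr, hro, hc, hrat, he⟩ | ⟨F₀, P, hqo, hc, hrat, he⟩ |
      ⟨F₀, P, ζ, hne', hc, hζ, hζq, hrat, halt, he⟩ |
      ⟨r, R, p, j, k, hR, hirr, hsim, hp, hchar, hrp, hq, hk, hn, hj, hdiv, hmin, hcase, he⟩ | h
  · exact .inl ⟨W, h0, hs, he⟩
  · exact .inr (.inl ⟨W, h0, hnd, hd, he⟩)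
  · have hcs : (t = 4 ∧ k = 1) ∨ (t = 2 ∧ k = 2) := by
      have : t ≤ 4 := by rw [← htk]; exact Nat.le_mul_of_pos_right t hk
      interval_cases t <;> omega
    rcases hcs with ⟨rfl, rfl⟩ | ⟨rfl, rfl⟩
    · by_cases h3 : q = 3
      · exfalso
        obtain ⟨K, h1, h2'⟩ := CfsgLib.Asch.FourLines.not_maximal (by rw [hF, h3]; norm_num)
          (fun a => by rw [hσ, h3]) hf hD
        rw [← CfsgLib.ClassicalMax.Unit.GU_eq_isoOf, ← he] at h1
        rw [← CfsgLib.ClassicalMax.Unit.GU_eq_isoOf] at h2'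
        exact CfsgLib.Asch.maximal_elim hH h1 h2'
      · exact .inr (.inr (.inl ⟨h3, D, hD, he⟩))
    · exact .inr (.inr (.inr (.inl ⟨h2 rfl, D, hD, he⟩)))
  · obtain rfl : k = 2 := by omega
    by_cases h4 : 4 ≤ q
    · exact .inr (.inr (.inr (.inr (.inl ⟨h4, D, hD, hs, he⟩))))
    · have hN : ∀ a : F, σ a = a → a ≠ 0 → a * a = 1 := fun a ha ha0 => by
        rw [hσ] at ha
        rcases (show q = 2 ∨ q = 3 by omega) with rfl | rfl
        · have : a = 1 := mul_left_cancel₀ ha0 (by linear_combination ha)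
          rw [this, one_mul]
        · exact mul_left_cancel₀ ha0 (by linear_combination ha)
      obtain ⟨F₀, P, ζ, hc, htop, hζ, hζσ, hrat, halt, hle⟩ :=
        CfsgLib.Asch.SuPair.subfieldSymp_of_pair hf hN (Fintype.card_fin 4) hD hs
      rw [← CfsgLib.ClassicalMax.Unit.GU_eq_isoOf, ← he] at hle
      refine .inr (.inr (.inr (.inr (.inr (.inr (.inl ⟨F₀, P, ζ, hc, hζ, ?_, hrat, halt,
        CfsgLib.Asch.max_eq_inf hH hle (CfsgLib.Asch.su_not_le_subfield hf (by simp) htop P)⟩))))))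
      rw [← hσ, hζσ, add_neg_cancel]
  · exfalso
    have := Nat.le_of_dvd (by norm_num) hrn
    obtain ⟨i, rfl⟩ := hro
    have : i ≤ 2 := by omega
    interval_cases i <;> first | (norm_num at hr; done) | omega
  · exfalso
    have : n₁ ≤ 4 := by rw [← hn]; exact Nat.le_mul_of_pos_right n₁ (by omega)
    interval_cases n₁ <;> omega
  · exfalso
    have := Nat.pow_le_pow_right (show 1 ≤ k by omega) ht
    nlinarith
  · exact .inr (.inr (.inr (.inr (.inr (.inl ⟨F₀, r, P, hr, hro, hc, hrat, he⟩)))))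
  · exact .inr (.inr (.inr (.inr (.inr (.inr (.inr (.inl ⟨hqo, F₀, P, hc, hrat, he⟩)))))))
  · exact .inr (.inr (.inr (.inr (.inr (.inr (.inl ⟨F₀, P, ζ, hc, hζ, hζq, hrat, halt, he⟩))))))
  · have hrd : r ∣ 4 := hn ▸ dvd_pow_self r (by omega)
    have := Nat.le_of_dvd (by norm_num) hrd
    have hr := hR.prime
    have hcs : r = 2 := by interval_cases r <;> first | (norm_num at hr; done) | omega
    subst hcs
    obtain rfl : k = 2 := Nat.pow_right_injective (le_refl 2) (hn.trans (by norm_num))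
    rcases hcase with ⟨ho, -, -⟩ | ⟨-, rfl, hz, hcd⟩
    · exact absurd ho (by decide)
    rw [hz] at hmin
    exact .inr (.inr (.inr (.inr (.inr (.inr (.inr (.inr (.inl ⟨p, R, hp, hq.trans (pow_one p), CfsgLib.Asch.symp_exp_two hp hrp hmin, hR, hirr, hsim, hcd.trans (by norm_num), hz, he⟩))))))))
  · exact .inr (.inr (.inr (.inr (.inr (.inr (.inr (.inr (.inr h))))))))

end Cfsg.Agent.S5784
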