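import Cfsg.Statements.S5787
import Cfsg.Agent.Lib.Aschbacher.SpFourThree
import Cfsg.Agent.Lib.Aschbacher.FormFinal

set_option autoImplicit false
open Cfsg

namespace Cfsg.Agent.S5787

/-- Every maximal subgroup of Sp_4(q), q odd, is of one of the listed geometric types or lies in the residual class. Let F be a finite field of odd order q, f the standard alternating form on F^4 (coordinates Fin 2 ⊕ Fin 2), and H a maximal subgroup of the isometry group Sp_4(F) (inside GL_4(F)). Then H is the intersection with Sp_4(F) of one of: the stabiliser of a non-zero totally isotropic subspace; the stabiliser of a decomposition into two orthogonal non-degenerate 2-spaces; for q ≥ 5, of a decomposition into two totally isotropic 2-spaces; the normaliser of a degree-2 subfield K of the matrix algebra, self-adjoint with f(k v, v) = 0; for q ≥ 5, the normaliser of a degree-2 subfield closed under adjoints but not self-adjoint;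 a subfield group whose F₀-structure carries a non-zero multiple of f, |F| = |F₀|^r with r prime; for q = p prime, the normaliser of an absolutely irreducible symplectic-type 2-group of exponent 4, order 32, centre of order 2 and minus type inside the similarity group of f — or else H lies in the residual class of the symplectic case. -/
theorem result {F : Type*} [Field F] [Fintype F] (hodd : Odd (Fintype.card F)) (H : Subgroup (Matrix.GeneralLinearGroup (Fin 2 ⊕ Fin 2) F)) (hH : Cfsg.Geo.IsMaximalIn (Cfsg.spGL 2 F) H) :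
    (∃ W : Submodule F (Fin 2 ⊕ Fin 2 → F), W ≠ ⊥ ∧ Cfsg.Geo.IsTotallySingularFor (Cfsg.sympForm 2 F) W ∧ H = Cfsg.Geo.subspaceStabilizer W ⊓ Cfsg.spGL 2 F) ∨
    (∃ D : Fin 2 → Submodule F (Fin 2 ⊕ Fin 2 → F), Cfsg.Geo.IsNondegenerateMDecomposition (Cfsg.sympForm 2 F) 2 D ∧ H = Cfsg.Geo.decompositionStabilizer D ⊓ Cfsg.spGL 2 F) ∨
    (5 ≤ Fintype.card F ∧ ∃ D : Fin 2 → Submodule F (Fin 2 ⊕ Fin 2 → F), Cfsg.Geo.IsMDecomposition 2 D ∧ (∀ i, Cfsg.Geo.IsTotallySingularFor (Cfsg.sympForm 2 F) (D i)) ∧ H = Cfsg.Geo.decompositionStabilizer D ⊓ Cfsg.spGL 2 F) ∨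
    (∃ K : Subalgebra F (Matrix (Fin 2 ⊕ Fin 2) (Fin 2 ⊕ Fin 2) F), Cfsg.Geo.IsFieldSubalgebra 2 K ∧ Cfsg.Geo.IsSelfAdjointFor (Cfsg.sympForm 2 F) K ∧ (∀ k ∈ K, ∀ v : (Fin 2 ⊕ Fin 2 → F), (Cfsg.sympForm 2 F) (Matrix.mulVec k v) v = 0) ∧ H = Cfsg.Geo.subalgebraNormalizer K ⊓ Cfsg.spGL 2 F) ∨
    (5 ≤ Fintype.card F ∧ ∃ K : Subalgebra F (Matrix (Fin 2 ⊕ Fin 2) (Fin 2 ⊕ Fin 2) F), Cfsg.Geo.IsFieldSubalgebra 2 K ∧ Cfsg.Geo.IsAdjointClosedFor (Cfsg.sympForm 2 F) K ∧ ¬ Cfsg.Geo.IsSelfAdjointFor (Cfsg.sympForm 2 F) K ∧ H = Cfsg.Geo.subalgebraNormalizer K ⊓ Cfsg.spGL 2 F) ∨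
    (∃ (F₀ : Subfield F) (r : ℕ) (P : Matrix.GeneralLinearGroup (Fin 2 ⊕ Fin 2) F) (ζ : F), r.Prime ∧ Fintype.card F = Nat.card F₀ ^ r ∧ ζ ≠ 0 ∧ Cfsg.Geo.IsFormRationalStructure (Cfsg.sympForm 2 F) F₀ ζ P ∧ H = Cfsg.Geo.subfieldSubgroup F₀ P ⊓ Cfsg.spGL 2 F) ∨
    (∃ (p : ℕ) (R : Subgroup (Matrix.GeneralLinearGroup (Fin 2 ⊕ Fin 2) F)), p.Prime ∧ Fintype.card F = p ∧ Cfsg.Geo.IsSymplecticTypeGroup 2 R ∧ Cfsg.Geo.ActsAbsolutelyIrreducibly (Cfsg.Geo.matrixSet R) ∧ R ≤ Cfsg.Geo.similarityGroup (Cfsg.sympForm 2 F) ∧ Nat.card R = 32 ∧ Nat.card (Subgroup.center R) = 2 ∧ Cfsg.Geo.IsOfMinusType 2 R ∧ H = Cfsg.Geo.subgroupNormalizer R ⊓ Cfsg.spGL 2 F) ∨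
    Cfsg.Geo.InSymplecticResidualClass H := by
  classical
  have hiso : Cfsg.spGL 2 F = CfsgLib.ClassicalMax.isoOf (Cfsg.sympForm 2 F) := CfsgLib.ClassicalMax.spGL_eq_isoOf 2 F
  have hf := CfsgLib.ClassicalMax.isSymplecticForm_sympForm 2 F
  have h3 : 3 ≤ Fintype.card F := by
    obtain ⟨j, hj⟩ := hodd
    have := Fintype.one_lt_card (α := F)
    omega
  rcases CfsgLib.Asch.spType_of_case (m := 2) (by norm_num) (by norm_num) (fun _ => h3) hH
      (CfsgLib.Asch.sympCase_of_le (by norm_num) hH.1.le) with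
    ⟨W, h0, hs, he⟩ | ⟨W, h0, hnd, hd, hev, he⟩ | ⟨t, k, D, hk, hev, ht, htk, h2, hD, he⟩ |
      ⟨D, -, hD, hs, he⟩ | ⟨r, K, hr, hK, hrm, hself, hskew, he⟩ | ⟨K, -, hK, hadj, hns, he⟩ |
      ⟨n₁, n₂, e, P, f₁, f₂, -, h₁, h₁e, h₂, hn, h5, hf₁, hf₂, hstr, he⟩ |
      ⟨F₀, r, P, ζ, hr, hc, hζ, hrat, he⟩ | ⟨R, p, k, hR, hirr, hsim, hp, hpo, hF, hcd, hz, hminus, hk, he⟩ |
      ⟨Q, heven, hQ, hpol, he⟩ | ⟨e, P, f₁, hm, -, -, -, -, -⟩ | h
  · exact .inl ⟨W, h0, hs, he⟩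
  · exfalso
    obtain ⟨j, hj⟩ := hev
    have : Module.finrank F W ≠ 0 := fun h => h0 (Submodule.finrank_eq_zero.mp h)
    omega
  · have hcs : t = 2 ∧ k = 2 := by
      have : t ≤ 2 := by
        by_contra hc
        nlinarith [Nat.mul_le_mul (show 3 ≤ t by omega) hk]
      obtain ⟨j, rfl⟩ := hev
      interval_cases t <;> omega
    obtain ⟨rfl, rfl⟩ := hcs
    exact .inr (.inl ⟨D, hD, he⟩)
  · by_cases h5 : 5 ≤ Fintype.card F
    · exact .inr (.inr (.inl ⟨h5, D, hD, hs, he⟩))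
    · have hq : Fintype.card F = 3 := by
        obtain ⟨j, hj⟩ := hodd
        omega
      obtain ⟨D', hD', hle⟩ := CfsgLib.Asch.SpFour.pair_decomposition hq hf hD hs
      rw [← hiso, ← he] at hle
      refine .inr (.inl ⟨D', hD', CfsgLib.Asch.max_eq_in hH hle ?_⟩)
      rw [hiso]
      exact (CfsgLib.Asch.spTvSys hf).not_le_decomposition le_rfl hD'.decomp
  · obtain rfl : r = 2 := (Nat.prime_dvd_prime_iff_eq hr (by norm_num)).mp hrm
    exact .inr (.inr (.inr (.inl ⟨K, hK, hself, hskew, he⟩)))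
  · by_cases h5 : 5 ≤ Fintype.card F
    · exact .inr (.inr (.inr (.inr (.inl ⟨h5, K, hK, hadj, hns, he⟩))))
    · exfalso
      have hq : Fintype.card F = 3 := by
        obtain ⟨j, hj⟩ := hodd
        omega
      obtain ⟨M, hM1, hM2⟩ := CfsgLib.Asch.SpFour.adjField_not_maximal hq (by simp) hf
        (CfsgLib.Asch.sp_dichotomy (.inr ⟨rfl, h3⟩)) hK hadj hns
      rw [← hiso, ← he] at hM1
      rw [← hiso] at hM2
      exact (hH.2 M hM1.le hM2.le).elim (fun h => hM1.ne h.symm) (fun h => hM2.ne h)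
  · exfalso
    have : n₁ ≤ 1 := by
      by_contra hc
      nlinarith [Nat.mul_le_mul (show 2 ≤ n₁ by omega) h₂]
    omega
  · exact .inr (.inr (.inr (.inr (.inr (.inl ⟨F₀, r, P, ζ, hr, hc, hζ, hrat, he⟩)))))
  · obtain rfl : k = 2 := Nat.pow_right_injective (le_refl 2) (hk.trans (by norm_num))
    exact .inr (.inr (.inr (.inr (.inr (.inr (.inl ⟨p, R, hp, hF, hR, hirr, hsim, hcd.trans (by norm_num), hz, hminus, he⟩))))))
  · exact absurd hodd heven
  · exact absurd hm (by norm_num)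
  · exact .inr (.inr (.inr (.inr (.inr (.inr (.inr h))))))

end Cfsg.Agent.S5787
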