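import Cfsg.Statements.S5790
import Cfsg.Agent.Lib.Aschbacher.SpList
import Cfsg.Agent.Lib.Aschbacher.FormFinal

set_option autoImplicit false
open Cfsg

namespace Cfsg.Agent.S5790

/-- Every maximal subgroup of Sp_4(q), q ≥ 4 even, is of one of the listed geometric types or lies in the residual class. Let F be a finite field of even order q ≥ 4, f the standard alternating form on F^4 (coordinates Fin 2 ⊕ Fin 2), and H a maximal subgroup of Sp_4(F) (inside GL_4(F)). Then H is the intersection with Sp_4(F) of one of: the stabiliser of a non-zero totally isotropic subspace; the stabiliser of a decomposition into two orthogonal non-degenerate 2-spaces; the normaliser of a degree-2 subfield K of the matrix algebra, self-adjoint with f(k v, v) = 0; a subfield group whose F₀-structure carries a non-zero multiple of f, |F| = |F₀|^r with r prime; the similarity group of a non-degenerate quadratic form whose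 polar form is f — or else H lies in the residual class of the symplectic case. -/
theorem result {F : Type*} [Field F] [Fintype F] (heven : ¬ Odd (Fintype.card F)) (h4 : 4 ≤ Fintype.card F) (H : Subgroup (Matrix.GeneralLinearGroup (Fin 2 ⊕ Fin 2) F)) (hH : Cfsg.Geo.IsMaximalIn (Cfsg.spGL 2 F) H) :
    (∃ W : Submodule F (Fin 2 ⊕ Fin 2 → F), W ≠ ⊥ ∧ Cfsg.Geo.IsTotallySingularFor (Cfsg.sympForm 2 F) W ∧ H = Cfsg.Geo.subspaceStabilizer W ⊓ Cfsg.spGL 2 F) ∨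
    (∃ D : Fin 2 → Submodule F (Fin 2 ⊕ Fin 2 → F), Cfsg.Geo.IsNondegenerateMDecomposition (Cfsg.sympForm 2 F) 2 D ∧ H = Cfsg.Geo.decompositionStabilizer D ⊓ Cfsg.spGL 2 F) ∨
    (∃ K : Subalgebra F (Matrix (Fin 2 ⊕ Fin 2) (Fin 2 ⊕ Fin 2) F), Cfsg.Geo.IsFieldSubalgebra 2 K ∧ Cfsg.Geo.IsSelfAdjointFor (Cfsg.sympForm 2 F) K ∧ (∀ k ∈ K, ∀ v : (Fin 2 ⊕ Fin 2 → F), (Cfsg.sympForm 2 F) (Matrix.mulVec k v) v = 0) ∧ H = Cfsg.Geo.subalgebraNormalizer K ⊓ Cfsg.spGL 2 F) ∨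
    (∃ (F₀ : Subfield F) (r : ℕ) (P : Matrix.GeneralLinearGroup (Fin 2 ⊕ Fin 2) F) (ζ : F), r.Prime ∧ Fintype.card F = Nat.card F₀ ^ r ∧ ζ ≠ 0 ∧ Cfsg.Geo.IsFormRationalStructure (Cfsg.sympForm 2 F) F₀ ζ P ∧ H = Cfsg.Geo.subfieldSubgroup F₀ P ⊓ Cfsg.spGL 2 F) ∨
    (∃ Q : (Fin 2 ⊕ Fin 2 → F) → F, Cfsg.Geo.IsNondegenerateQuadraticForm Q ∧ (∀ u v : (Fin 2 ⊕ Fin 2 → F), QuadraticMap.polar Q u v = (Cfsg.sympForm 2 F) u v) ∧ H = Cfsg.Geo.quadSimilarityGroup Q ⊓ Cfsg.spGL 2 F) ∨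
    Cfsg.Geo.InSymplecticResidualClass H := by
  rcases CfsgLib.Asch.spType_of_case (m := 2) (by norm_num) (by norm_num) (fun _ => by omega) hH
      (CfsgLib.Asch.sympCase_of_le (by norm_num) hH.1.le) with
    ⟨W, h0, hs, he⟩ | ⟨W, h0, hnd, hd, hev, he⟩ | ⟨t, k, D, hk, hev, ht, htk, h2, hD, he⟩ |
      ⟨D, hodd, hD, hs, he⟩ | ⟨r, K, hr, hK, hrm, hself, hskew, he⟩ | ⟨K, hodd, hK, hadj, hns, he⟩ |
      ⟨n₁, n₂, e, P, f₁, f₂, hodd, h₁, h₁e, h₂, hn, h3, hf₁, hf₂, hstr, he⟩ |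
      ⟨F₀, r, P, ζ, hr, hc, hζ, hrat, he⟩ | ⟨R, p, k, hR, hirr, hsim, hp, hpo, hF, hcd, hz, hminus, hk, he⟩ |
      ⟨Q, -, hQ, hpol, he⟩ | ⟨e, P, f₁, hm, -, -, -, -, -⟩ | h
  · exact .inl (⟨W, h0, hs, he⟩)
  · exfalso
    obtain ⟨j, hj⟩ := hev
    have : Module.finrank F W ≠ 0 := fun h => h0 (Submodule.finrank_eq_zero.mp h)
    omega
  · have hcs : (t = 2 ∧ k = 2) := by
      have : t ≤ 2 := by
        by_contra hc
        nlinarith [Nat.mul_le_mul (show 2+1 ≤ t by omega) hk]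
      obtain ⟨j, rfl⟩ := hev
      interval_cases t <;> omega
    rcases hcs with ⟨rfl, rfl⟩
    · exact .inr (.inl (⟨D, hD, he⟩))
  · exact absurd hodd heven
  · obtain rfl : r = 2 := (Nat.prime_dvd_prime_iff_eq hr (by norm_num)).mp hrm
    exact .inr (.inr (.inl (⟨K, hK, hself, hskew, he⟩)))
  · exact absurd hodd heven
  · exact absurd hodd heven
  · exact .inr (.inr (.inr (.inl (⟨F₀, r, P, ζ, hr, hc, hζ, hrat, he⟩))))
  · exact absurd (hF ▸ hpo) heven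
  · exact .inr (.inr (.inr (.inr (.inl (⟨Q, hQ, hpol, he⟩)))))
  · exact absurd hm (by norm_num)
  · exact .inr (.inr (.inr (.inr (.inr ((h))))))

end Cfsg.Agent.S5790
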