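import Cfsg.Statements.S5793
import Cfsg.Agent.Lib.Aschbacher.Cases

set_option autoImplicit false
open Cfsg

namespace Cfsg.Agent.S5793

/-- Every maximal subgroup of SL_5(q) is of one of the listed geometric types or lies in the residual class. Let F be a finite field with q elements (p its characteristic) and H a maximal subgroup of SL_5(F) (inside GL_5(F)). Then H is the intersection with SL_5(F) of one of: the stabiliser of a proper non-zero subspace; for q ≥ 5, the stabiliser of a decomposition into 5 independent 1-spaces; the normaliser of a degree-5 subfield of the matrix algebra; a subfield group for a subfield F₀ with |F| = |F₀|^r, r prime; for q = p prime with p ≡ 1 mod 5, the normaliser of an absolutely irreducible 5-subgroup R of exponent 5 and order 5^(1+2m) with centre of order 5, all of whose characteristic abelian subgroups are cyclic, F being the smallest field of characteristic p containing the fifth roots of unity (here R is extraspecial of order 125); for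 q odd, the similarity group of a non-degenerate quadratic form; the similarity group of a non-degenerate unitary form — or else H lies in the residual class of the linear case (modulo scalars H is almost simple, with absolutely irreducible perfect socle preimage realisable over no proper subfield and fixing no non-degenerate quadratic, symplectic or unitary form). -/
theorem result {F : Type*} [Field F] [Fintype F] (H : Subgroup (Matrix.GeneralLinearGroup (Fin 5) F)) (hH : Cfsg.Geo.IsMaximalIn (Cfsg.Geo.specialLinear (Fin 5) F) H) :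
    (∃ W : Submodule F (Fin 5 → F), W ≠ ⊥ ∧ W ≠ ⊤ ∧ H = Cfsg.Geo.subspaceStabilizer W ⊓ Cfsg.Geo.specialLinear (Fin 5) F) ∨
    (5 ≤ Fintype.card F ∧ ∃ D : Fin 5 → Submodule F (Fin 5 → F), Cfsg.Geo.IsMDecomposition 1 D ∧ H = Cfsg.Geo.decompositionStabilizer D ⊓ Cfsg.Geo.specialLinear (Fin 5) F) ∨
    (∃ K : Subalgebra F (Matrix (Fin 5) (Fin 5) F), Cfsg.Geo.IsFieldSubalgebra 5 K ∧ H = Cfsg.Geo.subalgebraNormalizer K ⊓ Cfsg.Geo.specialLinear (Fin 5) F) ∨
    (∃ (F₀ : Subfield F) (r : ℕ) (P : Matrix.GeneralLinearGroup (Fin 5) F), r.Prime ∧ Fintype.card F = Nat.card F₀ ^ r ∧ H = Cfsg.Geo.subfieldSubgroup F₀ P ⊓ Cfsg.Geo.specialLinear (Fin 5) F) ∨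
    ((∃ p : ℕ, p.Prime ∧ Fintype.card F = p ∧ (p % 5 = 1)) ∧ ∃ R : Subgroup (Matrix.GeneralLinearGroup (Fin 5) F), Cfsg.Geo.IsLinearSymplecticTypeData 5 R ∧ H = Cfsg.Geo.subgroupNormalizer R ⊓ Cfsg.Geo.specialLinear (Fin 5) F) ∨
    (Odd (Fintype.card F) ∧ ∃ Q : (Fin 5 → F) → F, Cfsg.Geo.IsNondegenerateQuadraticForm Q ∧ H = Cfsg.Geo.quadSimilarityGroup Q ⊓ Cfsg.Geo.specialLinear (Fin 5) F) ∨
    (∃ (σ : F ≃+* F) (f : (Fin 5 → F) → (Fin 5 → F) → F), Cfsg.Geo.IsUnitaryForm σ f ∧ H = Cfsg.Geo.similarityGroup f ⊓ Cfsg.Geo.specialLinear (Fin 5) F) ∨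
    Cfsg.Geo.InLinearResidualClass H := by
  rcases CfsgLib.Asch.linType_of_maximal (n := 5) (by norm_num) hH with
    ⟨W, h0, h1, he⟩ | ⟨t, m, D, hD, htm, h1, h2, -, he⟩ | ⟨r, K, hr, hK, hrn, he⟩ | ⟨a, b, e, P, ha, hab, hn', h2, he⟩ |
      ⟨F₀, r, P, hr, hc, he⟩ | ⟨r, k, R, hR, hk, hrk, he⟩ | ⟨m, t, e, P, hm, ht, hn', he⟩ | ⟨Q, hQ, ho, he⟩ |
      ⟨f, hf, hev, he⟩ | ⟨σ, f, hf, he⟩ | h
  · exact .inl ⟨W, h0, h1, he⟩
  · have ht2 := hD.two_le
    have hm0 := hD.pos
    have htn : t ≤ 5 := htm ▸ Nat.le_mul_of_pos_right t hm0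
    obtain ⟨rfl, rfl⟩ : (t = 5 ∧ m = 1) := by
      interval_cases t <;> omega
    exact .inr (.inl ⟨h1 rfl, D, hD, he⟩)
  · have hrle : r ≤ 5 := Nat.le_of_dvd (by norm_num) hrn
    have hr2 := hr.two_le
    obtain rfl : r = 5 := by
      interval_cases r <;> norm_num at *
    exact .inr (.inr (.inl ⟨K, hK, he⟩))
  · have han : a ≤ 5 := hn' ▸ Nat.le_mul_of_pos_right a (by omega)
    exfalso
    interval_cases a <;> omega
  · exact .inr (.inr (.inr (.inl ⟨F₀, r, P, hr, hc, he⟩)))
  · have hr := hR.symplecticType.prime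
    have hrn : r ∣ 5 := hrk ▸ dvd_pow_self r (by omega)
    have hrle : r ≤ 5 := Nat.le_of_dvd (by norm_num) hrn
    have hr2 := hr.two_le
    obtain rfl : r = 5 := by interval_cases r <;> norm_num at *
    obtain ⟨p, e, hp, hchar, hcard, hcases⟩ := CfsgLib.Asch.sympType_congr hR (by simp)
    rcases hcases with ⟨-, he', hlt, hpr, hone, hmin⟩ | ⟨h2', -⟩
    swap
    · exact absurd h2' (by norm_num)
    have hpl : p % 5 < 5 := Nat.mod_lt _ (by norm_num)
    obtain ⟨rfl, hp1⟩ : e = 1 ∧ p % 5 = 1 := by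
      have h1 := hmin 1
      generalize p % 5 = x at *
      interval_cases e <;> interval_cases x <;> simp_all (config := {decide := true})
    exact .inr (.inr (.inr (.inr (.inl ⟨⟨p, hp, by rw [hcard, pow_one], hp1⟩, R, hR, he⟩))))
  · have hm2 : m ^ 2 ≤ m ^ t := Nat.pow_le_pow_right (by omega) ht
    have hmle : m ≤ 3 := by nlinarith
    obtain rfl : m = 3 := by omega
    have htn : t < 5 := hn' ▸ Nat.lt_pow_self (by norm_num)
    exfalso
    interval_cases t <;> norm_num at *
  · exact .inr (.inr (.inr (.inr (.inr (.inl ⟨ho, Q, hQ, he⟩)))))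
  · exact absurd hev (by decide)
  · exact .inr (.inr (.inr (.inr (.inr (.inr (.inl ⟨σ, f, hf, he⟩))))))
  · exact .inr (.inr (.inr (.inr (.inr (.inr (.inr (h)))))))

end Cfsg.Agent.S5793
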