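import Cfsg.Statements.S5799
import Cfsg.Agent.Lib.Aschbacher.Cases

set_option autoImplicit false
open Cfsg

namespace Cfsg.Agent.S5799

/-- Every maximal subgroup of SL_6(q) is of one of the listed geometric types or lies in the residual class. Let F be a finite field with q elements (p its characteristic) and H a maximal subgroup of SL_6(F) (inside GL_6(F)). Then H is the intersection with SL_6(F) of one of: the stabiliser of a proper non-zero subspace; for q ≥ 5, the stabiliser of a decomposition into 6 independent 1-spaces; for q ≥ 3, the stabiliser of a decomposition into 3 independent 2-spaces; the stabiliser of a decomposition into 2 independent 3-spaces; the normaliser of a degree-2 subfield of the matrix algebra; the normaliser of a degree-3 subfield of the matrix algebra; for q ≥ 3, the stabiliser of a tensor decomposition F^2 ⊗ F^3; a subfield group for a subfield F₀ with |F| = |F₀|^r, r prime; for q odd, the similarity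 group of a non-degenerate quadratic form; the similarity group of a non-degenerate symplectic form; the similarity group of a non-degenerate unitary form — or else H lies in the residual class of the linear case (modulo scalars H is almost simple, with absolutely irreducible perfect socle preimage realisable over no proper subfield and fixing no non-degenerate quadratic, symplectic or unitary form). -/
theorem result {F : Type*} [Field F] [Fintype F] (H : Subgroup (Matrix.GeneralLinearGroup (Fin 6) F)) (hH : Cfsg.Geo.IsMaximalIn (Cfsg.Geo.specialLinear (Fin 6) F) H) :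
    (∃ W : Submodule F (Fin 6 → F), W ≠ ⊥ ∧ W ≠ ⊤ ∧ H = Cfsg.Geo.subspaceStabilizer W ⊓ Cfsg.Geo.specialLinear (Fin 6) F) ∨
    (5 ≤ Fintype.card F ∧ ∃ D : Fin 6 → Submodule F (Fin 6 → F), Cfsg.Geo.IsMDecomposition 1 D ∧ H = Cfsg.Geo.decompositionStabilizer D ⊓ Cfsg.Geo.specialLinear (Fin 6) F) ∨
    (3 ≤ Fintype.card F ∧ ∃ D : Fin 3 → Submodule F (Fin 6 → F), Cfsg.Geo.IsMDecomposition 2 D ∧ H = Cfsg.Geo.decompositionStabilizer D ⊓ Cfsg.Geo.specialLinear (Fin 6) F) ∨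
    (∃ D : Fin 2 → Submodule F (Fin 6 → F), Cfsg.Geo.IsMDecomposition 3 D ∧ H = Cfsg.Geo.decompositionStabilizer D ⊓ Cfsg.Geo.specialLinear (Fin 6) F) ∨
    (∃ K : Subalgebra F (Matrix (Fin 6) (Fin 6) F), Cfsg.Geo.IsFieldSubalgebra 2 K ∧ H = Cfsg.Geo.subalgebraNormalizer K ⊓ Cfsg.Geo.specialLinear (Fin 6) F) ∨
    (∃ K : Subalgebra F (Matrix (Fin 6) (Fin 6) F), Cfsg.Geo.IsFieldSubalgebra 3 K ∧ H = Cfsg.Geo.subalgebraNormalizer K ⊓ Cfsg.Geo.specialLinear (Fin 6) F) ∨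
    (3 ≤ Fintype.card F ∧ ∃ (e : Fin 6 ≃ Fin 2 × Fin 3) (P : Matrix.GeneralLinearGroup (Fin 6) F), H = Cfsg.Geo.tensorProductSubgroup 2 3 e P ⊓ Cfsg.Geo.specialLinear (Fin 6) F) ∨
    (∃ (F₀ : Subfield F) (r : ℕ) (P : Matrix.GeneralLinearGroup (Fin 6) F), r.Prime ∧ Fintype.card F = Nat.card F₀ ^ r ∧ H = Cfsg.Geo.subfieldSubgroup F₀ P ⊓ Cfsg.Geo.specialLinear (Fin 6) F) ∨
    (Odd (Fintype.card F) ∧ ∃ Q : (Fin 6 → F) → F, Cfsg.Geo.IsNondegenerateQuadraticForm Q ∧ H = Cfsg.Geo.quadSimilarityGroup Q ⊓ Cfsg.Geo.specialLinear (Fin 6) F) ∨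
    (∃ f : (Fin 6 → F) → (Fin 6 → F) → F, Cfsg.Geo.IsSymplecticForm f ∧ H = Cfsg.Geo.similarityGroup f ⊓ Cfsg.Geo.specialLinear (Fin 6) F) ∨
    (∃ (σ : F ≃+* F) (f : (Fin 6 → F) → (Fin 6 → F) → F), Cfsg.Geo.IsUnitaryForm σ f ∧ H = Cfsg.Geo.similarityGroup f ⊓ Cfsg.Geo.specialLinear (Fin 6) F) ∨
    Cfsg.Geo.InLinearResidualClass H := by
  rcases CfsgLib.Asch.linType_of_maximal (n := 6) (by norm_num) hH with
    ⟨W, h0, h1, he⟩ | ⟨t, m, D, hD, htm, h1, h2, -, he⟩ | ⟨r, K, hr, hK, hrn, he⟩ | ⟨a, b, e, P, ha, hab, hn', h2, he⟩ |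
      ⟨F₀, r, P, hr, hc, he⟩ | ⟨r, k, R, hR, hk, hrk, he⟩ | ⟨m, t, e, P, hm, ht, hn', he⟩ | ⟨Q, hQ, ho, he⟩ |
      ⟨f, hf, hev, he⟩ | ⟨σ, f, hf, he⟩ | h
  · exact .inl ⟨W, h0, h1, he⟩
  · have ht2 := hD.two_le
    have hm0 := hD.pos
    have htn : t ≤ 6 := htm ▸ Nat.le_mul_of_pos_right t hm0
    obtain ⟨rfl, rfl⟩ | ⟨rfl, rfl⟩ | ⟨rfl, rfl⟩ : (t = 2 ∧ m = 3) ∨ (t = 3 ∧ m = 2) ∨ (t = 6 ∧ m = 1) := by
      interval_cases t <;> omega
    · exact .inr (.inr (.inr (.inl ⟨D, hD, he⟩)))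
    · exact .inr (.inr (.inl ⟨h2 rfl, D, hD, he⟩))
    · exact .inr (.inl ⟨h1 rfl, D, hD, he⟩)
  · have hrle : r ≤ 6 := Nat.le_of_dvd (by norm_num) hrn
    have hr2 := hr.two_le
    obtain rfl | rfl : r = 2 ∨ r = 3 := by
      interval_cases r <;> norm_num at *
    · exact .inr (.inr (.inr (.inr (.inl ⟨K, hK, he⟩))))
    · exact .inr (.inr (.inr (.inr (.inr (.inl ⟨K, hK, he⟩)))))
  · have han : a ≤ 6 := hn' ▸ Nat.le_mul_of_pos_right a (by omega)
    obtain ⟨rfl, rfl⟩ : (a = 2 ∧ b = 3) := by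
      interval_cases a <;> omega
    exact .inr (.inr (.inr (.inr (.inr (.inr (.inl ⟨h2 rfl, e, P, he⟩))))))
  · exact .inr (.inr (.inr (.inr (.inr (.inr (.inr (.inl ⟨F₀, r, P, hr, hc, he⟩)))))))
  · have hr := hR.symplecticType.prime
    have hrn : r ∣ 6 := hrk ▸ dvd_pow_self r (by omega)
    have hrle : r ≤ 6 := Nat.le_of_dvd (by norm_num) hrn
    have hr2 := hr.two_le
    exfalso
    have hkn : k < 6 := hrk ▸ Nat.lt_pow_self hr.one_lt
    interval_cases r <;> interval_cases k <;> norm_num at *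
  · have hm2 : m ^ 2 ≤ m ^ t := Nat.pow_le_pow_right (by omega) ht
    have hmle : m ≤ 3 := by nlinarith
    obtain rfl : m = 3 := by omega
    have htn : t < 6 := hn' ▸ Nat.lt_pow_self (by norm_num)
    exfalso
    interval_cases t <;> norm_num at *
  · exact .inr (.inr (.inr (.inr (.inr (.inr (.inr (.inr (.inl ⟨ho, Q, hQ, he⟩))))))))
  · exact .inr (.inr (.inr (.inr (.inr (.inr (.inr (.inr (.inr (.inl ⟨f, hf, he⟩)))))))))
  · exact .inr (.inr (.inr (.inr (.inr (.inr (.inr (.inr (.inr (.inr (.inl ⟨σ, f, hf, he⟩))))))))))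
  · exact .inr (.inr (.inr (.inr (.inr (.inr (.inr (.inr (.inr (.inr (.inr (h)))))))))))

end Cfsg.Agent.S5799
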