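import Cfsg.Statements.S5802
import Cfsg.Agent.Lib.Aschbacher.SuArith
import Cfsg.Agent.Lib.Aschbacher.SuSixLines
import Cfsg.Agent.Lib.Aschbacher.SuSixField
import Cfsg.Agent.Lib.Aschbacher.SetStab
import Cfsg.Agent.Lib.Aschbacher.FormFinal

set_option autoImplicit false
open Cfsg

namespace Cfsg.Agent.S5802

/-- Every maximal subgroup of SU_6(q) is of one of the listed geometric types or lies in the residual class. Let F be the field with q² elements, f the standard unitary form Σ u_i v_i^q on F^6, and H a maximal subgroup of SU_6(q) (inside GL_6(F)). Then H is the intersection with SU_6(q) of one of: the stabiliser of a non-zero totally isotropic subspace; the stabiliser of a non-degenerate 1- or 2-space; for q ≥ 3, the stabiliser of a decomposition into six mutually orthogonal non-degenerate 1-spaces; for q ≥ 3, of a decomposition into three mutually orthogonal non-degenerate 2-spaces; of a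 decomposition into two orthogonal non-degenerate 3-spaces; of a decomposition into two totally isotropic 3-spaces; for q ≥ 3, the normaliser of an adjoint-closed degree-3 subfield of the matrix algebra; for q ≥ 3, the stabiliser of a tensor decomposition of f into unitary forms on F^2 and F^3; a subfield group of odd prime index whose F₀-structure carries f; a subfield group of index 2 and symplectic type; for q odd, a subfield group of index 2 and orthogonal type — or else H lies in the residual class of the unitary case. -/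
theorem result {F : Type*} [Field F] [Fintype F] (q : ℕ) (hF : Fintype.card F = q ^ 2) (H : Subgroup (Matrix.GeneralLinearGroup (Fin 6) F)) (hH : Cfsg.Geo.IsMaximalIn (Cfsg.GU 6 F q ⊓ Cfsg.Geo.specialLinear (Fin 6) F) H) :
    (∃ W : Submodule F (Fin 6 → F), W ≠ ⊥ ∧ Cfsg.Geo.IsTotallySingularFor (Cfsg.hermForm 6 F q) W ∧ H = Cfsg.Geo.subspaceStabilizer W ⊓ (Cfsg.GU 6 F q ⊓ Cfsg.Geo.specialLinear (Fin 6) F)) ∨
    (∃ W : Submodule F (Fin 6 → F), W ≠ ⊥ ∧ Cfsg.Geo.IsNondegenerateOn (Cfsg.hermForm 6 F q) W ∧ 2 * Module.finrank F W < 6 ∧ H = Cfsg.Geo.subspaceStabilizer W ⊓ (Cfsg.GU 6 F q ⊓ Cfsg.Geo.specialLinear (Fin 6) F)) ∨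
    (3 ≤ q ∧ ∃ D : Fin 6 → Submodule F (Fin 6 → F), Cfsg.Geo.IsNondegenerateMDecomposition (Cfsg.hermForm 6 F q) 1 D ∧ H = Cfsg.Geo.decompositionStabilizer D ⊓ (Cfsg.GU 6 F q ⊓ Cfsg.Geo.specialLinear (Fin 6) F)) ∨
    (3 ≤ q ∧ ∃ D : Fin 3 → Submodule F (Fin 6 → F), Cfsg.Geo.IsNondegenerateMDecomposition (Cfsg.hermForm 6 F q) 2 D ∧ H = Cfsg.Geo.decompositionStabilizer D ⊓ (Cfsg.GU 6 F q ⊓ Cfsg.Geo.specialLinear (Fin 6) F)) ∨
    (∃ D : Fin 2 → Submodule F (Fin 6 → F), Cfsg.Geo.IsNondegenerateMDecomposition (Cfsg.hermForm 6 F q) 3 D ∧ H = Cfsg.Geo.decompositionStabilizer D ⊓ (Cfsg.GU 6 F q ⊓ Cfsg.Geo.specialLinear (Fin 6) F)) ∨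
    (∃ D : Fin 2 → Submodule F (Fin 6 → F), Cfsg.Geo.IsMDecomposition 3 D ∧ (∀ i, Cfsg.Geo.IsTotallySingularFor (Cfsg.hermForm 6 F q) (D i)) ∧ H = Cfsg.Geo.decompositionStabilizer D ⊓ (Cfsg.GU 6 F q ⊓ Cfsg.Geo.specialLinear (Fin 6) F)) ∨
    (3 ≤ q ∧ ∃ K : Subalgebra F (Matrix (Fin 6) (Fin 6) F), Cfsg.Geo.IsFieldSubalgebra 3 K ∧ Cfsg.Geo.IsAdjointClosedFor (Cfsg.hermForm 6 F q) K ∧ H = Cfsg.Geo.subalgebraNormalizer K ⊓ (Cfsg.GU 6 F q ⊓ Cfsg.Geo.specialLinear (Fin 6) F)) ∨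
    (3 ≤ q ∧ ∃ (e : Fin 6 ≃ Fin 2 × Fin 3) (P : Matrix.GeneralLinearGroup (Fin 6) F) (f₁ : (Fin 2 → F) → (Fin 2 → F) → F) (f₂ : (Fin 3 → F) → (Fin 3 → F) → F), Cfsg.Geo.IsUnitaryFormPow q f₁ ∧ Cfsg.Geo.IsUnitaryFormPow q f₂ ∧ Cfsg.Geo.IsTensorFormStructure (fun x : F => x ^ q) (Cfsg.hermForm 6 F q) f₁ f₂ e P ∧ H = Cfsg.Geo.tensorProductSubgroup 2 3 e P ⊓ (Cfsg.GU 6 F q ⊓ Cfsg.Geo.specialLinear (Fin 6) F)) ∨
    (∃ (F₀ : Subfield F) (r : ℕ) (P : Matrix.GeneralLinearGroup (Fin 6) F), r.Prime ∧ Odd r ∧ Fintype.card F = Nat.card F₀ ^ r ∧ Cfsg.Geo.IsFormRationalStructure (Cfsg.hermForm 6 F q) F₀ 1 P ∧ H = Cfsg.Geo.subfieldSubgroup F₀ P ⊓ (Cfsg.GU 6 F q ⊓ Cfsg.Geo.specialLinear (Fin 6) F)) ∨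
    (∃ (F₀ : Subfield F) (P : Matrix.GeneralLinearGroup (Fin 6) F) (ζ : F), Fintype.card F = Nat.card F₀ ^ 2 ∧ ζ ≠ 0 ∧ ζ + ζ ^ q = 0 ∧ Cfsg.Geo.IsFormRationalStructure (Cfsg.hermForm 6 F q) F₀ ζ P ∧ (∀ u : Fin 6 → F, (∀ i, u i ∈ F₀) → (Cfsg.hermForm 6 F q) (Matrix.mulVec (P : Matrix (Fin 6) (Fin 6) F) u) (Matrix.mulVec (P : Matrix (Fin 6) (Fin 6) F) u) = 0) ∧ H = Cfsg.Geo.subfieldSubgroup F₀ P ⊓ (Cfsg.GU 6 F q ⊓ Cfsg.Geo.specialLinear (Fin 6) F)) ∨
    (Odd q ∧ ∃ (F₀ : Subfield F) (P : Matrix.GeneralLinearGroup (Fin 6) F), Fintype.card F = Nat.card F₀ ^ 2 ∧ Cfsg.Geo.IsFormRationalStructure (Cfsg.hermForm 6 F q) F₀ 1 P ∧ H = Cfsg.Geo.subfieldSubgroup F₀ P ⊓ (Cfsg.GU 6 F q ⊓ Cfsg.Geo.specialLinear (Fin 6) F)) ∨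
    Cfsg.Geo.InUnitaryResidualClass H := by
  classical
  obtain ⟨σ, hσ, -, hne⟩ := CfsgLib.ClassicalMax.Unit.exists_powEquiv hF
  have hf := CfsgLib.ClassicalMax.Unit.isUnitaryForm_hermForm hF 6 hσ hne
  have hq2 := CfsgLib.ClassicalMax.Unit.two_le_of_card_eq_sq hF
  rcases CfsgLib.Asch.suType_of_case hF (n := 6) (by norm_num) (by norm_num) (by norm_num) hH
      (CfsgLib.Asch.unitCase_of_le hF (by norm_num) (hH.1.le.trans inf_le_left)) with
    ⟨W, h0, hs, he⟩ | ⟨W, h0, hnd, hd, he⟩ | ⟨t, k, D, ht, hk, htk, h2, hD, he⟩ | ⟨k, D, hk, hD, hs, he⟩ |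
      ⟨r, K, hr, hro, hrn, hK, hadj, he⟩ |
      ⟨n₁, n₂, e, P, f₁, f₂, h₁, h₁₂, hn, h2, hf₁, hf₂, hstr, he⟩ |
      ⟨k, t, e, P, f₁, hk, ht, hn, h3, hf₁, hstr, he⟩ |
      ⟨F₀, r, P, hr, hro, hc, hrat, he⟩ | ⟨F₀, P, hqo, hc, hrat, he⟩ |
      ⟨F₀, P, ζ, hne', hc, hζ, hζq, hrat, halt, he⟩ |
      ⟨r, R, p, j, k, hR, hirr, hsim, hp, hchar, hrp, hq, hk, hn, hj, hdiv, hmin, hcase, he⟩ | h
  · exact .inl ⟨W, h0, hs, he⟩
  · exact .inr (.inl ⟨W, h0, hnd, hd, he⟩)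
  · have hcs : (t = 6 ∧ k = 1) ∨ (t = 3 ∧ k = 2) ∨ (t = 2 ∧ k = 3) := by
      have : t ≤ 6 := by rw [← htk]; exact Nat.le_mul_of_pos_right t hk
      interval_cases t <;> omega
    rcases hcs with ⟨rfl, rfl⟩ | ⟨rfl, rfl⟩ | ⟨rfl, rfl⟩
    · by_cases h3 : 3 ≤ q
      · exact .inr (.inr (.inl ⟨h3, D, hD, he⟩))
      · exfalso
        obtain rfl : q = 2 := by omega
        obtain ⟨K, h1, h2'⟩ := CfsgLib.Asch.SixLines.not_maximal (by rw [hF]; norm_num) hσ hf hD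
        rw [← CfsgLib.ClassicalMax.Unit.GU_eq_isoOf, ← he] at h1
        rw [← CfsgLib.ClassicalMax.Unit.GU_eq_isoOf] at h2'
        exact CfsgLib.Asch.maximal_elim hH h1 h2'
    · exact .inr (.inr (.inr (.inl ⟨h2 rfl, D, hD, he⟩)))
    · exact .inr (.inr (.inr (.inr (.inl ⟨D, hD, he⟩))))
  · obtain rfl : k = 3 := by omega
    exact .inr (.inr (.inr (.inr (.inr (.inl ⟨D, hD, hs, he⟩)))))
  · have hcs : r = 3 := by
      have := Nat.le_of_dvd (by norm_num) hrn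
      obtain ⟨i, rfl⟩ := hro
      have : i ≤ 3 := by omega
      interval_cases i <;> first | (norm_num at hr; done) | omega
    subst hcs
    by_cases h3 : 3 ≤ q
    · exact .inr (.inr (.inr (.inr (.inr (.inr (.inl ⟨h3, K, hK, hadj, he⟩))))))
    · obtain rfl : q = 2 := by omega
      obtain ⟨F₀, P, hc, hrat, halt, hle⟩ :=
        CfsgLib.Asch.SixField.exists_rational (by rw [hF]; norm_num) hK hadj
      rw [← he] at hle
      have htop : F₀ ≠ ⊤ := by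
        intro htop
        rw [htop, show Nat.card (⊤ : Subfield F) = Fintype.card F by
          rw [Nat.card_congr Subfield.topEquiv.toEquiv, Nat.card_eq_fintype_card], hF] at hc
        norm_num at hc
      exact .inr (.inr (.inr (.inr (.inr (.inr (.inr (.inr (.inr (.inl ⟨F₀, P, 1, hc, one_ne_zero, by rw [one_pow]; exact (by have h := FiniteField.cast_card_eq_zero F; rw [hF] at h; push_cast at h; linear_combination mul_self_eq_zero.mp (show ((1 : F) + 1) * (1 + 1) = 0 by linear_combination h)), hrat, halt, CfsgLib.Asch.max_eq_inf hH hle (CfsgLib.Asch.su_not_le_subfield hf (by simp) htop P)⟩)))))))))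
  · obtain ⟨rfl, rfl⟩ : n₁ = 2 ∧ n₂ = 3 := by
      have : n₁ ≤ 6 := by rw [← hn]; exact Nat.le_mul_of_pos_right n₁ (by omega)
      interval_cases n₁ <;> omega
    exact .inr (.inr (.inr (.inr (.inr (.inr (.inr (.inl ⟨h2 rfl, e, P, f₁, f₂, hf₁, hf₂, hstr, he⟩)))))))
  · exfalso
    have htk : t ≤ 2 := by
      by_contra hc
      have := Nat.pow_le_pow_right (show 1 ≤ k by omega) (show 3 ≤ t by omega)
      nlinarith [Nat.mul_le_mul (Nat.mul_le_mul hk hk) hk]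
    obtain rfl : t = 2 := by omega
    have : k ≤ 3 := by nlinarith
    obtain rfl : k = 3 := by omega
    omega
  · exact .inr (.inr (.inr (.inr (.inr (.inr (.inr (.inr (.inl ⟨F₀, r, P, hr, hro, hc, hrat, he⟩))))))))
  · exact .inr (.inr (.inr (.inr (.inr (.inr (.inr (.inr (.inr (.inr (.inl ⟨hqo, F₀, P, hc, hrat, he⟩))))))))))
  · exact .inr (.inr (.inr (.inr (.inr (.inr (.inr (.inr (.inr (.inl ⟨F₀, P, ζ, hc, hζ, hζq, hrat, halt, he⟩)))))))))
  · exfalso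
    have hrd : r ∣ 6 := hn ▸ dvd_pow_self r (by omega)
    have := Nat.le_of_dvd (by norm_num) hrd
    have hr := hR.prime
    have : k ≤ 2 := by
      by_contra hc
      have := Nat.pow_le_pow_right hr.one_le (show 3 ≤ k by omega)
      nlinarith [Nat.pow_le_pow_left hr.two_le 3]
    interval_cases r <;> first | (norm_num at hr; done) | omega | (interval_cases k <;> norm_num at hn)
  · exact .inr (.inr (.inr (.inr (.inr (.inr (.inr (.inr (.inr (.inr (.inr (h)))))))))))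

end Cfsg.Agent.S5802
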