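import Cfsg.Statements.S5805
import Cfsg.Agent.Lib.Aschbacher.SpList
import Cfsg.Agent.Lib.Aschbacher.FormFinal

set_option autoImplicit false
open Cfsg

namespace Cfsg.Agent.S5805

/-- Every maximal subgroup of Sp_6(q) is of one of the listed geometric types or lies in the residual class. Let F be a finite field with q elements, f the standard alternating form on F^6 (coordinates Fin 3 ⊕ Fin 3), and H a maximal subgroup of Sp_6(F) (inside GL_6(F)). Then H is the intersection with Sp_6(F) of one of: the stabiliser of a non-zero totally isotropic subspace; the stabiliser of a non-degenerate 2-space; for q ≥ 3, the stabiliser of a decomposition into three mutually orthogonal non-degenerate 2-spaces; for q odd, of a decomposition into two totally isotropic 3-spaces; the normaliser of a degree-3 subfield K of the matrix algebra, self-adjoint with f(k v, v) = 0; for q odd, the normaliser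 of a degree-2 subfield closed under adjoints but not self-adjoint; for q odd, q ≥ 5, the stabiliser of a tensor decomposition of f into an alternating form on F^2 and a symmetric form on F^3; a subfield group (|F| = |F₀|^r, r prime) whose F₀-structure carries a non-zero multiple of f; for q even, the similarity group of a non-degenerate quadratic form polarising to f — or else H lies in the residual class of the symplectic case. -/
theorem result {F : Type*} [Field F] [Fintype F] (H : Subgroup (Matrix.GeneralLinearGroup (Fin 3 ⊕ Fin 3) F)) (hH : Cfsg.Geo.IsMaximalIn (Cfsg.spGL 3 F) H) :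
    (∃ W : Submodule F (Fin 3 ⊕ Fin 3 → F), W ≠ ⊥ ∧ Cfsg.Geo.IsTotallySingularFor (Cfsg.sympForm 3 F) W ∧ H = Cfsg.Geo.subspaceStabilizer W ⊓ Cfsg.spGL 3 F) ∨
    (∃ W : Submodule F (Fin 3 ⊕ Fin 3 → F), W ≠ ⊥ ∧ Cfsg.Geo.IsNondegenerateOn (Cfsg.sympForm 3 F) W ∧ Module.finrank F W < 3 ∧ H = Cfsg.Geo.subspaceStabilizer W ⊓ Cfsg.spGL 3 F) ∨
    (3 ≤ Fintype.card F ∧ ∃ D : Fin 3 → Submodule F (Fin 3 ⊕ Fin 3 → F), Cfsg.Geo.IsNondegenerateMDecomposition (Cfsg.sympForm 3 F) 2 D ∧ H = Cfsg.Geo.decompositionStabilizer D ⊓ Cfsg.spGL 3 F) ∨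
    (Odd (Fintype.card F) ∧ ∃ D : Fin 2 → Submodule F (Fin 3 ⊕ Fin 3 → F), Cfsg.Geo.IsMDecomposition 3 D ∧ (∀ i, Cfsg.Geo.IsTotallySingularFor (Cfsg.sympForm 3 F) (D i)) ∧ H = Cfsg.Geo.decompositionStabilizer D ⊓ Cfsg.spGL 3 F) ∨
    (∃ K : Subalgebra F (Matrix (Fin 3 ⊕ Fin 3) (Fin 3 ⊕ Fin 3) F), Cfsg.Geo.IsFieldSubalgebra 3 K ∧ Cfsg.Geo.IsSelfAdjointFor (Cfsg.sympForm 3 F) K ∧ (∀ k ∈ K, ∀ v : (Fin 3 ⊕ Fin 3 → F), (Cfsg.sympForm 3 F) (Matrix.mulVec k v) v = 0) ∧ H = Cfsg.Geo.subalgebraNormalizer K ⊓ Cfsg.spGL 3 F) ∨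
    (Odd (Fintype.card F) ∧ ∃ K : Subalgebra F (Matrix (Fin 3 ⊕ Fin 3) (Fin 3 ⊕ Fin 3) F), Cfsg.Geo.IsFieldSubalgebra 2 K ∧ Cfsg.Geo.IsAdjointClosedFor (Cfsg.sympForm 3 F) K ∧ ¬ Cfsg.Geo.IsSelfAdjointFor (Cfsg.sympForm 3 F) K ∧ H = Cfsg.Geo.subalgebraNormalizer K ⊓ Cfsg.spGL 3 F) ∨
    (Odd (Fintype.card F) ∧ 5 ≤ Fintype.card F ∧ ∃ (e : (Fin 3 ⊕ Fin 3) ≃ Fin 2 × Fin 3) (P : Matrix.GeneralLinearGroup (Fin 3 ⊕ Fin 3) F) (f₁ : (Fin 2 → F) → (Fin 2 → F) → F) (f₂ : (Fin 3 → F) → (Fin 3 → F) → F), Cfsg.Geo.IsSymplecticForm f₁ ∧ Cfsg.Geo.IsSymmetricForm f₂ ∧ Cfsg.Geo.IsTensorFormStructure id (Cfsg.sympForm 3 F) f₁ f₂ e P ∧ H = Cfsg.Geo.tensorProductSubgroup 2 3 e P ⊓ Cfsg.spGL 3 F) ∨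
    (∃ (F₀ : Subfield F) (r : ℕ) (P : Matrix.GeneralLinearGroup (Fin 3 ⊕ Fin 3) F) (ζ : F), r.Prime ∧ Fintype.card F = Nat.card F₀ ^ r ∧ ζ ≠ 0 ∧ Cfsg.Geo.IsFormRationalStructure (Cfsg.sympForm 3 F) F₀ ζ P ∧ H = Cfsg.Geo.subfieldSubgroup F₀ P ⊓ Cfsg.spGL 3 F) ∨
    (¬ Odd (Fintype.card F) ∧ ∃ Q : (Fin 3 ⊕ Fin 3 → F) → F, Cfsg.Geo.IsNondegenerateQuadraticForm Q ∧ (∀ u v : (Fin 3 ⊕ Fin 3 → F), QuadraticMap.polar Q u v = (Cfsg.sympForm 3 F) u v) ∧ H = Cfsg.Geo.quadSimilarityGroup Q ⊓ Cfsg.spGL 3 F) ∨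
    Cfsg.Geo.InSymplecticResidualClass H := by
  rcases CfsgLib.Asch.spType_of_case (m := 3) (by norm_num) (by norm_num) (by norm_num) hH
      (CfsgLib.Asch.sympCase_of_le (by norm_num) hH.1.le) with
    ⟨W, h0, hs, he⟩ | ⟨W, h0, hnd, hd, hev, he⟩ | ⟨t, k, D, hk, hev, ht, htk, h2, hD, he⟩ |
      ⟨D, hodd, hD, hs, he⟩ | ⟨r, K, hr, hK, hrm, hself, hskew, he⟩ | ⟨K, hodd, hK, hadj, hns, he⟩ |
      ⟨n₁, n₂, e, P, f₁, f₂, hodd, h₁, h₁e, h₂, hn, h3, hf₁, hf₂, hstr, he⟩ |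
      ⟨F₀, r, P, ζ, hr, hc, hζ, hrat, he⟩ | ⟨R, p, k, hR, hirr, hsim, hp, hpo, hF, hcd, hz, hminus, hk, he⟩ |
      ⟨Q, heven, hQ, hpol, he⟩ | ⟨e, P, f₁, hm, -, -, -, -, -⟩ | h
  · exact .inl (⟨W, h0, hs, he⟩)
  · exact .inr (.inl (⟨W, h0, hnd, hd, he⟩))
  · have hcs : (t = 3 ∧ k = 2) := by
      have : t ≤ 3 := by
        by_contra hc
        nlinarith [Nat.mul_le_mul (show 3+1 ≤ t by omega) hk]
      obtain ⟨j, rfl⟩ := hev
      interval_cases t <;> omega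
    rcases hcs with ⟨rfl, rfl⟩
    · exact .inr (.inr (.inl (⟨h2 rfl, D, hD, he⟩)))
  · exact .inr (.inr (.inr (.inl (⟨hodd, D, hD, hs, he⟩))))
  · obtain rfl : r = 3 := (Nat.prime_dvd_prime_iff_eq hr (by norm_num)).mp hrm
    exact .inr (.inr (.inr (.inr (.inl (⟨K, hK, hself, hskew, he⟩)))))
  · exact .inr (.inr (.inr (.inr (.inr (.inl (⟨hodd, K, hK, hadj, hns, he⟩))))))
  · have hcs : (n₁ = 2 ∧ n₂ = 3) := by
      have : n₁ ≤ 2 := by
        by_contra hc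
        nlinarith [Nat.mul_le_mul (show 2+1 ≤ n₁ by omega) h₂]
      obtain ⟨j, rfl⟩ := h₁e
      have : j ≤ 2 := by omega
      interval_cases j <;> omega
    rcases hcs with ⟨rfl, rfl⟩
    · exact .inr (.inr (.inr (.inr (.inr (.inr (.inl (⟨hodd, h3 rfl, e, P, f₁, f₂, hf₁, hf₂, hstr, he⟩)))))))
  · exact .inr (.inr (.inr (.inr (.inr (.inr (.inr (.inl (⟨F₀, r, P, ζ, hr, hc, hζ, hrat, he⟩))))))))
  · have h4 : k ≤ 4 := by
      by_contra hc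
      have := Nat.pow_le_pow_right (show 1 ≤ 2 by norm_num) (show 5 ≤ k by omega)
      omega
    interval_cases k <;> norm_num at hk
  · exact .inr (.inr (.inr (.inr (.inr (.inr (.inr (.inr (.inl (⟨heven, Q, hQ, hpol, he⟩)))))))))
  · exact absurd hm (by norm_num)
  · exact .inr (.inr (.inr (.inr (.inr (.inr (.inr (.inr (.inr ((h))))))))))

end Cfsg.Agent.S5805
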