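import Cfsg.Statements.S5811
import Cfsg.Agent.Lib.Aschbacher.SuArith
import Cfsg.Agent.Lib.Aschbacher.FormFinal

set_option autoImplicit false
open Cfsg

namespace Cfsg.Agent.S5811

/-- Every maximal subgroup of SU_7(q) is of one of the listed geometric types or lies in the residual class. Let F be the field with q² elements (characteristic p), f the standard unitary form Σ u_i v_i^q on F^7, and H a maximal subgroup of SU_7(q) (inside GL_7(F)). Then H is the intersection with SU_7(q) of one of: the stabiliser of a non-zero totally isotropic subspace; the stabiliser of a non-degenerate 1-, 2- or 3-space; the stabiliser of a decomposition into seven mutually orthogonal non-degenerate 1-spaces; the normaliser of an adjoint-closed degree-7 subfield of the matrix algebra; a subfield group of odd prime index whose F₀-structure carries f; for q odd, a subfield group of index 2 whose F₀-structure carries f; for q = p prime with p ≡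 6 mod 7, or q = p³ with p ≡ 3 or 5 mod 7, the normaliser of an absolutely irreducible 7-group R of exponent 7, order 343 and centre of order 7, all of whose characteristic abelian subgroups are cyclic, contained in the similarity group of f — or else H lies in the residual class of the unitary case (modulo scalars H is almost simple, with absolutely irreducible perfect socle preimage realisable over no proper subfield and fixing no non-degenerate quadratic or symplectic form). -/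
theorem result {F : Type*} [Field F] [Fintype F] (q : ℕ) (hF : Fintype.card F = q ^ 2) (H : Subgroup (Matrix.GeneralLinearGroup (Fin 7) F)) (hH : Cfsg.Geo.IsMaximalIn (Cfsg.GU 7 F q ⊓ Cfsg.Geo.specialLinear (Fin 7) F) H) :
    (∃ W : Submodule F (Fin 7 → F), W ≠ ⊥ ∧ Cfsg.Geo.IsTotallySingularFor (Cfsg.hermForm 7 F q) W ∧ H = Cfsg.Geo.subspaceStabilizer W ⊓ (Cfsg.GU 7 F q ⊓ Cfsg.Geo.specialLinear (Fin 7) F)) ∨
    (∃ W : Submodule F (Fin 7 → F), W ≠ ⊥ ∧ Cfsg.Geo.IsNondegenerateOn (Cfsg.hermForm 7 F q) W ∧ 2 * Module.finrank F W < 7 ∧ H = Cfsg.Geo.subspaceStabilizer W ⊓ (Cfsg.GU 7 F q ⊓ Cfsg.Geo.specialLinear (Fin 7) F)) ∨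
    (∃ D : Fin 7 → Submodule F (Fin 7 → F), Cfsg.Geo.IsNondegenerateMDecomposition (Cfsg.hermForm 7 F q) 1 D ∧ H = Cfsg.Geo.decompositionStabilizer D ⊓ (Cfsg.GU 7 F q ⊓ Cfsg.Geo.specialLinear (Fin 7) F)) ∨
    (∃ K : Subalgebra F (Matrix (Fin 7) (Fin 7) F), Cfsg.Geo.IsFieldSubalgebra 7 K ∧ Cfsg.Geo.IsAdjointClosedFor (Cfsg.hermForm 7 F q) K ∧ H = Cfsg.Geo.subalgebraNormalizer K ⊓ (Cfsg.GU 7 F q ⊓ Cfsg.Geo.specialLinear (Fin 7) F)) ∨
    (∃ (F₀ : Subfield F) (r : ℕ) (P : Matrix.GeneralLinearGroup (Fin 7) F), r.Prime ∧ Odd r ∧ Fintype.card F = Nat.card F₀ ^ r ∧ Cfsg.Geo.IsFormRationalStructure (Cfsg.hermForm 7 F q) F₀ 1 P ∧ H = Cfsg.Geo.subfieldSubgroup F₀ P ⊓ (Cfsg.GU 7 F q ⊓ Cfsg.Geo.specialLinear (Fin 7) F)) ∨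
    (Odd q ∧ ∃ (F₀ : Subfield F) (P : Matrix.GeneralLinearGroup (Fin 7) F), Fintype.card F = Nat.card F₀ ^ 2 ∧ Cfsg.Geo.IsFormRationalStructure (Cfsg.hermForm 7 F q) F₀ 1 P ∧ H = Cfsg.Geo.subfieldSubgroup F₀ P ⊓ (Cfsg.GU 7 F q ⊓ Cfsg.Geo.specialLinear (Fin 7) F)) ∨
    (∃ (p : ℕ) (R : Subgroup (Matrix.GeneralLinearGroup (Fin 7) F)), p.Prime ∧ CharP F p ∧ ((q = p ∧ p % 7 = 6) ∨ (q = p ^ 3 ∧ (p % 7 = 3 ∨ p % 7 = 5))) ∧ Cfsg.Geo.IsSymplecticTypeGroup 7 R ∧ Cfsg.Geo.ActsAbsolutelyIrreducibly (Cfsg.Geo.matrixSet R) ∧ R ≤ Cfsg.Geo.similarityGroup (Cfsg.hermForm 7 F q) ∧ Nat.card R = 343 ∧ Nat.card (Subgroup.center R) = 7 ∧ H = Cfsg.Geo.subgroupNormalizer R ⊓ (Cfsg.GU 7 F q ⊓ Cfsg.Geo.specialLinear (Fin 7) F)) ∨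
    Cfsg.Geo.InUnitaryResidualClass H := by
  rcases CfsgLib.Asch.suType_of_case hF (n := 7) (by norm_num) (by norm_num) (by norm_num) hH
      (CfsgLib.Asch.unitCase_of_le hF (by norm_num) (hH.1.le.trans inf_le_left)) with
    ⟨W, h0, hs, he⟩ | ⟨W, h0, hnd, hd, he⟩ | ⟨t, k, D, ht, hk, htk, h2, hD, he⟩ | ⟨k, D, hk, hD, hs, he⟩ |
      ⟨r, K, hr, hro, hrn, hK, hadj, he⟩ |
      ⟨n₁, n₂, e, P, f₁, f₂, h₁, h₁₂, hn, h2, hf₁, hf₂, hstr, he⟩ |
      ⟨k, t, e, P, f₁, hk, ht, hn, h3, hf₁, hstr, he⟩ |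
      ⟨F₀, r, P, hr, hro, hc, hrat, he⟩ | ⟨F₀, P, hqo, hc, hrat, he⟩ |
      ⟨F₀, P, ζ, hne, hc, hζ, hζq, hrat, halt, he⟩ |
      ⟨r, R, p, j, k, hR, hirr, hsim, hp, hchar, hrp, hq, hk, hn, hj, hdiv, hmin, hcase, he⟩ | h
  · exact .inl (⟨W, h0, hs, he⟩)
  · exact .inr (.inl (⟨W, h0, hnd, hd, he⟩))
  · have hcs : (t = 7 ∧ k = 1) := by
      have : t ≤ 7 := by rw [← htk]; exact Nat.le_mul_of_pos_right t hk
      interval_cases t <;> omega
    rcases hcs with ⟨rfl, rfl⟩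
    · exact .inr (.inr (.inl (⟨D, hD, he⟩)))
  · omega
  · have hcs : r = 7 := by
      have := Nat.le_of_dvd (by norm_num) hrn
      obtain ⟨i, rfl⟩ := hro
      have : i ≤ 3 := by omega
      interval_cases i <;> first | (norm_num at hr; done) | omega
    subst hcs
    exact .inr (.inr (.inr (.inl (⟨K, hK, hadj, he⟩))))
  · have : n₁ ≤ 7 := by rw [← hn]; exact Nat.le_mul_of_pos_right n₁ (by omega)
    exfalso
    interval_cases n₁ <;> omega
  · exfalso
    have htk : t ≤ 2 := by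
      by_contra hc
      have := Nat.pow_le_pow_right (show 1 ≤ k by omega) (show 3 ≤ t by omega)
      nlinarith [Nat.mul_le_mul (Nat.mul_le_mul hk hk) hk]
    obtain rfl : t = 2 := by omega
    have : k ≤ 3 := by nlinarith
    obtain rfl : k = 3 := by omega
    omega
  · exact .inr (.inr (.inr (.inr (.inl (⟨F₀, r, P, hr, hro, hc, hrat, he⟩)))))
  · exact .inr (.inr (.inr (.inr (.inr (.inl (⟨hqo, F₀, P, hc, hrat, he⟩))))))
  · exact absurd hne (by decide)
  · have hrd : r ∣ 7 := hn ▸ dvd_pow_self r (by omega)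
    have := Nat.le_of_dvd (by norm_num) hrd
    have hr := hR.prime
    have hcs : r = 7 := by interval_cases r <;> first | (norm_num at hr; done) | omega
    subst hcs
    obtain rfl : k = 1 := Nat.pow_right_injective (le_of_eq_of_le rfl (by norm_num)) (hn.trans (by norm_num))
    rcases hcase with ⟨-, hz, hcd⟩ | ⟨h, -⟩
    swap
    · exact absurd h (by decide)
    rw [hz] at hdiv hmin
    have hcs : (q = p ∧ p % 7 = 6) ∨ (q = p ^ 3 ∧ (p % 7 = 3 ∨ p % 7 = 5)) := by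
      rcases CfsgLib.Asch.symp_exp_seven hp hrp hj hdiv hmin with ⟨rfl, h⟩ | ⟨rfl, h⟩
      · exact .inl ⟨hq.trans (pow_one p), h⟩
      · exact .inr ⟨hq, h⟩
    exact .inr (.inr (.inr (.inr (.inr (.inr (.inl (⟨p, R, hp, hchar, hcs, hR, hirr, hsim, hcd.trans (by norm_num), hz, he⟩)))))))
  · exact .inr (.inr (.inr (.inr (.inr (.inr (.inr ((h))))))))

end Cfsg.Agent.S5811
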