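import Cfsg.Statements.S5834
import Cfsg.Agent.Lib.ClassicalMax.OrthNondegMax
import Cfsg.Agent.Lib.ClassicalMax.OrthNondegSmall
import Cfsg.Agent.Lib.ClassicalMax.OrthSingular
import Cfsg.Agent.Lib.ClassicalMax.OrthMonMax
import Cfsg.Agent.Lib.ClassicalMax.OrthSubfield
import Cfsg.Agent.Lib.ClassicalMax.OrthDecompGen
import Cfsg.Agent.Lib.ClassicalMax.OmegaTools
import Cfsg.Agent.Lib.ExtFieldOrth.Matrix
import Cfsg.Agent.Lib.ClassicalMax.OrthWreath.GlueFinal
import Cfsg.Agent.Lib.PrimeGraph.OrthOddBridge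

set_option autoImplicit false
open Cfsg

namespace Cfsg.Agent.S5834

/-- Maximal subgroups of Ω_9(q) of geometric type, q odd. Let F be a finite field of odd order q, Q the standard quadratic form x₀² + Σ x_i y_i on F^9 (coordinates Unit ⊕ (Fin 4 ⊕ Fin 4)), and Ω = Ω_9(q) the commutator subgroup of its isometry group, inside GL_9(F). Each of the following, intersected with Ω, is a maximal subgroup of Ω: (1) the stabiliser of any non-zero subspace on which Q vanishes identically (totally singular 1- to 4-spaces); (2) the stabiliser of any non-zero even-dimensional subspace W (dimension 2, 4, 6 or 8) on which the polar form of Q is non-degenerate (equivalently of its odd-dimensional orthogonal complement), except when q = 3 and W is a 2-space containing a non-zero singular vector (a plus-type plane); (3) for q = p prime, the stabiliser of any decomposition of F^9 into nine pairwise orthogonal, pairwise Q-isometric non-degenerate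 1-spaces; (4) for q ≥ 5, the stabiliser of any decomposition of F^9 into three pairwise orthogonal, pairwise Q-isometric non-degenerate 3-spaces; (5) the normaliser of any degree-3 subfield K of the matrix algebra whose elements are self-adjoint for the polar form of Q (Q is then the trace of a quadratic form over K); (6) every subfield group for a subfield F₀ with |F| = |F₀|^r, r prime, whose F₀-structure carries Q; (7) for q ≥ 5, the stabiliser of any decomposition of the polar form of Q as the tensor square of a non-degenerate symmetric bilinear form on F^3 up to a scalar (tensor-wreath subgroup). -/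
theorem result {F : Type*} [Field F] [Fintype F] (hodd : Odd (Fintype.card F)) :
    (∀ W : Submodule F (Unit ⊕ (Fin 4 ⊕ Fin 4) → F), W ≠ ⊥ → Cfsg.Geo.IsTotallySingularQuad (Cfsg.quadFormOdd 4 F) W → Cfsg.Geo.IsMaximalIn (Cfsg.Geo.omegaGL (Cfsg.quadFormOdd 4 F)) (Cfsg.Geo.subspaceStabilizer W ⊓ Cfsg.Geo.omegaGL (Cfsg.quadFormOdd 4 F))) ∧
    (∀ W : Submodule F (Unit ⊕ (Fin 4 ⊕ Fin 4) → F), W ≠ ⊥ → Even (Module.finrank F W) → Cfsg.Geo.IsNondegenerateOn (QuadraticMap.polar (Cfsg.quadFormOdd 4 F)) W → ¬ (Fintype.card F = 3 ∧ Module.finrank F W = 2 ∧ Cfsg.Geo.IsPlusTypeOn (Cfsg.quadFormOdd 4 F) W) → Cfsg.Geo.IsMaximalIn (Cfsg.Geo.omegaGL (Cfsg.quadFormOdd 4 F)) (Cfsg.Geo.subspaceStabilizer W ⊓ Cfsg.Geo.omegaGL (Cfsg.quadFormOdd 4 F))) ∧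
    ((Fintype.card F).Prime → ∀ D : Fin 9 → Submodule F (Unit ⊕ (Fin 4 ⊕ Fin 4) → F), Cfsg.Geo.IsOrthogonalMDecomposition (Cfsg.quadFormOdd 4 F) 1 D → Cfsg.Geo.IsMaximalIn (Cfsg.Geo.omegaGL (Cfsg.quadFormOdd 4 F)) (Cfsg.Geo.decompositionStabilizer D ⊓ Cfsg.Geo.omegaGL (Cfsg.quadFormOdd 4 F))) ∧
    (5 ≤ Fintype.card F → ∀ D : Fin 3 → Submodule F (Unit ⊕ (Fin 4 ⊕ Fin 4) → F), Cfsg.Geo.IsOrthogonalMDecomposition (Cfsg.quadFormOdd 4 F) 3 D → Cfsg.Geo.IsMaximalIn (Cfsg.Geo.omegaGL (Cfsg.quadFormOdd 4 F)) (Cfsg.Geo.decompositionStabilizer D ⊓ Cfsg.Geo.omegaGL (Cfsg.quadFormOdd 4 F))) ∧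
    (∀ K : Subalgebra F (Matrix (Unit ⊕ (Fin 4 ⊕ Fin 4)) (Unit ⊕ (Fin 4 ⊕ Fin 4)) F), Cfsg.Geo.IsFieldSubalgebra 3 K → Cfsg.Geo.IsSelfAdjointFor (QuadraticMap.polar (Cfsg.quadFormOdd 4 F)) K → Cfsg.Geo.IsMaximalIn (Cfsg.Geo.omegaGL (Cfsg.quadFormOdd 4 F)) (Cfsg.Geo.subalgebraNormalizer K ⊓ Cfsg.Geo.omegaGL (Cfsg.quadFormOdd 4 F))) ∧
    (∀ (F₀ : Subfield F) (r : ℕ) (P : Matrix.GeneralLinearGroup (Unit ⊕ (Fin 4 ⊕ Fin 4)) F), r.Prime → Fintype.card F = Nat.card F₀ ^ r → Cfsg.Geo.IsQuadFormRationalStructure (Cfsg.quadFormOdd 4 F) F₀ P → Cfsg.Geo.IsMaximalIn (Cfsg.Geo.omegaGL (Cfsg.quadFormOdd 4 F)) (Cfsg.Geo.subfieldSubgroup F₀ P ⊓ Cfsg.Geo.omegaGL (Cfsg.quadFormOdd 4 F))) ∧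
    (5 ≤ Fintype.card F → ∀ (e : (Unit ⊕ (Fin 4 ⊕ Fin 4)) ≃ (Fin 2 → Fin 3)) (P : Matrix.GeneralLinearGroup (Unit ⊕ (Fin 4 ⊕ Fin 4)) F) (f₁ : (Fin 3 → F) → (Fin 3 → F) → F), Cfsg.Geo.IsSymmetricForm f₁ → Cfsg.Geo.IsTensorPowerFormStructure id (QuadraticMap.polar (Cfsg.quadFormOdd 4 F)) f₁ e P → Cfsg.Geo.IsMaximalIn (Cfsg.Geo.omegaGL (Cfsg.quadFormOdd 4 F)) (Cfsg.Geo.tensorWreathSubgroup 3 2 e P ⊓ Cfsg.Geo.omegaGL (Cfsg.quadFormOdd 4 F))) := by
  classical
  have h2 : (2 : F) ≠ 0 := Ring.two_ne_zero fun h => by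
    obtain ⟨n, -, hn⟩ := @FiniteField.card F _ _ 2 ((ringChar.eq_iff).1 h)
    rw [hn] at hodd
    exact (Nat.not_odd_iff_even.2 (even_two.pow_of_ne_zero n.ne_zero)) hodd
  have hcard : Fintype.card (Unit ⊕ (Fin 4 ⊕ Fin 4)) = 9 := by simp
  have hQ := CfsgLib.ClassicalMax.Om.isNondegenerate_quadFormOdd (F := F) 4 h2
  have hnd := CfsgLib.ClassicalMax.OmE.ndPolar_qf _ hQ
  refine ⟨fun W hW0 hW => ?_, fun W hW0 hev hW hex => ?_, fun hp D hD => ?_,
    fun h5 D hD => ?_, fun K hK hsa => ?_, fun F₀ r P hr hc hP => ?_, ?_⟩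
  · exact CfsgLib.ClassicalMax.OmS.singular_stabilizer_maximal
      (Q := CfsgLib.OrthCrit.oddForm 4 F) (CfsgLib.OrthCrit.ndPolar_oddForm h2 4)
      (CfsgLib.ClassicalMax.OmS.oddFrame (by omega)) ⟨4, hcard.trans (by norm_num)⟩ hW0 hW
  · have h := CfsgLib.ClassicalMax.OmN.nondegenerate_stabilizer_maximal_small
      (Q := CfsgLib.OrthCrit.oddForm 4 F)
      (CfsgLib.ClassicalMax.OmS.oddFrame (by omega)) (CfsgLib.OrthCrit.ndPolar_oddForm h2 4)
      (by omega) hW0 ?_ hW (fun h => by omega) (fun h => by omega) ?_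
    · exact h
    · rintro rfl
      rw [finrank_top, Module.finrank_pi, hcard] at hev
      exact absurd hev (by decide)
    · rintro ⟨hq, U, hU, -, hUp, rfl | ⟨-, hd⟩⟩
      · exact hex ⟨le_antisymm hq (by
          rcases hodd with ⟨c, hc⟩; have := Fintype.one_lt_card (α := F); omega), hU, hUp⟩
      · obtain ⟨c, hc⟩ := hev
        omega
  · exact CfsgLib.ClassicalMax.OmL.lines_maximal hQ hp hodd (by omega) hD
  · exact CfsgLib.ClassicalMax.OmD.Good.maximal (Q := CfsgLib.ClassicalMax.OmE.qf _ hQ)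
      { nd := hnd
        dec := hD
        three := le_rfl
        card := by omega
        k3 := fun _ => ⟨h2, h5, le_rfl⟩
        k4 := fun h => absurd h (by omega) }
  · refine CfsgLib.ExtFieldOrth.isMaximalIn_omega 3 h2 ?_ (by omega) Nat.prime_three hK hsa
      (Or.inr ⟨hcard, le_rfl⟩) (Q := CfsgLib.OrthCrit.oddForm 4 F)
    have hb := CfsgLib.OrthCrit.ndPolar_oddForm (F := F) h2 4
    refine ⟨fun x hx => hb x hx, fun y hy => hb y fun z => ?_⟩
    rw [QuadraticMap.polar_comm]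
    exact hy z
  · have hP' : Cfsg.Geo.IsQuadFormRationalStructure
        (fun v => (1 : F) * CfsgLib.ClassicalMax.OmE.qf _ hQ v) F₀ P := fun u hu => by
      simp only [one_mul, CfsgLib.ClassicalMax.OmE.coe_qf]
      exact hP u hu
    obtain ⟨Q₀, R⟩ := CfsgLib.ClassicalMax.OmSub.rat_of_structure hnd (one_ne_zero (α := F)) hP'
    have h := CfsgLib.ClassicalMax.OmSub.subfield_maximal R (by omega) r hr hc
    rw [CfsgLib.ClassicalMax.OmE.coe_qf] at h
    exact h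
  · intro h5 e P f₁ hf₁ hT
    rw [← CfsgLib.PrimeGraph.stdForm_coe 4] at hT ⊢
    exact CfsgLib.ClassicalMax.OWr.odd_maximal_of_avg hodd _
      (fun x hx => (CfsgLib.PrimeGraph.stdForm_nondeg 4 h2).1 x hx)
      (by simp; decide) (by simp) (k := 3) (t := 2) le_rfl le_rfl (fun h => by omega) e P hf₁ hT
      (CfsgLib.ClassicalMax.OWr.avgStep (by omega))

end Cfsg.Agent.S5834
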