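import Cfsg.Statements.S5858
import Cfsg.Agent.Lib.ClassicalMax.OrthNondegMax
import Cfsg.Agent.Lib.ClassicalMax.OrthSingular
import Cfsg.Agent.Lib.ClassicalMax.OrthMonMax
import Cfsg.Agent.Lib.ClassicalMax.OrthSubfield
import Cfsg.Agent.Lib.ClassicalMax.OmegaTools

set_option autoImplicit false
open Cfsg

namespace Cfsg.Agent.S5858

/-- Maximal subgroups of Ω_11(q) of geometric type, q odd. Let F be a finite field of odd order q, Q the standard quadratic form x₀² + Σ x_i y_i on F^11 (coordinates Unit ⊕ (Fin 5 ⊕ Fin 5)), and Ω = Ω_11(q) the commutator subgroup of its isometry group, inside GL_11(F). Each of the following, intersected with Ω, is a maximal subgroup of Ω: (1) the stabiliser of any non-zero subspace on which Q vanishes identically (totally singular 1- to 5-spaces); (2) the stabiliser of any non-zero even-dimensional subspace W (dimension 2 to 10) on which the polar form of Q is non-degenerate (equivalently of its odd-dimensional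 orthogonal complement), except when q = 3 and W is a 2-space containing a non-zero singular vector (a plus-type plane); (3) for q = p prime, the stabiliser of any decomposition of F^11 into eleven pairwise orthogonal, pairwise Q-isometric non-degenerate 1-spaces; (4) every subfield group for a subfield F₀ with |F| = |F₀|^r, r prime, whose F₀-structure carries Q. -/
theorem result {F : Type*} [Field F] [Fintype F] (hodd : Odd (Fintype.card F)) :
    (∀ W : Submodule F (Unit ⊕ (Fin 5 ⊕ Fin 5) → F), W ≠ ⊥ → Cfsg.Geo.IsTotallySingularQuad (Cfsg.quadFormOdd 5 F) W → Cfsg.Geo.IsMaximalIn (Cfsg.Geo.omegaGL (Cfsg.quadFormOdd 5 F)) (Cfsg.Geo.subspaceStabilizer W ⊓ Cfsg.Geo.omegaGL (Cfsg.quadFormOdd 5 F))) ∧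
    (∀ W : Submodule F (Unit ⊕ (Fin 5 ⊕ Fin 5) → F), W ≠ ⊥ → Even (Module.finrank F W) → Cfsg.Geo.IsNondegenerateOn (QuadraticMap.polar (Cfsg.quadFormOdd 5 F)) W → ¬ (Fintype.card F = 3 ∧ Module.finrank F W = 2 ∧ Cfsg.Geo.IsPlusTypeOn (Cfsg.quadFormOdd 5 F) W) → Cfsg.Geo.IsMaximalIn (Cfsg.Geo.omegaGL (Cfsg.quadFormOdd 5 F)) (Cfsg.Geo.subspaceStabilizer W ⊓ Cfsg.Geo.omegaGL (Cfsg.quadFormOdd 5 F))) ∧
    ((Fintype.card F).Prime → ∀ D : Fin 11 → Submodule F (Unit ⊕ (Fin 5 ⊕ Fin 5) → F), Cfsg.Geo.IsOrthogonalMDecomposition (Cfsg.quadFormOdd 5 F) 1 D → Cfsg.Geo.IsMaximalIn (Cfsg.Geo.omegaGL (Cfsg.quadFormOdd 5 F)) (Cfsg.Geo.decompositionStabilizer D ⊓ Cfsg.Geo.omegaGL (Cfsg.quadFormOdd 5 F))) ∧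
    (∀ (F₀ : Subfield F) (r : ℕ) (P : Matrix.GeneralLinearGroup (Unit ⊕ (Fin 5 ⊕ Fin 5)) F), r.Prime → Fintype.card F = Nat.card F₀ ^ r → Cfsg.Geo.IsQuadFormRationalStructure (Cfsg.quadFormOdd 5 F) F₀ P → Cfsg.Geo.IsMaximalIn (Cfsg.Geo.omegaGL (Cfsg.quadFormOdd 5 F)) (Cfsg.Geo.subfieldSubgroup F₀ P ⊓ Cfsg.Geo.omegaGL (Cfsg.quadFormOdd 5 F))) := by
  classical
  have h2 : (2 : F) ≠ 0 := Ring.two_ne_zero fun h => by
    obtain ⟨n, -, hn⟩ := @FiniteField.card F _ _ 2 ((ringChar.eq_iff).1 h)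
    rw [hn] at hodd
    exact (Nat.not_odd_iff_even.2 (even_two.pow_of_ne_zero n.ne_zero)) hodd
  have hcard : Fintype.card (Unit ⊕ (Fin 5 ⊕ Fin 5)) = 11 := by simp
  have hQ := CfsgLib.ClassicalMax.Om.isNondegenerate_quadFormOdd (F := F) 5 h2
  refine ⟨fun W hW0 hW => ?_, fun W hW0 hev hW hex => ?_, fun hp D hD => ?_,
    fun F₀ r P hr hc hP => ?_⟩
  · exact CfsgLib.ClassicalMax.OmS.singular_stabilizer_maximal
      (Q := CfsgLib.OrthCrit.oddForm 5 F) (CfsgLib.OrthCrit.ndPolar_oddForm h2 5)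
      (CfsgLib.ClassicalMax.OmS.oddFrame (by omega)) ⟨5, hcard.trans (by norm_num)⟩ hW0 hW
  · exact CfsgLib.ClassicalMax.OmS.nondegenerate_stabilizer_maximal
      (Q := CfsgLib.OrthCrit.oddForm 5 F) (CfsgLib.OrthCrit.ndPolar_oddForm h2 5)
      (CfsgLib.ClassicalMax.OmS.oddFrame (by omega)) h2 hodd ⟨5, hcard.trans (by norm_num)⟩
      (by omega) hW0 hev hW hex
  · exact CfsgLib.ClassicalMax.OmL.lines_maximal hQ hp hodd (by omega) hD
  · have hnd := CfsgLib.ClassicalMax.OmE.ndPolar_qf _ hQ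
    have hP' : Cfsg.Geo.IsQuadFormRationalStructure
        (fun v => (1 : F) * CfsgLib.ClassicalMax.OmE.qf _ hQ v) F₀ P := fun u hu => by
      simp only [one_mul, CfsgLib.ClassicalMax.OmE.coe_qf]
      exact hP u hu
    obtain ⟨Q₀, R⟩ := CfsgLib.ClassicalMax.OmSub.rat_of_structure hnd (one_ne_zero (α := F)) hP'
    have h := CfsgLib.ClassicalMax.OmSub.subfield_maximal R (by omega) r hr hc
    rw [CfsgLib.ClassicalMax.OmE.coe_qf] at h
    exact h

end Cfsg.Agent.S5858
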