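import Cfsg.Statements.S5861
import Cfsg.Agent.Lib.ClassicalMax.LinParabolic
import Cfsg.Agent.Lib.ClassicalMax.BlockTransport
import Cfsg.Agent.Lib.ExtFieldMax.Matrix
import Cfsg.Agent.Lib.ClassicalMax.TensorSL
import Cfsg.Agent.Lib.ClassicalMax.LinSubfield
import Cfsg.Agent.Lib.ClassicalMax.QuadSim
import Cfsg.Agent.Lib.ClassicalMax.SympInSL
import Cfsg.Agent.Lib.ClassicalMax.UnitInSL

set_option autoImplicit false
open Cfsg

namespace Cfsg.Agent.S5861

/-- Maximal subgroups of SL_12(q) of geometric type, for a finite field F with q elements (any q); p denotes the characteristic. Each of the following subgroups of GL_12(F), intersected with SL_12(F), is a maximal subgroup of SL_12(F): (1) the stabiliser of any proper non-zero subspace of F^12; (2) for q ≥ 5, the stabiliser of any decomposition of F^12 into 12 independent 1-spaces; (3) for q ≥ 3, the stabiliser of any decomposition of F^12 into 6 independent 2-spaces; (4) the stabiliser of any decomposition of F^12 into 4 independent 3-spaces;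 (5) the stabiliser of any decomposition of F^12 into 3 independent 4-spaces; (6) the stabiliser of any decomposition of F^12 into 2 independent 6-spaces; (7) the normaliser of any degree-2 subfield of the 12 × 12 matrix algebra over F (a commutative subalgebra of dimension 2 in which every non-zero element is invertible); (8) the normaliser of any degree-3 subfield of the 12 × 12 matrix algebra over F (a commutative subalgebra of dimension 3 in which every non-zero element is invertible); (9) for q ≥ 3, the stabiliser of any tensor decomposition F^12 = F^2 ⊗ F^6 (a conjugate of the Kronecker-product subgroup); (10) the stabiliser of any tensor decomposition F^12 = F^3 ⊗ F^4 (a conjugate of the Kronecker-product subgroup); (11) every subfield group (a conjugate of GL_12(F₀) times the scalars of F) for a subfield F₀ with |F| = |F₀|^r, r prime; (12) for q odd, the group of similarities of any non-degenerate quadratic form on F^12 (either sign); (13) the group of similarities of any non-degenerate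 symplectic form on F^12; (14) the group of similarities of any non-degenerate unitary form on F^12 (these exist exactly when q is a square). -/
theorem result {F : Type*} [Field F] [Fintype F] :
    (∀ W : Submodule F (Fin 12 → F), W ≠ ⊥ → W ≠ ⊤ → Cfsg.Geo.IsMaximalIn (Cfsg.Geo.specialLinear (Fin 12) F) (Cfsg.Geo.subspaceStabilizer W ⊓ Cfsg.Geo.specialLinear (Fin 12) F)) ∧
    (5 ≤ Fintype.card F → ∀ D : Fin 12 → Submodule F (Fin 12 → F), Cfsg.Geo.IsMDecomposition 1 D → Cfsg.Geo.IsMaximalIn (Cfsg.Geo.specialLinear (Fin 12) F) (Cfsg.Geo.decompositionStabilizer D ⊓ Cfsg.Geo.specialLinear (Fin 12) F)) ∧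
    (3 ≤ Fintype.card F → ∀ D : Fin 6 → Submodule F (Fin 12 → F), Cfsg.Geo.IsMDecomposition 2 D → Cfsg.Geo.IsMaximalIn (Cfsg.Geo.specialLinear (Fin 12) F) (Cfsg.Geo.decompositionStabilizer D ⊓ Cfsg.Geo.specialLinear (Fin 12) F)) ∧
    (∀ D : Fin 4 → Submodule F (Fin 12 → F), Cfsg.Geo.IsMDecomposition 3 D → Cfsg.Geo.IsMaximalIn (Cfsg.Geo.specialLinear (Fin 12) F) (Cfsg.Geo.decompositionStabilizer D ⊓ Cfsg.Geo.specialLinear (Fin 12) F)) ∧
    (∀ D : Fin 3 → Submodule F (Fin 12 → F), Cfsg.Geo.IsMDecomposition 4 D → Cfsg.Geo.IsMaximalIn (Cfsg.Geo.specialLinear (Fin 12) F) (Cfsg.Geo.decompositionStabilizer D ⊓ Cfsg.Geo.specialLinear (Fin 12) F)) ∧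
    (∀ D : Fin 2 → Submodule F (Fin 12 → F), Cfsg.Geo.IsMDecomposition 6 D → Cfsg.Geo.IsMaximalIn (Cfsg.Geo.specialLinear (Fin 12) F) (Cfsg.Geo.decompositionStabilizer D ⊓ Cfsg.Geo.specialLinear (Fin 12) F)) ∧
    (∀ K : Subalgebra F (Matrix (Fin 12) (Fin 12) F), Cfsg.Geo.IsFieldSubalgebra 2 K → Cfsg.Geo.IsMaximalIn (Cfsg.Geo.specialLinear (Fin 12) F) (Cfsg.Geo.subalgebraNormalizer K ⊓ Cfsg.Geo.specialLinear (Fin 12) F)) ∧
    (∀ K : Subalgebra F (Matrix (Fin 12) (Fin 12) F), Cfsg.Geo.IsFieldSubalgebra 3 K → Cfsg.Geo.IsMaximalIn (Cfsg.Geo.specialLinear (Fin 12) F) (Cfsg.Geo.subalgebraNormalizer K ⊓ Cfsg.Geo.specialLinear (Fin 12) F)) ∧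
    (3 ≤ Fintype.card F → ∀ (e : Fin 12 ≃ Fin 2 × Fin 6) (P : Matrix.GeneralLinearGroup (Fin 12) F), Cfsg.Geo.IsMaximalIn (Cfsg.Geo.specialLinear (Fin 12) F) (Cfsg.Geo.tensorProductSubgroup 2 6 e P ⊓ Cfsg.Geo.specialLinear (Fin 12) F)) ∧
    (∀ (e : Fin 12 ≃ Fin 3 × Fin 4) (P : Matrix.GeneralLinearGroup (Fin 12) F), Cfsg.Geo.IsMaximalIn (Cfsg.Geo.specialLinear (Fin 12) F) (Cfsg.Geo.tensorProductSubgroup 3 4 e P ⊓ Cfsg.Geo.specialLinear (Fin 12) F)) ∧
    (∀ (F₀ : Subfield F) (r : ℕ) (P : Matrix.GeneralLinearGroup (Fin 12) F), r.Prime → Fintype.card F = Nat.card F₀ ^ r → Cfsg.Geo.IsMaximalIn (Cfsg.Geo.specialLinear (Fin 12) F) (Cfsg.Geo.subfieldSubgroup F₀ P ⊓ Cfsg.Geo.specialLinear (Fin 12) F)) ∧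
    (Odd (Fintype.card F) → ∀ Q : (Fin 12 → F) → F, Cfsg.Geo.IsNondegenerateQuadraticForm Q → Cfsg.Geo.IsMaximalIn (Cfsg.Geo.specialLinear (Fin 12) F) (Cfsg.Geo.quadSimilarityGroup Q ⊓ Cfsg.Geo.specialLinear (Fin 12) F)) ∧
    (∀ f : (Fin 12 → F) → (Fin 12 → F) → F, Cfsg.Geo.IsSymplecticForm f → Cfsg.Geo.IsMaximalIn (Cfsg.Geo.specialLinear (Fin 12) F) (Cfsg.Geo.similarityGroup f ⊓ Cfsg.Geo.specialLinear (Fin 12) F)) ∧
    (∀ (σ : F ≃+* F) (f : (Fin 12 → F) → (Fin 12 → F) → F), Cfsg.Geo.IsUnitaryForm σ f → Cfsg.Geo.IsMaximalIn (Cfsg.Geo.specialLinear (Fin 12) F) (Cfsg.Geo.similarityGroup f ⊓ Cfsg.Geo.specialLinear (Fin 12) F)) := by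
  classical
  have hcard : Fintype.card (Fin 12) = 12 := Fintype.card_fin 12
  refine ⟨fun W => CfsgLib.ClassicalMax.LinParabolic.subspace_stabilizer_maximal 12 W, ?_, ?_, ?_, ?_, ?_,
    ?_, ?_, ?_, ?_, ?_, ?_, ?_, ?_⟩
  · intro hq D hD
    exact CfsgLib.ClassicalMax.BlockG.decomposition_maximal hD (by omega) (fun _ => hq) (by omega)
  · intro hq D hD
    exact CfsgLib.ClassicalMax.BlockG.decomposition_maximal hD (by omega) (by omega) (fun _ => hq)
  · intro D hD
    exact CfsgLib.ClassicalMax.BlockG.decomposition_maximal hD (by omega) (by omega) (by omega)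
  · intro D hD
    exact CfsgLib.ClassicalMax.BlockG.decomposition_maximal hD (by omega) (by omega) (by omega)
  · intro D hD
    exact CfsgLib.ClassicalMax.BlockG.decomposition_maximal hD (by omega) (by omega) (by omega)
  · intro K hK
    exact CfsgLib.ExtFieldMax.isMaximalIn_sl (n := 12) Nat.prime_two (by norm_num) (by norm_num) hK
  · intro K hK
    exact CfsgLib.ExtFieldMax.isMaximalIn_sl (n := 12) Nat.prime_three (by norm_num) (by norm_num) hK
  · intro hq e P
    refine CfsgLib.ClassicalMax.TensorSL.tensor_maximal e P le_rfl (by norm_num) (Or.inr ?_)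
    obtain ⟨t, ht⟩ := Finset.exists_mem_notMem_of_card_lt_card (s := ({0, 1} : Finset F))
      (t := Finset.univ) (by
        rw [Finset.card_univ]
        exact lt_of_le_of_lt Finset.card_le_two hq)
    exact ⟨t, fun h => ht.2 (by simp [h]), fun h => ht.2 (by simp [h])⟩
  · intro e P
    exact CfsgLib.ClassicalMax.TensorSL.tensor_maximal e P (by norm_num) (by norm_num)
      (Or.inl le_rfl)
  · intro F₀ r P hr hFcard
    haveI := Fintype.ofFinite F₀
    have hfr : Module.finrank F₀ F = r := by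
      have h := Module.card_eq_pow_finrank (K := F₀) (V := F)
      rw [hFcard, Nat.card_eq_fintype_card] at h
      exact (Nat.pow_right_injective Fintype.one_lt_card h).symm
    exact CfsgLib.ClassicalMax.LinSub.sl_subfield_maximal (by omega) (hfr ▸ hr) P
  · intro hodd Q hQ
    have h2 : (2 : F) ≠ 0 := Ring.two_ne_zero fun hc => by
      have h := FiniteField.even_card_of_char_two hc
      rw [Nat.odd_iff.1 hodd] at h
      exact one_ne_zero h
    let Q' : QuadraticForm F (Fin 12 → F) := QuadraticMap.ofPolar Q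
      (fun a x => by rw [hQ.smul, smul_eq_mul]; ring)
      (fun x x' y => hQ.polar_bilinear.add_left x x' y)
      (fun a x y => hQ.polar_bilinear.smul_left a x y)
    exact CfsgLib.ClassicalMax.QuadSim.similarity_maximal (Q := Q')
      (fun x hx => by
        by_contra h0
        obtain ⟨y, hy⟩ := (hQ.nondegenerate x h0).2
        exact hy (hx y))
      h2 (by omega)
  · intro f hf
    exact CfsgLib.ClassicalMax.symp_similarity_maximal_sl hf (by omega)
  · intro σ f hf
    exact CfsgLib.ClassicalMax.Unit.unitary_similarity_maximal_sl hf (by omega)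

end Cfsg.Agent.S5861
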