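import Cfsg.Statements.S5864
import Cfsg.Agent.Lib.ClassicalMax.UnitParabolic
import Cfsg.Agent.Lib.ClassicalMax.UnitNondeg
import Cfsg.Agent.Lib.ClassicalMax.UDecompMax
import Cfsg.Agent.Lib.ClassicalMax.UnitPair
import Cfsg.Agent.Lib.ExtFieldUnit.Matrix
import Cfsg.Agent.Lib.ClassicalMax.UnitTensorPow
import Cfsg.Agent.Lib.ClassicalMax.UnitSubfield
import Cfsg.Agent.Lib.ClassicalMax.UnitSympSubfield
import Cfsg.Agent.Lib.ClassicalMax.UnitOrthSubfield
import Cfsg.Agent.Lib.ClassicalMax.UnitStd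

set_option autoImplicit false
open Cfsg

namespace Cfsg.Agent.S5864

/-- Maximal subgroups of SU_12(q) of geometric type (any prime power q). Let F be the field with q² elements (characteristic p), f the standard unitary form Σ u_i v_i^q on F^12 and SU_12(q) its determinant-one isometry group inside GL_12(F). Each of the following, intersected with SU_12(q), is a maximal subgroup of SU_12(q): (1) the stabiliser of any non-zero subspace on which f vanishes identically (totally isotropic subspaces, of dimension 1 to 6); (2) the stabiliser of any non-zero non-degenerate subspace W with 2 dim W < 12 (dimension 1 to 5); (3) the stabiliser of any decomposition of F^12 into 12 mutually orthogonal non-degenerate 1-spaces; (4) for q ≥ 3, the stabiliser of any decomposition of F^12 into 6 mutually orthogonal non-degenerate 2-spaces; (5) the stabiliser of any decomposition of F^12 into 4 mutually orthogonal non-degenerate 3-spaces;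 (6) the stabiliser of any decomposition of F^12 into 3 mutually orthogonal non-degenerate 4-spaces; (7) the stabiliser of any decomposition of F^12 into 2 mutually orthogonal non-degenerate 6-spaces; (8) the stabiliser of any decomposition into two totally isotropic 6-spaces; (9) the normaliser of any degree-3 subfield of the matrix algebra closed under adjoints for f; (10) for q ≥ 3, the stabiliser of any tensor decomposition of f as (unitary form on F^2) ⊗ (unitary form on F^6) up to a scalar; (11) the stabiliser of any tensor decomposition of f as (unitary form on F^3) ⊗ (unitary form on F^4) up to a scalar; (12) every subfield group for a subfield F₀ of odd prime index in F whose F₀-structure carries f; (13) every subfield group for the subfield F₀ of index 2 whose F₀-structure carries ζ f, vanishing on pairs (u, u), for a non-zero ζ with ζ + ζ^q = 0 (symplectic type); (14) for q odd, every subfield group for the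 subfield F₀ of index 2 whose F₀-structure carries f (orthogonal type, either sign). -/
theorem result {F : Type*} [Field F] [Fintype F] (q : ℕ) (hF : Fintype.card F = q ^ 2) :
    (∀ W : Submodule F (Fin 12 → F), W ≠ ⊥ → Cfsg.Geo.IsTotallySingularFor (Cfsg.hermForm 12 F q) W → Cfsg.Geo.IsMaximalIn (Cfsg.GU 12 F q ⊓ Cfsg.Geo.specialLinear (Fin 12) F) (Cfsg.Geo.subspaceStabilizer W ⊓ (Cfsg.GU 12 F q ⊓ Cfsg.Geo.specialLinear (Fin 12) F))) ∧
    (∀ W : Submodule F (Fin 12 → F), W ≠ ⊥ → Cfsg.Geo.IsNondegenerateOn (Cfsg.hermForm 12 F q) W → 2 * Module.finrank F W < 12 → Cfsg.Geo.IsMaximalIn (Cfsg.GU 12 F q ⊓ Cfsg.Geo.specialLinear (Fin 12) F) (Cfsg.Geo.subspaceStabilizer W ⊓ (Cfsg.GU 12 F q ⊓ Cfsg.Geo.specialLinear (Fin 12) F))) ∧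
    (∀ D : Fin 12 → Submodule F (Fin 12 → F), Cfsg.Geo.IsNondegenerateMDecomposition (Cfsg.hermForm 12 F q) 1 D → Cfsg.Geo.IsMaximalIn (Cfsg.GU 12 F q ⊓ Cfsg.Geo.specialLinear (Fin 12) F) (Cfsg.Geo.decompositionStabilizer D ⊓ (Cfsg.GU 12 F q ⊓ Cfsg.Geo.specialLinear (Fin 12) F))) ∧
    (3 ≤ q → ∀ D : Fin 6 → Submodule F (Fin 12 → F), Cfsg.Geo.IsNondegenerateMDecomposition (Cfsg.hermForm 12 F q) 2 D → Cfsg.Geo.IsMaximalIn (Cfsg.GU 12 F q ⊓ Cfsg.Geo.specialLinear (Fin 12) F) (Cfsg.Geo.decompositionStabilizer D ⊓ (Cfsg.GU 12 F q ⊓ Cfsg.Geo.specialLinear (Fin 12) F))) ∧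
    (∀ D : Fin 4 → Submodule F (Fin 12 → F), Cfsg.Geo.IsNondegenerateMDecomposition (Cfsg.hermForm 12 F q) 3 D → Cfsg.Geo.IsMaximalIn (Cfsg.GU 12 F q ⊓ Cfsg.Geo.specialLinear (Fin 12) F) (Cfsg.Geo.decompositionStabilizer D ⊓ (Cfsg.GU 12 F q ⊓ Cfsg.Geo.specialLinear (Fin 12) F))) ∧
    (∀ D : Fin 3 → Submodule F (Fin 12 → F), Cfsg.Geo.IsNondegenerateMDecomposition (Cfsg.hermForm 12 F q) 4 D → Cfsg.Geo.IsMaximalIn (Cfsg.GU 12 F q ⊓ Cfsg.Geo.specialLinear (Fin 12) F) (Cfsg.Geo.decompositionStabilizer D ⊓ (Cfsg.GU 12 F q ⊓ Cfsg.Geo.specialLinear (Fin 12) F))) ∧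
    (∀ D : Fin 2 → Submodule F (Fin 12 → F), Cfsg.Geo.IsNondegenerateMDecomposition (Cfsg.hermForm 12 F q) 6 D → Cfsg.Geo.IsMaximalIn (Cfsg.GU 12 F q ⊓ Cfsg.Geo.specialLinear (Fin 12) F) (Cfsg.Geo.decompositionStabilizer D ⊓ (Cfsg.GU 12 F q ⊓ Cfsg.Geo.specialLinear (Fin 12) F))) ∧
    (∀ D : Fin 2 → Submodule F (Fin 12 → F), Cfsg.Geo.IsMDecomposition 6 D → (∀ i, Cfsg.Geo.IsTotallySingularFor (Cfsg.hermForm 12 F q) (D i)) → Cfsg.Geo.IsMaximalIn (Cfsg.GU 12 F q ⊓ Cfsg.Geo.specialLinear (Fin 12) F) (Cfsg.Geo.decompositionStabilizer D ⊓ (Cfsg.GU 12 F q ⊓ Cfsg.Geo.specialLinear (Fin 12) F))) ∧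
    (∀ K : Subalgebra F (Matrix (Fin 12) (Fin 12) F), Cfsg.Geo.IsFieldSubalgebra 3 K → Cfsg.Geo.IsAdjointClosedFor (Cfsg.hermForm 12 F q) K → Cfsg.Geo.IsMaximalIn (Cfsg.GU 12 F q ⊓ Cfsg.Geo.specialLinear (Fin 12) F) (Cfsg.Geo.subalgebraNormalizer K ⊓ (Cfsg.GU 12 F q ⊓ Cfsg.Geo.specialLinear (Fin 12) F))) ∧
    (3 ≤ q → ∀ (e : Fin 12 ≃ Fin 2 × Fin 6) (P : Matrix.GeneralLinearGroup (Fin 12) F) (f₁ : (Fin 2 → F) → (Fin 2 → F) → F) (f₂ : (Fin 6 → F) → (Fin 6 → F) → F), Cfsg.Geo.IsUnitaryFormPow q f₁ → Cfsg.Geo.IsUnitaryFormPow q f₂ → Cfsg.Geo.IsTensorFormStructure (fun x : F => x ^ q) (Cfsg.hermForm 12 F q) f₁ f₂ e P → Cfsg.Geo.IsMaximalIn (Cfsg.GU 12 F q ⊓ Cfsg.Geo.specialLinear (Fin 12) F) (Cfsg.Geo.tensorProductSubgroup 2 6 e P ⊓ (Cfsg.GU 12 F q ⊓ Cfsg.Geo.specialLinear (Fin 12) F))) ∧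
    (∀ (e : Fin 12 ≃ Fin 3 × Fin 4) (P : Matrix.GeneralLinearGroup (Fin 12) F) (f₁ : (Fin 3 → F) → (Fin 3 → F) → F) (f₂ : (Fin 4 → F) → (Fin 4 → F) → F), Cfsg.Geo.IsUnitaryFormPow q f₁ → Cfsg.Geo.IsUnitaryFormPow q f₂ → Cfsg.Geo.IsTensorFormStructure (fun x : F => x ^ q) (Cfsg.hermForm 12 F q) f₁ f₂ e P → Cfsg.Geo.IsMaximalIn (Cfsg.GU 12 F q ⊓ Cfsg.Geo.specialLinear (Fin 12) F) (Cfsg.Geo.tensorProductSubgroup 3 4 e P ⊓ (Cfsg.GU 12 F q ⊓ Cfsg.Geo.specialLinear (Fin 12) F))) ∧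
    (∀ (F₀ : Subfield F) (r : ℕ) (P : Matrix.GeneralLinearGroup (Fin 12) F), r.Prime → Odd r → Fintype.card F = Nat.card F₀ ^ r → Cfsg.Geo.IsFormRationalStructure (Cfsg.hermForm 12 F q) F₀ 1 P → Cfsg.Geo.IsMaximalIn (Cfsg.GU 12 F q ⊓ Cfsg.Geo.specialLinear (Fin 12) F) (Cfsg.Geo.subfieldSubgroup F₀ P ⊓ (Cfsg.GU 12 F q ⊓ Cfsg.Geo.specialLinear (Fin 12) F))) ∧
    (∀ (F₀ : Subfield F) (P : Matrix.GeneralLinearGroup (Fin 12) F) (ζ : F), Fintype.card F = Nat.card F₀ ^ 2 → ζ ≠ 0 → ζ + ζ ^ q = 0 → Cfsg.Geo.IsFormRationalStructure (Cfsg.hermForm 12 F q) F₀ ζ P → (∀ u : Fin 12 → F, (∀ i, u i ∈ F₀) → (Cfsg.hermForm 12 F q) (Matrix.mulVec (P : Matrix (Fin 12) (Fin 12) F) u) (Matrix.mulVec (P : Matrix (Fin 12) (Fin 12) F) u) = 0) → Cfsg.Geo.IsMaximalIn (Cfsg.GU 12 F q ⊓ Cfsg.Geo.specialLinear (Fin 12) F) (Cfsg.Geo.subfieldSubgroup F₀ P ⊓ (Cfsg.GU 12 F q ⊓ Cfsg.Geo.specialLinear (Fin 12) F))) ∧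
    (Odd q → ∀ (F₀ : Subfield F) (P : Matrix.GeneralLinearGroup (Fin 12) F), Fintype.card F = Nat.card F₀ ^ 2 → Cfsg.Geo.IsFormRationalStructure (Cfsg.hermForm 12 F q) F₀ 1 P → Cfsg.Geo.IsMaximalIn (Cfsg.GU 12 F q ⊓ Cfsg.Geo.specialLinear (Fin 12) F) (Cfsg.Geo.subfieldSubgroup F₀ P ⊓ (Cfsg.GU 12 F q ⊓ Cfsg.Geo.specialLinear (Fin 12) F))) := by
  classical
  obtain ⟨σ, hσ, h2, hne⟩ := CfsgLib.ClassicalMax.Unit.exists_powEquiv hF
  have hf := CfsgLib.ClassicalMax.Unit.isUnitaryForm_hermForm hF 12 hσ hne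
  have hn : 10 ≤ Fintype.card (Fin 12) := by simp
  have hdec : ∀ (t m : ℕ) (D : Fin t → Submodule F (Fin 12 → F)),
      Cfsg.Geo.IsNondegenerateMDecomposition (Cfsg.hermForm 12 F q) m D → (m = 2 → 3 ≤ q) →
      Cfsg.Geo.IsMaximalIn (Cfsg.GU 12 F q ⊓ Cfsg.Geo.specialLinear (Fin 12) F)
        (Cfsg.Geo.decompositionStabilizer D ⊓ (Cfsg.GU 12 F q ⊓ Cfsg.Geo.specialLinear (Fin 12) F)) := by
    intro t m D hD hm
    refine CfsgLib.ClassicalMax.UDec.decomposition_maximal hf hD hn fun h hq => ?_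
    have h' := CfsgLib.ClassicalMax.UDec.card_F hne h2
    rw [hF, hq] at h'
    have := Nat.pow_left_injective two_ne_zero h'
    have := hm h
    omega
  have hfix : ∀ F₀ : Subfield F, Fintype.card F = Nat.card F₀ ^ 2 → ∀ a ∈ F₀, σ a = a := by
    intro F₀ hcard a ha
    have hq : Nat.card F₀ = q := Nat.pow_left_injective two_ne_zero (hcard.symm.trans hF)
    haveI := Fintype.ofFinite F₀
    rw [hσ, ← hq, Nat.card_eq_fintype_card]
    exact congrArg Subtype.val (FiniteField.pow_card (⟨a, ha⟩ : F₀))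
  refine ⟨fun W hW0 hW => CfsgLib.ClassicalMax.Unit.unitary_singular_stabilizer_maximal hf
      (by simp) W hW0 hW,
    fun W hW0 hW hd => CfsgLib.ClassicalMax.Unit.unitary_nondegenerate_stabilizer_maximal hf W hW0 hW
      (by simpa using hd) (by omega),
    fun D hD => hdec 12 1 D hD (by omega), fun hq D hD => hdec 6 2 D hD fun _ => hq,
    fun D hD => hdec 4 3 D hD (by omega), fun D hD => hdec 3 4 D hD (by omega),
    fun D hD => hdec 2 6 D hD (by omega), ?_, ?_, ?_, ?_, ?_, ?_, ?_⟩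
  · intro D hD hts
    rw [CfsgLib.ClassicalMax.Unit.GU_eq_isoOf]
    have hcompl : IsCompl (D 0) (D 1) := by
      refine ⟨?_, ?_⟩
      · exact hD.indep.pairwiseDisjoint (by decide : (0 : Fin 2) ≠ 1)
      · rw [codisjoint_iff, ← hD.iSup_eq_top]
        exact le_antisymm (sup_le (le_iSup D 0) (le_iSup D 1))
          (iSup_le fun i => by fin_cases i; exacts [le_sup_left, le_sup_right])
    have P : CfsgLib.ClassicalMax.Unit.Pair.IsPair σ (Cfsg.hermForm 12 F q) (D 0) (D 1) := {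
      hf := hf
      tsA := hts 0
      tsB := hts 1
      split := fun x => Submodule.mem_sup.1 (by rw [hcompl.sup_eq_top]; trivial)
      disj := hcompl.inf_eq_bot
      dimA := by rw [hD.finrank_eq]; norm_num
      dimB := by rw [hD.finrank_eq, hD.finrank_eq] }
    exact CfsgLib.ClassicalMax.Unit.Pair.pair_stabilizer_maximal P (by simp) rfl rfl
  · intro K hK hac
    rw [CfsgLib.ClassicalMax.Unit.GU_eq_isoOf]
    exact CfsgLib.ExtFieldUnit.unitary_extField_maximal hf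
      (fun H h => CfsgLib.ClassicalMax.Unit.iso_inf_sl_le hf (by simp) h) Nat.prime_three
      (by decide) (by simp) (by simp) hK hac
  · intro hq e P f₁ f₂ h₁ h₂ hT
    exact CfsgLib.ClassicalMax.TensorUnit.pow_tensor_maximal hF (by norm_num) (by norm_num)
      (Or.inr hq) e P h₁ h₂ hT
  · intro e P f₁ f₂ h₁ h₂ hT
    exact CfsgLib.ClassicalMax.TensorUnit.pow_tensor_maximal hF (by norm_num) (by norm_num)
      (Or.inl le_rfl) e P h₁ h₂ hT
  · intro F₀ r P hr hro hcard hP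
    haveI := Fintype.ofFinite F₀
    have hfr : Module.finrank F₀ F = r := by
      have h := Module.card_eq_pow_finrank (K := F₀) (V := F)
      rw [hcard, Nat.card_eq_fintype_card] at h
      exact (Nat.pow_right_injective Fintype.one_lt_card h).symm
    rw [CfsgLib.ClassicalMax.Unit.GU_eq_isoOf]
    exact CfsgLib.ClassicalMax.Unit.Sub.subfield_maximal hf hn (hfr ▸ hr) (hfr ▸ hro) P hP
  · intro F₀ P ζ hcard hζ0 hζ hP halt
    rw [CfsgLib.ClassicalMax.Unit.GU_eq_isoOf]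
    exact CfsgLib.ClassicalMax.Unit.symp_subfield_maximal hf (by simp) F₀ hcard (hfix F₀ hcard) P ζ
      hζ0 (by rw [hσ]; exact eq_neg_of_add_eq_zero_right hζ) hP halt
  · intro hodd F₀ P hcard hP
    have h2' : (2 : F) ≠ 0 := Ring.two_ne_zero fun hc => by
      have h := FiniteField.even_card_of_char_two hc
      rw [hF, Nat.pow_mod, Nat.odd_iff.1 hodd] at h
      norm_num at h
    rw [CfsgLib.ClassicalMax.Unit.GU_eq_isoOf]
    exact CfsgLib.ClassicalMax.Unit.orth_subfield_maximal hf h2' hn F₀ hcard (hfix F₀ hcard) P hP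

end Cfsg.Agent.S5864
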