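import Cfsg.Statements.S5870
import Cfsg.Agent.Lib.ClassicalMax.OrthGeomList
import Cfsg.Agent.Lib.ClassicalMax.OrthPair
import Cfsg.Agent.Lib.ClassicalMax.TensorSympMax

set_option autoImplicit false
open Cfsg
open CfsgLib.ClassicalMax

namespace Cfsg.Agent.S5870

/-- Maximal subgroups of Ω_12^+(q) of geometric type (any q). Let F be a finite field with q elements (characteristic p), Q a non-degenerate quadratic form on F^12 (non-degenerate polar form) of plus type (Witt index 6: some totally singular 6-space), and Ω = Ω_12^+(q) the commutator subgroup of the isometry group of Q, inside GL_12(F). Each of the following, intersected with Ω, is a maximal subgroup of Ω: (1) the stabiliser of any non-zero subspace on which Q vanishes identically other than those of dimension 5 (totally singular subspaces, dimensions 1, 2, 3, 4 and 6); (2) for q odd, the stabiliser of any subspace of odd dimension on which the polar form of Q is non-degenerate; (3) the stabiliser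 of any non-degenerate 2-space of minus type (containing no non-zero singular vector); (4) for q ≥ 4, the stabiliser of any non-degenerate 2-space of plus type (containing a non-zero singular vector); (5) the stabiliser of any non-degenerate 4-space (either type); (6) for q even, the stabiliser of the 1-space spanned by any non-singular vector v (Q(v) ≠ 0); (7) for q = p an odd prime, the stabiliser of any decomposition of F^12 into 12 pairwise orthogonal, pairwise Q-isometric non-degenerate 1-spaces; (8) for q ≥ 7, the stabiliser of any decomposition of F^12 into 6 pairwise orthogonal, pairwise Q-isometric non-degenerate 2-spaces of plus type; (9) for q ≠ 3, the stabiliser of any decomposition of F^12 into 6 pairwise orthogonal, pairwise Q-isometric non-degenerate 2-spaces of minus type; (10) for q odd with q ≥ 5, the stabiliser of any decomposition of F^12 into 4 pairwise orthogonal, pairwise Q-isometric non-degenerate 3-spaces; (11) for q ≥ 3, the stabiliser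 of any decomposition of F^12 into 3 pairwise orthogonal, pairwise Q-isometric non-degenerate 4-spaces; (12) the stabiliser of any decomposition of F^12 into 2 pairwise orthogonal, pairwise Q-isometric non-degenerate 6-spaces; (13) the stabiliser of any decomposition into two totally singular 6-spaces; (14) for q odd, the normaliser of any degree-2 subfield K of the matrix algebra whose elements are self-adjoint for the polar form of Q (Q is then the trace of a quadratic form over K); (15) for q odd, the normaliser of any degree-3 subfield K of the matrix algebra whose elements are self-adjoint for the polar form of Q (Q is then the trace of a quadratic form over K); (16) the normaliser of any degree-2 subfield K of the matrix algebra, closed under adjoints for the polar form but not self-adjoint, whose elements act as similarities of Q (so F^12 becomes a 6-dimensional space over K with a hermitian form, and the subgroup is of the type of the unitary group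 GU_6(q)); (17) for q ≥ 3, the stabiliser of any tensor decomposition F^12 = F^2 ⊗ F^6 in which the polar form of Q is (alternating form) ⊗ (alternating form) up to a scalar and Q vanishes on all pure tensors; (18) every subfield group for a subfield F₀ with |F| = |F₀|^r, r prime, whose F₀-structure carries a non-zero scalar multiple of Q. -/
theorem result {F : Type*} [Field F] [Fintype F] (Q : (Fin 12 → F) → F) (hQ : Cfsg.Geo.IsNondegenerateQuadraticForm Q) (hplus : Cfsg.Geo.IsPlusTypeOn Q ⊤) :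
    (∀ W : Submodule F (Fin 12 → F), W ≠ ⊥ → Cfsg.Geo.IsTotallySingularQuad Q W → Module.finrank F W ≠ 5 → Cfsg.Geo.IsMaximalIn (Cfsg.Geo.omegaGL Q) (Cfsg.Geo.subspaceStabilizer W ⊓ Cfsg.Geo.omegaGL Q)) ∧
    (Odd (Fintype.card F) → ∀ W : Submodule F (Fin 12 → F), W ≠ ⊥ → W ≠ ⊤ → Odd (Module.finrank F W) → 2 * Module.finrank F W ≠ 12 → Cfsg.Geo.IsNondegenerateOn (QuadraticMap.polar Q) W → Cfsg.Geo.IsMaximalIn (Cfsg.Geo.omegaGL Q) (Cfsg.Geo.subspaceStabilizer W ⊓ Cfsg.Geo.omegaGL Q)) ∧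
    (∀ W : Submodule F (Fin 12 → F), Module.finrank F W = 2 → Cfsg.Geo.IsNondegenerateOn (QuadraticMap.polar Q) W → ¬ Cfsg.Geo.IsPlusTypeOn Q W → Cfsg.Geo.IsMaximalIn (Cfsg.Geo.omegaGL Q) (Cfsg.Geo.subspaceStabilizer W ⊓ Cfsg.Geo.omegaGL Q)) ∧
    (4 ≤ Fintype.card F → ∀ W : Submodule F (Fin 12 → F), Module.finrank F W = 2 → Cfsg.Geo.IsNondegenerateOn (QuadraticMap.polar Q) W → Cfsg.Geo.IsPlusTypeOn Q W → Cfsg.Geo.IsMaximalIn (Cfsg.Geo.omegaGL Q) (Cfsg.Geo.subspaceStabilizer W ⊓ Cfsg.Geo.omegaGL Q)) ∧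
    (∀ W : Submodule F (Fin 12 → F), Module.finrank F W = 4 → Cfsg.Geo.IsNondegenerateOn (QuadraticMap.polar Q) W → Cfsg.Geo.IsMaximalIn (Cfsg.Geo.omegaGL Q) (Cfsg.Geo.subspaceStabilizer W ⊓ Cfsg.Geo.omegaGL Q)) ∧
    (¬ Odd (Fintype.card F) → ∀ v : (Fin 12 → F), Q v ≠ 0 → Cfsg.Geo.IsMaximalIn (Cfsg.Geo.omegaGL Q) (Cfsg.Geo.subspaceStabilizer (Submodule.span F {v}) ⊓ Cfsg.Geo.omegaGL Q)) ∧
    ((∃ p : ℕ, p.Prime ∧ Odd p ∧ Fintype.card F = p) → ∀ D : Fin 12 → Submodule F (Fin 12 → F), Cfsg.Geo.IsOrthogonalMDecomposition Q 1 D → Cfsg.Geo.IsMaximalIn (Cfsg.Geo.omegaGL Q) (Cfsg.Geo.decompositionStabilizer D ⊓ Cfsg.Geo.omegaGL Q)) ∧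
    (7 ≤ Fintype.card F → ∀ D : Fin 6 → Submodule F (Fin 12 → F), Cfsg.Geo.IsOrthogonalMDecomposition Q 2 D → (∀ i, Cfsg.Geo.IsPlusTypeOn Q (D i)) → Cfsg.Geo.IsMaximalIn (Cfsg.Geo.omegaGL Q) (Cfsg.Geo.decompositionStabilizer D ⊓ Cfsg.Geo.omegaGL Q)) ∧
    (Fintype.card F ≠ 3 → ∀ D : Fin 6 → Submodule F (Fin 12 → F), Cfsg.Geo.IsOrthogonalMDecomposition Q 2 D → (∀ i, ¬ Cfsg.Geo.IsPlusTypeOn Q (D i)) → Cfsg.Geo.IsMaximalIn (Cfsg.Geo.omegaGL Q) (Cfsg.Geo.decompositionStabilizer D ⊓ Cfsg.Geo.omegaGL Q)) ∧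
    (Odd (Fintype.card F) ∧ 5 ≤ Fintype.card F → ∀ D : Fin 4 → Submodule F (Fin 12 → F), Cfsg.Geo.IsOrthogonalMDecomposition Q 3 D → Cfsg.Geo.IsMaximalIn (Cfsg.Geo.omegaGL Q) (Cfsg.Geo.decompositionStabilizer D ⊓ Cfsg.Geo.omegaGL Q)) ∧
    (3 ≤ Fintype.card F → ∀ D : Fin 3 → Submodule F (Fin 12 → F), Cfsg.Geo.IsOrthogonalMDecomposition Q 4 D → Cfsg.Geo.IsMaximalIn (Cfsg.Geo.omegaGL Q) (Cfsg.Geo.decompositionStabilizer D ⊓ Cfsg.Geo.omegaGL Q)) ∧
    (∀ D : Fin 2 → Submodule F (Fin 12 → F), Cfsg.Geo.IsOrthogonalMDecomposition Q 6 D → Cfsg.Geo.IsMaximalIn (Cfsg.Geo.omegaGL Q) (Cfsg.Geo.decompositionStabilizer D ⊓ Cfsg.Geo.omegaGL Q)) ∧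
    (∀ D : Fin 2 → Submodule F (Fin 12 → F), Cfsg.Geo.IsMDecomposition 6 D → (∀ i, Cfsg.Geo.IsTotallySingularQuad Q (D i)) → Cfsg.Geo.IsMaximalIn (Cfsg.Geo.omegaGL Q) (Cfsg.Geo.decompositionStabilizer D ⊓ Cfsg.Geo.omegaGL Q)) ∧
    (Odd (Fintype.card F) → ∀ K : Subalgebra F (Matrix (Fin 12) (Fin 12) F), Cfsg.Geo.IsFieldSubalgebra 2 K → Cfsg.Geo.IsSelfAdjointFor (QuadraticMap.polar Q) K → Cfsg.Geo.IsMaximalIn (Cfsg.Geo.omegaGL Q) (Cfsg.Geo.subalgebraNormalizer K ⊓ Cfsg.Geo.omegaGL Q)) ∧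
    (Odd (Fintype.card F) → ∀ K : Subalgebra F (Matrix (Fin 12) (Fin 12) F), Cfsg.Geo.IsFieldSubalgebra 3 K → Cfsg.Geo.IsSelfAdjointFor (QuadraticMap.polar Q) K → Cfsg.Geo.IsMaximalIn (Cfsg.Geo.omegaGL Q) (Cfsg.Geo.subalgebraNormalizer K ⊓ Cfsg.Geo.omegaGL Q)) ∧
    (∀ K : Subalgebra F (Matrix (Fin 12) (Fin 12) F), Cfsg.Geo.IsFieldSubalgebra 2 K → Cfsg.Geo.IsAdjointClosedFor (QuadraticMap.polar Q) K → ¬ Cfsg.Geo.IsSelfAdjointFor (QuadraticMap.polar Q) K → (∀ k ∈ K, ∃ c : F, ∀ v : (Fin 12 → F), Q (Matrix.mulVec k v) = c * Q v) → Cfsg.Geo.IsMaximalIn (Cfsg.Geo.omegaGL Q) (Cfsg.Geo.subalgebraNormalizer K ⊓ Cfsg.Geo.omegaGL Q)) ∧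
    (3 ≤ Fintype.card F → ∀ (e : Fin 12 ≃ Fin 2 × Fin 6) (P : Matrix.GeneralLinearGroup (Fin 12) F) (f₁ : (Fin 2 → F) → (Fin 2 → F) → F) (f₂ : (Fin 6 → F) → (Fin 6 → F) → F), Cfsg.Geo.IsSymplecticForm f₁ → Cfsg.Geo.IsSymplecticForm f₂ → Cfsg.Geo.IsTensorFormStructure id (QuadraticMap.polar Q) f₁ f₂ e P → (∀ (x₁ : Fin 2 → F) (x₂ : Fin 6 → F), Q (Matrix.mulVec (P : Matrix (Fin 12) (Fin 12) F) ((fun a : Fin 2 × Fin 6 => x₁ a.1 * x₂ a.2) ∘ e)) = 0) → Cfsg.Geo.IsMaximalIn (Cfsg.Geo.omegaGL Q) (Cfsg.Geo.tensorProductSubgroup 2 6 e P ⊓ Cfsg.Geo.omegaGL Q)) ∧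
    (∀ (F₀ : Subfield F) (r : ℕ) (P : Matrix.GeneralLinearGroup (Fin 12) F) (ζ : F), r.Prime → Fintype.card F = Nat.card F₀ ^ r → ζ ≠ 0 → Cfsg.Geo.IsQuadFormRationalStructure (fun v : Fin 12 → F => ζ * Q v) F₀ P → Cfsg.Geo.IsMaximalIn (Cfsg.Geo.omegaGL Q) (Cfsg.Geo.subfieldSubgroup F₀ P ⊓ Cfsg.Geo.omegaGL Q)) := by
  have h8 : 8 ≤ 12 := by norm_num
  refine ⟨fun W h0 hW hd => OmList.singular hQ h8 h0 hW fun _ h => hd (by omega),
    fun _ W h0 h1 ho hne hW => OmList.nondeg hQ h8 h0 h1 hW (fun h => absurd h hne)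
      (Or.inr ⟨fun h => ?_, fun h => ?_⟩),
    fun W hd hW hm => OmList.nondeg_dim hQ h8 hd (by omega) (by omega) hW
      (fun h => absurd h (by omega)) (Or.inr fun _ => hm),
    fun hq W hd hW _ => OmList.nondeg_dim hQ h8 hd (by omega) (by omega) hW
      (fun h => absurd h (by omega)) (Or.inl hq),
    fun W hd hW => OmList.nondeg_dim hQ h8 hd (by omega) (by omega) hW
      (fun h => absurd h (by omega)) (Or.inr fun h => absurd h (by omega)),
    fun hc v hv => OmList.point hQ h8 hc hv,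
    fun ⟨p, hp, hpo, hc⟩ D hD => OmList.lines hQ h8 (by norm_num) (hc ▸ hp)
      (hc ▸ hpo) D hD,
    fun hq D hD _ => OmList.planes hQ h8 (by norm_num) D hD (by omega) (fun _ => hq),
    fun hq D hD hm => OmList.planes hQ h8 (by norm_num) D hD hq
      (fun hall => absurd (hall 0) (hm 0)),
    fun hq D hD => OmList.blocks hQ h8 le_rfl D hD (fun _ => ⟨hq.1, hq.2, by norm_num⟩)
      (fun h => absurd h (by norm_num)),
    fun hq D hD => OmList.blocks hQ h8 (by norm_num) D hD (fun h => absurd h (by norm_num))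
      (fun _ h => absurd h (by omega)),
    fun D hD => OmList.blocks hQ h8 (by norm_num) D hD (fun h => absurd h (by norm_num))
      (fun h => absurd h (by norm_num)),
    fun D hD hts => ?_,
    fun ho K hK hsa => OmList.selfAdjoint hQ h8 ho Nat.prime_two (by omega) K hK hsa,
    fun ho K hK hsa => OmList.selfAdjoint hQ h8 ho Nat.prime_three (by omega) K hK hsa,
    fun K hK hac hnsa hsc => OmList.unitary hQ h8 (by norm_num) K hK hac hnsa hsc,
    fun hq e P f₁ f₂ hf₁ hf₂ hT hpure => ?_,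
    fun F₀ r P ζ hr hcard hζ hP => OmList.subfield hQ h8 F₀ hr hcard P hζ hP⟩
  · obtain ⟨k, hk⟩ := ho; exfalso; omega
  · obtain ⟨k, hk⟩ := ho; exfalso; omega
  · classical
    haveI : Nonempty (Fin 12) := ⟨0⟩
    have hnd := OmE.ndPolar_qf Q hQ
    obtain ⟨⟨Fr⟩, -⟩ := OmE.exists_frame hnd (by rw [Fintype.card_fin]; omega)
    have hcompl : IsCompl (D 0) (D 1) := by
      refine ⟨?_, ?_⟩
      · exact hD.indep.pairwiseDisjoint (by decide : (0 : Fin 2) ≠ 1)
      · rw [codisjoint_iff, ← hD.iSup_eq_top]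
        exact le_antisymm (sup_le (le_iSup D 0) (le_iSup D 1))
          (iSup_le fun i => by fin_cases i; exacts [le_sup_left, le_sup_right])
    have P : OmPair.Pair (OmE.qf Q hQ) (D 0) (D 1) := {
      tsA := hts 0
      tsB := hts 1
      split := fun x => Submodule.mem_sup.1 (by rw [hcompl.sup_eq_top]; trivial)
      disj := hcompl.inf_eq_bot
      dimA := by rw [hD.finrank_eq]; omega
      dimB := by rw [hD.finrank_eq, hD.finrank_eq] }
    exact OmPair.pair_stabilizer_maximal hnd Fr P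
      (by rw [hD.finrank_eq]; decide) rfl rfl
  · classical
    obtain ⟨c, hc, hform⟩ := hT
    have hb : ∀ {k : ℕ} {f : (Fin k → F) → (Fin k → F) → F}, Cfsg.Geo.IsSymplecticForm f →
        ∀ u v, Cfsg.Geo.formOfGram id (Cfsg.Geo.gramMatrix f) u v = f u v := fun h u v =>
      Tensor.formOfGram_gram h.bilinear.add_left h.bilinear.smul_left
        h.bilinear.add_right h.bilinear.smul_right u v
    have hf₁' : Cfsg.Geo.IsSymplecticForm fun u v => c * f₁ u v :=
      ⟨⟨fun x y v => by rw [hf₁.bilinear.add_left, mul_add],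
        fun d x v => by rw [hf₁.bilinear.smul_left, mul_left_comm],
        fun v x y => by rw [hf₁.bilinear.add_right, mul_add],
        fun d v x => by rw [hf₁.bilinear.smul_right, mul_left_comm]⟩,
        fun v w => by rw [hf₁.skew, mul_neg],
        fun v => by rw [hf₁.alternating, mul_zero],
        fun v hv => by
          obtain ⟨⟨x, hx⟩, ⟨y, hy⟩⟩ := hf₁.nondegenerate v hv
          exact ⟨⟨x, mul_ne_zero hc hx⟩, ⟨y, mul_ne_zero hc hy⟩⟩⟩
    refine TensorSymp.symp_tensor_maximal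
      (Q := OmE.qf Q hQ) (OmE.ndPolar_qf Q hQ) e P hf₁' hf₂
      (fun u u' w w' => ?_) (fun u w => ?_) (by norm_num) (by simp) (Or.inr ?_)
    · rw [OmE.coe_qf, Tensor.form_pureL (σ := id) e P (fun _ _ => rfl)
        (f := QuadraticMap.polar Q) hform (hb hf₁) (hb hf₂), mul_assoc]
    · rw [Tensor.pureL_eq]
      exact hpure u w
    obtain ⟨x, y, z, hxy, hxz, hyz⟩ := Fintype.two_lt_card_iff.1 (show 2 < Fintype.card F by omega)
    by_contra hcon
    push Not at hcon
    have key : ∀ t : F, t = 0 ∨ t = 1 := fun t => (eq_or_ne t 0).imp_right (hcon t)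
    rcases key x with rfl | rfl <;> rcases key y with rfl | rfl <;> rcases key z with rfl | rfl <;> simp_all

end Cfsg.Agent.S5870
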