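import Cfsg.Statements.S5877
import Cfsg.Agent.Lib.Extraspecial.EigenMain

set_option autoImplicit false
open Cfsg
open scoped commutatorElement

namespace Cfsg.Agent.S5877

/-- Eigenspaces of elements normalising an absolutely irreducible extraspecial group. Let F be a finite field, r a prime, and R ≤ GL_n(F) an absolutely irreducible extraspecial r-group (an r-group whose centre equals its derived subgroup and has order r) of exponent r or 4. Let g ∈ GL_n(F) normalise the product of R with the scalar matrices, have prime order ϖ and not be scalar, and let W be the eigenspace of g for any c ∈ F (W may be the zero subspace). Then dim W ≤ 3n/4 if ϖ = 2, dim W ≤ 2n/3 if ϖ = 3, and dim W ≤ n/2 if ϖ > 3; moreover if ϖ = 3 and 3 does not divide n then dim W ≤ n/2. -/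
theorem result {F : Type*} [Field F] [Fintype F] {n r ϖ : ℕ} (R : Subgroup (Matrix.GeneralLinearGroup (Fin n) F)) (hr : r.Prime) (hR : IsPGroup r R) (hZ : Nat.card (Subgroup.center R) = r) (hext : commutator R = Subgroup.center R) (hexp : Monoid.exponent R = r ∨ Monoid.exponent R = 4) (hirr : Cfsg.Geo.ActsAbsolutelyIrreducibly (Cfsg.Geo.matrixSet R)) (g : Matrix.GeneralLinearGroup (Fin n) F) (hg : g ∈ Cfsg.Geo.subgroupNormalizer (R ⊔ Cfsg.Geo.scalars (Fin n) F)) (hϖ : ϖ.Prime) (hord : orderOf g = ϖ) (hns : g ∉ Cfsg.Geo.scalars (Fin n) F) (c : F) :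
    (ϖ = 2 → 4 * Module.finrank F (Module.End.eigenspace (Matrix.toLin' (g : Matrix (Fin n) (Fin n) F)) c) ≤ 3 * n) ∧
    (ϖ = 3 → 3 * Module.finrank F (Module.End.eigenspace (Matrix.toLin' (g : Matrix (Fin n) (Fin n) F)) c) ≤ 2 * n) ∧
    (3 < ϖ → 2 * Module.finrank F (Module.End.eigenspace (Matrix.toLin' (g : Matrix (Fin n) (Fin n) F)) c) ≤ n) ∧
    (ϖ = 3 → ¬ 3 ∣ n → 2 * Module.finrank F (Module.End.eigenspace (Matrix.toLin' (g : Matrix (Fin n) (Fin n) F)) c) ≤ n) := by
  classical
  rcases Nat.eq_zero_or_pos n with hn0 | hn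
  · exfalso
    subst hn0
    exact hns (by rw [show g = 1 from Units.ext (Subsingleton.elim _ _)]; exact one_mem _)
  haveI := Fact.mk hr
  have hZr : ∀ z ∈ Subgroup.center ↥R, (z : GL (Fin n) F) ^ r = 1 ∧
      (z : GL (Fin n) F) ∈ Cfsg.Geo.scalars (Fin n) F := by
    intro z hz
    have hcom : ∀ s ∈ Cfsg.Geo.matrixSet R,
        ((z : GL (Fin n) F) : Matrix (Fin n) (Fin n) F) * s =
          s * ((z : GL (Fin n) F) : Matrix (Fin n) (Fin n) F) := by
      rintro _ ⟨b, hb, rfl⟩
      have h := Subgroup.mem_center_iff.mp hz ⟨b, hb⟩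
      have h' := congrArg (fun w : ↥R => ((w : GL (Fin n) F) : Matrix (Fin n) (Fin n) F)) h
      simpa using h'.symm
    constructor
    · have h : (⟨z, hz⟩ : ↥(Subgroup.center ↥R)) ^ r = 1 := by rw [← hZ]; exact pow_card_eq_one'
      exact congrArg (fun w : ↥(Subgroup.center ↥R) => ((w : ↥R) : GL (Fin n) F)) h
    · obtain ⟨a, ha⟩ := hirr.2 _ hcom
      refine (Cfsg.Geo.mem_scalars_iff _).mpr ?_
      have ha0 : a ≠ 0 := by
        rintro rfl
        rw [zero_smul] at ha
        haveI : Nonempty (Fin n) := ⟨⟨0, hn⟩⟩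
        exact (Units.ne_zero (z : GL (Fin n) F)) ha
      exact ⟨Units.mk0 a ha0, ha⟩
  have hS : ∀ a : GL (Fin n) F, (∀ b ∈ R, a * b = b * a) → a ∈ Cfsg.Geo.scalars (Fin n) F := by
    intro a h
    obtain ⟨k, hk⟩ := hirr.2 (a : Matrix (Fin n) (Fin n) F) (by
      rintro _ ⟨b, hb, rfl⟩
      simpa using congrArg Units.val (h b hb))
    have hk0 : k ≠ 0 := by
      rintro rfl
      rw [zero_smul] at hk
      haveI : Nonempty (Fin n) := ⟨⟨0, hn⟩⟩
      exact (Units.ne_zero a) hk
    exact (Cfsg.Geo.mem_scalars_iff _).mpr ⟨Units.mk0 k hk0, hk⟩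
  have C : CfsgLib.EigBound.Ctx R g r ϖ :=
    { hn := hn
      hr := hr
      hϖ := hϖ
      comm := fun a ha b hb => by
        have h : (⁅(⟨a, ha⟩ : ↥R), (⟨b, hb⟩ : ↥R)⁆) ∈ Subgroup.center ↥R :=
          hext ▸ Subgroup.commutator_mem_commutator (Subgroup.mem_top _) (Subgroup.mem_top _)
        exact ⟨(hZr _ h).2, (hZr _ h).1⟩
      schur := hS
      norm := fun a ha =>
        ⟨(Subgroup.mem_normalizer_iff.mp hg a).mp ha,
          (Subgroup.mem_normalizer_iff.mp hg (g⁻¹ * a * g)).mpr (by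
            rwa [show g * (g⁻¹ * a * g) * g⁻¹ = a by group])⟩
      order := hord ▸ pow_orderOf_eq_one g
      notScalar := hns }
  by_cases hc : c = 0
  · subst hc
    have hb : Module.End.eigenspace (Matrix.toLin' (g : Matrix (Fin n) (Fin n) F)) 0 = ⊥ := by
      rw [eq_bot_iff]
      intro v hv
      rw [Module.End.mem_eigenspace_iff, zero_smul] at hv
      exact CfsgLib.EigBound.ev_apply_injective g (hv.trans (map_zero _).symm)
    rw [hb, finrank_bot]
    simp
  · refine C.bounds ?_ hc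
    intro h3 a ha
    subst h3
    have hexp3 : Monoid.exponent ↥R = 3 := by
      rcases hexp with h | h
      · exact h
      · exfalso
        obtain ⟨k, hk⟩ := hR.exists_card_eq
        haveI : Finite ↥R := inferInstance
        have h4 : (4 : ℕ) ∣ Nat.card ↥R := h ▸ Group.exponent_dvd_nat_card
        rw [hk] at h4
        have h5 : 2 ∣ 3 ^ k := (by norm_num : (2 : ℕ) ∣ 4).trans h4
        exact absurd (Nat.prime_two.dvd_of_dvd_pow h5) (by norm_num)
    have h := Monoid.pow_exponent_eq_one (⟨a, ha⟩ : ↥R)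
    rw [hexp3] at h
    exact congrArg Subtype.val h

end Cfsg.Agent.S5877
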