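import Cfsg.Statements.S5883
import Cfsg.Agent.Lib.Fi23Max.Final

set_option autoImplicit false
open Cfsg

namespace Cfsg.Agent.S5883

/-- The constant 10 in the statement that H⁽¹⁰⁾ is perfect for every maximal subgroup H of a finite almost simple group cannot be lowered to 9: there exist a finite almost simple group G (with a non-abelian simple normal subgroup of trivial centralizer) and a maximal subgroup H of G whose ninth derived subgroup H⁽⁹⁾ is not perfect, i.e. H⁽¹⁰⁾ ≠ H⁽⁹⁾. (A solvable maximal subgroup of derived length 10 in the Fischer group Fi₂₃ is such an example.) -/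
theorem result :
    ∃ (G : Type) (_ : Group G) (_ : Finite G) (S H : Subgroup G), S.Normal ∧ IsSimpleGroup S ∧ ¬ IsMulCommutative S ∧
      Subgroup.centralizer (S : Set G) = ⊥ ∧ IsCoatom H ∧ derivedSeries H 10 ≠ derivedSeries H 9 := by
  haveI : Finite Cfsg.Spor.Fi23 := CfsgLib.CosetEnum.Fi23.finite
  haveI := CfsgLib.CosetEnum.Fi23.Simple.isSimple
  have hc : Subgroup.center Cfsg.Spor.Fi23 = ⊥ :=
    CfsgLib.CosetEnum.center_eq_bot_of_simple (K := Cfsg.Spor.Fi23)
      (by rw [CfsgLib.CosetEnum.Fi23.card_group]; norm_num)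
  refine ⟨Cfsg.Spor.Fi23, inferInstance, inferInstance, ⊤, CfsgLib.Fi23Max.Hs, inferInstance,
    (Subgroup.topEquiv (G := Cfsg.Spor.Fi23)).isSimpleGroup, ?_, ?_, CfsgLib.Fi23Max.isCoatom,
    CfsgLib.Fi23Max.derived_ne⟩
  · intro h
    have hz : CfsgLib.CosetEnum.Fi23.z ∈ Subgroup.center Cfsg.Spor.Fi23 :=
      Subgroup.mem_center_iff.mpr fun w =>
        congrArg Subtype.val (h.is_comm.comm (⟨w, Subgroup.mem_top w⟩ : (⊤ : Subgroup Cfsg.Spor.Fi23))
          ⟨_, Subgroup.mem_top CfsgLib.CosetEnum.Fi23.z⟩)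
    rw [hc] at hz
    exact CfsgLib.CosetEnum.Fi23.z_ne_one (Subgroup.mem_bot.mp hz)
  · rw [Subgroup.coe_top, Subgroup.centralizer_univ, hc]

end Cfsg.Agent.S5883
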