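import Cfsg.Statements.S5885
import Cfsg.Agent.Lib.SecondMax.OddGiant

set_option autoImplicit false
open Cfsg

namespace Cfsg.Agent.S5885

/-- Let n be an odd positive integer such that every primitive permutation group of degree n contains the alternating group (so the symmetric and alternating groups are the only primitive groups of degree n). Let G be a finite group, M a maximal subgroup of G of index n, and H a maximal subgroup of M. Then H is a second maximal subgroup of G: H is maximal in every maximal subgroup K of G containing H. -/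
theorem result {G : Type*} [Group G]
    [Finite G] (n : ℕ) (hodd : Odd n)
    (hA : ∀ P : Subgroup (Equiv.Perm (Fin n)), MulAction.IsPreprimitive P (Fin n) → alternatingGroup (Fin n) ≤ P)
    (M : Subgroup G) (hM : IsCoatom M) (hn : M.index = n) (H : Subgroup G) (hHM : H ≤ M)
    (hmax : IsCoatom (H.subgroupOf M)) (K : Subgroup G) (hK : IsCoatom K) (hHK : H ≤ K) :
    IsCoatom (H.subgroupOf K) := by
  classical
  haveI : Finite (G ⧸ M) := inferInstance
  have e : G ⧸ M ≃ Fin n := Finite.equivFinOfCardEq hn
  letI : MulAction G (Fin n) := MulAction.compHom _ (e.permCongrHom.toMonoidHom.comp (MulAction.toPermHom G (G ⧸ M)))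
  have hsmul : ∀ (g : G) (q : G ⧸ M), g • e q = e (g • q) := fun g q => by
    show e (g • e.symm (e q)) = _
    rw [e.symm_apply_apply]
  set a : Fin n := e ((1 : G) : G ⧸ M) with ha
  haveI : MulAction.IsPretransitive G (Fin n) := ⟨fun x y => by
    obtain ⟨g, hg⟩ := MulAction.exists_smul_eq G (e.symm x) (e.symm y)
    exact ⟨g, by rw [← e.apply_symm_apply x, hsmul, hg, e.apply_symm_apply]⟩⟩
  have hstab : MulAction.stabilizer G a = M := by
    ext g
    rw [MulAction.mem_stabilizer_iff, ha, hsmul, e.injective.eq_iff, ← MulAction.mem_stabilizer_iff,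
      MulAction.stabilizer_quotient]
  have h1 : n ≠ 1 := fun h => hM.1 (Subgroup.index_eq_one.1 (hn.trans h))
  haveI : Nontrivial (Fin n) := Fin.nontrivial_iff_two_le.2 (by obtain ⟨k, rfl⟩ := hodd; omega)
  haveI hprim : MulAction.IsPreprimitive G (Fin n) :=
    (MulAction.isCoatom_stabilizer_iff_preprimitive G a).1 (hstab ▸ hM)
  have hrange : MulAction.IsPreprimitive (MulAction.toPermHom G (Fin n)).range (Fin n) :=
    MulAction.IsPreprimitive.of_surjective
      (φ := (MulAction.toPermHom G (Fin n)).rangeRestrict) (f := ⟨id, fun g x => rfl⟩)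
      Function.surjective_id
  exact CfsgLib.SecondMax.isCoatom_of_giant (by rwa [Fintype.card_fin]) a (hA _ hrange) H
    (hstab.symm ▸ hHM) (hstab.symm ▸ hmax) (hstab.symm ▸ hM) K hK hHK

end Cfsg.Agent.S5885
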