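import Cfsg.Statements.S5886
import Cfsg.Agent.Lib.ExtFieldMax.Matrix

set_option autoImplicit false

namespace Cfsg.Agent.S5886

/-- The normaliser of an extension field of prime degree less than `n` is maximal in the general and special linear groups. -/
theorem result {F : Type*} [Field F]
    [Fintype F] (n r : ℕ) (hr : r.Prime) (hrn : r ∣ n) (hlt : r < n) (K : Subalgebra F (Matrix (Fin n) (Fin n) F))
    (hK : Cfsg.Geo.IsFieldSubalgebra r K) :
    IsCoatom (Cfsg.Geo.subalgebraNormalizer K) ∧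
      Cfsg.Geo.IsMaximalIn (Cfsg.Geo.specialLinear (Fin n) F)
        (Cfsg.Geo.subalgebraNormalizer K ⊓ Cfsg.Geo.specialLinear (Fin n) F) :=
  ⟨CfsgLib.ExtFieldMax.isCoatom_normalizer hr hrn hlt hK,
    CfsgLib.ExtFieldMax.isMaximalIn_sl hr hrn hlt hK⟩

end Cfsg.Agent.S5886
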