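import Cfsg.Statements.S5892
import Cfsg.Agent.Lib.PSL2Sub.MaxClassify

set_option autoImplicit false
open Cfsg

namespace Cfsg.Agent.S5892

/-- Let F be a finite field of odd order q ≥ 5 and characteristic p, and let M be a maximal subgroup of PSL₂(F). Then one of the following holds: |M| = q(q − 1)/2 (the stabiliser of a point of the projective line); q ≥ 13 and M is dihedral of order q − 1; q ∉ {7, 9} and M is dihedral of order q + 1; q = q₀² and M ≅ PGL₂(F₀) with |F₀| = q₀; q = q₀^r for an odd prime r and M ≅ PSL₂(F₀) with |F₀| = q₀; q ≡ ±1 (mod 10) with q = p or q = p², p ≡ ±3 (mod 10), and M ≅ A₅; q = p ≡ ±3 (mod 8), q ≢ ±1 (mod 10), and M ≅ A₄; or q = p ≡ ±1 (mod 8) and M ≅ S₄. -/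
theorem result {F : Type*} [Field F] [Fintype F] (p : ℕ)
    [Fact p.Prime] [CharP F p] (hodd : Odd (Fintype.card F)) (h5 : 5 ≤ Fintype.card F)
    (M : Subgroup (Matrix.ProjectiveSpecialLinearGroup (Fin 2) F)) (hM : IsCoatom M) :
    2 * Nat.card M = Fintype.card F * (Fintype.card F - 1) ∨
    (13 ≤ Fintype.card F ∧ (∃ k : ℕ, 2 * k = Fintype.card F - 1 ∧ Nonempty (M ≃* DihedralGroup k))) ∨
    (Fintype.card F ≠ 7 ∧ Fintype.card F ≠ 9 ∧ (∃ k : ℕ, 2 * k = Fintype.card F + 1 ∧ Nonempty (M ≃* DihedralGroup k))) ∨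
    (∃ (F₀ : Type) (_ : Field F₀) (_ : Fintype F₀), Fintype.card F = Fintype.card F₀ ^ 2 ∧
        Nonempty (M ≃* Matrix.ProjGenLinGroup (Fin 2) F₀)) ∨
    (∃ (F₀ : Type) (_ : Field F₀) (_ : Fintype F₀) (r : ℕ), r.Prime ∧ Odd r ∧ Fintype.card F = Fintype.card F₀ ^ r ∧
        Nonempty (M ≃* Matrix.ProjectiveSpecialLinearGroup (Fin 2) F₀)) ∨
    ((Fintype.card F % 10 = 1 ∨ Fintype.card F % 10 = 9) ∧
        (Fintype.card F = p ∨ (Fintype.card F = p ^ 2 ∧ (p % 10 = 3 ∨ p % 10 = 7))) ∧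
        Nonempty (M ≃* alternatingGroup (Fin 5))) ∨
    (Fintype.card F = p ∧ (p % 8 = 3 ∨ p % 8 = 5) ∧ ¬ (p % 10 = 1 ∨ p % 10 = 9) ∧
        Nonempty (M ≃* alternatingGroup (Fin 4))) ∨
    (Fintype.card F = p ∧ (p % 8 = 1 ∨ p % 8 = 7) ∧ Nonempty (M ≃* Equiv.Perm (Fin 4))) := by
  rw [Nat.odd_iff] at hodd
  have hp : p ≠ 2 := by
    intro h
    have := ((CfsgLib.PSL2Sub.card_parity (F := F) p).2.1 h).1
    omega
  have hd := ((CfsgLib.PSL2Sub.card_parity (F := F) p).1 hp).2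
  have h4 : 4 ≤ Fintype.card F := by omega
  have hG := CfsgLib.PSL2Sub.gcd_mul_card_PS (F := F)
  rw [hd] at hG
  rcases CfsgLib.PSL2Sub.classify_max p h4 M hM with
      h | ⟨k, hk3, hk, e⟩ | ⟨⟨-, hq, h8, h10⟩, e⟩ | ⟨⟨-, hq, h8⟩, e⟩ | ⟨⟨-, hq, hqp⟩, e⟩ |
      ⟨-, h⟩ | ⟨F₀, i₁, i₂, r, hr, -, hodd', hF, e⟩
  · rw [hd] at h
    exact Or.inl h
  · rw [hd] at hk
    obtain ⟨d⟩ := e
    have hMc : Nat.card M = 2 * k := (Nat.card_congr d.toEquiv).trans DihedralGroup.nat_card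
    have h24 : Nat.card (Equiv.Perm (Fin 4)) = 24 := CfsgLib.PSL2Sub.card_sym_four
    have h60 : Nat.card (alternatingGroup (Fin 5)) = 60 := CfsgLib.PSL2Sub.card_alt_five
    rcases hk with hk | hk
    · refine Or.inr (Or.inl ⟨?_, k, hk, ⟨d⟩⟩)
      by_contra h13
      have hk' : k = 3 ∨ k = 4 ∨ k = 5 := by omega
      rcases hk' with rfl | rfl | rfl
      · rw [show Fintype.card F = 7 by omega] at hG
        obtain ⟨H, ⟨eH⟩⟩ := (CfsgLib.PSL2Sub.sym_four_iff (F := F)).mpr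
          (by rw [show Fintype.card F = 7 by omega]; norm_num)
        have hH : Nat.card H = 24 := (Nat.card_congr eH.toEquiv).trans h24
        norm_num at hG
        haveI : Fact (Nat.Prime 3) := ⟨Nat.prime_three⟩
        refine CfsgLib.PSL2Sub.small_pair_case le_rfl h4 ?_ hM d eH ?_ ?_
          CfsgLib.PSL2Sub.sym_four_has_pair
        · rw [show Nat.card (CfsgLib.PSL2Sub.PS F) = 168 by omega]; norm_num
        · omega
        · omega
      · rw [show Fintype.card F = 9 by omega] at hG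
        obtain ⟨H, ⟨eH⟩⟩ := (CfsgLib.PSL2Sub.sym_four_iff (F := F)).mpr
          (by rw [show Fintype.card F = 9 by omega]; norm_num)
        have hH : Nat.card H = 24 := (Nat.card_congr eH.toEquiv).trans h24
        norm_num at hG
        refine CfsgLib.PSL2Sub.no_sylow_eight ?_ hM hMc ?_ hH
        · rw [show Nat.card (CfsgLib.PSL2Sub.PS F) = 360 by omega]; norm_num
        · intro h
          rw [h, Subgroup.card_top] at hH
          omega
      · rw [show Fintype.card F = 11 by omega] at hG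
        obtain ⟨H, ⟨eH⟩⟩ := (CfsgLib.PSL2Sub.alt_five_iff (F := F)).mpr
          (by rw [show Fintype.card F = 11 by omega]; norm_num)
        have hH : Nat.card H = 60 := (Nat.card_congr eH.toEquiv).trans h60
        norm_num at hG
        haveI : Fact (Nat.Prime 5) := ⟨Nat.prime_five⟩
        refine CfsgLib.PSL2Sub.small_pair_case (by norm_num) h4 ?_ hM d eH ?_ ?_
          CfsgLib.PSL2Sub.alt_five_has_pair
        · rw [show Nat.card (CfsgLib.PSL2Sub.PS F) = 660 by omega]; norm_num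
        · omega
        · omega
    · refine Or.inr (Or.inr (Or.inl ⟨fun h7 => ?_, fun h9 => ?_, k, hk, ⟨d⟩⟩))
      · obtain rfl : k = 4 := by omega
        rw [h7] at hG
        obtain ⟨H, ⟨eH⟩⟩ := (CfsgLib.PSL2Sub.sym_four_iff (F := F)).mpr
          (by rw [h7]; norm_num)
        have hH : Nat.card H = 24 := (Nat.card_congr eH.toEquiv).trans h24
        norm_num at hG
        refine CfsgLib.PSL2Sub.no_sylow_eight ?_ hM hMc ?_ hH
        · rw [show Nat.card (CfsgLib.PSL2Sub.PS F) = 168 by omega]; norm_num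
        · intro h
          rw [h, Subgroup.card_top] at hH
          omega
      · obtain rfl : k = 5 := by omega
        rw [h9] at hG
        obtain ⟨H, ⟨eH⟩⟩ := (CfsgLib.PSL2Sub.alt_five_iff (F := F)).mpr
          (by rw [h9]; norm_num)
        have hH : Nat.card H = 60 := (Nat.card_congr eH.toEquiv).trans h60
        norm_num at hG
        haveI : Fact (Nat.Prime 5) := ⟨Nat.prime_five⟩
        refine CfsgLib.PSL2Sub.small_pair_case (by norm_num) h4 ?_ hM d eH ?_ ?_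
          CfsgLib.PSL2Sub.alt_five_has_pair
        · rw [show Nat.card (CfsgLib.PSL2Sub.PS F) = 360 by omega]; norm_num
        · omega
        · omega
  · exact Or.inr (Or.inr (Or.inr (Or.inr (Or.inr (Or.inr (Or.inl ⟨hq, h8, h10, e⟩))))))
  · exact Or.inr (Or.inr (Or.inr (Or.inr (Or.inr (Or.inr (Or.inr ⟨hq, h8, e⟩))))))
  · exact Or.inr (Or.inr (Or.inr (Or.inr (Or.inr (Or.inl ⟨hq, hqp, e⟩)))))
  · exact Or.inr (Or.inr (Or.inr (Or.inl h)))
  · exact Or.inr (Or.inr (Or.inr (Or.inr (Or.inl ⟨F₀, i₁, i₂, r, hr, hodd' hp, hF, e⟩))))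

end Cfsg.Agent.S5892
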