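import Cfsg.Statements.S5893
import Cfsg.Agent.Lib.PSL2Sub.MaxClassify

set_option autoImplicit false
open Cfsg

namespace Cfsg.Agent.S5893

/-- Let F be a finite field of even order q ≥ 4 and let M be a maximal subgroup of PSL₂(F) (= SL₂(F) = PGL₂(F)). Then one of the following holds: |M| = q(q − 1) (the stabiliser of a point of the projective line, elementary abelian of order q extended by a cyclic group of order q − 1); M is dihedral of order 2(q − 1); M is dihedral of order 2(q + 1); or q = q₀^r for a prime r with q₀ ≠ 2 and M ≅ PSL₂(F₀) with |F₀| = q₀. -/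
theorem result {F : Type*} [Field F] [Fintype F]
    (heven : Even (Fintype.card F)) (h4 : 4 ≤ Fintype.card F) (M : Subgroup (Matrix.ProjectiveSpecialLinearGroup (Fin 2) F)) (hM : IsCoatom M) :
    Nat.card M = Fintype.card F * (Fintype.card F - 1) ∨
    Nonempty (M ≃* DihedralGroup (Fintype.card F - 1)) ∨
    Nonempty (M ≃* DihedralGroup (Fintype.card F + 1)) ∨
    (∃ (F₀ : Type) (_ : Field F₀) (_ : Fintype F₀) (r : ℕ), r.Prime ∧ Fintype.card F₀ ≠ 2 ∧
        Fintype.card F = Fintype.card F₀ ^ r ∧ Nonempty (M ≃* Matrix.ProjectiveSpecialLinearGroup (Fin 2) F₀)) := by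
  obtain ⟨p, hc⟩ := CharP.exists F
  haveI := Fact.mk (CharP.char_is_prime F p)
  have hp : p = 2 := by
    by_contra h
    have := ((CfsgLib.PSL2Sub.card_parity (F := F) p).1 h).1
    rw [Nat.even_iff] at heven
    omega
  have hd := ((CfsgLib.PSL2Sub.card_parity (F := F) p).2.1 hp).2
  rcases CfsgLib.PSL2Sub.classify_max p h4 M hM with
      h | ⟨k, -, hk, e⟩ | ⟨⟨h, -⟩, -⟩ | ⟨⟨h, -⟩, -⟩ | ⟨⟨h, -⟩, -⟩ | ⟨h, -⟩ |
      ⟨F₀, i₁, i₂, r, hr, h2, -, hF, e⟩
  · rw [hd, one_mul] at h
    exact Or.inl h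
  · rw [hd, one_mul] at hk
    rcases hk with rfl | rfl
    · exact Or.inr (Or.inl e)
    · exact Or.inr (Or.inr (Or.inl e))
  · exact absurd hp h
  · exact absurd hp h
  · exact absurd hp h
  · exact absurd hp h
  · exact Or.inr (Or.inr (Or.inr ⟨F₀, i₁, i₂, r, hr, h2 hp, hF, e⟩))

end Cfsg.Agent.S5893
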