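import Cfsg.Statements.S5894
import Cfsg.Agent.Lib.AltHall.Classes
import Cfsg.Agent.Lib.AltHall.Partition
import Mathlib.GroupTheory.Perm.MaximalSubgroups
import Mathlib.Logic.Equiv.Fintype

set_option autoImplicit false
open Cfsg
open scoped Pointwise

namespace Cfsg.Agent.S5894

/-- For every m ≥ 2 the symmetric group on 2m letters has a maximal subgroup M of index 2m together with a maximal subgroup H of M that is not second maximal: some maximal subgroup K of the symmetric group contains H without H being maximal in K. (One may take M the stabiliser of a letter, H ≅ S_m × S_{m−1} inside it, and K ≅ S_m ≀ S₂ the stabiliser of a partition into two m-sets, with H < S_m × S_m < K.) So the prime-index hypothesis in the second-maximality criterion cannot be relaxed to any even index ≥ 4. -/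
theorem result (m : ℕ) (hm : 2 ≤ m) :
    ∃ M H K : Subgroup (Equiv.Perm (Fin (2 * m))), IsCoatom M ∧ M.index = 2 * m ∧ H ≤ M ∧ IsCoatom (H.subgroupOf M) ∧
      IsCoatom K ∧ H ≤ K ∧ ¬ IsCoatom (H.subgroupOf K) := by
  classical
  obtain ⟨C, -, hC⟩ := Finset.exists_subset_card_eq (s := (Finset.univ : Finset (Fin (2 * m)))) (n := m)
    (by simp; omega)
  obtain ⟨x, -, hx⟩ := Finset.exists_mem_notMem_of_card_lt_card (s := C) (t := Finset.univ)
    (by simp; omega)
  obtain ⟨y, -, hy⟩ := Finset.exists_mem_notMem_of_card_lt_card (s := insert x C) (t := Finset.univ)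
    (lt_of_le_of_lt (Finset.card_insert_le x C) (by simp; omega))
  simp only [Finset.mem_insert, not_or] at hy
  set M := MulAction.stabilizer (Equiv.Perm (Fin (2 * m))) x with hM
  haveI : MulAction.IsPretransitive (Equiv.Perm (Fin (2 * m))) (Fin (2 * m)) :=
    ⟨fun u v => ⟨Equiv.swap u v, Equiv.swap_apply_left u v⟩⟩
  have hMco : IsCoatom M := by
    rw [hM, ← MulAction.stabilizer_singleton (G := Equiv.Perm (Fin (2 * m))) x]
    apply Equiv.Perm.isCoatom_stabilizer
    · exact Set.singleton_nonempty x
    · exact ⟨y, fun h => hy.1 h⟩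
    · rw [Set.ncard_singleton, Nat.card_eq_fintype_card, Fintype.card_fin]
      omega
  let f : Fin (2 * m) → Fin 2 := fun z => if z ∈ C then 0 else 1
  have hf : ∀ i : Fin 2, Nat.card {z // f z = i} = m := by
    intro i
    rw [Nat.card_eq_fintype_card, Fintype.card_subtype]
    fin_cases i
    · rw [show (Finset.univ.filter fun z => f z = ((⟨0, by omega⟩ : Fin 2))) = C from ?_, hC]
      ext z
      by_cases hz : z ∈ C <;> simp [f, hz]
    · rw [show (Finset.univ.filter fun z => f z = ((⟨1, by omega⟩ : Fin 2))) = Cᶜ from ?_,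
        Finset.card_compl, Fintype.card_fin, hC]
      · omega
      ext z
      by_cases hz : z ∈ C <;> simp [f, hz]
  have hK : CfsgLib.AltHall.pairStab C = CfsgLib.AltHall.partStab f := by
    ext g
    have key : ∀ u v, f u = f v ↔ (u ∈ C ↔ v ∈ C) := fun u v => by
      by_cases hu : u ∈ C <;> by_cases hv : v ∈ C <;> simp [f, hu, hv]
    constructor
    · rintro (h | h) u v <;> rw [key, key, h u, h v]
      exact not_iff_not.symm
    · intro h
      obtain ⟨c₀, hc₀⟩ : C.Nonempty := Finset.card_pos.1 (by omega)
      by_cases hg : g c₀ ∈ C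
      · refine Or.inl fun u => ?_
        have := h u c₀
        rw [key, key] at this
        tauto
      · refine Or.inr fun u => ?_
        have := h u c₀
        rw [key, key] at this
        tauto
  have hKco : IsCoatom (CfsgLib.AltHall.pairStab C) := by
    rw [hK]
    exact ⟨fun h => CfsgLib.AltHall.partStab_ne_top hf hm le_rfl (h ▸ le_top),
      fun L hL => CfsgLib.AltHall.eq_top_of_partStab_lt hf hm le_rfl hL⟩
  refine ⟨M, M ⊓ CfsgLib.AltHall.presB C, CfsgLib.AltHall.pairStab C, hMco, ?_, inf_le_left, ?_, hKco,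
    inf_le_right.trans (fun _ h => Or.inl h), ?_⟩
  · rw [hM, MulAction.index_stabilizer_of_transitive, Nat.card_eq_fintype_card, Fintype.card_fin]
  · -- inside the point stabiliser, the stabiliser of an `m`-set is maximal
    let e : Equiv.Perm {z : Fin (2 * m) // z ≠ x} ≃* M :=
      MulEquiv.ofBijective
        ((Equiv.Perm.ofSubtype (p := fun z : Fin (2 * m) => z ≠ x)).codRestrict M fun σ =>
          Equiv.Perm.ofSubtype_apply_of_not_mem σ (by simp)) ⟨fun a b hab =>
            Equiv.Perm.ofSubtype_injective (congrArg Subtype.val hab), fun g => by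
          have hp : ∀ z, g.1 z ≠ x ↔ z ≠ x := fun z => by
            have hgx : g.1 x = x := g.2
            conv_lhs => rw [← hgx]
            exact g.1.injective.ne_iff
          refine ⟨g.1.subtypePerm hp, Subtype.ext ?_⟩
          exact Equiv.Perm.ofSubtype_subtypePerm hp fun z hz hzx => hz (hzx ▸ g.2)⟩
    let C' : Set {z : Fin (2 * m) // z ≠ x} := {z | z.1 ∈ C}
    have hcomap : ((M ⊓ CfsgLib.AltHall.presB C).subgroupOf M).comap e.toMonoidHom =
        MulAction.stabilizer (Equiv.Perm {z : Fin (2 * m) // z ≠ x}) C' := by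
      ext σ
      rw [Subgroup.mem_comap, Subgroup.mem_subgroupOf, MulAction.mem_stabilizer_iff]
      constructor
      · rintro ⟨-, h⟩
        ext z
        rw [Set.mem_smul_set_iff_inv_smul_mem]
        have := h ((σ⁻¹ z : {z : Fin (2 * m) // z ≠ x}) : Fin (2 * m))
        change Equiv.Perm.ofSubtype σ _ ∈ C ↔ _ at this
        rw [Equiv.Perm.ofSubtype_apply_coe] at this
        simpa [C'] using this.symm
      · intro h
        refine ⟨(e σ).2, fun z => ?_⟩
        change Equiv.Perm.ofSubtype σ z ∈ C ↔ z ∈ C
        by_cases hz : z = x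
        · rw [Equiv.Perm.ofSubtype_apply_of_not_mem σ (by simp [hz])]
        · rw [show z = ((⟨z, hz⟩ : {z : Fin (2 * m) // z ≠ x}) : Fin (2 * m)) from rfl,
            Equiv.Perm.ofSubtype_apply_coe]
          show σ • (⟨z, hz⟩ : {z : Fin (2 * m) // z ≠ x}) ∈ C' ↔ (⟨z, hz⟩ : {z : Fin (2 * m) // z ≠ x}) ∈ C'
          conv_lhs => rw [← h]
          exact Set.smul_mem_smul_set_iff (a := σ)
    have hco : IsCoatom (MulAction.stabilizer (Equiv.Perm {z : Fin (2 * m) // z ≠ x}) C') := by
      have hn : Nat.card {z : Fin (2 * m) // z ≠ x} = 2 * m - 1 := by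
        rw [Nat.card_eq_fintype_card, Fintype.card_subtype_compl, Fintype.card_subtype_eq,
          Fintype.card_fin]
      obtain ⟨c₀, hc₀⟩ : C.Nonempty := Finset.card_pos.1 (by omega)
      apply Equiv.Perm.isCoatom_stabilizer
      · exact ⟨⟨c₀, fun h => hx (h ▸ hc₀)⟩, hc₀⟩
      · exact ⟨⟨y, hy.1⟩, hy.2⟩
      · omega
    rw [← hcomap] at hco
    exact (OrderIso.isCoatom_iff e.comapSubgroup _).1 hco
  · intro hco
    refine absurd (hco.2 ((CfsgLib.AltHall.presB C).subgroupOf (CfsgLib.AltHall.pairStab C)) ?_) ?_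
    · refine lt_of_le_of_ne (Subgroup.comap_mono inf_le_right) fun he => ?_
      have hs : Equiv.swap x y ∈ CfsgLib.AltHall.presB C := fun z => by
        rw [Equiv.swap_apply_def]
        split_ifs with h1 h2
        · subst h1; simp [hx, hy.2]
        · subst h2; simp [hx, hy.2]
        · rfl
      have hmem : (⟨_, Or.inl hs⟩ : CfsgLib.AltHall.pairStab C) ∈
          (CfsgLib.AltHall.presB C).subgroupOf (CfsgLib.AltHall.pairStab C) := hs
      rw [← he] at hmem
      have : Equiv.swap x y x = x := hmem.1
      rw [Equiv.swap_apply_left] at this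
      exact hy.1 this
    · rw [Subgroup.subgroupOf_eq_top]
      intro hle
      obtain ⟨c₀, hc₀⟩ : C.Nonempty := Finset.card_pos.1 (by omega)
      obtain ⟨ee⟩ := Fintype.card_eq.1 (show Fintype.card {z // z ∈ C} = Fintype.card {z // z ∈ Cᶜ} by
        rw [Fintype.card_coe, Fintype.card_coe, Finset.card_compl, Fintype.card_fin, hC]; omega)
      have hs : ∀ z, ee.extendSubtype z ∈ C ↔ z ∉ C := fun z => by
        by_cases hz : z ∈ C
        · simp only [hz, not_true_eq_false, iff_false]
          exact Finset.mem_compl.1 (Equiv.extendSubtype_mem ee z hz)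
        · simp only [hz, not_false_eq_true, iff_true]
          by_contra h
          exact Equiv.extendSubtype_not_mem ee z hz (Finset.mem_compl.2 h)
      exact ((hle (show ee.extendSubtype ∈ CfsgLib.AltHall.pairStab C from Or.inr hs) c₀).2 hc₀ |> (hs c₀).1) hc₀

end Cfsg.Agent.S5894
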