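import Cfsg.Statements.S5895
import Cfsg.Agent.Lib.AltHall.Affine
import Mathlib.Data.ZMod.Basic
import Mathlib.SetTheory.Cardinal.Finite

set_option autoImplicit false
open Cfsg

namespace Cfsg.Agent.S5895

/-- For every prime p and every d ≥ 2 there is a finite group G with a maximal subgroup M of index p^d and a maximal subgroup H of M that is not second maximal in G: some maximal subgroup K of G contains H without H being maximal in K. (One may take G the affine group V ⋊ GL(V) of V = 𝔽_p^d, M = GL(V), H the stabiliser in M of a line W of V, and K = V ⋊ H, with H < W ⋊ H < K.) So the prime-index hypothesis in the second-maximality criterion cannot be relaxed to prime-power index. -/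
theorem result (p d : ℕ) (hp : p.Prime)
    (hd : 2 ≤ d) :
    ∃ (G : Type) (_ : Group G) (_ : Finite G) (M H K : Subgroup G), IsCoatom M ∧ M.index = p ^ d ∧ H ≤ M ∧
      IsCoatom (H.subgroupOf M) ∧ IsCoatom K ∧ H ≤ K ∧ ¬ IsCoatom (H.subgroupOf K) := by
  haveI : Fact p.Prime := ⟨hp⟩
  have hv : (Pi.single ⟨0, by omega⟩ 1 : Fin d → ZMod p) ≠ 0 := by
    intro h
    simpa using congrFun h ⟨0, by omega⟩
  have hu : (Pi.single ⟨1, by omega⟩ 1 : Fin d → ZMod p) ∉
      Submodule.span (ZMod p) {(Pi.single ⟨0, by omega⟩ 1 : Fin d → ZMod p)} := by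
    intro h
    obtain ⟨k, hk⟩ := Submodule.mem_span_singleton.1 h
    have h1 := congrFun hk ⟨1, by omega⟩
    rw [Pi.smul_apply, Pi.single_eq_of_ne (by simp [Fin.ext_iff]), Pi.single_eq_same, smul_zero] at h1
    exact zero_ne_one h1
  obtain ⟨M, H, K, h1, h2, h3, h4, h5, h6, h7⟩ := CfsgLib.AltHall.affine_example hv hu
  refine ⟨↥(CfsgLib.AltHall.affPerm (Fin d → ZMod p)), inferInstance, inferInstance, M, H, K,
    h1, ?_, h3, h4, h5, h6, h7⟩
  rw [h2, Nat.card_fun, Nat.card_eq_fintype_card (α := Fin d), Fintype.card_fin, Nat.card_zmod]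

end Cfsg.Agent.S5895
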