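import Cfsg.Statements.S5896
import Mathlib
import Cfsg.Agent.Lib.DerivedLen.Wreath
import Cfsg.Agent.Lib.Solvable.SmallOrder

set_option autoImplicit false
set_option maxHeartbeats 400000
open Cfsg

namespace Cfsg.Agent.S5896

open scoped commutatorElement

variable {S : Type} [Group S]

/-- A group permuting the coordinates of `Fin 5 → S`. -/
noncomputable def coordAut (S : Type) [Group S] : alternatingGroup (Fin 5) →* MulAut (Fin 5 → S) where
  toFun a :=
    { toFun := fun f i => f ((a : Equiv.Perm (Fin 5))⁻¹ i)
      invFun := fun f i => f ((a : Equiv.Perm (Fin 5)) i)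
      left_inv := fun f => funext fun i => congrArg f ((a : Equiv.Perm (Fin 5)).symm_apply_apply i)
      right_inv := fun f => funext fun i => congrArg f ((a : Equiv.Perm (Fin 5)).apply_symm_apply i)
      map_mul' := fun f g => rfl }
  map_one' := by ext f i; rfl
  map_mul' a b := by ext f i; rfl

abbrev W (S : Type) [Group S] := SemidirectProduct (Fin 5 → S) (alternatingGroup (Fin 5)) (coordAut S)

noncomputable def dd (i j : Fin 5) (s : S) : Fin 5 → S := Pi.mulSingle i s * Pi.mulSingle j s⁻¹

noncomputable def T (S : Type) [Group S] : Subgroup (W S) :=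
  Subgroup.closure ({x | ∃ a, x = SemidirectProduct.inr a} ∪
    {x | ∃ (i j : Fin 5) (s : S), i ≠ j ∧ x = SemidirectProduct.inl (dd i j s)})

theorem inr_mem (a : alternatingGroup (Fin 5)) : (SemidirectProduct.inr a : W S) ∈ T S :=
  Subgroup.subset_closure (Or.inl ⟨a, rfl⟩)

theorem inl_mem {i j : Fin 5} (h : i ≠ j) (s : S) : (SemidirectProduct.inl (dd i j s) : W S) ∈ T S :=
  Subgroup.subset_closure (Or.inr ⟨i, j, s, h, rfl⟩)

theorem coordAut_single (a : alternatingGroup (Fin 5)) (i : Fin 5) (s : S) :
    coordAut S a (Pi.mulSingle i s) = Pi.mulSingle ((a : Equiv.Perm (Fin 5)) i) s := by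
  ext k
  show (Pi.mulSingle i s : Fin 5 → S) ((a : Equiv.Perm (Fin 5))⁻¹ k) = _
  by_cases h : k = (a : Equiv.Perm (Fin 5)) i
  · subst h; simp
  · rw [Pi.mulSingle_eq_of_ne h, Pi.mulSingle_eq_of_ne]
    intro h'; exact h (by rw [← h']; simp)

theorem perfect : commutator ↥(T S) = ⊤ := by
  classical
  suffices hT : T S ≤ ⁅T S, T S⁆ by
    rw [eq_top_iff]
    intro x _
    have h1 : (x : W S) ∈ ⁅T S, T S⁆ := hT x.2
    rw [← Subgroup.map_subtype_commutator] at h1
    obtain ⟨y, hy, hyx⟩ := h1
    exact (Subtype.ext hyx : y = x) ▸ hy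
  refine (Subgroup.closure_le _).2 ?_
  rintro x (⟨a, rfl⟩ | ⟨k, j, s, hkj, rfl⟩)
  · have ha : a ∈ (commutator ↥(alternatingGroup (Fin 5))) := by
      rw [commutator_alternatingGroup_eq_top (by simp)]; exact Subgroup.mem_top _
    have hle : (commutator ↥(alternatingGroup (Fin 5))).map
        (SemidirectProduct.inr : _ →* W S) ≤ ⁅T S, T S⁆ := by
      rw [commutator_def, Subgroup.map_commutator]
      refine Subgroup.commutator_mono ?_ ?_ <;>
      · rintro _ ⟨b, -, rfl⟩; exact inr_mem b
    exact hle ⟨a, ha, rfl⟩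
  · obtain ⟨i, hik, hij⟩ : ∃ i : Fin 5, i ≠ k ∧ i ≠ j := by
      revert k j; decide
    obtain ⟨l, hlk, hlj, hli⟩ : ∃ l : Fin 5, l ≠ k ∧ l ≠ j ∧ l ≠ i := by
      clear hkj; revert i k j; decide
    let a : alternatingGroup (Fin 5) := ⟨Equiv.swap j l * Equiv.swap j k, by
      rw [Equiv.Perm.mem_alternatingGroup, map_mul, Equiv.Perm.sign_swap hlj.symm,
        Equiv.Perm.sign_swap hkj.symm]; rfl⟩
    have hai : (a : Equiv.Perm (Fin 5)) i = i := by
      show Equiv.swap j l (Equiv.swap j k i) = i
      rw [Equiv.swap_apply_of_ne_of_ne hij hik, Equiv.swap_apply_of_ne_of_ne hij hli.symm]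
    have haj : (a : Equiv.Perm (Fin 5)) j = k := by
      show Equiv.swap j l (Equiv.swap j k j) = k
      rw [Equiv.swap_apply_left, Equiv.swap_apply_of_ne_of_ne hkj hlk.symm]
    have he : (SemidirectProduct.inl (dd k j s) : W S) =
        ⁅(SemidirectProduct.inl (dd i j s) : W S), (SemidirectProduct.inr a : W S)⁆ := by
      rw [commutatorElement_def, mul_assoc (SemidirectProduct.inl (dd i j s) : W S),
        mul_assoc (SemidirectProduct.inl (dd i j s) : W S)]
      rw [← map_inv SemidirectProduct.inl, ← map_inv SemidirectProduct.inr, ← SemidirectProduct.inl_aut,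
        ← map_mul]
      congr 1
      simp only [dd]
      rw [map_inv, map_mul, coordAut_single, coordAut_single, hai, haj]
      funext m
      simp only [dd, Pi.mul_apply, Pi.inv_apply, mul_inv_rev, Pi.mulSingle_apply]
      split_ifs <;> simp_all
    rw [he]
    exact Subgroup.commutator_mem_commutator (inl_mem hij s) (inr_mem a)

theorem derived_le (S : Type) [Group S] :
    (commutator S).map ((SemidirectProduct.inl : _ →* W S).comp
      (MonoidHom.mulSingle (fun _ : Fin 5 => S) 0)) ≤ T S := by
  rw [Subgroup.map_le_iff_le_comap, commutator_eq_closure, Subgroup.closure_le]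
  rintro _ ⟨s, t, rfl⟩
  have h := Subgroup.commutator_mem_commutator (inl_mem (S := S) (show (0 : Fin 5) ≠ 1 by decide) s)
    (inl_mem (S := S) (show (0 : Fin 5) ≠ 2 by decide) t)
  rw [← map_commutatorElement] at h
  have he : ⁅dd (0 : Fin 5) 1 s, dd (0 : Fin 5) 2 t⁆ = Pi.mulSingle 0 ⁅s, t⁆ := by
    funext m
    fin_cases m <;> simp [dd, commutatorElement_def, Pi.mulSingle_apply]
  rw [he] at h
  have hle : ⁅T S, T S⁆ ≤ T S := Subgroup.commutator_le.2 (fun a ha b hb =>
    mul_mem (mul_mem (mul_mem ha hb) (inv_mem ha)) (inv_mem hb))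
  exact hle h

theorem exists_coatom : ∃ M : Subgroup ↥(alternatingGroup (Fin 5)), IsCoatom M ∧
    Group.IsSolvable M := by
  let M := MulAction.stabilizer ↥(alternatingGroup (Fin 5)) (0 : Fin 5)
  have hidx : M.index = 5 := by
    rw [MulAction.index_stabilizer]
    have : MulAction.orbit ↥(alternatingGroup (Fin 5)) (0 : Fin 5) = Set.univ := by
      refine Set.eq_univ_of_forall fun x => ?_
      obtain ⟨a, ha⟩ : ∃ a : Equiv.Perm (Fin 5), Equiv.Perm.sign a = 1 ∧ a 0 = x := by
        rcases eq_or_ne x 0 with rfl | hx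
        · exact ⟨1, map_one _, rfl⟩
        · obtain ⟨y, hy0, hyx⟩ : ∃ y : Fin 5, y ≠ 0 ∧ y ≠ x := by clear hx; revert x; decide
          refine ⟨Equiv.swap 0 y * Equiv.swap 0 x, ?_, ?_⟩
          · rw [map_mul, Equiv.Perm.sign_swap hy0.symm, Equiv.Perm.sign_swap hx.symm]; rfl
          · rw [Equiv.Perm.mul_apply, Equiv.swap_apply_left, Equiv.swap_apply_of_ne_of_ne hx hyx.symm]
      exact ⟨⟨a, Equiv.Perm.mem_alternatingGroup.2 ha.1⟩, ha.2⟩
    rw [this, Set.ncard_univ, Nat.card_fin]
  refine ⟨M, ⟨fun h => ?_, fun K hK => ?_⟩, ?_⟩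
  · rw [h, Subgroup.index_top] at hidx; omega
  · have h1 : K.index ∣ 5 := (Subgroup.index_dvd_of_le hK.le).trans (dvd_of_eq hidx)
    rcases (Nat.dvd_prime (by norm_num)).1 h1 with h2 | h2
    · exact Subgroup.index_eq_one.1 h2
    · exfalso
      have h3 := Subgroup.relIndex_mul_index hK.le
      rw [h2, hidx] at h3
      exact hK.not_ge (Subgroup.relIndex_eq_one.1 (by omega))
  · have hc := M.card_mul_index
    have h60 : Nat.card ↥(alternatingGroup (Fin 5)) = 60 := by
      rw [nat_card_alternatingGroup, Nat.card_fin]; rfl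
    rw [hidx, h60] at hc
    exact CfsgLib.Solvable.isSolvable_of_card_pow_mul_prime 12 M 2 3 2 (by omega) (by norm_num)
      (by norm_num) (by omega)

/-- Finite perfect groups have solvable maximal subgroups of unbounded derived length: for every d there is a finite perfect group G (equal to its commutator subgroup) with a solvable maximal subgroup H whose derived length exceeds d, i.e. the d-th term of the derived series of H is non-trivial. (Take the derived subgroup of a wreath product S ≀ A₅ with S solvable of large derived length, and H the preimage of a maximal subgroup of A₅.) -/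
theorem result (d : ℕ) :
    ∃ (G : Type) (_ : Group G) (_ : Finite G) (H : Subgroup G), commutator G = ⊤ ∧ IsCoatom H ∧ Group.IsSolvable H ∧
      derivedSeries H d ≠ ⊥ := by
  classical
  let S := IteratedWreathProduct (Multiplicative (ZMod 2)) (d + 2)
  have hd : derivedSeries S (d + 1) ≠ ⊥ := CfsgLib.DerivedLen.iterated _ (d + 1)
  haveI : Fact (Nat.Prime 2) := ⟨Nat.prime_two⟩
  haveI hfS : Finite S := inferInstanceAs (Finite (IteratedWreathProduct _ _))
  have hSsol : Group.IsSolvable S := CfsgLib.Solvable.isSolvable_of_isPGroup (p := 2)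
    (IsPGroup.of_card (by rw [IteratedWreathProduct.card]; simp; rfl))
  haveI : Finite (W S) := Finite.of_equiv _ SemidirectProduct.equivProd.symm
  obtain ⟨M, hM, hMsol⟩ := exists_coatom
  let q : ↥(T S) →* ↥(alternatingGroup (Fin 5)) := SemidirectProduct.rightHom.comp (T S).subtype
  have hq : Function.Surjective q := fun a => ⟨⟨_, inr_mem a⟩, rfl⟩
  refine ⟨↥(T S), inferInstance, inferInstance, M.comap q, perfect, ?_, ?_, ?_⟩
  · refine ⟨fun h => hM.1 ?_, fun K hK => ?_⟩
    · rw [← Subgroup.map_comap_eq_self_of_surjective hq M, h, Subgroup.map_top_of_surjective q hq]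
    · have hker : q.ker ≤ K := (Subgroup.ker_le_comap q M).trans hK.le
      have h1 : M ≤ K.map q := by
        rw [← Subgroup.map_comap_eq_self_of_surjective hq M]; exact Subgroup.map_mono hK.le
      have h2 : K = (K.map q).comap q := (Subgroup.comap_map_eq_self hker).symm
      rcases eq_or_lt_of_le h1 with h3 | h3
      · exact absurd (by rw [h2, ← h3]) hK.ne
      · rw [h2, hM.2 _ h3, Subgroup.comap_top]
  · haveI := hMsol
    haveI := hSsol
    let g : ↥(M.comap q) →* M :=
      (q.comp (M.comap q).subtype).codRestrict M fun x => x.2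
    let f : ↥g.ker →* (Fin 5 → S) :=
      { toFun := fun x => (((x : ↥(M.comap q)) : ↥(T S)) : W S).left
        map_one' := rfl
        map_mul' := fun x y => by
          have hx : (((x : ↥(M.comap q)) : ↥(T S)) : W S).right = 1 :=
            congrArg (fun m : M => (m : ↥(alternatingGroup (Fin 5)))) x.2
          show ((((x : ↥(M.comap q)) : ↥(T S)) : W S) * _).left = _
          rw [SemidirectProduct.mul_left, hx, map_one, MulAut.one_apply] }
    have hf : Function.Injective f := fun x y h => by
      have hx : ∀ z : ↥g.ker, (((z : ↥(M.comap q)) : ↥(T S)) : W S).right = 1 := fun z =>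
        congrArg (fun m : M => (m : ↥(alternatingGroup (Fin 5)))) z.2
      exact Subtype.ext (Subtype.ext (Subtype.ext (SemidirectProduct.ext h ((hx x).trans (hx y).symm))))
    haveI : Group.IsSolvable (Fin 5 → S) := by
      obtain ⟨n, hn⟩ := hSsol.solvable
      refine ⟨⟨n, (Subgroup.eq_bot_iff_forall _).2 fun x hx => funext fun i => ?_⟩⟩
      have := map_derivedSeries_le_derivedSeries (Pi.evalMonoidHom (fun _ : Fin 5 => S) i) n ⟨x, hx, rfl⟩
      rw [hn] at this
      exact Subgroup.mem_bot.1 this
    haveI : Group.IsSolvable g.ker := Group.isSolvable_of_isSolvable_injective hf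
    exact Group.isSolvable_of_ker_le_range g.ker.subtype g (by rw [Subgroup.range_subtype])
  · intro hbot
    apply hd
    let ι : ↥(commutator S) →* ↥(M.comap q) :=
      ((((SemidirectProduct.inl : _ →* W S).comp (MonoidHom.mulSingle (fun _ : Fin 5 => S) 0)).comp
        (commutator S).subtype).codRestrict (T S)
          (fun x => derived_le S ⟨x, x.2, rfl⟩)).codRestrict (M.comap q) (fun x => by
        show SemidirectProduct.rightHom (SemidirectProduct.inl (Pi.mulSingle (0 : Fin 5) (x : S)) : W S) ∈ M
        rw [SemidirectProduct.rightHom_inl]; exact one_mem M)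
    have hι : Function.Injective ι := by
      intro x y h
      have := congrArg (fun z : ↥(M.comap q) => ((z : ↥(T S)) : W S)) h
      exact Subtype.ext (Pi.mulSingle_injective (0 : Fin 5) (SemidirectProduct.inl_injective this))
    have h1 : derivedSeries ↥(commutator S) d = ⊥ := by
      have := map_derivedSeries_le_derivedSeries ι d
      rw [hbot, le_bot_iff, Subgroup.map_eq_bot_iff_of_injective _ hι] at this
      exact this
    have key : ∀ k, derivedSeries S (k + 1) = (derivedSeries ↥(commutator S) k).map (commutator S).subtype := by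
      intro k
      induction k with
      | zero =>
        show derivedSeries S 1 = _
        rw [derivedSeries_one, derivedSeries_zero, ← MonoidHom.range_eq_map, Subgroup.range_subtype]
      | succ k ih => rw [derivedSeries_succ, ih, derivedSeries_succ, Subgroup.map_commutator]
    exact (key d).trans (by rw [h1, Subgroup.map_bot])

end Cfsg.Agent.S5896
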