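import Cfsg.Statements.S5902
import Cfsg.Agent.Lib.CompLattice.Basic

set_option autoImplicit false
open Cfsg

namespace Cfsg.Agent.S5902

/-- Let G be a finite group, X a subgroup whose own subgroup lattice is complemented, and suppose X lies in exactly one maximal subgroup M of G. Then every subgroup H of G not contained in the normal core of M has a complement in the subgroup lattice of G (some C with H ⊔ C = G and H ⊓ C = 1); in particular the subgroup lattice of G modulo the normal core of M is complemented. -/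
theorem result {G : Type*} [Group G] [Finite G] (X M : Subgroup G)
    (hK : ComplementedLattice (Subgroup X))
    (hM : IsCoatom M) (hXM : X ≤ M) (huniq : ∀ M' : Subgroup G, IsCoatom M' → X ≤ M' → M' = M) :
    (∀ H : Subgroup G, ¬ H ≤ M.normalCore → ∃ C : Subgroup G, H ⊔ C = ⊤ ∧ H ⊓ C = ⊥) ∧
    ComplementedLattice (Subgroup (G ⧸ M.normalCore)) := by
  have key : ∀ H : Subgroup G, ¬ H ≤ M.normalCore → ∃ C : Subgroup G, H ⊔ C = ⊤ ∧ H ⊓ C = ⊥ := by
    intro H hH
    obtain ⟨h, hh, hhc⟩ := SetLike.not_le_iff_exists.1 hH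
    obtain ⟨g, hg⟩ := not_forall.1 hhc
    have h1 : ¬ H.map (MulAut.conj g).toMonoidHom ≤ M := fun hle => hg (hle ⟨h, hh, rfl⟩)
    have h2 := CfsgLib.CompLattice.exists_compl (T := ⊥) bot_le
      (CfsgLib.CompLattice.interval_of_complemented hK) huniq h1 (inf_bot_eq _)
    have h3 := CfsgLib.CompLattice.exists_compl_map (MulAut.conj g).symm h2
    rw [Subgroup.map_map] at h3
    have e : (MulAut.conj g).symm.toMonoidHom.comp (MulAut.conj g).toMonoidHom = MonoidHom.id G := by
      ext x; exact (MulAut.conj g).symm_apply_apply x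
    rw [e, Subgroup.map_id] at h3
    exact h3
  refine ⟨key, ⟨fun Hq => ?_⟩⟩
  set π := QuotientGroup.mk' M.normalCore with hπ
  have hsurj : Function.Surjective π := QuotientGroup.mk'_surjective _
  by_cases hle : Hq.comap π ≤ M.normalCore
  · have hbot : Hq = ⊥ := by
      rw [← Subgroup.map_comap_eq_self_of_surjective hsurj Hq, Subgroup.map_eq_bot_iff, hπ,
        QuotientGroup.ker_mk']
      exact hle
    exact ⟨⊤, hbot ▸ isCompl_bot_top⟩
  obtain ⟨C, h1, h2⟩ := key _ hle
  refine ⟨C.map π, IsCompl.of_eq ?_ ?_⟩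
  · rw [eq_bot_iff]
    rintro x ⟨hx, c, hc, rfl⟩
    have : c ∈ Hq.comap π ⊓ C := ⟨hx, hc⟩
    rw [h2, Subgroup.mem_bot] at this
    subst this
    exact Subgroup.mem_bot.2 (map_one π)
  · have := congrArg (Subgroup.map π) h1
    rw [Subgroup.map_sup, Subgroup.map_comap_eq_self_of_surjective hsurj,
      Subgroup.map_top_of_surjective _ hsurj] at this
    exact this

end Cfsg.Agent.S5902
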