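import Cfsg.Statements.S5903
import Cfsg.Agent.Lib.CompLattice.Basic

set_option autoImplicit false
open Cfsg

namespace Cfsg.Agent.S5903

/-- Let G be a finite simple group, X a subgroup lying in exactly one maximal subgroup M of G, and N a subgroup of prime order with N ≤ X that is central in M. If the subgroup lattice of X/N is complemented, then the subgroup lattice of G is complemented. -/
theorem result {G : Type*} [Group G] [Finite G] [IsSimpleGroup G] (X M N : Subgroup G)
    (hM : IsCoatom M) (hXM : X ≤ M) (huniq : ∀ M' : Subgroup G, IsCoatom M' → X ≤ M' → M' = M)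
    (hNX : N ≤ X) (hN : (Nat.card N).Prime) (hcen : ∀ n ∈ N, ∀ m ∈ M, m * n = n * m)
    [(N.subgroupOf X).Normal] (hK : ComplementedLattice (Subgroup (X ⧸ N.subgroupOf X))) :
    ComplementedLattice (Subgroup G) := by
  refine ⟨fun H => ?_⟩
  suffices ∃ C : Subgroup G, H ⊔ C = ⊤ ∧ H ⊓ C = ⊥ from
    this.imp fun C h => IsCompl.of_eq h.2 h.1
  by_cases hex : ∃ g : G, ¬ H.map (MulAut.conj g).toMonoidHom ≤ M ∧
      H.map (MulAut.conj g).toMonoidHom ⊓ N = ⊥
  · obtain ⟨g, h1, h2⟩ := hex
    have h3 := CfsgLib.CompLattice.exists_compl hNX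
      (CfsgLib.CompLattice.interval_of_quotient hNX hK) huniq h1 h2
    have h4 := CfsgLib.CompLattice.exists_compl_map (MulAut.conj g).symm h3
    rw [Subgroup.map_map] at h4
    have e : (MulAut.conj g).symm.toMonoidHom.comp (MulAut.conj g).toMonoidHom = MonoidHom.id G := by
      ext x; exact (MulAut.conj g).symm_apply_apply x
    rw [e, Subgroup.map_id] at h4
    exact h4
  push Not at hex
  have hnorm : ∀ n ∈ N, ∀ g : G, g⁻¹ * n * g ∈ Subgroup.normalizer (H : Set G) := by
    intro n hn g
    have hcase : n ∈ H.map (MulAut.conj g).toMonoidHom ∨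
        H.map (MulAut.conj g).toMonoidHom ≤ M := by
      by_cases hle : H.map (MulAut.conj g).toMonoidHom ≤ M
      · exact Or.inr hle
      left
      have hne := hex g hle
      obtain ⟨y, hy, hy1⟩ := (Subgroup.bot_or_exists_ne_one
        (H.map (MulAut.conj g).toMonoidHom ⊓ N)).resolve_left hne
      haveI : Fact (Nat.card N).Prime := ⟨hN⟩
      have := mem_zpowers_of_prime_card (g' := (⟨n, hn⟩ : N)) rfl
        (g := ⟨y, hy.2⟩) (fun h => hy1 (congrArg Subtype.val h))
      obtain ⟨i, hi⟩ := this
      rw [show n = y ^ i by simpa using (congrArg Subtype.val hi).symm]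
      exact Subgroup.zpow_mem _ hy.1 i
    rcases hcase with ⟨h, hh, hhn⟩ | hle
    · have : g⁻¹ * n * g = h := by
        rw [← hhn]
        show g⁻¹ * (g * h * g⁻¹) * g = h
        group
      rw [this]
      exact Subgroup.le_normalizer hh
    · refine Subgroup.mem_normalizer_iff.2 fun x => ?_
      have hconj : ∀ (k : G), k ∈ H → g⁻¹ * n * g * k * (g⁻¹ * n * g)⁻¹ = k := by
        intro k hk
        have hc := hcen n hn (g * k * g⁻¹) (hle ⟨k, hk, rfl⟩)
        calc g⁻¹ * n * g * k * (g⁻¹ * n * g)⁻¹ = g⁻¹ * (n * (g * k * g⁻¹)) * n⁻¹ * g := by group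
          _ = g⁻¹ * ((g * k * g⁻¹) * n) * n⁻¹ * g := by rw [hc]
          _ = k := by group
      refine ⟨fun hx => by rw [hconj x hx]; exact hx, fun hx => ?_⟩
      have h2 := hconj _ hx
      have : g⁻¹ * n * g * x * (g⁻¹ * n * g)⁻¹ = x :=
        mul_left_cancel (mul_right_cancel (b := (g⁻¹ * n * g)⁻¹) h2)
      rwa [this] at hx
  have htop : Subgroup.normalizer (H : Set G) = ⊤ := by
    rcases IsSimpleGroup.eq_bot_or_eq_top_of_normal (Subgroup.normalClosure (N : Set G))
      inferInstance with h | h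
    · exfalso
      have : N = ⊥ := eq_bot_iff.2 (h ▸ Subgroup.le_normalClosure)
      rw [this, Subgroup.card_bot] at hN
      exact Nat.not_prime_one hN
    · rw [eq_top_iff, ← h, Subgroup.normalClosure, Subgroup.closure_le]
      intro x hx
      obtain ⟨n, hn, hconj⟩ := Group.mem_conjugatesOfSet_iff.1 hx
      obtain ⟨c, hc⟩ := isConj_iff.1 hconj
      have := hnorm n hn c⁻¹
      rw [inv_inv, hc] at this
      exact this
  haveI : H.Normal := Subgroup.normalizer_eq_top_iff.1 htop
  rcases IsSimpleGroup.eq_bot_or_eq_top_of_normal H inferInstance with h | h <;> subst h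
  · exact ⟨⊤, by simp⟩
  · exact ⟨⊥, by simp⟩

end Cfsg.Agent.S5903
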