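import Cfsg.Statements.S5904
import Cfsg.Agent.Lib.AltHall.Classes
import Mathlib.Logic.Equiv.Fintype

set_option autoImplicit false
open scoped Pointwise
open Cfsg

namespace Cfsg.Agent.S5904

/-- Let Ω be a finite set with more than two elements and O ⊆ Ω a subset with exactly as many elements as its complement. Then the setwise stabilizer of O in the symmetric group on Ω is not a maximal subgroup (it is properly contained in the stabilizer of the partition {O, Ω ∖ O}, which is proper). -/
theorem result {Ω : Type*} [Fintype Ω] [DecidableEq Ω] (hΩ : 2 < Fintype.card Ω)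
    (O : Set Ω) (hO : Nat.card O = Nat.card ↥Oᶜ) :
    ¬ IsCoatom (MulAction.stabilizer (Equiv.Perm Ω) O) := by
  classical
  intro hco
  set C := O.toFinset with hC
  have hc : C.card + C.card = Fintype.card Ω := by
    have h1 : Nat.card O = C.card := by rw [Nat.card_coe_set_eq, Set.ncard_eq_toFinset_card']
    have h2 : Nat.card ↥Oᶜ = Fintype.card Ω - C.card := by
      rw [Nat.card_coe_set_eq, Set.ncard_compl, Nat.card_eq_fintype_card,
        Set.ncard_eq_toFinset_card']
    have := C.card_le_univ
    omega
  have hstab : MulAction.stabilizer (Equiv.Perm Ω) O = CfsgLib.AltHall.presB C := by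
    ext g
    rw [MulAction.mem_stabilizer_iff]
    constructor
    · intro h x
      simp only [hC, Set.mem_toFinset]
      conv_lhs => rw [← h]
      exact Set.smul_mem_smul_set_iff (a := g)
    · intro h
      ext x
      rw [Set.mem_smul_set_iff_inv_smul_mem]
      have := h (g⁻¹ x)
      simp only [hC, Set.mem_toFinset, Equiv.Perm.coe_inv, Equiv.apply_symm_apply] at this
      exact this.symm
  rw [hstab] at hco
  have hlt : CfsgLib.AltHall.presB C < CfsgLib.AltHall.pairStab C := by
    refine lt_of_le_of_ne (fun _ h => Or.inl h) fun he => ?_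
    have hcard : Fintype.card {x // x ∈ C} = Fintype.card {x // x ∈ Cᶜ} := by
      rw [Fintype.card_coe, Fintype.card_coe, Finset.card_compl]
      omega
    obtain ⟨e⟩ := Fintype.card_eq.1 hcard
    have hs : ∀ x, e.extendSubtype x ∈ C ↔ x ∉ C := fun x => by
      by_cases hx : x ∈ C
      · simp only [hx, not_true_eq_false, iff_false]
        exact Finset.mem_compl.1 (Equiv.extendSubtype_mem e x hx)
      · simp only [hx, not_false_eq_true, iff_true]
        by_contra h
        exact Equiv.extendSubtype_not_mem e x hx (Finset.mem_compl.2 h)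
    have hmem : e.extendSubtype ∈ CfsgLib.AltHall.presB C := by
      rw [he]; exact Or.inr hs
    obtain ⟨x, hx⟩ : C.Nonempty := Finset.card_pos.1 (by omega)
    exact ((hmem x).2 hx |> (hs x).1) hx
  have htop := hco.2 _ hlt
  obtain ⟨x, hx, x', hx', hne⟩ := Finset.one_lt_card.1 (show 1 < C.card by omega)
  obtain ⟨y, -, hy⟩ := Finset.exists_mem_notMem_of_card_lt_card (s := C) (t := Finset.univ)
    (by rw [Finset.card_univ]; omega)
  have hy' : x' ≠ y := fun h => hy (h ▸ hx')
  rcases (htop ▸ Subgroup.mem_top (Equiv.swap x y) : Equiv.swap x y ∈ CfsgLib.AltHall.pairStab C)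
    with h | h
  · have := h x
    rw [Equiv.swap_apply_left] at this
    exact hy (this.2 hx)
  · have := h x'
    rw [Equiv.swap_apply_of_ne_of_ne hne.symm hy'] at this
    exact (this.1 hx') hx'

end Cfsg.Agent.S5904
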