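import Cfsg.Statements.S5908
import Cfsg.Agent.S0827

set_option autoImplicit false
open Cfsg

namespace Cfsg.Agent.S5908

/-- The subgroup lattice of PSU₃(2) (the solvable group of order 72, realised over the field with 4 elements) is not complemented: some subgroup H has no subgroup X with H ⊔ X = ⊤ and H ⊓ X = ⊥. -/
theorem result {F : Type*} [Field F] [Fintype F] (hF : Fintype.card F = 4) :
    ¬ ComplementedLattice (Subgroup (Cfsg.PSU 3 F 2)) := by
  classical
  obtain ⟨N, hN, hcard, -, ⟨e⟩⟩ := Cfsg.Agent.S0827.result hF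
  haveI : Finite (Cfsg.PSU 3 F 2) := inferInstance
  let π : Cfsg.PSU 3 F 2 →* QuaternionGroup 2 := e.toMonoidHom.comp (QuotientGroup.mk' N)
  have hπ : Function.Surjective π := e.surjective.comp (QuotientGroup.mk'_surjective N)
  let H := (Subgroup.zpowers (QuaternionGroup.a 2 : QuaternionGroup 2)).comap π
  intro hC
  obtain ⟨X, hX⟩ := hC.exists_isCompl H
  have hbot : X = ⊥ := by
    by_contra hne
    have h1 : Nat.card X ≠ 1 := fun h => hne (Subgroup.card_eq_one.1 h)
    obtain ⟨p, hp, hpd⟩ := Nat.exists_prime_and_dvd h1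
    haveI : Fact p.Prime := ⟨hp⟩
    obtain ⟨u, hu⟩ := exists_prime_orderOf_dvd_card' p hpd
    have hup : π (u : Cfsg.PSU 3 F 2) ^ p = 1 := by
      rw [← hu, ← Subgroup.orderOf_coe, ← map_pow, pow_orderOf_eq_one, map_one]
    have hH : (u : Cfsg.PSU 3 F 2) ∈ H := by
      show π (u : Cfsg.PSU 3 F 2) ∈ Subgroup.zpowers _
      by_cases hp2 : p = 2
      · subst hp2
        have hq : ∀ x : QuaternionGroup 2, x ^ 2 = 1 → x = 1 ∨ x = QuaternionGroup.a 2 := by decide
        rcases hq _ hup with h | h <;> rw [h]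
        · exact one_mem _
        · exact Subgroup.mem_zpowers _
      · have h8 : π (u : Cfsg.PSU 3 F 2) ^ 8 = 1 := by
          have hc : Nat.card (QuaternionGroup 2) = 8 := by simp [QuaternionGroup.card]
          rw [← hc]
          exact pow_card_eq_one'
        have hg : π (u : Cfsg.PSU 3 F 2) ^ Nat.gcd p 8 = 1 := pow_gcd_eq_one.2 ⟨hup, h8⟩
        have hcop : Nat.Coprime p (2 ^ 3) :=
          ((Nat.coprime_primes hp Nat.prime_two).2 hp2).pow_right 3
        rw [show (8 : ℕ) = 2 ^ 3 by norm_num, hcop, pow_one] at hg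
        rw [hg]
        exact one_mem _
    have : (u : Cfsg.PSU 3 F 2) ∈ H ⊓ X := ⟨hH, u.2⟩
    rw [hX.inf_eq_bot, Subgroup.mem_bot] at this
    rw [show u = 1 from Subtype.ext this, orderOf_one] at hu
    exact hp.one_lt.ne hu
  have htop : H = ⊤ := by simpa [hbot] using hX.sup_eq_top
  obtain ⟨g, hg⟩ := hπ (QuaternionGroup.a 1)
  have hmem : g ∈ H := by rw [htop]; trivial
  have hmem' : π g ∈ Subgroup.zpowers (QuaternionGroup.a 2 : QuaternionGroup 2) := hmem
  rw [hg, mem_zpowers_iff_mem_range_orderOf] at hmem'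
  revert hmem'
  rw [show orderOf (QuaternionGroup.a 2 : QuaternionGroup 2) = 2 from orderOf_eq_prime (by decide) (by decide)]
  decide

end Cfsg.Agent.S5908
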