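import Cfsg.Statements.S5909
import Cfsg.Agent.Lib.AltHall.Partition

set_option autoImplicit false
open Cfsg

namespace Cfsg.Agent.S5909

/-- Let Ω be a finite set whose size is not 8, and f : Ω → Fin b a labelling with b ≥ 2 whose fibres all have the same size a ≥ 2 (a partition into b blocks of size a). Then the even permutations preserving the partition — the intersection of the imprimitive wreath product S_a ≀ S_b with the alternating group — form a maximal subgroup of the alternating group on Ω. -/
theorem result {Ω : Type*} [Fintype Ω] [DecidableEq Ω] (h8 : Fintype.card Ω ≠ 8) (a b : ℕ) (ha : 2 ≤ a) (hb : 2 ≤ b)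
    (f : Ω → Fin b) (hf : ∀ i : Fin b, Nat.card {x : Ω // f x = i} = a) :
    IsCoatom ((Subgroup.closure {g : Equiv.Perm Ω | ∀ x y : Ω, f x = f y ↔ f (g x) = f (g y)} ⊓ alternatingGroup Ω).subgroupOf (alternatingGroup Ω)) := by
  rw [CfsgLib.AltHall.closure_partStab]
  refine ⟨fun h => CfsgLib.AltHall.partStab_ne_top hf ha hb
    (le_trans (Subgroup.subgroupOf_eq_top.1 h) inf_le_left), fun K hK => ?_⟩
  have hlt : CfsgLib.AltHall.partStab f ⊓ alternatingGroup Ω < K.map (alternatingGroup Ω).subtype := by
    have := Subgroup.map_lt_map_iff_of_injective (alternatingGroup Ω).subtype_injective |>.2 hK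
    rwa [Subgroup.map_subgroupOf_eq_of_le inf_le_right] at this
  have htop := CfsgLib.AltHall.eq_alt_of_partStab_lt h8 hf ha hb hlt (Subgroup.map_subtype_le K)
  rw [eq_top_iff]
  intro x _
  obtain ⟨y, hy, hxy⟩ : (x : Equiv.Perm Ω) ∈ K.map (alternatingGroup Ω).subtype := by
    rw [htop]; exact x.2
  exact Subtype.ext hxy ▸ hy

end Cfsg.Agent.S5909
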