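import Cfsg.Statements.S5911
import Cfsg.Agent.Lib.Alt.Aut
import Mathlib.GroupTheory.SpecificGroups.Alternating.Simple
import Mathlib.GroupTheory.GroupAction.Quotient
import Mathlib.GroupTheory.Perm.Cycle.Type

set_option autoImplicit false
open Cfsg

namespace Cfsg.Agent.S5911

/-- Let Ω be a finite set whose size n is not 6. Then every subgroup of the symmetric group on Ω of index n is the stabilizer of a point. -/
theorem result {Ω : Type*} [Fintype Ω] [DecidableEq Ω] (h6 : Fintype.card Ω ≠ 6)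
    (H : Subgroup (Equiv.Perm Ω)) (hH : H.index = Fintype.card Ω) :
    ∃ x : Ω, H = MulAction.stabilizer (Equiv.Perm Ω) x := by
  classical
  have hperm : Nat.card (Equiv.Perm Ω) = (Fintype.card Ω).factorial := by
    rw [Nat.card_eq_fintype_card, Fintype.card_perm]
  have hHc : Nat.card H * Fintype.card Ω = (Fintype.card Ω).factorial := by
    rw [← hH, Subgroup.card_mul_index, hperm, hH]
  have hpos : 1 ≤ Fintype.card Ω := by
    have := Subgroup.index_ne_zero_of_finite (H := H)
    omega
  have : Nonempty Ω := Fintype.card_pos_iff.1 hpos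
  haveI hpre : MulAction.IsPretransitive (Equiv.Perm Ω) Ω :=
    ⟨fun x y => ⟨Equiv.swap x y, Equiv.swap_apply_left x y⟩⟩
  have hfin : ∀ x : Ω, H ≤ MulAction.stabilizer (Equiv.Perm Ω) x →
      H = MulAction.stabilizer (Equiv.Perm Ω) x := by
    intro x hle
    refine Subgroup.eq_of_le_of_card_ge hle (le_of_eq ?_)
    have h1 := Subgroup.card_mul_index (MulAction.stabilizer (Equiv.Perm Ω) x)
    rw [MulAction.index_stabilizer_of_transitive, hperm, ← hHc, Nat.card_eq_fintype_card (α := Ω)] at h1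
    exact Nat.eq_of_mul_eq_mul_right hpos h1
  have huniq : ∀ (x : Ω) (N : Set (Equiv.Perm Ω)), (∀ g ∈ N, g x = x) →
      (∀ y, y ≠ x → ∃ g ∈ N, g y ≠ y) → (∀ h ∈ H, ∀ g ∈ N, h⁻¹ * g * h ∈ N) →
      H = MulAction.stabilizer (Equiv.Perm Ω) x := by
    intro x N hfix honly hnorm
    refine hfin x fun h hh => ?_
    by_contra hne
    obtain ⟨g, hg, hgne⟩ := honly (h x) hne
    apply hgne
    have := hfix _ (hnorm h hh g hg)
    rw [Equiv.Perm.mul_apply, Equiv.Perm.mul_apply] at this
    exact (Equiv.Perm.inv_eq_iff_eq.1 this)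
  rcases (show Fintype.card Ω ≤ 2 ∨ Fintype.card Ω = 3 ∨ Fintype.card Ω = 4 ∨ 5 ≤ Fintype.card Ω by omega)
    with h | h | h | h
  · have hone : Nat.card H = 1 := by
      rcases (show Fintype.card Ω = 1 ∨ Fintype.card Ω = 2 by omega) with e | e <;>
        rw [e] at hHc <;> simp [Nat.factorial] at hHc ⊢ <;> omega
    rw [Subgroup.card_eq_one] at hone
    obtain ⟨x⟩ := ‹Nonempty Ω›
    exact ⟨x, hfin x (hone ▸ bot_le)⟩
  · rw [h] at hHc
    norm_num [Nat.factorial] at hHc
    have : Fact (Nat.Prime 2) := ⟨Nat.prime_two⟩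
    obtain ⟨g, hg⟩ := exists_prime_orderOf_dvd_card' (G := H) 2 (by simp; omega)
    rw [← Subgroup.orderOf_coe] at hg
    have hswap : (g : Equiv.Perm Ω).IsSwap := by
      have hc := Equiv.Perm.isCycle_of_prime_order'' (α := Ω) (σ := (g : Equiv.Perm Ω))
      rw [hg] at hc
      exact Equiv.Perm.card_support_eq_two.1 (by
        have hcy : (g : Equiv.Perm Ω).IsCycle := Equiv.Perm.isCycle_of_prime_order (by rw [hg]; exact Nat.prime_two)
          (by rw [hg]; have := (g : Equiv.Perm Ω).support.card_le_univ; omega)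
        rw [← hcy.orderOf, hg])
    obtain ⟨u, v, huv, hguv⟩ := hswap
    obtain ⟨x, -, hx⟩ := Finset.exists_mem_notMem_of_card_lt_card (s := ({u, v} : Finset Ω))
      (t := Finset.univ) (lt_of_le_of_lt Finset.card_le_two (by rw [Finset.card_univ]; omega))
    simp only [Finset.mem_insert, Finset.mem_singleton, not_or] at hx
    refine ⟨x, huniq x {(g : Equiv.Perm Ω)} ?_ ?_ ?_⟩
    · rintro _ rfl; rw [hguv, Equiv.swap_apply_of_ne_of_ne hx.1 hx.2]
    · intro y hy
      refine ⟨_, rfl, fun hgy => ?_⟩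
      rw [hguv] at hgy
      by_cases hyu : y = u
      · rw [hyu, Equiv.swap_apply_left] at hgy; exact huv hgy.symm
      by_cases hyv : y = v
      · rw [hyv, Equiv.swap_apply_right] at hgy; exact huv hgy
      have := Finset.card_le_univ ({x, y, u, v} : Finset Ω)
      rw [Finset.card_eq_of_equiv_fin (n := 4) ?_] at this
      · omega
      refine Finset.equivFinOfCardEq ?_
      rw [Finset.card_insert_of_notMem (by simp [Ne.symm hy, hx.1, hx.2]),
        Finset.card_insert_of_notMem (by simp [hyu, hyv]), Finset.card_pair huv]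
    · intro k hk _ hN
      rw [Set.mem_singleton_iff] at hN ⊢
      subst hN
      have hcard : Nat.card H = 2 := by simp; omega
      have hcyc : IsCyclic H := isCyclic_of_prime_card (p := 2) hcard
      have := congrArg Subtype.val ((hcyc.isMulCommutative).is_comm.comm g (⟨k, hk⟩ : H))
      simp only [Subgroup.coe_mul] at this
      rw [mul_assoc, this, ← mul_assoc, inv_mul_cancel, one_mul]
  · rw [h] at hHc
    norm_num [Nat.factorial] at hHc
    have : Fact (Nat.Prime 3) := ⟨Nat.prime_three⟩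
    obtain ⟨g, hg⟩ := exists_prime_orderOf_dvd_card' (G := H) 3 (by simp; omega)
    have hzn : (Subgroup.zpowers g).Normal := by
      apply Subgroup.normal_of_index_eq_two
      have := Subgroup.card_mul_index (Subgroup.zpowers g)
      rw [Nat.card_zpowers, hg, Nat.card_eq_fintype_card] at this
      omega
    rw [← Subgroup.orderOf_coe] at hg
    have hcy : (g : Equiv.Perm Ω).IsCycle := Equiv.Perm.isCycle_of_prime_order (by rw [hg]; exact Nat.prime_three)
      (by rw [hg]; have := (g : Equiv.Perm Ω).support.card_le_univ; omega)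
    have hsupp : (g : Equiv.Perm Ω).support.card = 3 := by rw [← hcy.orderOf, hg]
    obtain ⟨x, -, hx⟩ := Finset.exists_mem_notMem_of_card_lt_card (s := (g : Equiv.Perm Ω).support)
      (t := Finset.univ) (by rw [Finset.card_univ]; omega)
    refine ⟨x, huniq x (Subgroup.zpowers (g : Equiv.Perm Ω)) ?_ ?_ ?_⟩
    · rintro _ ⟨i, rfl⟩
      exact Equiv.Perm.zpow_apply_eq_self_of_apply_eq_self (Equiv.Perm.notMem_support.1 hx) i
    · intro y hy
      refine ⟨g, Subgroup.mem_zpowers _, fun hgy => ?_⟩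
      have := Finset.card_le_univ (insert y (insert x (g : Equiv.Perm Ω).support))
      rw [Finset.card_insert_of_notMem (by
          simp only [Finset.mem_insert, not_or]
          exact ⟨hy, Equiv.Perm.notMem_support.2 hgy⟩),
        Finset.card_insert_of_notMem hx, hsupp] at this
      omega
    · rintro k hk _ ⟨i, rfl⟩
      have hmem : (⟨k, hk⟩ : H)⁻¹ * g ^ i * ⟨k, hk⟩ ∈ Subgroup.zpowers g := by
        simpa using hzn.conj_mem _ (Subgroup.zpow_mem _ (Subgroup.mem_zpowers g) i) (⟨k, hk⟩ : H)⁻¹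
      obtain ⟨j, hj⟩ := hmem
      exact ⟨j, by simpa using congrArg Subtype.val hj⟩
  · haveI : IsSimpleGroup (alternatingGroup Ω) :=
      alternatingGroup.isSimpleGroup (by rw [Nat.card_eq_fintype_card]; omega)
    let ψ₀ := MulAction.toPermHom (Equiv.Perm Ω) (Equiv.Perm Ω ⧸ H)
    have hq : Nat.card (Equiv.Perm Ω ⧸ H) = Nat.card Ω := by
      rw [← Subgroup.index_eq_card, hH, Nat.card_eq_fintype_card]
    obtain ⟨e⟩ := Finite.card_eq.1 hq
    let ψ : Equiv.Perm Ω →* Equiv.Perm Ω := e.permCongrHom.toMonoidHom.comp ψ₀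
    have hkerle : ∀ k ∈ ψ₀.ker, k ∈ H := fun k hk => by
      rw [← Subgroup.normalCore_eq_ker] at hk
      exact Subgroup.normalCore_le H hk
    have hinj₀ : ψ₀.ker = ⊥ := by
      rcases IsSimpleGroup.eq_bot_or_eq_top_of_normal (ψ₀.ker.subgroupOf (alternatingGroup Ω))
          inferInstance with h0 | h0
      · rw [eq_bot_iff]
        intro k hk
        rw [Subgroup.mem_bot]
        apply CfsgLib.AltAut.conjNormal_injective (α := Ω) (by omega)
        ext a : 1
        rw [map_one, MulAut.one_apply]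
        apply Subtype.ext
        rw [MulAut.conjNormal_apply]
        have hmemA : k * a * k⁻¹ * a⁻¹ ∈ alternatingGroup Ω :=
          mul_mem (((inferInstance : (alternatingGroup Ω).Normal)).conj_mem _ a.2 k) (inv_mem a.2)
        have hmemK : k * a * k⁻¹ * a⁻¹ ∈ ψ₀.ker := by
          rw [mul_assoc k, mul_assoc k]
          exact mul_mem hk ((MonoidHom.normal_ker ψ₀).conj_mem _ (inv_mem hk) a)
        have h1 : (⟨_, hmemA⟩ : alternatingGroup Ω) ∈ ψ₀.ker.subgroupOf (alternatingGroup Ω) := hmemK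
        rw [h0, Subgroup.mem_bot] at h1
        exact mul_inv_eq_one.1 (congrArg Subtype.val h1)
      · exfalso
        have hA : alternatingGroup Ω ≤ H :=
          (Subgroup.subgroupOf_eq_top.1 h0).trans hkerle
        have h2 := Subgroup.index_antitone hA
        rw [hH] at h2
        haveI : Nontrivial Ω := Fintype.one_lt_card_iff_nontrivial.1 (by omega)
        rw [alternatingGroup.index_eq_two] at h2
        omega
    have hbij : Function.Bijective ψ :=
      Finite.injective_iff_bijective.1 (e.permCongrHom.injective.comp ((MonoidHom.ker_eq_bot_iff _).1 hinj₀))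
    haveI : Nontrivial Ω := Fintype.one_lt_card_iff_nontrivial.1 (by omega)
    have hsign : ∀ g, Equiv.Perm.sign (ψ g) = Equiv.Perm.sign g := fun g =>
      DFunLike.congr_fun (Equiv.Perm.eq_sign_of_surjective_hom
        (s := Equiv.Perm.sign.comp ψ) ((Equiv.Perm.sign_surjective Ω).comp hbij.2)) g
    let ψe := MulEquiv.ofBijective ψ hbij
    let φ : MulAut (alternatingGroup Ω) :=
      { toFun := fun a => ⟨ψe (a : Equiv.Perm Ω), Equiv.Perm.mem_alternatingGroup.2 ((hsign a).trans (Equiv.Perm.mem_alternatingGroup.1 a.2))⟩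
        invFun := fun a => ⟨ψe.symm (a : Equiv.Perm Ω), Equiv.Perm.mem_alternatingGroup.2 (by
          rw [← hsign, show ψ (ψe.symm (a : Equiv.Perm Ω)) = a from ψe.apply_symm_apply _]
          exact Equiv.Perm.mem_alternatingGroup.1 a.2)⟩
        left_inv := fun a => Subtype.ext (ψe.symm_apply_apply (a : Equiv.Perm Ω))
        right_inv := fun a => Subtype.ext (ψe.apply_symm_apply (a : Equiv.Perm Ω))
        map_mul' := fun a b => Subtype.ext (map_mul ψe (a : Equiv.Perm Ω) b) }
    obtain ⟨σ, hσ⟩ := CfsgLib.AltAut.conjNormal_surjective (α := Ω) (by omega) h6 φ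
    set o := e (QuotientGroup.mk 1) with ho
    have hiff : ∀ a : alternatingGroup Ω, (a : Equiv.Perm Ω) ∈ H ↔ a.1 (σ⁻¹ o) = σ⁻¹ o := by
      intro a
      have h1 : ψ a = σ * a * σ⁻¹ := by
        have := congrArg (fun φ' : MulAut (alternatingGroup Ω) => (φ' a : Equiv.Perm Ω)) hσ
        rw [MulAut.conjNormal_apply] at this
        exact this.symm
      have h2 : (a : Equiv.Perm Ω) ∈ H ↔ ψ a o = o := by
        show _ ↔ e ((a : Equiv.Perm Ω) • (e.symm (e (QuotientGroup.mk 1)))) = _
        rw [Equiv.symm_apply_apply, e.injective.eq_iff, MulAction.Quotient.smul_mk, smul_eq_mul,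
          mul_one, QuotientGroup.eq]
        simp
      rw [h2, h1, Equiv.Perm.mul_apply, Equiv.Perm.mul_apply, Equiv.Perm.eq_inv_iff_eq]
    refine ⟨σ⁻¹ o, huniq _ {g | g ∈ H ∧ g ∈ alternatingGroup Ω}
      (fun g hg => (hiff ⟨g, hg.2⟩).1 hg.1) (fun y hy => ?_) ?_⟩
    · obtain ⟨z, -, hz⟩ := Finset.exists_mem_notMem_of_card_lt_card (s := ({σ⁻¹ o, y} : Finset Ω))
        (t := Finset.univ) (lt_of_le_of_lt Finset.card_le_two (by rw [Finset.card_univ]; omega))
      obtain ⟨w, -, hw⟩ := Finset.exists_mem_notMem_of_card_lt_card (s := ({σ⁻¹ o, y, z} : Finset Ω))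
        (t := Finset.univ) (lt_of_le_of_lt Finset.card_le_three (by rw [Finset.card_univ]; omega))
      simp only [Finset.mem_insert, Finset.mem_singleton, not_or] at hz hw
      have hc := CfsgLib.AltAut.cyc_isThreeCycle (Ne.symm hz.2) (Ne.symm hw.2.1) (Ne.symm hw.2.2)
      refine ⟨_, ⟨(hiff ⟨_, hc.mem_alternatingGroup⟩).2
        (CfsgLib.AltAut.cyc_apply_other (Ne.symm hy) (Ne.symm hz.1) (Ne.symm hw.1)), hc.mem_alternatingGroup⟩, ?_⟩
      rw [CfsgLib.AltAut.cyc_apply_fst (Ne.symm hz.2) (Ne.symm hw.2.1)]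
      exact hz.2
    · rintro k hk g ⟨hgH, hgA⟩
      exact ⟨mul_mem (mul_mem (inv_mem hk) hgH) hk, by
        simpa using ((inferInstance : (alternatingGroup Ω).Normal)).conj_mem g hgA k⁻¹⟩

end Cfsg.Agent.S5911
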