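import Cfsg.Statements.S5912
import Cfsg.Agent.Lib.SymSix.IndexSix

set_option autoImplicit false
open Cfsg

namespace Cfsg.Agent.S5912

/-- The symmetric group on a 6-element set Ω has exactly two conjugacy classes of subgroups of index 6: there are two non-conjugate subgroups of index 6 (a point stabilizer and a transitive subgroup isomorphic to S₅), and every subgroup of index 6 is conjugate to one of them. -/
theorem result {Ω : Type*} [Fintype Ω] [DecidableEq Ω] (h6 : Fintype.card Ω = 6) :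
    ∃ H₁ H₂ : Subgroup (Equiv.Perm Ω), H₁.index = 6 ∧ H₂.index = 6 ∧
      (¬ ∃ g : Equiv.Perm Ω, Subgroup.map (MulAut.conj g).toMonoidHom H₁ = H₂) ∧
      ∀ H : Subgroup (Equiv.Perm Ω), H.index = 6 →
        ∃ g : Equiv.Perm Ω, Subgroup.map (MulAut.conj g).toMonoidHom H₁ = H ∨ Subgroup.map (MulAut.conj g).toMonoidHom H₂ = H := by
  obtain ⟨ψ, hne, hall⟩ := CfsgLib.SymSix.exists_outer h6
  obtain ⟨a⟩ : Nonempty Ω := Fintype.card_pos_iff.1 (by omega)
  refine ⟨MulAction.stabilizer (Equiv.Perm Ω) a, (MulAction.stabilizer (Equiv.Perm Ω) a).comap ψ.toMonoidHom,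
    CfsgLib.SymSix.index_stabilizer h6 a, ?_, ?_, ?_⟩
  · rw [Subgroup.index_comap_of_surjective _ ψ.surjective, CfsgLib.SymSix.index_stabilizer h6 a]
  · rintro ⟨g, hg⟩
    rw [CfsgLib.SymSix.map_conj_stabilizer] at hg
    exact hne _ _ hg.symm
  · intro H hH
    obtain ⟨b, rfl | rfl⟩ := hall H hH
    · exact ⟨Equiv.swap a b, Or.inl (by rw [CfsgLib.SymSix.map_conj_stabilizer, Equiv.swap_apply_left])⟩
    · refine ⟨ψ.symm (Equiv.swap a b), Or.inr ?_⟩
      rw [CfsgLib.SymSix.map_conj_comap, MulEquiv.apply_symm_apply, Equiv.swap_apply_left]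

end Cfsg.Agent.S5912
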