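import Cfsg.Statements.S5913
-- import your own Cfsg.Agent.* helpers here

set_option autoImplicit false
open Cfsg

namespace Cfsg.Agent.S5913

/-- Let S be a non-abelian simple group and n a natural number. Every normal subgroup N of the direct power S^n (functions Fin n → S) is a subproduct: there is a set T of coordinates such that N consists exactly of the elements whose coordinates outside T are trivial. In particular the minimal normal subgroups of S^n are its n factors. -/
theorem result {S : Type*} [Group S] [IsSimpleGroup S] (hS : ¬ IsMulCommutative S) (n : ℕ)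
    (N : Subgroup (Fin n → S)) [N.Normal] :
    ∃ T : Finset (Fin n), ∀ x : Fin n → S, x ∈ N ↔ ∀ i, i ∉ T → x i = 1 := by
  classical
  have hc : Subgroup.center S = ⊥ := by
    rcases (inferInstance : (Subgroup.center S).Normal).eq_bot_or_eq_top with h | h
    · exact h
    · exact absurd ⟨⟨fun a b => ((Subgroup.mem_center_iff.1 (h ▸ Subgroup.mem_top a : a ∈ Subgroup.center S)) b).symm⟩⟩ hS
  have key : ∀ i : Fin n, ∀ x ∈ N, x i ≠ 1 → ∀ s : S, Pi.mulSingle i s ∈ N := by
    intro i x hx hxi s
    let M : Subgroup S := N.comap (MonoidHom.mulSingle (fun _ => S) i)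
    have hM : M.Normal := Subgroup.Normal.comap inferInstance _
    rcases hM.eq_bot_or_eq_top with hb | ht
    · exfalso
      have hcen : x i ∈ Subgroup.center S := by
        rw [Subgroup.mem_center_iff]
        intro t
        have h1 : x * Pi.mulSingle i t * x⁻¹ * (Pi.mulSingle i t)⁻¹ ∈ N := by
          have := N.mul_mem hx (Subgroup.Normal.conj_mem inferInstance _ (N.inv_mem hx) (Pi.mulSingle i t))
          simpa only [mul_assoc] using this
        have h2 : x * Pi.mulSingle i t * x⁻¹ * (Pi.mulSingle i t)⁻¹ =
            Pi.mulSingle i (x i * t * (x i)⁻¹ * t⁻¹) := by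
          funext j
          rcases eq_or_ne j i with rfl | hj
          · simp
          · simp [Pi.mulSingle_eq_of_ne hj]
        have h3 : x i * t * (x i)⁻¹ * t⁻¹ ∈ M := by
          change Pi.mulSingle i _ ∈ N
          rw [← h2]; exact h1
        rw [hb, Subgroup.mem_bot] at h3
        rw [mul_inv_eq_one, mul_inv_eq_iff_eq_mul] at h3
        exact h3.symm
      rw [hc, Subgroup.mem_bot] at hcen
      exact hxi hcen
    · exact (ht ▸ Subgroup.mem_top s : s ∈ M)
  refine ⟨Finset.univ.filter (fun i => ∀ s : S, Pi.mulSingle i s ∈ N), fun x => ⟨fun hx i hi => ?_, fun hx => ?_⟩⟩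
  · by_contra h
    exact hi (Finset.mem_filter.2 ⟨Finset.mem_univ _, key i x hx h⟩)
  · rw [← Finset.noncommProd_mulSingle x]
    refine Subgroup.noncommProd_mem _ _ fun i _ => ?_
    by_cases hi : ∀ s : S, Pi.mulSingle i s ∈ N
    · exact hi _
    · rw [hx i (by simp [hi]), Pi.mulSingle_one]; exact N.one_mem

end Cfsg.Agent.S5913
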