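import Cfsg.Statements.S5938
import Cfsg.Agent.Lib.PSL2Max.Basic
-- import your own Cfsg.Agent.* helpers here

set_option autoImplicit false
open Cfsg

namespace Cfsg.Agent.S5938

open CfsgLib.PSL2Sub CfsgLib.PSL2Max

/-- Let p be a prime with p ≡ ±1 (mod 8) and F a field with p elements. Then PSL_2(F) has a maximal subgroup isomorphic to the symmetric group S_4. -/
theorem result {F : Type*} [Field F] [Fintype F] (p : ℕ) [Fact p.Prime] (hF : Fintype.card F = p) (hp : p % 8 = 1 ∨ p % 8 = 7) : ∃ H : Subgroup (Matrix.ProjectiveSpecialLinearGroup (Fin 2) F), IsCoatom H ∧ Nonempty (H ≃* Equiv.Perm (Fin 4)) := by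
  classical
  haveI : CharP F p := charP_of_card_eq_prime hF
  have hp7 : 7 ≤ p := by
    have := (Fact.out : p.Prime).two_le
    omega
  have hodd : Odd p := (Fact.out : p.Prime).odd_of_ne_two (by omega)
  obtain ⟨H, ⟨e⟩⟩ := (sym_four_iff (F := F)).2 (by
    rw [hF, Nat.pow_mod]
    have h16 : p % 16 = 1 ∨ p % 16 = 7 ∨ p % 16 = 9 ∨ p % 16 = 15 := by omega
    rcases h16 with h | h | h | h <;> rw [h])
  have hcard : Nat.card H = 24 := (Nat.card_congr e.toEquiv).trans card_sym_four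
  have hw : Witness p H := witness_of_alt_four hodd
    (e.symm.toMonoidHom.comp (alternatingGroup (Fin 4)).subtype)
    (e.symm.injective.comp Subtype.val_injective)
  refine ⟨H, isCoatom_of p hw ?_ ?_ ?_, ⟨e⟩⟩
  · intro htop
    have h := gcd_mul_card_PS (F := F)
    have hPS : Nat.card (PS F) = 24 := by rw [← hcard, htop, Subgroup.card_top]
    rw [hF, hPS] at h
    have h1 : Nat.gcd 2 (p - 1) ≤ 2 := Nat.gcd_le_left _ two_pos
    have h2 := Nat.mul_le_mul_right 24 h1
    have h3 : 7 ^ 2 ≤ p ^ 2 := Nat.pow_le_pow_left hp7 2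
    have h4 := Nat.mul_le_mul hp7 (show 48 ≤ p ^ 2 - 1 by omega)
    omega
  · intro K hK _ h
    obtain ⟨h1, h2⟩ := card_lt_of_lt hK
    rw [hcard] at h1 h2
    obtain ⟨-, ⟨hc, -⟩ | ⟨hc, -⟩ | ⟨hc, -⟩⟩ := exceptional_facts p h <;> rw [hc] at h1 h2 <;> omega
  · intro K _ hKt E hE
    obtain ⟨g, m, hg, hm, -, hcard, -⟩ := exists_card_subfield p hKt hE
    rw [hF] at hcard
    have := Nat.pow_right_injective (Fact.out : p.Prime).two_le
      (show p ^ 1 = p ^ (g * m) by rw [pow_one, ← hcard])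
    have := Nat.mul_le_mul hg hm
    omega

end Cfsg.Agent.S5938
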