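import Cfsg.Statements.S5939
import Cfsg.Agent.Lib.PSL2Max.Basic
-- import your own Cfsg.Agent.* helpers here

set_option autoImplicit false
open Cfsg

namespace Cfsg.Agent.S5939

open CfsgLib.PSL2Sub CfsgLib.PSL2Max

/-- Let p be a prime and F a finite field of characteristic p such that either F has p elements and p ≡ ±1 (mod 10), or F has p² elements and p ≡ ±3 (mod 10). Then PSL_2(F) has a maximal subgroup isomorphic to the alternating group A_5. -/
theorem result {F : Type*} [Field F] [Fintype F] (p : ℕ) [Fact p.Prime] [CharP F p] (h : (Fintype.card F = p ∧ (p % 10 = 1 ∨ p % 10 = 9)) ∨ (Fintype.card F = p ^ 2 ∧ (p % 10 = 3 ∨ p % 10 = 7))) : ∃ H : Subgroup (Matrix.ProjectiveSpecialLinearGroup (Fin 2) F), IsCoatom H ∧ Nonempty (H ≃* alternatingGroup (Fin 5)) := by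
  classical
  have hp : 3 ≤ p := by
    have := (Fact.out : p.Prime).two_le
    rcases h with ⟨-, h⟩ | ⟨-, h⟩ <;> omega
  have hodd : Odd p := (Fact.out : p.Prime).odd_of_ne_two (by omega)
  have h5 : 5 ∣ Fintype.card F * (Fintype.card F ^ 2 - 1) := by
    refine Dvd.dvd.mul_left ?_ _
    rcases h with ⟨hc, hm⟩ | ⟨hc, hm⟩ <;> rw [hc]
    · have : p ^ 2 % 5 = 1 := by
        rw [Nat.pow_mod]; rcases (show p % 5 = 1 ∨ p % 5 = 4 by omega) with h | h <;> rw [h]
      omega
    · have : (p ^ 2) ^ 2 % 5 = 1 := by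
        rw [← pow_mul, Nat.pow_mod]; rcases (show p % 5 = 2 ∨ p % 5 = 3 by omega) with h | h <;> rw [h]
      omega
  obtain ⟨H, ⟨e⟩⟩ := (alt_five_iff (F := F)).2 h5
  have hcard : Nat.card H = 60 := (Nat.card_congr e.toEquiv).trans card_alt_five
  obtain ⟨φ, hφ⟩ := alt_four_into_alt_five
  have hw : Witness p H := witness_of_alt_four hodd (e.symm.toMonoidHom.comp φ)
    (e.symm.injective.comp hφ)
  refine ⟨H, isCoatom_of p hw ?_ ?_ ?_, ⟨e⟩⟩
  · intro htop
    have h2 := gcd_mul_card_PS (F := F)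
    have hPS : Nat.card (PS F) = 60 := by rw [← hcard, htop, Subgroup.card_top]
    rw [hPS] at h2
    have h1 : Nat.gcd 2 (Fintype.card F - 1) ≤ 2 := Nat.gcd_le_left _ two_pos
    have h3 := Nat.mul_le_mul_right 60 h1
    have hq : 7 ≤ Fintype.card F := by
      rcases h with ⟨hc, hm⟩ | ⟨hc, -⟩ <;> rw [hc]
      · omega
      · have := Nat.mul_le_mul hp hp; rw [pow_two]; omega
    have h4 : 7 ^ 2 ≤ Fintype.card F ^ 2 := Nat.pow_le_pow_left hq 2
    have h6 := Nat.mul_le_mul hq (show 48 ≤ Fintype.card F ^ 2 - 1 by omega)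
    omega
  · intro K hK _ h'
    obtain ⟨h1, h2⟩ := card_lt_of_lt hK
    obtain ⟨-, ⟨hc, -⟩ | ⟨hc, -⟩ | ⟨hc, -⟩⟩ := exceptional_facts p h' <;> omega
  · intro K hK hKt E hE
    obtain ⟨g, m, hg, hm, hE', hcardF, -⟩ := exists_card_subfield p hKt hE
    rcases h with ⟨hc, -⟩ | ⟨hc, hm5⟩
    · rw [hc] at hcardF
      have := Nat.pow_right_injective (Fact.out : p.Prime).two_le
        (show p ^ 1 = p ^ (g * m) by rw [pow_one, ← hcardF])
      have := Nat.mul_le_mul hg hm
      omega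
    · rw [hc] at hcardF
      have h2' := Nat.pow_right_injective (Fact.out : p.Prime).two_le hcardF
      have := Nat.mul_le_mul_left g hm
      obtain rfl : g = 1 := by omega
      rw [pow_one] at hE'
      have hd := (hcard ▸ (card_lt_of_lt hK).2).trans (card_dvd_of_field p hE)
      rw [hE'] at hd
      have h5p : 5 ∣ p * (p ^ 2 - 1) := (show 5 ∣ 60 by norm_num).trans hd
      have : p ^ 2 % 5 = 4 := by
        rw [Nat.pow_mod]; rcases (show p % 5 = 2 ∨ p % 5 = 3 by omega) with h | h <;> rw [h]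
      rcases Nat.prime_five.dvd_mul.1 h5p with h' | h' <;> omega

end Cfsg.Agent.S5939
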