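import Cfsg.Statements.S5940
import Cfsg.Agent.Lib.PSL2Max.Basic
-- import your own Cfsg.Agent.* helpers here

set_option autoImplicit false
open Cfsg

namespace Cfsg.Agent.S5940

open CfsgLib.PSL2Sub CfsgLib.PSL2Max

/-- Let p ≥ 5 be a prime with p ≡ ±3 (mod 8) and p ≢ ±1 (mod 10), and F a field with p elements. Then PSL_2(F) has a maximal subgroup isomorphic to the alternating group A_4. -/
theorem result {F : Type*} [Field F] [Fintype F] (p : ℕ) [Fact p.Prime] (hF : Fintype.card F = p) (h5 : 5 ≤ p) (h8 : p % 8 = 3 ∨ p % 8 = 5) (h10 : p % 10 ≠ 1 ∧ p % 10 ≠ 9) : ∃ H : Subgroup (Matrix.ProjectiveSpecialLinearGroup (Fin 2) F), IsCoatom H ∧ Nonempty (H ≃* alternatingGroup (Fin 4)) := by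
  classical
  haveI : CharP F p := charP_of_card_eq_prime hF
  have hodd : Odd p := (Fact.out : p.Prime).odd_of_ne_two (by omega)
  obtain ⟨H, ⟨e⟩⟩ := (alt_four_iff (F := F) p 1 (by rw [hF, pow_one])).2 (fun h => by omega)
  have hcard : Nat.card H = 12 := (Nat.card_congr e.toEquiv).trans card_alt_four
  have hw : Witness p H := witness_of_alt_four hodd e.symm.toMonoidHom e.symm.injective
  have hPS := gcd_mul_card_PS (F := F)
  rw [hF] at hPS
  have hd : Nat.gcd 2 (p - 1) = 2 := by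
    refine Nat.gcd_eq_left ?_
    obtain ⟨j, rfl⟩ := hodd; simp
  rw [hd] at hPS
  refine ⟨H, isCoatom_of p hw ?_ ?_ ?_, ⟨e⟩⟩
  · intro htop
    have hPS' : Nat.card (PS F) = 12 := by rw [← hcard, htop, Subgroup.card_top]
    rw [hPS'] at hPS
    have h3 : 5 ^ 2 ≤ p ^ 2 := Nat.pow_le_pow_left h5 2
    have h4 := Nat.mul_le_mul h5 (show 24 ≤ p ^ 2 - 1 by omega)
    omega
  · intro K hK hKt h
    obtain ⟨h1, -⟩ := card_lt_of_lt hK
    rcases h with ⟨-, ⟨e'⟩⟩ | ⟨-, h'⟩ | ⟨-, ⟨e'⟩⟩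
    · rw [Nat.card_congr e'.toEquiv, card_alt_four] at h1
      omega
    · have h16 := (sym_four_iff (F := F)).1 ⟨K, h'⟩
      rw [hF, Nat.pow_mod] at h16
      rcases (show p % 16 = 3 ∨ p % 16 = 5 ∨ p % 16 = 11 ∨ p % 16 = 13 by omega) with h | h | h | h <;>
        rw [h] at h16 <;> simp at h16
    · have h5' := (alt_five_iff (F := F)).1 ⟨K, ⟨e'⟩⟩
      rw [hF] at h5'
      rcases Nat.prime_five.dvd_mul.1 h5' with hd5 | hd5
      · obtain rfl := (Nat.prime_dvd_prime_iff_eq Nat.prime_five Fact.out).1 hd5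
        refine hKt (Subgroup.eq_top_of_le_card _ ?_)
        rw [Nat.card_congr e'.toEquiv, card_alt_five]
        omega
      · have h2 : p ^ 2 % 5 = 1 := by
          have := Nat.one_le_pow 2 p (by omega)
          omega
        rw [Nat.pow_mod] at h2
        rcases (show p % 5 = 0 ∨ p % 5 = 2 ∨ p % 5 = 3 by omega) with h | h | h <;> rw [h] at h2 <;>
          simp at h2
  · intro K _ hKt E hE
    obtain ⟨g, m, hg, hm, -, hcard, -⟩ := exists_card_subfield p hKt hE
    rw [hF] at hcard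
    have := Nat.pow_right_injective (Fact.out : p.Prime).two_le
      (show p ^ 1 = p ^ (g * m) by rw [pow_one, ← hcard])
    have := Nat.mul_le_mul hg hm
    omega

end Cfsg.Agent.S5940
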