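import Cfsg.Statements.S5941
import Cfsg.Agent.Lib.PSL2Max.Basic
-- import your own Cfsg.Agent.* helpers here

set_option autoImplicit false
open Cfsg

namespace Cfsg.Agent.S5941

open CfsgLib.PSL2Sub CfsgLib.PSL2Max

/-- Let K and F be finite fields of odd characteristic with #F = (#K)². Then PSL_2(F) has a maximal subgroup isomorphic to PGL_2(K). -/
theorem result {F K : Type*} [Field F] [Fintype F] [Field K] [Fintype K] (q : ℕ) (hK : Fintype.card K = q) (hF : Fintype.card F = q ^ 2) (hq : Odd q) : ∃ H : Subgroup (Matrix.ProjectiveSpecialLinearGroup (Fin 2) F), IsCoatom H ∧ Nonempty (H ≃* Matrix.ProjGenLinGroup (Fin 2) K) := by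
  classical
  obtain ⟨p, hpF⟩ := CharP.exists F
  haveI : Fact p.Prime := ⟨CharP.char_is_prime F p⟩
  have hKF : Fintype.card K ^ 2 = Fintype.card F := by rw [hK, hF]
  obtain ⟨f⟩ := exists_ringHom 2 one_le_two hKF
  haveI : CharP K p := (RingHom.charP_iff f f.injective p).mpr inferInstance
  have hodd : Fintype.card F % 2 = 1 := by rw [hF]; exact Nat.odd_iff.1 hq.pow
  obtain ⟨H, ⟨e⟩⟩ := exists_pgl_subfield f 2 hKF hodd even_two
  have hcard : Nat.card H = q * (q ^ 2 - 1) := by rw [Nat.card_congr e.toEquiv, card_PG, hK]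
  obtain ⟨n, -, hn⟩ := FiniteField.card K p
  have hp2 : p ≠ 2 := by
    rintro rfl
    rw [← hK, hn] at hq
    exact (Nat.not_odd_iff_even.2 ((even_two).pow_of_ne_zero n.ne_zero)) hq
  obtain ⟨A, ⟨a⟩⟩ := (alt_four_iff (F := K) p n hn).2 fun h => hp2 h.1
  have hw : Witness p H := witness_of_alt_four ((Fact.out : p.Prime).odd_of_ne_two hp2)
    ((e.symm.toMonoidHom.comp toPG).comp (A.subtype.comp a.symm.toMonoidHom))
    ((e.symm.injective.comp toPG_injective).comp (A.subtype_injective.comp a.symm.injective))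
  have hq3 : 3 ≤ q := by
    have := hK ▸ Fintype.one_lt_card (α := K)
    obtain ⟨j, rfl⟩ := hq
    omega
  refine ⟨H, isCoatom_of p hw ?_ ?_ ?_, ⟨e⟩⟩
  · intro htop
    have h := gcd_mul_card_PS (F := F)
    rw [← Subgroup.card_top (G := PS F), ← htop, hcard, hF] at h
    have h1 : Nat.gcd 2 (q ^ 2 - 1) ≤ 2 := Nat.gcd_le_left _ two_pos
    have h2 : 3 ^ 2 ≤ q ^ 2 := Nat.pow_le_pow_left hq3 2
    have h3 : q ^ 2 ≤ (q ^ 2) ^ 2 := Nat.le_self_pow two_ne_zero _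
    have h4 := Nat.mul_le_mul_left (q ^ 2) (show q ^ 2 - 1 ≤ (q ^ 2) ^ 2 - 1 by omega)
    have h6 := Nat.mul_le_mul_right (q * (q ^ 2 - 1)) h1
    rw [show q ^ 2 * (q ^ 2 - 1) = q * (q * (q ^ 2 - 1)) by ring] at h4
    have h7 : 3 * (q * (q ^ 2 - 1)) ≤ q * (q * (q ^ 2 - 1)) := Nat.mul_le_mul_right _ hq3
    have h8 := Nat.mul_le_mul hq3 (show 8 ≤ q ^ 2 - 1 by omega)
    omega
  · intro M hM _ h
    obtain ⟨h1, h2⟩ := card_lt_of_lt hM
    rw [hcard] at h1 h2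
    rcases (show q = 3 ∨ 5 ≤ q by obtain ⟨j, rfl⟩ := hq; omega) with hq' | hq'
    · rw [hq'] at h1 h2
      obtain ⟨-, ⟨hc, -⟩ | ⟨hc, -⟩ | ⟨hc, -⟩⟩ := exceptional_facts p h <;> rw [hc] at h1 h2 <;>
        first | omega | norm_num at h2
    · have h3 : 5 ^ 2 ≤ q ^ 2 := Nat.pow_le_pow_left hq' 2
      have h4 := Nat.mul_le_mul hq' (show 24 ≤ q ^ 2 - 1 by omega)
      obtain ⟨-, ⟨hc, -⟩ | ⟨hc, -⟩ | ⟨hc, -⟩⟩ := exceptional_facts p h <;> omega
  · intro M hM hMt E hE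
    obtain ⟨-, -, hle, hMc, -⟩ := field_bounds p hMt hE
    obtain ⟨h1, -⟩ := card_lt_of_lt hM
    rw [hcard] at h1
    rw [hF, ← pow_two] at hle
    have hEq : Nat.card E ≤ q := (Nat.pow_le_pow_iff_left two_ne_zero).1 hle
    have := Nat.mul_le_mul hEq (Nat.sub_le_sub_right (Nat.pow_le_pow_left hEq 2) 1)
    omega

end Cfsg.Agent.S5941
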