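import Cfsg.Statements.S5942
import Cfsg.Agent.Lib.PSL2Max.Basic
-- import your own Cfsg.Agent.* helpers here

set_option autoImplicit false
open Cfsg

namespace Cfsg.Agent.S5942

open CfsgLib.PSL2Sub CfsgLib.PSL2Max

/-- Let K and F be finite fields of odd characteristic with #F = (#K)^r for an odd prime r. Then PSL_2(F) has a maximal subgroup isomorphic to PSL_2(K). -/
theorem result {F K : Type*} [Field F] [Fintype F] [Field K] [Fintype K] (q r : ℕ) (hK : Fintype.card K = q) (hF : Fintype.card F = q ^ r) (hq : Odd q) (hr : r.Prime) (hr2 : r ≠ 2) : ∃ H : Subgroup (Matrix.ProjectiveSpecialLinearGroup (Fin 2) F), IsCoatom H ∧ Nonempty (H ≃* Matrix.ProjectiveSpecialLinearGroup (Fin 2) K) := by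
  classical
  obtain ⟨p, hpF⟩ := CharP.exists F
  haveI : Fact p.Prime := ⟨CharP.char_is_prime F p⟩
  have hKF : Fintype.card K ^ r = Fintype.card F := by rw [hK, hF]
  obtain ⟨f⟩ := exists_ringHom r hr.one_le hKF
  haveI : CharP K p := (RingHom.charP_iff f f.injective p).mpr inferInstance
  obtain ⟨H, ⟨e⟩⟩ := exists_psl_subfield f
  obtain ⟨n, -, hn⟩ := FiniteField.card K p
  have hp2 : p ≠ 2 := by
    rintro rfl
    rw [← hK, hn] at hq
    exact (Nat.not_odd_iff_even.2 ((even_two).pow_of_ne_zero n.ne_zero)) hq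
  have hrodd : Odd r := hr.odd_of_ne_two hr2
  have hodd : Fintype.card F % 2 = 1 := by rw [hF]; exact Nat.odd_iff.1 hq.pow
  have hd : Nat.gcd 2 (q - 1) = 2 := by
    refine Nat.gcd_eq_left ?_
    obtain ⟨j, rfl⟩ := hq; simp
  have hPK := gcd_mul_card_PS (F := K)
  rw [hK, hd] at hPK
  have hcard : 2 * Nat.card H = q * (q ^ 2 - 1) := by rw [Nat.card_congr e.toEquiv, hPK]
  obtain ⟨A, ⟨a⟩⟩ := (alt_four_iff (F := K) p n hn).2 fun h => hp2 h.1
  have hw : Witness p H := witness_of_alt_four ((Fact.out : p.Prime).odd_of_ne_two hp2)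
    (e.symm.toMonoidHom.comp (A.subtype.comp a.symm.toMonoidHom))
    (e.symm.injective.comp (A.subtype_injective.comp a.symm.injective))
  have hq3 : 3 ≤ q := by
    have := hK ▸ Fintype.one_lt_card (α := K)
    obtain ⟨j, rfl⟩ := hq
    omega
  refine ⟨H, isCoatom_of p hw ?_ ?_ ?_, ⟨e⟩⟩
  · intro htop
    have h := gcd_mul_card_PS (F := F)
    have hd' : Nat.gcd 2 (q ^ r - 1) = 2 := by
      refine Nat.gcd_eq_left ?_
      obtain ⟨j, hj⟩ := hq.pow (n := r); rw [hj]; simp
    rw [← Subgroup.card_top (G := PS F), ← htop, hF, hd', hcard] at h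
    have h1 : q * q ≤ q ^ r := by rw [← pow_two]; exact Nat.pow_le_pow_right (by omega) hr.two_le
    have h2 : q * 2 ≤ q * q := Nat.mul_le_mul_left q (by omega)
    have h3 : q < q ^ r := by omega
    have h4 : q ^ 2 - 1 ≤ (q ^ r) ^ 2 - 1 :=
      Nat.sub_le_sub_right (Nat.pow_le_pow_left h3.le 2) 1
    have h5 : 3 ^ 2 ≤ q ^ 2 := Nat.pow_le_pow_left hq3 2
    have := Nat.mul_lt_mul_of_lt_of_le h3 h4 (by omega)
    omega
  · intro M hM _ h
    obtain ⟨h1, -⟩ := card_lt_of_lt hM
    have hle : Nat.card M ≤ 60 := by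
      obtain ⟨-, ⟨hc, -⟩ | ⟨hc, -⟩ | ⟨hc, -⟩⟩ := exceptional_facts p h <;> omega
    have hq5 : q ≤ 5 := by
      by_contra hlt
      push Not at hlt
      have h3 : 6 ^ 2 ≤ q ^ 2 := Nat.pow_le_pow_left hlt 2
      have h4 := Nat.mul_le_mul hlt.le (show 35 ≤ q ^ 2 - 1 by omega)
      omega
    rcases (show q = 3 ∨ q = 5 by obtain ⟨j, rfl⟩ := hq; omega) with rfl | rfl
    · have hp3 : p = 3 := by
        have : p ∣ 3 := ⟨p ^ ((n : ℕ) - 1), by
          rw [← pow_succ', Nat.sub_add_cancel n.pos, ← hn, hK]⟩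
        exact (Nat.prime_dvd_prime_iff_eq Fact.out Nat.prime_three).1 this
      norm_num at hcard
      rcases h with ⟨hnp, ⟨e'⟩⟩ | ⟨hnp, ⟨e'⟩⟩ | ⟨-, h'⟩
      · exact hnp (by rw [Nat.card_congr e'.toEquiv, card_alt_four, hp3]; norm_num)
      · exact hnp (by rw [Nat.card_congr e'.toEquiv, card_sym_four, hp3]; norm_num)
      · have h5 := (alt_five_iff (F := F)).1 ⟨M, h'⟩
        rw [hF] at h5
        rcases Nat.prime_five.dvd_mul.1 h5 with h5 | h5
        · have := (Nat.prime_dvd_prime_iff_eq Nat.prime_five Nat.prime_three).1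
            (Nat.prime_five.dvd_of_dvd_pow h5)
          omega
        · have h9 : (3 ^ r) ^ 2 % 5 = 4 := by
            obtain ⟨j, rfl⟩ := hrodd
            rw [← pow_mul, mul_comm _ 2, mul_add, ← mul_assoc, pow_add, pow_mul, Nat.mul_mod,
              Nat.pow_mod]
            norm_num
          omega
    · simp only [Nat.reducePow, Nat.reduceSub, Nat.reduceMul] at hcard
      omega
  · intro M hM hMt E hE
    obtain ⟨g, m, hg, hm, hE', hcardF, -⟩ := exists_card_subfield p hMt hE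
    obtain ⟨h1, h2⟩ := card_lt_of_lt hM
    have hqn : q = p ^ (n : ℕ) := hK ▸ hn
    have hng : (n : ℕ) ∣ g := dvd_of_card_dvd (p := p) (Fact.out : p.Prime).two_le n.pos hg (by
      rw [← hqn, ← hcard, ← hE']
      exact Nat.mul_dvd_mul_left 2 (h2.trans (card_dvd_of_field p hE)))
    have hgm : g * m = (n : ℕ) * r := by
      refine Nat.pow_right_injective (Fact.out : p.Prime).two_le ?_
      show p ^ (g * m) = p ^ ((n : ℕ) * r)
      rw [← hcardF, hF, hqn, ← pow_mul]
    obtain ⟨c, rfl⟩ := hng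
    have hcr : c * m = r := by
      rw [mul_assoc] at hgm
      exact Nat.eq_of_mul_eq_mul_left n.pos hgm
    rcases hr.eq_one_or_self_of_dvd c ⟨m, hcr.symm⟩ with hc1 | hc1
    · subst hc1
      rw [mul_one, ← hqn] at hE'
      rw [one_mul] at hcr
      letI := Fintype.ofFinite E
      rcases hE with ⟨⟨e'⟩⟩ | ⟨-, ⟨e'⟩⟩
      · exact Nat.not_even_iff_odd.2 hrodd (even_of_pgl_subfield r
          (by rw [← Nat.card_eq_fintype_card, hE', hF]) hodd M e')
      · have hPE := gcd_mul_card_PS (F := E)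
        rw [← Nat.card_eq_fintype_card, hE', hd, ← Nat.card_congr e'.toEquiv] at hPE
        omega
    · subst hc1
      have := Nat.eq_of_mul_eq_mul_left hr.pos (hcr.trans (mul_one c).symm)
      omega

end Cfsg.Agent.S5942
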