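import Cfsg.Statements.S5943
import Cfsg.Agent.Lib.PSL2Max.Basic
-- import your own Cfsg.Agent.* helpers here

set_option autoImplicit false
open Cfsg

namespace Cfsg.Agent.S5943

open CfsgLib.PSL2Sub CfsgLib.PSL2Max

/-- Let K and F be finite fields of characteristic 2 with #K = q > 2 and #F = q^r for a prime r. Then PSL_2(F) has a maximal subgroup isomorphic to PSL_2(K) (which equals PGL_2(K) in characteristic 2). -/
theorem result {F K : Type*} [Field F] [Fintype F] [Field K] [Fintype K] (q r : ℕ) (hK : Fintype.card K = q) (hF : Fintype.card F = q ^ r) (hq : Even q) (hq2 : q ≠ 2) (hr : r.Prime) : ∃ H : Subgroup (Matrix.ProjectiveSpecialLinearGroup (Fin 2) F), IsCoatom H ∧ Nonempty (H ≃* Matrix.ProjectiveSpecialLinearGroup (Fin 2) K) := by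
  classical
  obtain ⟨p, hpF⟩ := CharP.exists F
  haveI : Fact p.Prime := ⟨CharP.char_is_prime F p⟩
  have hKF : Fintype.card K ^ r = Fintype.card F := by rw [hK, hF]
  obtain ⟨f⟩ := exists_ringHom r hr.one_le hKF
  haveI : CharP K p := (RingHom.charP_iff f f.injective p).mpr inferInstance
  obtain ⟨n, -, hn⟩ := FiniteField.card K p
  have hqn : q = p ^ (n : ℕ) := hK ▸ hn
  obtain rfl : p = 2 := by
    rw [hqn, Nat.even_pow] at hq
    exact (Nat.Prime.even_iff Fact.out).1 hq.1
  obtain ⟨H, ⟨e⟩⟩ := exists_psl_subfield f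
  have hd : Nat.gcd 2 (q - 1) = 1 := by
    obtain ⟨j, hj⟩ := hq
    have := hK ▸ Fintype.one_lt_card (α := K)
    rw [Nat.gcd_rec, show (q - 1) % 2 = 1 by omega, Nat.gcd_one_left]
  have hPK := gcd_mul_card_PS (F := K)
  rw [hK, hd, one_mul] at hPK
  have hcard : Nat.card H = q * (q ^ 2 - 1) := by rw [Nat.card_congr e.toEquiv, hPK]
  have hq4 : 2 < q := by
    have := hK ▸ Fintype.one_lt_card (α := K)
    omega
  have hw : Witness 2 H := witness_char_two (hK.symm ▸ hq4) e
  refine ⟨H, isCoatom_of 2 hw ?_ ?_ ?_, ⟨e⟩⟩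
  · intro htop
    have h := gcd_mul_card_PS (F := F)
    have hd' : Nat.gcd 2 (q ^ r - 1) ≤ 1 := by
      obtain ⟨j, hj⟩ := hq.pow_of_ne_zero hr.ne_zero
      have := Nat.one_le_pow r q (by omega)
      rw [Nat.gcd_rec, show (q ^ r - 1) % 2 = 1 by omega, Nat.gcd_one_left]
    rw [← Subgroup.card_top (G := PS F), ← htop, hF, hcard] at h
    have h0 := Nat.mul_le_mul_right (q * (q ^ 2 - 1)) hd'
    have h1 : q * q ≤ q ^ r := by rw [← pow_two]; exact Nat.pow_le_pow_right (by omega) hr.two_le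
    have h2 : q * 2 ≤ q * q := Nat.mul_le_mul_left q (by omega)
    have h3 : q < q ^ r := by omega
    have h4 : q ^ 2 - 1 ≤ (q ^ r) ^ 2 - 1 :=
      Nat.sub_le_sub_right (Nat.pow_le_pow_left h3.le 2) 1
    have h5 : 2 ^ 2 ≤ q ^ 2 := Nat.pow_le_pow_left hq4.le 2
    have := Nat.mul_lt_mul_of_lt_of_le h3 h4 (by omega)
    omega
  · intro M _ _ h
    exact (exceptional_facts 2 h).1 rfl
  · intro M hM hMt E hE
    obtain ⟨g, m, hg, hm, hE', hcardF, -⟩ := exists_card_subfield 2 hMt hE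
    obtain ⟨h1, h2⟩ := card_lt_of_lt hM
    have hMd := card_dvd_of_field 2 hE
    have hng : (n : ℕ) ∣ g := dvd_of_card_dvd (p := 2) le_rfl n.pos hg (by
      rw [← hqn, ← hcard, ← hE']
      exact (h2.trans hMd).mul_left 2)
    have hgm : g * m = (n : ℕ) * r := by
      refine Nat.pow_right_injective le_rfl ?_
      show 2 ^ (g * m) = 2 ^ ((n : ℕ) * r)
      rw [← hcardF, hF, hqn, ← pow_mul]
    obtain ⟨c, rfl⟩ := hng
    have hcr : c * m = r := by
      rw [mul_assoc] at hgm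
      exact Nat.eq_of_mul_eq_mul_left n.pos hgm
    rcases hr.eq_one_or_self_of_dvd c ⟨m, hcr.symm⟩ with hc1 | hc1
    · subst hc1
      rw [mul_one, ← hqn] at hE'
      rw [hE'] at hMd
      have h5 : 2 ^ 2 ≤ q ^ 2 := Nat.pow_le_pow_left hq4.le 2
      have := Nat.le_of_dvd (Nat.mul_pos (by omega) (by omega)) hMd
      omega
    · subst hc1
      have := Nat.eq_of_mul_eq_mul_left hr.pos (hcr.trans (mul_one c).symm)
      omega

end Cfsg.Agent.S5943
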