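import Cfsg.Statements.S5944
-- import your own Cfsg.Agent.* helpers here

set_option autoImplicit false
open Cfsg

namespace Cfsg.Agent.S5944

/-- For n ≠ 4, every proper subgroup of the symmetric group S_n other than the alternating group A_n has index at least n. -/
theorem result (n : ℕ) (hn : n ≠ 4) (H : Subgroup (Equiv.Perm (Fin n))) (hH : H ≠ ⊤) (hA : H ≠ alternatingGroup (Fin n)) : n ≤ H.index := by
  by_contra hlt
  push_neg at hlt
  have hne : H.index ≠ 0 := Subgroup.index_ne_zero_of_finite
  have hne1 : H.index ≠ 1 := fun h => hH (Subgroup.index_eq_one.1 h)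
  rcases Nat.lt_or_ge n 5 with hsmall | hbig
  · -- here the index is 2
    have h2 : H.index = 2 := by omega
    exact hA (Equiv.Perm.eq_alternatingGroup_of_index_eq_two h2)
  have hAn : ¬ alternatingGroup (Fin n) ≤ H := by
    intro hle
    have hdvd := Subgroup.index_dvd_of_le hle
    haveI : Nontrivial (Fin n) := Fin.nontrivial_iff_two_le.2 (by omega)
    rw [alternatingGroup.index_eq_two] at hdvd
    have h2 : H.index = 2 := by
      rcases (Nat.dvd_prime Nat.prime_two).1 hdvd with h | h
      · exact absurd h hne1
      · exact h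
    exact hA (Equiv.Perm.eq_alternatingGroup_of_index_eq_two h2)
  haveI : IsSimpleGroup (alternatingGroup (Fin n)) := alternatingGroup.isSimpleGroup (by simpa using hbig)
  let K : Subgroup (alternatingGroup (Fin n)) := H.normalCore.subgroupOf _
  rcases (inferInstance : K.Normal).eq_bot_or_eq_top with hb | ht
  · -- A_n embeds in the permutations of the cosets
    let φ := (MulAction.toPermHom (Equiv.Perm (Fin n)) (Equiv.Perm (Fin n) ⧸ H)).comp
      (alternatingGroup (Fin n)).subtype
    have hinj : Function.Injective φ := by
      rw [← MonoidHom.ker_eq_bot_iff]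
      rw [← hb]
      ext a
      change _ ↔ (a : Equiv.Perm (Fin n)) ∈ H.normalCore
      rw [Subgroup.normalCore_eq_ker]
      rfl
    have hle := Nat.card_le_card_of_injective φ hinj
    rw [Nat.card_perm] at hle
    have hcard : 2 * Nat.card (alternatingGroup (Fin n)) = n.factorial := by
      haveI : Nontrivial (Fin n) := Fin.nontrivial_iff_two_le.2 (by omega)
      rw [two_mul_nat_card_alternatingGroup, Nat.card_perm, Nat.card_fin]
    have hidx : Nat.card (Equiv.Perm (Fin n) ⧸ H) = H.index := rfl
    rw [hidx] at hle
    obtain ⟨m, rfl⟩ : ∃ m, n = m + 1 := ⟨n - 1, by omega⟩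
    have hmono : H.index.factorial ≤ m.factorial := Nat.factorial_le (by omega)
    rw [Nat.factorial_succ] at hcard
    have h3 : 3 * m.factorial ≤ (m + 1) * m.factorial := Nat.mul_le_mul_right _ (by omega)
    have hpos := Nat.factorial_pos m
    omega
  · apply hAn
    intro a ha
    exact H.normalCore_le ((ht ▸ Subgroup.mem_top _ : (⟨a, ha⟩ : alternatingGroup (Fin n)) ∈ K))

end Cfsg.Agent.S5944
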