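import Cfsg.Statements.S5945
import Cfsg.Agent.Lib.SymSix.IndexSix

set_option autoImplicit false
open Cfsg

namespace Cfsg.Agent.S5945

/-- The symmetric group S_6 has exactly 12 subgroups of index 6; each of them is isomorphic to S_5, and at least one of them is not the stabilizer of any point. -/
theorem result : Nat.card {H : Subgroup (Equiv.Perm (Fin 6)) // H.index = 6} = 12 ∧ (∀ H : Subgroup (Equiv.Perm (Fin 6)), H.index = 6 → Nonempty (H ≃* Equiv.Perm (Fin 5))) ∧ ∃ H : Subgroup (Equiv.Perm (Fin 6)), H.index = 6 ∧ ∀ a : Fin 6, H ≠ MulAction.stabilizer (Equiv.Perm (Fin 6)) a := by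
  have h6 : Fintype.card (Fin 6) = 6 := Fintype.card_fin 6
  obtain ⟨ψ, hne, hall⟩ := CfsgLib.SymSix.exists_outer h6
  have hidx : ∀ a : Fin 6, ((MulAction.stabilizer (Equiv.Perm (Fin 6)) a).comap ψ.toMonoidHom).index = 6 :=
    fun a => by rw [Subgroup.index_comap_of_surjective _ ψ.surjective, CfsgLib.SymSix.index_stabilizer h6 a]
  have hinj : ∀ a b : Fin 6, MulAction.stabilizer (Equiv.Perm (Fin 6)) a =
      MulAction.stabilizer (Equiv.Perm (Fin 6)) b → a = b := by
    intro a b hab
    by_contra hne'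
    obtain ⟨c, hca, hcb⟩ : ∃ c : Fin 6, c ≠ a ∧ c ≠ b :=
      (by decide : ∀ a b : Fin 6, ∃ c, c ≠ a ∧ c ≠ b) a b
    have h : Equiv.swap b c ∈ MulAction.stabilizer (Equiv.Perm (Fin 6)) b :=
      hab ▸ MulAction.mem_stabilizer_iff.2 (Equiv.swap_apply_of_ne_of_ne hne' hca.symm)
    rw [MulAction.mem_stabilizer_iff, Equiv.Perm.smul_def, Equiv.swap_apply_left] at h
    exact hcb h
  refine ⟨?_, ?_, ⟨_, hidx 0, fun a => hne 0 a⟩⟩
  · let g : Fin 6 ⊕ Fin 6 → {H : Subgroup (Equiv.Perm (Fin 6)) // H.index = 6} :=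
      Sum.elim (fun a => ⟨_, CfsgLib.SymSix.index_stabilizer h6 a⟩) (fun a => ⟨_, hidx a⟩)
    have hg : Function.Bijective g := by
      constructor
      · rintro (a | a) (b | b) hab
        · exact congrArg Sum.inl (hinj a b (congrArg Subtype.val hab))
        · exact absurd (congrArg Subtype.val hab).symm (hne b a)
        · exact absurd (congrArg Subtype.val hab) (hne a b)
        · exact congrArg Sum.inr (hinj a b (Subgroup.comap_injective ψ.surjective (congrArg Subtype.val hab)))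
      · rintro ⟨H, hH⟩
        obtain ⟨a, rfl | rfl⟩ := hall H hH
        · exact ⟨Sum.inl a, rfl⟩
        · exact ⟨Sum.inr a, rfl⟩
    rw [← Nat.card_congr (Equiv.ofBijective g hg), Nat.card_sum, Nat.card_fin]
  · intro H hH
    obtain ⟨a, rfl | rfl⟩ := hall H hH
    · exact CfsgLib.SymSix.nonempty_stabilizer_mulEquiv a (n := 5) h6
    · obtain ⟨e⟩ := CfsgLib.SymSix.nonempty_stabilizer_mulEquiv a (n := 5) h6
      exact ⟨((MulEquiv.subgroupMap ψ _).trans (MulEquiv.subgroupCongr (Subgroup.map_comap_eq_self_of_surjective ψ.surjective _))).trans e⟩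

end Cfsg.Agent.S5945
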