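import Cfsg.Statements.S5947
import Cfsg.Agent.Lib.Zsigmondy.Basic
import Cfsg.Agent.Lib.LinFix.Field
-- import your own Cfsg.Agent.* helpers here

set_option autoImplicit false
open Cfsg

namespace Cfsg.Agent.S5947

open CfsgLib.LinFix Polynomial

/-- A prime power one less than a power of two is a prime. -/
theorem prime_of_succ_eq_two_pow {p k m : ℕ} (hp : p.Prime) (hk : k ≠ 0) (h : p ^ k + 1 = 2 ^ m) :
    (p ^ k).Prime := by
  have hq2 : 2 ≤ p ^ k := hp.two_le.trans (Nat.le_self_pow hk p)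
  have hm : 2 ≤ m := by
    by_contra hm
    interval_cases m <;> omega
  have h4 : 4 ∣ 2 ^ m := (pow_dvd_pow 2 hm : 2 ^ 2 ∣ 2 ^ m)
  have hqodd : Odd (p ^ k) := Nat.odd_iff.2 (by omega)
  have hpodd : Odd p := (Nat.odd_pow_iff hk).1 hqodd
  have hkodd : Odd k := by
    by_contra hke
    obtain ⟨l, rfl⟩ := Nat.not_odd_iff_even.1 hke
    have h8 : (p ^ (l + l)) % 4 = 1 := by
      rw [← two_mul, pow_mul, Nat.pow_mod]
      have : p ^ 2 % 4 = 1 := by
        rcases hpodd with ⟨a, rfl⟩
        rw [show (2 * a + 1) ^ 2 = 4 * (a * a + a) + 1 by ring]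
        omega
      rw [this, one_pow, Nat.one_mod]
    omega
  obtain ⟨j, -, hj⟩ : ∃ j ≤ m, p + 1 = 2 ^ j := by
    refine (Nat.dvd_prime_pow Nat.prime_two).1 ?_
    rw [← h]
    have := hkodd.nat_add_dvd_pow_add_pow p 1
    rwa [one_pow] at this
  have hj2 : 2 ≤ j := by
    by_contra hj2
    have := hp.two_le
    interval_cases j <;> omega
  suffices hk1 : p ^ k = p by rw [hk1]; exact hp
  have hmod : p ^ k % 2 ^ (j + 1) = p % 2 ^ (j + 1) := by
    obtain ⟨l, rfl⟩ := hkodd
    have hsq : p ^ 2 % 2 ^ (j + 1) = 1 := by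
      obtain ⟨i, rfl⟩ : ∃ i, j = i + 1 := ⟨j - 1, by omega⟩
      have he : p ^ 2 + (2 ^ (i + 1) * 2) = 2 ^ (i + 1) * 2 ^ (i + 1) + 1 := by
        rw [← hj]; ring
      have hb : 2 ^ (i + 1) * 2 ^ (i + 1) = 2 ^ i * 2 ^ (i + 1 + 1) := by
        rw [← pow_add, ← pow_add]; ring_nf
      have hc : 2 ^ (i + 1) * 2 = 2 ^ (i + 1 + 1) := (pow_succ 2 (i + 1)).symm
      have hi : 1 ≤ 2 ^ i := Nat.one_le_two_pow
      obtain ⟨e, he'⟩ : ∃ e, 2 ^ i = e + 1 := ⟨2 ^ i - 1, by omega⟩
      have : p ^ 2 = e * 2 ^ (i + 1 + 1) + 1 := by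
        rw [hb, hc, he', Nat.add_mul, one_mul] at he; omega
      rw [this, Nat.mul_add_mod_self_right, Nat.mod_eq_of_lt (Nat.one_lt_two_pow (by omega))]
    rw [pow_succ, pow_mul, Nat.mul_mod, Nat.pow_mod, hsq, one_pow, Nat.mul_mod_mod]
    simp
  rcases Nat.lt_or_ge j m with hjm | hjm
  · exfalso
    have hd : 2 ^ (j + 1) ∣ p ^ k + 1 := h ▸ pow_dvd_pow 2 hjm
    rw [Nat.dvd_iff_mod_eq_zero, Nat.add_mod, hmod, ← Nat.add_mod, hj,
      Nat.mod_eq_of_lt (Nat.pow_lt_pow_right (by norm_num) (by omega))] at hd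
    exact (pow_ne_zero j two_ne_zero) hd
  · have := Nat.pow_le_pow_right (show 0 < 2 by norm_num) hjm
    have := Nat.le_self_pow hk p
    omega

/-- A map with irreducible cyclic structure of full degree is conjugate to a multiplication, and
so is everything commuting with it. -/
theorem exists_conj_lmul {F K : Type*} [Field F] [Fintype F] [Field K] [Fintype K] [Algebra F K]
    {g : F[X]} (hg : Irreducible g) (hgK : g.natDegree = Module.finrank F K)
    {T : Module.End F K} (hT : aeval T g = 0) :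
    ∃ u : (Module.End F K)ˣ, ∀ S : Module.End F K, Commute S T →
      ∃ a : K, (u : Module.End F K) * S * ((u⁻¹ : (Module.End F K)ˣ) : Module.End F K) =
        Algebra.lmul F K a := by
  haveI : Fact (Irreducible g) := ⟨hg⟩
  set E := AdjoinRoot g
  haveI : Module.Finite F E := (AdjoinRoot.powerBasis hg.ne_zero).finite
  haveI : Finite E := Module.finite_of_finite F
  haveI : Fintype E := Fintype.ofFinite E
  have hE : Module.finrank F E = Module.finrank F K := by
    rw [← hgK]; exact finrank_quotient_span_eq_natDegree (f := g)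
  obtain ⟨ι⟩ := FiniteField.nonempty_algHom_of_finrank_dvd (F := F) (K := E) (L := K) (dvd_of_eq hE)
  have hι : Function.Bijective ι :=
    ⟨ι.toRingHom.injective, (LinearMap.injective_iff_surjective_of_finrank_eq_finrank hE
      (f := ι.toLinearMap)).1 ι.toRingHom.injective⟩
  let π : F[X] →ₐ[F] Module.End F K := Polynomial.aeval T
  let ψ₀ : E →ₐ[F] Module.End F K := Ideal.Quotient.liftₐ (Ideal.span {g}) π fun a ha => by
    obtain ⟨c, rfl⟩ := Ideal.mem_span_singleton.1 ha
    rw [map_mul, show π g = 0 from hT, zero_mul]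
  let ψ : K →ₐ[F] Module.End F K := ψ₀.comp (AlgEquiv.ofBijective ι hι).symm.toAlgHom
  let φ : K →ₗ[F] K := (LinearMap.applyₗ (1 : K)).comp ψ.toLinearMap
  have hφ : Function.Injective φ := by
    rw [injective_iff_map_eq_zero]
    intro y hy
    by_contra hy0
    have h : ψ y⁻¹ (ψ y 1) = 0 := by rw [show ψ y 1 = 0 from hy, map_zero]
    rw [← Module.End.mul_apply, ← map_mul ψ, inv_mul_cancel₀ hy0, map_one ψ, Module.End.one_apply] at h
    exact one_ne_zero h
  let Φ : K ≃ₗ[F] K := LinearEquiv.ofBijective φ ⟨hφ, LinearMap.injective_iff_surjective.1 hφ⟩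
  have hΦ : ∀ a b, Φ (a * b) = ψ a (Φ b) := fun a b => by
    change ψ (a * b) 1 = ψ a (ψ b 1)
    rw [map_mul, Module.End.mul_apply]
  refine ⟨⟨Φ.symm.toLinearMap, Φ.toLinearMap, LinearMap.ext Φ.symm_apply_apply,
    LinearMap.ext Φ.apply_symm_apply⟩, fun S hS => ?_⟩
  refine ⟨Φ.symm (S (Φ 1)), LinearMap.ext fun y => ?_⟩
  change Φ.symm (S (Φ y)) = Φ.symm (S (Φ 1)) * y
  have hcomm : Commute S (ψ y) := by
    obtain ⟨P, hP⟩ := AdjoinRoot.mk_surjective ((AlgEquiv.ofBijective ι hι).symm y)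
    change Commute S (ψ₀ ((AlgEquiv.ofBijective ι hι).symm y))
    rw [← hP]
    exact Algebra.commute_of_mem_adjoin_singleton_of_commute (aeval_mem_adjoin_singleton F T) hS
  apply Φ.injective
  rw [Φ.apply_symm_apply, mul_comm, hΦ, Φ.apply_symm_apply]
  conv_lhs => rw [show Φ y = ψ y (Φ 1) by rw [← hΦ, mul_one]]
  exact LinearMap.congr_fun hcomm.eq (Φ 1)

/-- Let F ⊆ K be finite fields with |F| = q and [K : F] = n ≥ 2, regard K as an n-dimensional F-vector space, and let M ≤ GL_F(K) be the Singer group of multiplications by non-zero elements of K (cyclic of order q^n − 1). Assume (n, q) ≠ (6, 2), and that it is not the case that n = 2 with q a prime such that q + 1 is a power of 2. Then every abelian subgroup of GL_F(K) of order q^n − 1 is conjugate to M. -/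
theorem result {F K : Type*} [Field F] [Fintype F] [Field K] [Fintype K] [Algebra F K] (n : ℕ) (hn : 2 ≤ n) (hdim : Module.finrank F K = n)
    (hex1 : ¬ (n = 6 ∧ Fintype.card F = 2))
    (hex2 : ¬ (n = 2 ∧ (Fintype.card F).Prime ∧ ∃ a : ℕ, Fintype.card F + 1 = 2 ^ a))
    (U : Subgroup (Module.End F K)ˣ) (hU : IsMulCommutative U) (hcard : Nat.card U = Fintype.card K - 1) :
    ∃ g : (Module.End F K)ˣ, U.map (MulAut.conj g).toMonoidHom = (Units.map ((Algebra.lmul F K : K →ₐ[F] Module.End F K) : K →* Module.End F K)).range :=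
  by
  classical
  obtain ⟨p, hp⟩ := CharP.exists F
  haveI : Fact p.Prime := ⟨CharP.char_is_prime F p⟩
  obtain ⟨k, hpk, hq⟩ := FiniteField.card F p
  set q := Fintype.card F with hqdef
  have hq1 : 1 < q := Fintype.one_lt_card
  have hK : Fintype.card K = q ^ n := by rw [Module.card_eq_pow_finrank (K := F), hdim]
  -- a primitive prime divisor
  obtain ⟨r, hr, hrdvd, hrprim⟩ := CfsgLib.Zsigmondy.exists_primitive_prime_divisor hq1 hn
    (fun h => hex1 ⟨h.2, h.1⟩) (fun ⟨h2, m, hm⟩ => hex2 ⟨h2, by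
      rw [hq] at hm ⊢; exact prime_of_succ_eq_two_pow (Fact.out) k.pos.ne' hm, m, hm⟩)
  haveI : Fact r.Prime := ⟨hr⟩
  have hord : orderOf (q : ZMod r) = n := by
    have h1 := (dvd_pow_sub_one_iff hq1.le n).1 hrdvd
    have hpos : 0 < orderOf (q : ZMod r) := Nat.pos_of_dvd_of_pos h1 (by omega)
    rcases Nat.lt_or_ge (orderOf (q : ZMod r)) n with h | h
    · exact absurd ((dvd_pow_sub_one_iff hq1.le _).2 dvd_rfl) (hrprim _ hpos h)
    · exact le_antisymm (Nat.le_of_dvd (by omega) h1) h
  have hrp : r ≠ p := by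
    rintro rfl
    have h0 : (q : ZMod r) = 0 := by
      rw [hq, Nat.cast_pow, ZMod.natCast_self, zero_pow k.pos.ne']
    rw [h0, orderOf_zero] at hord
    omega
  have hrF : (r : F) ≠ 0 := natCast_ne_zero_of_ne (p := p) hrp
  haveI : Finite (Module.End F K) := Finite.of_injective (fun f : Module.End F K => (f : K → K)) DFunLike.coe_injective
  haveI : Finite (Module.End F K)ˣ := inferInstance
  haveI : Finite U := inferInstance
  obtain ⟨x, hx⟩ := exists_prime_orderOf_dvd_card' (G := U) r (by rw [hcard, hK]; exact hrdvd)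
  set T : Module.End F K := ((x : (Module.End F K)ˣ) : Module.End F K) with hTdef
  have hT : T ^ r = 1 := by
    rw [hTdef, ← Units.val_pow_eq_pow_val, ← SubgroupClass.coe_pow, ← hx, pow_orderOf_eq_one,
      OneMemClass.coe_one, Units.val_one]
  have hT1 : T ≠ 1 := fun h => hr.one_lt.ne' (by
    rw [← hx, orderOf_eq_one_iff]
    exact Subtype.ext (Units.ext h))
  -- `K` is irreducible for `T`
  have hhom := homog_order (r := r) (V := K) (by rw [← hqdef, hord]; omega) hrF hT
  rw [← hqdef, hord] at hhom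
  obtain ⟨j, hj⟩ := hhom.finrank_eq (inv_top T)
  rw [finrank_top, top_inf_eq, hdim] at hj
  have hker : LinearMap.ker (T - 1) ≠ ⊤ := fun h => hT1 (sub_eq_zero.1 (LinearMap.ker_eq_top.1 h))
  have hlt : Module.finrank F (LinearMap.ker (T - 1)) < n := hdim ▸ Submodule.finrank_lt hker
  have hC : LinearMap.ker (T - 1) = ⊥ := by
    rcases j with _ | j
    · omega
    · rw [Nat.succ_mul] at hj
      exact Submodule.finrank_eq_zero.1 (by omega)
  obtain ⟨U', -, -, hU'0, g, hg, hU'g, hgdvd, hann⟩ := exists_irreducible_sub T (inv_top T)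
    (fun h => by
      have h' := congrArg (fun W : Submodule F K => Module.finrank F W) h
      simp only [finrank_top, finrank_bot] at h'
      omega)
  have hg1 : ¬ g ∣ X - 1 := fun hd => by
    obtain ⟨v, hv, hv0⟩ := Submodule.exists_mem_ne_zero_of_ne_bot hU'0
    obtain ⟨c, hc⟩ := hd
    refine hv0 ((Submodule.mem_bot F).1 (hC ▸ ?_))
    rw [LinearMap.mem_ker, show T - 1 = aeval T (X - 1 : F[X]) by simp, hc, mul_comm, map_mul,
      Module.End.mul_apply, hann v hv, map_zero]
  have hdeg : g.natDegree = n :=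
    (natDegree_eq_order (by rw [← hqdef, hord]; omega) hg (hgdvd _ (by simp [hT])) hg1).trans
      (by rw [← hqdef, hord])
  have htop : U' = ⊤ := Submodule.eq_top_of_finrank_eq (by rw [hU'g, hdeg, hdim])
  have hgT : aeval T g = 0 := LinearMap.ext fun v => hann v (htop ▸ Submodule.mem_top)
  obtain ⟨u, hu⟩ := exists_conj_lmul hg (hdeg.trans hdim.symm) hgT
  set M := (Units.map ((Algebra.lmul F K : K →ₐ[F] Module.End F K) : K →* Module.End F K)).range
  have hle : U.map (MulAut.conj u).toMonoidHom ≤ M := by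
    rintro _ ⟨v, hv, rfl⟩
    obtain ⟨a, ha⟩ := hu (v : Module.End F K) (by
      have h := congrArg (fun z : U => ((z : (Module.End F K)ˣ) : Module.End F K))
        (hU.is_comm.comm ⟨v, hv⟩ x)
      exact h)
    have ha0 : a ≠ 0 := fun h0 => by
      rw [h0, map_zero] at ha
      haveI : Nontrivial (Module.End F K) := inferInstance
      refine not_isUnit_zero (M₀ := Module.End F K) ?_
      rw [← ha, ← Units.val_mul, ← Units.val_mul]
      exact Units.isUnit _
    exact ⟨Units.mk0 a ha0, Units.ext ha.symm⟩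
  refine ⟨u, Subgroup.eq_of_le_of_card_ge hle ?_⟩
  have h1 : Nat.card (U.map (MulAut.conj u).toMonoidHom) = Nat.card U :=
    (Nat.card_congr (U.equivMapOfInjective _ (MulAut.conj u).injective).toEquiv).symm
  rw [h1, hcard, ← Nat.card_eq_fintype_card, ← Nat.card_units]
  exact Finite.card_range_le _

end Cfsg.Agent.S5947
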