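import Cfsg.Statements.S5949
import Cfsg.Agent.Lib.LinFix.Elements
import Cfsg.Agent.Lib.LinFix.Count

set_option autoImplicit false
open scoped MatrixGroups
open Cfsg

namespace Cfsg.Agent.S5949

open scoped MatrixGroups
open CfsgLib.LinFix

/-- The dimension criterion for elements of order `r` to fix an `m`-dimensional subspace. -/
theorem fixed_subspace_iff {F : Type*} [Field F] [Fintype F] {p : ℕ} [Fact p.Prime] [CharP F p]
    {q : ℕ} (hq : Fintype.card F = q) {n m : ℕ} (hm : 1 ≤ m) (hmn : 2 * m ≤ n) {r : ℕ}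
    [Fact r.Prime] (hrp : r ≠ p) {j₀ : ℕ} (hj₀ : j₀ < m) (hj : r ∣ q ^ (n - j₀) - 1) :
    (∀ x : Matrix.SpecialLinearGroup (Fin n) F,
      (∃ c : F, ((x ^ r : Matrix.SpecialLinearGroup (Fin n) F) : Matrix (Fin n) (Fin n) F) = c • 1) →
      (∀ c : F, (x : Matrix (Fin n) (Fin n) F) ≠ c • 1) →
      ∃ W : Submodule F (Fin n → F), Module.finrank F W = m ∧
        Inv (Matrix.toLin' (x : Matrix (Fin n) (Fin n) F)) W) ↔
    ((orderOf (q : ZMod r) = 1 ∧ (r ∣ m ∨ (padicValNat r n ≤ padicValNat r (q - 1) ∧ (r = 2 → Even n → q % 4 = 1)))) ∨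
     (2 ≤ orderOf (q : ZMod r) ∧ orderOf (q : ZMod r) ≤ m ∧ m % orderOf (q : ZMod r) ≤ n % orderOf (q : ZMod r))) := by
  have hrF : (r : F) ≠ 0 := natCast_ne_zero_of_ne (p := p) hrp
  have hi0 : 0 < orderOf (q : ZMod r) := hq ▸ orderOf_pos_of_ne (p := p) hrp
  have hq0 : 1 ≤ q := hq ▸ Fintype.card_pos
  set i := orderOf (q : ZMod r) with hidef
  have hqi : orderOf (Fintype.card F : ZMod r) = i := by rw [hq]
  have hid : i ∣ n - j₀ := (dvd_pow_sub_one_iff hq0 _).1 hj
  have hn0 : n ≠ 0 := by omega
  have hlen : Module.finrank F (Fin n → F) = n := Module.finrank_fin_fun F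
  have hq1 : i = 1 → r ∣ q - 1 := fun h => by
    have := (dvd_pow_sub_one_iff (r := r) hq0 1).2 (by rw [← hidef, h])
    rwa [pow_one] at this
  constructor
  · intro hel
    rcases Nat.lt_or_ge i 2 with hi | hi
    · have hi1 : i = 1 := by omega
      refine Or.inl ⟨hi1, or_iff_not_imp_left.2 fun hrm => ?_⟩
      by_contra hcrit
      obtain ⟨-, x, c, hxc, hhom⟩ := exists_nonpower_element hq (hq1 hi1) hn0 hrF hcrit
      have hno : ∀ W : Submodule F (Fin n → F),
          Inv (Matrix.toLin' (x : Matrix (Fin n) (Fin n) F)) W → Module.finrank F W ≠ m :=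
        fun W hW h => hrm (h ▸ hhom.dim_multiple hW)
      obtain ⟨W, hWm, hW⟩ := hel x ⟨c, hxc⟩ (not_scalar_of_no_invariant (m := m) (by omega) hno)
      exact hno W hW hWm
    · obtain ⟨x, hxr, hxe⟩ := exists_sl_fixed (F := F) (p := p) hrp (hqi.symm ▸ hi) (n % i) (n / i)
        (n := n) (by rw [hqi, mul_comm]; exact (Nat.mod_add_div n i).symm)
      set T := Matrix.toLin' (x : Matrix (Fin n) (Fin n) F) with hTdef
      have hhom := homog_order (hqi.symm ▸ hi0) hrF hxr
      by_contra hcond
      push Not at hcond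
      have hno : ∀ W : Submodule F (Fin n → F), Inv T W → Module.finrank F W ≠ m := by
        intro W hW hWm
        obtain ⟨j, hj'⟩ := hhom.finrank_eq hW
        rw [hWm, hqi] at hj'
        have hle : Module.finrank F ↥(W ⊓ LinearMap.ker (T - 1)) ≤ n % i :=
          hxe ▸ Submodule.finrank_mono inf_le_right
        set a := Module.finrank F ↥(W ⊓ LinearMap.ker (T - 1)) with ha
        have h1 : i ≤ m → n % i < m % i := fun him => hcond.2 hi him
        rcases Nat.eq_zero_or_pos j with rfl | hjpos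
        · rcases Nat.lt_or_ge m i with him | him
          · -- no multiple of `i` between `n - m` and `n`
            obtain ⟨k, hk⟩ := hid
            have h2 : n = j₀ + i * k := by omega
            have h3 : n % i = j₀ := by rw [h2, Nat.add_mul_mod_self_left, Nat.mod_eq_of_lt (by omega)]
            omega
          · have := h1 him
            have := Nat.mod_le m i
            omega
        · have him : i ≤ m := by
            have := Nat.mul_le_mul_right i hjpos
            omega
          have := h1 him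
          have h4 : m % i = a % i := by rw [hj', Nat.add_mul_mod_self_right]
          have := Nat.mod_le a i
          omega
      obtain ⟨W, hWm, hW⟩ := hel x ⟨1, pow_eq_of_toLin' (by rw [one_smul]; exact hxr)⟩
        (not_scalar_of_no_invariant (m := m) (by omega) hno)
      exact hno W hW hWm
  · intro hcond x ⟨c, hxc⟩ _
    have hc0 := scalar_ne_zero hn0 hxc
    have hT := toLin'_pow_eq hxc
    set T := Matrix.toLin' (x : Matrix (Fin n) (Fin n) F) with hTdef
    by_cases hroot : ∃ w : F, w ^ r = c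
    · obtain ⟨w, hw⟩ := hroot
      obtain ⟨T', hT', hinv⟩ := exists_normalize hc0 hw hT
      rcases hcond with ⟨hi1, -⟩ | ⟨hi2, him, hmod⟩
      · have hhom := homog_one (hqi.trans hi1) hrF hT'
        obtain ⟨U, -, hU, hUm⟩ := hhom.exists_dim_multiple (inv_top T') (one_dvd m) (by rw [finrank_top, hlen]; omega)
        exact ⟨U, hUm, (hinv U).1 hU⟩
      · have hhom := homog_order (hqi.symm ▸ hi0) hrF hT'
        rw [hqi] at hhom
        obtain ⟨s, hs⟩ := hhom.finrank_eq (inv_top T')
        rw [finrank_top, top_inf_eq, hlen] at hs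
        set e := Module.finrank F (LinearMap.ker (T' - 1)) with he
        have he' : n % i ≤ e := by
          rw [hs, Nat.add_mul_mod_self_right]; exact Nat.mod_le _ _
        obtain ⟨a, j, ha, hj', hm'⟩ := exists_rep (n := n) (m := m) hi0 (by omega) ⟨s, hs⟩
          (Or.inr ⟨him, hmod.trans he'⟩)
        obtain ⟨U, hU, hUm⟩ := hhom.exists_sub_top (a := a) (j := j) ha (by rw [hlen]; exact hj')
        exact ⟨U, hUm.trans hm', (hinv U).1 hU⟩
    · rcases hcond with ⟨hi1, hrm | hcrit⟩ | ⟨hi2, -, -⟩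
      · push Not at hroot
        obtain ⟨U, -, hU, hUm⟩ := (homog_nonpower hrF hroot hT).exists_dim_multiple (inv_top T) hrm
          (by rw [finrank_top, hlen]; omega)
        exact ⟨U, hUm, hU⟩
      · exact absurd (root_of_criterion hq (hq1 hi1) hn0 hcrit hxc) hroot
      · exact absurd (exists_root_of_coprime (r := r) (by rw [hqi]; omega) c) hroot

/-- Elements of prime order of PSL_n(q) with no fixed `m`-space. Here `T = PSL_n(F)` for a field `F` with `q = p^f` elements (`n ≥ 2`, `(n, q) ≠ (2, 2), (2, 3)`); an element of `T` of prime order `r` is represented by a matrix `x` of determinant 1 with `x^r` scalar and `x` not scalar; `i` denotes the multiplicative order of `q` modulo `r` (when `r ≠ p`), and `(a)_r` the `r`-part of `a`. Let `1 ≤ m ≤ n/2` and let `r` be a prime dividing the number of `m`-dimensional subspaces of `F^n`. Then every element of `T` of order `r` fixes some `m`-dimensional subspace (the action on `m`-spaces is `r`-elusive) if and only if `r ≠ p` and either (i) `i = 1`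 and (`r ∣ m`, or `(q−1)_r ≥ (n)_r` where in addition `q ≡ 1 (mod 4)` is required when `r = 2` and `n` is even), or (ii) `2 ≤ i ≤ m` and `n mod i ≥ m mod i`. -/
theorem result {F : Type*} [Field F] [Fintype F] {p : ℕ} [Fact p.Prime] [CharP F p] {q : ℕ} (hq : Fintype.card F = q)
    (n m : ℕ) (hn : 2 ≤ n) (hT : (n, q) ≠ (2, 2) ∧ (n, q) ≠ (2, 3)) (hm : 1 ≤ m) (hmn : 2 * m ≤ n)
    (r : ℕ) [Fact r.Prime] (hrΩ : r ∣ Nat.card {W : Submodule F (Fin n → F) // Module.finrank F ↥W = m}) :
    (∀ x : Matrix.SpecialLinearGroup (Fin n) F,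
      (∃ c : F, ((x ^ r : Matrix.SpecialLinearGroup (Fin n) F) : Matrix (Fin n) (Fin n) F) = c • (1 : Matrix (Fin n) (Fin n) F)) →
      (∀ c : F, (x : Matrix (Fin n) (Fin n) F) ≠ c • (1 : Matrix (Fin n) (Fin n) F)) →
      ∃ W : Submodule F (Fin n → F), Module.finrank F ↥W = m ∧ W.map (Matrix.toLin' (x : Matrix (Fin n) (Fin n) F)) ≤ W) ↔
    (r ≠ p ∧
      ((orderOf (q : ZMod r) = 1 ∧ (r ∣ m ∨ (padicValNat r n ≤ padicValNat r (q - 1) ∧ (r = 2 → Even n → q % 4 = 1)))) ∨
       (2 ≤ orderOf (q : ZMod r) ∧ orderOf (q : ZMod r) ≤ m ∧ m % orderOf (q : ZMod r) ≤ n % orderOf (q : ZMod r)))) := by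
  have hlen : Module.finrank F (Fin n → F) = n := Module.finrank_fin_fun F
  have hrp : r ≠ p := by
    rintro rfl
    exact not_char_dvd_card_subspace hq hlen (by omega : m ≤ n) hrΩ
  obtain ⟨j₀, hj₀, hj⟩ := exists_dvd_of_dvd_card_subspace hq hlen (by omega : m ≤ n) Fact.out hrΩ
  rw [and_iff_right hrp, ← fixed_subspace_iff hq hm hmn hrp hj₀ hj]
  refine forall_congr' fun x => imp_congr_right fun _ => imp_congr_right fun _ => exists_congr fun W => ?_
  exact and_congr_right fun _ => ⟨inv_of_map_le, Inv.map_le⟩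

end Cfsg.Agent.S5949
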