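import Cfsg.Statements.S5950
import Cfsg.Agent.S5949
import Cfsg.Agent.Lib.LinFix.Jordan
-- import your own Cfsg.Agent.* helpers here

set_option autoImplicit false
open scoped MatrixGroups
open Cfsg

namespace Cfsg.Agent.S5950

open CfsgLib.LinFix

/-- For parts of size at most two, a sub-multiset of sum `m` exists unless `n` is even and `m` odd. -/
theorem sub_sum_two_iff {n m : ℕ} (hmn : 2 * m < n) :
    (∀ μ : Multiset ℕ, (∀ a ∈ μ, 0 < a ∧ a ≤ 2) → μ.sum = n → ∃ ν : Multiset ℕ, ν ≤ μ ∧ ν.sum = m) ↔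
      (Odd n ∨ Even m) := by
  constructor
  · intro h
    by_contra hc
    push Not at hc
    obtain ⟨hn, hm⟩ := hc
    rw [Nat.not_odd_iff_even] at hn
    obtain ⟨k, hk⟩ := hn
    obtain ⟨ν, hν, hs⟩ := h (Multiset.replicate k 2)
      (fun a ha => by rw [Multiset.eq_of_mem_replicate ha]; omega)
      (by rw [Multiset.sum_replicate, smul_eq_mul]; omega)
    rw [Multiset.le_replicate_iff] at hν
    obtain ⟨l, -, rfl⟩ := hν
    rw [Multiset.sum_replicate, smul_eq_mul] at hs
    exact hm ⟨l, by omega⟩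
  · intro h μ hμ hsum
    have hdec : μ = Multiset.replicate (μ.count 1) 1 + Multiset.replicate (μ.count 2) 2 := by
      refine Multiset.ext.2 fun a => ?_
      simp only [Multiset.count_add, Multiset.count_replicate]
      by_cases ha : a ∈ μ
      · obtain ⟨h1, h2⟩ := hμ a ha
        interval_cases a <;> simp
      · have := Multiset.count_eq_zero.2 ha
        split_ifs <;> subst_vars <;> omega
    set u := μ.count 1
    set v := μ.count 2
    rw [hdec] at hsum
    simp only [Multiset.sum_add, Multiset.sum_replicate, smul_eq_mul] at hsum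
    obtain ⟨c, d, hc, hd, hcd⟩ : ∃ c d, c ≤ u ∧ d ≤ v ∧ c + 2 * d = m := by
      rcases Nat.lt_or_ge (2 * v) m with hv | hv
      · exact ⟨m - 2 * v, v, by omega, le_rfl, by omega⟩
      · refine ⟨m % 2, m / 2, ?_, by omega, by omega⟩
        rcases h with ⟨k, hk⟩ | ⟨k, hk⟩ <;> omega
    refine ⟨Multiset.replicate c 1 + Multiset.replicate d 2, ?_, ?_⟩
    · rw [hdec]
      exact add_le_add ((Multiset.replicate_le_replicate 1).2 hc) ((Multiset.replicate_le_replicate 2).2 hd)
    · rw [Multiset.sum_add, Multiset.sum_replicate, Multiset.sum_replicate, smul_eq_mul, smul_eq_mul]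
      omega

/-- Elements of prime order of PSL_n(q) fixing no decomposition `F^n = U ⊕ W` with `dim U = m`. Here `T = PSL_n(F)` for a field `F` with `q = p^f` elements (`n ≥ 2`, `(n, q) ≠ (2, 2), (2, 3)`); an element of `T` of prime order `r` is represented by a matrix `x` of determinant 1 with `x^r` scalar and `x` not scalar; `i` denotes the multiplicative order of `q` modulo `r` (when `r ≠ p`), and `(a)_r` the `r`-part of `a`. Let `n ≥ 3`, `1 ≤ m < n/2`, and let `r` be a prime dividing the number of such decompositions (unordered pairs `{U, W}` of complementary subspaces with `dim U = m`; since `m ≠ n − m` these are the ordered pairs with `dim U = m`). Then every element of `T` of order `r` fixes such a pair (fixes both `U` and `W` for some complementary `U, W` with `dim U = m`) if and only if one of: (i) `r = p > 2` and every partition of `n` into parts of size at most `p` contains, as a sub-multiset, a partition of `m`; (ii) `r = p = 2` and `n` is odd or `m` is even;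 (iii) `r ≠ p`, `i = 1`, and `r ∣ m` or `(q−1)_r ≥ (n)_r` (with `q ≡ 1 (mod 4)` required when `r = 2` and `n` is even); (iv) `r ≠ p`, `2 ≤ i ≤ m` and `n mod i ≥ m mod i`. -/
theorem result {F : Type*} [Field F] [Fintype F] {p : ℕ} [Fact p.Prime] [CharP F p] {q : ℕ} (hq : Fintype.card F = q)
    (n m : ℕ) (hn : 3 ≤ n) (hm : 1 ≤ m) (hmn : 2 * m < n)
    (r : ℕ) [Fact r.Prime]
    (hrΩ : r ∣ Nat.card {P : Submodule F (Fin n → F) × Submodule F (Fin n → F) // IsCompl P.1 P.2 ∧ Module.finrank F ↥P.1 = m}) :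
    (∀ x : Matrix.SpecialLinearGroup (Fin n) F,
      (∃ c : F, ((x ^ r : Matrix.SpecialLinearGroup (Fin n) F) : Matrix (Fin n) (Fin n) F) = c • (1 : Matrix (Fin n) (Fin n) F)) →
      (∀ c : F, (x : Matrix (Fin n) (Fin n) F) ≠ c • (1 : Matrix (Fin n) (Fin n) F)) →
      ∃ U W : Submodule F (Fin n → F), IsCompl U W ∧ Module.finrank F ↥U = m ∧
        U.map (Matrix.toLin' (x : Matrix (Fin n) (Fin n) F)) ≤ U ∧ W.map (Matrix.toLin' (x : Matrix (Fin n) (Fin n) F)) ≤ W) ↔
    ((r = p ∧ 2 < p ∧ (∀ μ : Multiset ℕ, (∀ a ∈ μ, 0 < a ∧ a ≤ p) → μ.sum = n → ∃ ν : Multiset ℕ, ν ≤ μ ∧ ν.sum = m)) ∨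
     (r = p ∧ p = 2 ∧ (Odd n ∨ Even m)) ∨
     (r ≠ p ∧
      ((orderOf (q : ZMod r) = 1 ∧ (r ∣ m ∨ (padicValNat r n ≤ padicValNat r (q - 1) ∧ (r = 2 → Even n → q % 4 = 1)))) ∨
       (2 ≤ orderOf (q : ZMod r) ∧ orderOf (q : ZMod r) ≤ m ∧ m % orderOf (q : ZMod r) ≤ n % orderOf (q : ZMod r))))) :=
  by
  have hlen : Module.finrank F (Fin n → F) = n := Module.finrank_fin_fun F
  have hn0 : n ≠ 0 := by omega
  -- it suffices to consider pairs of invariant complementary subspaces for all elements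
  have key : ∀ P : Prop,
      ((∀ x : Matrix.SpecialLinearGroup (Fin n) F, (∃ c : F,
          ((x ^ r : Matrix.SpecialLinearGroup (Fin n) F) : Matrix (Fin n) (Fin n) F) = c • 1) →
        ∃ U W : Submodule F (Fin n → F), IsCompl U W ∧ Module.finrank F U = m ∧
          Inv (Matrix.toLin' (x : Matrix (Fin n) (Fin n) F)) U ∧
          Inv (Matrix.toLin' (x : Matrix (Fin n) (Fin n) F)) W) ↔ P) →
      ((∀ x : Matrix.SpecialLinearGroup (Fin n) F, (∃ c : F,
          ((x ^ r : Matrix.SpecialLinearGroup (Fin n) F) : Matrix (Fin n) (Fin n) F) = c • 1) →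
        (∀ c : F, (x : Matrix (Fin n) (Fin n) F) ≠ c • (1 : Matrix (Fin n) (Fin n) F)) →
        ∃ U W : Submodule F (Fin n → F), IsCompl U W ∧ Module.finrank F ↥U = m ∧
          U.map (Matrix.toLin' (x : Matrix (Fin n) (Fin n) F)) ≤ U ∧
          W.map (Matrix.toLin' (x : Matrix (Fin n) (Fin n) F)) ≤ W) ↔ P) := by
    intro P hP
    rw [← hP]
    constructor
    · intro hel x hx
      by_cases hsc : ∃ c : F, (x : Matrix (Fin n) (Fin n) F) = c • 1
      · obtain ⟨c, hc⟩ := hsc
        have hinv : ∀ W : Submodule F (Fin n → F),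
            Inv (Matrix.toLin' (x : Matrix (Fin n) (Fin n) F)) W := fun W v hv => by
          rw [hc, map_smul, Matrix.toLin'_one]; exact W.smul_mem c hv
        obtain ⟨U, -, hU⟩ := exists_le_finrank (⊤ : Submodule F (Fin n → F)) (a := m)
          (by rw [finrank_top, hlen]; omega)
        obtain ⟨W, hW⟩ := Submodule.exists_isCompl U
        exact ⟨U, W, hW, hU, hinv U, hinv W⟩
      · push Not at hsc
        obtain ⟨U, W, h1, h2, h4, h5⟩ := hel x hx hsc
        exact ⟨U, W, h1, h2, inv_of_map_le h4, inv_of_map_le h5⟩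
    · intro h x hx _
      obtain ⟨U, W, h1, h2, h4, h5⟩ := h x hx
      exact ⟨U, W, h1, h2, h4.map_le, h5.map_le⟩
  apply key
  by_cases hrp : r = p
  · subst hrp
    have hmain : (∀ x : Matrix.SpecialLinearGroup (Fin n) F, (∃ c : F,
          ((x ^ r : Matrix.SpecialLinearGroup (Fin n) F) : Matrix (Fin n) (Fin n) F) = c • 1) →
        ∃ U W : Submodule F (Fin n → F), IsCompl U W ∧ Module.finrank F U = m ∧
          Inv (Matrix.toLin' (x : Matrix (Fin n) (Fin n) F)) U ∧
          Inv (Matrix.toLin' (x : Matrix (Fin n) (Fin n) F)) W) ↔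
        (∀ μ : Multiset ℕ, (∀ a ∈ μ, 0 < a ∧ a ≤ r) → μ.sum = n →
          ∃ ν : Multiset ℕ, ν ≤ μ ∧ ν.sum = m) := by
      constructor
      · intro h μ hμ hsum
        obtain ⟨x, hx, hrank⟩ := exists_sl_blocks (F := F) μ (fun a ha => (hμ a ha).2) hsum
        obtain ⟨U, W, hc, hUm, hU, hW⟩ := h x ⟨1, pow_eq_of_toLin' (by rw [one_smul]; exact hx)⟩
        obtain ⟨ν, hν, hνs⟩ := exists_sub_blocks hx (fun a ha => (hμ a ha).1) hrank hU hW hc
        exact ⟨ν, hν, hνs.trans hUm⟩
      · rintro h x ⟨c, hxc⟩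
        obtain ⟨w, hw⟩ := (bijective_frobenius F r).surjective c
        rw [frobenius_def] at hw
        obtain ⟨T', hT', hinv⟩ := exists_normalize (scalar_ne_zero hn0 hxc) hw (toLin'_pow_eq hxc)
        obtain ⟨μ, hμ, -, hsum, hsplit⟩ := exists_blocks_char hT' (inv_top T')
        rw [finrank_top, hlen] at hsum
        obtain ⟨ν, hν, hνs⟩ := h μ hμ hsum
        obtain ⟨U, W, hU, hW, hd, hs, hUr⟩ := hsplit ν hν
        exact ⟨U, W, ⟨hd, codisjoint_iff.2 hs⟩, hUr.trans hνs, (hinv U).1 hU, (hinv W).1 hW⟩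
    rw [hmain]
    by_cases h2 : r = 2
    · subst h2
      rw [sub_sum_two_iff hmn]
      simp
    · have : 2 < r := lt_of_le_of_ne (Fact.out : r.Prime).two_le (Ne.symm h2)
      simp [this, h2]
  · have hrF : (r : F) ≠ 0 := natCast_ne_zero_of_ne (p := p) hrp
    obtain ⟨j₀, hj₀, hj⟩ := exists_dvd_of_dvd_card_subspace hq hlen (by omega : m ≤ n) Fact.out
      (dvd_card_subspace_of_dvd_card_compl_pairs (p := p) Fact.out hrp hrΩ)
    have := Cfsg.Agent.S5949.fixed_subspace_iff hq hm hmn.le hrp hj₀ hj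
    simp only [hrp, false_and, false_or, ne_eq, not_false_eq_true, true_and]
    rw [← this]
    constructor
    · intro h x hx _
      obtain ⟨U, -, -, hUm, hU, -⟩ := h x hx
      exact ⟨U, hUm, hU⟩
    · rintro h x ⟨c, hxc⟩
      by_cases hsc : ∃ c : F, (x : Matrix (Fin n) (Fin n) F) = c • 1
      · obtain ⟨a, ha⟩ := hsc
        have hinv : ∀ W : Submodule F (Fin n → F),
            Inv (Matrix.toLin' (x : Matrix (Fin n) (Fin n) F)) W := fun W v hv => by
          rw [ha, map_smul, Matrix.toLin'_one]; exact W.smul_mem a hv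
        obtain ⟨U, -, hU⟩ := exists_le_finrank (⊤ : Submodule F (Fin n → F)) (a := m)
          (by rw [finrank_top, hlen]; omega)
        obtain ⟨W, hW⟩ := Submodule.exists_isCompl U
        exact ⟨U, W, hW, hU, hinv U, hinv W⟩
      · push Not at hsc
        obtain ⟨U, hUm, hU⟩ := h x ⟨c, hxc⟩ hsc
        obtain ⟨W, -, hW, hd, hs⟩ := exists_inv_compl
          (isSemisimple_of_pow_eq hrF (scalar_ne_zero hn0 hxc) (toLin'_pow_eq hxc)) hU
          (inv_top _) le_top
        exact ⟨U, W, ⟨hd, codisjoint_iff.2 hs⟩, hUm, hU, hW⟩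

end Cfsg.Agent.S5950
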