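import Cfsg.Statements.S5951
import Cfsg.Agent.Lib.LinFix.Elements
import Cfsg.Agent.Lib.LinFix.Count
-- import your own Cfsg.Agent.* helpers here

set_option autoImplicit false
open scoped MatrixGroups
open Cfsg

namespace Cfsg.Agent.S5951

open CfsgLib.LinFix

/-- Choice of the dimensions `a`, `a'` inside the fixed space. -/
theorem exists_split {i e n m s : ℕ} (hi : 0 < i) (hns : n = e + s * i) (hmn : 2 * m < n)
    (he : 2 * (m % i) ≤ e) :
    ∃ j j', j * i ≤ m ∧ j' * i ≤ m ∧ 2 * m ≤ e + (j + j') * i ∧ j + j' ≤ s := by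
  set c := m % i with hc
  set M := m / i with hM
  have hcm : c + i * M = m := Nat.mod_add_div m i
  set T := min (2 * M) ((e - 2 * c) / i) with hT
  have h1 : i * ((e - 2 * c) / i) ≤ e - 2 * c := Nat.mul_div_le _ _
  have h2 : i * T ≤ e - 2 * c := (Nat.mul_le_mul_left i (min_le_right _ _)).trans h1
  have hTM : T ≤ 2 * M := min_le_left _ _
  have h3 : 2 * M - T ≤ s := by
    rcases min_choice (2 * M) ((e - 2 * c) / i) with h | h
    · omega
    · have h4 : e - 2 * c < i * (T + 1) := hT ▸ h.symm ▸ Nat.lt_mul_div_succ _ hi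
      have h5 : i * (2 * M) = 2 * (i * M) := by ring
      have h6 : i * (2 * M) < i * (T + 1 + s) := by
        rw [Nat.mul_add i (T + 1) s, Nat.mul_comm i s, h5]; omega
      have := Nat.lt_of_mul_lt_mul_left h6
      omega
  refine ⟨M - min T M, M - (T - min T M), ?_, ?_, ?_, by omega⟩
  · exact (Nat.mul_le_mul_right i (Nat.sub_le _ _)).trans (by rw [Nat.mul_comm]; omega)
  · exact (Nat.mul_le_mul_right i (Nat.sub_le _ _)).trans (by rw [Nat.mul_comm]; omega)
  · have h7 : (M - min T M + (M - (T - min T M))) + T = 2 * M := by omega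
    have h8 := congrArg (i * ·) h7
    simp only [Nat.mul_add i] at h8
    have h5 : i * (2 * M) = 2 * (i * M) := by ring
    rw [Nat.add_mul, Nat.mul_comm _ i, Nat.mul_comm (M - (T - min T M)) i]
    omega

/-- Existence of an invariant flag for a map with homogeneous constituents. -/
theorem exists_flag {F V : Type*} [Field F] [AddCommGroup V] [Module F V] [FiniteDimensional F V]
    {T : Module.End F V} {C : Submodule F V} {d : ℕ} (h : Homog T C d) {n m j j' s : ℕ}
    (hV : Module.finrank F V = n) (hs : n = Module.finrank F C + s * d) (hm : 2 * m ≤ n)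
    (hj : j * d ≤ m) (hj' : j' * d ≤ m) (hsum : 2 * m ≤ Module.finrank F C + (j + j') * d)
    (hjs : j + j' ≤ s) :
    ∃ U W : Submodule F V, U ≤ W ∧ Module.finrank F U = m ∧ Module.finrank F W = n - m ∧
      Inv T U ∧ Inv T W := by
  set e := Module.finrank F C with he
  have h1 : (s - j') * d + j' * d = s * d := by rw [← Nat.add_mul, Nat.sub_add_cancel (by omega)]
  have h2 : j * d ≤ (s - j') * d := Nat.mul_le_mul_right d (by omega)
  rw [Nat.add_mul] at hsum
  obtain ⟨W, -, hW, hWm, hWC⟩ := h.exists_sub_inf (inv_top T) (a := e - (m - j' * d)) (j := s - j')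
    (by rw [top_inf_eq]; omega) (by rw [top_inf_eq, finrank_top, hV]; omega)
  obtain ⟨U, hUW, hU, hUm, -⟩ := h.exists_sub_inf hW (a := m - j * d) (j := j)
    (by rw [hWC]; omega) (by rw [hWC, hWm]; omega)
  exact ⟨U, W, hUW, by omega, by omega, hU, hW⟩

/-- Elements of prime order of PSL_n(q) fixing no pair of subspaces `U < W` with `dim U = m`, `dim W = n − m`. Here `T = PSL_n(F)` for a field `F` with `q = p^f` elements (`n ≥ 2`, `(n, q) ≠ (2, 2), (2, 3)`); an element of `T` of prime order `r` is represented by a matrix `x` of determinant 1 with `x^r` scalar and `x` not scalar; `i` denotes the multiplicative order of `q` modulo `r` (when `r ≠ p`), and `(a)_r` the `r`-part of `a`. Let `1 ≤ m < n/2` and let `r` be a prime dividing the number of such pairs. Then every element of `T` of order `r` fixes such a pair (both `U` and `W`) if and only if `r ≠ p` and either (i) `i = 1` and (`r ∣ m`, or `(q−1)_r ≥ (n)_r` with `q ≡ 1 (mod 4)` required when `r = 2` and `n` is even), or (ii) `2 ≤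 i ≤ m` and `n mod i ≥ 2 (m mod i)`. -/
theorem result {F : Type*} [Field F] [Fintype F] {p : ℕ} [Fact p.Prime] [CharP F p] {q : ℕ} (hq : Fintype.card F = q)
    (n m : ℕ) (hn : 2 ≤ n) (hT : (n, q) ≠ (2, 2) ∧ (n, q) ≠ (2, 3)) (hm : 1 ≤ m) (hmn : 2 * m < n)
    (r : ℕ) [Fact r.Prime]
    (hrΩ : r ∣ Nat.card {P : Submodule F (Fin n → F) × Submodule F (Fin n → F) //
        P.1 ≤ P.2 ∧ Module.finrank F ↥P.1 = m ∧ Module.finrank F ↥P.2 = n - m}) :
    (∀ x : Matrix.SpecialLinearGroup (Fin n) F,
      (∃ c : F, ((x ^ r : Matrix.SpecialLinearGroup (Fin n) F) : Matrix (Fin n) (Fin n) F) = c • (1 : Matrix (Fin n) (Fin n) F)) →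
      (∀ c : F, (x : Matrix (Fin n) (Fin n) F) ≠ c • (1 : Matrix (Fin n) (Fin n) F)) →
      ∃ U W : Submodule F (Fin n → F), U ≤ W ∧ Module.finrank F ↥U = m ∧ Module.finrank F ↥W = n - m ∧
        U.map (Matrix.toLin' (x : Matrix (Fin n) (Fin n) F)) ≤ U ∧ W.map (Matrix.toLin' (x : Matrix (Fin n) (Fin n) F)) ≤ W) ↔
    (r ≠ p ∧
      ((orderOf (q : ZMod r) = 1 ∧ (r ∣ m ∨ (padicValNat r n ≤ padicValNat r (q - 1) ∧ (r = 2 → Even n → q % 4 = 1)))) ∨
       (2 ≤ orderOf (q : ZMod r) ∧ orderOf (q : ZMod r) ≤ m ∧ 2 * (m % orderOf (q : ZMod r)) ≤ n % orderOf (q : ZMod r)))) :=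
  by
  have hlen : Module.finrank F (Fin n → F) = n := Module.finrank_fin_fun F
  have hn0 : n ≠ 0 := by omega
  obtain ⟨hrp, j₀, hj₀, hj⟩ : r ≠ p ∧ ∃ j₀, j₀ < 2 * m ∧ r ∣ q ^ (n - j₀) - 1 := by
    rw [card_pairs (V := Fin n → F)] at hrΩ
    have hlen' : Module.finrank F (Fin (n - m) → F) = n - m := Module.finrank_fin_fun F
    rcases (Nat.Prime.dvd_mul Fact.out).1 hrΩ with h | h
    · refine ⟨?_, ?_⟩
      · rintro rfl
        exact not_char_dvd_card_subspace hq hlen (Nat.sub_le n m) h
      · rw [card_subspace_symm hq hlen (by omega : m ≤ n)] at h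
        obtain ⟨j₀, hj₀, hj⟩ := exists_dvd_of_dvd_card_subspace hq hlen (by omega : m ≤ n) Fact.out h
        exact ⟨j₀, by omega, hj⟩
    · refine ⟨?_, ?_⟩
      · rintro rfl
        exact not_char_dvd_card_subspace hq hlen' (by omega : m ≤ n - m) h
      · obtain ⟨j₀, hj₀, hj⟩ :=
          exists_dvd_of_dvd_card_subspace hq hlen' (by omega : m ≤ n - m) Fact.out h
        exact ⟨m + j₀, by omega, by rwa [← Nat.sub_sub]⟩
  rw [and_iff_right hrp]
  have hrF : (r : F) ≠ 0 := natCast_ne_zero_of_ne (p := p) hrp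
  have hi0 : 0 < orderOf (q : ZMod r) := hq ▸ orderOf_pos_of_ne (p := p) hrp
  have hq0 : 1 ≤ q := hq ▸ Fintype.card_pos
  set i := orderOf (q : ZMod r) with hidef
  have hqi : orderOf (Fintype.card F : ZMod r) = i := by rw [hq]
  have hid : i ∣ n - j₀ := (dvd_pow_sub_one_iff hq0 _).1 hj
  have hq1 : i = 1 → r ∣ q - 1 := fun h => by
    have := (dvd_pow_sub_one_iff (r := r) hq0 1).2 (by rw [← hidef, h])
    rwa [pow_one] at this
  constructor
  · intro hel
    -- every non-scalar element fixes a flag, hence every element does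
    have hel' : ∀ x : Matrix.SpecialLinearGroup (Fin n) F, (∃ c : F,
        ((x ^ r : Matrix.SpecialLinearGroup (Fin n) F) : Matrix (Fin n) (Fin n) F) = c • 1) →
        ∃ U W : Submodule F (Fin n → F), U ≤ W ∧ Module.finrank F U = m ∧
          Module.finrank F W = n - m ∧ Inv (Matrix.toLin' (x : Matrix (Fin n) (Fin n) F)) U ∧
          Inv (Matrix.toLin' (x : Matrix (Fin n) (Fin n) F)) W := by
      intro x hx
      by_cases hsc : ∃ c : F, (x : Matrix (Fin n) (Fin n) F) = c • 1
      · obtain ⟨c, hc⟩ := hsc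
        have hinv : ∀ W : Submodule F (Fin n → F),
            Inv (Matrix.toLin' (x : Matrix (Fin n) (Fin n) F)) W := fun W v hv => by
          rw [hc, map_smul, Matrix.toLin'_one]; exact W.smul_mem c hv
        obtain ⟨W, -, hW⟩ := exists_le_finrank (⊤ : Submodule F (Fin n → F)) (a := n - m)
          (by rw [finrank_top, hlen]; omega)
        obtain ⟨U, hUW, hU⟩ := exists_le_finrank W (a := m) (by omega)
        exact ⟨U, W, hUW, hU, hW, hinv U, hinv W⟩
      · push Not at hsc
        obtain ⟨U, W, h1, h2, h3, h4, h5⟩ := hel x hx hsc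
        exact ⟨U, W, h1, h2, h3, inv_of_map_le h4, inv_of_map_le h5⟩
    rcases Nat.lt_or_ge i 2 with hi | hi
    · have hi1 : i = 1 := by omega
      refine Or.inl ⟨hi1, or_iff_not_imp_left.2 fun hrm => ?_⟩
      by_contra hcrit
      obtain ⟨-, x, c, hxc, hhom⟩ := exists_nonpower_element hq (hq1 hi1) hn0 hrF hcrit
      obtain ⟨U, W, -, hUm, -, hU, -⟩ := hel' x ⟨c, hxc⟩
      exact hrm (hUm ▸ hhom.dim_multiple hU)
    · refine Or.inr ⟨hi, ?_⟩
      obtain ⟨x, hxr, hxe⟩ := exists_sl_fixed (F := F) (p := p) hrp (hqi.symm ▸ hi) (n % i) (n / i)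
        (n := n) (by rw [hqi, mul_comm]; exact (Nat.mod_add_div n i).symm)
      set T := Matrix.toLin' (x : Matrix (Fin n) (Fin n) F) with hTdef
      have hhom := homog_order (hqi.symm ▸ hi0) hrF hxr
      obtain ⟨U, W, hUW, hUm, hWm, hU, hW⟩ := hel' x ⟨1, pow_eq_of_toLin' (by rw [one_smul]; exact hxr)⟩
      obtain ⟨j, hj'⟩ := hhom.finrank_eq hU
      obtain ⟨k, hk⟩ := hhom.finrank_eq hW
      have hab : Module.finrank F ↥(U ⊓ LinearMap.ker (T - 1)) ≤
          Module.finrank F ↥(W ⊓ LinearMap.ker (T - 1)) :=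
        Submodule.finrank_mono (inf_le_inf_right _ hUW)
      have hbe : Module.finrank F ↥(W ⊓ LinearMap.ker (T - 1)) ≤ n % i :=
        hxe ▸ Submodule.finrank_mono inf_le_right
      rw [hUm, hqi] at hj'
      rw [hWm, hqi] at hk
      set a := Module.finrank F ↥(U ⊓ LinearMap.ker (T - 1))
      set b := Module.finrank F ↥(W ⊓ LinearMap.ker (T - 1))
      have hbi : b < i := hbe.trans_lt (Nat.mod_lt n hi0)
      have hma : m % i = a := by rw [hj', Nat.add_mul_mod_self_right, Nat.mod_eq_of_lt (by omega)]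
      have hne : n % i = (a + b) % i := by
        rw [show n = a + b + (j + k) * i by rw [Nat.add_mul]; omega, Nat.add_mul_mod_self_right]
      have hsum : n % i = a + b := by
        rcases Nat.lt_or_ge (a + b) i with h | h
        · rwa [Nat.mod_eq_of_lt h] at hne
        · have h' : a + b - i < i := by omega
          rw [Nat.mod_eq_sub_mod h, Nat.mod_eq_of_lt h'] at hne
          omega
      have h2m : 2 * (m % i) ≤ n % i := by omega
      refine ⟨?_, h2m⟩
      by_contra him
      push Not at him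
      rw [Nat.mod_eq_of_lt him] at h2m
      obtain ⟨t, ht⟩ := hid
      have h3 : n % i = j₀ % i := by
        conv_lhs => rw [show n = j₀ + i * t by omega, Nat.add_mul_mod_self_left]
      have := Nat.mod_le j₀ i
      omega
  · intro hcond x ⟨c, hxc⟩ _
    suffices h : ∃ U W : Submodule F (Fin n → F), U ≤ W ∧ Module.finrank F U = m ∧
        Module.finrank F W = n - m ∧ Inv (Matrix.toLin' (x : Matrix (Fin n) (Fin n) F)) U ∧
        Inv (Matrix.toLin' (x : Matrix (Fin n) (Fin n) F)) W by
      obtain ⟨U, W, h1, h2, h3, h4, h5⟩ := h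
      exact ⟨U, W, h1, h2, h3, h4.map_le, h5.map_le⟩
    have hc0 := scalar_ne_zero hn0 hxc
    have hT := toLin'_pow_eq hxc
    set T := Matrix.toLin' (x : Matrix (Fin n) (Fin n) F) with hTdef
    by_cases hroot : ∃ w : F, w ^ r = c
    · obtain ⟨w, hw⟩ := hroot
      obtain ⟨T', hT', hinv⟩ := exists_normalize hc0 hw hT
      simp only [← hinv]
      rcases hcond with ⟨hi1, -⟩ | ⟨hi2, him, hmod⟩
      · have hhom := homog_one (hqi.trans hi1) hrF hT'
        obtain ⟨W, -, hW, hWm⟩ := hhom.exists_dim_multiple (inv_top T') (one_dvd (n - m))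
          (by rw [finrank_top, hlen]; omega)
        obtain ⟨U, hUW, hU, hUm⟩ := hhom.exists_dim_multiple hW (one_dvd m) (by omega)
        exact ⟨U, W, hUW, hUm, hWm, hU, hW⟩
      · have hhom := homog_order (hqi.symm ▸ hi0) hrF hT'
        rw [hqi] at hhom
        obtain ⟨s, hs⟩ := hhom.finrank_eq (inv_top T')
        rw [finrank_top, top_inf_eq, hlen] at hs
        have he' : n % i ≤ Module.finrank F (LinearMap.ker (T' - 1)) := by
          have h := congrArg (· % i) hs
          simp only [Nat.add_mul_mod_self_right] at h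
          rw [h]; exact Nat.mod_le _ _
        obtain ⟨j, j', h1, h2, h3, h4⟩ := exists_split hi0 hs hmn (hmod.trans he')
        exact exists_flag hhom hlen hs (by omega) h1 h2 h3 h4
    · rcases hcond with ⟨hi1, hrm | hcrit⟩ | ⟨hi2, -, -⟩
      · push Not at hroot
        have hhom := homog_nonpower hrF hroot hT
        have hrn : r ∣ n := by
          have := hhom.dim_multiple (inv_top T)
          rwa [finrank_top, hlen] at this
        obtain ⟨W, -, hW, hWm⟩ := hhom.exists_dim_multiple (inv_top T) (Nat.dvd_sub hrn hrm)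
          (by rw [finrank_top, hlen]; omega)
        obtain ⟨U, hUW, hU, hUm⟩ := hhom.exists_dim_multiple hW hrm (by omega)
        exact ⟨U, W, hUW, hUm, hWm, hU, hW⟩
      · exact absurd (root_of_criterion hq (hq1 hi1) hn0 hcrit hxc) hroot
      · exact absurd (exists_root_of_coprime (r := r) (by rw [hqi]; omega) c) hroot

end Cfsg.Agent.S5951
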