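import Cfsg.Statements.S5952
-- import your own Cfsg.Agent.* helpers here

set_option autoImplicit false
open Cfsg

namespace Cfsg.Agent.S5952

/-- Which dimensions of invariant subspaces a semisimple linear map has. Let `V` be a finite-dimensional vector space over a field `F` and `f` an invertible semisimple linear map of `V`. Suppose `V` is the internal direct sum of the fixed space `C_V(f)` (the eigenspace for 1) and subspaces `U_1, …, U_s`, each `f`-invariant of dimension `a ≥ 1` on which `f` acts irreducibly (no `f`-invariant subspaces other than 0 and `U_j`). Let `0 < m < dim V` and `ℓ = m mod a`. Then `f` leaves some `m`-dimensional subspace invariant if and only if `dim C_V(f) ≥ m`, or `a ≤ m` and `dim C_V(f) ≥ ℓ`. -/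
theorem result {F V : Type*} [Field F] [AddCommGroup V] [Module F V]
    [FiniteDimensional F V] (f : V →ₗ[F] V) (hf : Function.Bijective f) (hss : Module.End.IsSemisimple f)
    {s a : ℕ} (ha : 1 ≤ a) (U : Fin s → Submodule F V)
    (hUinv : ∀ j, (U j).map f ≤ U j) (hUdim : ∀ j, Module.finrank F ↥(U j) = a)
    (hUirr : ∀ j, ∀ W : Submodule F V, W ≤ U j → W.map f ≤ W → W = ⊥ ∨ W = U j)
    (hdec : DirectSum.IsInternal (fun o : Option (Fin s) => o.elim (Module.End.eigenspace f 1) U))
    (m : ℕ) (hm : 0 < m) (hmV : m < Module.finrank F V) :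
    (∃ W : Submodule F V, Module.finrank F ↥W = m ∧ W.map f ≤ W) ↔
    (m ≤ Module.finrank F ↥(Module.End.eigenspace f 1) ∨
      (a ≤ m ∧ m % a ≤ Module.finrank F ↥(Module.End.eigenspace f 1))) := by
  classical
  set C := Module.End.eigenspace f 1 with hCdef
  let P : Submodule F V → Finset (Fin s) → Submodule F V := fun C0 S => C0 ⊔ S.sup U
  have hCfix : ∀ C0 : Submodule F V, C0 ≤ C → C0.map f ≤ C0 := by
    rintro C0 hC0 _ ⟨v, hv, rfl⟩
    have := Module.End.mem_eigenspace_iff.1 (hC0 hv)
    rw [this, one_smul]; exact hv
  have hdisj : ∀ C0 : Submodule F V, C0 ≤ C → ∀ S : Finset (Fin s), ∀ j ∉ S, Disjoint (U j) (P C0 S) := by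
    intro C0 hC0 S j hj
    refine (hdec.submodule_iSupIndep (some j)).mono_right (sup_le ?_ (Finset.sup_le fun i hi => ?_))
    · exact hC0.trans (le_iSup₂_of_le none (by simp) le_rfl)
    · exact le_iSup₂_of_le (f := fun (o : Option (Fin s)) (_ : o ≠ some j) => o.elim C U) (some i)
        (by simp; rintro rfl; exact hj hi) le_rfl
  have hPinv : ∀ C0 : Submodule F V, C0 ≤ C → ∀ S : Finset (Fin s), (P C0 S).map f ≤ P C0 S := by
    intro C0 hC0 S
    induction S using Finset.induction_on with
    | empty => simpa [P] using hCfix C0 hC0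
    | insert j S hj ih =>
      have hsup : P C0 (insert j S) = U j ⊔ P C0 S := by simp [P, Finset.sup_insert, sup_left_comm]
      rw [hsup, Submodule.map_sup]
      exact sup_le_sup (hUinv j) ih
  have hPrank : ∀ C0 : Submodule F V, C0 ≤ C → ∀ S : Finset (Fin s),
      Module.finrank F ↥(P C0 S) = Module.finrank F C0 + S.card * a := by
    intro C0 hC0 S
    induction S using Finset.induction_on with
    | empty =>
      have h0 : P C0 ∅ = C0 := by simp [P]
      rw [h0]; simp
    | insert j S hj ih =>
      have hsup : P C0 (insert j S) = U j ⊔ P C0 S := by simp [P, Finset.sup_insert, sup_left_comm]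
      have := Submodule.finrank_sup_add_finrank_inf_eq (U j) (P C0 S)
      rw [(hdisj C0 hC0 S j hj).eq_bot, finrank_bot, hUdim, ih] at this
      rw [hsup, Finset.card_insert_of_notMem hj, Nat.add_mul]
      omega
  have htop : P C Finset.univ = ⊤ := by
    rw [eq_top_iff, ← hdec.submodule_iSup_eq_top]
    refine iSup_le fun o => ?_
    rcases o with _ | j
    · exact le_sup_left
    · exact le_sup_of_le_right (Finset.le_sup (f := U) (Finset.mem_univ j))
  have htot := hPrank C le_rfl Finset.univ
  rw [htop, finrank_top, Finset.card_univ, Fintype.card_fin] at htot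
  constructor
  · rintro ⟨W, hWm, hWinv⟩
    have key : ∀ S : Finset (Fin s), ∃ k : ℕ,
        Module.finrank F ↥(W ⊓ P C S) = Module.finrank F ↥(W ⊓ C) + k * a := by
      intro S
      induction S using Finset.induction_on with
      | empty =>
        have h0 : P C ∅ = C := by simp [P]
        exact ⟨0, by rw [h0]; simp⟩
      | insert j S hj ih =>
        obtain ⟨k, hk⟩ := ih
        have hsup : P C (insert j S) = U j ⊔ P C S := by simp [P, Finset.sup_insert, sup_left_comm]
        have hle : P C S ≤ P C (insert j S) := hsup ▸ le_sup_right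
        set X := (W ⊓ P C (insert j S)) ⊔ P C S with hX
        have hXle : X ≤ U j ⊔ P C S := sup_le (inf_le_right.trans hsup.le) le_sup_right
        have hXinv : X.map f ≤ X := by
          rw [hX, Submodule.map_sup]
          exact sup_le_sup ((Submodule.map_inf_le _).trans
            (inf_le_inf hWinv (hPinv C le_rfl _))) (hPinv C le_rfl _)
        have hmod : (U j ⊓ X) ⊔ P C S = X := by
          have h := sup_inf_assoc_of_le (U j) (le_sup_right : P C S ≤ X)
          -- h : (P C S ⊔ U j) ⊓ X = P C S ⊔ U j ⊓ X
          rw [sup_comm, ← h, sup_comm, inf_eq_right.2 hXle]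
        have e1 := Submodule.finrank_sup_add_finrank_inf_eq (W ⊓ P C (insert j S)) (P C S)
        rw [← hX, inf_assoc, inf_eq_right.2 hle] at e1
        rcases hUirr j (U j ⊓ X) inf_le_left
            ((Submodule.map_inf_le _).trans (inf_le_inf (hUinv j) hXinv)) with hb | hb
        · rw [hb, bot_sup_eq] at hmod
          rw [← hmod, hk] at e1
          exact ⟨k, by omega⟩
        · rw [hb, ← hsup] at hmod
          rw [← hmod, hk, hPrank C le_rfl, hPrank C le_rfl, Finset.card_insert_of_notMem hj,
            Nat.add_mul] at e1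
          exact ⟨k + 1, by rw [Nat.add_mul]; omega⟩
    obtain ⟨k, hk⟩ := key Finset.univ
    rw [htop, inf_top_eq, hWm] at hk
    have hle : Module.finrank F ↥(W ⊓ C) ≤ Module.finrank F C := Submodule.finrank_mono inf_le_right
    rcases Nat.eq_zero_or_pos k with rfl | hk0
    · left; omega
    · right
      have h1 : 1 * a ≤ k * a := Nat.mul_le_mul_right a hk0
      refine ⟨by omega, ?_⟩
      rw [hk, Nat.add_mul_mod_self_right]
      exact (Nat.mod_le _ _).trans hle
  · intro h
    obtain ⟨i, j, hi, hj, hij⟩ : ∃ i j, i ≤ Module.finrank F C ∧ j ≤ s ∧ i + j * a = m := by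
      by_cases hme : m ≤ Module.finrank F C
      · exact ⟨m, 0, hme, Nat.zero_le _, by simp⟩
      obtain ⟨-, hmod⟩ := h.resolve_left hme
      set e := Module.finrank F C with he
      set k := (e - m % a) / a with hk
      have h1 : a * k ≤ e - m % a := Nat.mul_div_le _ _
      have h2 : e - m % a < a * (k + 1) := Nat.lt_mul_div_succ _ (by omega)
      have h3 : m % a + a * (m / a) = m := Nat.mod_add_div _ _
      have h4 : k ≤ m / a := Nat.le_of_mul_le_mul_left (by omega : a * k ≤ a * (m / a)) (by omega)
      have h5 : a * (m / a) < a * (k + 1 + s) := by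
        rw [Nat.mul_add a (k + 1) s, Nat.mul_comm a s]; omega
      have h6 : m / a < k + 1 + s := Nat.lt_of_mul_lt_mul_left h5
      refine ⟨m % a + a * k, m / a - k, by omega, by omega, ?_⟩
      rw [Nat.sub_mul, Nat.mul_comm (m / a) a, Nat.mul_comm k a]
      have := Nat.mul_le_mul_left a h4
      omega
    obtain ⟨S, -, hS⟩ := Finset.exists_subset_card_eq (s := (Finset.univ : Finset (Fin s))) (n := j) (by simpa using hj)
    let b := Module.finBasis F C
    let g : Fin i → V := fun l => (b (Fin.castLE hi l) : V)
    have hg : LinearIndependent F g :=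
      (b.linearIndependent.map' C.subtype (Submodule.ker_subtype C)).comp _ (Fin.castLE_injective hi)
    have hC0 : Submodule.span F (Set.range g) ≤ C := Submodule.span_le.2 (by rintro _ ⟨l, rfl⟩; exact (b _).2)
    refine ⟨P (Submodule.span F (Set.range g)) S, ?_, hPinv _ hC0 S⟩
    rw [hPrank _ hC0 S, finrank_span_eq_card hg, Fintype.card_fin, hS, hij]

end Cfsg.Agent.S5952
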