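import Cfsg.Statements.S5953
import Cfsg.Agent.Lib.PrimeFix.HermWitness

set_option autoImplicit false
open scoped MatrixGroups
open Cfsg

namespace Cfsg.Agent.S5953

open Module Polynomial CfsgLib.PrimeFix CfsgLib.PrimeFix.Herm

section

variable {F : Type*} [Field F] [Fintype F] {q n : ℕ}

/-- A scalar map leaves invariant a totally isotropic subspace of each dimension. -/
theorem exists_isotropic_scalar {p : ℕ} [Fact p.Prime] [CharP F p] (hF : Fintype.card F = q ^ 2) {m : ℕ}
    (hmn : 2 * m ≤ n) (T : Module.End F (Fin n → F)) {c : F} (hT : ∀ v, T v = c • v) :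
    ∃ W : Submodule F (Fin n → F), finrank F W = m ∧ Isotropic (hermB hF n) W ∧ Inv T W := by
  obtain ⟨U, -, hU, hdU⟩ := (exists_sub (p := p) hF (W := (⊤ : Submodule F (Fin n → F))) (nonDeg_top hF)).2 m
    (by rw [finrank_top, Module.finrank_fintype_fun_eq_card, Fintype.card_fin]; exact hmn)
  exact ⟨U, hdU, hU, fun w hw => by rw [hT]; exact U.smul_mem c hw⟩

/-- Combining an isotropic part of the fixed space with one of the fixed-point-free part. -/
theorem combine (hF : Fintype.card F = q ^ 2) {T : Module.End F (Fin n → F)}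
    {C D U U' : Submodule F (Fin n → F)} (hCD : ∀ u ∈ C, ∀ w ∈ D, hermB hF n u w = 0) (hinf : C ⊓ D = ⊥)
    (hUC : U ≤ C) (hU'D : U' ≤ D) (hU : Isotropic (hermB hF n) U) (hU' : Isotropic (hermB hF n) U')
    (hUi : Inv T U) (hU'i : Inv T U') {m : ℕ} (hm : finrank F U + finrank F U' = m) :
    ∃ W : Submodule F (Fin n → F), finrank F W = m ∧ Isotropic (hermB hF n) W ∧ Inv T W := by
  refine ⟨U ⊔ U', ?_, ?_, inv_sup hUi hU'i⟩
  · have h := Submodule.finrank_sup_add_finrank_inf_eq U U'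
    rw [eq_bot_iff.2 ((inf_le_inf hUC hU'D).trans hinf.le), finrank_bot, add_zero, hm] at h
    exact h
  · intro x hx y hy
    obtain ⟨a, ha, b, hb, rfl⟩ := Submodule.mem_sup.1 hx
    obtain ⟨a', ha', b', hb', rfl⟩ := Submodule.mem_sup.1 hy
    rw [map_add (hermB hF n), LinearMap.add_apply, map_add, map_add, hU a ha a' ha', hU' b hb b' hb',
      hCD a (hUC ha) b' (hU'D hb'), eq_zero_symm (hermB_symm hF) (hCD a' (hUC ha') b (hU'D hb))]
    simp

theorem inv_of_smul {T : Module.End F (Fin n → F)} {W : Submodule F (Fin n → F)} {a : F} (ha : a ≠ 0)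
    (hW : Inv (a • T) W) : Inv T W := fun w hw => by
  have h := W.smul_mem a⁻¹ (hW w hw)
  rwa [LinearMap.smul_apply, smul_smul, inv_mul_cancel₀ ha, one_smul] at h

theorem ne_zero_of_pow_succ {a : F} (ha : a ^ (q + 1) = 1) : a ≠ 0 := fun h => by
  rw [h, zero_pow (Nat.succ_ne_zero q)] at ha
  exact zero_ne_one ha

end

section Two

variable {F : Type*} [Field F] [Fintype F] {p : ℕ} [Fact p.Prime] [CharP F p] {q n : ℕ}

/-- The determinant of an involution. -/
theorem det_invol (h2 : (2 : F) ≠ 0) {T : Module.End F (Fin n → F)} (hT : T ^ 2 = 1) :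
    LinearMap.det T = (-1) ^ finrank F (fpfSp 2 T) := by
  haveI : Fact (Nat.Prime 2) := ⟨Nat.prime_two⟩
  have h2' : ((2 : ℕ) : F) ≠ 0 := by exact_mod_cast h2
  have hneg : ∀ v ∈ fpfSp 2 T, T v = -v := fun v hv => by
    have h0 : (∑ k ∈ Finset.range 2, T ^ k) v = 0 := hv
    simp [Finset.sum_range_succ] at h0
    exact eq_neg_of_add_eq_zero_right h0
  have hc : IsCompl (fixSp T) (fpfSp 2 T) := by
    refine ⟨disjoint_iff.2 (fix_inf_fpf h2'), codisjoint_iff.2 ?_⟩
    have h := inf_fix_sup_inf_fpf h2' hT (W := (⊤ : Submodule F (Fin n → F))) fun _ _ => trivial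
    rwa [top_inf_eq, top_inf_eq] at h
  let e := Submodule.prodEquivOfIsCompl _ _ hc
  let S : Module.End F (fixSp T × fpfSp 2 T) := LinearMap.prodMap LinearMap.id ((-1 : F) • LinearMap.id)
  have hTe : T = e.toLinearMap ∘ₗ S ∘ₗ e.symm.toLinearMap := LinearMap.ext fun v => by
    obtain ⟨⟨a, b⟩, rfl⟩ := e.surjective v
    simp [e, S, mem_fixSp.1 a.2, hneg b b.2]
  conv_lhs => rw [hTe]
  rw [LinearMap.det_conj, LinearMap.det_prodMap, LinearMap.det_id, one_mul, LinearMap.det_smul, LinearMap.det_id,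
    mul_one]

theorem pos_two (hF : Fintype.card F = q ^ 2) (hp2 : p ≠ 2) {m : ℕ} (hmn : 2 * m ≤ n) (hn : 0 < n)
    (hcond : 2 * m < n ∨ padicValNat 2 (q + 1) ≤ padicValNat 2 n) {T : Module.End F (Fin n → F)}
    (hT : ∀ u w, hermB hF n (T u) (T w) = hermB hF n u w) (hdet : LinearMap.det T = 1) {z : F}
    (hz : T ^ 2 = z • 1) :
    ∃ W : Submodule F (Fin n → F), finrank F W = m ∧ Isotropic (hermB hF n) W ∧ Inv T W := by
  haveI : Fact (Nat.Prime 2) := ⟨Nat.prime_two⟩
  have hchar : ringChar F ≠ 2 := by rw [ringChar.eq F p]; exact hp2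
  have h2 : (2 : F) ≠ 0 := Ring.two_ne_zero hchar
  have hfr : finrank F (Fin n → F) = n := by rw [Module.finrank_fintype_fun_eq_card, Fintype.card_fin]
  have hz1 := scalar_norm_one hF hn hT hz
  have hz0 : z ≠ 0 := ne_zero_of_pow_succ hz1
  have hqodd : Odd q := by
    have h := FiniteField.odd_card_of_char_ne_two hchar
    rw [hF] at h
    rcases Nat.even_or_odd q with he | ho
    · exact absurd (Nat.even_iff.1 (he.pow_of_ne_zero two_ne_zero)) (by omega)
    · exact ho
  obtain ⟨w, hw⟩ : ∃ w, w * w = z := by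
    obtain ⟨w, hw⟩ : IsSquare z := by
      rw [FiniteField.isSquare_iff hchar hz0]
      obtain ⟨t, ht⟩ := hqodd
      have : Fintype.card F / 2 = (q + 1) * t := by
        rw [hF, ht]
        rw [show (2 * t + 1) ^ 2 = 1 + 2 * ((2 * t + 1 + 1) * t) by ring, Nat.add_mul_div_left _ _ two_pos]
        omega
      rw [this, pow_mul, hz1, one_pow]
    exact ⟨w, hw.symm⟩
  have hw0 : w ≠ 0 := fun h => hz0 (by rw [← hw, h, zero_mul])
  have hww : w ^ (q + 1) * w ^ (q + 1) = 1 := by rw [← mul_pow, hw, hz1]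
  rcases mul_self_eq_one_iff.1 hww with hw1 | hw1
  · -- eigenspaces of an involution
    set S := w⁻¹ • T with hSdef
    have hwi : (w⁻¹) ^ (q + 1) = 1 := by rw [inv_pow, hw1, inv_one]
    have hS : ∀ u v, hermB hF n (S u) (S v) = hermB hF n u v := isometry_smul hF hT hwi
    have hS2 : S ^ 2 = 1 := by
      rw [hSdef, _root_.smul_pow, hz, smul_smul, ← hw,
        show w⁻¹ ^ 2 * (w * w) = 1 by field_simp, one_smul]
    have h2' : ((2 : ℕ) : F) ≠ 0 := by exact_mod_cast h2
    obtain ⟨hC, hD⟩ := nonDeg_parts h2' hS2 hS (hermB_symm hF) (W := ⊤) (fun _ _ => trivial) (nonDeg_top hF)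
    rw [top_inf_eq] at hC hD
    have hsum := finrank_fix_add_fpf h2' hS2
    rw [hfr] at hsum
    have hkey : 2 * m + 2 ≤ n + 1 ∨ Even (finrank F (fpfSp 2 S)) := by
      by_contra hcon
      push Not at hcon
      obtain ⟨hlt, hodd⟩ := hcon
      have hv := hcond.resolve_left (by omega)
      have hdS : LinearMap.det S = (w⁻¹) ^ n := by rw [hSdef, LinearMap.det_smul, hfr, hdet, mul_one]
      rw [det_invol h2 hS2, (Nat.not_even_iff_odd.1 hodd).neg_one_pow, inv_pow] at hdS
      have hwn : w ^ n = -1 := by rw [← inv_inv (w ^ n), ← hdS]; norm_num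
      obtain ⟨u, hu⟩ : 2 ^ padicValNat 2 (q + 1) ∣ q + 1 := pow_padicValNat_dvd
      have huodd : Odd u := by
        rcases Nat.even_or_odd u with he | ho
        · exfalso
          obtain ⟨u', rfl⟩ := he
          have h' : 2 ^ (padicValNat 2 (q + 1) + 1) ∣ q + 1 := ⟨u', by rw [pow_succ]; linarith⟩
          rw [padicValNat_dvd_iff_le (show q + 1 ≠ 0 by omega)] at h'
          omega
        · exact ho
      obtain ⟨e, he⟩ : 2 ^ padicValNat 2 (q + 1) ∣ n := (padicValNat_dvd_iff_le (by omega)).2 hv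
      have h1 : (w ^ n) ^ u = 1 := by
        rw [he, ← pow_mul, show 2 ^ padicValNat 2 (q + 1) * e * u = (q + 1) * e by rw [mul_right_comm, ← hu], pow_mul, hw1,
          one_pow]
      rw [hwn, huodd.neg_one_pow] at h1
      exact h2 (by linear_combination -h1)
    have hsplit : ∃ t t', t + t' = m ∧ 2 * t ≤ finrank F (fixSp S) ∧ 2 * t' ≤ finrank F (fpfSp 2 S) := by
      refine ⟨min (finrank F (fixSp S) / 2) m, m - min (finrank F (fixSp S) / 2) m, by omega, by omega, ?_⟩
      rcases hkey with h | ⟨e, he⟩ <;> omega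
    obtain ⟨t, t', htm, ht, ht'⟩ := hsplit
    obtain ⟨U, hUC, hU, hdU⟩ := (exists_sub (p := p) hF hC).2 t ht
    obtain ⟨U', hU'D, hU', hdU'⟩ := (exists_sub (p := p) hF hD).2 t' ht'
    have hneg : ∀ v ∈ fpfSp 2 S, S v = -v := fun v hv => by
      have h0 : (∑ k ∈ Finset.range 2, S ^ k) v = 0 := hv
      simp [Finset.sum_range_succ] at h0
      exact eq_neg_of_add_eq_zero_right h0
    obtain ⟨W, h1, h2W, h3⟩ := combine hF (T := S) (fun u hu v hv => fix_orth_fpf h2' hS hu hv)
      (fix_inf_fpf h2') hUC hU'D hU hU' (fun v hv => by rw [mem_fixSp.1 (hUC hv)]; exact hv)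
      (fun v hv => by rw [hneg v (hU'D hv)]; exact U'.neg_mem hv) (m := m) (by omega)
    exact ⟨W, h1, h2W, inv_of_smul (inv_ne_zero hw0) h3⟩
  · -- two totally isotropic eigenspaces
    set P := LinearMap.ker (T - w • 1)
    set M := LinearMap.ker (T + w • 1)
    have hP : ∀ u ∈ P, T u = w • u := fun u hu => sub_eq_zero.1 hu
    have hM : ∀ u ∈ M, T u = (-w) • u := fun u hu => by rw [neg_smul]; exact eq_neg_of_add_eq_zero_left hu
    have hiso : ∀ (s : F), s ^ (q + 1) = -1 → ∀ (S : Submodule F (Fin n → F)), (∀ u ∈ S, T u = s • u) →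
        Isotropic (hermB hF n) S := fun s hs S hS u hu v hv => by
      have h := hT u v
      rw [hS u hu, hS v hv, map_smulₛₗ (hermB hF n), LinearMap.smul_apply, map_smul, smul_eq_mul, smul_eq_mul, CfsgLib.Classical.Herm.qPow_apply,
        ← mul_assoc, ← pow_succ, hs] at h
      exact (mul_eq_zero.1 (show (2 : F) * hermB hF n u v = 0 by linear_combination -h)).resolve_left h2
    have hPi := hiso w hw1 P hP
    have hMi := hiso (-w) (by rw [(hqodd.add_one).neg_pow, hw1]) M hM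
    have hTT : ∀ v, T (T v) = (w * w) • v := fun v => by
      rw [hw, ← Module.End.mul_apply, ← sq, hz]; rfl
    have hd1 : n ≤ finrank F P + finrank F M := by
      refine le_trans hfr.ge ?_
      rw [← finrank_top F (Fin n → F)]
      refine le_trans (Submodule.finrank_mono (t := P ⊔ M) fun v _ => ?_)
        (Submodule.finrank_add_le_finrank_add_finrank P M)
      have hv : v = (2 * w)⁻¹ • (w • v + T v) + (2 * w)⁻¹ • (w • v - T v) := by
        rw [← smul_add, add_add_sub_cancel, ← two_smul F, smul_smul, smul_smul, mul_assoc, inv_mul_cancel₀ (mul_ne_zero h2 hw0),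
          one_smul]
      rw [hv]
      refine Submodule.add_mem_sup (P.smul_mem _ ?_) (M.smul_mem _ ?_)
      · show T (w • v + T v) - w • (w • v + T v) = 0
        rw [map_add, map_smul, hTT]; module
      · show T (w • v - T v) + w • (w • v - T v) = 0
        rw [map_sub, map_smul, hTT]; module
    have h3 := two_mul_finrank_le (hermB_nondeg hF) hMi
    rw [hfr] at h3
    obtain ⟨U, hUP, hdU⟩ : ∃ U : Submodule F (Fin n → F), U ≤ P ∧ finrank F U = m := by
      obtain ⟨t, ht⟩ := exists_linearIndependent_of_le_finrank (R := F) (M := P) (show m ≤ finrank F P by omega)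
      exact ⟨(Submodule.span F (Set.range t)).map P.subtype, Submodule.map_subtype_le _ _,
        by rw [Submodule.finrank_map_subtype_eq, finrank_span_eq_card ht, Fintype.card_fin]⟩
    exact ⟨U, hdU, fun u hu v hv => hPi u (hUP hu) v (hUP hv),
      fun v hv => by rw [hP v (hUP hv)]; exact U.smul_mem w hv⟩

/-- An element of order two fixing no totally isotropic subspace of half dimension. -/
theorem neg_two (hF : Fintype.card F = q ^ 2) (hp2 : p ≠ 2) {m : ℕ} (hm : 1 ≤ m) (hnm : n = 2 * m)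
    (hv : padicValNat 2 n < padicValNat 2 (q + 1)) :
    ∃ (T : Module.End F (Fin n → F)) (z : F), (∀ u w, hermB hF n (T u) (T w) = hermB hF n u w) ∧
      LinearMap.det T = 1 ∧ T ^ 2 = z • 1 ∧
      ∀ W : Submodule F (Fin n → F), Inv T W → Isotropic (hermB hF n) W → finrank F W ≠ m := by
  haveI : Fact (Nat.Prime 2) := ⟨Nat.prime_two⟩
  have hchar : ringChar F ≠ 2 := by rw [ringChar.eq F p]; exact hp2
  have h2 : (2 : F) ≠ 0 := Ring.two_ne_zero hchar
  have h2' : ((2 : ℕ) : F) ≠ 0 := by exact_mod_cast h2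
  set v := padicValNat 2 n with hvdef
  obtain ⟨n', hn'⟩ : 2 ^ v ∣ n := pow_padicValNat_dvd
  have hn'odd : Odd n' := by
    rcases Nat.even_or_odd n' with he | ho
    · exfalso
      obtain ⟨u, rfl⟩ := he
      have h' : 2 ^ (v + 1) ∣ n := ⟨u, by rw [pow_succ]; linarith⟩
      rw [padicValNat_dvd_iff_le (by omega)] at h'
      omega
    · exact ho
  have hdvd : 2 ^ (v + 1) ∣ q + 1 := (padicValNat_dvd_iff_le (show q + 1 ≠ 0 by omega)).2 hv
  obtain ⟨g, hg⟩ := IsCyclic.exists_ofOrder_eq_natCard (α := Fˣ)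
  obtain ⟨t, ht⟩ : 2 ^ (v + 1) ∣ orderOf g := by
    rw [hg, CfsgLib.Classical.Herm.natCard_units_sq hF]; exact dvd_mul_of_dvd_right hdvd _
  have ht0 : t ≠ 0 := fun h => (orderOf_pos g).ne' (by rw [ht, h, mul_zero])
  have hou : orderOf (g ^ t) = 2 ^ (v + 1) := by
    rw [orderOf_pow' g ht0, ht, Nat.gcd_eq_right ⟨2 ^ (v + 1), by ring⟩, Nat.mul_div_cancel _ (Nat.pos_of_ne_zero ht0)]
  set w : F := ((g ^ t : Fˣ) : F)
  have how : orderOf w = 2 ^ (v + 1) := by rw [orderOf_units]; exact hou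
  have hw1 : w ^ (q + 1) = 1 := orderOf_dvd_iff_pow_eq_one.1 (how ▸ hdvd)
  have hwn : w ^ n = -1 := by
    have h1 : w ^ (2 ^ v) * w ^ (2 ^ v) = 1 := by
      rw [← pow_add, ← two_mul, ← pow_succ', ← how, pow_orderOf_eq_one]
    have h3 : w ^ (2 ^ v) = -1 := (mul_self_eq_one_iff.1 h1).resolve_left fun h => by
      have h4 := orderOf_dvd_of_pow_eq_one h
      rw [how, Nat.pow_dvd_pow_iff_le_right one_lt_two] at h4
      omega
    rw [hn', pow_mul, h3, hn'odd.neg_one_pow]
  obtain ⟨E, S, hE, hSE, hS, hdS⟩ := exists_model hF (n := n) (k₀ := n - 1) (a := 1) (h := 1) (by omega)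
    (fun _ => (-1 : Module.End F (Fin 1 → F))) (fun _ u x => by simp only [LinearMap.neg_apply, Module.End.one_apply, map_neg, neg_neg])
  have hy2 : (-1 : Module.End F (Fin 1 → F)) ^ 2 = 1 := LinearMap.ext fun u => by simp [sq]
  have hy1 : (-1 : Module.End F (Fin 1 → F)) ≠ 1 := fun h => by
    have h' := congrFun (LinearMap.congr_fun h (Pi.single 0 1)) 0
    simp at h'
    exact h2 (by linear_combination -h')
  have hfree : Fpf (-1 : Module.End F (Fin 1 → F)) ⊤ := fun u _ hu => by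
    have h'' : -u = u := hu
    have h' : (2 : F) • u = 0 := by rw [two_smul]; exact add_eq_zero_iff_eq_neg.2 h''.symm
    exact (smul_eq_zero.1 h').resolve_left h2
  have hS2 : S ^ 2 = 1 := model_pow_eq_one hSE fun _ => hy2
  refine ⟨w • S, w * w, isometry_smul hF hS hw1, ?_, ?_, fun W hW hiso hd => ?_⟩
  · rw [LinearMap.det_smul, hdS, Module.finrank_fintype_fun_eq_card, Fintype.card_fin, Fin.prod_univ_one, hwn]
    rw [show (-1 : Module.End F (Fin 1 → F)) = (-1 : F) • 1 from (neg_one_smul F _).symm, LinearMap.det_smul, map_one,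
      Module.finrank_fintype_fun_eq_card, Fintype.card_fin]
    ring
  · rw [_root_.smul_pow, hS2, sq]
  · have hw0 : w ≠ 0 := Units.ne_zero _
    have hWi : Inv S W := inv_of_smul hw0 hW
    have hord : orderOf (Fintype.card F : ZMod 2) = 1 := by
      rw [orderOf_eq_one_iff]
      have := FiniteField.odd_card_of_char_ne_two hchar
      rw [← ZMod.natCast_mod, this, Nat.cast_one]
    obtain ⟨j, hj, hjle⟩ := isotropic_fpf_le (r := 2) h2' hord hE hy2 hy1 (fun _ : Fin 1 => ()) (fun _ => 1)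
      (fun _ => by rw [Nat.cast_one]; exact one_ne_zero) (fun _ _ _ _ => rfl)
      (fun p => by simpa using hSE p) hS2 (inv_inf hWi inv_fpfSp) (inf_le_right)
      (fun u hu x hx => hiso u hu.1 x hx.1)
    simp at hjle
    subst hjle
    have h1 := finrank_split h2' hS2 hWi
    have h3 := (finrank_inf_fix_le hSE (fun _ => hfree) hE W).2 hiso
    rw [hj, hd] at h1
    omega

end Two

section Odd

variable {F : Type*} [Field F] [Fintype F] {p : ℕ} [Fact p.Prime] [CharP F p] {q n : ℕ}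
  {r : ℕ} [hr : Fact r.Prime]

/-- Isotropic subspaces for an element of order `r`. -/
theorem pos_one (hF : Fintype.card F = q ^ 2) (hrp : r ≠ p) (hr2 : r ≠ 2) {T : Module.End F (Fin n → F)}
    (hT : ∀ u w, hermB hF n (T u) (T w) = hermB hF n u w) (hTr : T ^ r = 1) {m b c : ℕ}
    (hb : b = orderOf (Fintype.card F : ZMod r)) (hc : c = orderOf (-(q : ZMod r))) (hmn : 2 * m ≤ n)
    (hk : 2 * (m % b) ≤ n % c) (hcase : Odd c → (r - 1) / b + 2 * (m / b) ≤ n / b) :
    ∃ W : Submodule F (Fin n → F), finrank F W = m ∧ Isotropic (hermB hF n) W ∧ Inv T W := by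
  have hrF : (r : F) ≠ 0 := CfsgLib.LinFix.natCast_ne_zero_of_ne hrp
  have hbpos : 0 < b := hb ▸ ord_pos hrF
  have hof := ord_facts hr2 (natCast_q_ne_zero (p := p) hF hrp)
  rw [← hc, ← card_cast hF, ← hb] at hof
  obtain ⟨hC, hD⟩ := nonDeg_parts hrF hTr hT (hermB_symm hF) (W := ⊤) (fun _ _ => trivial) (nonDeg_top hF)
  rw [top_inf_eq] at hC hD
  have hsum := finrank_fix_add_fpf hrF hTr
  rw [Module.finrank_fintype_fun_eq_card, Fintype.card_fin] at hsum
  obtain ⟨a, ha⟩ := ord_dvd_finrank hTr inv_fpfSp (fpf_fpfSp hrF)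
  rw [← hb, mul_comm] at ha
  have hcdvd := dvd_finrank_fpf hF hrp hr2 hT hTr inv_fpfSp (fpf_fpfSp hrF) hD
  rw [← hc, ha] at hcdvd
  set e := finrank F (fixSp T) with he
  rw [ha] at hsum
  have hkd := Nat.mod_add_div m b
  obtain ⟨j, hj, hjm, hje⟩ : ∃ j, (j = 0 ∨ 2 * j + (if Odd c then (r - 1) / b else 0) ≤ a + 1) ∧ j * b ≤ m ∧
      2 * (m - j * b) ≤ e := by
    rcases Nat.even_or_odd c with hce | hco
    · rw [if_neg (Nat.not_odd_iff_even.2 hce)]
      have hc2 := (hof.2 hce).1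
      obtain ⟨u, hu⟩ := hcdvd
      have hau : a = 2 * u := Nat.eq_of_mul_eq_mul_right hbpos (by rw [hu, hc2]; ring)
      have hne : n % c ≤ e := by
        rw [← hsum, hu, Nat.add_mul_mod_self_left]; exact Nat.mod_le _ _
      refine ⟨min u (m / b), Or.inr (by omega), (Nat.mul_le_mul_right b (min_le_right _ _)).trans (Nat.div_mul_le_self m b), ?_⟩
      rcases le_total u (m / b) with h | h
      · rw [min_eq_left h]
        rw [hau, mul_assoc] at hsum
        omega
      · rw [min_eq_right h, mul_comm (m / b) b]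
        omega
    · rw [if_pos hco]
      have hcb := (hof.1 hco).1
      have hne : n % b ≤ e := by
        rw [← hsum, Nat.add_mul_mod_self_right]; exact Nat.mod_le _ _
      have hcase' := hcase hco
      set s := (r - 1) / b
      rw [← hcb] at hk
      have hN := Nat.mod_add_div n b
      have haN : a ≤ n / b := (Nat.le_div_iff_mul_le hbpos).2 (by omega)
      rcases Nat.lt_or_ge (a + 1) (2 * (m / b) + s) with h | h
      · refine ⟨(a + 1 - s) / 2, by omega, ?_, ?_⟩
        · exact (Nat.mul_le_mul_right b (show (a + 1 - s) / 2 ≤ m / b by omega)).trans (Nat.div_mul_le_self m b)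
        · set j := (a + 1 - s) / 2
          have h1 : 2 * (m / b) + a ≤ n / b + 2 * j := by omega
          have h2 : (2 * (m / b) + a) * b ≤ (n / b + 2 * j) * b := Nat.mul_le_mul_right b h1
          rw [add_mul, add_mul, mul_assoc, mul_assoc, mul_comm (m / b) b, mul_comm (n / b) b] at h2
          omega
      · refine ⟨m / b, Or.inr h, Nat.div_mul_le_self m b, ?_⟩
        rw [mul_comm (m / b) b]
        omega
  have hI := hasIso_fpf hF hrp hr2 hT hTr (inv_fpfSp (r := r)) (fpf_fpfSp hrF)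
  rw [← hc, ← hb] at hI
  obtain ⟨U', hU'D, hU'i, hU', hdU'⟩ := hI.exists_isotropic (k := r) hrF hTr hT (hermB_symm hF) hbpos
    (inv_fpfSp (r := r)) ha j hj
  obtain ⟨U, hUC, hU, hdU⟩ := (exists_sub (p := p) hF hC).2 (m - j * b) hje
  exact combine hF (fun u hu v hv => fix_orth_fpf hrF hT hu hv) (fix_inf_fpf hrF) hUC hU'D hU hU'
    (fun v hv => by rw [mem_fixSp.1 (hUC hv)]; exact hv) hU'i (by rw [hdU, hdU']; omega)

/-- Isotropic subspaces for an element of odd prime order. -/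
theorem pos_odd (hF : Fintype.card F = q ^ 2) (hrp : r ≠ p) (hr2 : r ≠ 2) {T : Module.End F (Fin n → F)}
    (hT : ∀ u w, hermB hF n (T u) (T w) = hermB hF n u w) (hdet : LinearMap.det T = 1) {z : F}
    (hz : T ^ r = z • 1) {m b c : ℕ} (hb : b = orderOf (Fintype.card F : ZMod r))
    (hc : c = orderOf (-(q : ZMod r))) (hn : 0 < n) (hmn : 2 * m ≤ n)
    (hk : 2 * (m % b) ≤ n % c) (hcase : Odd c → (r - 1) / b + 2 * (m / b) ≤ n / b)
    (hone : c = 1 → r ∣ m ∨ padicValNat r n ≤ padicValNat r (q + 1)) :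
    ∃ W : Submodule F (Fin n → F), finrank F W = m ∧ Isotropic (hermB hF n) W ∧ Inv T W := by
  have hz1 := scalar_norm_one hF hn hT hz
  by_cases hroot : ∃ w : F, w ^ (q + 1) = 1 ∧ w ^ r = z
  · obtain ⟨w, hw, hwr⟩ := hroot
    have hw0 : w ≠ 0 := ne_zero_of_pow_succ hw
    obtain ⟨W, h1, h2, h3⟩ := pos_one hF hrp hr2 (T := w⁻¹ • T)
      (isometry_smul hF hT (by rw [inv_pow, hw, inv_one]))
      (by rw [_root_.smul_pow, hz, smul_smul, inv_pow, ← hwr, inv_mul_cancel₀ (pow_ne_zero _ hw0), one_smul])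
      hb hc hmn hk hcase
    exact ⟨W, h1, h2, inv_of_smul (inv_ne_zero hw0) h3⟩
  · have hrq : r ∣ q + 1 := by
      by_contra h
      exact hroot (exists_root_norm_one h hz1)
    have hnp : ∀ w : F, w ^ r ≠ z := fun w hw => hroot ⟨w, norm_one_of_root hF hr2 hrq (by rw [hw]; exact hz1), hw⟩
    have hc1 : c = 1 := hc.trans (dvd_succ_iff.1 hrq)
    obtain ⟨hrn, hv⟩ := padicValNat_lt_of_nonpower hF hr2 hrq hn.ne' hnp hz hdet
    obtain ⟨j, rfl⟩ := (hone hc1).resolve_right hv
    have hneg : (-(q : ZMod r)) = 1 := orderOf_eq_one_iff.1 (dvd_succ_iff.1 hrq)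
    obtain ⟨-, hI, k, hTk, hk0⟩ := nonpower_data (p := p) hF hr2 hneg hT hz hz1 hnp
    obtain ⟨a, ha⟩ := hrn
    obtain ⟨W, -, hWi, hW, hdW⟩ := hI.exists_isotropic (k := k) hk0 hTk hT (hermB_symm hF) hr.out.pos
      (W₀ := ⊤) (fun _ _ => trivial) (a := a)
      (by rw [finrank_top, Module.finrank_fintype_fun_eq_card, Fintype.card_fin, ha, mul_comm]) j
      (Or.inr (by
        have : r * (2 * j) ≤ r * a := by rw [← ha]; linarith
        have := Nat.le_of_mul_le_mul_left this hr.out.pos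
        omega))
    exact ⟨W, by rw [hdW, mul_comm], hW, hWi⟩

include p in
/-- The witness when a scalar without root is available. -/
theorem neg_nonpower (hF : Fintype.card F = q ^ 2) (hr2 : r ≠ 2) (hrq : r ∣ q + 1) (hn : 0 < n) {m : ℕ}
    (hrm : ¬ r ∣ m) (hv : ¬ padicValNat r n ≤ padicValNat r (q + 1)) :
    ∃ (T : Module.End F (Fin n → F)) (z : F), (∀ u w, hermB hF n (T u) (T w) = hermB hF n u w) ∧
      LinearMap.det T = 1 ∧ T ^ r = z • 1 ∧
      ∀ W : Submodule F (Fin n → F), Inv T W → Isotropic (hermB hF n) W → finrank F W ≠ m := by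
  obtain ⟨hrn, z, hz, hz1, hzn⟩ := exists_nonpower_norm_one hF hr2 hrq hn.ne' hv
  obtain ⟨y, hy, hyr⟩ := exists_cycle_block (r := r) hF hz1
  obtain ⟨E, T, -, hTE, hT, -⟩ := exists_model hF (n := n) (k₀ := 0) (a := n / r) (h := r)
    (by rw [zero_add, Nat.div_mul_cancel hrn]) (fun _ => y) (fun _ => hy)
  have hTr : T ^ r = z • 1 := LinearMap.ext fun v => by
    obtain ⟨p, rfl⟩ := E.surjective v
    rw [model_pow_apply hTE, LinearMap.smul_apply, Module.End.one_apply, ← map_smul]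
    congr 1
    exact Prod.ext (Subsingleton.elim _ _) (funext fun l => by rw [hyr]; rfl)
  have hM : LinearMap.toMatrix' T ^ r = z • 1 := by
    refine Matrix.toLin'.injective ?_
    rw [Matrix.toLin'_pow, Matrix.toLin'_toMatrix', hTr, map_smul, Matrix.toLin'_one]
    rfl
  have hdet : LinearMap.det T = 1 := by
    rw [← LinearMap.det_toMatrix', (CfsgLib.LinFix.det_of_pow_eq_nonpower hz hM).2,
      ((hr.out.odd_of_ne_two hr2).add_one).neg_one_pow, one_mul, hzn]
  have hneg : (-(q : ZMod r)) = 1 := orderOf_eq_one_iff.1 (dvd_succ_iff.1 hrq)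
  obtain ⟨-, -, k, hTk, hk0⟩ := nonpower_data (p := p) hF hr2 hneg hT hTr hz1 hz
  have hG : Kinds T ⊤ r {X ^ r - C z} := by
    refine ⟨fun g hg => ?_, fun g hg => ?_, fun g hg => ?_, fun w _ => ?_⟩
    · rw [Finset.mem_singleton] at hg; subst hg; exact monic_X_pow_sub_C _ hr.out.ne_zero
    · rw [Finset.mem_singleton] at hg; subst hg; exact X_pow_sub_C_irreducible_of_prime hr.out hz
    · rw [Finset.mem_singleton] at hg; subst hg; exact natDegree_X_pow_sub_C
    · simp [hTr]
  refine ⟨T, z, hT, hdet, hTr, fun W hW _ hd => hrm ?_⟩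
  rw [← hd]
  exact (hG.atoms).dvd_finrank hk0 hTk hr.out.pos W le_top hW

/-- The witness with pairwise different eigenvalues, `r ∣ q + 1`. -/
theorem neg_diag (hF : Fintype.card F = q ^ 2) (hrp : r ≠ p) (hr2 : r ≠ 2) (hc : orderOf (-(q : ZMod r)) = 1)
    {m : ℕ} (hm : 1 ≤ m) (hmn : 2 * m ≤ n) (hsmall : n < r - 1 + 2 * m) :
    ∃ T : Module.End F (Fin n → F), (∀ u w, hermB hF n (T u) (T w) = hermB hF n u w) ∧
      LinearMap.det T = 1 ∧ T ^ r = 1 ∧
      ∀ W : Submodule F (Fin n → F), Inv T W → Isotropic (hermB hF n) W → finrank F W ≠ m := by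
  classical
  have hrF : (r : F) ≠ 0 := CfsgLib.LinFix.natCast_ne_zero_of_ne hrp
  have hof := (ord_facts hr2 (natCast_q_ne_zero (p := p) hF hrp)).1 (by rw [hc]; exact odd_one)
  have hb : orderOf (Fintype.card F : ZMod r) = 1 := by rw [card_cast hF, hof.1, hc]
  obtain ⟨y, hy, hyr, hy1, hyf⟩ := exists_block (p := p) hF hrp hr2 hc.symm
  obtain ⟨u, hu, hu1, hu2, hur⟩ : ∃ u, u + u ≤ n ∧ 1 ≤ u ∧ n - (u + u) < 2 * m ∧ 2 * u < r := by
    obtain ⟨t, ht⟩ := hr.out.odd_of_ne_two hr2
    rcases Nat.even_or_odd n with ⟨e, he⟩ | ⟨e, he⟩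
    · exact ⟨e - m + 1, by omega, by omega, by omega, by omega⟩
    · exact ⟨e - m + 1, by omega, by omega, by omega, by omega⟩
  let K : Fin (u + u) → ℕ := Fin.append (fun i : Fin u => (i : ℕ) + 1) (fun i : Fin u => r - ((i : ℕ) + 1))
  have hKlt : ∀ l, 0 < K l ∧ K l < r := fun l => by
    induction l using Fin.addCases with
    | left i => simp only [K, Fin.append_left]; omega
    | right i => simp only [K, Fin.append_right]; omega
  have hKinj : ∀ l l', K l = K l' → l = l' := fun l l' => by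
    induction l using Fin.addCases with
    | left i =>
      induction l' using Fin.addCases with
      | left i' => simp only [K, Fin.append_left]; intro h; rw [Fin.ext (show (i : ℕ) = i' by omega)]
      | right i' => simp only [K, Fin.append_left, Fin.append_right]; intro h; omega
    | right i =>
      induction l' using Fin.addCases with
      | left i' => simp only [K, Fin.append_left, Fin.append_right]; intro h; omega
      | right i' => simp only [K, Fin.append_right]; intro h; rw [Fin.ext (show (i : ℕ) = i' by omega)]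
  have hK0 : ∀ l, (K l : ZMod r) ≠ 0 := fun l h => by
    have h' := Nat.le_of_dvd (hKlt l).1 ((ZMod.natCast_eq_zero_iff _ _).1 h)
    have := (hKlt l).2
    omega
  obtain ⟨E, T, hE, hTE, hT, hdT⟩ := exists_model hF (n := n) (k₀ := n - (u + u)) (a := u + u) (h := 1)
    (by omega) (fun l => y ^ K l) (fun l => isometry_pow hF hy (K l))
  have hyr' : ∀ l, (y ^ K l) ^ r = 1 := fun l => by rw [← pow_mul, mul_comm, pow_mul, hyr, one_pow]
  have hTr : T ^ r = 1 := model_pow_eq_one hTE hyr'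
  have hfree : ∀ l, Fpf (y ^ K l) ⊤ := fun l => fpf_of_finrank_eq hrF (hyr' l) (fun h => hK0 l (by
    have h1 : orderOf y = r := orderOf_eq_prime hyr hy1
    rw [ZMod.natCast_eq_zero_iff, ← h1]
    exact orderOf_dvd_of_pow_eq_one h)) (by rw [Module.finrank_fintype_fun_eq_card, Fintype.card_fin, hb])
  refine ⟨T, hT, ?_, hTr, fun W hW hiso hd => ?_⟩
  · rw [hdT, Fin.prod_univ_add, ← Finset.prod_mul_distrib]
    refine Finset.prod_eq_one fun i _ => ?_
    simp only [K, Fin.append_left, Fin.append_right, map_pow]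
    rw [← pow_add, show (i : ℕ) + 1 + (r - ((i : ℕ) + 1)) = r by omega, ← map_pow, hyr, map_one]
  · obtain ⟨j, hj, hjle⟩ := isotropic_fpf_le (r := r) hrF hb hE hyr hy1 id K hK0
      (fun A A' l h => hKinj A A' (by
        have h1 : (Fintype.card F : ZMod r) = 1 := orderOf_eq_one_iff.1 hb
        rw [h1, one_pow, mul_one, ZMod.natCast_eq_natCast_iff', Nat.mod_eq_of_lt (hKlt A).2,
          Nat.mod_eq_of_lt (hKlt A').2] at h
        exact h))
      hTE hTr (inv_inf hW inv_fpfSp) inf_le_right (fun a ha b hb => hiso a ha.1 b hb.1)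
    have h0 : (∑ A : Fin (u + u), Fintype.card {l // id l = A} / 2) = 0 :=
      Finset.sum_eq_zero fun A _ => by simp [Fintype.card_subtype_eq]
    rw [h0, Nat.le_zero] at hjle
    subst hjle
    have h1 := finrank_split hrF hTr hW
    have h3 := (finrank_inf_fix_le hTE hfree hE W).2 hiso
    rw [hj, hd] at h1
    omega

/-- The witness with few pairs of isomorphic blocks. -/
theorem neg_pairs (hF : Fintype.card F = q ^ 2) (hrp : r ≠ p) (hr2 : r ≠ 2) {m b c : ℕ}
    (hb : b = orderOf (Fintype.card F : ZMod r)) (hc : c = orderOf (-(q : ZMod r))) (hco : Odd c) (hc1 : c ≠ 1)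
    (hbm : b ≤ m) (hmn : 2 * m ≤ n) (hcase : n / b < (r - 1) / b + 2 * (m / b)) :
    ∃ T : Module.End F (Fin n → F), (∀ u w, hermB hF n (T u) (T w) = hermB hF n u w) ∧
      LinearMap.det T = 1 ∧ T ^ r = 1 ∧
      ∀ W : Submodule F (Fin n → F), Inv T W → Isotropic (hermB hF n) W → finrank F W ≠ m := by
  classical
  have hrF : (r : F) ≠ 0 := CfsgLib.LinFix.natCast_ne_zero_of_ne hrp
  have hof := (ord_facts hr2 (natCast_q_ne_zero (p := p) hF hrp)).1 (hc ▸ hco)
  rw [← hc, ← card_cast hF, ← hb] at hof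
  have hcb : c = b := hof.1.symm
  have hbpos : 0 < b := hb ▸ ord_pos hrF
  obtain ⟨y, hy, hyr, hy1, -⟩ := exists_block (p := p) hF hrp hr2 hc
  obtain ⟨κ₀, hκ0, hκ⟩ := exists_kinds (F := F) (r := r) hrF
  set N := n / b
  set s := (r - 1) / b with hs
  have hspos : 0 < s := Nat.div_pos
    (Nat.le_of_dvd (by have := hr.out.two_le; omega)
      (hb ▸ orderOf_dvd_of_pow_eq_one (ZMod.pow_card_sub_one_eq_one (cast_card_ne_zero hrF)))) hbpos
  have hN2 : 2 ≤ N := (Nat.le_div_iff_mul_le hbpos).2 (by omega)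
  obtain ⟨a, s', haN, hNa, ha0, hs', hs'a, hs'0, hPlt, heven⟩ :
      ∃ a s', a ≤ N ∧ N ≤ a + 1 ∧ 0 < a ∧ s' ≤ s ∧ s' ≤ a ∧ 0 < s' ∧ a - s' < 2 * (m / b) ∧ Even (a - s') := by
    have hM : 0 < m / b := Nat.div_pos hbm hbpos
    rcases Nat.lt_or_ge s N with h | h
    · rcases Nat.even_or_odd (N - s) with he | ⟨t, ht⟩
      · exact ⟨N, s, le_rfl, by omega, by omega, le_rfl, h.le, hspos, by omega, he⟩
      · exact ⟨N - 1, s, by omega, by omega, by omega, le_rfl, by omega, hspos, by omega, ⟨t, by omega⟩⟩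
    · exact ⟨N, N, le_rfl, by omega, by omega, h, le_rfl, by omega, by omega, by simp⟩
  obtain ⟨P, hP⟩ := heven
  have hab : a * b ≤ n := (Nat.mul_le_mul_right b haN).trans (Nat.div_mul_le_self n b)
  let κ : Fin a → Fin s' := fun l => if hl : l.1 < s' then ⟨l.1, hl⟩ else ⟨0, hs'0⟩
  let K : Fin s' → ℕ := fun A => κ₀ ⟨A.1, by rw [← hb]; exact lt_of_lt_of_le A.2 hs'⟩
  obtain ⟨E, T, hE, hTE, hT, -⟩ := exists_model hF (n := n) (k₀ := n - a * b) (a := a) (h := c)
    (by rw [hcb]; omega) (fun l => y ^ K (κ l)) (fun l => isometry_pow hF hy (K (κ l)))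
  have hyr' : ∀ l, (y ^ K (κ l)) ^ r = 1 := fun l => by rw [← pow_mul, mul_comm, pow_mul, hyr, one_pow]
  have hTr : T ^ r = 1 := model_pow_eq_one hTE hyr'
  have hfree : ∀ l, Fpf (y ^ K (κ l)) ⊤ := fun l => fpf_of_finrank_eq hrF (hyr' l) (fun h => hκ0 _ (by
    have h1 : orderOf y = r := orderOf_eq_prime hyr hy1
    rw [ZMod.natCast_eq_zero_iff, ← h1]
    exact orderOf_dvd_of_pow_eq_one h)) (by rw [Module.finrank_fintype_fun_eq_card, Fintype.card_fin, hcb, hb])
  refine ⟨T, hT, det_eq_one hF (fun h => hc1 (hc.trans (dvd_succ_iff.1 h))) hT hTr, hTr,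
    fun W hW hiso hd => ?_⟩
  obtain ⟨j, hj, hjle⟩ := isotropic_fpf_le (r := r) hrF (hcb ▸ hb.symm) hE hyr hy1 κ K (fun A => hκ0 _)
    (fun A A' l h => Fin.ext (Fin.mk.inj_iff.1 (hκ _ _ l h))) hTE hTr (inv_inf hW inv_fpfSp) inf_le_right
    (fun a ha b hb => hiso a ha.1 b hb.1)
  have hsumle : (∑ A : Fin s', Fintype.card {l // κ l = A} / 2) ≤ P := by
    rw [Finset.sum_eq_single (⟨0, hs'0⟩ : Fin s') (fun A _ hA => ?_) (by simp)]
    · refine Nat.le_of_lt_succ ((Nat.div_lt_iff_lt_mul two_pos).2 ?_)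
      have hcard : Fintype.card {l : Fin a // κ l = ⟨0, hs'0⟩} ≤ a - s' + 1 := by
        have hinj : Function.Injective (fun l : {l : Fin a // κ l = ⟨0, hs'0⟩} =>
            (⟨l.1.1 - (s' - 1), by have := l.1.2; omega⟩ : Fin (a - s' + 1))) := by
          intro l l' h
          have hl : ∀ l : {l : Fin a // κ l = ⟨0, hs'0⟩}, l.1.1 = 0 ∨ s' ≤ l.1.1 := fun l => by
            have h1 := l.2
            simp only [κ] at h1
            split_ifs at h1 with h2
            · exact Or.inl (Fin.mk.inj_iff.1 h1)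
            · exact Or.inr (by omega)
          have h0 := Fin.mk.inj_iff.1 h
          refine Subtype.ext (Fin.ext ?_)
          rcases hl l with h1 | h1 <;> rcases hl l' with h2 | h2 <;> omega
        simpa using Fintype.card_le_of_injective _ hinj
      omega
    · refine Nat.div_eq_of_lt (lt_of_le_of_lt ?_ one_lt_two)
      rw [Fintype.card_le_one_iff]
      rintro ⟨l, hl⟩ ⟨l', hl'⟩
      simp only [κ] at hl hl'
      refine Subtype.ext (Fin.ext ?_)
      split_ifs at hl with h1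
      · split_ifs at hl' with h2
        · exact (Fin.mk.inj_iff.1 (hl.trans hl'.symm))
        · exact absurd hl'.symm hA
      · exact absurd hl.symm hA
  have h1 := finrank_split hrF hTr hW
  have h3 := (finrank_inf_fix_le hTE hfree hE W).2 hiso
  rw [hj, hd, hcb] at h1
  have hjP : j ≤ P := hjle.trans hsumle
  have hPM : P + 1 ≤ m / b := by omega
  have h4 : (j + 1) * b ≤ m := (Nat.mul_le_mul_right b (by omega)).trans (Nat.div_mul_le_self m b)
  rw [add_mul, one_mul] at h4
  have h5 : N * b ≤ (a + 1) * b := Nat.mul_le_mul_right b hNa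
  rw [add_mul, one_mul] at h5
  have h6 : n % b + N * b = n := by rw [mul_comm]; exact Nat.mod_add_div n b
  have h7 := Nat.mod_lt n hbpos
  omega

/-- The witness with a small fixed space. -/
theorem neg_fixed (hF : Fintype.card F = q ^ 2) (hrp : r ≠ p) (hr2 : r ≠ 2) {m b c : ℕ}
    (hb : b = orderOf (Fintype.card F : ZMod r)) (hc : c = orderOf (-(q : ZMod r))) (hkm : n % c < 2 * m)
    (hcond : ¬ (b ≤ m ∧ 2 * (m % b) ≤ n % c)) (hm : 1 ≤ m) :
    ∃ T : Module.End F (Fin n → F), (∀ u w, hermB hF n (T u) (T w) = hermB hF n u w) ∧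
      LinearMap.det T = 1 ∧ T ^ r = 1 ∧
      ∀ W : Submodule F (Fin n → F), Inv T W → Isotropic (hermB hF n) W → finrank F W ≠ m := by
  have hrF : (r : F) ≠ 0 := CfsgLib.LinFix.natCast_ne_zero_of_ne hrp
  have hbpos : 0 < b := hb ▸ ord_pos hrF
  have hof := ord_facts hr2 (natCast_q_ne_zero (p := p) hF hrp)
  rw [← hc, ← card_cast hF, ← hb] at hof
  have hc2b : c ≤ 2 * b := by
    rcases Nat.even_or_odd c with he | ho
    · exact (hof.2 he).1.le
    · rw [(hof.1 ho).1]; omega
  have hc1 : c ≠ 1 := fun h => hcond (by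
    have h1 : b = 1 := by rw [(hof.1 (h ▸ odd_one)).1, h]
    rw [h1, Nat.mod_one]
    omega)
  have hcpos : 0 < c := by
    rcases Nat.even_or_odd c with he | ho
    · rw [(hof.2 he).1]; omega
    · exact ho.pos
  obtain ⟨T, hT, hTr, hdet, -, hfix⟩ := exists_witness_min (p := p) (n := n) hF hrp hr2 hc hc1
  refine ⟨T, hT, hdet, hTr, fun W hW hiso hd => ?_⟩
  have h1 := finrank_split hrF hTr hW
  have h2 := hfix W hiso
  obtain ⟨j, hj⟩ := ord_dvd_finrank hTr (inv_inf hW inv_fpfSp) ((fpf_fpfSp hrF).mono inf_le_right)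
  rw [← hb] at hj
  rw [hj, hd] at h1
  have h3 := Nat.mod_lt n hcpos
  rcases Nat.eq_zero_or_pos j with rfl | hj0
  · omega
  · have h4 : b ≤ b * j := Nat.le_mul_of_pos_right _ hj0
    refine hcond ⟨by omega, ?_⟩
    rw [← h1, Nat.add_mul_mod_self_left, Nat.mod_eq_of_lt (by omega)]
    exact h2

end Odd

/-- Elements of prime order of PSU_n(q) with no fixed totally isotropic `m`-space. Here `T = PSU_n(q)` (`n ≥ 3`, `(n, q) ≠ (3, 2)`), realised through the matrices of determinant 1 over the field `F` with `q²` elements preserving the Hermitian form `h(u, v) = Σ u_i v_i^q`; an element of `T` of prime order `r` is such a matrix `x` with `x^r` scalar and `x` not scalar. For `r ≠ p` let `i` be the multiplicative order of `q` modulo `r`, `b = i/2` for `i` even and `b = i` for `i` odd, `c = i, i/2, 2i` according as `i ≡ 0, 2 (mod 4)` or `i` odd, and write `k = n mod c`, `ℓ = m mod b`, `ℓ' = m mod c`, `n' = ⌊n/b⌋`, `m' = ⌊m/b⌋`, `s = (r−1)/b`; `(a)_r` is the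 `r`-part of `a`. Let `1 ≤ m ≤ n/2` and let `r` be a prime dividing the number of totally isotropic `m`-spaces. Then every element of `T` of order `r` fixes a totally isotropic `m`-space if and only if either (i) `r = 2`, `p ≠ 2`, and (`m < n/2` or `(q+1)_2 ≤ (n)_2`); or (ii) `r ≠ p`, `r > 2`, `b ≤ m`, `k ≥ 2ℓ`, and either `i ≢ 2 (mod 4)`, or `i ≡ 2 (mod 4)`, `n' − 2m' ≥ s` and (`i > 2`, or `i = 2` and (`r ∣ m` or `(q+1)_r ≥ (n)_r`)). -/
theorem result {F : Type*} [Field F] [Fintype F] {p : ℕ} [Fact p.Prime] [CharP F p] {q : ℕ} (hq : Fintype.card F = q ^ 2)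
    (n m : ℕ) (hn : 3 ≤ n) (hT : (n, q) ≠ (3, 2)) (hm : 1 ≤ m) (hmn : 2 * m ≤ n)
    (r : ℕ) [Fact r.Prime]
    (hrΩ : r ∣ Nat.card {W : Submodule F (Fin n → F) // Module.finrank F ↥W = m ∧ (∀ u ∈ W, ∀ v ∈ W, Cfsg.hermForm n F q u v = 0)})
    (i b c : ℕ) (hi : i = orderOf (q : ZMod r)) (hb : b = if Even i then i / 2 else i)
    (hc : c = if i % 4 = 0 then i else if i % 4 = 2 then i / 2 else 2 * i) :
    (∀ x : Matrix.SpecialLinearGroup (Fin n) F, x ∈ Cfsg.SU n F q →
      (∃ z : F, ((x ^ r : Matrix.SpecialLinearGroup (Fin n) F) : Matrix (Fin n) (Fin n) F) = z • (1 : Matrix (Fin n) (Fin n) F)) →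
      (∀ z : F, (x : Matrix (Fin n) (Fin n) F) ≠ z • (1 : Matrix (Fin n) (Fin n) F)) →
      ∃ W : Submodule F (Fin n → F), Module.finrank F ↥W = m ∧ (∀ u ∈ W, ∀ v ∈ W, Cfsg.hermForm n F q u v = 0) ∧
        W.map (Matrix.toLin' (x : Matrix (Fin n) (Fin n) F)) ≤ W) ↔
    ((r = 2 ∧ p ≠ 2 ∧ (2 * m < n ∨ padicValNat 2 (q + 1) ≤ padicValNat 2 n)) ∨
     (r ≠ p ∧ 2 < r ∧ b ≤ m ∧ 2 * (m % b) ≤ n % c ∧
       (i % 4 ≠ 2 ∨ (i % 4 = 2 ∧ (r - 1) / b + 2 * (m / b) ≤ n / b ∧
         (2 < i ∨ (i = 2 ∧ (r ∣ m ∨ padicValNat r n ≤ padicValNat r (q + 1)))))))) := by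
  classical
  have hfr : finrank F (Fin n → F) = n := by rw [Module.finrank_fintype_fun_eq_card, Fintype.card_fin]
  have hn0 : 0 < n := by omega
  have hrp : r ≠ p := by
    intro h
    subst h
    exact not_char_dvd_iso hq hmn hrΩ
  -- the statement in terms of endomorphisms
  have hbridge : (∀ x : Matrix.SpecialLinearGroup (Fin n) F, x ∈ Cfsg.SU n F q →
      (∃ z : F, ((x ^ r : Matrix.SpecialLinearGroup (Fin n) F) : Matrix (Fin n) (Fin n) F) = z • (1 : Matrix (Fin n) (Fin n) F)) →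
      (∀ z : F, (x : Matrix (Fin n) (Fin n) F) ≠ z • (1 : Matrix (Fin n) (Fin n) F)) →
      ∃ W : Submodule F (Fin n → F), Module.finrank F ↥W = m ∧ (∀ u ∈ W, ∀ v ∈ W, Cfsg.hermForm n F q u v = 0) ∧
        W.map (Matrix.toLin' (x : Matrix (Fin n) (Fin n) F)) ≤ W) ↔
      (∀ (T : Module.End F (Fin n → F)) (z : F), (∀ u w, hermB hq n (T u) (T w) = hermB hq n u w) →
        LinearMap.det T = 1 → T ^ r = z • 1 →
        ∃ W : Submodule F (Fin n → F), finrank F W = m ∧ Isotropic (hermB hq n) W ∧ Inv T W) := by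
    constructor
    · intro h T z hT hdet hTz
      by_cases hsc : ∃ c : F, ∀ v, T v = c • v
      · obtain ⟨c, hc⟩ := hsc
        exact exists_isotropic_scalar (p := p) hq hmn T hc
      obtain ⟨x, hx, hxT⟩ := exists_su hq hT hdet
      obtain ⟨W, hW1, hW2, hW3⟩ := h x hx ⟨z, by
          refine Matrix.toLin'.injective ?_
          rw [Matrix.SpecialLinearGroup.coe_pow, Matrix.toLin'_pow, hxT, hTz, map_smul, Matrix.toLin'_one]
          rfl⟩
        (fun c hc => hsc ⟨c, fun v => by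
          rw [← hxT, hc, Matrix.toLin'_apply, Matrix.smul_mulVec, Matrix.one_mulVec]⟩)
      exact ⟨W, hW1, fun u hu v hv => hW2 v hv u hu, fun w hw => hxT ▸ hW3 ⟨w, hw, rfl⟩⟩
    · rintro h x hx ⟨z, hz⟩ -
      obtain ⟨W, hW1, hW2, hW3⟩ := h (Matrix.toLin' (x : Matrix (Fin n) (Fin n) F)) z (isometry_of_su hq hx)
        (by rw [LinearMap.det_toLin']; exact x.2)
        (by rw [← Matrix.toLin'_pow, ← Matrix.SpecialLinearGroup.coe_pow, hz, map_smul, Matrix.toLin'_one]; rfl)
      exact ⟨W, hW1, fun u hu v hv => hW2 v hv u hu, by rintro _ ⟨w, hw, rfl⟩; exact hW3 w hw⟩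
  rw [hbridge]
  by_cases hr2 : r = 2
  · subst hr2
    have hp2 : p ≠ 2 := fun h => hrp h.symm
    constructor
    · intro h
      refine Or.inl ⟨rfl, hp2, ?_⟩
      by_contra hcon
      push Not at hcon
      obtain ⟨T, z, hT, hdet, hTz, hno⟩ := neg_two (p := p) hq hp2 hm (show n = 2 * m by omega) hcon.2
      obtain ⟨W, h1, h2, h3⟩ := h T z hT hdet hTz
      exact hno W h3 h2 h1
    · rintro (⟨-, -, hcond⟩ | ⟨-, h, -⟩)
      · exact fun T z hT hdet hTz => pos_two (p := p) hq hp2 hmn hn0 hcond hT hdet hTz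
      · exact absurd h (lt_irrefl _)
  have hr3 : 2 < r := lt_of_le_of_ne (Fact.out : r.Prime).two_le (Ne.symm hr2)
  have hq0 := natCast_q_ne_zero (p := p) hq hrp
  obtain ⟨hc', hb'⟩ := orderOf_neg_eq hr2 hq0
  rw [← hi, ← hc] at hc'
  rw [← hi, ← hb, ← card_cast hq] at hb'
  have hipos : 0 < i := hi ▸ orderOf_pos_iff.2 (isOfFinOrder_iff_pow_eq_one.2
    ⟨r - 1, by omega, ZMod.pow_card_sub_one_eq_one hq0⟩)
  have hodd : Odd c ↔ i % 4 = 2 := by
    rw [hc]
    split_ifs with h1 h2 <;> rw [Nat.odd_iff] <;> omega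
  have hone : c = 1 ↔ i = 2 := by
    rw [hc]
    split_ifs with h1 h2 <;> omega
  obtain ⟨j, hj1, hj2, hj3⟩ := exists_dvd_iso (r := r) hq hmn hrΩ
  obtain ⟨u, hu⟩ : c ∣ j := hc' ▸ orderOf_dvd_of_pow_eq_one hj3
  have hkm : n % c < 2 * m := by
    have h1 : n % c = (n - j) % c := by
      conv_lhs => rw [show n = n - j + c * u by omega, Nat.add_mul_mod_self_left]
    have := Nat.mod_le (n - j) c
    omega
  constructor
  · intro h
    refine Or.inr ⟨hrp, hr3, ?_⟩
    by_cases hfix : b ≤ m ∧ 2 * (m % b) ≤ n % c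
    swap
    · obtain ⟨T, hT, hdet, hTr, hno⟩ := neg_fixed (p := p) hq hrp hr2 hb'.symm hc'.symm hkm hfix hm
      obtain ⟨W, h1, h2, h3⟩ := h T 1 hT hdet (by rw [one_smul]; exact hTr)
      exact absurd h1 (hno W h3 h2)
    refine ⟨hfix.1, hfix.2, ?_⟩
    by_cases h4 : i % 4 = 2
    swap
    · exact Or.inl h4
    have hco : Odd c := hodd.2 h4
    refine Or.inr ⟨h4, ?_, ?_⟩
    · by_contra hcase
      push Not at hcase
      by_cases hc1 : c = 1
      · have hi2 : i = 2 := hone.1 hc1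
        have hb1 : b = 1 := by rw [hb, hi2]; rfl
        rw [hb1, Nat.div_one, Nat.div_one, Nat.div_one] at hcase
        obtain ⟨T, hT, hdet, hTr, hno⟩ := neg_diag (p := p) hq hrp hr2 (hc'.trans hc1) hm hmn hcase
        obtain ⟨W, h1, h2, h3⟩ := h T 1 hT hdet (by rw [one_smul]; exact hTr)
        exact hno W h3 h2 h1
      · obtain ⟨T, hT, hdet, hTr, hno⟩ := neg_pairs (p := p) hq hrp hr2 hb'.symm hc'.symm hco hc1 hfix.1 hmn hcase
        obtain ⟨W, h1, h2, h3⟩ := h T 1 hT hdet (by rw [one_smul]; exact hTr)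
        exact hno W h3 h2 h1
    · by_cases hi2 : i = 2
      swap
      · exact Or.inl (by omega)
      refine Or.inr ⟨hi2, ?_⟩
      by_contra hcon
      obtain ⟨hrm, hv⟩ := not_or.1 hcon
      have hrq : r ∣ q + 1 := dvd_succ_iff.2 (hc'.trans (hone.2 hi2))
      obtain ⟨T, z, hT, hdet, hTz, hno⟩ := neg_nonpower (p := p) hq hr2 hrq hn0 hrm hv
      obtain ⟨W, h1, h2, h3⟩ := h T z hT hdet hTz
      exact hno W h3 h2 h1
  · rintro (⟨h, -⟩ | ⟨-, -, -, hk, hrest⟩)
    · exact absurd h hr2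
    intro T z hT hdet hTz
    refine pos_odd (p := p) hq hrp hr2 hT hdet hTz hb'.symm hc'.symm hn0 hmn hk (fun hco => ?_) (fun hc1 => ?_)
    · exact (hrest.resolve_left (not_not.2 (hodd.1 hco))).2.1
    · rcases hrest with h1 | ⟨-, -, h1⟩
      · exact absurd (hodd.1 (hc1 ▸ odd_one)) h1
      · rcases h1 with h1 | ⟨-, h1⟩
        · have := hone.1 hc1
          omega
        · exact h1

end Cfsg.Agent.S5953
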