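import Cfsg.Statements.S5954
import Cfsg.Agent.Lib.PrimeFix.HermNonDeg
import Cfsg.Agent.Lib.PrimeFix.HermUnip

set_option autoImplicit false
open scoped MatrixGroups
open Cfsg

namespace Cfsg.Agent.S5954

open Module CfsgLib.PrimeFix CfsgLib.PrimeFix.Herm

/-- For parts of size at most two, sub-multisets reach every sum when `n` is odd or `m` is even. -/
theorem two_parts {n m : ℕ} (hm : m ≤ n) (h : Odd n ∨ Even m) (μ : Multiset ℕ) (hμ : ∀ a ∈ μ, 0 < a ∧ a ≤ 2)
    (hs : μ.sum = n) : ∃ ν : Multiset ℕ, ν ≤ μ ∧ ν.sum = m := by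
  classical
  have hval : ∀ S : Multiset ℕ, (∀ a ∈ S, 0 < a ∧ a ≤ 2) → S.sum = S.count 1 + 2 * S.count 2 := by
    intro S hS
    induction S using Multiset.induction with
    | empty => simp
    | cons a S ih =>
      rw [Multiset.sum_cons, ih fun b hb => hS b (Multiset.mem_cons_of_mem hb)]
      have ha := hS a (Multiset.mem_cons_self a S)
      obtain rfl | rfl : a = 1 ∨ a = 2 := by omega
      all_goals simp [Multiset.count_cons]; ring
  have hv := hval μ hμ
  refine ⟨Multiset.replicate (m - 2 * min (μ.count 2) (m / 2)) 1 + Multiset.replicate (min (μ.count 2) (m / 2)) 2,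
    Multiset.le_iff_count.2 fun a => ?_, ?_⟩
  · rw [Multiset.count_add, Multiset.count_replicate, Multiset.count_replicate]
    split_ifs with h1 h2 h2
    · omega
    · subst h1
      rcases h with ho | he
      · obtain ⟨k, hk⟩ := ho; omega
      · obtain ⟨k, hk⟩ := he; omega
    · subst h2; omega
    · omega
  · rw [Multiset.sum_add, Multiset.sum_replicate, Multiset.sum_replicate, smul_eq_mul, smul_eq_mul]
    omega

/-- The converse. -/
theorem two_parts_only {n m : ℕ}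
    (h : ∀ μ : Multiset ℕ, (∀ a ∈ μ, 0 < a ∧ a ≤ 2) → μ.sum = n → ∃ ν : Multiset ℕ, ν ≤ μ ∧ ν.sum = m) :
    Odd n ∨ Even m := by
  rcases Nat.even_or_odd n with ⟨k, hk⟩ | ho
  · refine Or.inr ?_
    obtain ⟨ν, hν, hs⟩ := h (Multiset.replicate k 2) (fun a ha => by rw [Multiset.eq_of_mem_replicate ha]; omega)
      (by rw [Multiset.sum_replicate, smul_eq_mul]; omega)
    obtain ⟨l, -, rfl⟩ := Multiset.le_replicate_iff.1 hν
    rw [Multiset.sum_replicate, smul_eq_mul] at hs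
    exact ⟨l, by omega⟩
  · exact Or.inl ho

/-- Elements of prime order of PSU_n(q) with no fixed nondegenerate `m`-space. Here `T = PSU_n(q)` (`n ≥ 3`, `(n, q) ≠ (3, 2)`), realised through the matrices of determinant 1 over the field `F` with `q²` elements preserving the Hermitian form `h(u, v) = Σ u_i v_i^q`; an element of `T` of prime order `r` is such a matrix `x` with `x^r` scalar and `x` not scalar. For `r ≠ p` let `i` be the multiplicative order of `q` modulo `r`, `b = i/2` for `i` even and `b = i` for `i` odd, `c = i, i/2, 2i` according as `i ≡ 0, 2 (mod 4)` or `i` odd, and write `k = n mod c`, `ℓ = m mod b`, `ℓ' = m mod c`, `n' = ⌊n/b⌋`, `m' = ⌊m/b⌋`, `s = (r−1)/b`; `(a)_r` is the `r`-part of `a`. Let `1 ≤ m < n/2` and let `r` be a prime dividing the number of nondegenerate `m`-spaces. Then every element of `T` of order `r` fixes a nondegenerate `m`-space if and only if one of: (i) `r = p > 2` and every partition of `n` into parts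 of size at most `p` contains (as a sub-multiset) a partition of `m`; (ii) `r = p = 2` and (`n` is odd or `m` is even); (iii) `r = 2 ≠ p` and (`n` is odd, or `m` is even, or `(q+1)_2 ≥ (n)_2` and `q ≡ 3 (mod 4)`); (iv) `r ≠ p`, `r > 2`, and either `i ≠ 2`, `c ≤ m` and `k ≥ ℓ'`, or `i = 2` and (`r ∣ m` or `(q+1)_r ≥ (n)_r`). -/
theorem result {F : Type*} [Field F] [Fintype F] {p : ℕ} [Fact p.Prime] [CharP F p] {q : ℕ} (hq : Fintype.card F = q ^ 2)
    (n m : ℕ) (hn : 3 ≤ n) (hT : (n, q) ≠ (3, 2)) (hm : 1 ≤ m) (hmn : 2 * m < n)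
    (r : ℕ) [Fact r.Prime]
    (hrΩ : r ∣ Nat.card {W : Submodule F (Fin n → F) // Module.finrank F ↥W = m ∧ (∀ u ∈ W, u ≠ 0 → ∃ v ∈ W, Cfsg.hermForm n F q u v ≠ 0)})
    (i b c : ℕ) (hi : i = orderOf (q : ZMod r)) (hb : b = if Even i then i / 2 else i)
    (hc : c = if i % 4 = 0 then i else if i % 4 = 2 then i / 2 else 2 * i) :
    (∀ x : Matrix.SpecialLinearGroup (Fin n) F, x ∈ Cfsg.SU n F q →
      (∃ z : F, ((x ^ r : Matrix.SpecialLinearGroup (Fin n) F) : Matrix (Fin n) (Fin n) F) = z • (1 : Matrix (Fin n) (Fin n) F)) →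
      (∀ z : F, (x : Matrix (Fin n) (Fin n) F) ≠ z • (1 : Matrix (Fin n) (Fin n) F)) →
      ∃ W : Submodule F (Fin n → F), Module.finrank F ↥W = m ∧ (∀ u ∈ W, u ≠ 0 → ∃ v ∈ W, Cfsg.hermForm n F q u v ≠ 0) ∧
        W.map (Matrix.toLin' (x : Matrix (Fin n) (Fin n) F)) ≤ W) ↔
    ((r = p ∧ 2 < p ∧ (∀ μ : Multiset ℕ, (∀ a ∈ μ, 0 < a ∧ a ≤ p) → μ.sum = n → ∃ ν : Multiset ℕ, ν ≤ μ ∧ ν.sum = m)) ∨
     (r = p ∧ p = 2 ∧ (Odd n ∨ Even m)) ∨
     (r = 2 ∧ p ≠ 2 ∧ (Odd n ∨ Even m ∨ (padicValNat 2 n ≤ padicValNat 2 (q + 1) ∧ q % 4 = 3))) ∨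
     (r ≠ p ∧ 2 < r ∧ ((i ≠ 2 ∧ c ≤ m ∧ m % c ≤ n % c) ∨ (i = 2 ∧ (r ∣ m ∨ padicValNat r n ≤ padicValNat r (q + 1)))))) := by
  classical
  have hfr : finrank F (Fin n → F) = n := by rw [Module.finrank_fintype_fun_eq_card, Fintype.card_fin]
  have hn0 : 0 < n := by omega
  have hmn' : m ≤ n := by omega
  have hnd : ∀ W : Submodule F (Fin n → F),
      NonDeg (hermB hq n) W ↔ ∀ u ∈ W, u ≠ 0 → ∃ v ∈ W, Cfsg.hermForm n F q u v ≠ 0 := by
    intro W
    constructor
    · intro h u hu hu0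
      by_contra hall
      push Not at hall
      exact hu0 (h u hu fun v hv => eq_zero_symm (hermB_symm hq) (hall v hv))
    · intro h u hu hall
      by_contra hu0
      obtain ⟨v, hv, hne⟩ := h u hu hu0
      exact hne (eq_zero_symm (hermB_symm hq) (hall v hv))
  -- the statement in terms of endomorphisms
  have hbridge : (∀ x : Matrix.SpecialLinearGroup (Fin n) F, x ∈ Cfsg.SU n F q →
      (∃ z : F, ((x ^ r : Matrix.SpecialLinearGroup (Fin n) F) : Matrix (Fin n) (Fin n) F) = z • (1 : Matrix (Fin n) (Fin n) F)) →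
      (∀ z : F, (x : Matrix (Fin n) (Fin n) F) ≠ z • (1 : Matrix (Fin n) (Fin n) F)) →
      ∃ W : Submodule F (Fin n → F), Module.finrank F ↥W = m ∧ (∀ u ∈ W, u ≠ 0 → ∃ v ∈ W, Cfsg.hermForm n F q u v ≠ 0) ∧
        W.map (Matrix.toLin' (x : Matrix (Fin n) (Fin n) F)) ≤ W) ↔
      (∀ (T : Module.End F (Fin n → F)) (z : F), (∀ u w, hermB hq n (T u) (T w) = hermB hq n u w) →
        LinearMap.det T = 1 → T ^ r = z • 1 →
        ∃ W : Submodule F (Fin n → F), finrank F W = m ∧ NonDeg (hermB hq n) W ∧ Inv T W) := by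
    constructor
    · intro h T z hT hdet hTz
      by_cases hsc : ∃ c : F, ∀ v, T v = c • v
      · obtain ⟨c, hc⟩ := hsc
        exact exists_scalar (p := p) hq hc hmn'
      obtain ⟨x, hx, hxT⟩ := exists_su hq hT hdet
      obtain ⟨W, hW1, hW2, hW3⟩ := h x hx ⟨z, by
          refine Matrix.toLin'.injective ?_
          rw [Matrix.SpecialLinearGroup.coe_pow, Matrix.toLin'_pow, hxT, hTz, map_smul, Matrix.toLin'_one]
          rfl⟩
        (fun c hc => hsc ⟨c, fun v => by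
          rw [← hxT, hc, Matrix.toLin'_apply, Matrix.smul_mulVec, Matrix.one_mulVec]⟩)
      exact ⟨W, hW1, (hnd W).2 hW2, fun w hw => hxT ▸ hW3 ⟨w, hw, rfl⟩⟩
    · rintro h x hx ⟨z, hz⟩ -
      obtain ⟨W, hW1, hW2, hW3⟩ := h (Matrix.toLin' (x : Matrix (Fin n) (Fin n) F)) z (isometry_of_su hq hx)
        (by rw [LinearMap.det_toLin']; exact x.2)
        (by rw [← Matrix.toLin'_pow, ← Matrix.SpecialLinearGroup.coe_pow, hz, map_smul, Matrix.toLin'_one]; rfl)
      exact ⟨W, hW1, (hnd W).1 hW2, by rintro _ ⟨w, hw, rfl⟩; exact hW3 w hw⟩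
  rw [hbridge]
  by_cases hrp : r = p
  · subst hrp
    have key : (∀ (T : Module.End F (Fin n → F)) (z : F), (∀ u w, hermB hq n (T u) (T w) = hermB hq n u w) →
        LinearMap.det T = 1 → T ^ r = z • 1 →
        ∃ W : Submodule F (Fin n → F), finrank F W = m ∧ NonDeg (hermB hq n) W ∧ Inv T W) ↔
        ∀ μ : Multiset ℕ, (∀ a ∈ μ, 0 < a ∧ a ≤ r) → μ.sum = n → ∃ ν : Multiset ℕ, ν ≤ μ ∧ ν.sum = m := by
      constructor
      · intro h μ hμ hμs
        by_contra hcon
        push Not at hcon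
        obtain ⟨T, hT, hdet, hTp, hno⟩ := exists_no_nonDeg_char (p := r) hq hμ hμs hcon
        obtain ⟨W, h1, h2, h3⟩ := h T 1 hT hdet (by rw [one_smul]; exact hTp)
        exact hno W h3 h2 h1
      · intro hcond T z hT hdet hTz
        have hrq : ¬ r ∣ q + 1 := fun hd => by
          obtain ⟨k, hk, hqk⟩ := exists_exponent_pow (p := r) hq
          rw [hqk, Nat.dvd_add_right (dvd_pow_self r hk.ne')] at hd
          exact (Fact.out : r.Prime).one_lt.ne' (Nat.dvd_one.1 hd)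
        obtain ⟨w, hw, hwr⟩ := exists_root_norm_one hrq (scalar_norm_one hq hn0 hT hTz)
        have hw0 : w ≠ 0 := ne_zero_of_norm_one hw
        obtain ⟨W, h1, h2, h3⟩ := exists_nonDeg_char (p := r) hq (T := w⁻¹ • T)
          (isometry_smul hq hT (by rw [inv_pow, hw, inv_one]))
          (by rw [_root_.smul_pow, hTz, smul_smul, inv_pow, ← hwr, inv_mul_cancel₀ (pow_ne_zero _ hw0), one_smul])
          hcond
        exact ⟨W, h1, h2, inv_of_smul_ne_zero (inv_ne_zero hw0) h3⟩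
    rw [key]
    by_cases hr2 : r = 2
    · subst hr2
      constructor
      · intro h
        exact Or.inr (Or.inl ⟨rfl, rfl, two_parts_only h⟩)
      · rintro (⟨-, h, -⟩ | ⟨-, -, h⟩ | ⟨-, h, -⟩ | ⟨h, -⟩)
        · exact absurd h (lt_irrefl _)
        · exact two_parts hmn' h
        · exact absurd rfl h
        · exact absurd rfl h
    · constructor
      · intro h
        exact Or.inl ⟨rfl, lt_of_le_of_ne (Fact.out : r.Prime).two_le (Ne.symm hr2), h⟩
      · rintro (⟨-, -, h⟩ | ⟨-, h, -⟩ | ⟨h, -⟩ | ⟨h, -⟩)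
        · exact h
        · exact absurd h hr2
        · exact absurd h hr2
        · exact absurd rfl h
  by_cases hr2 : r = 2
  · subst hr2
    have hp2 : p ≠ 2 := Ne.symm hrp
    constructor
    · intro h
      refine Or.inr (Or.inr (Or.inl ⟨rfl, hp2, ?_⟩))
      by_contra hcon
      rw [not_or, not_or] at hcon
      obtain ⟨T, z, hT, hdet, hTz, hno⟩ := exists_no_nonDeg_two (p := p) hq hp2 (Nat.not_odd_iff_even.1 hcon.1) hn0
        (Nat.not_even_iff_odd.1 hcon.2.1) hcon.2.2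
      obtain ⟨W, h1, h2, h3⟩ := h T z hT hdet hTz
      exact hno W h3 h2 h1
    · rintro (⟨h, -⟩ | ⟨h, -⟩ | ⟨-, -, hcond⟩ | ⟨-, h, -⟩)
      · exact absurd h.symm hp2
      · exact absurd h.symm hp2
      · exact fun T z hT hdet hTz => exists_nonDeg_two (p := p) hq hp2 hn0 hT hdet hTz hmn' hcond
      · exact absurd h (lt_irrefl _)
  have hr3 : 2 < r := lt_of_le_of_ne (Fact.out : r.Prime).two_le (Ne.symm hr2)
  have hq0 := natCast_q_ne_zero (p := p) hq hrp
  obtain ⟨hc', -⟩ := orderOf_neg_eq hr2 hq0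
  rw [← hi, ← hc] at hc'
  have hone : c = 1 ↔ i = 2 := by
    rw [hc]
    split_ifs with h1 h2 <;> omega
  obtain ⟨j, hj1, hj2, hj3⟩ := exists_dvd_nonDeg (r := r) hq hq0 hmn' hrΩ
  obtain ⟨u, hu⟩ : c ∣ j := hc' ▸ orderOf_dvd_of_pow_eq_one hj3
  have hkm : n % c < m := by
    have h1 : n % c = (n - j) % c := by
      conv_lhs => rw [show n = n - j + c * u by omega, Nat.add_mul_mod_self_left]
    have := Nat.mod_le (n - j) c
    omega
  constructor
  · intro h
    refine Or.inr (Or.inr (Or.inr ⟨hrp, hr3, ?_⟩))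
    by_cases hi2 : i = 2
    · refine Or.inr ⟨hi2, ?_⟩
      by_contra hcon
      rw [not_or] at hcon
      obtain ⟨T, z, hT, hdet, hTz, hno⟩ := exists_no_nonDeg_nonpower (p := p) hq hr2
        (dvd_succ_iff.2 (hc'.trans (hone.2 hi2))) hn0 hcon.1 hcon.2
      obtain ⟨W, h1, h2, h3⟩ := h T z hT hdet hTz
      exact hno W h3 h2 h1
    · refine Or.inl ⟨hi2, ?_⟩
      have hk : m % c ≤ n % c := by
        by_contra hk
        obtain ⟨T, hT, hdet, hTr, hno⟩ := exists_no_nonDeg (p := p) (n := n) (m := m) hq hrp hr2 hc'.symm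
          (fun h1 => hi2 (hone.1 h1)) hk
        obtain ⟨W, h1, h2, h3⟩ := h T 1 hT hdet (by rw [one_smul]; exact hTr)
        exact hno W h3 h2 h1
      refine ⟨?_, hk⟩
      by_contra hlt
      rw [Nat.mod_eq_of_lt (not_le.1 hlt)] at hk
      omega
  · rintro (⟨h, -⟩ | ⟨h, -⟩ | ⟨h, -⟩ | ⟨-, -, hrest⟩)
    · exact absurd h hrp
    · exact absurd h hrp
    · exact absurd h hr2
    intro T z hT hdet hTz
    rcases hrest with ⟨hi2, -, hk⟩ | ⟨hi2, hk⟩
    · exact exists_nonDeg_odd (p := p) hq hrp hr2 hT hdet hTz hc'.symm hn0 hmn' hk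
        (fun h1 => absurd (hone.1 h1) hi2)
    · exact exists_nonDeg_odd (p := p) hq hrp hr2 hT hdet hTz hc'.symm hn0 hmn'
        (by simp [hone.2 hi2, Nat.mod_one]) (fun _ => hk)

end Cfsg.Agent.S5954
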