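import Cfsg.Statements.S5955
import Cfsg.Agent.Lib.PrimeFix.SympModel
-- import your own Cfsg.Agent.* helpers here

set_option autoImplicit false
open scoped MatrixGroups
open Cfsg

namespace Cfsg.Agent.S5955

open Module CfsgLib.PrimeFix CfsgLib.Linear.Symp CfsgLib.SympGeom

section

variable {F : Type*} [Field F] {d : ℕ}

theorem hsymm (u w : Fin d ⊕ Fin d → F) :
    sympBilin d F w u = (-1 : F) * (RingHom.id F) (sympBilin d F u w) := by
  simp only [sympBilin_apply, RingHom.id_apply, neg_one_mul]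
  exact form_swap u w

theorem isotropic_sup {U U' : Submodule F (Fin d ⊕ Fin d → F)} (hU : Isotropic (sympBilin d F) U)
    (hU' : Isotropic (sympBilin d F) U') (h : ∀ u ∈ U, ∀ w ∈ U', sympForm d F u w = 0) :
    ∀ x ∈ U ⊔ U', ∀ y ∈ U ⊔ U', sympForm d F x y = 0 := by
  intro x hx y hy
  obtain ⟨a, ha, b, hb, rfl⟩ := Submodule.mem_sup.1 hx
  obtain ⟨a', ha', b', hb', rfl⟩ := Submodule.mem_sup.1 hy
  have e1 : sympForm d F a a' = 0 := hU a ha a' ha'
  have e2 : sympForm d F b b' = 0 := hU' b hb b' hb'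
  simp [form_add_left, form_add_right, e1, e2, h a ha b' hb', form_swap a' b, h a' ha' b hb]

theorem map_le_of_inv {x : Matrix (Fin d ⊕ Fin d) (Fin d ⊕ Fin d) F} {W : Submodule F (Fin d ⊕ Fin d → F)}
    (h : ∀ w ∈ W, Matrix.toLin' x w ∈ W) : W.map (Matrix.toLin' x) ≤ W := by
  rintro _ ⟨w, hw, rfl⟩
  exact h w hw

theorem exists_symp_of_map (T : Module.End F (Fin d ⊕ Fin d → F))
    (hT : ∀ u w, sympForm d F (T u) (T w) = sympForm d F u w) :
    ∃ x : ↥(Matrix.symplecticGroup (Fin d) F), Matrix.toLin' x.1 = T := by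
  refine ⟨⟨LinearMap.toMatrix' T, mem_of_form_mulVec fun u v => ?_⟩, Matrix.toLin'_toMatrix' T⟩
  rw [← Matrix.toLin'_apply, ← Matrix.toLin'_apply, Matrix.toLin'_toMatrix', hT]

/-- Isotropic subspaces for an element whose square is the identity. -/
theorem exists_of_invol (h2 : (2 : F) ≠ 0) (T : Module.End F (Fin d ⊕ Fin d → F))
    (hT : ∀ u w, sympForm d F (T u) (T w) = sympForm d F u w) (hTT : ∀ v, T (T v) = v) {m : ℕ} (hm : m ≤ d) :
    ∃ W : Submodule F (Fin d ⊕ Fin d → F), finrank F W = m ∧ (∀ u ∈ W, ∀ v ∈ W, sympForm d F u v = 0) ∧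
      ∀ w ∈ W, T w ∈ W := by
  set P := LinearMap.ker (T - 1)
  set M := LinearMap.ker (T + 1)
  have hP : ∀ u ∈ P, T u = u := fun u hu => sub_eq_zero.1 hu
  have hM : ∀ u ∈ M, T u = -u := fun u hu => eq_neg_of_add_eq_zero_left hu
  have hPM : ∀ u ∈ P, ∀ w ∈ M, sympForm d F u w = 0 := fun u hu w hw => by
    have h := hT u w
    rw [hP u hu, hM w hw, ← neg_one_smul F w, form_smul_right] at h
    exact (mul_eq_zero.1 (show (2 : F) * sympForm d F u w = 0 by linear_combination -h)).resolve_left h2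
  have hdec : ∀ v, ∃ a ∈ P, ∃ b ∈ M, a + b = v := fun v => by
    refine ⟨(2 : F)⁻¹ • (v + T v), ?_, (2 : F)⁻¹ • (v - T v), ?_, ?_⟩
    · show T ((2 : F)⁻¹ • (v + T v)) - ((2 : F)⁻¹ • (v + T v)) = 0
      rw [map_smul, map_add, hTT]; module
    · show T ((2 : F)⁻¹ • (v - T v)) + ((2 : F)⁻¹ • (v - T v)) = 0
      rw [map_smul, map_sub, hTT]; module
    · rw [← smul_add, add_add_sub_cancel, ← two_smul F, smul_smul, inv_mul_cancel₀ h2, one_smul]
  have hndP : ∀ u ∈ P, (∀ w ∈ P, sympBilin d F u w = 0) → u = 0 := fun u hu h => by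
    refine eq_zero_of_forall_form fun v => ?_
    obtain ⟨a, ha, b, hb, rfl⟩ := hdec v
    rw [form_add_right, hPM u hu b hb, show sympForm d F u a = 0 from h a ha, add_zero]
  have hndM : ∀ u ∈ M, (∀ w ∈ M, sympBilin d F u w = 0) → u = 0 := fun u hu h => by
    refine eq_zero_of_forall_form fun v => ?_
    obtain ⟨a, ha, b, hb, rfl⟩ := hdec v
    rw [form_add_right, form_swap a u, hPM a ha u hu, show sympForm d F u b = 0 from h b hb, neg_zero, zero_add]
  have hdim : 2 * d ≤ finrank F P + finrank F M := by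
    rw [← finrank_space (F := F), ← finrank_top F (Fin d ⊕ Fin d → F)]
    refine le_trans (Submodule.finrank_mono (t := P ⊔ M) fun v _ => ?_)
      (Submodule.finrank_add_le_finrank_add_finrank P M)
    obtain ⟨a, ha, b, hb, rfl⟩ := hdec v
    exact Submodule.add_mem_sup ha hb
  obtain ⟨⟨a, ha⟩, hPex⟩ := Symp.exists_isotropic_alt sympBilin_alt P hndP
  obtain ⟨⟨b, hb⟩, hMex⟩ := Symp.exists_isotropic_alt sympBilin_alt M hndM
  obtain ⟨U, hUP, hU, hdU⟩ := hPex (min a m) (by omega)
  obtain ⟨U', hUM, hU', hdU'⟩ := hMex (m - min a m) (by omega)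
  refine ⟨U ⊔ U', ?_, isotropic_sup hU hU' fun u hu w hw => hPM u (hUP hu) w (hUM hw), fun w hw => ?_⟩
  · have h := Submodule.finrank_sup_add_finrank_inf_eq U U'
    have h0 : U ⊓ U' = ⊥ := (Submodule.eq_bot_iff _).2 fun v hv => hndP v (hUP hv.1) fun w hw => by
      show sympForm d F v w = 0
      rw [form_swap w v, hPM w hw v (hUM hv.2), neg_zero]
    rw [h0, finrank_bot, hdU, hdU'] at h
    omega
  · obtain ⟨u, hu, u', hu', rfl⟩ := Submodule.mem_sup.1 hw
    rw [map_add, hP u (hUP hu), hM u' (hUM hu')]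
    exact Submodule.add_mem_sup hu (Submodule.neg_mem _ hu')

/-- Isotropic subspaces for a square root of `s²` with `s² = -1`. -/
theorem exists_of_split [Fintype F] (h2 : (2 : F) ≠ 0) (T : Module.End F (Fin d ⊕ Fin d → F))
    (hT : ∀ u w, sympForm d F (T u) (T w) = sympForm d F u w) {s : F} (hs : s * s = -1)
    (hTT : ∀ v, T (T v) = -v) {m : ℕ} (hm : m ≤ d) :
    ∃ W : Submodule F (Fin d ⊕ Fin d → F), finrank F W = m ∧ (∀ u ∈ W, ∀ v ∈ W, sympForm d F u v = 0) ∧
      ∀ w ∈ W, T w ∈ W := by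
  set P := LinearMap.ker (T - s • 1)
  set M := LinearMap.ker (T + s • 1)
  have hP : ∀ u ∈ P, T u = s • u := fun u hu => sub_eq_zero.1 hu
  have hM : ∀ u ∈ M, T u = -(s • u) := fun u hu => eq_neg_of_add_eq_zero_left hu
  have hisoP : Isotropic (sympBilin d F) P := fun u hu w hw => by
    show sympForm d F u w = 0
    have h := hT u w
    rw [hP u hu, hP w hw, form_smul_left, form_smul_right, ← mul_assoc, hs] at h
    exact (mul_eq_zero.1 (show (2 : F) * sympForm d F u w = 0 by linear_combination -h)).resolve_left h2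
  have hisoM : Isotropic (sympBilin d F) M := fun u hu w hw => by
    show sympForm d F u w = 0
    have h := hT u w
    rw [hM u hu, hM w hw, ← neg_smul, ← neg_smul, form_smul_left, form_smul_right, ← mul_assoc, neg_mul_neg,
      hs] at h
    exact (mul_eq_zero.1 (show (2 : F) * sympForm d F u w = 0 by linear_combination -h)).resolve_left h2
  have hs0 : s ≠ 0 := by rintro rfl; simp at hs
  have hdec : ∀ v, ∃ a ∈ P, ∃ b ∈ M, a + b = v := fun v => by
    refine ⟨(2 : F)⁻¹ • (v - s • T v), ?_, (2 : F)⁻¹ • (v + s • T v), ?_, ?_⟩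
    · show T ((2 : F)⁻¹ • (v - s • T v)) - s • ((2 : F)⁻¹ • (v - s • T v)) = 0
      rw [map_smul, map_sub, map_smul, hTT]
      linear_combination (norm := module) ((2 : F)⁻¹ * (hs : s * s = -1)) • T v
    · show T ((2 : F)⁻¹ • (v + s • T v)) + s • ((2 : F)⁻¹ • (v + s • T v)) = 0
      rw [map_smul, map_add, map_smul, hTT]
      linear_combination (norm := module) ((2 : F)⁻¹ * (hs : s * s = -1)) • T v
    · rw [← smul_add, sub_add_add_cancel, ← two_smul F, smul_smul, inv_mul_cancel₀ h2, one_smul]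
  have hd1 : 2 * d ≤ finrank F P + finrank F M := by
    rw [← finrank_space (F := F), ← finrank_top F (Fin d ⊕ Fin d → F)]
    refine le_trans (Submodule.finrank_mono (t := P ⊔ M) fun v _ => ?_)
      (Submodule.finrank_add_le_finrank_add_finrank P M)
    obtain ⟨a, ha, b, hb, rfl⟩ := hdec v
    exact Submodule.add_mem_sup ha hb
  have hM2 := two_mul_finrank_le (B := sympBilin d F) (fun u hu => eq_zero_of_forall_form hu) hisoM
  rw [finrank_space] at hM2
  obtain ⟨t, ht⟩ := exists_linearIndependent_of_le_finrank (R := F) (M := P) (show m ≤ finrank F P by omega)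
  refine ⟨(Submodule.span F (Set.range t)).map P.subtype, ?_, ?_, ?_⟩
  · rw [Submodule.finrank_map_subtype_eq, finrank_span_eq_card ht, Fintype.card_fin]
  · rintro _ ⟨u, -, rfl⟩ _ ⟨w, -, rfl⟩
    exact hisoP _ u.2 _ w.2
  · rintro _ ⟨u, hu, rfl⟩
    rw [show T (P.subtype u) = s • (P.subtype u) from hP _ u.2, ← map_smul]
    exact ⟨s • u, Submodule.smul_mem _ _ hu, rfl⟩

end

section

variable {F : Type*} [Field F] [Fintype F] {r : ℕ} [hr : Fact r.Prime] {d : ℕ}

/-- Isotropic subspaces for an element of odd prime order. -/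
theorem exists_of_prime {p : ℕ} [Fact p.Prime] [CharP F p] (hrp : r ≠ p) (hr2 : r ≠ 2)
    (T : Module.End F (Fin d ⊕ Fin d → F)) (hT : ∀ u w, sympForm d F (T u) (T w) = sympForm d F u w)
    (hTr : T ^ r = 1) {m i c : ℕ} (hmd : m ≤ d) (hi : i = orderOf (Fintype.card F : ZMod r))
    (hc : c = if Even i then i else 2 * i) (him : i ≤ m) (hk : 2 * (m % i) ≤ (2 * d) % c)
    (hcase : Odd i ∨ (r - 1) / i + 2 * (m / i) ≤ (2 * d) / i) :
    ∃ W : Submodule F (Fin d ⊕ Fin d → F), finrank F W = m ∧ (∀ u ∈ W, ∀ v ∈ W, sympForm d F u v = 0) ∧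
      ∀ w ∈ W, T w ∈ W := by
  have hrF : (r : F) ≠ 0 := CfsgLib.LinFix.natCast_ne_zero_of_ne hrp
  have hipos : 0 < i := hi ▸ ord_pos hrF
  haveI : ExpChar F p := ExpChar.prime Fact.out
  obtain ⟨n, hp, hq⟩ := FiniteField.card F p
  set C := LinearMap.ker (T - 1)
  set D := LinearMap.ker (∑ k ∈ Finset.range r, T ^ k)
  have hC : ∀ v ∈ C, T v = v := fun v hv => sub_eq_zero.1 hv
  have hDinv : Inv T D := by
    have h : (∑ k ∈ Finset.range r, T ^ k) = Polynomial.aeval T (∑ k ∈ Finset.range r, (Polynomial.X : Polynomial F) ^ k) := by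
      simp
    simp only [D, h]
    exact inv_ker_aeval _
  have hfix : ∀ v, T v = v → ∀ k : ℕ, (T ^ k) v = v := fun v hv k => by
    induction k with
    | zero => rfl
    | succ k ih => rw [pow_succ, Module.End.mul_apply, hv, ih]
  have hfree : Fpf T D := fun v hv h => by
    have h0 : (∑ k ∈ Finset.range r, T ^ k) v = 0 := hv
    rw [LinearMap.sum_apply, Finset.sum_congr rfl (fun k _ => hfix v h k), Finset.sum_const, Finset.card_range,
      ← Nat.cast_smul_eq_nsmul F, smul_eq_zero] at h0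
    exact h0.resolve_left hrF
  have hTk : ∀ (k : ℕ) u w, sympForm d F ((T ^ k) u) ((T ^ k) w) = sympForm d F u w := fun k => by
    induction k with
    | zero => simp
    | succ k ih => intro u w; rw [pow_succ', Module.End.mul_apply, Module.End.mul_apply, hT, ih]
  have hCD : ∀ u ∈ C, ∀ w ∈ D, sympForm d F u w = 0 := fun u hu w hw => by
    have h0 : sympBilin d F u ((∑ k ∈ Finset.range r, T ^ k) w) = 0 := by
      rw [show (∑ k ∈ Finset.range r, T ^ k) w = 0 from hw, map_zero]
    rw [LinearMap.sum_apply, map_sum, Finset.sum_congr rfl (g := fun _ => sympForm d F u w) (fun k _ => by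
      rw [sympBilin_apply]
      conv_lhs => rw [← hfix u (hC u hu) k]
      exact hTk k u w), Finset.sum_const, Finset.card_range,
      ← Nat.cast_smul_eq_nsmul F, smul_eq_mul, mul_eq_zero] at h0
    exact h0.resolve_left hrF
  have hsum : C ⊔ D = ⊤ := eq_top_iff.2 fun v _ => by
    obtain ⟨a, -, ha, b, -, hb, rfl⟩ := exists_split (T := T) hrF hTr (W := ⊤) (fun _ _ => trivial) (w := v) trivial
    exact Submodule.add_mem_sup (sub_eq_zero.2 ha) hb
  have hdisj : C ⊓ D = ⊥ := (Submodule.eq_bot_iff _).2 fun v hv => hfree v hv.2 (hC v hv.1)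
  have hdim : finrank F C + finrank F D = 2 * d := by
    have h := Submodule.finrank_sup_add_finrank_inf_eq C D
    rw [hsum, hdisj, finrank_bot, finrank_top, finrank_space] at h
    omega
  have hndC : ∀ u ∈ C, (∀ w ∈ C, sympBilin d F u w = 0) → u = 0 := fun u hu h => by
    refine eq_zero_of_forall_form fun v => ?_
    obtain ⟨a, ha, b, hb, rfl⟩ := Submodule.mem_sup.1 (hsum ▸ Submodule.mem_top : v ∈ C ⊔ D)
    rw [form_add_right, hCD u hu b hb, show sympForm d F u a = 0 from h a ha, add_zero]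
  obtain ⟨⟨c₁, hc₁⟩, hCex⟩ := Symp.exists_isotropic_alt sympBilin_alt C hndC
  obtain ⟨a, ha⟩ := ord_dvd_finrank hTr hDinv hfree
  rw [← hi] at ha
  suffices h : ∃ j l, m = j * i + l ∧ 2 * l ≤ finrank F C ∧
      ∃ U : Submodule F (Fin d ⊕ Fin d → F), U ≤ D ∧ Inv T U ∧ Isotropic (sympBilin d F) U ∧
        finrank F U = j * i by
    obtain ⟨j, l, hjl, hl, U, hUD, hUinv, hU, hdU⟩ := h
    obtain ⟨U', hU'C, hU', hdU'⟩ := hCex l hl
    refine ⟨U ⊔ U', ?_, isotropic_sup hU hU' fun u hu w hw => ?_, fun w hw => ?_⟩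
    · have h := Submodule.finrank_sup_add_finrank_inf_eq U U'
      rw [(Submodule.eq_bot_iff (U ⊓ U')).2 (fun v hv => hfree v (hUD hv.1) (hC v (hU'C hv.2))), finrank_bot, hdU,
        hdU'] at h
      omega
    · rw [form_swap w u, hCD w (hU'C hw) u (hUD hu), neg_zero]
    · obtain ⟨u, hu, u', hu', rfl⟩ := Submodule.mem_sup.1 hw
      rw [map_add, hC u' (hU'C hu')]
      exact Submodule.add_mem_sup (hUinv u hu) hu'
  have hdiv := Nat.div_add_mod m i
  have hB : ∀ u w, sympBilin d F (T u) (T w) = sympBilin d F u w := hT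
  rcases Nat.even_or_odd i with hie | hio
  · -- paired kinds
    rw [if_pos hie] at hc
    rw [hc] at hk
    have hcase' := hcase.resolve_left (Nat.not_odd_iff_even.2 hie)
    obtain ⟨h, hh⟩ := hie
    have hN : ((p ^ (n * h) : ℕ) : ZMod r) + 1 = 0 := by
      rw [pow_mul, ← hq, Nat.cast_pow]
      have hsq : ((Fintype.card F : ZMod r) ^ h) * ((Fintype.card F : ZMod r) ^ h) = 1 := by
        rw [← pow_add, ← hh, hi, pow_orderOf_eq_one]
      rcases mul_self_eq_one_iff.1 hsq with h1 | h1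
      · have := Nat.le_of_dvd (by omega) (orderOf_dvd_of_pow_eq_one h1)
        omega
      · rw [h1, neg_add_cancel]
    have hstep := stepData_paired (r := r) (B := sympBilin d F) (T := T) hsymm p (n * h)
      (fun c => by rw [RingHom.id_apply, pow_mul, ← hq, FiniteField.pow_card_pow]) hN
      (by rw [← pow_add, ← hi, hh, hq, ← pow_mul, mul_add]) hrF hTr hB
    have hn' := Nat.div_add_mod (2 * d) i
    have hki := Nat.mod_lt (2 * d) hipos
    have hmi := Nat.mod_lt m hipos
    set t := (r - 1) / i with ht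
    set N' := 2 * d / i with hN'
    set M' := m / i with hM'
    have haN : a ≤ N' := by
      by_contra hlt
      have : i * (N' + 1) ≤ i * a := Nat.mul_le_mul_left i (by omega)
      rw [mul_add, mul_one] at this
      omega
    set j := min ((a + 1 - t) / 2) M' with hj
    obtain ⟨U, hUD, hUinv, hU, hdU⟩ := exists_isotropic hsymm hstep hrF hTr hB hDinv hfree
      (a := a) (by rw [ha, ← hi, mul_comm]) j (by rw [← hi, ← ht]; omega)
    refine ⟨j, m - j * i, ?_, ?_, U, hUD, hUinv, hU, by rw [hdU, ← hi]⟩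
    · have : j * i ≤ M' * i := Nat.mul_le_mul_right _ (min_le_right _ _)
      rw [mul_comm M' i] at this
      omega
    · obtain ⟨u, hu⟩ : ∃ u, M' = j + u := ⟨M' - j, by omega⟩
      have h1 : i * (a + 2 * u) ≤ i * N' := Nat.mul_le_mul_left i (by omega)
      rw [hu] at hdiv
      rw [mul_add, mul_left_comm] at h1
      rw [mul_add] at hdiv
      rw [mul_comm j i]
      omega
  · -- no paired kinds
    rw [if_neg (Nat.not_even_iff_odd.2 hio)] at hc
    rw [hc] at hk
    have hstep := stepData_unpaired (r := r) (B := sympBilin d F) (T := T) p 0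
      (fun c => by simp) hrF (by simp) hTr hB (fun l h => by
        rw [pow_zero, Nat.cast_one, one_mul, add_eq_zero_iff_eq_neg] at h
        have hq1 : (Fintype.card F : ZMod r) ^ (2 * l) = 1 := by rw [mul_comm, pow_mul, h, neg_one_sq]
        have hdvd : i ∣ l := (Nat.Coprime.dvd_mul_left hio.coprime_two_right).1 (hi ▸ orderOf_dvd_of_pow_eq_one hq1)
        rw [orderOf_dvd_iff_pow_eq_one.1 (hi ▸ hdvd)] at h
        have h2' : ((2 : ℕ) : ZMod r) = 0 := by rw [Nat.cast_two]; linear_combination h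
        exact hr2 ((Nat.prime_dvd_prime_iff_eq hr.out Nat.prime_two).1 ((ZMod.natCast_eq_zero_iff _ _).1 h2')))
    obtain ⟨J, rfl⟩ : Even a := by
      have he : Even (i * a) := ⟨d - c₁, by omega⟩
      exact (Nat.even_mul.1 he).resolve_left (Nat.not_even_iff_odd.2 hio)
    set j := min J (m / i) with hj
    obtain ⟨U, hUD, hUinv, hU, hdU⟩ := exists_isotropic hsymm hstep hrF hTr hB hDinv hfree
      (a := J + J) (by rw [ha, ← hi, mul_comm]) j (by omega)
    have hji : j * i ≤ i * (m / i) := by rw [mul_comm i]; exact Nat.mul_le_mul_right _ (min_le_right _ _)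
    refine ⟨j, m - j * i, by omega, ?_, U, hUD, hUinv, hU, by rw [hdU, ← hi]⟩
    rw [mul_add] at ha
    rcases le_total J (m / i) with hJ | hJ
    · rw [hj, min_eq_left hJ, mul_comm J i]
      rw [hj, min_eq_left hJ, mul_comm J i] at hji
      omega
    · rw [hj, min_eq_right hJ, mul_comm (m / i) i]
      have h1 : 2 * d % (2 * i) = finrank F C % (2 * i) := by
        rw [← hdim, ha, show finrank F C + (i * J + i * J) = finrank F C + 2 * i * J by ring,
          Nat.add_mul_mod_self_left]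
      have h2 := Nat.mod_le (finrank F C) (2 * i)
      omega

/-- An element of odd prime order with small invariant isotropic subspaces. -/
theorem exists_witness {p : ℕ} [Fact p.Prime] [CharP F p] (hrp : r ≠ p) (hr2 : r ≠ 2) {m i c : ℕ} (hm : 1 ≤ m)
    (hmd : m ≤ d) (hi : i = orderOf (Fintype.card F : ZMod r)) (hc : c = if Even i then i else 2 * i)
    (hj : ∃ j < m, i ∣ 2 * (d - j))
    (hcond : ¬(i ≤ m ∧ 2 * (m % i) ≤ (2 * d) % c ∧ (Odd i ∨ (r - 1) / i + 2 * (m / i) ≤ (2 * d) / i))) :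
    ∃ T : Module.End F (Fin d ⊕ Fin d → F), (∀ u w, sympForm d F (T u) (T w) = sympForm d F u w) ∧ T ^ r = 1 ∧
      (∀ c : F, ∃ v, T v ≠ c • v) ∧ ∀ W : Submodule F (Fin d ⊕ Fin d → F), (∀ w ∈ W, T w ∈ W) →
        (∀ u ∈ W, ∀ w ∈ W, sympForm d F u w = 0) → finrank F W ≠ m := by
  classical
  have hrF : (r : F) ≠ 0 := CfsgLib.LinFix.natCast_ne_zero_of_ne hrp
  have hipos : 0 < i := hi ▸ ord_pos hrF
  obtain ⟨j₀, hj₀, hj₀d⟩ := hj
  have hmi := Nat.mod_lt m hipos
  have hdiv := Nat.div_add_mod m i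
  -- a block and the remainder
  obtain ⟨h, hih, hch, y, hy, hyr, hy1, hyf⟩ : ∃ h, ((Even i ∧ i = 2 * h) ∨ (Odd i ∧ i = h)) ∧ c = 2 * h ∧
      ∃ y : Module.End F (Fin h ⊕ Fin h → F), (∀ u w, sympForm h F (y u) (y w) = sympForm h F u w) ∧ y ^ r = 1 ∧
      y ≠ 1 ∧ Fpf y ⊤ := by
    rcases Nat.even_or_odd i with hie | hio
    · obtain ⟨h, hh⟩ := hie
      exact ⟨h, Or.inl ⟨⟨h, hh⟩, by omega⟩, by rw [hc, if_pos ⟨h, hh⟩]; omega,
        Symp.exists_block_even hrF (by omega)⟩
    · exact ⟨i, Or.inr ⟨hio, rfl⟩, by rw [hc, if_neg (Nat.not_even_iff_odd.2 hio)],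
        Symp.exists_block_odd hrF hi.symm⟩
  have hhpos : 0 < h := by omega
  have hcd : (2 * d) % c = 2 * (d % h) := by rw [hch, Nat.mul_mod_mul_left]
  have hdh := Nat.div_add_mod d h
  have hkm : d % h < m := by
    have h1 : h ∣ d - j₀ := by
      rcases hih with ⟨-, hh⟩ | ⟨hio, hh⟩
      · rw [hh] at hj₀d
        exact Nat.dvd_of_mul_dvd_mul_left two_pos hj₀d
      · subst hh
        exact (Nat.Coprime.dvd_mul_left hio.coprime_two_right).1 hj₀d
    have hjd : j₀ ≤ d := by omega
    obtain ⟨u, hu⟩ := h1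
    have h2 : d % h = j₀ % h := by
      conv_lhs => rw [show d = j₀ + h * u by omega, Nat.add_mul_mod_self_left]
    have := Nat.mod_le j₀ h
    omega
  have ha : 0 < d / h := by
    rcases Nat.eq_zero_or_pos (d / h) with h0 | h0
    · rw [h0, mul_zero] at hdh; omega
    · exact h0
  by_cases hl : i ≤ m ∧ 2 * (m % i) ≤ (2 * d) % c
  · -- too few pairs of isomorphic blocks
    obtain ⟨hie, hcase⟩ : Even i ∧ ¬ ((r - 1) / i + 2 * (m / i) ≤ (2 * d) / i) := by
      refine ⟨Nat.not_odd_iff_even.1 fun ho => hcond ⟨hl.1, hl.2, Or.inl ho⟩, fun hh => hcond ⟨hl.1, hl.2, Or.inr hh⟩⟩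
    have hh : i = 2 * h := by
      rcases hih with ⟨-, hh⟩ | ⟨hio, -⟩
      · exact hh
      · exact absurd hie (Nat.not_even_iff_odd.2 hio)
    have hn' : 2 * d / i = d / h := by rw [hh, Nat.mul_div_mul_left _ _ two_pos]
    set N' := d / h with hN'
    set t := (r - 1) / i with ht
    have htpos : 0 < t := by
      refine Nat.div_pos ?_ hipos
      refine Nat.le_of_dvd (by have := hr.out.two_le; omega) (hi ▸ orderOf_dvd_of_pow_eq_one ?_)
      exact ZMod.pow_card_sub_one_eq_one (cast_card_ne_zero hrF)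
    -- number of blocks
    set a := if N' ≤ t ∨ Even (N' - t) then N' else N' - 1 with hadef
    set s := min t a with hs
    have haN : a ≤ N' ∧ N' ≤ a + 1 ∧ 0 < a ∧ Even (a - s) := by
      rw [hs, hadef]
      split_ifs with hcd'
      · refine ⟨le_rfl, by omega, ha, ?_⟩
        rcases hcd' with h1 | h1
        · rw [min_eq_right h1]; simp
        · rcases le_total t N' with h2 | h2
          · rwa [min_eq_left h2]
          · rw [min_eq_right h2]; simp
      · push Not at hcd'
        obtain ⟨h1, h2⟩ := hcd'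
        refine ⟨by omega, by omega, by omega, ?_⟩
        rw [min_eq_left (show t ≤ N' - 1 by omega)]
        obtain ⟨u, hu⟩ := Nat.not_even_iff_odd.1 h2
        exact ⟨u, by omega⟩
    obtain ⟨hale, hage, hapos, P, hP⟩ := haN
    obtain ⟨κ, hκ0, hκ⟩ := exists_kinds (F := F) (r := r) hrF
    let e : Fin a → ℕ := fun l => if hlt : l.1 < s then κ ⟨l.1, by rw [← hi, ← ht]; omega⟩ else κ ⟨0, by rw [← hi, ← ht]; omega⟩
    let L : Finset (Fin a) := Finset.univ.filter fun l => 0 < l.1 ∧ l.1 < s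
    have hLcard : L.card = s - 1 := by
      rw [show s - 1 = s - 0 - 1 by omega, ← Nat.card_Ioo 0 s, ← Finset.card_map Fin.valEmbedding]
      congr 1
      ext x
      simp [L]
      exact ⟨fun ⟨l, hl, hlx⟩ => hlx ▸ hl, fun hx => ⟨⟨x, by omega⟩, hx, rfl⟩⟩
    obtain ⟨T, hTf, hTr', hTns, hTW⟩ := Symp.exists_bad hrF hr2 (d := d) (k₀ := d - a * h) (h := h) (a := a)
      (by have : a * h ≤ N' * h := Nat.mul_le_mul_right _ hale
          rw [mul_comm N' h] at this
          omega) hapos hy hyr hy1 hyf e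
      (fun l => by simp only [e]; split_ifs <;> exact hκ0 _) L (fun l hlL => by
        refine ⟨by omega, fun l' hne n heq => ?_⟩
        simp only [L, Finset.mem_filter, Finset.mem_univ, true_and] at hlL
        simp only [e, dif_pos hlL.2] at heq
        split_ifs at heq with h'
        · exact hne (Fin.ext (Fin.mk.inj_iff.1 (hκ _ _ n heq)).symm)
        · exact absurd (Fin.mk.inj_iff.1 (hκ _ _ n heq)) (by omega))
    refine ⟨T, hTf, hTr', hTns, fun W hW hiso hd' => ?_⟩
    obtain ⟨e₁, j, hcj, he₁, hjle⟩ := hTW W hW hiso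
    rw [← hi] at hcj hjle
    rw [hLcard] at hjle
    -- j ≤ P
    have hjP : j ≤ P := by
      by_contra hjP
      have h1 : (P + 1) * i ≤ j * i := Nat.mul_le_mul_right _ (by omega)
      rw [show a - (s - 1) = 2 * P + 1 by omega] at hjle
      rw [hh] at h1 hjle
      nlinarith
    have hPM : P < m / i := by
      have hMpos : 0 < m / i := Nat.div_pos hl.1 hipos
      rw [hn'] at hcase
      omega
    have he : e₁ ≤ d % h + h := by
      refine he₁.trans ?_
      have : (N' - 1) * h ≤ a * h := Nat.mul_le_mul_right _ (by omega)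
      rw [Nat.sub_mul, one_mul, mul_comm N' h] at this
      omega
    have h1 : (j + 1) * i ≤ (m / i) * i := Nat.mul_le_mul_right _ (by omega)
    rw [mul_comm (m / i) i, add_mul, one_mul] at h1
    have h2 := Nat.mod_lt d hhpos
    rw [hd'] at hcj
    omega
  · -- the fixed space is too small
    obtain ⟨T, hTf, hTr', hTns, hTW⟩ := Symp.exists_bad hrF hr2 (d := d) (k₀ := d % h) (h := h) (a := d / h)
      (by rw [mul_comm]; omega) ha hy hyr hy1 hyf (fun _ => 1) (fun _ => by simp) ∅ (fun l hl => absurd hl (by simp))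
    refine ⟨T, hTf, hTr', hTns, fun W hW hiso hd' => ?_⟩
    obtain ⟨e₁, j, hcj, he₁, -⟩ := hTW W hW hiso
    rw [← hi, hd'] at hcj
    by_cases him : i ≤ m
    · have hl' : ¬ 2 * (m % i) ≤ (2 * d) % c := fun hh => hl ⟨him, hh⟩
      rw [hcd] at hl'
      have h1 : m % i = e₁ := by
        rw [hcj, Nat.add_mul_mod_self_right, Nat.mod_eq_of_lt (by omega)]
      omega
    · rcases Nat.eq_zero_or_pos j with rfl | hj1
      · omega
      · have : i ≤ j * i := Nat.le_mul_of_pos_left _ hj1
        omega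

end

/-- Elements of prime order of PSp_n(q) with no fixed totally isotropic `m`-space. Here `T = PSp_n(q)` with `n = 2d ≥ 4`, `(n, q) ≠ (4, 2)`, realised through the symplectic matrices over the field `F` with `q` elements (preserving the standard alternating form); an element of `T` of prime order `r` is such a matrix `x` with `x^r` scalar and `x` not scalar. For `r ≠ p` let `i` be the multiplicative order of `q` modulo `r`, `c = i` for `i` even and `c = 2i` for `i` odd, and write `k = n mod c`, `ℓ = m mod i`, `ℓ' = m mod c`, `n' = ⌊n/i⌋`, `m' = ⌊m/i⌋`, `t = (r−1)/i`. Let `1 ≤ m ≤ n/2` and let `r` be a prime dividing the number of totally isotropic `m`-spaces. Then every element of `T` of order `r` fixes a totally isotropic `m`-space if and only if either (i) `r = 2 ≠ p` and (`m` is even or `q ≡ 1 (mod 4)`); or (ii) `r ≠ p`, `r > 2`, `i ≤ m`, `k ≥ 2ℓ`, and (`i` is odd or `n' − 2m' ≥ t`). -/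
theorem result {F : Type*} [Field F] [Fintype F] {p : ℕ} [Fact p.Prime] [CharP F p] {q : ℕ} (hq : Fintype.card F = q)
    (d m : ℕ) (hd : 2 ≤ d) (hT : (d, q) ≠ (2, 2)) (hm : 1 ≤ m) (hmd : m ≤ d)
    (r : ℕ) [Fact r.Prime]
    (hrΩ : r ∣ Nat.card {W : Submodule F (Fin d ⊕ Fin d → F) // Module.finrank F ↥W = m ∧ (∀ u ∈ W, ∀ v ∈ W, Cfsg.sympForm d F u v = 0)})
    (i c : ℕ) (hi : i = orderOf (q : ZMod r)) (hc : c = if Even i then i else 2 * i) :
    (∀ x : ↥(Matrix.symplecticGroup (Fin d) F),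
      (∃ z : F, ((x ^ r : ↥(Matrix.symplecticGroup (Fin d) F)) : Matrix (Fin d ⊕ Fin d) (Fin d ⊕ Fin d) F) = z • (1 : Matrix (Fin d ⊕ Fin d) (Fin d ⊕ Fin d) F)) →
      (∀ z : F, (x : Matrix (Fin d ⊕ Fin d) (Fin d ⊕ Fin d) F) ≠ z • (1 : Matrix (Fin d ⊕ Fin d) (Fin d ⊕ Fin d) F)) →
      ∃ W : Submodule F (Fin d ⊕ Fin d → F), Module.finrank F ↥W = m ∧ (∀ u ∈ W, ∀ v ∈ W, Cfsg.sympForm d F u v = 0) ∧
        W.map (Matrix.toLin' (x : Matrix (Fin d ⊕ Fin d) (Fin d ⊕ Fin d) F)) ≤ W) ↔
    ((r = 2 ∧ p ≠ 2 ∧ (Even m ∨ q % 4 = 1)) ∨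
     (r ≠ p ∧ 2 < r ∧ i ≤ m ∧ 2 * (m % i) ≤ (2 * d) % c ∧ (Odd i ∨ (r - 1) / i + 2 * (m / i) ≤ (2 * d) / i))) := by
  classical
  subst hq
  by_cases hrp : r = p
  · subst hrp
    exact absurd hrΩ (Symp.not_char_dvd hmd)
  by_cases hr2 : r = 2
  · subst hr2
    have hp2 : p ≠ 2 := fun h => hrp h.symm
    have hchar : ringChar F ≠ 2 := by rw [ringChar.eq F p]; exact hp2
    have h2 : (2 : F) ≠ 0 := Ring.two_ne_zero hchar
    constructor
    · intro hall
      refine Or.inl ⟨rfl, hp2, ?_⟩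
      by_contra hcon
      push Not at hcon
      obtain ⟨hmodd, hq4⟩ := hcon
      have hqodd := FiniteField.odd_card_of_char_ne_two hchar
      have hns : ¬ IsSquare (-1 : F) := by
        rw [FiniteField.isSquare_neg_one_iff]; omega
      have hJ2 : (Matrix.J (Fin d) F) * Matrix.J (Fin d) F = -1 := Matrix.J_squared _ _
      have hnsc : ∀ z : F, Matrix.J (Fin d) F ≠ z • 1 := fun z h => by
        have := congrFun (congrFun h (Sum.inr ⟨0, by omega⟩)) (Sum.inl ⟨0, by omega⟩)
        simp [Matrix.J] at this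
      obtain ⟨W, hWm, -, hW⟩ := hall ⟨Matrix.J (Fin d) F, SymplecticGroup.J_mem _ _⟩
        ⟨-1, by rw [SubmonoidClass.coe_pow, sq, hJ2, neg_smul, one_smul]⟩ hnsc
      let R : W →ₗ[F] W := (Matrix.toLin' (Matrix.J (Fin d) F)).restrict fun w hw => hW ⟨w, hw, rfl⟩
      have hR : R * R = (-1 : F) • (1 : Module.End F W) := LinearMap.ext fun w => Subtype.ext (by
        show Matrix.toLin' (Matrix.J (Fin d) F) (Matrix.toLin' (Matrix.J (Fin d) F) w) = (-1 : F) • (w : Fin d ⊕ Fin d → F)
        rw [Matrix.toLin'_apply, Matrix.toLin'_apply, Matrix.mulVec_mulVec, hJ2, Matrix.neg_mulVec,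
          Matrix.one_mulVec, neg_smul, one_smul])
      have hdet := congrArg LinearMap.det hR
      rw [map_mul, LinearMap.det_smul, map_one, mul_one, hWm, (Nat.not_even_iff_odd.1 hmodd).neg_one_pow] at hdet
      exact hns ⟨LinearMap.det R, hdet.symm⟩
    · rintro (⟨-, -, hcase⟩ | ⟨-, h, -⟩)
      swap
      · exact absurd h (lt_irrefl _)
      rintro x ⟨z, hz⟩ -
      set T := Matrix.toLin' (x : Matrix (Fin d ⊕ Fin d) (Fin d ⊕ Fin d) F) with hTdef
      have hT : ∀ u w, sympForm d F (T u) (T w) = sympForm d F u w := fun u w => by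
        simp only [hTdef, Matrix.toLin'_apply]; exact form_mulVec x.2 u w
      have hTT : ∀ v, T (T v) = z • v := fun v => by
        rw [SubmonoidClass.coe_pow, sq] at hz
        rw [hTdef, Matrix.toLin'_apply, Matrix.toLin'_apply, Matrix.mulVec_mulVec, hz, Matrix.smul_mulVec,
          Matrix.one_mulVec]
      have hzz : z * z = 1 := by
        obtain ⟨w, hw⟩ : ∃ w, sympForm d F (Pi.single (Sum.inl ⟨0, by omega⟩) 1) w ≠ 0 := by
          by_contra hh
          push Not at hh
          have := congrFun (eq_zero_of_forall_form hh) (Sum.inl ⟨0, by omega⟩)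
          simp at this
        have h0 := hT (T (Pi.single (Sum.inl ⟨0, by omega⟩) 1)) (T w)
        rw [hTT, hTT, form_smul_left, form_smul_right, hT] at h0
        exact mul_right_cancel₀ hw (by rw [one_mul]; linear_combination h0)
      rcases mul_self_eq_one_iff.1 hzz with rfl | rfl
      · obtain ⟨W, h1, h2', h3⟩ := exists_of_invol h2 T hT (fun v => by rw [hTT, one_smul]) hmd
        exact ⟨W, h1, h2', map_le_of_inv h3⟩
      · by_cases hsq : IsSquare (-1 : F)
        · obtain ⟨s, hs⟩ := hsq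
          obtain ⟨W, h1, h2', h3⟩ := exists_of_split h2 T hT hs.symm (fun v => by rw [hTT, neg_one_smul]) hmd
          exact ⟨W, h1, h2', map_le_of_inv h3⟩
        · obtain ⟨j, rfl⟩ : Even m := hcase.resolve_right fun h => hsq (by
            rw [FiniteField.isSquare_neg_one_iff]; omega)
          obtain ⟨W, h1, h2', h3⟩ := Symp.exists_complex_isotropic hchar sympBilin_alt hsq (by ring) hTT
            (fun u w => hT u w) j (by rw [finrank_space]; omega)
          exact ⟨W, by rw [h3]; ring, h2', map_le_of_inv h1⟩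
  -- odd primes other than the characteristic
  have hr3 : 2 < r := lt_of_le_of_ne (Fact.out : r.Prime).two_le (Ne.symm hr2)
  constructor
  · intro hall
    refine Or.inr ⟨hrp, hr3, ?_⟩
    by_contra hcond
    obtain ⟨T, hTf, hTr, hTns, hTW⟩ := exists_witness (p := p) hrp hr2 hm hmd hi hc
      (by rw [hi]; exact Symp.exists_ord_dvd hmd hrΩ) hcond
    obtain ⟨x, hx⟩ := exists_symp_of_map T hTf
    obtain ⟨W, hWm, hWiso, hW⟩ := hall x ⟨1, by
        refine Matrix.toLin'.injective ?_
        rw [SubmonoidClass.coe_pow, Matrix.toLin'_pow, hx, hTr, one_smul, Matrix.toLin'_one]; rfl⟩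
      (fun z hz => by
        obtain ⟨v, hv⟩ := hTns z
        apply hv
        rw [← hx, hz, Matrix.toLin'_apply, Matrix.smul_mulVec, Matrix.one_mulVec])
    exact hTW W (fun w hw => hx ▸ hW ⟨w, hw, rfl⟩) hWiso hWm
  · rintro (⟨h, -⟩ | ⟨-, -, him, hk, hcase⟩)
    · exact absurd h hr2
    rintro x ⟨z, hz⟩ -
    set T := Matrix.toLin' (x : Matrix (Fin d ⊕ Fin d) (Fin d ⊕ Fin d) F) with hTdef
    have hT : ∀ u w, sympForm d F (T u) (T w) = sympForm d F u w := fun u w => by
      simp only [hTdef, Matrix.toLin'_apply]; exact form_mulVec x.2 u w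
    have hTr : T ^ r = z • 1 := by
      rw [hTdef, ← Matrix.toLin'_pow, ← SubmonoidClass.coe_pow, hz, map_smul, Matrix.toLin'_one]; rfl
    have hTk : ∀ (k : ℕ) u w, sympForm d F ((T ^ k) u) ((T ^ k) w) = sympForm d F u w := fun k => by
      induction k with
      | zero => simp
      | succ k ih => intro u w; rw [pow_succ', Module.End.mul_apply, Module.End.mul_apply, hT, ih]
    have hzz : z * z = 1 := by
      obtain ⟨w, hw⟩ : ∃ w, sympForm d F (Pi.single (Sum.inl ⟨0, by omega⟩) 1) w ≠ 0 := by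
        by_contra hh
        push Not at hh
        have := congrFun (eq_zero_of_forall_form hh) (Sum.inl ⟨0, by omega⟩)
        simp at this
      have h0 := hTk r (Pi.single (Sum.inl ⟨0, by omega⟩) 1) w
      rw [hTr] at h0
      simp [form_smul_left, form_smul_right] at h0
      exact mul_right_cancel₀ hw (by rw [one_mul]; linear_combination h0)
    obtain ⟨W, h1, h2', h3⟩ := exists_of_prime (p := p) hrp hr2 (z • T)
      (fun u w => by simp only [LinearMap.smul_apply, form_smul_left, form_smul_right, ← mul_assoc, hzz, one_mul, hT])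
      (by
        rw [smul_pow, hTr, smul_smul, ← pow_succ]
        obtain ⟨k, hk'⟩ := (Fact.out : r.Prime).odd_of_ne_two hr2
        rw [hk', show 2 * k + 1 + 1 = 2 * (k + 1) by ring, pow_mul, sq, hzz, one_pow, one_smul])
      hmd hi hc him hk hcase
    refine ⟨W, h1, h2', map_le_of_inv fun w hw => ?_⟩
    have := W.smul_mem z (h3 w hw)
    rwa [LinearMap.smul_apply, smul_smul, hzz, one_smul] at this

end Cfsg.Agent.S5955
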