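import Cfsg.Statements.S5956
import Cfsg.Agent.Lib.PrimeFix.SympUnip

set_option autoImplicit false
open scoped MatrixGroups
open Cfsg

namespace Cfsg.Agent.S5956

open Module CfsgLib.PrimeFix CfsgLib.PrimeFix.Symp CfsgLib.Linear.Symp CfsgLib.SympGeom

/-- Elements of prime order of PSp_n(q) with no fixed nondegenerate `m`-space. Here `T = PSp_n(q)` with `n = 2d ≥ 4`, `(n, q) ≠ (4, 2)`, realised through the symplectic matrices over the field `F` with `q` elements (preserving the standard alternating form); an element of `T` of prime order `r` is such a matrix `x` with `x^r` scalar and `x` not scalar. For `r ≠ p` let `i` be the multiplicative order of `q` modulo `r`, `c = i` for `i` even and `c = 2i` for `i` odd, and write `k = n mod c`, `ℓ = m mod i`, `ℓ' = m mod c`, `n' = ⌊n/i⌋`, `m' = ⌊m/i⌋`, `t = (r−1)/i`. Let `m` be even with `2 ≤ m < n/2` and let `r` be a prime dividing the number of nondegenerate `m`-spaces. Then every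 element of `T` of order `r` fixes a nondegenerate `m`-space if and only if one of: (i) `r = p > 2` and every partition of `n` into parts of size at most `p` in which every odd part has even multiplicity contains (as a sub-multiset) a partition of `m` in which every odd part has even multiplicity; (ii) `r = p = 2` and (`n ≡ 2 (mod 4)` or `m ≡ 0 (mod 4)`); (iii) `r = 2 ≠ p`; (iv) `r ≠ p`, `r > 2`, `c ≤ m` and `k ≥ ℓ'`. -/
theorem result {F : Type*} [Field F] [Fintype F] {p : ℕ} [Fact p.Prime] [CharP F p] {q : ℕ} (hq : Fintype.card F = q)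
    (d m : ℕ) (hd : 2 ≤ d) (hT : (d, q) ≠ (2, 2)) (hm : 2 ≤ m) (hme : Even m) (hmd : m < d)
    (r : ℕ) [Fact r.Prime]
    (hrΩ : r ∣ Nat.card {W : Submodule F (Fin d ⊕ Fin d → F) // Module.finrank F ↥W = m ∧ (∀ u ∈ W, u ≠ 0 → ∃ v ∈ W, Cfsg.sympForm d F u v ≠ 0)})
    (i c : ℕ) (hi : i = orderOf (q : ZMod r)) (hc : c = if Even i then i else 2 * i) :
    (∀ x : ↥(Matrix.symplecticGroup (Fin d) F),
      (∃ z : F, ((x ^ r : ↥(Matrix.symplecticGroup (Fin d) F)) : Matrix (Fin d ⊕ Fin d) (Fin d ⊕ Fin d) F) = z • (1 : Matrix (Fin d ⊕ Fin d) (Fin d ⊕ Fin d) F)) →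
      (∀ z : F, (x : Matrix (Fin d ⊕ Fin d) (Fin d ⊕ Fin d) F) ≠ z • (1 : Matrix (Fin d ⊕ Fin d) (Fin d ⊕ Fin d) F)) →
      ∃ W : Submodule F (Fin d ⊕ Fin d → F), Module.finrank F ↥W = m ∧ (∀ u ∈ W, u ≠ 0 → ∃ v ∈ W, Cfsg.sympForm d F u v ≠ 0) ∧
        W.map (Matrix.toLin' (x : Matrix (Fin d ⊕ Fin d) (Fin d ⊕ Fin d) F)) ≤ W) ↔
    ((r = p ∧ 2 < p ∧ (∀ μ : Multiset ℕ, (∀ a ∈ μ, 0 < a ∧ a ≤ p) → (∀ a : ℕ, Odd a → Even (μ.count a)) → μ.sum = 2 * d →
        ∃ ν : Multiset ℕ, ν ≤ μ ∧ ν.sum = m ∧ ∀ a : ℕ, Odd a → Even (ν.count a))) ∨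
     (r = p ∧ p = 2 ∧ ((2 * d) % 4 = 2 ∨ m % 4 = 0)) ∨
     (r = 2 ∧ p ≠ 2) ∨
     (r ≠ p ∧ 2 < r ∧ c ≤ m ∧ m % c ≤ (2 * d) % c)) := by
  classical
  have hm2 : m ≤ 2 * d := by omega
  have hd0 : 0 < d := by omega
  -- the statement in terms of endomorphisms
  have hbridge : (∀ x : ↥(Matrix.symplecticGroup (Fin d) F),
      (∃ z : F, ((x ^ r : ↥(Matrix.symplecticGroup (Fin d) F)) : Matrix (Fin d ⊕ Fin d) (Fin d ⊕ Fin d) F) = z • (1 : Matrix (Fin d ⊕ Fin d) (Fin d ⊕ Fin d) F)) →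
      (∀ z : F, (x : Matrix (Fin d ⊕ Fin d) (Fin d ⊕ Fin d) F) ≠ z • (1 : Matrix (Fin d ⊕ Fin d) (Fin d ⊕ Fin d) F)) →
      ∃ W : Submodule F (Fin d ⊕ Fin d → F), Module.finrank F ↥W = m ∧ (∀ u ∈ W, u ≠ 0 → ∃ v ∈ W, Cfsg.sympForm d F u v ≠ 0) ∧
        W.map (Matrix.toLin' (x : Matrix (Fin d ⊕ Fin d) (Fin d ⊕ Fin d) F)) ≤ W) ↔
      (∀ (T : Module.End F (Fin d ⊕ Fin d → F)) (z : F),
        (∀ u w, sympBilin d F (T u) (T w) = sympBilin d F u w) → T ^ r = z • 1 →
        ∃ W : Submodule F (Fin d ⊕ Fin d → F), finrank F W = m ∧ NonDeg (sympBilin d F) W ∧ Inv T W) := by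
    constructor
    · intro h T z hT hTz
      by_cases hsc : ∃ c : F, ∀ v, T v = c • v
      · obtain ⟨c, hc⟩ := hsc
        exact exists_scalar hc hme hm2
      let x : ↥(Matrix.symplecticGroup (Fin d) F) := ⟨LinearMap.toMatrix' T, mem_of_form_mulVec fun u v => by
        rw [← Matrix.toLin'_apply, ← Matrix.toLin'_apply, Matrix.toLin'_toMatrix']
        exact hT u v⟩
      have hxT : Matrix.toLin' x.1 = T := Matrix.toLin'_toMatrix' T
      obtain ⟨W, hW1, hW2, hW3⟩ := h x ⟨z, by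
          refine Matrix.toLin'.injective ?_
          rw [SubmonoidClass.coe_pow, Matrix.toLin'_pow, hxT, hTz, map_smul, Matrix.toLin'_one]
          rfl⟩
        (fun c hc => hsc ⟨c, fun v => by
          rw [← hxT, hc, Matrix.toLin'_apply, Matrix.smul_mulVec, Matrix.one_mulVec]⟩)
      exact ⟨W, hW1, (nd_iff W).2 hW2, fun w hw => hxT ▸ hW3 ⟨w, hw, rfl⟩⟩
    · rintro h x ⟨z, hz⟩ -
      obtain ⟨W, hW1, hW2, hW3⟩ := h (Matrix.toLin' (x : Matrix (Fin d ⊕ Fin d) (Fin d ⊕ Fin d) F)) z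
        (fun u w => by simp only [Matrix.toLin'_apply, sympBilin_apply]; exact form_mulVec x.2 u w)
        (by rw [← Matrix.toLin'_pow, ← SubmonoidClass.coe_pow, hz, map_smul, Matrix.toLin'_one]; rfl)
      exact ⟨W, hW1, (nd_iff W).1 hW2, by rintro _ ⟨w, hw, rfl⟩; exact hW3 w hw⟩
  rw [hbridge]
  have hnorm : Odd r → (∀ T : Module.End F (Fin d ⊕ Fin d → F),
      (∀ u w, sympBilin d F (T u) (T w) = sympBilin d F u w) → T ^ r = 1 →
      ∃ W : Submodule F (Fin d ⊕ Fin d → F), finrank F W = m ∧ NonDeg (sympBilin d F) W ∧ Inv T W) →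
      ∀ (T : Module.End F (Fin d ⊕ Fin d → F)) (z : F),
        (∀ u w, sympBilin d F (T u) (T w) = sympBilin d F u w) → T ^ r = z • 1 →
        ∃ W : Submodule F (Fin d ⊕ Fin d → F), finrank F W = m ∧ NonDeg (sympBilin d F) W ∧ Inv T W := by
    intro ho h T z hT hTz
    have hzz := scalar_sq hd0 hT hTz
    obtain ⟨W, h1, h2, h3⟩ := h (z • T) (isometry_smul hT hzz) (by
      obtain ⟨k, hk⟩ := ho
      rw [_root_.smul_pow, hTz, smul_smul, hk, pow_succ, pow_mul, pow_two, hzz, one_pow, one_mul, hzz, one_smul])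
    exact ⟨W, h1, h2, inv_of_smul hzz h3⟩
  by_cases hrp : r = p
  · subst hrp
    by_cases hr2 : r = 2
    · subst hr2
      constructor
      · intro h
        refine Or.inr (Or.inl ⟨rfl, rfl, ?_⟩)
        by_contra hcon
        push Not at hcon
        obtain ⟨e, he⟩ := hme
        obtain ⟨T, hT, hT2, hno⟩ := exists_no_nonDeg_char_two (F := F) (d := d) (Nat.even_iff.2 (by omega))
          (m := m) (by omega)
        obtain ⟨W, h1, h2, h3⟩ := h T 1 hT (by rw [one_smul]; exact hT2)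
        exact hno W h3 h2 h1
      · rintro (⟨-, h, -⟩ | ⟨-, -, hcond⟩ | ⟨-, h⟩ | ⟨h, -⟩)
        · exact absurd h (lt_irrefl _)
        · intro T z hT hTz
          have hz1 : z = 1 := by
            rcases mul_self_eq_one_iff.1 (scalar_sq hd0 hT hTz) with rfl | rfl
            · rfl
            · exact CharTwo.neg_eq (1 : F)
          exact exists_nonDeg_char_two hT (by rw [hTz, hz1, one_smul]) hme hm2 hcond
        · exact absurd rfl h
        · exact absurd rfl h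
    have hr3 : 2 < r := lt_of_le_of_ne (Fact.out : r.Prime).two_le (Ne.symm hr2)
    constructor
    · intro h
      refine Or.inl ⟨rfl, hr3, ?_⟩
      by_contra hcon
      push Not at hcon
      obtain ⟨μ, hμ, hμe, hμs, hno⟩ := hcon
      obtain ⟨T, hT, hTp, hno'⟩ := exists_no_nonDeg_char (F := F) (d := d) (m := m) hμ hμe hμs hno
      obtain ⟨W, h1, h2, h3⟩ := h T 1 hT (by rw [one_smul]; exact hTp)
      exact hno' W h3 h2 h1
    · rintro (⟨-, -, hcond⟩ | ⟨-, h, -⟩ | ⟨h, -⟩ | ⟨h, -⟩)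
      · exact hnorm ((Fact.out : r.Prime).odd_of_ne_two hr2) fun T hT hTp => exists_nonDeg_char hr3 hT hTp hcond
      · exact absurd h hr2
      · exact absurd h hr2
      · exact absurd rfl h
  by_cases hr2 : r = 2
  · subst hr2
    exact iff_of_true (fun T z hT hTz => exists_nonDeg_of_sq (p := p) (Ne.symm hrp) hd0 hT hTz hme hm2)
      (Or.inr (Or.inr (Or.inl ⟨rfl, Ne.symm hrp⟩)))
  have hr3 : 2 < r := lt_of_le_of_ne (Fact.out : r.Prime).two_le (Ne.symm hr2)
  have hrq : ¬ r ∣ Fintype.card F := fun hdvd => by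
    obtain ⟨k, -, hk⟩ := FiniteField.card F p
    rw [hk] at hdvd
    exact hrp ((Nat.prime_dvd_prime_iff_eq Fact.out Fact.out).1 ((Fact.out : r.Prime).dvd_of_dvd_pow hdvd))
  have hi' : i = orderOf (Fintype.card F : ZMod r) := by rw [hq]; exact hi
  obtain ⟨j, hj1, hj2, hj3⟩ := exists_dvd_nonDeg hrq hme hm2 hrΩ
  rw [← hi'] at hj3
  have hcj : c ∣ 2 * j := by
    rw [hc]
    split_ifs with he
    · exact hj3
    · exact mul_dvd_mul_left 2 ((Nat.Coprime.dvd_mul_left (Nat.not_even_iff_odd.1 he).coprime_two_right).1 hj3)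
  obtain ⟨u, hu⟩ := hcj
  have hkm : 2 * d % c < m := by
    rw [show 2 * d = (2 * d - 2 * j) + c * u by omega, Nat.add_mul_mod_self_left]
    have := Nat.mod_le (2 * d - 2 * j) c
    omega
  constructor
  · intro h
    refine Or.inr (Or.inr (Or.inr ⟨hrp, hr3, ?_⟩))
    by_contra hcon
    obtain ⟨T, hT, hTr, hno⟩ := exists_no_nonDeg (p := p) (d := d) (m := m) hrp hr2 hi' hc (fun hk => hcon ⟨by
      by_contra hlt
      rw [Nat.mod_eq_of_lt (not_le.1 hlt)] at hk
      omega, hk⟩)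
    obtain ⟨W, h1, h2, h3⟩ := h T 1 hT (by rw [one_smul]; exact hTr)
    exact hno W h3 h2 h1
  · rintro (⟨h, -⟩ | ⟨h, -⟩ | ⟨h, -⟩ | ⟨-, -, -, hk⟩)
    · exact absurd h hrp
    · exact absurd h hrp
    · exact absurd h hr2
    · exact hnorm ((Fact.out : r.Prime).odd_of_ne_two hr2) fun T hT hTr =>
        exists_nonDeg_of_mod_le (p := p) hrp hr2 hT hTr hi' hc hme hm2 hk

end Cfsg.Agent.S5956
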