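import Cfsg.Statements.S5957
-- import your own Cfsg.Agent.* helpers here

set_option autoImplicit false
open scoped MatrixGroups
open Cfsg

namespace Cfsg.Agent.S5957

open scoped MatrixGroups

variable {F V : Type*} [Field F] [AddCommGroup V] [Module F V]

/-- A map with square a scalar is monomial with cycles of length at most two. -/
theorem exists_monomial_basis [FiniteDimensional F V] (T : V →ₗ[F] V) (z : F) (hz : z ≠ 0)
    (hT : ∀ v, T (T v) = z • v) (hsq : ∀ w : F, w * w = z → w ≠ 0) :
    ∃ (k l : ℕ) (b : Module.Basis ((Fin k × Fin 2) ⊕ Fin l) F V),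
      (∀ i, T (b (Sum.inl (i, 0))) = b (Sum.inl (i, 1))) ∧
      (∀ i, T (b (Sum.inl (i, 1))) = z • b (Sum.inl (i, 0))) ∧
      (∀ j, ∃ c : F, c ≠ 0 ∧ T (b (Sum.inr j)) = c • b (Sum.inr j)) := by
  classical
  by_cases hs : ∃ w : F, w * w = z
  swap
  · -- no eigenvalue: pairs `v, T v`
    push Not at hs
    have step : ∀ j : ℕ, ∀ f : Fin j → V,
        LinearIndependent F (fun x : Fin j × Fin 2 => if x.2 = 0 then f x.1 else T (f x.1)) →
        (Submodule.span F (Set.range (fun x : Fin j × Fin 2 => if x.2 = 0 then f x.1 else T (f x.1))) = ⊤) ∨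
        ∃ g : Fin (j + 1) → V,
          LinearIndependent F (fun x : Fin (j + 1) × Fin 2 => if x.2 = 0 then g x.1 else T (g x.1)) := by
      intro j f hf
      refine or_iff_not_imp_left.2 fun hne => ?_
      set P := Submodule.span F (Set.range (fun x : Fin j × Fin 2 => if x.2 = 0 then f x.1 else T (f x.1))) with hP
      obtain ⟨v, hv⟩ : ∃ v, v ∉ P := by
        by_contra hc
        push Not at hc
        exact hne (eq_top_iff.2 fun x _ => hc x)
      have hTP : ∀ y ∈ P, T y ∈ P := by
        intro y hy
        induction hy using Submodule.span_induction with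
        | mem y hy =>
          obtain ⟨⟨i, c⟩, rfl⟩ := hy
          fin_cases c
          · exact Submodule.subset_span ⟨(i, 1), by simp⟩
          · simp only [Fin.mk_one, if_neg (by decide : (1 : Fin 2) ≠ 0), hT]
            exact P.smul_mem z (Submodule.subset_span ⟨(i, 0), by simp⟩)
        | zero => simp
        | add y y' _ _ h h' => rw [map_add]; exact P.add_mem h h'
        | smul c y _ h => rw [map_smul]; exact P.smul_mem c h
      have hpair : ∀ a b : F, a • v + b • T v ∈ P → a = 0 ∧ b = 0 := by
        intro a b hab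
        have h1 := hTP _ hab
        rw [map_add, map_smul, map_smul, hT, smul_smul] at h1
        have h2 := P.sub_mem (P.smul_mem a hab) (P.smul_mem b h1)
        have h3 : a • (a • v + b • T v) - b • (a • T v + (b * z) • v) = (a * a - b * b * z) • v := by
          module
        rw [h3] at h2
        have h4 : a * a - b * b * z = 0 := by
          by_contra h
          exact hv ((P.smul_mem_iff h).1 h2)
        by_cases hb : b = 0
        · subst hb; exact ⟨mul_self_eq_zero.1 (by linear_combination h4), rfl⟩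
        · exact absurd (by field_simp; linear_combination h4) (hs (a / b))
      refine ⟨Fin.cons v f, Fintype.linearIndependent_iff.2 fun g hg => ?_⟩
      rw [Fintype.sum_prod_type, Fin.sum_univ_succ] at hg
      simp only [Fin.cons_zero, Fin.cons_succ, Fin.sum_univ_two,
        if_neg (by decide : (1 : Fin 2) ≠ 0), if_pos] at hg
      have hmem : g (0, 0) • v + g (0, 1) • T v ∈ P := by
        rw [eq_neg_of_add_eq_zero_left hg]
        refine P.neg_mem (P.sum_mem fun i _ => P.add_mem ?_ ?_)
        · exact P.smul_mem _ (Submodule.subset_span ⟨(i, 0), by simp⟩)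
        · exact P.smul_mem _ (Submodule.subset_span ⟨(i, 1), by simp⟩)
      obtain ⟨h0, h1⟩ := hpair _ _ hmem
      rw [h0, h1, zero_smul, zero_smul, add_zero, zero_add] at hg
      have hrest := Fintype.linearIndependent_iff.1 hf (fun x => g (x.1.succ, x.2)) (by
        rw [Fintype.sum_prod_type]
        simpa [Fin.sum_univ_two] using hg)
      rintro ⟨i, c⟩
      induction i using Fin.cases with
      | zero => fin_cases c <;> assumption
      | succ i => exact hrest (i, c)
    let P : ℕ → Prop := fun j => ∃ f : Fin j → V,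
      LinearIndependent F (fun x : Fin j × Fin 2 => if x.2 = 0 then f x.1 else T (f x.1))
    have hbound : ∀ j, P j → j ≤ Module.finrank F V := fun j ⟨f, hf⟩ => by
      have := hf.fintype_card_le_finrank
      simp at this
      omega
    obtain ⟨j, hj, hmax⟩ := Nat.findGreatest_spec (P := P) (Nat.zero_le (Module.finrank F V))
      ⟨Fin.elim0, linearIndependent_empty_type⟩ |> fun h => (⟨_, h, fun m hm => Nat.le_findGreatest (hbound m hm) hm⟩ : ∃ j, P j ∧ ∀ m, P m → m ≤ j)
    obtain ⟨f, hf⟩ := hj
    rcases step j f hf with htop | hnext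
    · refine ⟨j, 0, (Module.Basis.mk hf htop.ge).reindex (Equiv.sumEmpty (Fin j × Fin 2) (Fin 0)).symm,
        fun i => ?_, fun i => ?_, fun i => i.elim0⟩
      · simp
      · simp [hT]
    · exact absurd (hmax _ hnext) (by omega)
  obtain ⟨w, hw⟩ := hs
  have hw0 := hsq w hw
  -- the nilpotent or semisimple part
  by_cases h2 : (2 : F) = 0
  · set N : V →ₗ[F] V := T + w • LinearMap.id with hN
    have hN2 : ∀ v, N (N v) = 0 := by
      intro v
      have h22 : ∀ y : V, y + y = 0 := fun y => by rw [← two_smul F y, h2, zero_smul]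
      simp only [hN, LinearMap.add_apply, LinearMap.smul_apply, LinearMap.id_apply, map_add,
        map_smul, hT, smul_add, smul_smul, hw]
      rw [add_add_add_comm, add_comm (w • T v) (z • v), add_add_add_comm, h22, h22, add_zero]
    obtain ⟨C, hC⟩ := Submodule.exists_isCompl (LinearMap.ker N)
    obtain ⟨D, hD⟩ := Submodule.exists_isCompl (Submodule.comap (LinearMap.ker N).subtype (LinearMap.range N))
    let bc := Module.finBasis F C
    let bd := Module.finBasis F D
    let v : (Fin (Module.finrank F C) × Fin 2) ⊕ Fin (Module.finrank F D) → V :=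
      Sum.elim (fun x => if x.2 = 0 then (bc x.1 : V) else T (bc x.1 : V)) (fun j => ((bd j : D) : LinearMap.ker N))
    have hTeq : ∀ y, T y = N y - w • y := fun y => by simp [hN]
    have hli : LinearIndependent F v := by
      rw [Fintype.linearIndependent_iff]
      intro g hg
      rw [Fintype.sum_sum_type, Fintype.sum_prod_type] at hg
      simp only [v, Sum.elim_inl, Sum.elim_inr, Fin.sum_univ_two, if_neg (by decide : (1 : Fin 2) ≠ 0),
        if_pos] at hg
      set d : D := ∑ j, g (Sum.inr j) • bd j with hd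
      set c : C := ∑ i, (g (Sum.inl (i, 0)) - w * g (Sum.inl (i, 1))) • bc i with hc
      set c1 : C := ∑ i, g (Sum.inl (i, 1)) • bc i with hc1
      have hsum : (c : V) + N (c1 : V) + ((d : LinearMap.ker N) : V) = 0 := by
        rw [← hg]
        simp only [hc, hc1, hd, Submodule.coe_sum, Submodule.coe_smul, map_sum, map_smul, hTeq]
        rw [← Finset.sum_add_distrib]
        congr 1
        exact Finset.sum_congr rfl fun i _ => by module
      have hcker : (c : V) ∈ LinearMap.ker N := by
        have h := congrArg N hsum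
        rw [map_add, map_add, hN2, (d : LinearMap.ker N).2, map_zero, add_zero, add_zero] at h
        exact h
      have hc0 : (c : V) = 0 := Submodule.disjoint_def.1 hC.disjoint _ hcker c.2
      rw [hc0, zero_add] at hsum
      have hdim : (d : LinearMap.ker N) ∈ Submodule.comap (LinearMap.ker N).subtype (LinearMap.range N) := by
        refine ⟨-(c1 : V), ?_⟩
        rw [map_neg]
        exact (eq_neg_of_add_eq_zero_right hsum).symm
      have hd0 : (d : LinearMap.ker N) = 0 := Submodule.disjoint_def.1 hD.disjoint _ hdim d.2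
      rw [hd0, Submodule.coe_zero, add_zero] at hsum
      have hc10 : (c1 : V) = 0 := Submodule.disjoint_def.1 hC.disjoint _ hsum c1.2
      have e1 := Fintype.linearIndependent_iff.1 bd.linearIndependent _ (Subtype.ext hd0 : d = 0)
      have e2 := Fintype.linearIndependent_iff.1 bc.linearIndependent _ (Subtype.ext hc10 : c1 = 0)
      have e3 := Fintype.linearIndependent_iff.1 bc.linearIndependent _ (Subtype.ext hc0 : c = 0)
      rintro (⟨i, e⟩ | j)
      · fin_cases e
        · have := e3 i; rw [e2 i, mul_zero, sub_zero] at this; exact this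
        · exact e2 i
      · exact e1 j
    have hspan : ⊤ ≤ Submodule.span F (Set.range v) := by
      have hcC : ∀ y : C, (y : V) ∈ Submodule.span F (Set.range v) ∧ T (y : V) ∈ Submodule.span F (Set.range v) := by
        intro y
        rw [← bc.sum_repr y]
        simp only [Submodule.coe_sum, Submodule.coe_smul, map_sum, map_smul]
        constructor <;> refine Submodule.sum_mem _ fun i _ => Submodule.smul_mem _ _ (Submodule.subset_span ?_)
        · exact ⟨Sum.inl (i, 0), by simp [v]⟩
        · exact ⟨Sum.inl (i, 1), by simp [v]⟩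
      intro y _
      obtain ⟨c, hc, k, hk, rfl⟩ : ∃ c ∈ C, ∃ k ∈ LinearMap.ker N, c + k = y :=
        Submodule.mem_sup.1 (by rw [sup_comm, hC.sup_eq_top]; exact Submodule.mem_top)
      refine Submodule.add_mem _ (hcC ⟨c, hc⟩).1 ?_
      obtain ⟨i, hi, e, he, hie⟩ := Submodule.mem_sup.1
        (show (⟨k, hk⟩ : LinearMap.ker N) ∈ Submodule.comap (LinearMap.ker N).subtype (LinearMap.range N) ⊔ D by
          rw [hD.sup_eq_top]; exact Submodule.mem_top)
      have hk' : k = (i : V) + (e : V) := by rw [← Submodule.coe_add, hie]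
      rw [hk']
      refine Submodule.add_mem _ ?_ ?_
      · obtain ⟨u, hu⟩ := hi
        obtain ⟨c', hc', k', hk', rfl⟩ : ∃ c ∈ C, ∃ k ∈ LinearMap.ker N, c + k = u :=
          Submodule.mem_sup.1 (by rw [sup_comm, hC.sup_eq_top]; exact Submodule.mem_top)
        rw [map_add, (LinearMap.mem_ker.1 hk'), add_zero] at hu
        change (i : V) ∈ _
        rw [show (i : V) = N c' from hu.symm, show N c' = T c' + w • c' by simp [hN]]
        exact Submodule.add_mem _ (hcC ⟨c', hc'⟩).2 (Submodule.smul_mem _ _ (hcC ⟨c', hc'⟩).1)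
      · rw [show (e : V) = ((⟨e, he⟩ : D) : LinearMap.ker N) from rfl, ← bd.sum_repr ⟨e, he⟩]
        simp only [Submodule.coe_sum, Submodule.coe_smul]
        exact Submodule.sum_mem _ fun j _ => Submodule.smul_mem _ _
          (Submodule.subset_span ⟨Sum.inr j, by simp [v]⟩)
    refine ⟨_, _, Module.Basis.mk hli hspan, fun i => ?_, fun i => ?_, fun j => ⟨-w, neg_ne_zero.2 hw0, ?_⟩⟩
    · simp [v]
    · simp [v, hT]
    · simp only [Module.Basis.mk_apply, v, Sum.elim_inr]
      rw [hTeq, LinearMap.mem_ker.1 (bd j : LinearMap.ker N).2, zero_sub, neg_smul]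
  · -- semisimple with two eigenvalues
    let A := LinearMap.ker (T - w • LinearMap.id)
    let B := LinearMap.ker (T + w • LinearMap.id)
    have hA : ∀ y ∈ A, T y = w • y := fun y hy => by
      simpa [A, sub_eq_zero] using hy
    have hB : ∀ y ∈ B, T y = (-w) • y := fun y hy => by
      rw [neg_smul]; exact eq_neg_of_add_eq_zero_left (by simpa [B] using hy)
    have hcompl : IsCompl A B := by
      constructor
      · rw [Submodule.disjoint_def]
        intro y hy hy'
        have h := (hA y hy).symm.trans (hB y hy')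
        have h' : ((2 : F) * w) • y = 0 := by linear_combination (norm := module) h
        exact (smul_eq_zero.1 h').resolve_left (mul_ne_zero h2 hw0)
      · rw [codisjoint_iff, eq_top_iff]
        intro y _
        have h2w : (2 : F) * w ≠ 0 := mul_ne_zero h2 hw0
        refine Submodule.mem_sup.2 ⟨((2 : F) * w)⁻¹ • (w • y + T y), ?_, ((2 : F) * w)⁻¹ • (w • y - T y), ?_, ?_⟩
        · simp only [A, LinearMap.mem_ker, LinearMap.sub_apply, LinearMap.smul_apply, LinearMap.id_apply,
            map_smul, map_add, hT, ← hw]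
          module
        · simp only [B, LinearMap.mem_ker, LinearMap.add_apply, LinearMap.smul_apply, LinearMap.id_apply,
            map_smul, map_sub, hT, ← hw]
          module
        · rw [← smul_add, show w • y + T y + (w • y - T y) = ((2 : F) * w) • y by module, smul_smul,
            inv_mul_cancel₀ h2w, one_smul]
    let b0 := ((Module.finBasis F A).prod (Module.finBasis F B)).map (A.prodEquivOfIsCompl B hcompl)
    refine ⟨0, Module.finrank F A + Module.finrank F B,
      b0.reindex (finSumFinEquiv.trans (Equiv.emptySum (Fin 0 × Fin 2) _).symm),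
      fun i => i.elim0, fun i => i.elim0, fun j => ?_⟩
    obtain ⟨j, rfl⟩ := finSumFinEquiv.surjective j
    rcases j with j | j
    · refine ⟨w, hw0, ?_⟩
      simp only [Module.Basis.reindex_apply, Equiv.symm_trans_apply, Equiv.symm_symm,
        Equiv.emptySum_apply_inr, Equiv.symm_apply_apply]
      exact hA _ (by simp [b0])
    · refine ⟨-w, neg_ne_zero.2 hw0, ?_⟩
      simp only [Module.Basis.reindex_apply, Equiv.symm_trans_apply, Equiv.symm_symm,
        Equiv.emptySum_apply_inr, Equiv.symm_apply_apply]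
      exact hB _ (by simp [b0])

/-- Blocks for an involutory permutation with `k` two-cycles among `a * t` points. -/
theorem exists_block_map (a t k l : ℕ) (ha : 1 ≤ a) (hkl : 2 * k + l = a * t) :
    ∃ (e : (Fin k × Fin 2) ⊕ Fin l ≃ Fin t × Fin a) (σ : Equiv.Perm (Fin t)),
      (∀ i, σ (e (Sum.inl (i, 0))).1 = (e (Sum.inl (i, 1))).1) ∧
      (∀ i, σ (e (Sum.inl (i, 1))).1 = (e (Sum.inl (i, 0))).1) ∧
      (∀ j, σ (e (Sum.inr j)).1 = (e (Sum.inr j)).1) := by
  classical
  obtain ⟨s, hs, hsk, hrest⟩ : ∃ s, 2 * s ≤ t ∧ s * a ≤ k ∧ k - s * a ≤ (t - 2 * s) * (a / 2) := by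
    rcases Nat.even_or_odd a with ⟨h, rfl⟩ | ⟨h, rfl⟩
    · refine ⟨0, Nat.zero_le _, by simp, ?_⟩
      have h1 : (h + h) / 2 = h := by omega
      have h2 : (h + h) * t = 2 * (t * h) := by ring
      simp only [h1, Nat.zero_mul, Nat.sub_zero, Nat.mul_zero]
      omega
    · have h1 : (2 * h + 1) / 2 = h := by omega
      set A := 2 * h + 1 with hA
      have hd := Nat.div_add_mod k A
      have hm := Nat.mod_lt k (show 0 < A by omega)
      have hle : 2 * (k / A) ≤ t := by
        refine Nat.le_of_mul_le_mul_left (show A * (2 * (k / A)) ≤ A * t by rw [Nat.mul_left_comm]; omega) ?_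
        omega
      refine ⟨k / A, hle, Nat.div_mul_le_self k A, ?_⟩
      rw [h1]
      obtain ⟨u, hu⟩ := Nat.exists_eq_add_of_le hle
      rw [hu, Nat.add_sub_cancel_left, Nat.mul_comm (k / A) A]
      have h3 : A * t = 2 * (A * (k / A)) + A * u := by rw [hu]; ring
      rcases u with _ | _ | u
      · simp only [Nat.mul_zero] at h3; omega
      · simp only [zero_add, Nat.mul_one] at h3; omega
      · have h4 : 2 * h ≤ (u + 1 + 1) * h := Nat.mul_le_mul_right h (by omega)
        omega
  set h := a / 2 with hh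
  have hh2 : 2 * h ≤ a := Nat.mul_div_le a 2
  have hdivlt : ∀ i : Fin k, ¬ (i : ℕ) < s * a → ((i : ℕ) - s * a) / h < t - 2 * s := by
    intro i hi
    apply Nat.div_lt_of_lt_mul
    have := i.2
    rw [Nat.mul_comm h]; omega
  have hpos : ∀ i : Fin k, ¬ (i : ℕ) < s * a → 0 < h := by
    intro i hi
    by_contra hc
    have h0 : h = 0 := by omega
    have := i.2
    simp only [h0, Nat.mul_zero] at hrest
    omega
  have hdiva : ∀ i : Fin k, (i : ℕ) < s * a → (i : ℕ) / a < s := fun i hi =>
    Nat.div_lt_of_lt_mul (by rw [Nat.mul_comm]; exact hi)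
  let φ : Fin k × Fin 2 → Fin t × Fin a := fun x =>
    if hx : (x.1 : ℕ) < s * a then
      (⟨2 * ((x.1 : ℕ) / a) + x.2, by have := hdiva _ hx; have := x.2.2; omega⟩,
        ⟨(x.1 : ℕ) % a, Nat.mod_lt _ ha⟩)
    else
      (⟨2 * s + ((x.1 : ℕ) - s * a) / h, by have := hdivlt _ hx; omega⟩,
        ⟨2 * (((x.1 : ℕ) - s * a) % h) + x.2, by
          have := Nat.mod_lt ((x.1 : ℕ) - s * a) (hpos _ hx); have := x.2.2; omega⟩)
  have hφ : Function.Injective φ := by
    intro x x' he
    have hc := x.2.2
    have hc' := x'.2.2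
    simp only [φ] at he
    split_ifs at he with h1 h2 <;> simp only [Prod.ext_iff, Fin.ext_iff] at he
    · have e1 := Nat.div_add_mod (x.1 : ℕ) a
      have e2 := Nat.div_add_mod (x'.1 : ℕ) a
      have e3 : (x.1 : ℕ) / a = (x'.1 : ℕ) / a := by omega
      rw [e3, he.2] at e1
      exact Prod.ext (Fin.ext (by omega)) (Fin.ext (by omega))
    · have := hdiva _ h1
      have he1 := he.1
      generalize ((x'.1 : ℕ) - s * a) / h = w at he1
      omega
    · have := hdiva _ ‹_›
      have he1 := he.1
      generalize ((x.1 : ℕ) - s * a) / h = w at he1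
      omega
    · have e1 := Nat.div_add_mod ((x.1 : ℕ) - s * a) h
      have e2 := Nat.div_add_mod ((x'.1 : ℕ) - s * a) h
      have e3 : ((x.1 : ℕ) - s * a) / h = ((x'.1 : ℕ) - s * a) / h := by omega
      have e4 : ((x.1 : ℕ) - s * a) % h = ((x'.1 : ℕ) - s * a) % h := by omega
      rw [e3, e4] at e1
      exact Prod.ext (Fin.ext (by omega)) (Fin.ext (by omega))
  have hcard : Fintype.card {y // y ∉ Set.range φ} = l := by
    rw [Fintype.card_subtype_compl]
    have : Fintype.card {y // y ∈ Set.range φ} = k * 2 := by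
      rw [← Fintype.card_congr (Equiv.ofInjective φ hφ), Fintype.card_prod, Fintype.card_fin, Fintype.card_fin]
    rw [this, Fintype.card_prod, Fintype.card_fin, Fintype.card_fin, Nat.mul_comm t a]
    omega
  let e : (Fin k × Fin 2) ⊕ Fin l ≃ Fin t × Fin a :=
    ((Equiv.ofInjective φ hφ).sumCongr (Fintype.equivFinOfCardEq hcard).symm).trans
      (Equiv.sumCompl (fun y => y ∈ Set.range φ))
  have he1 : ∀ x, e (Sum.inl x) = φ x := fun x => rfl
  let σf : Fin t → Fin t := fun b => if hb : (b : ℕ) < 2 * s then
    ⟨if (b : ℕ) % 2 = 0 then (b : ℕ) + 1 else (b : ℕ) - 1, by split_ifs <;> omega⟩ else b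
  have hσ : Function.Involutive σf := by
    intro b
    by_cases hb : (b : ℕ) < 2 * s
    · have : (σf b : ℕ) = if (b : ℕ) % 2 = 0 then (b : ℕ) + 1 else (b : ℕ) - 1 := by simp [σf, hb]
      have h' : (σf b : ℕ) < 2 * s := by rw [this]; split_ifs <;> omega
      apply Fin.ext
      conv_lhs => rw [show σf (σf b) = ⟨if (σf b : ℕ) % 2 = 0 then (σf b : ℕ) + 1 else (σf b : ℕ) - 1,
        by split_ifs <;> omega⟩ from by simp [σf, h']]
      change (if (σf b : ℕ) % 2 = 0 then (σf b : ℕ) + 1 else (σf b : ℕ) - 1) = _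
      rw [this]; split_ifs <;> omega
    · simp [σf, hb]
  refine ⟨e, hσ.toPerm σf, fun i => ?_, fun i => ?_, fun j => ?_⟩
  · rw [he1, he1, Function.Involutive.coe_toPerm]
    by_cases hi : (i : ℕ) < s * a
    · have := hdiva _ hi
      have h' : 2 * ((i : ℕ) / a) < 2 * s := by omega
      simp [φ, σf, hi, h']
    · simp [φ, σf, hi]
  · rw [he1, he1, Function.Involutive.coe_toPerm]
    by_cases hi : (i : ℕ) < s * a
    · have := hdiva _ hi
      have h' : 2 * ((i : ℕ) / a) + 1 < 2 * s := by omega
      simp [φ, σf, hi, h']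
    · simp [φ, σf, hi]
  · set y := e (Sum.inr j) with hy
    have hnot : y ∉ Set.range φ := by
      rintro ⟨x, hx⟩
      exact absurd (e.injective ((he1 x).trans hx)) (by simp)
    rw [Function.Involutive.coe_toPerm]
    by_cases hb : (y.1 : ℕ) < 2 * s
    · exfalso
      apply hnot
      have hlt : (y.1 : ℕ) / 2 * a + (y.2 : ℕ) < s * a := by
        have h1 : (y.1 : ℕ) / 2 + 1 ≤ s := by omega
        have h2 := Nat.mul_le_mul_right a h1
        rw [Nat.add_mul, one_mul] at h2
        have := y.2.2
        omega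
      refine ⟨(⟨(y.1 : ℕ) / 2 * a + (y.2 : ℕ), lt_of_lt_of_le hlt hsk⟩, ⟨(y.1 : ℕ) % 2, Nat.mod_lt _ two_pos⟩), ?_⟩
      have hy2 := y.2.2
      have e1 : ((y.1 : ℕ) / 2 * a + (y.2 : ℕ)) / a = (y.1 : ℕ) / 2 := by
        rw [Nat.mul_comm, Nat.mul_add_div (show a > 0 by omega), Nat.div_eq_of_lt hy2, add_zero]
      have e2 : ((y.1 : ℕ) / 2 * a + (y.2 : ℕ)) % a = (y.2 : ℕ) := by
        rw [Nat.mul_comm, Nat.mul_add_mod, Nat.mod_eq_of_lt hy2]
      simp only [φ, dif_pos hlt]
      apply Prod.ext <;> apply Fin.ext <;> simp [e1, e2] <;> omega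
    · simp [σf, hb]

/-- Involutions of PSL_n(q) and imprimitive subgroups. Here `T = PSL_n(F)` for a field `F` with `q = p^f` elements (`n ≥ 2`, `(n, q) ≠ (2, 2), (2, 3)`), `n = a·t` with `t ≥ 2`, and Ω is the set of direct-sum decompositions of `F^n` into `t` subspaces of dimension `a` (unordered; their number is the number of ordered ones divided by `t!`), whose stabilizers are the imprimitive subgroups of type GL_a(q) ≀ S_t (maximal except in some small cases; maximality is not assumed); an element of `T` of prime order `r` (a matrix `x` of determinant 1 with `x^r` scalar, `x` not scalar) fixes a point of Ω when it permutes the summands of some such decomposition. If the number of such decompositions is even, then every involution of `T` stabilizes one of them (the action is 2-elusive). -/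
theorem result {F : Type*} [Field F] [Fintype F] {p : ℕ} [Fact p.Prime] [CharP F p] {q : ℕ} (hq : Fintype.card F = q)
    (n a t : ℕ) (hn : 2 ≤ n) (hT : (n, q) ≠ (2, 2) ∧ (n, q) ≠ (2, 3)) (hat : n = a * t) (ha : 1 ≤ a) (ht : 2 ≤ t)
    (hΩ : 2 ∣ Nat.card {D : Fin t → Submodule F (Fin n → F) // Cfsg.Geo.IsMDecomposition a D} / Nat.factorial t)
    (x : Matrix.SpecialLinearGroup (Fin n) F)
    (hx1 : ∃ z : F, ((x ^ 2 : Matrix.SpecialLinearGroup (Fin n) F) : Matrix (Fin n) (Fin n) F) = z • (1 : Matrix (Fin n) (Fin n) F))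
    (hx2 : ∀ z : F, (x : Matrix (Fin n) (Fin n) F) ≠ z • (1 : Matrix (Fin n) (Fin n) F)) :
    ∃ D : Fin t → Submodule F (Fin n → F), Cfsg.Geo.IsMDecomposition a D ∧
        ∃ σ : Equiv.Perm (Fin t), ∀ j, (D j).map (Matrix.toLin' (x : Matrix (Fin n) (Fin n) F)) = D (σ j) := by
  obtain ⟨z, hz⟩ := hx1
  set X : Matrix (Fin n) (Fin n) F := (x : Matrix (Fin n) (Fin n) F) with hX
  rw [Matrix.SpecialLinearGroup.coe_pow, ← hX] at hz
  let T : (Fin n → F) →ₗ[F] (Fin n → F) := Matrix.toLin' X
  have hT : ∀ v, T (T v) = z • v := fun v => by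
    simp only [T, Matrix.toLin'_apply]
    rw [Matrix.mulVec_mulVec, ← pow_two, hz, Matrix.smul_mulVec, Matrix.one_mulVec]
  have hz0 : z ≠ 0 := by
    intro h0
    have h := congrArg Matrix.det hz
    rw [h0, zero_smul, Matrix.det_pow, x.2] at h
    haveI : Nonempty (Fin n) := ⟨⟨0, by omega⟩⟩
    rw [Matrix.det_zero] at h
    simp at h
  obtain ⟨k, l, b, hb0, hb1, hb2⟩ := exists_monomial_basis T z hz0 hT
    (fun w hw h0 => hz0 (by rw [← hw, h0, zero_mul]))
  have hcard : 2 * k + l = a * t := by
    have h := Module.finrank_eq_card_basis b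
    simp at h
    omega
  obtain ⟨e, σ, hσ0, hσ1, hσ2⟩ := exists_block_map a t k l ha hcard
  set g : (Fin k × Fin 2) ⊕ Fin l → Fin t := fun i => (e i).1 with hg
  let D : Fin t → Submodule F (Fin n → F) := fun j => Submodule.span F (b '' {i | g i = j})
  have hmap : ∀ i, ∃ (c : F) (i' : _), c ≠ 0 ∧ σ (g i) = g i' ∧ T (b i) = c • b i' := by
    rintro (⟨i, c⟩ | j)
    · fin_cases c
      · exact ⟨1, Sum.inl (i, 1), one_ne_zero, hσ0 i, by rw [one_smul]; exact hb0 i⟩
      · exact ⟨z, Sum.inl (i, 0), hz0, hσ1 i, hb1 i⟩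
    · obtain ⟨c, hc, hcj⟩ := hb2 j
      exact ⟨c, Sum.inr j, hc, hσ2 j, hcj⟩
  have hle : ∀ j, (D j).map T ≤ D (σ j) := by
    intro j
    rw [Submodule.map_span_le]
    rintro _ ⟨i, hi, rfl⟩
    obtain ⟨c, i', -, hgi, hTi⟩ := hmap i
    rw [hTi]
    refine Submodule.smul_mem _ _ (Submodule.subset_span ⟨i', ?_, rfl⟩)
    change g i' = σ j
    rw [← hgi, show g i = j from hi]
  have hrank : ∀ j, Module.finrank F (D j) = a := by
    intro j
    have hli : LinearIndependent F (fun i : {i // g i = j} => b i) :=
      b.linearIndependent.comp _ Subtype.val_injective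
    have h := finrank_span_eq_card hli
    have hr : Set.range (fun i : {i // g i = j} => b i) = b '' {i | g i = j} := by
      ext y; simp
    rw [hr] at h
    rw [h]
    calc Fintype.card {i // g i = j} = Fintype.card {p : Fin t × Fin a // p.1 = j} :=
          Fintype.card_congr (e.subtypeEquiv fun i => Iff.rfl)
      _ = Fintype.card (Fin a) := Fintype.card_congr
          { toFun := fun p => p.1.2
            invFun := fun y => ⟨(j, y), rfl⟩
            left_inv := fun p => Subtype.ext (Prod.ext p.2.symm rfl)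
            right_inv := fun _ => rfl }
      _ = a := Fintype.card_fin a
  have hinj : Function.Injective T := by
    intro u v huv
    have h := congrArg T huv
    rw [hT, hT] at h
    exact smul_right_injective _ hz0 h
  refine ⟨D, ⟨ht, ha, hrank, ?_, ?_⟩, σ, fun j => ?_⟩
  · intro j
    refine (b.linearIndependent.disjoint_span_image (s := {i | g i = j}) (t := {i | g i ≠ j})
      (Set.disjoint_left.2 fun i h1 h2 => h2 h1)).mono_right ?_
    refine iSup₂_le fun j' hj' => Submodule.span_mono (Set.image_mono ?_)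
    intro i (hi : g i = j') (h : g i = j)
    exact hj' (hi.symm.trans h)
  · rw [eq_top_iff, ← b.span_eq, Submodule.span_le]
    rintro _ ⟨i, rfl⟩
    exact le_iSup D (g i) (Submodule.subset_span ⟨i, rfl, rfl⟩)
  · refine Submodule.eq_of_le_of_finrank_eq (hle j) ?_
    rw [← (Submodule.equivMapOfInjective T hinj (D j)).finrank_eq, hrank, hrank]

end Cfsg.Agent.S5957
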