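import Cfsg.Statements.S5959
import Cfsg.Agent.Lib.LinFix.Elements
import Cfsg.Agent.Lib.LinFix.Jordan
-- import your own Cfsg.Agent.* helpers here

set_option autoImplicit false
open scoped MatrixGroups
open Cfsg

namespace Cfsg.Agent.S5959

open CfsgLib.LinFix

/-- Elements of order `p` of PSL_n(q) and imprimitive subgroups: a necessary condition. Here `T = PSL_n(F)` for a field `F` with `q = p^f` elements (`n ≥ 2`, `(n, q) ≠ (2, 2), (2, 3)`), `n = a·t` with `t ≥ 2`, and Ω is the set of direct-sum decompositions of `F^n` into `t` subspaces of dimension `a` (unordered; their number is the number of ordered ones divided by `t!`), whose stabilizers are the imprimitive subgroups of type GL_a(q) ≀ S_t (maximal except in some small cases; maximality is not assumed); an element of `T` of prime order `r` (a matrix `x` of determinant 1 with `x^r` scalar, `x` not scalar) fixes a point of Ω when it permutes the summands of some such decomposition. Suppose `p > 2` divides the number of such decompositions. If every element of `T`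 of order `p` stabilizes such a decomposition, then every partition of `n` into parts of size at most `p` in which the part `p` occurs fewer than `a` times contains (as a sub-multiset) a partition of `a`. -/
theorem result {F : Type*} [Field F] [Fintype F] {p : ℕ} [Fact p.Prime] [CharP F p] {q : ℕ} (hq : Fintype.card F = q)
    (n a t : ℕ) (hn : 2 ≤ n) (hT : (n, q) ≠ (2, 2) ∧ (n, q) ≠ (2, 3)) (hat : n = a * t) (ha : 1 ≤ a) (ht : 2 ≤ t)
    (hp : 2 < p) (hΩ : p ∣ Nat.card {D : Fin t → Submodule F (Fin n → F) // Cfsg.Geo.IsMDecomposition a D} / Nat.factorial t)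
    (h : ∀ x : Matrix.SpecialLinearGroup (Fin n) F,
      (∃ z : F, ((x ^ p : Matrix.SpecialLinearGroup (Fin n) F) : Matrix (Fin n) (Fin n) F) = z • (1 : Matrix (Fin n) (Fin n) F)) →
      (∀ z : F, (x : Matrix (Fin n) (Fin n) F) ≠ z • (1 : Matrix (Fin n) (Fin n) F)) →
      ∃ D : Fin t → Submodule F (Fin n → F), Cfsg.Geo.IsMDecomposition a D ∧
        ∃ σ : Equiv.Perm (Fin t), ∀ j, (D j).map (Matrix.toLin' (x : Matrix (Fin n) (Fin n) F)) = D (σ j)) :
    (∀ μ : Multiset ℕ, (∀ b ∈ μ, 0 < b ∧ b ≤ p) → μ.sum = n → μ.count p < a → ∃ ν : Multiset ℕ, ν ≤ μ ∧ ν.sum = a) :=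
  by
  intro μ hμ hsum hcount
  have hlen : Module.finrank F (Fin n → F) = n := Module.finrank_fin_fun F
  obtain ⟨x, hxp, hrank⟩ := exists_sl_blocks (F := F) μ (fun b hb => (hμ b hb).2) hsum
  set T := Matrix.toLin' (x : Matrix (Fin n) (Fin n) F) with hTdef
  have hxp' := pow_eq_of_toLin' (c := (1 : F)) (by rw [one_smul]; exact hxp)
  by_cases hsc : ∃ z : F, (x : Matrix (Fin n) (Fin n) F) = z • 1
  · obtain ⟨z, hz⟩ := hsc
    have hinv : ∀ W : Submodule F (Fin n → F), Inv T W := fun W v hv => by
      rw [hTdef, hz, map_smul, Matrix.toLin'_one]; exact W.smul_mem z hv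
    obtain ⟨U, -, hU⟩ := exists_le_finrank (⊤ : Submodule F (Fin n → F)) (a := a)
      (by rw [finrank_top, hlen, hat]; exact Nat.le_mul_of_pos_right a (by omega))
    obtain ⟨W, hW⟩ := Submodule.exists_isCompl U
    obtain ⟨ν, hν, hνs⟩ := exists_sub_blocks hxp (fun b hb => (hμ b hb).1) hrank (hinv U) (hinv W) hW
    exact ⟨ν, hν, hνs.trans hU⟩
  push Not at hsc
  obtain ⟨D, hD, σ, hσ⟩ := h x ⟨1, hxp'⟩ hsc
  have hne : ∀ j, D j ≠ ⊥ := fun j hj => by
    have := hD.finrank_eq j
    rw [hj, finrank_bot] at this
    omega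
  have hinj : Function.Injective D := hD.indep.injective hne
  have hpow : ∀ (i : ℕ) j, (D j).map (T ^ i) = D ((σ ^ i) j) := by
    intro i
    induction i with
    | zero => intro j; rw [pow_zero, pow_zero, Module.End.one_eq_id, Submodule.map_id]; rfl
    | succ i ih =>
      intro j
      rw [pow_succ', Module.End.mul_eq_comp, Submodule.map_comp, ih, hσ, pow_succ', Equiv.Perm.mul_apply]
  have hσp : σ ^ p = 1 := Equiv.ext fun j => hinj (by
    rw [← hpow, hxp, Module.End.one_eq_id, Submodule.map_id]; rfl)
  -- every summand is invariant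
  have hfix : ∀ j, σ j = j := by
    intro j
    by_contra hj
    -- the images of `D j` are independent
    have horbit : ∀ i i' : ℕ, i < i' → i' < p → (σ ^ i) j ≠ (σ ^ i') j := by
      intro i i' hii hi' he
      have h1 : (σ ^ (i' - i)) j = j := by
        apply (σ ^ i).injective
        rw [← Equiv.Perm.mul_apply, ← pow_add, Nat.add_sub_cancel' hii.le, he]
      obtain ⟨k, hk⟩ := exists_pow_eq_self_of_coprime (x := σ) (n := i' - i) (by
        rcases (Nat.dvd_prime Fact.out).1 (orderOf_dvd_of_pow_eq_one hσp) with h | h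
        · rw [h]; exact Nat.coprime_one_right _
        · rw [h]
          refine Nat.coprime_comm.1 ((Fact.out : p.Prime).coprime_iff_not_dvd.2 fun hd => ?_)
          have := Nat.le_of_dvd (by omega) hd
          omega)
      refine hj ?_
      conv_lhs => rw [← hk]
      clear hk
      induction k with
      | zero => rfl
      | succ k ih => rw [pow_succ, Equiv.Perm.mul_apply, h1, ih]
    have hinj' : Set.InjOn (fun v => (∑ i ∈ Finset.range p, T ^ i) v) (D j) := by
      intro v hv w hw hvw
      have h0 : (∑ i ∈ Finset.range p, T ^ i) (v - w) = 0 := by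
        rw [map_sub, sub_eq_zero]; exact hvw
      have hu : v - w ∈ D j := (D j).sub_mem hv hw
      rw [LinearMap.sum_apply, ← Finset.sum_erase_add _ _ (Finset.mem_range.2 (Fact.out : p.Prime).pos),
        pow_zero, Module.End.one_apply] at h0
      have hmem : v - w ∈ ⨆ (l) (_ : l ≠ j), D l := by
        rw [eq_neg_of_add_eq_zero_right h0]
        refine Submodule.neg_mem _ (Submodule.sum_mem _ fun i hi => ?_)
        rw [Finset.mem_erase, Finset.mem_range] at hi
        refine Submodule.mem_iSup_of_mem ((σ ^ i) j) (Submodule.mem_iSup_of_mem ?_ ?_)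
        · exact fun he => horbit 0 i (Nat.pos_of_ne_zero hi.1) hi.2 (by rw [he]; rfl)
        · rw [← hpow]; exact ⟨_, hu, rfl⟩
      exact sub_eq_zero.1 (Submodule.disjoint_def.1 (hD.indep j) _ hu hmem)
    have h1 : a ≤ Module.finrank F (LinearMap.range ((T - 1) ^ (p - 1))) := by
      rw [sub_one_pow_pred_char, ← hD.finrank_eq j]
      refine LinearMap.finrank_le_finrank_of_injective
        (f := ((∑ i ∈ Finset.range p, T ^ i).domRestrict (D j)).codRestrict _
          (fun v => ⟨v.1, rfl⟩)) fun v w hvw => Subtype.ext (hinj' v.2 w.2 ?_)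
      exact congrArg Subtype.val hvw
    rw [hrank, count_eq_of_le (Fact.out : p.Prime).pos fun b hb => (hμ b hb).2] at h1
    omega
  have hinv : ∀ j, Inv T (D j) := fun j => inv_of_map_le (by rw [hσ, hfix])
  obtain ⟨j⟩ : Nonempty (Fin t) := ⟨⟨0, by omega⟩⟩
  have hc : IsCompl (D j) (⨆ (l) (_ : l ≠ j), D l) :=
    ⟨hD.indep j, codisjoint_iff.2 (le_antisymm le_top (hD.iSup_eq_top.symm.le.trans (iSup_le fun l => by
      by_cases hl : l = j
      · exact hl ▸ le_sup_left
      · exact le_sup_of_le_right (le_iSup_of_le l (le_iSup_of_le hl le_rfl)))))⟩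
  have hW : Inv T (⨆ (l) (_ : l ≠ j), D l) := inv_of_map_le (by
    simp only [Submodule.map_iSup]
    exact iSup_mono fun l => iSup_mono fun _ => (hinv l).map_le)
  obtain ⟨ν, hν, hνs⟩ := exists_sub_blocks hxp (fun b hb => (hμ b hb).1) hrank (hinv j) hW hc
  exact ⟨ν, hν, hνs.trans (hD.finrank_eq j)⟩

end Cfsg.Agent.S5959
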