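import Cfsg.Statements.S5960
import Cfsg.Agent.Lib.LinFix.SympPlanesInvol
import Cfsg.Agent.Lib.SympGeom.Basic
import Cfsg.Agent.S5957

set_option autoImplicit false
open scoped MatrixGroups
open Cfsg

namespace Cfsg.Agent.S5960

/-- Involutions of PSp_n(q) and imprimitive subgroups. Here `T = PSp_n(q)`, `n = 2d ≥ 4`, `(n, q) ≠ (4, 2)`, realised through the symplectic matrices over the field `F` with `q` elements and the standard alternating form; `n = a·t` with `a` even and `t ≥ 2`, and Ω is the (nonempty) set of orthogonal decompositions of `F^n` into `t` nondegenerate subspaces of dimension `a` (unordered; counted as ordered ones divided by `t!`), whose stabilizers are the imprimitive subgroups of type Sp_a(q) ≀ S_t (maximality is not assumed); an element of `T` of prime order `r` (a symplectic matrix `x` with `x^r` scalar, `x` not scalar) fixes a point of Ω when it permutes the summands of some such decomposition. If the number of such decompositions is even, then every involution of `T`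 stabilizes one of them (the action is 2-elusive). -/
theorem result {F : Type*} [Field F] [Fintype F] {p : ℕ} [Fact p.Prime] [CharP F p] {q : ℕ} (hq : Fintype.card F = q)
    (d : ℕ) (hd : 2 ≤ d) (hT : (d, q) ≠ (2, 2))
    (a t : ℕ) (hat : 2 * d = a * t) (ha : 2 ≤ a) (hae : Even a) (ht : 2 ≤ t) (hΩ : 2 ∣ Nat.card {D : Fin t → Submodule F (Fin d ⊕ Fin d → F) // (Cfsg.Geo.IsMDecomposition a D ∧ (∀ j, ∀ u ∈ D j, u ≠ 0 → ∃ v ∈ D j, Cfsg.sympForm d F u v ≠ 0) ∧
          (∀ j j', j ≠ j' → ∀ u ∈ D j, ∀ v ∈ D j', Cfsg.sympForm d F u v = 0))} / Nat.factorial t)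
    (x : ↥(Matrix.symplecticGroup (Fin d) F))
    (hx1 : ∃ z : F, ((x ^ 2 : ↥(Matrix.symplecticGroup (Fin d) F)) : Matrix (Fin d ⊕ Fin d) (Fin d ⊕ Fin d) F) = z • (1 : Matrix (Fin d ⊕ Fin d) (Fin d ⊕ Fin d) F))
    (hx2 : ∀ z : F, (x : Matrix (Fin d ⊕ Fin d) (Fin d ⊕ Fin d) F) ≠ z • (1 : Matrix (Fin d ⊕ Fin d) (Fin d ⊕ Fin d) F)) :
    ∃ D : Fin t → Submodule F (Fin d ⊕ Fin d → F), (Cfsg.Geo.IsMDecomposition a D ∧ (∀ j, ∀ u ∈ D j, u ≠ 0 → ∃ v ∈ D j, Cfsg.sympForm d F u v ≠ 0) ∧
          (∀ j j', j ≠ j' → ∀ u ∈ D j, ∀ v ∈ D j', Cfsg.sympForm d F u v = 0)) ∧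
        ∃ σ : Equiv.Perm (Fin t), ∀ j, (D j).map (Matrix.toLin' (x : Matrix (Fin d ⊕ Fin d) (Fin d ⊕ Fin d) F)) = D (σ j) := by
  classical
  obtain ⟨z, hz⟩ := hx1
  let V := Fin d ⊕ Fin d → F
  let B : LinearMap.BilinForm F V := CfsgLib.SympGeom.sympBilin d F
  let T : V →ₗ[F] V := Matrix.toLin' (x : Matrix (Fin d ⊕ Fin d) (Fin d ⊕ Fin d) F)
  have hBA : B.IsAlt := CfsgLib.SympGeom.sympBilin_alt
  have hT : ∀ v, T (T v) = z • v := fun v => by
    show Matrix.toLin' _ (Matrix.toLin' _ v) = _
    rw [Matrix.toLin'_apply, Matrix.toLin'_apply, Matrix.mulVec_mulVec, ← pow_two,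
      ← SubmonoidClass.coe_pow, hz, Matrix.smul_mulVec, Matrix.one_mulVec]
  have hiso : ∀ u v, B (T u) (T v) = B u v := fun u v => by
    simp only [B, T, CfsgLib.SympGeom.sympBilin_apply, Matrix.toLin'_apply]
    exact CfsgLib.Linear.Symp.form_mulVec x.2 u v
  have hne : ∃ v : V, v ≠ 0 := ⟨Pi.single (Sum.inl ⟨0, by omega⟩) 1, fun h => one_ne_zero (α := F) (Pi.single_eq_zero_iff.mp h)⟩
  have hinj : Function.Injective T := (injective_iff_map_eq_zero T).mpr fun u hu => by
    refine CfsgLib.SympGeom.sympBilin_nondeg.1 u fun v => ?_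
    show B u v = 0
    rw [← hiso, hu, map_zero, LinearMap.zero_apply]
  have hz0 : z ≠ 0 := fun h => by
    obtain ⟨v, hv⟩ := hne
    exact hv (hinj (hinj (by rw [hT, h, zero_smul, map_zero, map_zero])))
  obtain ⟨k, l, b, hb⟩ := CfsgLib.LinFix.SympPlanes.exists_planeFamily hBA hz0 hT hiso ⊤
    (fun _ _ => trivial) (fun u _ h => CfsgLib.SympGeom.sympBilin_nondeg.1 u fun v => h v trivial)
  have hskew : ∀ u v, B u v = - B v u := fun u v => (LinearMap.IsAlt.neg hBA v u).symm
  have hli : LinearIndependent F b := by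
    rw [Fintype.linearIndependent_iff]
    intro g hg y
    have hval : ∀ i : (Fin k × Fin 2) ⊕ Fin l,
        g (i, 0) = 0 ∧ g (i, 1) = 0 := by
      intro i
      have h0 := congrArg (fun v => B v (b (i, 1))) hg
      have h1 := congrArg (fun v => B v (b (i, 0))) hg
      simp only [map_sum, map_smul, LinearMap.sum_apply, LinearMap.smul_apply, smul_eq_mul, map_zero,
        LinearMap.zero_apply] at h0 h1
      have hs : B (b (i, 1)) (b (i, 0)) = -1 := by rw [hskew, hb.pair]
      rw [Finset.sum_eq_single (i, 0) (fun y _ hy => ?_) (by simp), hb.pair, mul_one] at h0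
      rw [Finset.sum_eq_single (i, 1) (fun y _ hy => ?_) (by simp), hs] at h1
      · exact ⟨h0, by simpa using h1⟩
      · obtain ⟨j, c⟩ := y
        by_cases hj : j = i
        · subst hj; fin_cases c
          · simp [show B (b (j, 0)) (b (j, 0)) = 0 from hBA _]
          · exact absurd rfl hy
        · rw [hb.orth _ _ (by exact hj), mul_zero]
      · obtain ⟨j, c⟩ := y
        by_cases hj : j = i
        · subst hj; fin_cases c
          · exact absurd rfl hy
          · simp [show B (b (j, 1)) (b (j, 1)) = 0 from hBA _]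
        · rw [hb.orth _ _ (by exact hj), mul_zero]
    obtain ⟨i, c⟩ := y
    fin_cases c
    · exact (hval i).1
    · exact (hval i).2
  obtain ⟨h, hh⟩ := hae
  have hcard : 2 * k + l = h * t := by
    have h1 := finrank_span_eq_card hli
    rw [hb.span_eq, finrank_top, CfsgLib.SympGeom.finrank_space] at h1
    simp only [Fintype.card_prod, Fintype.card_sum, Fintype.card_fin] at h1
    subst hh
    have h2 : (h + h) * t = 2 * (h * t) := by ring
    omega
  obtain ⟨e, σ, hσ0, hσ1, hσ2⟩ := Cfsg.Agent.S5957.exists_block_map h t k l (by omega) hcard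
  let D : Fin t → Submodule F V := fun j => Submodule.span F (b '' {y | (e y.1).1 = j})
  have hmemD : ∀ y, b y ∈ D (e y.1).1 := fun y => Submodule.subset_span ⟨y, rfl, rfl⟩
  have horth : ∀ j j', j ≠ j' → ∀ u ∈ D j, ∀ v ∈ D j', B u v = 0 := by
    intro j j' hjj u hu v hv
    induction hu, hv using Submodule.span_induction₂ with
    | mem_mem u v hu hv =>
      obtain ⟨y, hy, rfl⟩ := hu
      obtain ⟨y', hy', rfl⟩ := hv
      exact hb.orth _ _ fun hyy => hjj (by rw [← (hy : (e y.1).1 = j), ← (hy' : (e y'.1).1 = j'), hyy])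
    | zero_left y hy => simp
    | zero_right x hx => simp
    | add_left x y z _ _ _ e₁ e₂ => simp [e₁, e₂]
    | add_right x y z _ _ _ e₁ e₂ => simp [e₁, e₂]
    | smul_left c x y _ _ e => simp [e]
    | smul_right c x y _ _ e => simp [e]
  have hsupD : ⨆ j, D j = ⊤ := by
    rw [eq_top_iff, ← hb.span_eq, Submodule.span_le]
    rintro _ ⟨y, rfl⟩
    exact Submodule.mem_iSup_of_mem _ (hmemD y)
  have hnd : ∀ j, ∀ u ∈ D j, u ≠ 0 → ∃ v ∈ D j, Cfsg.sympForm d F u v ≠ 0 := by
    intro j u hu hu0
    by_contra hc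
    push Not at hc
    refine hu0 (CfsgLib.SympGeom.sympBilin_nondeg.1 u fun v => ?_)
    have hv : v ∈ ⨆ j, D j := hsupD ▸ Submodule.mem_top
    induction hv using Submodule.iSup_induction' with
    | mem j' v hv =>
      by_cases hj : j = j'
      · subst hj; exact hc v hv
      · exact horth j j' hj u hu v hv
    | zero => exact map_zero (B u)
    | add v w _ _ hv hw => exact ((B u).map_add v w).trans (by rw [hv, hw, add_zero])
  have hrank : ∀ j, Module.finrank F (D j) = a := by
    intro j
    have hli' : LinearIndependent F (fun y : {y : ((Fin k × Fin 2) ⊕ Fin l) × Fin 2 // (e y.1).1 = j} => b y.1) :=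
      hli.comp (fun y : {y : ((Fin k × Fin 2) ⊕ Fin l) × Fin 2 // (e y.1).1 = j} => y.1) Subtype.val_injective
    have h1 := finrank_span_eq_card hli'
    have hr : Set.range (fun y : {y : ((Fin k × Fin 2) ⊕ Fin l) × Fin 2 // (e y.1).1 = j} => b y.1) = b '' {y | (e y.1).1 = j} := by
      ext w; simp
    rw [hr] at h1
    rw [show Module.finrank F (D j) = _ from h1, show a = Fintype.card (Fin h × Fin 2) by simp; omega]
    exact Fintype.card_congr
      { toFun := fun y => ((e y.1.1).2, y.1.2)
        invFun := fun w => ⟨(e.symm (j, w.1), w.2), by simp⟩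
        left_inv := fun y => by
          obtain ⟨⟨i, c⟩, hi⟩ := y
          refine Subtype.ext (Prod.ext ?_ rfl)
          show e.symm (j, (e i).2) = i
          rw [e.symm_apply_eq]
          exact Prod.ext hi.symm rfl
        right_inv := fun w => by simp }
  have hind : iSupIndep D := by
    intro j
    rw [Submodule.disjoint_def]
    intro u hu hu'
    by_contra hu0
    obtain ⟨v, hv, hne⟩ := hnd j u hu hu0
    refine hne ?_
    clear hu hu0 hne
    induction hu' using Submodule.iSup_induction' with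
    | mem j' w hw =>
      by_cases hj : j' = j
      · subst hj; simp at hw; subst hw; simp [CfsgLib.Linear.Symp.form_zero_left]
      · rw [iSup_pos hj] at hw; exact horth j' j hj w hw v hv
    | zero => exact CfsgLib.Linear.Symp.form_zero_left v
    | add w w' _ _ hw hw' => rw [CfsgLib.Linear.Symp.form_add_left, hw, hw', add_zero]
  have hle : ∀ j, (D j).map T ≤ D (σ j) := by
    intro j
    rw [Submodule.map_span_le]
    rintro _ ⟨⟨i, c⟩, hi, rfl⟩
    change (e i).1 = j at hi
    subst hi
    rcases i with ⟨i, a'⟩ | i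
    · refine Submodule.span_le.mpr ?_ (hb.swap i a' c)
      rintro _ ⟨c', rfl⟩
      have hσ : σ (e (Sum.inl (i, a'))).1 = (e (Sum.inl (i, a' + 1))).1 := by
        fin_cases a'
        · exact hσ0 i
        · exact hσ1 i
      rw [hσ]
      exact hmemD (Sum.inl (i, a' + 1), c')
    · refine Submodule.span_le.mpr ?_ (hb.stay i c)
      rintro _ ⟨c', rfl⟩
      rw [hσ2 i]
      exact hmemD (Sum.inr i, c')
  refine ⟨D, ⟨⟨ht, by omega, hrank, hind, hsupD⟩, hnd, fun j j' hjj u hu v hv => horth j j' hjj u hu v hv⟩,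
    σ, fun j => Submodule.eq_of_le_of_finrank_eq (hle j) ?_⟩
  rw [← (Submodule.equivMapOfInjective T hinj (D j)).finrank_eq, hrank, hrank]

end Cfsg.Agent.S5960
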