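import Cfsg.Statements.S5961
import Cfsg.Agent.Lib.SympDecomp.Count

set_option autoImplicit false
open scoped MatrixGroups
open Cfsg

namespace Cfsg.Agent.S5961
open Module CfsgLib.PrimeFix CfsgLib.SympDecomp CfsgLib.Linear.Symp CfsgLib.SympGeom

theorem sq_eq_one_of_scalar {F : Type*} [Field F] {d : ℕ} (hd : 0 < d) {x : ↥(Matrix.symplecticGroup (Fin d) F)}
    {z : F} (h : (x : Matrix (Fin d ⊕ Fin d) (Fin d ⊕ Fin d) F) = z • 1) : z * z = 1 := by
  have hne : (Pi.single (Sum.inl ⟨0, hd⟩) 1 : Fin d ⊕ Fin d → F) ≠ 0 := by simp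
  obtain ⟨v, hv⟩ : ∃ v, sympForm d F (Pi.single (Sum.inl ⟨0, hd⟩) 1) v ≠ 0 := by
    by_contra hh
    push Not at hh
    exact hne (eq_zero_of_forall_form hh)
  have h1 := form_mulVec x.2 (Pi.single (Sum.inl ⟨0, hd⟩) 1) v
  rw [h, Matrix.smul_mulVec, Matrix.smul_mulVec, Matrix.one_mulVec, Matrix.one_mulVec, form_smul_left,
    form_smul_right] at h1
  exact mul_right_cancel₀ hv (by linear_combination h1)

theorem main {F : Type*} [Field F] [Fintype F] {p : ℕ} [Fact p.Prime] [CharP F p]
    (d : ℕ) (hd : 2 ≤ d) (a t : ℕ) (hat : 2 * d = a * t) (ha : 2 ≤ a) (hae : Even a) (ht : 2 ≤ t)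
    (r : ℕ) [hr : Fact r.Prime] (hr2 : r ≠ 2) (hrp : r ≠ p)
    (hΩ : r ∣ Nat.card {D : Fin t → Submodule F (Fin d ⊕ Fin d → F) // IsSympDecomp a D} / Nat.factorial t) :
    (∀ x : ↥(Matrix.symplecticGroup (Fin d) F),
      (∃ z : F, ((x ^ r : ↥(Matrix.symplecticGroup (Fin d) F)) : Matrix (Fin d ⊕ Fin d) (Fin d ⊕ Fin d) F) = z • (1 : Matrix (Fin d ⊕ Fin d) (Fin d ⊕ Fin d) F)) →
      (∀ z : F, (x : Matrix (Fin d ⊕ Fin d) (Fin d ⊕ Fin d) F) ≠ z • (1 : Matrix (Fin d ⊕ Fin d) (Fin d ⊕ Fin d) F)) →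
      ∃ D : Fin t → Submodule F (Fin d ⊕ Fin d → F), IsSympDecomp a D ∧
        ∃ σ : Equiv.Perm (Fin t), ∀ j, (D j).map (Matrix.toLin' (x : Matrix (Fin d ⊕ Fin d) (Fin d ⊕ Fin d) F)) = D (σ j)) ↔
    (unitDim F r ≤ a ∧ (2 * d) % unitDim F r = t * (a % unitDim F r)) := by
  have hrF : (r : F) ≠ 0 := CfsgLib.LinFix.natCast_ne_zero_of_ne hrp
  set c := unitDim F r with hc
  have hc0 : 0 < c := unitDim_pos hrF
  obtain ⟨h, hh⟩ := (even_unitDim : Even (unitDim F r))
  rw [← hc] at hh
  have hcd : c ≤ 2 * d := unitDim_le hr2 hrp ht ha hae hat hΩ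
  constructor
  · intro hel
    have key : ∀ k s, k + s * h = d → 0 < s →
        ∃ (T : Module.End F (Fin d ⊕ Fin d → F)) (D : Fin t → Submodule F (Fin d ⊕ Fin d → F))
          (σ : Equiv.Perm (Fin t)), (∀ u w, sympForm d F (T u) (T w) = sympForm d F u w) ∧ T ^ r = 1 ∧
          finrank F (fixSp T) = 2 * k ∧ IsSympDecomp a D ∧ ∀ j, (D j).map T = D (σ j) := by
      intro k s hks hs
      obtain ⟨y, hy, hyr, -, hfree⟩ : ∃ y : Module.End F (Fin h ⊕ Fin h → F),
          (∀ u w, sympForm h F (y u) (y w) = sympForm h F u w) ∧ y ^ r = 1 ∧ y ≠ 1 ∧ Fpf y ⊤ := by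
        rcases Nat.even_or_odd (orderOf (Fintype.card F : ZMod r)) with he | ho
        · rw [hc, unitDim, if_pos he] at hh
          exact Symp.exists_block_even hrF (by omega)
        · rw [hc, unitDim, if_neg (Nat.not_even_iff_odd.2 ho)] at hh
          exact Symp.exists_block_odd hrF (by omega)
      obtain ⟨T, hT, hTr, hfix⟩ := exists_model hrF hks hy hyr hfree
      let x : ↥(Matrix.symplecticGroup (Fin d) F) := ⟨LinearMap.toMatrix' T, mem_of_form_mulVec fun u v => by
        rw [← Matrix.toLin'_apply, ← Matrix.toLin'_apply, Matrix.toLin'_toMatrix', hT]⟩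
      have hxT : Matrix.toLin' (x : Matrix (Fin d ⊕ Fin d) (Fin d ⊕ Fin d) F) = T := Matrix.toLin'_toMatrix' T
      obtain ⟨D, hD, σ, hσ⟩ := hel x ⟨1, by
          apply Matrix.toLin'.injective
          rw [SubmonoidClass.coe_pow, one_smul, Matrix.toLin'_one, Matrix.toLin'_pow, hxT, hTr]
          rfl⟩ fun z hz => by
        have hz2 : z * z = 1 := sq_eq_one_of_scalar (by omega) hz
        have hTz : T = z • 1 := by rw [← hxT, hz, map_smul, Matrix.toLin'_one]; rfl
        haveI : Nontrivial (Fin d ⊕ Fin d → F) :=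
          Module.nontrivial_of_finrank_pos (R := F) (by rw [finrank_space]; omega)
        have hz1 : z = 1 := by
          obtain ⟨v, hv⟩ := exists_ne (0 : Fin d ⊕ Fin d → F)
          rw [hTz, smul_pow, one_pow] at hTr
          have hzr : z ^ r = 1 := smul_left_injective F hv (by simpa using LinearMap.congr_fun hTr v)
          obtain ⟨m, hm⟩ := hr.out.odd_of_ne_two hr2
          rwa [hm, pow_succ, pow_mul, pow_two, hz2, one_pow, one_mul] at hzr
        rw [hTz, hz1, one_smul, fixSp, sub_self, LinearMap.ker_zero, finrank_top, finrank_space] at hfix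
        have : 0 < s * h := Nat.mul_pos hs (by omega)
        omega
      exact ⟨T, D, σ, hT, hTr, hfix, hD, fun j => by rw [← hσ j, hxT]⟩
    have hfixed : ∀ (T : Module.End F (Fin d ⊕ Fin d → F)) (D : Fin t → Submodule F (Fin d ⊕ Fin d → F))
        (σ : Equiv.Perm (Fin t)), (∀ u w, sympForm d F (T u) (T w) = sympForm d F u w) → T ^ r = 1 →
        IsSympDecomp a D → (∀ j, (D j).map T = D (σ j)) → ∀ j, σ j = j →
        ∃ m, a = finrank F ↥(D j ⊓ fixSp T) + m * c := by
      intro T D σ hT hTr hD hσ j hj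
      have hinv : Inv T (D j) := fun w hw => by
        have h1 : T w ∈ (D j).map T := ⟨w, hw, rfl⟩
        rwa [hσ, hj] at h1
      obtain ⟨hsum, hnd⟩ := split_spec hrF sympBilin_alt hT hTr hinv
      obtain ⟨m, hm⟩ := unitDim_dvd sympBilin_alt hTr (inv_inf hinv inv_movSp) (hnd (hD.nd j)).2
        ((fpf_movSp hrF).mono inf_le_right)
      exact ⟨m, by rw [← hD.1.finrank_eq j, ← hsum, hm, ← hc, mul_comm c]⟩
    by_cases hca : c ≤ a
    · refine ⟨hca, ?_⟩
      have hk : (2 * d) % c = 2 * (d % h) := by rw [hh, ← two_mul, Nat.mul_mod_mul_left]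
      obtain ⟨T, D, σ, hT, hTr, hfix, hD, hσ⟩ := key (d % h) (d / h)
        (by rw [mul_comm]; exact Nat.mod_add_div d h) (Nat.div_pos (by omega) (by omega))
      rw [← hk] at hfix
      by_cases hall : ∀ j, σ j = j
      · have hle : t * (a % c) ≤ (2 * d) % c := by
          refine le_of_le_of_eq ?_ hfix
          refine le_trans ?_ (Cfsg.Agent.S5958.sum_le_of_indep hD.1.indep (l := a % c) fun j => ?_)
          · rw [Fintype.card_fin]
          · obtain ⟨m, hm⟩ := hfixed T D σ hT hTr hD hσ j (hall j)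
            conv_lhs => rw [hm, Nat.add_mul_mod_self_right]
            exact Nat.mod_le _ _
        refine le_antisymm ?_ hle
        rw [hat, mul_comm a t, Nat.mul_mod, Nat.mod_mul_mod]
        exact (Nat.mod_le _ _)
      · push Not at hall
        obtain ⟨j, hj⟩ := hall
        have h1 := (moved_bounds hrF sympBilin_alt hT hD.1.indep (by omega) hD.1.finrank_eq hσ hTr hj).1
        have := Nat.mod_lt (2 * d) hc0
        omega
    · exfalso
      obtain ⟨T, D, σ, hT, hTr, hfix, hD, hσ⟩ := key (d - h) 1 (by omega) one_pos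
      have hsum := (split_spec hrF sympBilin_alt hT hTr (W := ⊤) (fun _ _ => trivial)).1
      rw [top_inf_eq, top_inf_eq, finrank_top, finrank_space, hfix] at hsum
      by_cases hall : ∀ j, σ j = j
      · have hin : ∀ j, D j ≤ fixSp T := fun j => by
          obtain ⟨m, hm⟩ := hfixed T D σ hT hTr hD hσ j (hall j)
          rcases m with - | m
          · exact inf_eq_left.1 (Submodule.eq_of_le_of_finrank_eq inf_le_left (by rw [hD.1.finrank_eq]; omega))
          · rw [Nat.succ_mul] at hm; omega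
        have htop : fixSp T = ⊤ := eq_top_iff.2 (hD.1.iSup_eq_top.symm.le.trans (iSup_le hin))
        rw [htop, finrank_top, finrank_space] at hfix
        omega
      · push Not at hall
        obtain ⟨j, hj⟩ := hall
        have h1 := (moved_bounds hrF sympBilin_alt hT hD.1.indep (by omega) hD.1.finrank_eq hσ hTr hj).2
        have h2 : c ≤ r - 1 := by
          have hdvd : orderOf (Fintype.card F : ZMod r) ∣ r - 1 :=
            orderOf_dvd_of_pow_eq_one (ZMod.pow_card_sub_one_eq_one (cast_card_ne_zero hrF))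
          have hr1 : 0 < r - 1 := by have := hr.out.two_le; omega
          rw [hc, unitDim]
          split_ifs with he
          · exact Nat.le_of_dvd hr1 hdvd
          · obtain ⟨m, hm⟩ := hr.out.odd_of_ne_two hr2
            exact Nat.le_of_dvd hr1 (Nat.Coprime.mul_dvd_of_dvd_of_dvd
              (Nat.coprime_two_left.2 (Nat.not_even_iff_odd.1 he)) ⟨m, by omega⟩ hdvd)
        have h3 : (r - 1) * 2 ≤ (r - 1) * a := Nat.mul_le_mul_left _ ha
        have := hr.out.two_le
        omega
  · rintro ⟨-, hk⟩ x ⟨z, hxz⟩ -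
    have hz2 : z * z = 1 := sq_eq_one_of_scalar (by omega) hxz
    have hz0 : z ≠ 0 := left_ne_zero_of_mul_eq_one hz2
    set A := Matrix.toLin' (x : Matrix (Fin d ⊕ Fin d) (Fin d ⊕ Fin d) F) with hA
    have hAr : A ^ r = z • 1 := by
      rw [hA, ← Matrix.toLin'_pow, ← SubmonoidClass.coe_pow, hxz, map_smul, Matrix.toLin'_one]
      rfl
    set T : Module.End F (Fin d ⊕ Fin d → F) := z • A with hTdef
    have hTr : T ^ r = 1 := by
      obtain ⟨m, hm⟩ := hr.out.odd_of_ne_two hr2
      rw [hTdef, smul_pow, hAr, smul_smul, ← pow_succ, hm,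
        show 2 * m + 1 + 1 = 2 * (m + 1) by ring, pow_mul, pow_two, hz2, one_pow, one_smul]
    have hT : ∀ u w, sympForm d F (T u) (T w) = sympForm d F u w := fun u w => by
      rw [hTdef, LinearMap.smul_apply, LinearMap.smul_apply, form_smul_left, form_smul_right, ← mul_assoc, hz2,
        one_mul, hA, Matrix.toLin'_apply, Matrix.toLin'_apply]
      exact form_mulVec x.2 u w
    have htopi : Inv T (⊤ : Submodule F (Fin d ⊕ Fin d → F)) := fun _ _ => trivial
    obtain ⟨hsum, hnd⟩ := split_spec hrF sympBilin_alt hT hTr htopi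
    obtain ⟨m, hm⟩ := unitDim_dvd sympBilin_alt hTr (inv_inf htopi inv_movSp) (hnd nd_top).2
      ((fpf_movSp hrF).mono inf_le_right)
    rw [finrank_top, finrank_space, hm, ← hc] at hsum
    obtain ⟨D, hD, ho⟩ := exists_parts hrF hr2 sympBilin_alt hT hTr hae t ⊤ htopi nd_top
      (by rw [finrank_top, finrank_space, hat]) (by
        rw [← hc, ← hk, ← hsum, Nat.add_mul_mod_self_left]
        exact Nat.mod_le _ _)
    refine ⟨D, isSympDecomp_of_orth ht (by omega) hat (fun j => (hD j).2.2.2) (fun j => (hD j).2.2.1) ho,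
      1, fun j => ?_⟩
    show (D j).map A = D j
    have hinj : Function.Injective T := (injective_iff_map_eq_zero T).2 fun u hu =>
      eq_zero_of_forall_form fun v => by rw [← hT, hu, form_zero_left]
    rw [← Submodule.map_smul A (D j) z hz0, ← hTdef]
    refine Submodule.eq_of_le_of_finrank_eq ?_ (Submodule.equivMapOfInjective _ hinj _).finrank_eq.symm
    rintro _ ⟨u, hu, rfl⟩
    exact (hD j).2.1 u hu

/-- Elements of odd prime order of PSp_n(q) and imprimitive subgroups. Here `T = PSp_n(q)`, `n = 2d ≥ 4`, `(n, q) ≠ (4, 2)`, realised through the symplectic matrices over the field `F` with `q` elements and the standard alternating form; `n = a·t` with `a` even and `t ≥ 2`, and Ω is the (nonempty) set of orthogonal decompositions of `F^n` into `t` nondegenerate subspaces of dimension `a` (unordered; counted as ordered ones divided by `t!`), whose stabilizers are the imprimitive subgroups of type Sp_a(q) ≀ S_t (maximality is not assumed); an element of `T` of prime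 order `r` (a symplectic matrix `x` with `x^r` scalar, `x` not scalar) fixes a point of Ω when it permutes the summands of some such decomposition. Let `r ≠ p` be an odd prime dividing the number of such decompositions, let `i` be the multiplicative order of `q` modulo `r`, `c = i` if `i` is even and `c = 2i` if `i` is odd, and write `k = n mod c`, `ℓ = a mod c`. Then every element of `T` of order `r` stabilizes such a decomposition if and only if `c ≤ a` and `k = t·ℓ`. -/
theorem result {F : Type*} [Field F] [Fintype F] {p : ℕ} [Fact p.Prime] [CharP F p] {q : ℕ} (hq : Fintype.card F = q)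
    (d : ℕ) (hd : 2 ≤ d) (hT : (d, q) ≠ (2, 2))
    (a t : ℕ) (hat : 2 * d = a * t) (ha : 2 ≤ a) (hae : Even a) (ht : 2 ≤ t)
    (r : ℕ) [Fact r.Prime] (hr2 : r ≠ 2) (hrp : r ≠ p) (hΩ : r ∣ Nat.card {D : Fin t → Submodule F (Fin d ⊕ Fin d → F) // (Cfsg.Geo.IsMDecomposition a D ∧ (∀ j, ∀ u ∈ D j, u ≠ 0 → ∃ v ∈ D j, Cfsg.sympForm d F u v ≠ 0) ∧
          (∀ j j', j ≠ j' → ∀ u ∈ D j, ∀ v ∈ D j', Cfsg.sympForm d F u v = 0))} / Nat.factorial t)
    (i c : ℕ) (hi : i = orderOf (q : ZMod r)) (hc : c = if Even i then i else 2 * i) :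
    (∀ x : ↥(Matrix.symplecticGroup (Fin d) F),
      (∃ z : F, ((x ^ r : ↥(Matrix.symplecticGroup (Fin d) F)) : Matrix (Fin d ⊕ Fin d) (Fin d ⊕ Fin d) F) = z • (1 : Matrix (Fin d ⊕ Fin d) (Fin d ⊕ Fin d) F)) →
      (∀ z : F, (x : Matrix (Fin d ⊕ Fin d) (Fin d ⊕ Fin d) F) ≠ z • (1 : Matrix (Fin d ⊕ Fin d) (Fin d ⊕ Fin d) F)) →
      ∃ D : Fin t → Submodule F (Fin d ⊕ Fin d → F), (Cfsg.Geo.IsMDecomposition a D ∧ (∀ j, ∀ u ∈ D j, u ≠ 0 → ∃ v ∈ D j, Cfsg.sympForm d F u v ≠ 0) ∧
          (∀ j j', j ≠ j' → ∀ u ∈ D j, ∀ v ∈ D j', Cfsg.sympForm d F u v = 0)) ∧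
        ∃ σ : Equiv.Perm (Fin t), ∀ j, (D j).map (Matrix.toLin' (x : Matrix (Fin d ⊕ Fin d) (Fin d ⊕ Fin d) F)) = D (σ j)) ↔
    (c ≤ a ∧ (2 * d) % c = t * (a % c)) := by
  subst hq
  subst hi
  subst hc
  exact main (p := p) d hd a t hat ha hae ht r hr2 hrp hΩ

end Cfsg.Agent.S5961
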