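import Cfsg.Statements.S5962
import Cfsg.Agent.Lib.Linear.Symplectic

set_option autoImplicit false
open scoped MatrixGroups
open Cfsg

namespace Cfsg.Agent.S5962

open scoped MatrixGroups
open CfsgLib.Linear.Symp

/-- An invariant non-degenerate subspace carries a pair of Lagrangians fixed or swapped by a map of
order two modulo scalars. -/
theorem exists_lagrangian_pair {F : Type*} [Field F] (h2 : (2 : F) ≠ 0) {d : ℕ}
    (T : (Fin d ⊕ Fin d → F) →ₗ[F] (Fin d ⊕ Fin d → F))
    (hT : ∀ u v, Cfsg.sympForm d F (T u) (T v) = Cfsg.sympForm d F u v)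
    (z : F) (hz : z = 1 ∨ z = -1) (hT2 : ∀ u, T (T u) = z • u) (n : ℕ) :
    ∀ S : Submodule F (Fin d ⊕ Fin d → F), Module.finrank F S = n → (∀ u ∈ S, T u ∈ S) →
      (∀ u ∈ S, (∀ v ∈ S, Cfsg.sympForm d F u v = 0) → u = 0) →
      ∃ U W : Submodule F (Fin d ⊕ Fin d → F), U ⊔ W = S ∧ Disjoint U W ∧
        (∀ u ∈ U, ∀ v ∈ U, Cfsg.sympForm d F u v = 0) ∧
        (∀ u ∈ W, ∀ v ∈ W, Cfsg.sympForm d F u v = 0) ∧
        ((z = 1 ∧ (∀ u ∈ U, T u ∈ U) ∧ ∀ u ∈ W, T u ∈ W) ∨
         (z = -1 ∧ (∀ u ∈ U, T u ∈ W) ∧ ∀ u ∈ W, T u ∈ U)) := by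
  induction n using Nat.strong_induction_on with
  | _ n ih =>
    intro S hn hinv hnd
    by_cases hS : S = ⊥
    · subst hS
      refine ⟨⊥, ⊥, by simp, disjoint_bot_left, ?_, ?_, ?_⟩
      · rintro u hu v -; rw [Submodule.mem_bot] at hu; rw [hu, form_zero_left]
      · rintro u hu v -; rw [Submodule.mem_bot] at hu; rw [hu, form_zero_left]
      · rcases hz with h | h
        · exact Or.inl ⟨h, hinv, hinv⟩
        · exact Or.inr ⟨h, hinv, hinv⟩
    -- a hyperbolic pair permuted by `T` up to scalars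
    obtain ⟨u, v, hu, hv, huv, hTuv⟩ : ∃ u v, u ∈ S ∧ v ∈ S ∧ Cfsg.sympForm d F u v ≠ 0 ∧
        ((z = 1 ∧ (∃ a : F, T u = a • u) ∧ ∃ a : F, T v = a • v) ∨
         (z = -1 ∧ (∃ a : F, T u = a • v) ∧ ∃ a : F, T v = a • u)) := by
      obtain ⟨w, hw, hw0⟩ := Submodule.exists_mem_ne_zero_of_ne_bot hS
      rcases hz with rfl | rfl
      · obtain ⟨u, ε, hu, hu0, hε, hTu⟩ : ∃ u, ∃ ε : F, u ∈ S ∧ u ≠ 0 ∧ ε * ε = 1 ∧ T u = ε • u := by
          by_cases h : w + T w = 0
          · exact ⟨w, -1, hw, hw0, by ring, by rw [neg_one_smul]; exact eq_neg_of_add_eq_zero_right h⟩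
          · exact ⟨w + T w, 1, S.add_mem hw (hinv w hw), h, one_mul 1,
              by rw [map_add, hT2, one_smul, one_smul, add_comm]⟩
        obtain ⟨v, hv, hv0⟩ : ∃ v ∈ S, Cfsg.sympForm d F u v ≠ 0 := by
          by_contra hc
          push Not at hc
          exact hu0 (hnd u hu hc)
        refine ⟨u, v + ε • T v, hu, S.add_mem hv (S.smul_mem _ (hinv v hv)), ?_,
          Or.inl ⟨rfl, ⟨ε, hTu⟩, ⟨ε, ?_⟩⟩⟩
        · rw [form_add_right, form_smul_right, ← hT u (T v), hT2, one_smul, hTu, form_smul_left,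
            ← mul_assoc, hε, one_mul, ← two_mul]
          exact mul_ne_zero h2 hv0
        · rw [map_add, map_smul, hT2, one_smul, smul_add, smul_smul, hε, one_smul, add_comm]
      · obtain ⟨u, hu, hu1⟩ : ∃ u ∈ S, Cfsg.sympForm d F u (T u) ≠ 0 := by
          by_contra hc
          push Not at hc
          refine hw0 (hnd w hw fun y hy => ?_)
          have h1 := hc (w + T y) (S.add_mem hw (hinv y hy))
          rw [map_add, form_add_left, form_add_right, form_add_right, hc w hw,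
            hc (T y) (hinv y hy), hT2] at h1
          rw [hT y w, form_swap w y, neg_smul, one_smul, form_neg_right] at h1
          exact (mul_eq_zero.1 (by linear_combination -h1 :
            (2 : F) * Cfsg.sympForm d F w y = 0)).resolve_left h2
        exact ⟨u, T u, hu, hinv u hu, hu1, Or.inr ⟨rfl, ⟨1, by rw [one_smul]⟩,
          ⟨-1, by rw [hT2]⟩⟩⟩
    set c := Cfsg.sympForm d F u v with hc
    have hvu : Cfsg.sympForm d F v u = -c := form_swap u v
    -- orthogonal complement of the pair in `S`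
    let S' : Submodule F (Fin d ⊕ Fin d → F) :=
      { carrier := {y | y ∈ S ∧ Cfsg.sympForm d F y u = 0 ∧ Cfsg.sympForm d F y v = 0}
        zero_mem' := ⟨S.zero_mem, form_zero_left u, form_zero_left v⟩
        add_mem' := fun {a b} ha hb => ⟨S.add_mem ha.1 hb.1,
          by rw [form_add_left, ha.2.1, hb.2.1, add_zero],
          by rw [form_add_left, ha.2.2, hb.2.2, add_zero]⟩
        smul_mem' := fun r a ha => ⟨S.smul_mem r ha.1,
          by rw [form_smul_left, ha.2.1, mul_zero], by rw [form_smul_left, ha.2.2, mul_zero]⟩ }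
    have hproj : ∀ y ∈ S, y - (Cfsg.sympForm d F y v / c) • u + (Cfsg.sympForm d F y u / c) • v ∈ S' := by
      intro y hy
      refine ⟨S.add_mem (S.sub_mem hy (S.smul_mem _ hu)) (S.smul_mem _ hv), ?_, ?_⟩
      · rw [form_add_left, form_sub_left, form_smul_left, form_smul_left, form_self, hvu]
        field_simp; ring
      · rw [form_add_left, form_sub_left, form_smul_left, form_smul_left, form_self, ← hc]
        field_simp; ring
    have hlt : Module.finrank F S' < n := by
      subst hn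
      refine Submodule.finrank_lt_finrank_of_lt ⟨fun y hy => hy.1, fun hle => ?_⟩
      exact huv (hle hu).2.2
    have hinv' : ∀ y ∈ S', T y ∈ S' := by
      intro y hy
      have h1 : ∀ e : Fin d ⊕ Fin d → F,
          Cfsg.sympForm d F (T y) e = z * Cfsg.sympForm d F y (T e) := fun e => by
        rw [← hT (T y) e, hT2, form_smul_left]
      refine ⟨hinv y hy.1, ?_, ?_⟩
      · rw [h1]
        rcases hTuv with ⟨-, ⟨a, ha⟩, -⟩ | ⟨-, ⟨a, ha⟩, -⟩ <;>
          simp [ha, form_smul_right, hy.2.1, hy.2.2]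
      · rw [h1]
        rcases hTuv with ⟨-, -, ⟨a, ha⟩⟩ | ⟨-, -, ⟨a, ha⟩⟩ <;>
          simp [ha, form_smul_right, hy.2.1, hy.2.2]
    have hnd' : ∀ y ∈ S', (∀ e ∈ S', Cfsg.sympForm d F y e = 0) → y = 0 := by
      intro y hy hall
      refine hnd y hy.1 fun e he => ?_
      have := hall _ (hproj e he)
      rwa [form_add_right, form_sub_right, form_smul_right, form_smul_right, hy.2.1, hy.2.2,
        mul_zero, mul_zero, sub_zero, add_zero] at this
    obtain ⟨U', W', hsup, hdis, hU', hW', hperm⟩ := ih _ hlt S' rfl hinv' hnd'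
    have hUle : U' ≤ S' := hsup ▸ le_sup_left
    have hWle : W' ≤ S' := hsup ▸ le_sup_right
    refine ⟨U' ⊔ Submodule.span F {u}, W' ⊔ Submodule.span F {v}, ?_, ?_, ?_, ?_, ?_⟩
    · apply le_antisymm
      · refine sup_le (sup_le (fun y hy => (hUle hy).1) ?_) (sup_le (fun y hy => (hWle hy).1) ?_)
        · simpa using hu
        · simpa using hv
      · intro y hy
        rw [sup_sup_sup_comm, hsup]
        refine Submodule.mem_sup.2 ⟨_, hproj y hy, (Cfsg.sympForm d F y v / c) • u -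
          (Cfsg.sympForm d F y u / c) • v, ?_, by abel⟩
        exact Submodule.sub_mem _ (Submodule.mem_sup_left (Submodule.smul_mem _ _ (Submodule.mem_span_singleton_self u)))
          (Submodule.mem_sup_right (Submodule.smul_mem _ _ (Submodule.mem_span_singleton_self v)))
    · rw [Submodule.disjoint_def]
      intro y hyU hyW
      obtain ⟨a, ha, _, hb, rfl⟩ := Submodule.mem_sup.1 hyU
      obtain ⟨a', ha', _, hb', he⟩ := Submodule.mem_sup.1 hyW
      obtain ⟨r, rfl⟩ := Submodule.mem_span_singleton.1 hb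
      obtain ⟨r', rfl⟩ := Submodule.mem_span_singleton.1 hb'
      have h1 := congrArg (fun e => Cfsg.sympForm d F e v) he
      simp only [form_add_left, form_smul_left, (hUle ha).2.2, (hWle ha').2.2, form_self,
        mul_zero, zero_add, ← hc] at h1
      have h2' := congrArg (fun e => Cfsg.sympForm d F e u) he
      simp only [form_add_left, form_smul_left, (hUle ha).2.1, (hWle ha').2.1, form_self,
        mul_zero, zero_add, hvu] at h2'
      have hr : r = 0 := (mul_eq_zero.1 h1.symm).resolve_right huv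
      have hr' : r' = 0 := (mul_eq_zero.1 h2').resolve_right (neg_ne_zero.2 huv)
      subst hr hr'
      simp only [zero_smul, add_zero] at he ⊢
      exact Submodule.disjoint_def.1 hdis a ha (he ▸ ha')
    · intro x hx y hy
      obtain ⟨a, ha, _, hb, rfl⟩ := Submodule.mem_sup.1 hx
      obtain ⟨a', ha', _, hb', rfl⟩ := Submodule.mem_sup.1 hy
      obtain ⟨r, rfl⟩ := Submodule.mem_span_singleton.1 hb
      obtain ⟨r', rfl⟩ := Submodule.mem_span_singleton.1 hb'
      simp [form_add_left, form_add_right, form_smul_left, form_smul_right, form_self,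
        hU' a ha a' ha', (hUle ha).2.1, form_swap a' u, (hUle ha').2.1]
    · intro x hx y hy
      obtain ⟨a, ha, _, hb, rfl⟩ := Submodule.mem_sup.1 hx
      obtain ⟨a', ha', _, hb', rfl⟩ := Submodule.mem_sup.1 hy
      obtain ⟨r, rfl⟩ := Submodule.mem_span_singleton.1 hb
      obtain ⟨r', rfl⟩ := Submodule.mem_span_singleton.1 hb'
      simp [form_add_left, form_add_right, form_smul_left, form_smul_right, form_self,
        hW' a ha a' ha', (hWle ha).2.2, form_swap a' v, (hWle ha').2.2]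
    · have lift : ∀ (A A' : Submodule F (Fin d ⊕ Fin d → F)) (e e' : Fin d ⊕ Fin d → F),
          (∀ y ∈ A, T y ∈ A') → (∃ a : F, T e = a • e') →
          ∀ y ∈ A ⊔ Submodule.span F {e}, T y ∈ A' ⊔ Submodule.span F {e'} := by
        intro A A' e e' hA ⟨a, ha⟩ y hy
        obtain ⟨b, hb, _, hc', rfl⟩ := Submodule.mem_sup.1 hy
        obtain ⟨r, rfl⟩ := Submodule.mem_span_singleton.1 hc'
        rw [map_add, map_smul, ha, smul_smul]
        exact Submodule.add_mem _ (Submodule.mem_sup_left (hA b hb))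
          (Submodule.mem_sup_right (Submodule.smul_mem _ _ (Submodule.mem_span_singleton_self e')))
      have hzne : (1 : F) ≠ -1 := fun h => h2 (by linear_combination h)
      rcases hperm with ⟨h1, hUU, hWW⟩ | ⟨h1, hUW, hWU⟩ <;>
        rcases hTuv with ⟨h3, hu', hv'⟩ | ⟨h3, hu', hv'⟩
      · exact Or.inl ⟨h1, lift _ _ _ _ hUU hu', lift _ _ _ _ hWW hv'⟩
      · exact absurd (h1.symm.trans h3) hzne
      · exact absurd (h3.symm.trans h1) hzne
      · exact Or.inr ⟨h1, lift _ _ _ _ hUW hu', lift _ _ _ _ hWU hv'⟩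

/-- Involutions of PSp_n(q), q odd, and the subgroups GL_{n/2}(q).2. Here `T = PSp_n(q)`, `n = 2d ≥ 4`, `q` odd, realised through the symplectic matrices over the field `F` with `q` elements; Ω is the set of unordered pairs `{U, W}` of complementary totally isotropic `d`-spaces (`F^n = U ⊕ W`), whose stabilizers are the subgroups of type GL_d(q).2 (maximal except in some small cases; maximality is not assumed); an element of `T` of prime order `r` (a symplectic matrix `x` with `x^r` scalar, `x` not scalar) fixes such a pair when it fixes or interchanges `U` and `W`. If the number of such pairs is even, every involution of `T` fixes one of them (the action is 2-elusive). -/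
theorem result {F : Type*} [Field F] [Fintype F] {p : ℕ} [Fact p.Prime] [CharP F p] {q : ℕ} (hq : Fintype.card F = q)
    (d : ℕ) (hd : 2 ≤ d) (hT : (d, q) ≠ (2, 2)) (hodd : Odd q)
    (hΩ : 2 ∣ Nat.card {P : Submodule F (Fin d ⊕ Fin d → F) × Submodule F (Fin d ⊕ Fin d → F) // IsCompl P.1 P.2 ∧ (∀ u ∈ P.1, ∀ v ∈ P.1, Cfsg.sympForm d F u v = 0) ∧ (∀ u ∈ P.2, ∀ v ∈ P.2, Cfsg.sympForm d F u v = 0)} / 2)
    (x : ↥(Matrix.symplecticGroup (Fin d) F))
    (hx1 : ∃ z : F, ((x ^ 2 : ↥(Matrix.symplecticGroup (Fin d) F)) : Matrix (Fin d ⊕ Fin d) (Fin d ⊕ Fin d) F) = z • (1 : Matrix (Fin d ⊕ Fin d) (Fin d ⊕ Fin d) F))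
    (hx2 : ∀ z : F, (x : Matrix (Fin d ⊕ Fin d) (Fin d ⊕ Fin d) F) ≠ z • (1 : Matrix (Fin d ⊕ Fin d) (Fin d ⊕ Fin d) F)) :
    ∃ U W : Submodule F (Fin d ⊕ Fin d → F), IsCompl U W ∧ (∀ u ∈ U, ∀ v ∈ U, Cfsg.sympForm d F u v = 0) ∧ (∀ u ∈ W, ∀ v ∈ W, Cfsg.sympForm d F u v = 0) ∧
        ((U.map (Matrix.toLin' (x : Matrix (Fin d ⊕ Fin d) (Fin d ⊕ Fin d) F)) = U ∧ W.map (Matrix.toLin' (x : Matrix (Fin d ⊕ Fin d) (Fin d ⊕ Fin d) F)) = W) ∨
         (U.map (Matrix.toLin' (x : Matrix (Fin d ⊕ Fin d) (Fin d ⊕ Fin d) F)) = W ∧ W.map (Matrix.toLin' (x : Matrix (Fin d ⊕ Fin d) (Fin d ⊕ Fin d) F)) = U)) := by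
  obtain ⟨z, hz2⟩ := hx1
  set X : Matrix (Fin d ⊕ Fin d) (Fin d ⊕ Fin d) F := (x : Matrix (Fin d ⊕ Fin d) (Fin d ⊕ Fin d) F) with hX
  rw [SubmonoidClass.coe_pow, ← hX] at hz2
  let T : (Fin d ⊕ Fin d → F) →ₗ[F] (Fin d ⊕ Fin d → F) := Matrix.toLin' X
  have hT : ∀ u v, Cfsg.sympForm d F (T u) (T v) = Cfsg.sympForm d F u v := fun u v => by
    simp only [T, Matrix.toLin'_apply]; exact form_mulVec x.2 u v
  have hT2 : ∀ u, T (T u) = z • u := fun u => by
    simp only [T, Matrix.toLin'_apply]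
    rw [Matrix.mulVec_mulVec, ← pow_two, hz2, Matrix.smul_mulVec, Matrix.one_mulVec]
  have h2 : (2 : F) ≠ 0 := by
    intro h
    have h' := (CharP.cast_eq_zero_iff F p 2).1 (by exact_mod_cast h)
    have hp2 : p = 2 := (Nat.prime_dvd_prime_iff_eq Fact.out Nat.prime_two).1 h'
    obtain ⟨n, hn, hcard⟩ := FiniteField.card F p
    rw [hq, hp2] at hcard
    rw [hcard] at hodd
    exact absurd hodd (by simp [Nat.odd_pow_iff n.ne_zero])
  have hz : z = 1 ∨ z = -1 := by
    have hne : (Pi.single (Sum.inl ⟨0, by omega⟩) 1 : Fin d ⊕ Fin d → F) ≠ 0 := by simp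
    obtain ⟨w, hw⟩ := exists_form_ne_zero hne
    have h := (hT _ _).trans (hT (Pi.single (Sum.inl ⟨0, by omega⟩) 1) w)
    rw [hT2, hT2, form_smul_left, form_smul_right, ← mul_assoc] at h
    exact mul_self_eq_one_iff.1 (mul_right_cancel₀ hw (h.trans (one_mul _).symm))
  obtain ⟨U, W, hsup, hdis, hU, hW, hperm⟩ := exists_lagrangian_pair h2 T hT z hz hT2 _ ⊤ rfl
    (fun _ _ => Submodule.mem_top) (fun u _ h => eq_zero_of_forall_form fun w => h w Submodule.mem_top)
  have hz0 : z ≠ 0 := by rcases hz with rfl | rfl <;> simp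
  have himg : ∀ A B : Submodule F (Fin d ⊕ Fin d → F), (∀ u ∈ A, T u ∈ B) → (∀ u ∈ B, T u ∈ A) →
      A.map T = B := by
    intro A B hAB hBA
    refine le_antisymm (Submodule.map_le_iff_le_comap.2 hAB) fun b hb => ?_
    refine ⟨z⁻¹ • T b, A.smul_mem _ (hBA b hb), ?_⟩
    rw [map_smul, hT2, smul_smul, inv_mul_cancel₀ hz0, one_smul]
  refine ⟨U, W, ⟨hdis, codisjoint_iff.2 hsup⟩, hU, hW, ?_⟩
  rcases hperm with ⟨-, h1, h2'⟩ | ⟨-, h1, h2'⟩
  · exact Or.inl ⟨himg U U h1 h1, himg W W h2' h2'⟩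
  · exact Or.inr ⟨himg U W h1 h2', himg W U h2' h1⟩

end Cfsg.Agent.S5962
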