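import Cfsg.Statements.S5963
import Cfsg.Agent.Lib.LinFix.SympIndex
-- import your own Cfsg.Agent.* helpers here

set_option autoImplicit false
open scoped MatrixGroups
open Cfsg

namespace Cfsg.Agent.S5963

open CfsgLib.LinFix CfsgLib.Linear.Symp

section count

variable {F : Type*} [Field F] {d : ℕ}

local notation "VV" => (Fin d ⊕ Fin d → F)

/-- The coordinate embedding of the first half. -/
def inlMap (F : Type*) [Field F] (d : ℕ) : (Fin d → F) →ₗ[F] (Fin d ⊕ Fin d → F) where
  toFun x := Sum.elim x 0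
  map_add' x y := funext fun j => by rcases j with j | j <;> simp
  map_smul' c x := funext fun j => by rcases j with j | j <;> simp

/-- The coordinate embedding of the second half. -/
def inrMap (F : Type*) [Field F] (d : ℕ) : (Fin d → F) →ₗ[F] (Fin d ⊕ Fin d → F) where
  toFun x := Sum.elim 0 x
  map_add' x y := funext fun j => by rcases j with j | j <;> simp
  map_smul' c x := funext fun j => by rcases j with j | j <;> simp

theorem form_inl_inl (x y : Fin d → F) : sympForm d F (inlMap F d x) (inlMap F d y) = 0 := by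
  simp [sympForm_eq_sum, inlMap]

theorem form_inr_inr (x y : Fin d → F) : sympForm d F (inrMap F d x) (inrMap F d y) = 0 := by
  simp [sympForm_eq_sum, inrMap]

/-- The pairs of complementary totally isotropic subspaces. -/
def IsPair (P : Submodule F VV × Submodule F VV) : Prop :=
  IsCompl P.1 P.2 ∧ (∀ u ∈ P.1, ∀ v ∈ P.1, sympForm d F u v = 0) ∧
    (∀ u ∈ P.2, ∀ v ∈ P.2, sympForm d F u v = 0)

theorem eq_zero_of_orth {U W : Submodule F VV} (h : IsPair (U, W)) {w : VV} (hw : w ∈ W)
    (ho : ∀ u ∈ U, sympForm d F u w = 0) : w = 0 := by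
  refine eq_zero_of_forall_form fun v => ?_
  obtain ⟨u, hu, w', hw', rfl⟩ := Submodule.mem_sup.1 (h.1.sup_eq_top.symm ▸ Submodule.mem_top : v ∈ U ⊔ W)
  rw [form_add_right, form_swap u w, ho u hu, h.2.2 w hw w' hw', neg_zero, add_zero]

theorem IsPair.symm {U W : Submodule F VV} (h : IsPair (U, W)) : IsPair (W, U) :=
  ⟨h.1.symm, h.2.2, h.2.1⟩

theorem finrank_le_of_pair {U W : Submodule F VV} (h : IsPair (U, W)) :
    Module.finrank F W ≤ Module.finrank F U := by
  let L : W →ₗ[F] (U →ₗ[F] F) := LinearMap.mk₂ F (fun w u => sympForm d F (u : VV) (w : VV))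
    (fun a b u => by simp [form_add_right]) (fun c a u => by simp [form_smul_right])
    (fun a u v => by simp [form_add_left]) (fun c a u => by simp [form_smul_left])
  have hL : Function.Injective L := by
    rw [injective_iff_map_eq_zero]
    intro w hw
    exact Subtype.ext (eq_zero_of_orth h w.2 fun u hu => LinearMap.congr_fun hw ⟨u, hu⟩)
  exact (LinearMap.finrank_le_finrank_of_injective hL).trans_eq (Subspace.dual_finrank_eq)

theorem finrank_of_pair {U W : Submodule F VV} (h : IsPair (U, W)) :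
    Module.finrank F U = d ∧ Module.finrank F W = d := by
  have h1 := finrank_le_of_pair h
  have h2 := finrank_le_of_pair h.symm
  have h3 : Module.finrank F U + Module.finrank F W = Module.finrank F VV :=
    Submodule.finrank_add_eq_of_isCompl h.1
  rw [Module.finrank_pi, Fintype.card_sum, Fintype.card_fin] at h3
  omega

/-- The dual family in `W` of a basis of `U`. -/
theorem pairing_bijective {U W : Submodule F VV} (h : IsPair (U, W)) {s : Fin d → VV}
    (hs : LinearIndependent F s) (hsU : ∀ i, s i ∈ U) :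
    Function.Bijective (fun (w : W) (j : Fin d) => sympForm d F (s j) (w : VV)) := by
  let L : W →ₗ[F] (Fin d → F) :=
    { toFun := fun w j => sympForm d F (s j) (w : VV)
      map_add' := fun a b => funext fun j => by simp [form_add_right]
      map_smul' := fun c a => funext fun j => by simp [form_smul_right] }
  have hspan : Submodule.span F (Set.range s) = U :=
    Submodule.eq_of_le_of_finrank_eq (Submodule.span_le.2 (by rintro _ ⟨i, rfl⟩; exact hsU i))
      (by rw [finrank_span_eq_card hs, Fintype.card_fin, (finrank_of_pair h).1])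
  have hinj : Function.Injective L := by
    rw [injective_iff_map_eq_zero]
    intro w hw
    refine Subtype.ext (eq_zero_of_orth h w.2 fun u hu => ?_)
    rw [← hspan] at hu
    induction hu using Submodule.span_induction with
    | mem x hx => obtain ⟨j, rfl⟩ := hx; exact congrFun hw j
    | zero => exact form_zero_left _
    | add x y _ _ hx hy => rw [form_add_left, hx, hy, add_zero]
    | smul c x _ hx => rw [form_smul_left, hx, mul_zero]
  exact ⟨hinj, (LinearMap.injective_iff_surjective_of_finrank_eq_finrank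
    (by rw [(finrank_of_pair h).2, Module.finrank_fin_fun])).1 hinj⟩

variable [Fintype F]

theorem card_pairs_mul :
    Nat.card {P : Submodule F VV × Submodule F VV // IsPair P} *
        ∏ j : Fin d, (Fintype.card F ^ d - Fintype.card F ^ (j : ℕ)) =
      Nat.card ↥(Matrix.symplecticGroup (Fin d) F) := by
  classical
  haveI : Finite (Submodule F VV) := Finite.of_injective _ SetLike.coe_injective
  haveI : Fintype {P : Submodule F VV × Submodule F VV // IsPair P} := Fintype.ofFinite _
  let T := {t : (Submodule F VV × Submodule F VV) × (Fin d → VV) //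
    IsPair t.1 ∧ LinearIndependent F t.2 ∧ ∀ i, t.2 i ∈ t.1.1}
  have hT : Nat.card T = Nat.card {P : Submodule F VV × Submodule F VV // IsPair P} *
      ∏ j : Fin d, (Fintype.card F ^ d - Fintype.card F ^ (j : ℕ)) := by
    let e : T ≃ Σ P : {P : Submodule F VV × Submodule F VV // IsPair P},
        {s : Fin d → P.1.1 // LinearIndependent F s} :=
      { toFun := fun t => ⟨⟨t.1.1, t.2.1⟩, ⟨fun i => ⟨t.1.2 i, t.2.2.2 i⟩,
          LinearIndependent.of_comp t.1.1.1.subtype t.2.2.1⟩⟩
        invFun := fun x => ⟨(x.1.1, fun i => (x.2.1 i : VV)), x.1.2,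
          x.2.2.map' _ (Submodule.ker_subtype _), fun i => (x.2.1 i).2⟩
        left_inv := fun _ => rfl
        right_inv := fun _ => rfl }
    rw [Nat.card_congr e, Nat.card_sigma, Finset.sum_congr rfl
      (g := fun _ => ∏ j : Fin d, (Fintype.card F ^ d - Fintype.card F ^ (j : ℕ))),
      Finset.sum_const, Finset.card_univ, smul_eq_mul, Nat.card_eq_fintype_card]
    intro P _
    rw [card_linearIndependent (K := F) (V := P.1.1) (finrank_of_pair (U := P.1.1) (W := P.1.2) P.2).1.ge,
      (finrank_of_pair (U := P.1.1) (W := P.1.2) P.2).1]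
  rw [← hT]
  let g' : ↥(Matrix.symplecticGroup (Fin d) F) → (VV →ₗ[F] VV) := fun g => Matrix.toLin' g.1
  have hg' : ∀ g x y, sympForm d F (g' g x) (g' g y) = sympForm d F x y :=
    fun g x y => form_mulVec g.2 x y
  have hginj : ∀ g, Function.Injective (g' g) := fun g => (injective_iff_map_eq_zero _).2 fun x hx =>
    eq_zero_of_forall_form fun w => by rw [← hg' g, hx, form_zero_left]
  have hinl : Function.Injective (inlMap F d) := fun x y h => funext fun j => congrFun h (Sum.inl j)
  have hstd : IsCompl (LinearMap.range (inlMap F d)) (LinearMap.range (inrMap F d)) := by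
    refine ⟨?_, ?_⟩
    · rw [Submodule.disjoint_def]
      rintro _ ⟨x, rfl⟩ ⟨y, hy⟩
      funext j
      rcases j with j | j
      · have := congrFun hy (Sum.inl j)
        simpa [inlMap, inrMap] using this.symm
      · simp [inlMap]
    · rw [codisjoint_iff, eq_top_iff]
      intro v _
      exact Submodule.mem_sup.2 ⟨_, ⟨v ∘ Sum.inl, rfl⟩, _, ⟨v ∘ Sum.inr, rfl⟩,
        funext fun j => by rcases j with j | j <;> simp [inlMap, inrMap]⟩
  let Φ : ↥(Matrix.symplecticGroup (Fin d) F) → T := fun g =>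
    ⟨(((LinearMap.range (inlMap F d)).map (g' g), (LinearMap.range (inrMap F d)).map (g' g)),
      fun i => g' g (inlMap F d (Pi.single i 1))),
      ⟨by
        refine (Submodule.orderIsoMapComap (LinearEquiv.ofBijective (g' g)
          ⟨hginj g, LinearMap.injective_iff_surjective.1 (hginj g)⟩)).isCompl_iff.1 hstd,
       by rintro _ ⟨_, ⟨x, rfl⟩, rfl⟩ _ ⟨_, ⟨y, rfl⟩, rfl⟩; rw [hg', form_inl_inl],
       by rintro _ ⟨_, ⟨x, rfl⟩, rfl⟩ _ ⟨_, ⟨y, rfl⟩, rfl⟩; rw [hg', form_inr_inr]⟩,
      by
        have h := (Pi.basisFun F (Fin d)).linearIndependent.map' ((g' g).comp (inlMap F d))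
          (LinearMap.ker_eq_bot.2 ((hginj g).comp hinl))
        simp only [Function.comp_def, LinearMap.comp_apply, Pi.basisFun_apply] at h
        exact h,
      fun i => ⟨_, ⟨_, rfl⟩, rfl⟩⟩
  refine (Nat.card_congr (Equiv.ofBijective Φ ⟨fun g h hgh => ?_, fun t => ?_⟩)).symm
  · have he1 : ∀ i, g' g (inlMap F d (Pi.single i 1)) = g' h (inlMap F d (Pi.single i 1)) :=
      fun i => congrFun (congrArg (fun t : T => t.1.2) hgh) i
    have he2 : ∀ i, g' g (inrMap F d (Pi.single i 1)) = g' h (inrMap F d (Pi.single i 1)) := by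
      intro i
      set t := Φ h
      have hm : g' g (inrMap F d (Pi.single i 1)) ∈ t.1.1.2 :=
        hgh ▸ (⟨_, ⟨_, rfl⟩, rfl⟩ : g' g (inrMap F d (Pi.single i 1)) ∈ (Φ g).1.1.2)
      have hm' : g' h (inrMap F d (Pi.single i 1)) ∈ t.1.1.2 := ⟨_, ⟨_, rfl⟩, rfl⟩
      have := (pairing_bijective (U := t.1.1.1) (W := t.1.1.2) t.2.1 t.2.2.1 t.2.2.2).1
        (a₁ := ⟨_, hm⟩) (a₂ := ⟨_, hm'⟩) (funext fun j => by
          change sympForm d F (g' h _) (g' g _) = sympForm d F (g' h _) (g' h _)
          rw [← he1, hg', he1, hg'])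
      exact congrArg Subtype.val this
    apply Subtype.ext
    refine Matrix.toLin'.injective ((Pi.basisFun F _).ext fun j => ?_)
    rw [Pi.basisFun_apply]
    rcases j with j | j
    · have e : (Pi.single (Sum.inl j) 1 : VV) = inlMap F d (Pi.single j 1) :=
        funext fun k => by rcases k with k | k <;> simp [inlMap, Pi.single_apply]
      rw [e]; exact he1 j
    · have e : (Pi.single (Sum.inr j) 1 : VV) = inrMap F d (Pi.single j 1) :=
        funext fun k => by rcases k with k | k <;> simp [inrMap, Pi.single_apply]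
      rw [e]; exact he2 j
  · obtain ⟨⟨⟨U, W⟩, u⟩, hP, hu, huU⟩ := t
    have hb := pairing_bijective hP hu huU
    choose w hw using fun k : Fin d => hb.2 (fun j => if j = k then -1 else 0)
    let G : VV →ₗ[F] VV := Fintype.linearCombination F (Sum.elim u fun k => (w k : VV))
    have hGl : ∀ i, G (Pi.single (Sum.inl i) 1) = u i := fun i => by
      simp [G, Fintype.linearCombination_apply_single]
    have hGr : ∀ i, G (Pi.single (Sum.inr i) 1) = (w i : VV) := fun i => by
      simp [G, Fintype.linearCombination_apply_single]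
    have huw : ∀ j k, sympForm d F (u j) (w k : VV) = if j = k then -1 else 0 :=
      fun j k => congrFun (hw k) j
    let B : VV →ₗ[F] VV →ₗ[F] F := LinearMap.mk₂ F (sympForm d F) form_add_left form_smul_left
      form_add_right form_smul_right
    have hform : ∀ x y, sympForm d F (G x) (G y) = sympForm d F x y := by
      have h : B.compl₁₂ G G = B := by
        refine LinearMap.ext_basis (Pi.basisFun F _) (Pi.basisFun F _) fun a b => ?_
        simp only [Pi.basisFun_apply, LinearMap.compl₁₂_apply, B, LinearMap.mk₂_apply]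
        rcases a with a | a <;> rcases b with b | b
        · rw [hGl, hGl, hP.2.1 _ (huU a) _ (huU b), form_single_inl, Pi.single_eq_of_ne (by simp)]
        · rw [hGl, hGr, huw, form_single_inr]
          by_cases h : a = b
          · subst h; simp
          · simp [h, Ne.symm h]
        · rw [hGr, hGl, form_swap, huw, form_single_inl]
          by_cases h : a = b
          · subst h; simp
          · simp [h, Ne.symm h]
        · rw [hGr, hGr, hP.2.2 _ (w a).2 _ (w b).2, form_single_inr, Pi.single_eq_of_ne (by simp), neg_zero]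
      exact fun x y => LinearMap.congr_fun₂ h x y
    let A : ↥(Matrix.symplecticGroup (Fin d) F) := ⟨LinearMap.toMatrix' G,
      mem_of_form_mulVec fun x y => by
        rw [← Matrix.toLin'_apply, ← Matrix.toLin'_apply, Matrix.toLin'_toMatrix']; exact hform x y⟩
    refine ⟨A, ?_⟩
    have hA : g' A = G := Matrix.toLin'_toMatrix' G
    have hU : (LinearMap.range (inlMap F d)).map G ≤ U := by
      rintro _ ⟨_, ⟨x, rfl⟩, rfl⟩
      change Fintype.linearCombination F _ _ ∈ U
      rw [Fintype.linearCombination_apply, Fintype.sum_sum_type]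
      simpa [inlMap] using U.sum_mem fun i _ => U.smul_mem (x i) (huU i)
    have hW : (LinearMap.range (inrMap F d)).map G ≤ W := by
      rintro _ ⟨_, ⟨x, rfl⟩, rfl⟩
      change Fintype.linearCombination F _ _ ∈ W
      rw [Fintype.linearCombination_apply, Fintype.sum_sum_type]
      simpa [inrMap] using W.sum_mem fun i _ => W.smul_mem (x i) (w i).2
    obtain ⟨hU', hW'⟩ := finrank_of_pair hP
    obtain ⟨h1, h2⟩ := finrank_of_pair (U := (Φ A).1.1.1) (W := (Φ A).1.1.2) (Φ A).2.1
    refine Subtype.ext (Prod.ext (Prod.ext ?_ ?_) (funext fun i => ?_))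
    · refine Submodule.eq_of_le_of_finrank_eq ?_ (h1.trans hU'.symm)
      change (LinearMap.range (inlMap F d)).map (g' A) ≤ U
      rwa [hA]
    · refine Submodule.eq_of_le_of_finrank_eq ?_ (h2.trans hW'.symm)
      change (LinearMap.range (inrMap F d)).map (g' A) ≤ W
      rwa [hA]
    · change g' A (inlMap F d (Pi.single i 1)) = u i
      rw [hA, ← hGl i]
      congr 1
      exact funext fun k => by rcases k with k | k <;> simp [inlMap, Pi.single_apply]

theorem two_dvd_and_exists_dvd {p : ℕ} [Fact p.Prime] [CharP F p] (hd : 1 ≤ d)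
    (hodd : Odd (Fintype.card F)) {r : ℕ} [Fact r.Prime] (hrp : r ≠ p)
    (h : r ∣ Nat.card {P : Submodule F VV × Submodule F VV // IsPair P} / 2) :
    ∃ j < d, r ∣ Fintype.card F ^ (j + 1) + 1 := by
  have hq : 2 ≤ Fintype.card F := Fintype.one_lt_card
  set q := Fintype.card F with hqdef
  set N := Nat.card {P : Submodule F VV × Submodule F VV // IsPair P}
  set A := ∏ j ∈ Finset.range d, (q ^ (j + 1) - 1)
  set C := ∏ j ∈ Finset.range d, (q ^ (j + 1) + 1)
  set Q := ∏ j ∈ Finset.range d, q ^ j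
  have hA0 : A ≠ 0 := Finset.prod_ne_zero_iff.2 fun j _ => by
    have := Nat.one_lt_pow (n := j + 1) (by omega) (show 1 < q by omega)
    omega
  have hG : ∏ j : Fin d, (q ^ d - q ^ (j : ℕ)) = Q * A := by
    rw [Fin.prod_univ_eq_prod_range (fun j => q ^ d - q ^ j), prod_sub_eq le_rfl, fallProd,
      ← Finset.prod_range_reflect (fun j => q ^ (d - j) - 1)]
    congr 1
    refine Finset.prod_congr rfl fun j hj => ?_
    rw [Finset.mem_range] at hj
    rw [show d - (d - 1 - j) = j + 1 by omega]
  have hB : ∏ i ∈ Finset.range d, (q ^ (2 * (i + 1)) - 1) = C * A := by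
    rw [← Finset.prod_mul_distrib]
    refine Finset.prod_congr rfl fun j _ => ?_
    rw [mul_comm 2, pow_mul, ← Nat.sq_sub_sq, one_pow]
  have h0 := card_pairs_mul (F := F) (d := d)
  rw [card_symplectic, hG, hB] at h0
  have hNQ : N * Q = q ^ d ^ 2 * C :=
    Nat.eq_of_mul_eq_mul_right (Nat.pos_of_ne_zero hA0) (by rw [mul_assoc, h0, mul_assoc])
  have h2C : 2 ∣ C := (dvd_trans (by rw [Nat.odd_iff] at hodd; simp; omega : 2 ∣ q ^ (0 + 1) + 1)
    (Finset.dvd_prod_of_mem _ (Finset.mem_range.2 hd)))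
  have h2N : 2 ∣ N := by
    rcases Nat.prime_two.dvd_mul.1 ((h2C.mul_left _).trans hNQ.symm.dvd) with h' | h'
    · exact h'
    · obtain ⟨j, -, hj⟩ := Nat.prime_two.prime.exists_mem_finset_dvd h'
      exact absurd (Nat.prime_two.dvd_of_dvd_pow hj) (by rw [Nat.odd_iff] at hodd; omega)
  have hrN : r ∣ q ^ d ^ 2 * C :=
    ((h.trans (Nat.div_dvd_of_dvd h2N)).mul_right Q).trans hNQ.dvd
  have hr := (Fact.out : r.Prime)
  rcases hr.dvd_mul.1 hrN with h' | h'
  · obtain ⟨k, -, hk⟩ := FiniteField.card F p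
    rw [hqdef, hk] at h'
    exact absurd ((Nat.prime_dvd_prime_iff_eq hr Fact.out).1 (hr.dvd_of_dvd_pow (hr.dvd_of_dvd_pow h'))) hrp
  · obtain ⟨j, hj, hj'⟩ := hr.prime.exists_mem_finset_dvd h'
    exact ⟨j, Finset.mem_range.1 hj, hj'⟩

end count

/-- The derangement: an irreducible block of dimension twice `b`, extended by the identity. -/
theorem exists_derangement {F : Type*} [Field F] [Fintype F] {p : ℕ} [Fact p.Prime] [CharP F p]
    {d r : ℕ} [Fact r.Prime] (hr2 : r ≠ 2) (hrp : r ≠ p) (h2 : (2 : F) ≠ 0) {j : ℕ} (hjd : j < d)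
    (hj : r ∣ Fintype.card F ^ (j + 1) + 1) :
    ∃ x : ↥(Matrix.symplecticGroup (Fin d) F), Matrix.toLin' x.1 ^ r = 1 ∧
      ∀ U W : Submodule F (Fin d ⊕ Fin d → F), IsPair (U, W) →
        Inv (Matrix.toLin' x.1) U → Inv (Matrix.toLin' x.1) W → False := by
  have hr := (Fact.out : r.Prime)
  set q := Fintype.card F with hqdef
  -- the order of `q` is even
  set i := orderOf (q : ZMod r) with hidef
  have hi0 : 0 < i := orderOf_pos_of_ne (p := p) hrp
  have hneg : (q : ZMod r) ^ (j + 1) = -1 := by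
    rw [eq_neg_iff_add_eq_zero]
    exact_mod_cast (CharP.cast_eq_zero_iff (ZMod r) r _).2 hj
  have h1ne : (-1 : ZMod r) ≠ 1 := fun h => by
    have h' : ((2 : ℕ) : ZMod r) = 0 := by
      push_cast; linear_combination -h
    exact hr2 ((Nat.prime_dvd_prime_iff_eq hr Nat.prime_two).1 ((CharP.cast_eq_zero_iff (ZMod r) r _).1 h'))
  obtain ⟨b, hb⟩ : 2 ∣ i := by
    by_contra hnd
    have hc : i.Coprime 2 := (Nat.prime_two.coprime_iff_not_dvd.2 hnd).symm
    have hdvd : i ∣ (j + 1) * 2 := orderOf_dvd_of_pow_eq_one (by rw [pow_mul, hneg]; ring)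
    exact h1ne (hneg.symm.trans (orderOf_dvd_iff_pow_eq_one.1 (hc.dvd_of_dvd_mul_right hdvd)))
  have hbneg : (q : ZMod r) ^ b = -1 := by
    have hsq : ((q : ZMod r) ^ b) ^ 2 = 1 := by rw [← pow_mul, mul_comm, ← hb]; exact pow_orderOf_eq_one _
    refine (sq_eq_one_iff.1 hsq).resolve_left fun h => ?_
    have := Nat.le_of_dvd (by omega) (orderOf_dvd_of_pow_eq_one h)
    omega
  have hbd : b ≤ d := by
    have hdvd : i ∣ (j + 1) * 2 := orderOf_dvd_of_pow_eq_one (by rw [pow_mul, hneg]; ring)
    have := Nat.le_of_dvd (by omega) hdvd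
    omega
  obtain ⟨g, hg, -, hgd, hg1⟩ := exists_irreducible_dvd_X_pow_sub_one (F := F) (r := r) hrp
  have hdeg := natDegree_eq_order (by omega : 0 < orderOf (Fintype.card F : ZMod r)) hg hgd hg1
  haveI : Fact (Irreducible g) := ⟨hg⟩
  set E := AdjoinRoot g
  haveI : Module.Finite F E := (AdjoinRoot.powerBasis hg.ne_zero).finite
  haveI : Finite E := Module.finite_of_finite F
  haveI : Fintype E := Fintype.ofFinite E
  have hE : Module.finrank F E = i := by
    rw [hidef, ← hdeg]; exact finrank_quotient_span_eq_natDegree (f := g)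
  have hcardE : Fintype.card E = q ^ i := by rw [Module.card_eq_pow_finrank (K := F), hE]
  set β := AdjoinRoot.root g with hβ
  have hβr : β ^ r = 1 := by
    have h : Polynomial.aeval β (Polynomial.X ^ r - 1 : Polynomial F) = 0 := by
      rw [AdjoinRoot.aeval_eq, AdjoinRoot.mk_eq_zero]; exact hgd
    simpa [sub_eq_zero] using h
  have hβ1 : β ≠ 1 := fun h => hg1 (by
    rw [← AdjoinRoot.mk_eq_zero, map_sub, AdjoinRoot.mk_X, map_one]; exact sub_eq_zero.2 h)
  set σ : E →ₐ[F] E := FiniteField.frobeniusAlgHom F E ^ b with hσdef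
  have hpow : ∀ (k : ℕ) (e : E), (FiniteField.frobeniusAlgHom F E ^ k) e = e ^ q ^ k := by
    intro k
    induction k with
    | zero => intro e; simp
    | succ k ih =>
      intro e
      rw [pow_succ', AlgHom.mul_apply, ih]
      change (e ^ q ^ k) ^ q = e ^ q ^ (k + 1)
      rw [← pow_mul, ← pow_succ]
  have hσ : ∀ e : E, σ e = e ^ q ^ b := fun e => hpow b e
  have hσσ : ∀ e, σ (σ e) = e := fun e => by
    rw [hσ, hσ, ← pow_mul, ← pow_add, ← two_mul, ← hb, ← hcardE, FiniteField.pow_card]
  have hσβ : σ β * β = 1 := by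
    rw [hσ, ← pow_succ]
    obtain ⟨k, hk⟩ : r ∣ q ^ b + 1 := by
      rw [← CharP.cast_eq_zero_iff (ZMod r) r]; push_cast; rw [hbneg]; ring
    rw [hk, pow_mul, hβr, one_pow]
  obtain ⟨e₀, he₀⟩ : ∃ e, σ e ≠ e := ⟨β, fun h => by
    rw [h, ← pow_two] at hσβ
    exact hr2 ((Nat.prime_dvd_prime_iff_eq hr Nat.prime_two).1
      (orderOf_eq_prime hβr hβ1 ▸ orderOf_dvd_of_pow_eq_one hσβ))⟩
  set γ := e₀ - σ e₀ with hγdef
  have hγ0 : γ ≠ 0 := sub_ne_zero.2 (Ne.symm he₀)
  have hγ : σ γ = - γ := by rw [hγdef, map_sub, hσσ, neg_sub]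
  set tr := Algebra.trace F E with htr
  let BE : E →ₗ[F] E →ₗ[F] F := LinearMap.mk₂ F (fun u v => tr (γ * u * σ v))
    (fun a a' v => by simp [mul_add, add_mul])
    (fun c a v => by rw [mul_smul_comm, smul_mul_assoc, map_smul])
    (fun a v v' => by simp [mul_add])
    (fun c a v => by rw [map_smul, mul_smul_comm, map_smul])
  have hBalt : ∀ u, BE u u = 0 := fun u => by
    have h : tr (σ (γ * u * σ u)) = tr (γ * u * σ u) :=
      Algebra.trace_eq_of_algEquiv (AlgEquiv.ofBijective σ
        (Finite.injective_iff_bijective.1 σ.toRingHom.injective)) _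
    rw [map_mul σ, map_mul σ, hσσ, hγ, neg_mul, neg_mul, map_neg, mul_assoc, mul_comm (σ u), ← mul_assoc] at h
    change tr (γ * u * σ u) = 0
    have : tr (γ * u * σ u) * 2 = 0 := by linear_combination -h
    exact (mul_eq_zero.1 this).resolve_right h2
  have hBnd : ∀ u, (∀ v, BE u v = 0) → u = 0 := fun u hu => by
    have h : γ * u = 0 := (traceForm_nondegenerate F E).1 _ fun w => by
      rw [Algebra.traceForm_apply, ← hσσ w]; exact hu _
    exact (mul_eq_zero.1 h).resolve_left hγ0
  have hBinv : ∀ u v, BE (β * u) (β * v) = BE u v := fun u v => by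
    change tr (γ * (β * u) * σ (β * v)) = tr (γ * u * σ v)
    rw [map_mul σ, show γ * (β * u) * (σ β * σ v) = (σ β * β) * (γ * u * σ v) by ring, hσβ, one_mul]
  -- the whole space
  let B : (E × (Fin (d - b) ⊕ Fin (d - b) → F)) →ₗ[F] (E × (Fin (d - b) ⊕ Fin (d - b) → F)) →ₗ[F] F :=
    BE.compl₁₂ (LinearMap.fst F _ _) (LinearMap.fst F _ _) +
      (LinearMap.mk₂ F (sympForm (d - b) F) form_add_left form_smul_left form_add_right
        form_smul_right).compl₁₂ (LinearMap.snd F E _) (LinearMap.snd F E _)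
  have hB : ∀ x y, B x y = BE x.1 y.1 + sympForm (d - b) F x.2 y.2 := fun _ _ => rfl
  obtain ⟨d', ψ, hψ⟩ := exists_sympEquiv B (fun v => by rw [hB, hBalt, form_self, add_zero])
    fun v hv => by
      refine Prod.ext (hBnd _ fun u => ?_) (eq_zero_of_forall_form fun u => ?_)
      · simpa [hB, form_zero_right] using hv (u, 0)
      · simpa [hB] using hv (0, u)
  obtain rfl : d' = d := by
    have := ψ.finrank_eq
    rw [Module.finrank_prod, hE, Module.finrank_pi, Module.finrank_pi, Fintype.card_sum,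
      Fintype.card_sum, Fintype.card_fin, Fintype.card_fin] at this
    omega
  let T₀ : Module.End F (E × (Fin (d' - b) ⊕ Fin (d' - b) → F)) := (LinearMap.mulLeft F β).prodMap 1
  have hT₀ : ∀ v, T₀ v = (β * v.1, v.2) := fun _ => rfl
  let T := ψ.conjAlgEquiv F T₀
  have hT : ∀ v, T (ψ v) = ψ (T₀ v) := fun v => by simp [T, LinearEquiv.conjAlgEquiv_apply]
  refine ⟨⟨LinearMap.toMatrix' T, mem_of_form_mulVec fun x y => ?_⟩, ?_, fun U W hP hU hW => ?_⟩
  · obtain ⟨x, rfl⟩ := ψ.surjective x
    obtain ⟨y, rfl⟩ := ψ.surjective y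
    rw [← Matrix.toLin'_apply, ← Matrix.toLin'_apply, Matrix.toLin'_toMatrix', hT, hT, ← hψ, ← hψ,
      hB, hB, hT₀, hT₀, hBinv]
  · change Matrix.toLin' (LinearMap.toMatrix' T) ^ r = 1
    rw [Matrix.toLin'_toMatrix', show T ^ r = ψ.conjAlgEquiv F (T₀ ^ r) from (map_pow _ _ _).symm]
    have : T₀ ^ r = 1 := by
      have hk : ∀ k v, (T₀ ^ k) v = (β ^ k * v.1, v.2) := by
        intro k
        induction k with
        | zero => intro v; simp
        | succ k ih => intro v; rw [pow_succ', Module.End.mul_apply, ih, hT₀, pow_succ', mul_assoc]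
      exact LinearMap.ext fun v => by rw [hk, hβr, one_mul]; rfl
    rw [this, map_one]
  · simp only [Matrix.toLin'_toMatrix'] at hU hW
    have key : ∀ U : Submodule F (Fin d' ⊕ Fin d' → F), Inv T U →
        (∀ u ∈ U, ∀ v ∈ U, sympForm d' F u v = 0) → ∀ v, ψ v ∈ U → v.1 = 0 := by
      intro U hU hiso v hv
      by_contra hv1
      set e := (β - 1) * v.1 with he
      have he0 : e ≠ 0 := mul_ne_zero (sub_ne_zero.2 hβ1) hv1
      have hemem : ψ (e, 0) ∈ U := by
        have h := U.sub_mem (hU _ hv) hv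
        rw [hT, ← map_sub, hT₀] at h
        convert h using 2
        ext <;> simp [he, sub_mul]
      have hall : ∀ Q : Polynomial F, ψ (Polynomial.aeval β Q * e, 0) ∈ U := by
        intro Q
        induction Q using Polynomial.induction_on with
        | C a =>
          rw [Polynomial.aeval_C, ← Algebra.smul_def]
          have h := U.smul_mem a hemem
          rwa [← map_smul, Prod.smul_mk, smul_zero] at h
        | add P Q hP hQ =>
          have h := U.add_mem hP hQ
          rwa [← map_add, Prod.mk_add_mk, add_zero, ← add_mul, ← map_add] at h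
        | monomial k a ih =>
          have h := hU _ ih
          rw [hT, hT₀] at h
          simpa [pow_succ', mul_assoc, mul_left_comm] using h
      have hfull : ∀ u : E, ψ (u, 0) ∈ U := fun u => by
        obtain ⟨Q, hQ⟩ := AdjoinRoot.mk_surjective (u / e)
        have h := hall Q
        rwa [AdjoinRoot.aeval_eq, hQ, div_mul_cancel₀ _ he0] at h
      refine hv1 (hBnd _ fun u => ?_)
      have h := hiso _ (hfull v.1) _ (hfull u)
      rwa [← hψ, hB, form_zero_left, add_zero] at h
    have h1 : ψ ((1 : E), (0 : Fin (d' - b) ⊕ Fin (d' - b) → F)) ∈ U ⊔ W :=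
      hP.1.sup_eq_top.symm ▸ Submodule.mem_top
    obtain ⟨u, hu, w, hw, huw⟩ := Submodule.mem_sup.1 h1
    obtain ⟨u, rfl⟩ := ψ.surjective u
    obtain ⟨w, rfl⟩ := ψ.surjective w
    rw [← map_add, ψ.injective.eq_iff] at huw
    have h' := congrArg Prod.fst huw
    rw [Prod.fst_add, key U hU hP.2.1 u hu, key W hW hP.2.2 w hw, add_zero] at h'
    exact zero_ne_one h'

/-- Derangements of odd prime order of PSp_n(q), q odd, on pairs of complementary totally isotropic subspaces. Here `T = PSp_n(q)`, `n = 2d ≥ 4`, `q` odd, realised through the symplectic matrices over the field `F` with `q` elements; Ω is the set of unordered pairs `{U, W}` of complementary totally isotropic `d`-spaces (`F^n = U ⊕ W`), whose stabilizers are the subgroups of type GL_d(q).2 (maximal except in some small cases; maximality is not assumed); an element of `T` of prime order `r` (a symplectic matrix `x` with `x^r` scalar, `x` not scalar) fixes such a pair when it fixes or interchanges `U` and `W`. For every odd prime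 `r ≠ p` dividing the number of such pairs, some element of `T` of order `r` fixes no such pair (the action is never `r`-elusive for odd `r ≠ p`). -/
theorem result {F : Type*} [Field F] [Fintype F] {p : ℕ} [Fact p.Prime] [CharP F p] {q : ℕ} (hq : Fintype.card F = q)
    (d : ℕ) (hd : 2 ≤ d) (hT : (d, q) ≠ (2, 2)) (hodd : Odd q)
    (r : ℕ) [Fact r.Prime] (hr2 : r ≠ 2) (hrp : r ≠ p) (hΩ : r ∣ Nat.card {P : Submodule F (Fin d ⊕ Fin d → F) × Submodule F (Fin d ⊕ Fin d → F) // IsCompl P.1 P.2 ∧ (∀ u ∈ P.1, ∀ v ∈ P.1, Cfsg.sympForm d F u v = 0) ∧ (∀ u ∈ P.2, ∀ v ∈ P.2, Cfsg.sympForm d F u v = 0)} / 2) :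
    ∃ x : ↥(Matrix.symplecticGroup (Fin d) F),
      (∃ z : F, ((x ^ r : ↥(Matrix.symplecticGroup (Fin d) F)) : Matrix (Fin d ⊕ Fin d) (Fin d ⊕ Fin d) F) = z • (1 : Matrix (Fin d ⊕ Fin d) (Fin d ⊕ Fin d) F)) ∧
      (∀ z : F, (x : Matrix (Fin d ⊕ Fin d) (Fin d ⊕ Fin d) F) ≠ z • (1 : Matrix (Fin d ⊕ Fin d) (Fin d ⊕ Fin d) F)) ∧
      ¬ (∃ U W : Submodule F (Fin d ⊕ Fin d → F), IsCompl U W ∧ (∀ u ∈ U, ∀ v ∈ U, Cfsg.sympForm d F u v = 0) ∧ (∀ u ∈ W, ∀ v ∈ W, Cfsg.sympForm d F u v = 0) ∧
        ((U.map (Matrix.toLin' (x : Matrix (Fin d ⊕ Fin d) (Fin d ⊕ Fin d) F)) = U ∧ W.map (Matrix.toLin' (x : Matrix (Fin d ⊕ Fin d) (Fin d ⊕ Fin d) F)) = W) ∨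
         (U.map (Matrix.toLin' (x : Matrix (Fin d ⊕ Fin d) (Fin d ⊕ Fin d) F)) = W ∧ W.map (Matrix.toLin' (x : Matrix (Fin d ⊕ Fin d) (Fin d ⊕ Fin d) F)) = U))) :=
  by
  subst hq
  have h2 : (2 : F) ≠ 0 := by
    intro h
    have hp2 : p = 2 := (Nat.prime_dvd_prime_iff_eq Fact.out Nat.prime_two).1
      ((CharP.cast_eq_zero_iff F p 2).1 (by exact_mod_cast h))
    obtain ⟨k, -, hk⟩ := FiniteField.card F p
    rw [hk, hp2] at hodd
    exact (Nat.not_even_iff_odd.2 hodd) (Nat.even_pow.2 ⟨even_two, k.pos.ne'⟩)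
  have hΩ' : r ∣ Nat.card {P : Submodule F (Fin d ⊕ Fin d → F) × Submodule F (Fin d ⊕ Fin d → F) //
      IsPair P} / 2 := hΩ
  obtain ⟨j, hjd, hj⟩ := two_dvd_and_exists_dvd (p := p) (by omega) hodd hrp hΩ'
  obtain ⟨x, hx, hno⟩ := exists_derangement (p := p) hr2 hrp h2 hjd hj
  set T := Matrix.toLin' (x : Matrix (Fin d ⊕ Fin d) (Fin d ⊕ Fin d) F) with hTdef
  refine ⟨x, ⟨1, ?_⟩, fun z hz => ?_, ?_⟩
  · apply Matrix.toLin'.injective
    rw [SubmonoidClass.coe_pow, one_smul, Matrix.toLin'_one]
    exact (map_pow (Matrix.toLinAlgEquiv' : Matrix (Fin d ⊕ Fin d) (Fin d ⊕ Fin d) F ≃ₐ[F] _) _ r).trans hx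
  · have hinv : ∀ W : Submodule F (Fin d ⊕ Fin d → F), Inv T W := fun W v hv => by
      rw [hTdef, hz, map_smul, Matrix.toLin'_one]; exact W.smul_mem z hv
    have hstd : IsPair (F := F) (d := d)
        (LinearMap.range (inlMap F d), LinearMap.range (inrMap F d)) := by
      refine ⟨⟨?_, ?_⟩, ?_, ?_⟩
      · rw [Submodule.disjoint_def]
        rintro _ ⟨a, rfl⟩ ⟨c, hc⟩
        funext k
        rcases k with k | k
        · have := congrFun hc (Sum.inl k)
          simpa [inlMap, inrMap] using this.symm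
        · simp [inlMap]
      · rw [codisjoint_iff, eq_top_iff]
        intro v _
        exact Submodule.mem_sup.2 ⟨_, ⟨v ∘ Sum.inl, rfl⟩, _, ⟨v ∘ Sum.inr, rfl⟩,
          funext fun k => by rcases k with k | k <;> simp [inlMap, inrMap]⟩
      · rintro _ ⟨a, rfl⟩ _ ⟨c, rfl⟩; exact form_inl_inl a c
      · rintro _ ⟨a, rfl⟩ _ ⟨c, rfl⟩; exact form_inr_inr a c
    exact hno _ _ hstd (hinv _) (hinv _)
  · rintro ⟨U, W, hc, hU, hW, ⟨h1, h1'⟩ | ⟨h1, h1'⟩⟩
    · exact hno U W ⟨hc, hU, hW⟩ (inv_of_map_le h1.le) (inv_of_map_le h1'.le)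
    · obtain ⟨k, hk⟩ := (Fact.out : r.Prime).odd_of_ne_two hr2
      have h2' : U.map (T ^ 2) = U := by
        rw [pow_two, Module.End.mul_eq_comp, Submodule.map_comp, h1, h1']
      have hk2 : ∀ l, U.map (T ^ (2 * l)) = U := by
        intro l
        induction l with
        | zero => rw [mul_zero, pow_zero, Module.End.one_eq_id, Submodule.map_id]
        | succ l ih => rw [Nat.mul_succ, pow_add, Module.End.mul_eq_comp, Submodule.map_comp, h2', ih]
      have heq : U = W := by
        have h := congrArg (fun L : Module.End F (Fin d ⊕ Fin d → F) => U.map L) hx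
        rw [Module.End.one_eq_id, Submodule.map_id, hk, pow_succ',
          Module.End.mul_eq_comp, Submodule.map_comp, hk2, h1] at h
        exact h.symm
      exact hno U W ⟨hc, hU, hW⟩ (inv_of_map_le (by rw [h1, heq])) (inv_of_map_le (by rw [h1', heq]))

end Cfsg.Agent.S5963
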