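import Cfsg.Statements.S5964
import Cfsg.Agent.Lib.LinFix.Subfield
import Cfsg.Agent.Lib.Semisimple.GL
import Cfsg.Agent.Lib.Linear.Card
-- import your own Cfsg.Agent.* helpers here

set_option autoImplicit false
open scoped MatrixGroups
open Cfsg

namespace Cfsg.Agent.S5964

open CfsgLib.LinFix Cfsg.Geo Matrix

variable {F : Type*} [Field F] {n : ℕ}

/-- An involutive matrix is conjugate to a diagonal sign matrix over any subfield. -/
theorem exists_conj_sign (F₀ : Subfield F) (h2 : (2 : F) ≠ 0) {u : Matrix (Fin n) (Fin n) F}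
    (hu : u * u = 1) :
    ∃ (A : GL (Fin n) F) (g : GL (Fin n) F₀), (A : Matrix (Fin n) (Fin n) F) * u =
      (g : Matrix (Fin n) (Fin n) F₀).map F₀.subtype * A := by
  classical
  set T := Matrix.toLin' u with hT
  have hTT : ∀ v, T (T v) = v := fun v => by
    rw [← LinearMap.comp_apply, hT, ← Matrix.toLin'_mul, hu, Matrix.toLin'_one, LinearMap.id_apply]
  set U := Module.End.eigenspace T 1
  set U' := Module.End.eigenspace T (-1)
  have hdis : Disjoint U U' := Submodule.disjoint_def.2 fun v hv hv' => by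
    rw [Module.End.mem_eigenspace_iff] at hv hv'
    have h : (2 : F) • v = 0 := by
      rw [two_smul]
      nth_rw 2 [← one_smul F v]
      rw [← hv]
      nth_rw 1 [← neg_neg v]
      rw [hv', neg_smul, one_smul, neg_add_cancel]
    exact (smul_eq_zero.1 h).resolve_left h2
  have hcod : U ⊔ U' = ⊤ := eq_top_iff.2 fun v _ => Submodule.mem_sup.2
    ⟨(2 : F)⁻¹ • (v + T v), Module.End.mem_eigenspace_iff.2 (by
      rw [map_smul, map_add, hTT, one_smul, add_comm]),
    (2 : F)⁻¹ • (v - T v), Module.End.mem_eigenspace_iff.2 (by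
      rw [map_smul, map_sub, hTT, neg_smul, one_smul, ← smul_neg, neg_sub]), by
      rw [← smul_add, add_add_sub_cancel, ← two_smul F, smul_smul, inv_mul_cancel₀ h2, one_smul]⟩
  have hc : IsCompl U U' := ⟨hdis, codisjoint_iff.2 hcod⟩
  let b0 := ((Module.finBasis F U).prod (Module.finBasis F U')).map (Submodule.prodEquivOfIsCompl U U' hc)
  let e : Fin (Module.finrank F U) ⊕ Fin (Module.finrank F U') ≃ Fin n :=
    finSumFinEquiv.trans (finCongr (by
      exact (Submodule.finrank_add_eq_of_isCompl hc).trans (Module.finrank_fin_fun F)))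
  let b := b0.reindex e
  let s0 : Fin (Module.finrank F U) ⊕ Fin (Module.finrank F U') → F₀ := Sum.elim (fun _ => 1) (fun _ => -1)
  have hev : ∀ j, T (b0 j) = (s0 j : F) • b0 j := by
    rintro (j | j)
    · have := Module.End.mem_eigenspace_iff.1 (Module.finBasis F U j).2
      simpa [b0, s0, Module.Basis.prod_apply] using this
    · have := Module.End.mem_eigenspace_iff.1 (Module.finBasis F U' j).2
      simpa [b0, s0, Module.Basis.prod_apply] using this
  let D : Matrix (Fin n) (Fin n) F₀ := Matrix.diagonal fun i => s0 (e.symm i)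
  have hDD : D * D = 1 := by
    rw [Matrix.diagonal_mul_diagonal, ← Matrix.diagonal_one]
    congr 1
    funext i
    rcases e.symm i with j | j <;> simp [s0]
  let P : Matrix (Fin n) (Fin n) F := (Pi.basisFun F (Fin n)).toMatrix b
  let Q : Matrix (Fin n) (Fin n) F := b.toMatrix (Pi.basisFun F (Fin n))
  let A : GL (Fin n) F := ⟨Q, P, Module.Basis.toMatrix_mul_toMatrix_flip _ _,
    Module.Basis.toMatrix_mul_toMatrix_flip _ _⟩
  have hP : u * P = P * D.map F₀.subtype := by
    ext i j
    have h := congrFun (hev (e.symm j)) i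
    rw [hT, Matrix.toLin'_apply] at h
    simp only [Matrix.mul_apply, P, Module.Basis.toMatrix_apply, Pi.basisFun_repr, b,
      Module.Basis.reindex_apply]
    rw [show D.map F₀.subtype = Matrix.diagonal (fun i => (s0 (e.symm i) : F)) from
      Matrix.diagonal_map (map_zero F₀.subtype)]
    simp only [Matrix.diagonal_apply, Function.comp_apply, mul_ite, mul_zero, Finset.sum_ite_eq',
      Finset.mem_univ, if_true]
    rw [mul_comm]
    simpa [Matrix.mulVec, dotProduct] using h
  refine ⟨A, ⟨D, D, hDD, hDD⟩, ?_⟩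
  change Q * u = D.map F₀.subtype * Q
  calc Q * u = Q * u * (P * Q) := by rw [show P * Q = 1 from A.inv_val, mul_one]
    _ = Q * (u * P) * Q := by simp only [mul_assoc]
    _ = (Q * P) * D.map F₀.subtype * Q := by rw [hP]; simp only [mul_assoc]
    _ = _ := by rw [show Q * P = 1 from A.val_inv, one_mul]

/-- In an extension of odd degree of odd order the index of the subfield group is odd. -/
theorem odd_index [Fintype F] (F₀ : Subfield F) {k : ℕ} (hk : Odd k) (hn : 1 ≤ n)
    (hq : Odd (Nat.card F₀)) (hcard : Fintype.card F = Nat.card F₀ ^ k) :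
    Odd ((subfieldSubgroup F₀ 1).comap
      (Matrix.SpecialLinearGroup.toGL : SL(n, F) →* GL (Fin n) F)).index := by
  classical
  haveI : Fintype F₀ := Fintype.ofFinite _
  set H := (subfieldSubgroup F₀ 1).comap
    (Matrix.SpecialLinearGroup.toGL : SL(n, F) →* GL (Fin n) F) with hH
  set q₀ := Nat.card F₀ with hq₀
  have hq2 : 2 ≤ q₀ := Finite.one_lt_card
  let φ : SL(n, F₀) →* SL(n, F) := Matrix.SpecialLinearGroup.map F₀.subtype
  have hinj : Function.Injective φ := fun a b h => by
    apply Subtype.ext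
    exact Matrix.map_injective (f := F₀.subtype) Subtype.val_injective (congrArg Subtype.val h)
  have hle : φ.range ≤ H := by
    rintro _ ⟨a, rfl⟩
    rw [hH, mem_subfield_iff]
    exact ⟨Matrix.SpecialLinearGroup.toGL a, 1, by rw [Units.val_one, one_smul]; rfl⟩
  obtain ⟨e, he⟩ : Nat.card SL(n, F₀) ∣ Nat.card H := by
    have := Subgroup.card_dvd_of_le hle
    rwa [← Nat.card_congr (MonoidHom.ofInjective hinj).toEquiv] at this
  have hgeom : ∀ j : ℕ, (q₀ ^ j) ^ k - 1 =
      (∑ l ∈ Finset.range k, (q₀ ^ j) ^ l) * (q₀ ^ j - 1) := fun j =>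
    (geom_sum_mul_of_one_le (hq.pow.pos) k).symm
  have hsodd : ∀ j : ℕ, Odd (∑ l ∈ Finset.range k, (q₀ ^ j) ^ l) := fun j => by
    rw [Finset.odd_sum_iff_odd_card_odd, Finset.filter_true_of_mem fun i _ => hq.pow.pow,
      Finset.card_range]
    exact hk
  set S := ∑ l ∈ Finset.range k, (q₀ ^ 1) ^ l with hS
  have hfac : ∀ i : Fin n, Fintype.card F ^ n - Fintype.card F ^ (i : ℕ) =
      ((q₀ ^ (i : ℕ)) ^ (k - 1) * ∑ l ∈ Finset.range k, (q₀ ^ (n - i)) ^ l) *
        (q₀ ^ n - q₀ ^ (i : ℕ)) := fun i => by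
    obtain ⟨d, hd⟩ := Nat.exists_eq_add_of_le i.2.le
    have hd' : n - i = d := by omega
    have hk1 : k = k - 1 + 1 := (Nat.sub_add_cancel hk.pos).symm
    rw [hcard, hd']
    clear hd'
    generalize (i : ℕ) = j at hd ⊢
    conv_lhs => rw [hd, pow_add, ← Nat.mul_sub_one, ← pow_mul, ← pow_mul, mul_comm k j,
      mul_comm k d, pow_mul, pow_mul, hgeom, hk1, pow_succ]
    conv_rhs => arg 2; rw [hd, pow_add, ← Nat.mul_sub_one]
    rw [← hk1]
    ring
  have h1 := CfsgLib.Linear.card_SL_mul (F := F) n hn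
  have h0 := CfsgLib.Linear.card_SL_mul (F := F₀) n hn
  rw [Finset.prod_congr rfl fun i _ => hfac i, Finset.prod_mul_distrib] at h1
  set C := ∏ i : Fin n, (q₀ ^ (i : ℕ)) ^ (k - 1) * ∑ l ∈ Finset.range k, (q₀ ^ (n - i)) ^ l
  have hC : Odd C := Finset.prod_induction _ Odd (fun _ _ => Odd.mul) odd_one
    fun i _ => (hq.pow.pow).mul (hsodd _)
  rw [← Nat.card_eq_fintype_card, ← hq₀] at h0
  rw [← h0, ← H.card_mul_index, he, hcard, ← pow_one q₀, hgeom 1, ← hS, pow_one] at h1
  have hSL : 0 < (q₀ - 1) * Nat.card SL(n, F₀) := Nat.mul_pos (by omega) Nat.card_pos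
  have hmain : S * e * H.index = C := Nat.eq_of_mul_eq_mul_right hSL (by
    calc S * e * H.index * ((q₀ - 1) * Nat.card SL(n, F₀))
        = S * (q₀ - 1) * (Nat.card SL(n, F₀) * e * H.index) := by ring
      _ = _ := h1)
  rw [← hmain] at hC
  exact (Nat.odd_mul.1 hC).2

/-- Involutions of PSL_n(q) and subfield subgroups. Here `T = PSL_n(F)` for a field `F` with `q = p^f` elements (`n ≥ 2`, `(n, q) ≠ (2, 2), (2, 3)`), `F₀` is the subfield with `q₀` elements where `q = q₀^k` for a prime `k`, and `H` is the subgroup of matrices of determinant 1 lying in the subfield group of `F₀` (invertible matrices over `F₀` times scalars) — a maximal subgroup of type GL_n(q₀) (the case `n = 2`, `q₀ = 2` is excluded); Ω is the set of `T`-conjugates of `H` (cosets of `H`), so an element of `T` of prime order `r` (a matrix `x` of determinant 1 with `x^r` scalar, `x` not scalar) fixes a point of Ω when some conjugate of `x` by a matrix of determinant 1 lies in `H`. Suppose the index of `H` is even. Then every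 involution of `T` is conjugate in `T` into `H` if and only if either `q` is even, or `k = 2` and `(n)_2 ≤ (q − 1)_2`. (For `q` odd and `k` odd the index of `H` is odd, so that case does not arise.) -/
theorem result {F : Type*} [Field F] [Fintype F] {p : ℕ} [Fact p.Prime] [CharP F p] {q : ℕ} (hq : Fintype.card F = q)
    (n : ℕ) (hn : 2 ≤ n) (hT : (n, q) ≠ (2, 2) ∧ (n, q) ≠ (2, 3))
    (F₀ : Subfield F) (k q₀ : ℕ) (hk : k.Prime) (hF₀ : Nat.card ↥F₀ = q₀) (hqk : q = q₀ ^ k) (hC5 : ¬ (n = 2 ∧ q₀ = 2)) (hΩ : 2 ∣ ((Cfsg.Geo.subfieldSubgroup F₀ 1).comap (Matrix.SpecialLinearGroup.toGL : Matrix.SpecialLinearGroup (Fin n) F →* GL (Fin n) F)).index) :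
    (∀ x : Matrix.SpecialLinearGroup (Fin n) F,
      (∃ z : F, ((x ^ 2 : Matrix.SpecialLinearGroup (Fin n) F) : Matrix (Fin n) (Fin n) F) = z • (1 : Matrix (Fin n) (Fin n) F)) →
      (∀ z : F, (x : Matrix (Fin n) (Fin n) F) ≠ z • (1 : Matrix (Fin n) (Fin n) F)) →
      ∃ P : Matrix.SpecialLinearGroup (Fin n) F, P⁻¹ * x * P ∈ ((Cfsg.Geo.subfieldSubgroup F₀ 1).comap (Matrix.SpecialLinearGroup.toGL : Matrix.SpecialLinearGroup (Fin n) F →* GL (Fin n) F))) ↔
    (Odd q → (k = 2 ∧ padicValNat 2 n ≤ padicValNat 2 (q - 1))) := by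
  classical
  have hcard : Fintype.card F = Nat.card F₀ ^ k := by rw [hq, hqk, hF₀]
  have hn0 : n ≠ 0 := by omega
  haveI : NeZero n := ⟨hn0⟩
  haveI : Nonempty (Fin n) := ⟨⟨0, by omega⟩⟩
  constructor
  · intro hall hqodd
    have hq₀ : Odd (Nat.card F₀) := by
      rw [hqk, ← hF₀, Nat.odd_pow_iff hk.ne_zero] at hqodd
      exact hqodd
    obtain rfl : k = 2 := by
      rcases hk.eq_two_or_odd' with h | h
      · exact h
      · exact absurd (odd_index F₀ h (by omega) hq₀ hcard)
          (Nat.not_odd_iff_even.2 (even_iff_two_dvd.2 hΩ))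
    refine ⟨rfl, by_contra fun hcon => ?_⟩
    have hF : ringChar F ≠ 2 := by
      intro h
      have := (FiniteField.even_card_iff_char_two (F := F)).1 h
      rw [hq] at this
      exact absurd hqodd (Nat.not_odd_iff.2 this)
    have h2 : (2 : F) ≠ 0 := Ring.two_ne_zero hF
    have hq1 : 2 ∣ q - 1 := by obtain ⟨m, hm⟩ := hqodd; exact ⟨m, by omega⟩
    obtain ⟨-, x, c, hx, hhom⟩ := exists_nonpower_element (r := 2) hq hq1 hn0 (by exact_mod_cast h2)
      fun h => hcon h.1
    have hxns : ∀ z : F, (x : Matrix (Fin n) (Fin n) F) ≠ z • 1 :=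
      not_scalar_of_no_invariant (m := 1) (by omega) fun W hW h1 => by
        have := hhom.dim_multiple hW
        rw [h1] at this
        exact absurd (Nat.le_of_dvd one_pos this) (by norm_num)
    obtain ⟨P, hP⟩ := hall x ⟨c, hx⟩ hxns
    rw [mem_subfield_iff] at hP
    obtain ⟨g, l, hgl⟩ := hP
    -- `c` would be a square
    have hsq : IsSquare c := by
      have hy : ((P⁻¹ * x * P) ^ 2 : SL(n, F)) = P⁻¹ * x ^ 2 * P := by
        simpa using (conj_pow (i := 2) (a := P⁻¹) (b := x))
      have h1 := congrArg Subtype.val hy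
      replace h1 := (Matrix.SpecialLinearGroup.coe_pow (P⁻¹ * x * P) 2).symm.trans h1
      rw [hgl, smul_pow, ← Matrix.map_pow] at h1
      have h3 : ((P⁻¹ * x ^ 2 * P : SL(n, F)) : Matrix (Fin n) (Fin n) F) = c • 1 := by
        rw [Matrix.SpecialLinearGroup.coe_mul, Matrix.SpecialLinearGroup.coe_mul, hx,
          Matrix.mul_smul, mul_one, Matrix.smul_mul, ← Matrix.SpecialLinearGroup.coe_mul,
          inv_mul_cancel, Matrix.SpecialLinearGroup.coe_one]
      replace h1 := h1.trans h3
      have h4 := congrFun (congrFun h1 0) 0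
      simp only [Matrix.smul_apply, Matrix.map_apply, Matrix.one_apply_eq, smul_eq_mul, mul_one] at h4
      rw [← h4]
      exact (IsSquare.sq (l : F)).mul (isSquare_of_mem F₀ hF hcard
        ((((g : Matrix (Fin n) (Fin n) F₀) ^ 2) 0 0) : F₀).2)
    obtain ⟨w, rfl⟩ := hsq
    -- so `x` has an eigenvector
    have hfac : (Matrix.toLin' (x : Matrix (Fin n) (Fin n) F) - w • 1) *
        (Matrix.toLin' (x : Matrix (Fin n) (Fin n) F) + w • 1) = 0 := by
      have := toLin'_pow_eq (r := 2) hx
      rw [sub_mul, mul_add, smul_one_mul, smul_add, mul_smul_comm, mul_one, smul_smul, ← pow_two,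
        this]
      abel
    obtain ⟨v, hv0, a, hva⟩ : ∃ v : Fin n → F, v ≠ 0 ∧ ∃ a : F,
        Matrix.toLin' (x : Matrix (Fin n) (Fin n) F) v = a • v := by
      obtain ⟨v, hv⟩ := exists_ne (0 : Fin n → F)
      by_cases h : (Matrix.toLin' (x : Matrix (Fin n) (Fin n) F) + w • 1) v = 0
      · refine ⟨v, hv, -w, ?_⟩
        simp only [LinearMap.add_apply, LinearMap.smul_apply, Module.End.one_apply] at h
        rw [neg_smul]; exact eq_neg_of_add_eq_zero_left h
      · refine ⟨_, h, w, ?_⟩
        have := LinearMap.congr_fun hfac v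
        rw [Module.End.mul_apply, LinearMap.sub_apply, LinearMap.zero_apply, sub_eq_zero] at this
        exact this
    have := hhom.dim_multiple (W := F ∙ v) (fun y hy => by
      obtain ⟨b, rfl⟩ := Submodule.mem_span_singleton.1 hy
      rw [map_smul, hva, smul_smul]
      exact Submodule.mem_span_singleton.2 ⟨b * a, rfl⟩)
    rw [finrank_span_singleton hv0] at this
    exact absurd (Nat.le_of_dvd one_pos this) (by norm_num)
  · intro hcond x ⟨c, hx⟩ _
    rcases Nat.even_or_odd q with hqe | hqodd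
    · obtain rfl : p = 2 := by
        obtain ⟨f, -, hf⟩ := FiniteField.card F p
        rw [hq] at hf
        rw [hf, Nat.even_pow] at hqe
        exact (Nat.Prime.even_iff Fact.out).1 hqe.1
      obtain ⟨w, u, hxu, hu⟩ := exists_unipotent_part hn0 hx
      refine exists_conj_unipotent F₀ hn0 hxu hu fun μ hμ hsum d hd => ?_
      have hne : μ ≠ 0 := fun h0 => by rw [h0] at hsum; simp at hsum; omega
      obtain ⟨b, hb⟩ := Multiset.exists_mem_of_ne_zero hne
      have := hμ b hb
      rcases (show b = 1 ∨ b = 2 by omega) with rfl | rfl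
      · exact ⟨1, hb, d⁻¹, 1, inv_ne_zero hd, by simp [hd]⟩
      · obtain ⟨a, ha⟩ := (bijective_frobenius F 2).surjective d⁻¹
        rw [frobenius_def] at ha
        refine ⟨2, hb, a, 1, ?_, by simp [ha, hd]⟩
        rintro rfl
        simp [eq_comm, hd] at ha
    · obtain ⟨rfl, hv⟩ := hcond hqodd
      have hF : ringChar F ≠ 2 := by
        intro h
        have := (FiniteField.even_card_iff_char_two (F := F)).1 h
        rw [hq] at this
        exact absurd hqodd (Nat.not_odd_iff.2 this)
      have h2 : (2 : F) ≠ 0 := Ring.two_ne_zero hF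
      have hq1 : 2 ∣ q - 1 := by obtain ⟨m, hm⟩ := hqodd; exact ⟨m, by omega⟩
      have hq4 : q % 4 = 1 := by
        have ho : Odd q₀ := by rw [hqk, Nat.odd_pow_iff (by norm_num)] at hqodd; exact hqodd
        obtain ⟨m, rfl⟩ := ho
        rw [hqk, show (2 * m + 1) ^ 2 = 4 * (m * (m + 1)) + 1 by ring, Nat.mul_add_mod]
      obtain ⟨w, rfl⟩ := root_of_criterion (r := 2) hq hq1 hn0 ⟨hv, fun _ _ => hq4⟩ hx
      have hw : w ≠ 0 := by
        rintro rfl; exact scalar_ne_zero (r := 2) hn0 hx (zero_pow two_ne_zero)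
      set u : Matrix (Fin n) (Fin n) F := w⁻¹ • (x : Matrix (Fin n) (Fin n) F) with hu
      have hxu : (x : Matrix (Fin n) (Fin n) F) = w • u := by rw [hu, smul_smul, mul_inv_cancel₀ hw, one_smul]
      have huu : u * u = 1 := by
        rw [Matrix.SpecialLinearGroup.coe_pow] at hx
        rw [← pow_two, hu, smul_pow, hx, smul_smul, inv_pow, inv_mul_cancel₀ (pow_ne_zero _ hw), one_smul]
      clear_value u
      obtain ⟨A, g, hA⟩ := exists_conj_sign F₀ h2 huu
      let ug : GL (Fin n) F := ⟨u, u, huu, huu⟩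
      have hug : (orderOf ug).Coprime p := by
        refine Nat.Coprime.coprime_dvd_left (orderOf_dvd_of_pow_eq_one (n := 2) ?_) ?_
        · exact Units.ext (by rw [pow_two]; exact huu)
        · refine (Nat.coprime_primes Nat.prime_two Fact.out).2 fun h => hF ?_
          rw [ringChar.eq F p, h]
      have hdA : (A : Matrix (Fin n) (Fin n) F).det ≠ 0 :=
        ((Matrix.isUnit_iff_isUnit_det _).1 A.isUnit).ne_zero
      obtain ⟨C, hC, hCu⟩ := CfsgLib.Semisimple.exists_commute_det_eq p ug hug
        (A : Matrix (Fin n) (Fin n) F).det⁻¹ (inv_ne_zero hdA)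
      refine exists_conj_mem F₀ (A := A) (C := C) (g := g) (l := Units.mk0 w hw) ?_ ?_ (δ := 1)
        (by rw [hC, mul_inv_cancel₀ hdA]; rfl)
      · rw [hxu, Matrix.mul_smul, hA, Matrix.smul_mul, Units.val_mk0]
      · have h : (C : Matrix (Fin n) (Fin n) F) * u = u * C := congrArg Units.val hCu
        rw [hxu, Matrix.mul_smul, h, Matrix.smul_mul]

end Cfsg.Agent.S5964
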