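import Cfsg.Statements.S5965
import Cfsg.Agent.Lib.SubfieldFix.Obstruction
import Cfsg.Agent.Lib.SubfieldFix.Comb
import Cfsg.Agent.Lib.SubfieldFix.Index
import Cfsg.Agent.Lib.LinFix.Elements

set_option autoImplicit false
open scoped MatrixGroups
open Cfsg

namespace Cfsg.Agent.S5965
open Module Matrix Polynomial Cfsg.Geo CfsgLib.SubfieldFix

theorem counts_three : ∀ a b : Fin 4, (a : ℕ) + b ≤ 3 → ((b : ℕ) + 2 * (3 - (a + b))) % 3 = 0 →
    ∃ s : Fin 3, ∀ x : Fin 3,
      ![(a : ℕ), b, 3 - (a + b)] (s + s - x) = ![(a : ℕ), b, 3 - (a + b)] x := by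
  decide +kernel

theorem counts_five : ∀ a b c d : Fin 6, (a : ℕ) + b + c + d ≤ 5 →
    ((b : ℕ) + 2 * c + 3 * d + 4 * (5 - (a + b + c + d))) % 5 = 0 →
    ∃ s : Fin 5, ∀ x : Fin 5,
      ![(a : ℕ), b, c, d, 5 - (a + b + c + d)] (s + s - x) = ![(a : ℕ), b, c, d, 5 - (a + b + c + d)] x := by
  decide +kernel

theorem centre_three (e : Fin 3 → ZMod 3) (h : ∑ i, e i = 0) :
    ∃ s, ∀ c, (Finset.univ.filter fun i => e i = s + s - c).card = (Finset.univ.filter fun i => e i = c).card := by
  set N : ZMod 3 → ℕ := fun c => (Finset.univ.filter fun i => e i = c).card with hN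
  have hsum : N 0 + N 1 + N 2 = 3 := by
    have := Finset.card_eq_sum_card_fiberwise (s := (Finset.univ : Finset (Fin 3)))
      (t := (Finset.univ : Finset (ZMod 3))) (f := e) (fun _ _ => Finset.mem_univ _)
    rw [Finset.card_univ, Fintype.card_fin] at this
    exact (this.trans (Fin.sum_univ_three N)).symm
  have hw : (((N 1 + 2 * N 2 : ℕ)) : ZMod 3) = 0 := by
    have h1 : ∑ c : ZMod 3, N c • c = 0 := by
      rw [← h, ← Finset.sum_fiberwise Finset.univ e e]
      refine Finset.sum_congr rfl fun c _ => ?_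
      rw [Finset.sum_congr rfl (g := fun _ => c) fun i hi => (Finset.mem_filter.1 hi).2, Finset.sum_const]
    have h2 : N 0 • (0 : ZMod 3) + N 1 • 1 + N 2 • 2 = 0 :=
      (Fin.sum_univ_three (fun c : ZMod 3 => N c • c)).symm.trans h1
    simp only [nsmul_eq_mul, mul_zero, mul_one, zero_add] at h2
    push_cast
    linear_combination h2
  obtain ⟨s, hs⟩ := counts_three ⟨N 0, by omega⟩ ⟨N 1, by omega⟩ (by simp only; omega) (by
    rw [ZMod.natCast_eq_zero_iff] at hw
    simp only; omega)
  refine ⟨(s : ZMod 3), fun c => ?_⟩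
  have hc : ∀ c : ZMod 3, N c = ![N 0, N 1, 3 - (N 0 + N 1)] c := fun c => by
    fin_cases c
    · rfl
    · rfl
    · show N 2 = 3 - (N 0 + N 1)
      omega
  show N _ = N c
  rw [hc, hc c]
  exact hs c

theorem centre_five (e : Fin 5 → ZMod 5) (h : ∑ i, e i = 0) :
    ∃ s, ∀ c, (Finset.univ.filter fun i => e i = s + s - c).card = (Finset.univ.filter fun i => e i = c).card := by
  set N : ZMod 5 → ℕ := fun c => (Finset.univ.filter fun i => e i = c).card with hN
  have hsum : N 0 + N 1 + N 2 + N 3 + N 4 = 5 := by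
    have := Finset.card_eq_sum_card_fiberwise (s := (Finset.univ : Finset (Fin 5)))
      (t := (Finset.univ : Finset (ZMod 5))) (f := e) (fun _ _ => Finset.mem_univ _)
    rw [Finset.card_univ, Fintype.card_fin] at this
    exact (this.trans (Fin.sum_univ_five N)).symm
  have hw : (((N 1 + 2 * N 2 + 3 * N 3 + 4 * N 4 : ℕ)) : ZMod 5) = 0 := by
    have h1 : ∑ c : ZMod 5, N c • c = 0 := by
      rw [← h, ← Finset.sum_fiberwise Finset.univ e e]
      refine Finset.sum_congr rfl fun c _ => ?_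
      rw [Finset.sum_congr rfl (g := fun _ => c) fun i hi => (Finset.mem_filter.1 hi).2, Finset.sum_const]
    have h2 : N 0 • (0 : ZMod 5) + N 1 • 1 + N 2 • 2 + N 3 • 3 + N 4 • 4 = 0 :=
      (Fin.sum_univ_five (fun c : ZMod 5 => N c • c)).symm.trans h1
    simp only [nsmul_eq_mul, mul_zero, mul_one, zero_add] at h2
    push_cast
    linear_combination h2
  obtain ⟨s, hs⟩ := counts_five ⟨N 0, by omega⟩ ⟨N 1, by omega⟩ ⟨N 2, by omega⟩ ⟨N 3, by omega⟩
    (by simp only; omega) (by
      rw [ZMod.natCast_eq_zero_iff] at hw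
      simp only; omega)
  refine ⟨(s : ZMod 5), fun c => ?_⟩
  have hc : ∀ c : ZMod 5, N c = ![N 0, N 1, N 2, N 3, 5 - (N 0 + N 1 + N 2 + N 3)] c := fun c => by
    fin_cases c
    · rfl
    · rfl
    · rfl
    · rfl
    · show N 4 = 5 - (N 0 + N 1 + N 2 + N 3)
      omega
  show N _ = N c
  rw [hc, hc c]
  exact hs c

theorem sq_three : ∀ a : ZMod 3, a ≠ 0 → a * a = 1 := by decide

theorem pw_sum {A M ι : Type*} [AddCommMonoid A] [CommMonoid M] (ψ : AddChar A M) (e : ι → A) (s : Finset ι) :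
    ψ (∑ i ∈ s, e i) = ∏ i ∈ s, ψ (e i) := by
  classical
  induction s using Finset.induction with
  | empty => simp
  | @insert a s ha ih => rw [Finset.sum_insert ha, Finset.prod_insert ha, AddChar.map_add_eq_mul, ih]

section

variable {F : Type*} [Field F] [Fintype F] {p : ℕ} [Fact p.Prime] [CharP F p] {n : ℕ} [NeZero n]
  (F₀ : Subfield F) {r : ℕ} [hr : Fact r.Prime]

/-- The exponent map of a primitive root of unity. -/
theorem pw_inj {ζ : F} (hζ : IsPrimitiveRoot ζ r) :
    Function.Injective (AddChar.zmodChar r hζ.pow_eq_one) := fun a b h => by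
  simp only [AddChar.zmodChar_apply] at h
  exact ZMod.val_injective r (hζ.pow_inj (ZMod.val_lt a) (ZMod.val_lt b) h)

theorem exists_pw {ζ : F} (hζ : IsPrimitiveRoot ζ r) {a : F} (ha : a ^ r = 1) :
    ∃ c, AddChar.zmodChar r hζ.pow_eq_one c = a := by
  obtain ⟨i, hi, rfl⟩ := hζ.eq_pow_of_pow_eq_one ha
  exact ⟨i, by rw [AddChar.zmodChar_apply']⟩

/-- A diagonal matrix of determinant one that is not conjugate into the subfield group. -/
theorem false_of_exponents (σ : F →+* F) {lam : ZMod r} {ζ : F} (hζ : IsPrimitiveRoot ζ r)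
    (hσfix : ∀ a ∈ F₀, σ a = a) (hσζ : ∀ c, σ (AddChar.zmodChar r hζ.pow_eq_one c) =
      AddChar.zmodChar r hζ.pow_eq_one (lam * c))
    (hel : ∀ x : SL(n, F), (∃ z : F, ((x ^ r : SL(n, F)) : Matrix (Fin n) (Fin n) F) = z • 1) →
      (∀ z : F, (x : Matrix (Fin n) (Fin n) F) ≠ z • 1) →
      ∃ P : SL(n, F), P⁻¹ * x * P ∈
        (subfieldSubgroup F₀ 1).comap (Matrix.SpecialLinearGroup.toGL : SL(n, F) →* GL (Fin n) F))
    (e : Fin n → ZMod r) (hsum : ∑ i, e i = 0) (hne : ∃ i j, e i ≠ e j)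
    (hno : ∀ t : ZMod r, ¬ ∀ c, (Finset.univ.filter fun i => e i = lam * c + t).card =
      (Finset.univ.filter fun i => e i = c).card) : False := by
  classical
  set pw := AddChar.zmodChar r hζ.pow_eq_one with hpw
  have hinj : Function.Injective pw := pw_inj hζ
  have hdet : (Matrix.diagonal fun i => pw (e i)).det = 1 := by
    rw [Matrix.det_diagonal, ← pw_sum, hsum, AddChar.map_zero_eq_one]
  let x : SL(n, F) := ⟨_, hdet⟩
  have hxr : (x : Matrix (Fin n) (Fin n) F) ^ r = (1 : F) • 1 := by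
    show (Matrix.diagonal fun i => pw (e i)) ^ r = _
    rw [Matrix.diagonal_pow, one_smul, ← Matrix.diagonal_one]
    congr 1
    funext i
    rw [Pi.pow_apply, ← AddChar.map_nsmul_eq_pow, nsmul_eq_mul, ZMod.natCast_self, zero_mul,
      AddChar.map_zero_eq_one]
  obtain ⟨A, g, l, hA⟩ := exists_data F₀ (hel x ⟨1, (Matrix.SpecialLinearGroup.coe_pow x r).trans hxr⟩ fun z hz => by
    obtain ⟨i, j, hij⟩ := hne
    have hi := congrFun (congrFun hz i) i
    have hj := congrFun (congrFun hz j) j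
    simp [x] at hi hj
    exact hij (hinj (hi.trans hj.symm)))
  have hl := l.ne_zero
  have hlr := pow_scalar_mem F₀ hA hxr
  rw [one_mul] at hlr
  have hlr' : σ ((l : F) ^ r) = (l : F) ^ r := hσfix _ (by simpa using F₀.inv_mem hlr)
  obtain ⟨t, ht⟩ := exists_pw hζ (a := (l : F) * (σ (l : F))⁻¹) (by
    rw [mul_pow, inv_pow, ← map_pow, hlr', mul_inv_cancel₀ (pow_ne_zero _ hl)])
  refine hno t fun c => ?_
  have h := diag_count_eq F₀ σ hσfix (fun i => pw (e i)) hA (pw c)
  rw [map_mul, map_inv₀, ← mul_assoc, hσζ, ← ht, ← AddChar.map_add_eq_mul, add_comm] at h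
  simp only [← hpw, hinj.eq_iff] at h
  exact h

/-- A root of a scalar of order `r` gives an element outside. -/
theorem false_of_root (σ : F →+* F) (hσfix : ∀ a ∈ F₀, σ a = a)
    (hel : ∀ x : SL(n, F), (∃ z : F, ((x ^ r : SL(n, F)) : Matrix (Fin n) (Fin n) F) = z • 1) →
      (∀ z : F, (x : Matrix (Fin n) (Fin n) F) ≠ z • 1) →
      ∃ P : SL(n, F), P⁻¹ * x * P ∈
        (subfieldSubgroup F₀ 1).comap (Matrix.SpecialLinearGroup.toGL : SL(n, F) →* GL (Fin n) F))
    (hnr : n = r) {w : F} (hw : orderOf w = r * r) (hinv : ∀ a : F, a ^ r = 1 → σ a = a⁻¹) (hr2 : r ≠ 2) :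
    False := by
  classical
  subst hnr
  obtain ⟨m, rfl⟩ := Nat.exists_eq_add_of_le' (hr.out.one_le)
  have h2 := hr.out.two_le
  have hw1 : w ^ ((m + 1) * (m + 1)) = 1 := hw ▸ pow_orderOf_eq_one w
  have hw0 : w ≠ 0 := fun h => by
    rw [h, orderOf_zero] at hw
    exact absurd hw.symm (Nat.mul_ne_zero (by omega) (by omega))
  have hc1 : w ^ (m + 1) ≠ 1 := fun h => by
    have := Nat.le_of_dvd (by omega) (hw ▸ orderOf_dvd_of_pow_eq_one h)
    have : (m + 1) * 2 ≤ (m + 1) * (m + 1) := Nat.mul_le_mul_left _ h2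
    omega
  let d : Fin (m + 1) → F := Fin.cons (w ^ m)⁻¹ fun _ => w
  have hdet : (Matrix.diagonal d).det = 1 := by
    rw [Matrix.det_diagonal, Fin.prod_univ_succ]
    simp [d, inv_mul_cancel₀ (pow_ne_zero _ hw0)]
  let x : SL(m + 1, F) := ⟨_, hdet⟩
  have hxr : (x : Matrix (Fin (m + 1)) (Fin (m + 1)) F) ^ (m + 1) = w ^ (m + 1) • 1 := by
    show (Matrix.diagonal d) ^ (m + 1) = _
    rw [Matrix.diagonal_pow, Matrix.smul_one_eq_diagonal]
    congr 1
    funext i
    refine Fin.cases ?_ (fun l => ?_) i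
    · simp only [Pi.pow_apply, d, Fin.cons_zero]
      rw [inv_pow, inv_eq_of_mul_eq_one_left]
      rw [← pow_mul, ← pow_add, show m + 1 + m * (m + 1) = (m + 1) * (m + 1) by ring, hw1]
    · simp [d]
  obtain ⟨A, g, l, hA⟩ := exists_data F₀ (hel x ⟨_, (Matrix.SpecialLinearGroup.coe_pow x (m + 1)).trans hxr⟩ fun z hz => by
    have h0 := congrFun (congrFun hz 0) 0
    have h1 := congrFun (congrFun hz (Fin.succ ⟨0, by omega⟩)) (Fin.succ ⟨0, by omega⟩)
    simp [x, d] at h0 h1
    change (w ^ m)⁻¹ = z at h0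
    change w = z at h1
    refine hc1 ?_
    rw [pow_succ]
    calc w ^ m * w = w ^ m * (w ^ m)⁻¹ := by rw [h0, h1]
      _ = 1 := mul_inv_cancel₀ (pow_ne_zero _ hw0))
  -- the determinant puts the multiplier to the power `r` into the subfield
  have hl : ((l : F) ^ (m + 1)) ∈ F₀ := by
    have h := congrArg Matrix.det hA
    rw [Matrix.det_mul, Matrix.det_mul, show (x : Matrix (Fin (m + 1)) (Fin (m + 1)) F).det = 1 from hdet,
      mul_one, Matrix.det_smul, Fintype.card_fin] at h
    have h' := mul_right_cancel₀ ((Matrix.isUnit_iff_isUnit_det _).1 A.isUnit).ne_zero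
      ((one_mul _).trans h)
    rw [← RingHom.mapMatrix_apply, ← RingHom.map_det] at h'
    rw [eq_inv_of_mul_eq_one_left h'.symm]
    exact F₀.inv_mem ((g : Matrix (Fin (m + 1)) (Fin (m + 1)) F₀).det).2
  have hc : w ^ (m + 1) ∈ F₀ := by
    have h := F₀.mul_mem (pow_scalar_mem F₀ hA hxr) hl
    rwa [inv_mul_cancel_right₀ (pow_ne_zero _ l.ne_zero)] at h
  have hcr : (w ^ (m + 1)) ^ (m + 1) = 1 := by rw [← pow_mul, hw1]
  have hsq : (w ^ (m + 1)) ^ 2 = 1 := by
    have h := hσfix _ hc
    rw [hinv _ hcr] at h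
    rw [pow_two]
    nth_rw 1 [← h]
    exact inv_mul_cancel₀ (pow_ne_zero _ hw0)
  obtain ⟨a, ha⟩ := hr.out.odd_of_ne_two hr2
  refine hc1 ?_
  generalize w ^ (m + 1) = c at hsq hcr
  rwa [ha, pow_succ, pow_mul, hsq, one_pow, one_mul] at hcr

/-- An element of one kind is not conjugate into the subfield group. -/
theorem false_of_kind (hrp : r ≠ p) (σ : F →+* F) {e : ℕ} (hσ : ∀ a : F, σ a = a ^ p ^ e)
    (hσmem : ∀ a : F, σ a = a → a ∈ F₀) (hσfix : ∀ a ∈ F₀, σ a = a)
    (hel : ∀ x : SL(n, F), (∃ z : F, ((x ^ r : SL(n, F)) : Matrix (Fin n) (Fin n) F) = z • 1) →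
      (∀ z : F, (x : Matrix (Fin n) (Fin n) F) ≠ z • 1) →
      ∃ P : SL(n, F), P⁻¹ * x * P ∈
        (subfieldSubgroup F₀ 1).comap (Matrix.SpecialLinearGroup.toGL : SL(n, F) →* GL (Fin n) F))
    (hi : 1 < orderOf (Fintype.card F : ZMod r)) (hin : orderOf (Fintype.card F : ZMod r) ≤ n) :
    ∃ l : ℕ, ((p ^ e : ℕ) : ZMod r) = (Fintype.card F : ZMod r) ^ l := by
  classical
  set i := orderOf (Fintype.card F : ZMod r) with hidef
  have hrF : (r : F) ≠ 0 := CfsgLib.LinFix.natCast_ne_zero_of_ne hrp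
  obtain ⟨x, hT, hfix⟩ := CfsgLib.LinFix.exists_sl_fixed (F := F) (p := p) hrp hi (n - i) 1 (n := n) (by omega)
  set T := Matrix.toLin' (x : Matrix (Fin n) (Fin n) F) with hTdef
  set E := LinearMap.ker (∑ k ∈ Finset.range r, T ^ k) with hE
  have hEi : CfsgLib.PrimeFix.Inv T E := by
    have h : (∑ k ∈ Finset.range r, T ^ k) = aeval T (∑ k ∈ Finset.range r, (X : F[X]) ^ k) := by simp
    rw [hE, h]; exact CfsgLib.PrimeFix.inv_ker_aeval _
  have hEf : CfsgLib.PrimeFix.Fpf T E := fun v hv h => by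
    have hk : ∀ k : ℕ, (T ^ k) v = v := fun k => by
      induction k with
      | zero => rfl
      | succ k ih => rw [pow_succ, Module.End.mul_apply, h, ih]
    have h0 : (∑ k ∈ Finset.range r, T ^ k) v = 0 := hv
    rw [LinearMap.sum_apply, Finset.sum_congr rfl (fun k _ => hk k), Finset.sum_const, Finset.card_range,
      ← Nat.cast_smul_eq_nsmul F, smul_eq_zero] at h0
    exact h0.resolve_left hrF
  have hCE : LinearMap.ker (T - 1) ⊔ E = ⊤ := eq_top_iff.2 fun v _ => by
    obtain ⟨a, -, ha, b, -, hb, rfl⟩ :=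
      CfsgLib.PrimeFix.exists_split (T := T) hrF hT (W := ⊤) (fun _ _ => trivial) (w := v) trivial
    exact Submodule.add_mem_sup (sub_eq_zero.2 ha) hb
  have hEd : finrank F E = i := by
    have h := Submodule.finrank_sup_add_finrank_inf_eq (LinearMap.ker (T - 1)) E
    rw [hCE, (Submodule.eq_bot_iff _).2 (fun v (hv : v ∈ LinearMap.ker (T - 1) ⊓ E) => hEf v hv.2 (sub_eq_zero.1 (show (T - 1) v = 0 from hv.1) :)), finrank_bot, finrank_top,
      Module.finrank_fin_fun, hfix] at h
    omega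
  obtain ⟨f, hfm, hirr, hdvd, hker⟩ := CfsgLib.PrimeFix.exists_factor_lt hrF hT hEi hEf (c := 0)
    (by rw [mul_zero, hEd]; omega)
  obtain ⟨v, hv, hv0⟩ := Submodule.exists_mem_ne_zero_of_ne_bot
    (p := E ⊓ LinearMap.ker (aeval T f)) (fun h => by rw [h, finrank_bot] at hker; omega)
  have hEle : ∀ w ∈ E, aeval T f w = 0 := by
    obtain ⟨a, ha⟩ := CfsgLib.PrimeFix.ord_dvd_finrank hT
      (CfsgLib.PrimeFix.inv_inf hEi (CfsgLib.PrimeFix.inv_ker_aeval f)) (hEf.mono inf_le_left)
    have heq : E ⊓ LinearMap.ker (aeval T f) = E := Submodule.eq_of_le_of_finrank_le inf_le_left (by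
      rw [hEd, ha]
      exact Nat.le_mul_of_pos_right _ (Nat.pos_of_ne_zero fun h0 => by rw [h0, mul_zero] at ha; omega))
    exact fun w hw => (heq.symm ▸ hw : w ∈ E ⊓ LinearMap.ker (aeval T f)).2
  have hP : aeval T (f * (X - 1)) = 0 := LinearMap.ext fun u => by
    obtain ⟨a, ha, b, hb, rfl⟩ := Submodule.mem_sup.1 (hCE.symm ▸ Submodule.mem_top :
      u ∈ LinearMap.ker (T - 1) ⊔ E)
    have h1 : aeval T (X - 1 : F[X]) = T - 1 := by simp
    rw [map_add, LinearMap.zero_apply]
    conv_lhs => arg 2; rw [mul_comm]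
    rw [map_mul, map_mul, Module.End.mul_apply, Module.End.mul_apply, h1, hEle b hb,
      show (T - 1) a = 0 from ha, map_zero, map_zero, add_zero]
  -- the matrix equation
  have hxns : ∀ z : F, (x : Matrix (Fin n) (Fin n) F) ≠ z • 1 := fun z hz => by
    have hTz : T = z • 1 := by rw [hTdef, hz, map_smul, Matrix.toLin'_one]; rfl
    have hvz : T v = z • v := by rw [hTz]; rfl
    have hcyc : CfsgLib.PrimeFix.cyc T v ≤ F ∙ v := CfsgLib.PrimeFix.cyc_le (fun w hw => by
      obtain ⟨c, rfl⟩ := Submodule.mem_span_singleton.1 hw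
      rw [map_smul, hvz, smul_smul]
      exact Submodule.mem_span_singleton.2 ⟨c * z, rfl⟩) (Submodule.mem_span_singleton_self v)
    have h := Submodule.finrank_mono hcyc
    rw [CfsgLib.PrimeFix.finrank_cyc hrF hfm hirr hdvd hv.2 hv0, finrank_span_singleton hv0] at h
    omega
  have hxr : (x : Matrix (Fin n) (Fin n) F) ^ r = (1 : F) • 1 := by
    apply Matrix.toLin'.injective
    rw [Matrix.toLin'_pow, one_smul, Matrix.toLin'_one]
    exact hT
  obtain ⟨A, g, l, hA⟩ := exists_data F₀ (hel x ⟨1, (Matrix.SpecialLinearGroup.coe_pow x r).trans hxr⟩ hxns)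
  -- the multiplier lies in the subfield
  have hl : (l : F) ∈ F₀ := by
    have hlr := pow_scalar_mem F₀ hA hxr
    rw [one_mul] at hlr
    have hlr' : σ ((l : F) ^ r) = (l : F) ^ r := hσfix _ (by simpa using F₀.inv_mem hlr)
    set ε := (l : F) * (σ (l : F))⁻¹ with hε
    have hεr : ε ^ r = 1 := by
      rw [hε, mul_pow, inv_pow, ← map_pow, hlr', mul_inv_cancel₀ (pow_ne_zero _ l.ne_zero)]
    have hε1 : ε = 1 := by
      by_contra hne
      have h1 : r ∣ Fintype.card F - 1 := by
        rw [← orderOf_eq_prime hεr hne]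
        exact orderOf_dvd_of_pow_eq_one (FiniteField.pow_card_sub_one_eq_one ε fun h0 => by
          rw [h0, zero_pow hr.out.ne_zero] at hεr; exact zero_ne_one hεr)
      have h2 : (Fintype.card F : ZMod r) = 1 := by
        rw [← Nat.sub_add_cancel (Fintype.card_pos : 0 < Fintype.card F), Nat.cast_add,
          (ZMod.natCast_eq_zero_iff _ _).2 h1, zero_add, Nat.cast_one]
      rw [hidef, h2, orderOf_one] at hi
      omega
    refine hσmem _ ?_
    rw [hε, mul_inv_eq_one₀ ((map_ne_zero σ).2 l.ne_zero)] at hε1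
    exact hε1.symm
  set y : Matrix (Fin n) (Fin n) F := (l : F) • (g : Matrix (Fin n) (Fin n) F₀).map F₀.subtype with hy
  have hyσ : y.map σ = y := by
    ext a b
    exact hσfix _ (F₀.mul_mem hl ((g : Matrix (Fin n) (Fin n) F₀) a b).2)
  set P : F[X] := f * (X - 1) with hPdef
  have hcan : ∀ M : Matrix (Fin n) (Fin n) F, M * (A : Matrix (Fin n) (Fin n) F) = 0 → M = 0 := fun M h => by
    have := congrArg (· * ((A⁻¹ : GL (Fin n) F) : Matrix (Fin n) (Fin n) F)) h
    simpa [mul_assoc] using this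
  have haev : ∀ Q : F[X], aeval T Q = Matrix.toLinAlgEquiv' (aeval (x : Matrix (Fin n) (Fin n) F) Q) :=
    fun Q => aeval_algHom_apply (Matrix.toLinAlgEquiv' : Matrix (Fin n) (Fin n) F ≃ₐ[F] _).toAlgHom
      (x : Matrix (Fin n) (Fin n) F) Q
  have hxP : aeval (x : Matrix (Fin n) (Fin n) F) P = 0 := by
    apply Matrix.toLinAlgEquiv'.injective
    rw [← haev, hP, map_zero]
  have hyP : aeval y P = 0 := hcan _ (by rw [← aeval_semiconj hA, hxP, mul_zero])
  have hyP' : aeval y (P.map σ) = 0 := by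
    rw [← hyσ, ← map_aeval, hyP, Matrix.map_zero _ (map_zero σ)]
  have hTP : aeval T (P.map σ) = 0 := by
    rw [haev, show aeval (x : Matrix (Fin n) (Fin n) F) (P.map σ) = 0 from ?_, map_zero]
    have h := aeval_semiconj hA (P.map σ)
    rw [hyP', zero_mul] at h
    have := congrArg (((A⁻¹ : GL (Fin n) F) : Matrix (Fin n) (Fin n) F) * ·) h
    simpa [← mul_assoc] using this
  set w := (T - 1) v with hwdef
  have hw0 : w ≠ 0 := fun h => hv0 (hEf v hv.1 (sub_eq_zero.1 h))
  have hwf : aeval T f w = 0 := hEle w (E.sub_mem (hEi v hv.1) hv.1)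
  have hwσ : aeval T (f.map σ) w = 0 := by
    have h := LinearMap.congr_fun hTP v
    rw [hPdef, Polynomial.map_mul, Polynomial.map_sub, Polynomial.map_X, Polynomial.map_one, map_mul,
      Module.End.mul_apply, map_sub, aeval_X, map_one] at h
    exact h
  have hfσ : f.map σ = f := eq_of_monic_of_dvd_of_natDegree_le hfm (hfm.map σ)
    (CfsgLib.PrimeFix.dvd_of_aeval_eq_zero hirr hwf hw0 hwσ) (by rw [natDegree_map])
  -- roots of `f`
  haveI : ExpChar F[X] p := ExpChar.prime Fact.out
  have h1 := CfsgLib.PrimeFix.frob_aeval (F := F) (A := F[X]) (σ := σ) p e hσ X f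
  rw [aeval_X_left_apply, hfσ, ← Polynomial.comp_eq_aeval] at h1
  have hTv : T v ≠ v := fun h => hv0 (hEf v hv.1 h)
  refine CfsgLib.PrimeFix.exists_exponent hfm hirr hv.2 hv0 hT hTv ?_
  rw [CfsgLib.PrimeFix.aeval_pow_eq, ← h1, ← Nat.sub_add_cancel (Nat.one_le_pow _ _ (Fact.out : p.Prime).pos : 1 ≤ p ^ e),
    pow_succ, map_mul, Module.End.mul_apply, show aeval T f v = 0 from hv.2, map_zero]

end

theorem main {F : Type*} [Field F] [Fintype F] {p : ℕ} [Fact p.Prime] [CharP F p]
    (n : ℕ) (hn : 2 ≤ n) (F₀ : Subfield F) (k : ℕ) (hk : k.Prime)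
    (hcard : Fintype.card F = Nat.card F₀ ^ k) (r : ℕ) [hr : Fact r.Prime] (hr2 : r ≠ 2) (hrp : r ≠ p)
    (hgap : ¬ (n = 6 ∧ r = 3))
    (hgapk : r = k → r ∣ Nat.card F₀ - 1 → padicValNat r n ≤ padicValNat r (Fintype.card F - 1))
    (hΩ : r ∣ ((subfieldSubgroup F₀ 1).comap
      (Matrix.SpecialLinearGroup.toGL : SL(n, F) →* GL (Fin n) F)).index) :
    (∀ x : SL(n, F), (∃ z : F, ((x ^ r : SL(n, F)) : Matrix (Fin n) (Fin n) F) = z • 1) →
      (∀ z : F, (x : Matrix (Fin n) (Fin n) F) ≠ z • 1) →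
      ∃ P : SL(n, F), P⁻¹ * x * P ∈
        (subfieldSubgroup F₀ 1).comap (Matrix.SpecialLinearGroup.toGL : SL(n, F) →* GL (Fin n) F)) ↔
    (r = k ∨ (k = 2 ∧ r = n ∧ (n = 3 ∨ n = 5) ∧ padicValNat r (Nat.card F₀ + 1) = 1)) := by
  classical
  haveI : NeZero n := ⟨by omega⟩
  have hn0 : n ≠ 0 := by omega
  haveI : Fintype F₀ := Fintype.ofFinite _
  haveI : CharP F₀ p := RingHom.charP (F₀.subtype : F₀ →+* F) Subtype.val_injective p
  haveI : ExpChar F p := ExpChar.prime Fact.out
  have hrF : (r : F) ≠ 0 := CfsgLib.LinFix.natCast_ne_zero_of_ne hrp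
  set q₀ := Nat.card F₀ with hq₀
  obtain ⟨e, -, he⟩ := FiniteField.card F₀ p
  rw [← Nat.card_eq_fintype_card, ← hq₀] at he
  set σ : F →+* F := iterateFrobenius F p e with hσdef
  have hσ : ∀ a : F, σ a = a ^ p ^ (e : ℕ) := fun a => iterateFrobenius_def p e a
  have hσfix : ∀ a ∈ F₀, σ a = a := fun a ha => by rw [hσ, ← he]; exact CfsgLib.LinFix.pow_eq_of_mem F₀ ha
  have hσmem : ∀ a : F, σ a = a → a ∈ F₀ := fun a ha =>
    CfsgLib.LinFix.mem_of_pow_eq F₀ (by rwa [hσ, ← he] at ha)
  have hlam0 : (q₀ : ZMod r) ≠ 0 := by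
    rw [he, Nat.cast_pow]
    refine pow_ne_zero _ fun h => hrp ?_
    exact (Nat.prime_dvd_prime_iff_eq hr.out Fact.out).1 ((ZMod.natCast_eq_zero_iff _ _).1 h)
  have hq : (Fintype.card F : ZMod r) = (q₀ : ZMod r) ^ k := by rw [hcard, Nat.cast_pow]
  have hq1iff : (Fintype.card F : ZMod r) = 1 → r ∣ Fintype.card F - 1 := fun h => by
    rw [← ZMod.natCast_eq_zero_iff, Nat.cast_sub Fintype.card_pos, h, Nat.cast_one, sub_self]
  have hprim : (Fintype.card F : ZMod r) = 1 → ∃ ζ : F, IsPrimitiveRoot ζ r := fun h => by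
    obtain ⟨u, hu⟩ := exists_prime_orderOf_dvd_card' (G := Fˣ) r (by
      rw [Nat.card_units, Nat.card_eq_fintype_card]; exact hq1iff h)
    exact ⟨(u : F), by rw [← hu, ← orderOf_units]; exact IsPrimitiveRoot.orderOf (u : F)⟩
  have hσpw : ∀ {ζ : F} (hζ : IsPrimitiveRoot ζ r) (c : ZMod r), σ (AddChar.zmodChar r hζ.pow_eq_one c) =
      AddChar.zmodChar r hζ.pow_eq_one ((q₀ : ZMod r) * c) := fun hζ c => by
    rw [hσ, ← he, ← AddChar.map_nsmul_eq_pow, nsmul_eq_mul]
  constructor
  · intro hel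
    by_contra hcon
    push Not at hcon
    obtain ⟨hrk, hcon⟩ := hcon
    obtain ⟨j, hj2, hjn, hjk, hj1⟩ := exists_exponent_of_dvd_index F₀ (by omega) hk hrk hlam0 hcard hΩ
    rw [← hq₀] at hjk hj1
    have hqj : (Fintype.card F : ZMod r) ^ j = 1 := by rw [hq, ← pow_mul, mul_comm, pow_mul]; exact hjk
    by_cases hq1 : (Fintype.card F : ZMod r) = 1
    · obtain ⟨ζ, hζ⟩ := hprim hq1
      have hlk : (q₀ : ZMod r) ^ k = 1 := hq ▸ hq1
      have hl1 : (q₀ : ZMod r) ≠ 1 := fun h => hj1 (by rw [h, one_pow])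
      have h2 : (2 : ZMod r) ≠ 0 := fun h => hr2 ((Nat.prime_dvd_prime_iff_eq hr.out Nat.prime_two).1
        ((ZMod.natCast_eq_zero_iff 2 r).1 (by exact_mod_cast h)))
      have hnum : ∀ m : ℕ, m.Prime → ((m : ℕ) : ZMod r) = 0 → r = m := fun m hm h =>
        (Nat.prime_dvd_prime_iff_eq hr.out hm).1 ((ZMod.natCast_eq_zero_iff m r).1 h)
      by_cases hk2 : k = 2
      · subst hk2
        have hlneg : (q₀ : ZMod r) = -1 := (sq_eq_one_iff.1 hlk).resolve_left hl1
        have hn3 : 3 ≤ n := by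
          by_contra hlt
          obtain rfl : j = 2 := by omega
          exact hj1 hlk
        by_cases hnr : r = n ∧ (n = 3 ∨ n = 5)
        · obtain ⟨hrn, hn35⟩ := hnr
          have hdvd : r ∣ q₀ + 1 := by
            rw [← ZMod.natCast_eq_zero_iff, Nat.cast_add, hlneg, Nat.cast_one, neg_add_cancel]
          have hv : r ^ 2 ∣ q₀ + 1 := by
            rw [padicValNat_dvd_iff_le (by omega)]
            have h1 := one_le_padicValNat_of_dvd (by omega) hdvd
            have := hcon rfl hrn hn35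
            omega
          obtain ⟨g, hg⟩ := IsCyclic.exists_generator (α := Fˣ)
          have hord : orderOf g = Fintype.card F - 1 := by
            rw [orderOf_eq_card_of_forall_mem_zpowers hg, Nat.card_units, Nat.card_eq_fintype_card]
          obtain ⟨D, hD⟩ : r * r ∣ Fintype.card F - 1 := by
            rw [hcard, ← pow_two, show q₀ ^ 2 - 1 = (q₀ + 1) * (q₀ - 1) by
              simpa using Nat.sq_sub_sq q₀ 1]
            exact hv.mul_right _
          have hD0 : D ≠ 0 := fun h0 => by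
            have : 0 < orderOf g := orderOf_pos g
            rw [hord, hD, h0, mul_zero] at this
            omega
          refine false_of_root F₀ σ hσfix hel hrn.symm (w := ((g ^ D : Fˣ) : F)) ?_ (fun a ha => ?_) hr2
          · rw [orderOf_units, orderOf_pow_of_dvd hD0 (by rw [hord, hD]; exact dvd_mul_left _ _), hord, hD,
              Nat.mul_div_cancel _ (Nat.pos_of_ne_zero hD0)]
          · obtain ⟨c, rfl⟩ := exists_pw hζ ha
            rw [hσpw hζ, hlneg, neg_one_mul, AddChar.map_neg_eq_inv]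
        · obtain ⟨m, rfl⟩ := Nat.exists_eq_add_of_le' hn3
          have h3 : (3 : ZMod r) = 0 → m ≠ 0 ∧ m ≠ 3 := fun h => by
            have := hnum 3 Nat.prime_three (by exact_mod_cast h)
            constructor <;> omega
          refine false_of_exponents F₀ σ hζ hσfix (hσpw hζ) hel (expB (ZMod r) m) (sum_expB m) ?_ fun t => ?_
          · by_cases h : (3 : ZMod r) = 0
            · have hm := (h3 h).1
              refine ⟨0, ⟨3, by omega⟩, ?_⟩
              show (1 : ZMod r) ≠ 0
              exact one_ne_zero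
            · exact ⟨0, Fin.succ (Fin.succ 0), by
                simp only [expB, Fin.cons_zero, Fin.cons_succ]
                exact fun e => h (by linear_combination e)⟩
          · rw [hlneg]
            simp only [neg_one_mul]
            exact not_symm_expB h2 m h3 (fun h => by
              have := hnum 5 (by norm_num) (by exact_mod_cast h)
              omega) t
      · obtain ⟨a, ha⟩ := hk.odd_of_ne_two hk2
        have hsq : (q₀ : ZMod r) * q₀ ≠ 1 := fun h => hl1 (by
          rwa [ha, pow_succ, pow_mul, pow_two, h, one_pow, one_mul] at hlk)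
        have h3 : (3 : ZMod r) ≠ 0 := fun h => hsq (by
          obtain rfl := hnum 3 Nat.prime_three (by exact_mod_cast h)
          exact sq_three _ hlam0)
        obtain ⟨m, rfl⟩ := Nat.exists_eq_add_of_le' hn
        refine false_of_exponents F₀ σ hζ hσfix (hσpw hζ) hel (expA (ZMod r) m) (sum_expA m) ?_ fun t => ?_
        · refine ⟨0, Fin.succ 0, ?_⟩
          simp only [expA, Fin.cons_zero, Fin.cons_succ]
          exact fun e => h2 (by linear_combination e)
        · exact not_symm_expA h2 h3 hlam0 hsq m t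
    · set i := orderOf (Fintype.card F : ZMod r) with hidef
      have hij : i ∣ j := orderOf_dvd_of_pow_eq_one hqj
      have hi0 : 0 < i := CfsgLib.PrimeFix.ord_pos hrF
      have hi1 : i ≠ 1 := fun h => hq1 (orderOf_eq_one_iff.1 h)
      obtain ⟨l, hl⟩ := false_of_kind F₀ hrp σ hσ hσmem hσfix hel (by omega)
        ((Nat.le_of_dvd (by omega) hij).trans hjn)
      rw [← he] at hl
      exact hj1 (by rw [hl, ← pow_mul, mul_comm, pow_mul, hqj, one_pow])
  · intro hcond x hx _
    obtain ⟨c, hx⟩ := hx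
    have hxr : (x : Matrix (Fin n) (Fin n) F) ^ r = c • 1 := (Matrix.SpecialLinearGroup.coe_pow x r).symm.trans hx
    have hdetc : c ^ n = 1 := by
      have h := congrArg Matrix.det hxr
      rw [Matrix.det_pow, x.2, one_pow, Matrix.det_smul, Matrix.det_one, mul_one, Fintype.card_fin] at h
      exact h.symm
    have hc0 : c ≠ 0 := fun h => by rw [h, zero_pow hn0] at hdetc; exact zero_ne_one hdetc
    rcases hcond with hrk | ⟨hk2, hrn, hn35, hv⟩
    · have hord : (q₀ : ZMod r) = Fintype.card F := by rw [hq, ← hrk, ZMod.pow_card]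
      obtain ⟨w, hw⟩ : ∃ w : F, w ^ r = c := by
        by_cases hdvd : r ∣ Fintype.card F - 1
        · refine CfsgLib.LinFix.root_of_criterion rfl hdvd hn0 ⟨hgapk hrk ?_, fun h => absurd h hr2⟩ hx
          have h1 : ((Fintype.card F - 1 : ℕ) : ZMod r) = 0 := (ZMod.natCast_eq_zero_iff _ _).2 hdvd
          rw [← ZMod.natCast_eq_zero_iff, Nat.cast_sub (Nat.card_pos : 0 < Nat.card F₀), ← hq₀, hord]
          rwa [Nat.cast_sub Fintype.card_pos] at h1
        · have hcop : (Nat.card Fˣ).Coprime r := by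
            rw [Nat.card_units, Nat.card_eq_fintype_card]
            exact (hr.out.coprime_iff_not_dvd.2 hdvd).symm
          obtain ⟨w, hw⟩ := (powCoprime hcop).surjective (Units.mk0 c hc0)
          exact ⟨w, by simpa using congrArg Units.val hw⟩
      have hw0 : w ≠ 0 := fun h => hc0 (by rw [← hw, h, zero_pow hr.out.ne_zero])
      have hu : (w⁻¹ • (x : Matrix (Fin n) (Fin n) F)) ^ r = 1 := by
        rw [_root_.smul_pow, hxr, smul_smul, inv_pow, hw, inv_mul_cancel₀ hc0, one_smul]
      refine exists_sl_conj F₀ (p := p) hrp hw0 (by rw [smul_smul, mul_inv_cancel₀ hw0, one_smul]) hu ?_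
      have hT : Matrix.toLin' (w⁻¹ • (x : Matrix (Fin n) (Fin n) F)) ^ r = 1 := by
        rw [← Matrix.toLin'_pow, hu]; exact Matrix.toLin'_one
      have := gen_rat F₀ hrF (r := r) (by rw [← hq₀]; exact hord) hT
      rwa [Module.finrank_fin_fun] at this
    · subst hk2 hrn
      have hdvd : r ∣ q₀ + 1 := dvd_of_one_le_padicValNat (by omega)
      have hlneg : (q₀ : ZMod r) = -1 := by
        rw [← ZMod.natCast_eq_zero_iff, Nat.cast_add, Nat.cast_one] at hdvd
        linear_combination hdvd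
      have hq1 : (Fintype.card F : ZMod r) = 1 := by rw [hq, hlneg, neg_one_sq]
      have hfac : Fintype.card F - 1 = (q₀ + 1) * (q₀ - 1) := by
        rw [hcard]; simpa using Nat.sq_sub_sq q₀ 1
      have hq2 : 2 ≤ q₀ := Finite.one_lt_card
      have hnd : ¬ r ∣ q₀ - 1 := fun h => by
        rw [← ZMod.natCast_eq_zero_iff, Nat.cast_sub (by omega), hlneg, Nat.cast_one] at h
        have h' : ((2 : ℕ) : ZMod r) = 0 := by push_cast; linear_combination -h
        exact hr2 ((Nat.prime_dvd_prime_iff_eq hr.out Nat.prime_two).1 ((ZMod.natCast_eq_zero_iff _ _).1 h'))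
      have hvq : padicValNat r (Fintype.card F - 1) = 1 := by
        rw [hfac, padicValNat.mul (by omega) (by omega), hv, padicValNat.eq_zero_of_not_dvd hnd]
      obtain ⟨w, hw⟩ := CfsgLib.LinFix.root_of_criterion (r := r) rfl (hq1iff hq1) hn0
        ⟨by rw [hvq, padicValNat.self hr.out.one_lt], fun h => absurd h hr2⟩ hx
      have hc1 : c = 1 := by
        have hw2 : w ^ (r ^ 2) = 1 := by rw [pow_two, pow_mul, hw, hdetc]
        obtain ⟨a, ha, hwa⟩ := (Nat.dvd_prime_pow hr.out).1 (orderOf_dvd_of_pow_eq_one hw2)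
        rw [← hw]
        refine orderOf_dvd_iff_pow_eq_one.1 ?_
        rw [hwa]
        interval_cases a
        · simp
        · simp
        · exfalso
          have h1 : r ^ 2 ∣ Fintype.card F - 1 := hwa ▸ orderOf_dvd_of_pow_eq_one
            (FiniteField.pow_card_sub_one_eq_one w fun h => hc0 (by rw [← hw, h, zero_pow hr.out.ne_zero]))
          rw [padicValNat_dvd_iff_le (by have := Fintype.one_lt_card (α := F); omega), hvq] at h1
          omega
      rw [hc1, one_smul] at hxr
      set T := Matrix.toLin' (x : Matrix (Fin r) (Fin r) F) with hTdef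
      have hT : T ^ r = 1 := by rw [hTdef, ← Matrix.toLin'_pow, hxr]; exact Matrix.toLin'_one
      obtain ⟨b, d, hb⟩ := exists_eigenbasis (Module.finrank_fin_fun F) hrF (orderOf_eq_one_iff.2 hq1) hT
      obtain ⟨ζ, hζ⟩ := hprim hq1
      set pw := AddChar.zmodChar r hζ.pow_eq_one with hpw
      have hinj : Function.Injective pw := pw_inj hζ
      have hdr : ∀ l, d l ^ r = 1 := fun l => by
        have hk : ∀ m : ℕ, (T ^ m) (b l) = d l ^ m • b l := fun m => by
          induction m with
          | zero => simp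
          | succ m ih => rw [pow_succ, Module.End.mul_apply, hb, map_smul, ih, smul_smul, pow_succ']
        have h1 := hk r
        rw [hT, Module.End.one_apply] at h1
        exact smul_left_injective F (b.ne_zero l) (show d l ^ r • b l = (1 : F) • b l by rw [one_smul]; exact h1.symm)
      choose ex hex using fun l => exists_pw hζ (hdr l)
      have hsum : ∑ l, ex l = 0 := by
        refine hinj ?_
        rw [AddChar.map_zero_eq_one, pw_sum]
        have hM : LinearMap.toMatrix b b T = Matrix.diagonal d := by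
          ext i l
          rw [LinearMap.toMatrix_apply, hb, map_smul, b.repr_self, Finsupp.smul_single, smul_eq_mul, mul_one,
            Finsupp.single_apply, Matrix.diagonal_apply]
          by_cases h : i = l
          · subst h; simp
          · rw [if_neg h, if_neg (Ne.symm h)]
        calc ∏ l, pw (ex l) = (Matrix.diagonal d).det := by
              rw [Matrix.det_diagonal]; exact Finset.prod_congr rfl fun l _ => hex l
          _ = LinearMap.det T := by rw [← hM, LinearMap.det_toMatrix]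
          _ = 1 := by rw [hTdef, LinearMap.det_toLin', x.2]
      obtain ⟨s, hs⟩ : ∃ s, ∀ c, (Finset.univ.filter fun l => ex l = s + s - c).card =
          (Finset.univ.filter fun l => ex l = c).card := by
        rcases hn35 with rfl | rfl
        · exact centre_three ex hsum
        · exact centre_five ex hsum
      have hps : pw s ≠ 0 := fun h => by
        have := (AddChar.map_add_eq_mul pw s (-s)).symm
        rw [h, zero_mul, add_neg_cancel, AddChar.map_zero_eq_one] at this
        exact zero_ne_one this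
      have hu : (pw (-s) • (x : Matrix (Fin r) (Fin r) F)) ^ r = 1 := by
        rw [_root_.smul_pow, hxr, ← AddChar.map_nsmul_eq_pow, nsmul_eq_mul, ZMod.natCast_self, zero_mul,
          AddChar.map_zero_eq_one, one_smul]
      refine exists_sl_conj F₀ (p := p) hrp hps (by
        rw [smul_smul, ← AddChar.map_add_eq_mul, add_neg_cancel, AddChar.map_zero_eq_one, one_smul]) hu ?_
      have hσσ : ∀ a : F, σ (σ a) = a := fun a => by
        rw [hσ, hσ, ← pow_mul, ← he, ← pow_two, ← hcard, FiniteField.pow_card]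
      have hgen := gen_rat_of_balanced (T := Matrix.toLin' (pw (-s) • (x : Matrix (Fin r) (Fin r) F)))
        F₀ σ hσσ hσmem (⇑b) (fun l => pw (ex l - s))
        (fun l => by
          rw [map_smul, LinearMap.smul_apply, ← hTdef, hb, smul_smul, ← hex l, ← AddChar.map_add_eq_mul,
            neg_add_eq_sub]) Finset.univ fun a => by
          by_cases ha : ∃ c, pw c = a
          · obtain ⟨c, rfl⟩ := ha
            rw [hσpw hζ, hlneg, neg_one_mul]
            simp only [← hpw, hinj.eq_iff, sub_eq_iff_eq_add]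
            rw [← hs (c + s)]
            congr 1
            refine Finset.filter_congr fun l _ => ?_
            rw [show -c + s = s + s - (c + s) by ring]
          · rw [Finset.card_eq_zero.2 (Finset.filter_eq_empty_iff.2 fun l _ h => ha ⟨_, h⟩),
              Finset.card_eq_zero]
            refine Finset.filter_eq_empty_iff.2 fun l _ h => ha ⟨-(ex l - s), ?_⟩
            rw [← neg_one_mul, ← hlneg, ← hσpw hζ, ← hpw, h, hσσ]
      rwa [Finset.coe_univ, Set.image_univ, b.span_eq, Finset.card_univ, Fintype.card_fin] at hgen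

/-- Elements of odd prime order r ≠ p of PSL_n(q) and subfield subgroups. Here `T = PSL_n(F)` for a field `F` with `q = p^f` elements (`n ≥ 2`, `(n, q) ≠ (2, 2), (2, 3)`), `F₀` is the subfield with `q₀` elements where `q = q₀^k` for a prime `k`, and `H` is the subgroup of matrices of determinant 1 lying in the subfield group of `F₀` (invertible matrices over `F₀` times scalars) — a maximal subgroup of type GL_n(q₀) (the case `n = 2`, `q₀ = 2` is excluded); Ω is the set of `T`-conjugates of `H` (cosets of `H`), so an element of `T` of prime order `r` (a matrix `x` of determinant 1 with `x^r` scalar, `x` not scalar) fixes a point of Ω when some conjugate of `x` by a matrix of determinant 1 lies in `H`. Let `r ≠ p` be an odd prime dividing the index of `H`, with `(n, r) ≠ (6, 3)` and, when `r = k` divides `q₀ − 1`, with `(n)_r ≤ (q − 1)_r`. Then every element of `T` of order `r` is conjugate in `T` into `H` if and only if `r = k`, or `k = 2`, `r = n ∈ {3, 5}` and `(q₀ + 1)_r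 = r`. The two excluded cases, `(n, r) = (6, 3)` and `r = k ∣ q₀ − 1` with `(n)_r > (q − 1)_r`, are ones where this criterion can fail, so they are left out. -/
theorem result {F : Type*} [Field F] [Fintype F] {p : ℕ} [Fact p.Prime] [CharP F p] {q : ℕ} (hq : Fintype.card F = q)
    (n : ℕ) (hn : 2 ≤ n) (hT : (n, q) ≠ (2, 2) ∧ (n, q) ≠ (2, 3))
    (F₀ : Subfield F) (k q₀ : ℕ) (hk : k.Prime) (hF₀ : Nat.card ↥F₀ = q₀) (hqk : q = q₀ ^ k) (hC5 : ¬ (n = 2 ∧ q₀ = 2)) (r : ℕ) [Fact r.Prime] (hr2 : r ≠ 2) (hrp : r ≠ p) (hgap : ¬ (n = 6 ∧ r = 3)) (hgapk : r = k → r ∣ q₀ - 1 → padicValNat r n ≤ padicValNat r (q - 1)) (hΩ : r ∣ ((Cfsg.Geo.subfieldSubgroup F₀ 1).comap (Matrix.SpecialLinearGroup.toGL : Matrix.SpecialLinearGroup (Fin n) F →* GL (Fin n) F)).index) :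
    (∀ x : Matrix.SpecialLinearGroup (Fin n) F,
      (∃ z : F, ((x ^ r : Matrix.SpecialLinearGroup (Fin n) F) : Matrix (Fin n) (Fin n) F) = z • (1 : Matrix (Fin n) (Fin n) F)) →
      (∀ z : F, (x : Matrix (Fin n) (Fin n) F) ≠ z • (1 : Matrix (Fin n) (Fin n) F)) →
      ∃ P : Matrix.SpecialLinearGroup (Fin n) F, P⁻¹ * x * P ∈ ((Cfsg.Geo.subfieldSubgroup F₀ 1).comap (Matrix.SpecialLinearGroup.toGL : Matrix.SpecialLinearGroup (Fin n) F →* GL (Fin n) F))) ↔
    (r = k ∨ (k = 2 ∧ r = n ∧ (n = 3 ∨ n = 5) ∧ padicValNat r (q₀ + 1) = 1)) := by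
  subst hq
  subst hF₀
  exact main (p := p) n hn F₀ k hk hqk r hr2 hrp hgap hgapk hΩ

end Cfsg.Agent.S5965
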