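import Cfsg.Statements.S5966
import Cfsg.Agent.Lib.LinFix.Subfield
-- import your own Cfsg.Agent.* helpers here

set_option autoImplicit false
open scoped MatrixGroups
open Cfsg

namespace Cfsg.Agent.S5966

open CfsgLib.LinFix Cfsg.Geo Matrix

variable {K : Type*} [Field K] {m : ℕ}

/-- The standard square zero matrix of rank `m` in dimension `m + m`. -/
def nilBlock (K : Type*) [Field K] (m : ℕ) : Matrix (Fin (m + m)) (Fin (m + m)) K :=
  Matrix.reindex finSumFinEquiv finSumFinEquiv (Matrix.fromBlocks 0 1 0 0)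

theorem nilBlock_map {L : Type*} [Field L] (f : K →+* L) :
    (nilBlock K m).map f = nilBlock L m := by
  simp [nilBlock, Matrix.fromBlocks_map, Matrix.reindex_apply, ← Matrix.submatrix_map]

theorem nilBlock_sq : nilBlock K m * nilBlock K m = 0 := by
  simp [nilBlock, Matrix.reindex_apply, Matrix.submatrix_mul_equiv, Matrix.fromBlocks_multiply]

theorem det_one_add_nilBlock : (1 + nilBlock K m).det = 1 := by
  have h : (1 : Matrix (Fin (m + m)) (Fin (m + m)) K) + nilBlock K m =
      Matrix.reindex finSumFinEquiv finSumFinEquiv (Matrix.fromBlocks 1 1 0 1) := by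
    rw [nilBlock, Matrix.reindex_apply, Matrix.reindex_apply,
      ← Matrix.submatrix_one_equiv (finSumFinEquiv (m := m) (n := m)).symm]
    show Matrix.submatrix 1 _ _ + Matrix.submatrix _ _ _ = _
    ext i j
    simp only [Matrix.add_apply, Matrix.submatrix_apply]
    rw [← Matrix.fromBlocks_one, ← Matrix.add_apply, Matrix.fromBlocks_add]
    simp
  rw [h, Matrix.det_reindex_self, Matrix.det_fromBlocks_zero₂₁, det_one, mul_one]

/-- The centraliser of the standard square zero matrix consists of elements of square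
determinant. -/
theorem isSquare_det_of_commute {M : Matrix (Fin (m + m)) (Fin (m + m)) K}
    (h : M * nilBlock K m = nilBlock K m * M) : IsSquare M.det := by
  obtain ⟨M', rfl⟩ := (Matrix.reindex finSumFinEquiv finSumFinEquiv).surjective M
  obtain ⟨a, b, c, d, rfl⟩ : ∃ a b c d, M' = Matrix.fromBlocks a b c d :=
    ⟨_, _, _, _, (Matrix.fromBlocks_toBlocks M').symm⟩
  simp only [nilBlock, Matrix.reindex_apply, Matrix.submatrix_mul_equiv] at h
  have h' := congrArg (fun A => A.submatrix finSumFinEquiv finSumFinEquiv) h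
  simp only [Matrix.submatrix_submatrix, Equiv.symm_comp_self, Matrix.submatrix_id_id,
    Matrix.fromBlocks_multiply, Matrix.fromBlocks_inj] at h'
  simp only [mul_zero, zero_mul, mul_one, one_mul, add_zero, zero_add] at h'
  obtain ⟨hc, had, -, -⟩ := h'
  rw [Matrix.det_reindex_self, ← hc, Matrix.det_fromBlocks_zero₂₁, ← had]
  exact ⟨_, rfl⟩

/-- Elements of order 3 of PSL_n(q) in characteristic 3 and subfield subgroups. Here `T = PSL_n(F)` for a field `F` with `q` elements, `q` a power of 3 (`n ≥ 2`, `(n, q) ≠ (2, 2), (2, 3)`), `F₀` is the subfield with `q₀` elements where `q = q₀^k` for a prime `k`, and `H` is the subgroup of matrices of determinant 1 lying in the subfield group of `F₀` (invertible matrices over `F₀` times scalars) — a maximal subgroup of type GL_n(q₀) (the case `n = 2`, `q₀ = 2` is excluded); Ω is the set of `T`-conjugates of `H` (cosets of `H`), so an element of `T` of prime order `r` (a matrix `x` of determinant 1 with `x^r` scalar, `x` not scalar) fixes a point of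 Ω when some conjugate of `x` by a matrix of determinant 1 lies in `H`. Suppose 3 divides the index of `H`. Then every element of `T` of order 3 is conjugate in `T` into `H` if and only if `n` is odd, or `n` is even and `k > 2`. -/
theorem result {F : Type*} [Field F] [Fintype F] [CharP F 3] {q : ℕ} (hq : Fintype.card F = q)
    (n : ℕ) (hn : 2 ≤ n) (hT : (n, q) ≠ (2, 3))
    (F₀ : Subfield F) (k q₀ : ℕ) (hk : k.Prime) (hF₀ : Nat.card ↥F₀ = q₀) (hqk : q = q₀ ^ k) (hC5 : ¬ (n = 2 ∧ q₀ = 2)) (hΩ : 3 ∣ ((Cfsg.Geo.subfieldSubgroup F₀ 1).comap (Matrix.SpecialLinearGroup.toGL : Matrix.SpecialLinearGroup (Fin n) F →* GL (Fin n) F)).index) :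
    (∀ x : Matrix.SpecialLinearGroup (Fin n) F,
      (∃ z : F, ((x ^ 3 : Matrix.SpecialLinearGroup (Fin n) F) : Matrix (Fin n) (Fin n) F) = z • (1 : Matrix (Fin n) (Fin n) F)) →
      (∀ z : F, (x : Matrix (Fin n) (Fin n) F) ≠ z • (1 : Matrix (Fin n) (Fin n) F)) →
      ∃ P : Matrix.SpecialLinearGroup (Fin n) F, P⁻¹ * x * P ∈ ((Cfsg.Geo.subfieldSubgroup F₀ 1).comap (Matrix.SpecialLinearGroup.toGL : Matrix.SpecialLinearGroup (Fin n) F →* GL (Fin n) F))) ↔
    (Odd n ∨ (Even n ∧ 2 < k)) := by
  classical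
  haveI : Fact (Nat.Prime 3) := ⟨Nat.prime_three⟩
  have hF : ringChar F ≠ 2 := by rw [ringChar.eq F 3]; norm_num
  have hqodd : Odd q := by
    rw [← hq]; exact Nat.odd_iff.2 (FiniteField.odd_card_of_char_ne_two hF)
  have hcard : Fintype.card F = Nat.card F₀ ^ k := by rw [hq, hqk, hF₀]
  have hq₀ : Odd (Nat.card F₀) := by
    rw [hF₀]
    rw [hqk, Nat.odd_pow_iff hk.ne_zero] at hqodd
    exact hqodd
  constructor
  · intro hall
    by_contra hcon
    rw [not_or, Nat.not_odd_iff_even] at hcon
    obtain ⟨⟨m, rfl⟩, h2⟩ := hcon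
    obtain rfl : k = 2 := le_antisymm (not_lt.1 fun h => h2 ⟨⟨m, rfl⟩, h⟩) hk.two_le
    obtain ⟨ε, hε⟩ := FiniteField.exists_nonsquare (F := F) hF
    have hε0 : ε ≠ 0 := by rintro rfl; exact hε ⟨0, (mul_zero 0).symm⟩
    haveI : Nonempty (Fin (m + m)) := ⟨⟨0, by omega⟩⟩
    obtain ⟨h, hh⟩ := GeneralLinearGroup.det_surjective (n := Fin (m + m)) (Units.mk0 ε hε0)
    have hh' : (h : Matrix (Fin (m + m)) (Fin (m + m)) F).det = ε := congrArg Units.val hh
    set N := nilBlock F m with hN
    set H : Matrix (Fin (m + m)) (Fin (m + m)) F := h.1 with hH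
    set H' : Matrix (Fin (m + m)) (Fin (m + m)) F := (h⁻¹).1 with hH'
    have hHH : H * H' = 1 := Units.mul_inv h
    have hH'H : H' * H = 1 := Units.inv_mul h
    have hxdet : (H * (1 + N) * H').det = 1 := by
      rw [Matrix.det_mul, Matrix.det_mul, det_one_add_nilBlock, mul_one, ← Matrix.det_mul, hHH,
        Matrix.det_one]
    let x : SL(m + m, F) := ⟨H * (1 + N) * H', hxdet⟩
    have hN3 : (1 + N) ^ 3 = 1 := by
      haveI : CharP (Matrix (Fin (m + m)) (Fin (m + m)) F) 3 := inferInstance
      rw [add_pow_char_of_commute 3 (Commute.one_left N), one_pow, pow_succ, pow_two, nilBlock_sq,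
        zero_mul, add_zero]
    have hx3 : ((x ^ 3 : SL(m + m, F)) : Matrix (Fin (m + m)) (Fin (m + m)) F) = (1 : F) • 1 := by
      refine (Matrix.SpecialLinearGroup.coe_pow x 3).trans ?_
      rw [one_smul]
      change (H * (1 + N) * H') ^ 3 = 1
      rw [show (H * (1 + N) * H') ^ 3 = H * (1 + N) ^ 3 * H' from Units.conj_pow h _ 3, hN3,
        mul_one, hHH]
    have hxns : ∀ z : F, (x : Matrix (Fin (m + m)) (Fin (m + m)) F) ≠ z • 1 := by
      intro z hz
      have hz' : H * (1 + N) * H' = z • 1 := hz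
      have h1 : 1 + N = z • 1 := by
        calc 1 + N = H' * H * (1 + N) * (H' * H) := by rw [hH'H, one_mul, mul_one]
          _ = H' * (H * (1 + N) * H') * H := by simp only [mul_assoc]
          _ = z • 1 := by rw [hz', Matrix.mul_smul, mul_one, Matrix.smul_mul, hH'H]
      obtain ⟨i⟩ : Nonempty (Fin m) := ⟨⟨0, by omega⟩⟩
      have h2 := congrFun (congrFun h1 (Fin.castAdd m i)) (Fin.natAdd m i)
      have hne : Fin.castAdd m i ≠ Fin.natAdd m i := fun he => by
        have := congrArg Fin.val he; simp at this; omega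
      simp only [hN, nilBlock, Matrix.add_apply, Matrix.reindex_apply, Matrix.submatrix_apply,
        finSumFinEquiv_symm_apply_castAdd, finSumFinEquiv_symm_apply_natAdd, Matrix.fromBlocks_apply₁₂,
        Matrix.smul_apply, Matrix.one_apply_ne hne, Matrix.one_apply_eq, smul_zero, zero_add] at h2
      exact one_ne_zero h2
    obtain ⟨P, hP⟩ := hall x ⟨1, hx3⟩ hxns
    rw [mem_subfield_iff] at hP
    obtain ⟨g, l, hgl⟩ := hP
    set y : SL(m + m, F) := P⁻¹ * x * P with hy
    -- the scalar lies in the subfield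
    have hy3 : ((y ^ 3 : SL(m + m, F)) : Matrix (Fin (m + m)) (Fin (m + m)) F) = 1 := by
      have : y ^ 3 = P⁻¹ * x ^ 3 * P := by simpa using (conj_pow (i := 3) (a := P⁻¹) (b := x))
      have hx3' : x ^ 3 = 1 := Subtype.ext (hx3.trans (one_smul F _))
      rw [hx3', mul_one, inv_mul_cancel] at this
      exact congrArg Subtype.val this
    replace hy3 := (Matrix.SpecialLinearGroup.coe_pow y 3).symm.trans hy3
    rw [hgl, smul_pow] at hy3
    let i₀ : Fin (m + m) := ⟨0, by omega⟩
    have hl3 : (l : F) ^ 3 ∈ F₀ := by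
      have h1 := congrFun (congrFun hy3 i₀) i₀
      rw [Matrix.smul_apply, ← Matrix.map_pow, Matrix.map_apply, Matrix.one_apply_eq,
        smul_eq_mul] at h1
      rw [eq_inv_of_mul_eq_one_left h1]
      exact F₀.inv_mem ((((g : Matrix (Fin (m + m)) (Fin (m + m)) F₀) ^ 3) i₀ i₀) : F₀).2
    have hlmem : (l : F) ∈ F₀ := by
      refine mem_of_pow_eq F₀ ((bijective_frobenius F 3).injective ?_)
      rw [frobenius_def, frobenius_def, ← pow_mul, mul_comm, pow_mul]
      exact pow_eq_of_mem F₀ hl3
    set u : Matrix (Fin (m + m)) (Fin (m + m)) F₀ :=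
      (⟨(l : F), hlmem⟩ : F₀) • (g : Matrix (Fin (m + m)) (Fin (m + m)) F₀) with hu
    have huy : u.map F₀.subtype = (y : Matrix (Fin (m + m)) (Fin (m + m)) F) := by
      rw [hgl]; ext i j; simp [hu]
    -- `u - 1` and the standard matrix are conjugate over `F`
    let B : GL (Fin (m + m)) F := h⁻¹ * Matrix.SpecialLinearGroup.toGL P
    have hB : (B : Matrix (Fin (m + m)) (Fin (m + m)) F) * (u - 1).map F₀.subtype =
        (nilBlock F₀ m).map F₀.subtype * B := by
      rw [nilBlock_map, Matrix.map_sub _ (map_sub _), Matrix.map_one _ (map_zero _) (map_one _), huy,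
        mul_sub, mul_one, sub_eq_iff_eq_add]
      have hBv : (B : Matrix (Fin (m + m)) (Fin (m + m)) F) =
          H' * (P : Matrix (Fin (m + m)) (Fin (m + m)) F) := rfl
      have hPy : (P : Matrix (Fin (m + m)) (Fin (m + m)) F) * y = x * P := by
        rw [← Matrix.SpecialLinearGroup.coe_mul, ← Matrix.SpecialLinearGroup.coe_mul]
        congr 1
        rw [hy, ← mul_assoc, ← mul_assoc, mul_inv_cancel, one_mul]
      rw [hBv, mul_assoc, hPy, show (x : Matrix (Fin (m + m)) (Fin (m + m)) F) = H * (1 + N) * H' from rfl]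
      calc H' * (H * (1 + N) * H' * P) = H' * H * (1 + N) * H' * P := by simp only [mul_assoc]
        _ = _ := by rw [hH'H, one_mul, add_mul, add_mul, one_mul, mul_assoc]; exact add_comm _ _
    have hr : ∀ j, Module.finrank F₀ (LinearMap.range (Matrix.toLin' (u - 1) ^ j)) =
        Module.finrank F₀ (LinearMap.range (Matrix.toLin' (nilBlock F₀ m) ^ j)) := fun j => by
      have h1 := finrank_range_pow_conj B hB j
      rwa [← toLin'_pow', ← toLin'_pow', ← Matrix.map_pow, ← Matrix.map_pow, finrank_range_map,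
        finrank_range_map, toLin'_pow', toLin'_pow'] at h1
    have hnilN : IsNilpotent (Matrix.toLin' (nilBlock F₀ m)) :=
      ⟨2, by rw [← toLin'_pow', pow_two, nilBlock_sq, map_zero]⟩
    have hnilu : IsNilpotent (Matrix.toLin' (u - 1)) := ⟨2, by
      rw [← LinearMap.range_eq_bot, ← Submodule.finrank_eq_zero, hr, ← toLin'_pow', pow_two,
        nilBlock_sq, map_zero, LinearMap.range_zero, finrank_bot]⟩
    obtain ⟨A, hA⟩ := exists_conj_of_ranks hnilu hnilN hr
    let A' : GL (Fin (m + m)) F := GeneralLinearGroup.map (F₀.subtype : F₀ →+* F) A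
    have hA' : (A' : Matrix (Fin (m + m)) (Fin (m + m)) F) * (u - 1).map F₀.subtype =
        nilBlock F m * A' := by
      have := congrArg (fun M => M.map F₀.subtype) hA
      simp only [Matrix.map_mul, nilBlock_map] at this
      exact this
    rw [nilBlock_map] at hB
    have hcomm : ((A' * B⁻¹ : GL (Fin (m + m)) F) : Matrix (Fin (m + m)) (Fin (m + m)) F) * nilBlock F m
        = nilBlock F m * ((A' * B⁻¹ : GL (Fin (m + m)) F) : Matrix (Fin (m + m)) (Fin (m + m)) F) := by
      rw [Units.val_mul, mul_assoc, show (B⁻¹).1 * nilBlock F m = (u - 1).map F₀.subtype * (B⁻¹).1 by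
        rw [Units.inv_mul_eq_iff_eq_mul, ← mul_assoc, hB, mul_assoc, Units.mul_inv, mul_one],
        ← mul_assoc, hA', mul_assoc]
    have hsq := isSquare_det_of_commute hcomm
    have hBdet : (B : Matrix (Fin (m + m)) (Fin (m + m)) F).det * ε = 1 := by
      rw [← hh', ← Matrix.det_mul]
      change (H' * (P : Matrix (Fin (m + m)) (Fin (m + m)) F) * H).det = 1
      rw [Matrix.det_mul, Matrix.det_mul, P.2, mul_one, ← Matrix.det_mul, hH'H, Matrix.det_one]
    have hBinv : ((B⁻¹ : GL (Fin (m + m)) F) : Matrix (Fin (m + m)) (Fin (m + m)) F).det = ε := by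
      have h1 : (B : Matrix (Fin (m + m)) (Fin (m + m)) F).det * (B⁻¹).1.det = 1 := by
        rw [← Matrix.det_mul, Units.mul_inv, Matrix.det_one]
      exact mul_left_cancel₀ (left_ne_zero_of_mul_eq_one hBdet) (h1.trans hBdet.symm)
    rw [Units.val_mul, Matrix.det_mul, hBinv] at hsq
    have hAdet : (A' : Matrix (Fin (m + m)) (Fin (m + m)) F).det =
        ((A : Matrix (Fin (m + m)) (Fin (m + m)) F₀).det : F) := by
      change ((A : Matrix (Fin (m + m)) (Fin (m + m)) F₀).map F₀.subtype).det = _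
      rw [← RingHom.mapMatrix_apply, ← RingHom.map_det]
      rfl
    have hAsq := isSquare_of_mem F₀ hF hcard
      ((A : Matrix (Fin (m + m)) (Fin (m + m)) F₀).det).2
    have hA0 : (A' : Matrix (Fin (m + m)) (Fin (m + m)) F).det ≠ 0 :=
      ((Matrix.isUnit_iff_isUnit_det _).1 A'.isUnit).ne_zero
    rw [← hAdet] at hAsq
    apply hε
    rw [show ε = (A' : Matrix (Fin (m + m)) (Fin (m + m)) F).det * ε /
      (A' : Matrix (Fin (m + m)) (Fin (m + m)) F).det by field_simp]
    exact hsq.div hAsq
  · intro hcond x ⟨z, hz⟩ _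
    obtain ⟨w, u, hxu, hu⟩ := exists_unipotent_part (by omega) hz
    refine exists_conj_unipotent F₀ (by omega) hxu hu fun μ hμ hsum d hd => ?_
    by_cases h1 : 1 ∈ μ
    · exact ⟨1, h1, d⁻¹, 1, inv_ne_zero hd, by simp [hd]⟩
    by_cases h3 : 3 ∈ μ
    · obtain ⟨a, ha⟩ := (bijective_frobenius F 3).surjective d⁻¹
      rw [frobenius_def] at ha
      refine ⟨3, h3, a, 1, ?_, by simp [ha, hd]⟩
      rintro rfl
      simp [eq_comm, hd] at ha
    have h2 : ∀ b ∈ μ, b = 2 := fun b hb => by
      have := hμ b hb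
      have : b ≠ 1 := fun e => h1 (e ▸ hb)
      have : b ≠ 3 := fun e => h3 (e ▸ hb)
      omega
    rw [Multiset.eq_replicate_card.2 h2, Multiset.sum_replicate, smul_eq_mul] at hsum
    have hne : μ ≠ 0 := fun h0 => by rw [h0] at hsum; simp at hsum; omega
    obtain ⟨b, hb⟩ := Multiset.exists_mem_of_ne_zero hne
    have hkodd : Odd k := by
      rcases hcond with ho | ⟨-, hk2⟩
      · exact absurd ho (by rw [← hsum]; simp)
      · exact hk.odd_of_ne_two (by omega)
    obtain ⟨a, ha, hmem⟩ := exists_mul_sq_mem F₀ hkodd hq₀ hcard hd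
    exact ⟨b, hb, a, ⟨_, hmem⟩, ha, by rw [h2 b hb]⟩

end Cfsg.Agent.S5966
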