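import Cfsg.Statements.S5967
import Cfsg.Agent.Lib.LinFix.InvolPlanes
import Cfsg.Agent.Lib.LinFix.NegRoot
import Cfsg.Agent.Lib.LinFix.SympIndex

set_option autoImplicit false
open Cfsg

namespace Cfsg.Agent.S5967

open Matrix Module CfsgLib.LinFix
open scoped MatrixGroups

variable {F : Type*} [Field F] {n : ℕ}

theorem coe_sq (x : SpecialLinearGroup (Fin n) F) :
    ((x ^ 2 : SpecialLinearGroup (Fin n) F) : Matrix (Fin n) (Fin n) F) =
      (x : Matrix (Fin n) (Fin n) F) * (x : Matrix (Fin n) (Fin n) F) := by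
  rw [pow_two]; rfl

theorem mulVec_cancel (P : SpecialLinearGroup (Fin n) F) (a : Fin n → F) :
    (P : Matrix (Fin n) (Fin n) F) *ᵥ (((P⁻¹ : SpecialLinearGroup (Fin n) F) : Matrix (Fin n) (Fin n) F) *ᵥ a) = a := by
  rw [mulVec_mulVec, show (P : Matrix (Fin n) (Fin n) F) * ((P⁻¹ : SpecialLinearGroup (Fin n) F) : Matrix (Fin n) (Fin n) F) = 1 from
    congrArg (fun g : SpecialLinearGroup (Fin n) F => (g : Matrix (Fin n) (Fin n) F)) (mul_inv_cancel P), one_mulVec]

theorem mulVec_cancel' (P : SpecialLinearGroup (Fin n) F) (a : Fin n → F) :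
    ((P⁻¹ : SpecialLinearGroup (Fin n) F) : Matrix (Fin n) (Fin n) F) *ᵥ ((P : Matrix (Fin n) (Fin n) F) *ᵥ a) = a := by
  simpa using mulVec_cancel P⁻¹ a

/-- Move a plane decomposition onto a symplectic basis by a matrix of determinant one. -/
theorem exists_conj {d : ℕ} (hd : 0 < d) {f : (Fin n → F) → (Fin n → F) → F}
    (e : (Fin n → F) ≃ₗ[F] (Fin d ⊕ Fin d → F))
    (he : ∀ x y, f x y = sympForm d F (e x) (e y))
    (T : (Fin n → F) →ₗ[F] (Fin n → F)) {δ : F} (h : InvolPlanes.HasPlanes T δ) :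
    ∃ (M : Matrix (Fin n) (Fin n) F), M.det = 1 ∧ ∃ N : Matrix (Fin n) (Fin n) F,
      LinearMap.toMatrix' T * M = M * N ∧ ∀ u v, f (N *ᵥ u) (N *ᵥ v) = δ * f u v := by
  classical
  obtain ⟨ι, _, b, A, B, C, D, hb⟩ := h
  have hι : Fintype.card ι = d := by
    have h1 := finrank_eq_card_basis b
    have h2 := LinearEquiv.finrank_eq e
    rw [h1, finrank_fintype_fun_eq_card, Fintype.card_prod, Fintype.card_sum, Fintype.card_fin,
      Fintype.card_fin] at h2
    omega
  let r : ι ≃ Fin d := Fintype.equivFinOfCardEq hι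
  let g : ι × Fin 2 → Fin d ⊕ Fin d := fun x => if x.2 = 0 then .inl (r x.1) else .inr (r x.1)
  have hg : Function.Bijective g := by
    refine ⟨fun x y hxy => ?_, fun t => ?_⟩
    · obtain ⟨i, a⟩ := x
      obtain ⟨j, a'⟩ := y
      fin_cases a <;> fin_cases a' <;> simp_all [g]
    · rcases t with t | t
      · exact ⟨(r.symm t, 0), by simp [g]⟩
      · exact ⟨(r.symm t, 1), by simp [g]⟩
  let c : Basis (Fin d ⊕ Fin d) F (Fin n → F) := b.reindex (Equiv.ofBijective g hg)
  have hcl : ∀ i, c (.inl (r i)) = b (i, 0) := fun i => by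
    rw [Basis.reindex_apply]
    congr 1
    rw [Equiv.symm_apply_eq]; simp [g]
  have hcr : ∀ i, c (.inr (r i)) = b (i, 1) := fun i => by
    rw [Basis.reindex_apply]
    congr 1
    rw [Equiv.symm_apply_eq]; simp [g]
  let Q : (Fin n → F) ≃ₗ[F] (Fin n → F) := e.trans c.equivFun.symm
  set D₀ := LinearMap.det (Q : (Fin n → F) →ₗ[F] (Fin n → F))
  have hD₀ : D₀ ≠ 0 := (LinearEquiv.isUnit_det' Q).ne_zero
  let s : Fin d ⊕ Fin d → F := Function.update 1 (.inl ⟨0, hd⟩) D₀⁻¹
  let S : (Fin n → F) →ₗ[F] (Fin n → F) :=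
    e.symm.toLinearMap ∘ₗ Matrix.toLin' (Matrix.diagonal s) ∘ₗ e.toLinearMap
  let P : (Fin n → F) →ₗ[F] (Fin n → F) := (Q : (Fin n → F) →ₗ[F] (Fin n → F)) ∘ₗ S
  have hP1 : LinearMap.det P = 1 := by
    rw [LinearMap.det_comp, show LinearMap.det S = D₀⁻¹ from ?_, mul_inv_cancel₀ hD₀]
    have := LinearMap.det_conj (Matrix.toLin' (Matrix.diagonal s)) e.symm
    rw [LinearEquiv.symm_symm] at this
    rw [show S = e.symm.toLinearMap ∘ₗ Matrix.toLin' (Matrix.diagonal s) ∘ₗ e.toLinearMap from rfl, this,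
      LinearMap.det_toLin', Matrix.det_diagonal, Finset.prod_update_of_mem (Finset.mem_univ _)]
    simp
  have hs : ∀ t, s t ≠ 0 := fun t => by
    by_cases h : t = .inl ⟨0, hd⟩
    · subst h; simp [s, hD₀]
    · simp [s, h]
  have hPe : ∀ w, P (e.symm w) = ∑ t, (s t * w t) • c t := fun w => by
    simp [P, S, Q, Basis.equivFun_symm_apply, Matrix.mulVec_diagonal]
  let y : (Fin d ⊕ Fin d → F) → (Fin d ⊕ Fin d → F) := fun w => Sum.elim
    (fun i => (A (r.symm i) * (s (.inl i) * w (.inl i)) + C (r.symm i) * (s (.inr i) * w (.inr i))) / s (.inl i))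
    (fun i => (B (r.symm i) * (s (.inl i) * w (.inl i)) + D (r.symm i) * (s (.inr i) * w (.inr i))) / s (.inr i))
  have hTP : ∀ w, T (P (e.symm w)) = P (e.symm (y w)) := by
    intro w
    simp only [hPe, map_sum, map_smul, Fintype.sum_sum_type, y, Sum.elim_inl, Sum.elim_inr,
      mul_div_cancel₀ _ (hs _), ← Finset.sum_add_distrib]
    refine Finset.sum_congr rfl fun i _ => ?_
    obtain ⟨i, rfl⟩ := r.surjective i
    rw [Equiv.symm_apply_apply, hcl, hcr, map_add, map_smul, map_smul, (hb i).1, (hb i).2.1]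
    module
  refine ⟨LinearMap.toMatrix' P, by rw [LinearMap.det_toMatrix', hP1], ?_⟩
  have hPinj : Function.Injective P := by
    refine Function.Injective.of_comp_right (f := P) (g := e.symm) ?_ e.symm.surjective
    intro w w' hww
    simp only [Function.comp_apply, hPe] at hww
    funext t
    have := Fintype.linearIndependent_iff.mp c.linearIndependent (fun t => s t * w t - s t * w' t) (by
      simp only [sub_smul, Finset.sum_sub_distrib, hww, sub_self]) t
    rw [← mul_sub] at this
    exact sub_eq_zero.mp ((mul_eq_zero.mp this).resolve_left (hs t))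
  let PE := LinearEquiv.ofBijective P ⟨hPinj, LinearMap.injective_iff_surjective.mp hPinj⟩
  let N₀ : (Fin n → F) →ₗ[F] (Fin n → F) := PE.symm.toLinearMap ∘ₗ T ∘ₗ P
  have hN : ∀ u, e (N₀ u) = y (e u) := fun u => by
    apply e.symm.injective
    apply hPinj
    rw [e.symm_apply_apply, ← hTP, e.symm_apply_apply]
    exact PE.apply_symm_apply _
  refine ⟨LinearMap.toMatrix' N₀, ?_, fun u v => ?_⟩
  · rw [← LinearMap.toMatrix'_comp, ← LinearMap.toMatrix'_comp]
    congr 1
    exact LinearMap.ext fun u => (PE.apply_symm_apply (T (P u))).symm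
  · rw [LinearMap.toMatrix'_mulVec, LinearMap.toMatrix'_mulVec, he, he, hN, hN,
      CfsgLib.Linear.Symp.sympForm_eq_sum, CfsgLib.Linear.Symp.sympForm_eq_sum, Finset.mul_sum]
    refine Finset.sum_congr rfl fun i _ => ?_
    simp only [y, Sum.elim_inl, Sum.elim_inr]
    have h1 := hs (.inl i)
    have h2 := hs (.inr i)
    field_simp
    rw [← (hb (r.symm i)).2.2]
    ring

/-- Involutions of PSL_n(q) and the symplectic-type subgroups. Here `T = PSL_n(F)` for a field `F` with `q` elements, `n ≥ 4` even, `f` is a nondegenerate alternating form on `F^n`, and `H` is the subgroup of matrices of determinant 1 preserving `f` up to a scalar — a maximal subgroup of type Sp_n(q); Ω is the set of `T`-conjugates of `H` (cosets of `H`), so an element of `T` of prime order `r` (a matrix `x` of determinant 1 with `x^r` scalar, `x` not scalar) fixes a point of Ω when some conjugate of `x` by a matrix of determinant 1 preserves `f` up to a scalar. Suppose the index of `H` is even. Then every involution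 of `T` is conjugate in `T` into `H` if and only if `(q − 1)_2 ≤ (n)_2`. -/
theorem result {F : Type*} [Field F] [Fintype F] {p : ℕ} [Fact p.Prime] [CharP F p] {q : ℕ} (hq : Fintype.card F = q)
    (n : ℕ) (hn : 4 ≤ n) (he : Even n) (f : (Fin n → F) → (Fin n → F) → F) (hf : Cfsg.Geo.IsSymplecticForm f)
    (hΩ : 2 ∣ ((Cfsg.Geo.similarityGroup f).comap (Matrix.SpecialLinearGroup.toGL : Matrix.SpecialLinearGroup (Fin n) F →* GL (Fin n) F)).index) :
    (∀ x : Matrix.SpecialLinearGroup (Fin n) F,
      (∃ z : F, ((x ^ 2 : Matrix.SpecialLinearGroup (Fin n) F) : Matrix (Fin n) (Fin n) F) = z • (1 : Matrix (Fin n) (Fin n) F)) →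
      (∀ z : F, (x : Matrix (Fin n) (Fin n) F) ≠ z • (1 : Matrix (Fin n) (Fin n) F)) →
      ∃ P : Matrix.SpecialLinearGroup (Fin n) F, P⁻¹ * x * P ∈ ((Cfsg.Geo.similarityGroup f).comap (Matrix.SpecialLinearGroup.toGL : Matrix.SpecialLinearGroup (Fin n) F →* GL (Fin n) F))) ↔
    padicValNat 2 (q - 1) ≤ padicValNat 2 n := by
  classical
  subst hq
  let Bf := CfsgLib.ClassicalMax.bilinOf hf.bilinear
  have hnd : ∀ v, (∀ w, Bf v w = 0) → v = 0 := fun v h => by
    by_contra hv
    obtain ⟨-, w, hw⟩ := hf.nondegenerate v hv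
    exact hw (h w)
  obtain ⟨d, e, hfe⟩ := exists_sympEquiv Bf hf.alternating hnd
  have hn2 : n = 2 * d := by
    have h := LinearEquiv.finrank_eq e
    rw [finrank_fintype_fun_eq_card, finrank_fintype_fun_eq_card, Fintype.card_sum, Fintype.card_fin,
      Fintype.card_fin] at h
    omega
  haveI : Nonempty (Fin n) := ⟨⟨0, by omega⟩⟩
  constructor
  · intro hall
    by_contra hlt
    rw [not_le] at hlt
    have h2 : (2 : F) ≠ 0 := fun h => by
      have := NegRoot.padic_sub_one_of_char_two (F := F) h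
      omega
    obtain ⟨w, hw⟩ := (NegRoot.exists_pow_eq_neg_one_iff h2 (show n ≠ 0 by omega)).mpr hlt
    let i₀ : Fin n := ⟨0, by omega⟩
    let s : Fin n → F := fun i => if i = i₀ then -w else w
    have hdet : (Matrix.diagonal s).det = 1 := by
      rw [Matrix.det_diagonal, ← Finset.mul_prod_erase _ _ (Finset.mem_univ i₀),
        Finset.prod_congr rfl (g := fun _ => w) fun i hi => by simp [s, Finset.ne_of_mem_erase hi],
        Finset.prod_const, Finset.card_erase_of_mem (Finset.mem_univ _), Finset.card_univ,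
        Fintype.card_fin]
      simp only [s, if_true]
      rw [neg_mul, ← pow_succ', Nat.sub_add_cancel (by omega : 1 ≤ n), hw, neg_neg]
    have hw0 : w ≠ 0 := fun h => by
      rw [h, zero_pow (by omega)] at hw
      exact one_ne_zero (by linear_combination hw : (1 : F) = 0)
    let x : SpecialLinearGroup (Fin n) F := ⟨Matrix.diagonal s, hdet⟩
    obtain ⟨P, c, hc⟩ := hall x ⟨w * w, by
        rw [coe_sq,
          show (x : Matrix (Fin n) (Fin n) F) = Matrix.diagonal s from rfl]
        rw [Matrix.diagonal_mul_diagonal, smul_one_eq_diagonal]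
        congr 1
        funext i
        by_cases h : i = i₀ <;> simp [s, h]⟩
      fun z hz => by
        have e0 := congrFun (congrFun hz i₀) i₀
        have e1 := congrFun (congrFun hz ⟨1, by omega⟩) ⟨1, by omega⟩
        change Matrix.diagonal s _ _ = _ at e0 e1
        simp [s, i₀] at e0 e1
        exact mul_ne_zero h2 hw0 (by linear_combination e1 - e0)
    let B' : (Fin n → F) → (Fin n → F) → F :=
      fun a b => f (((P⁻¹ : SpecialLinearGroup (Fin n) F) : Matrix (Fin n) (Fin n) F) *ᵥ a) (((P⁻¹ : SpecialLinearGroup (Fin n) F) : Matrix (Fin n) (Fin n) F) *ᵥ b)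
    have hB' : ∀ a b, B' (Matrix.diagonal s *ᵥ a) (Matrix.diagonal s *ᵥ b) = (c : F) * B' a b := fun a b => by
      have h := hc (((P⁻¹ : SpecialLinearGroup (Fin n) F) : Matrix (Fin n) (Fin n) F) *ᵥ a) (((P⁻¹ : SpecialLinearGroup (Fin n) F) : Matrix (Fin n) (Fin n) F) *ᵥ b)
      have key : ∀ a, (((P⁻¹ * x * P : SpecialLinearGroup (Fin n) F) : Matrix (Fin n) (Fin n) F)) *ᵥ
          (((P⁻¹ : SpecialLinearGroup (Fin n) F) : Matrix (Fin n) (Fin n) F) *ᵥ a) =
          ((P⁻¹ : SpecialLinearGroup (Fin n) F) : Matrix (Fin n) (Fin n) F) *ᵥ (Matrix.diagonal s *ᵥ a) := fun a => by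
        rw [mulVec_mulVec, mulVec_mulVec]
        exact congrArg (fun g : SpecialLinearGroup (Fin n) F => (g : Matrix (Fin n) (Fin n) F) *ᵥ a)
          (show P⁻¹ * x * P * P⁻¹ = P⁻¹ * x by group)
      change f (((P⁻¹ * x * P : SpecialLinearGroup (Fin n) F) : Matrix (Fin n) (Fin n) F) *ᵥ _)
        (((P⁻¹ * x * P : SpecialLinearGroup (Fin n) F) : Matrix (Fin n) (Fin n) F) *ᵥ _) = _ at h
      rw [key, key] at h
      exact h
    let Bl : LinearMap.BilinForm F (Fin n → F) := Bf.compl₁₂
      (Matrix.toLin' ((P⁻¹ : SpecialLinearGroup (Fin n) F) : Matrix (Fin n) (Fin n) F)) (Matrix.toLin' ((P⁻¹ : SpecialLinearGroup (Fin n) F) : Matrix (Fin n) (Fin n) F))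
    have hBl : ∀ a b, Bl a b = B' a b := fun a b => by simp [Bl, Bf, B', Matrix.toLin'_apply]
    have hself : ∀ a, Bl a a = 0 := fun a => by rw [hBl]; exact hf.alternating _
    have hnd' : ∀ a, (∀ b, Bl a b = 0) → a = 0 := fun a h => by
      have h' : ((P⁻¹ : SpecialLinearGroup (Fin n) F) : Matrix (Fin n) (Fin n) F) *ᵥ a = 0 := hnd _ fun b => by
        have := h ((P : Matrix (Fin n) (Fin n) F) *ᵥ b)
        rw [hBl] at this
        simp only [B', mulVec_cancel'] at this
        exact this
      have h'' := congrArg ((P : Matrix (Fin n) (Fin n) F) *ᵥ ·) h'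
      simpa only [mulVec_cancel, mulVec_zero] using h''
    have hrel : ∀ i j : Fin n, s i * s j * Bl (Pi.single i 1) (Pi.single j 1) =
        c * Bl (Pi.single i 1) (Pi.single j 1) := fun i j => by
      have hd : ∀ i : Fin n, Matrix.diagonal s *ᵥ Pi.single i 1 = s i • Pi.single i 1 := fun i => by
        funext t; by_cases ht : t = i <;> simp [Matrix.mulVec_diagonal, ht]
      have h := hB' (Pi.single i 1) (Pi.single j 1)
      rw [← hBl, ← hBl, hd, hd] at h
      simp at h
      linear_combination h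
    by_cases hcw : (c : F) = w * w
    · -- the special vector is in the radical
      have hi : ∀ j, Bl (Pi.single i₀ 1) (Pi.single j 1) = 0 := fun j => by
        by_cases hj : j = i₀
        · subst hj; exact hself _
        · have h := hrel i₀ j
          simp only [s, if_true, hj, if_false, hcw] at h
          refine (mul_eq_zero.mp (?_ : (2 * (w * w)) * Bl (Pi.single i₀ 1) (Pi.single j 1) = 0)).resolve_left
            (mul_ne_zero h2 (mul_ne_zero hw0 hw0))
          linear_combination -h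
      have h0 := hnd' (Pi.single i₀ 1) fun b => by
        rw [pi_eq_sum_univ' b, map_sum]
        simp [hi]
      simp at h0
    · -- the hyperplane is totally isotropic
      have hij : ∀ i j, i ≠ i₀ → j ≠ i₀ → Bl (Pi.single i 1) (Pi.single j 1) = 0 := fun i j hi hj => by
        have h := hrel i j
        simp only [s, hi, hj, if_false] at h
        exact (mul_eq_zero.mp (show ((c : F) - w * w) * Bl (Pi.single i 1) (Pi.single j 1) = 0 by
          linear_combination -h)).resolve_left (sub_ne_zero.mpr hcw)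
      let i₁ : Fin n := ⟨1, by omega⟩
      let i₂ : Fin n := ⟨2, by omega⟩
      have h10 : i₁ ≠ i₀ := by simp [i₁, i₀]
      have h20 : i₂ ≠ i₀ := by simp [i₂, i₀]
      set β := fun i : Fin n => Bl (Pi.single i 1) (Pi.single i₀ 1) with hβ
      let v : Fin n → F := β i₂ • Pi.single i₁ 1 - β i₁ • Pi.single i₂ 1
      have hv : v = 0 := hnd' v fun b => by
        rw [pi_eq_sum_univ' b, map_sum]
        refine Finset.sum_eq_zero fun j _ => ?_
        rw [map_smul]
        by_cases hj : j = i₀
        · subst hj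
          simp only [v, map_sub, map_smul, LinearMap.sub_apply, LinearMap.smul_apply, β, smul_eq_mul]
          ring
        · simp [v, hij _ _ h10 hj, hij _ _ h20 hj]
      have hβ2 : β i₂ = 0 := by
        have := congrFun hv i₁
        simpa [v, show i₁ ≠ i₂ by simp [i₁, i₂]] using this
      have h0 := hnd' (Pi.single i₂ 1) fun b => by
        rw [pi_eq_sum_univ' b, map_sum]
        refine Finset.sum_eq_zero fun j _ => ?_
        rw [map_smul]
        by_cases hj : j = i₀
        · subst hj; rw [show Bl (Pi.single i₂ 1) (Pi.single i₀ 1) = β i₂ from rfl, hβ2, smul_zero]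
        · simp [hij _ _ h20 hj]
      simp at h0
  · intro hle x hx1 _
    obtain ⟨z, hz⟩ := hx1
    set T := Matrix.toLin' (x : Matrix (Fin n) (Fin n) F)
    rw [coe_sq] at hz
    have hT : ∀ v, T (T v) = z • v := fun v => by
      show Matrix.toLin' _ (Matrix.toLin' _ v) = _
      rw [Matrix.toLin'_apply, Matrix.toLin'_apply, mulVec_mulVec, hz, smul_mulVec, one_mulVec]
    have hz0 : z ≠ 0 := fun h => by
      have h' := congrArg Matrix.det hz
      rw [Matrix.det_mul, x.2, one_mul, h, zero_smul, Matrix.det_zero] at h'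
      exact one_ne_zero h'

    have hdet : LinearMap.det T = 1 := by rw [LinearMap.det_toLin', x.2]
    have hcrit : (2 : F) = 0 ∨ ∀ w : F, w ^ (2 * d) ≠ -1 := by
      by_cases h2 : (2 : F) = 0
      · exact Or.inl h2
      · refine Or.inr fun w hw => ?_
        rw [← hn2] at hw
        exact absurd ((NegRoot.exists_pow_eq_neg_one_iff h2 (show n ≠ 0 by omega)).mp ⟨w, hw⟩) (by omega)
    obtain ⟨δ, hδ⟩ := InvolPlanes.hasPlanes_of_sq T hz0 hT hdet
      (by rw [finrank_fintype_fun_eq_card, Fintype.card_fin, hn2]) hcrit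
    obtain ⟨M, hM, N, hMN, hN⟩ := exists_conj (show 0 < d by omega) e (fun a b => hfe a b) T hδ
    rw [LinearMap.toMatrix'_toLin'] at hMN
    refine ⟨⟨M, hM⟩, ?_⟩
    have hδ0 : δ ≠ 0 := fun h0 => by
      have hN0 : N.det ≠ 0 := fun h => by
        have := congrArg Matrix.det hMN
        rw [Matrix.det_mul, Matrix.det_mul, x.2, hM, h] at this
        simp at this
      obtain ⟨a, ha⟩ := exists_ne (0 : Fin n → F)
      refine ha (Matrix.eq_zero_of_mulVec_eq_zero hN0 (hnd _ fun b => ?_))
      obtain ⟨b, rfl⟩ : ∃ b', N *ᵥ b' = b :=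
        (Matrix.mulVec_surjective_iff_isUnit.mpr ((Matrix.isUnit_iff_isUnit_det N).mpr (Ne.isUnit hN0))) b
      have := hN a b
      rw [h0, zero_mul] at this
      exact this
    refine ⟨Units.mk0 δ hδ0, fun u v => ?_⟩
    let Ms : SpecialLinearGroup (Fin n) F := ⟨M, hM⟩
    show f (((Ms⁻¹ * x * Ms : SpecialLinearGroup (Fin n) F) : Matrix (Fin n) (Fin n) F) *ᵥ u)
      (((Ms⁻¹ * x * Ms : SpecialLinearGroup (Fin n) F) : Matrix (Fin n) (Fin n) F) *ᵥ v) = _
    have hN' : ((Ms⁻¹ * x * Ms : SpecialLinearGroup (Fin n) F) : Matrix (Fin n) (Fin n) F) = N := by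
      show ((Ms⁻¹ : SpecialLinearGroup (Fin n) F) : Matrix (Fin n) (Fin n) F) * (x : Matrix (Fin n) (Fin n) F) * M = N
      rw [Matrix.mul_assoc, hMN, ← Matrix.mul_assoc]
      have h1 : ((Ms⁻¹ : SpecialLinearGroup (Fin n) F) : Matrix (Fin n) (Fin n) F) * M = 1 :=
        congrArg (fun g : SpecialLinearGroup (Fin n) F => (g : Matrix (Fin n) (Fin n) F)) (inv_mul_cancel Ms)
      rw [h1, Matrix.one_mul]
    rw [hN']
    exact hN u v

end Cfsg.Agent.S5967
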