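import Cfsg.Statements.S5968
import Cfsg.Agent.Lib.LinFix.SympIndex
import Cfsg.Agent.Lib.LinFix.Elements
import Cfsg.Agent.Lib.LinFix.Jordan
-- import your own Cfsg.Agent.* helpers here

set_option autoImplicit false
open scoped MatrixGroups
open Cfsg

namespace Cfsg.Agent.S5968

open CfsgLib.LinFix CfsgLib.ClassicalMax Cfsg.Geo

section

variable {F V : Type*} [Field F] [AddCommGroup V] [Module F V]

/-- The bilinear forms `B` with `B (T u) (T v) = μ B u v`, alternating and non-degenerate. -/
structure Similitude (T : Module.End F V) (B : V →ₗ[F] V →ₗ[F] F) (μ : F) : Prop where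
  alt : ∀ v, B v v = 0
  nondeg : ∀ v, (∀ w, B v w = 0) → v = 0
  sim : ∀ u v, B (T u) (T v) = μ * B u v

variable {T : Module.End F V} {B : V →ₗ[F] V →ₗ[F] F} {μ : F}

theorem Similitude.skew (h : Similitude T B μ) (a b : V) : B a b = - B b a := by
  have h' := h.alt (a + b)
  simp only [map_add, LinearMap.add_apply, h.alt, zero_add, add_zero] at h'
  exact eq_neg_of_add_eq_zero_right h'

theorem Similitude.pow (h : Similitude T B μ) (k : ℕ) :
    ∀ u v, B ((T ^ k) u) ((T ^ k) v) = μ ^ k * B u v := by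
  induction k with
  | zero => simp
  | succ k ih =>
    intro u v
    rw [pow_succ', Module.End.mul_apply, Module.End.mul_apply, h.sim, ih, pow_succ', mul_assoc]

theorem Similitude.pow_eq_one (h : Similitude T B μ) [Nontrivial V] {r : ℕ} (hT : T ^ r = 1) :
    μ ^ r = 1 := by
  obtain ⟨v, hv⟩ := exists_ne (0 : V)
  obtain ⟨w, hw⟩ : ∃ w, B v w ≠ 0 := by
    by_contra hc
    push Not at hc
    exact hv (h.nondeg v hc)
  have h' := h.pow r v w
  rw [hT, Module.End.one_apply, Module.End.one_apply] at h'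
  exact (mul_eq_right₀ hw).1 h'.symm

/-- A unipotent isometry `1 + N` with `N ^ 3 = 0` has no rank one `N ^ 2`. -/
theorem no_rank_one (h : Similitude T B 1) (h2 : (2 : F) ≠ 0) (h3 : (T - 1) ^ 3 = 0) {w : V}
    (hw : w ≠ 0) (hr : LinearMap.range ((T - 1) ^ 2) = F ∙ w) : False := by
  set N := T - 1 with hN
  have hrel : ∀ u v, B (N u) v + B u (N v) + B (N u) (N v) = 0 := fun u v => by
    have h' := h.sim u v
    rw [one_mul, show T = 1 + N from (add_sub_cancel _ _).symm] at h'
    simp only [LinearMap.add_apply, Module.End.one_apply, map_add] at h'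
    linear_combination h'
  have hN3 : ∀ u, N (N (N u)) = 0 := fun u => by
    have := LinearMap.congr_fun h3 u
    rwa [pow_succ, pow_two, Module.End.mul_apply, Module.End.mul_apply] at this
  have hz1 : ∀ u v, B (N (N u)) (N v) = 0 := fun u v => by
    simpa [hN3] using hrel (N (N u)) v
  have hsym : ∀ u, B (N (N u)) u = 0 := fun u => by
    have e1 := hrel (N u) u
    have e2 := hrel u (N u)
    have e3 := hz1 u u
    have e4 : B (N u) (N (N u)) = 0 := by rw [h.skew, hz1, neg_zero]
    have e5 := h.skew u (N (N u))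
    have : B (N (N u)) u * 2 = 0 := by linear_combination e1 - e2 - e3 + e4 + e5
    exact (mul_eq_zero.1 this).resolve_right h2
  have hmem : ∀ u, ∃ a : F, a • w = N (N u) := fun u =>
    Submodule.mem_span_singleton.1 (hr ▸ ⟨u, by rw [pow_two]; rfl⟩)
  obtain ⟨u₂, hu₂⟩ : ∃ v, B w v ≠ 0 := by
    by_contra hc
    push Not at hc
    exact hw (h.nondeg w hc)
  obtain ⟨u₁, hu₁⟩ : ∃ u, (N ^ 2) u = w := LinearMap.mem_range.1 (hr.symm ▸ Submodule.mem_span_singleton_self w)
  rw [pow_two, Module.End.mul_apply] at hu₁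
  have hu₁w : B w u₁ = 0 := by simpa [hu₁] using hsym u₁
  obtain ⟨a, ha⟩ := hmem u₂
  have ha0 : a * B w u₂ = 0 := by simpa [← ha] using hsym u₂
  rw [(mul_eq_zero.1 ha0).resolve_right hu₂, zero_smul] at ha
  have h12 := hsym (u₁ + u₂)
  simp only [map_add, hu₁, ← ha, add_zero, hu₁w, zero_add] at h12
  exact hu₂ h12

theorem no_similitude_unipotent {r : ℕ} [Fact r.Prime] [CharP F r] (hr2 : r ≠ 2)
    [FiniteDimensional F V] [Nontrivial V] (hT : T ^ r = 1)
    (h2 : Module.finrank F (LinearMap.range ((T - 1) ^ 2)) = 1)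
    (h3 : Module.finrank F (LinearMap.range ((T - 1) ^ 3)) = 0) : ¬ Similitude T B μ := fun h => by
  have hμ : μ = 1 := by
    apply frobenius_inj F r
    rw [frobenius_def, frobenius_def, one_pow, h.pow_eq_one hT]
  subst hμ
  have htwo : (2 : F) ≠ 0 := fun h0 => hr2 ((Nat.prime_dvd_prime_iff_eq Fact.out Nat.prime_two).1
    ((CharP.cast_eq_zero_iff F r 2).1 (by exact_mod_cast h0)))
  obtain ⟨w, hw, hspan⟩ : ∃ w ≠ 0, LinearMap.range ((T - 1) ^ 2) = F ∙ w := by
    obtain ⟨w, hw, hw0⟩ := Submodule.exists_mem_ne_zero_of_ne_bot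
      (p := LinearMap.range ((T - 1) ^ 2)) (fun h0 => by rw [h0, finrank_bot] at h2; omega)
    refine ⟨w, hw0, (Submodule.eq_of_le_of_finrank_eq ((Submodule.span_singleton_le_iff_mem _ _).2 hw) ?_).symm⟩
    rw [finrank_span_singleton hw0, h2]
  refine no_rank_one h htwo ?_ hw hspan
  rwa [Submodule.finrank_eq_zero, LinearMap.range_eq_bot] at h3

/-- An element with one block of odd degree `i` is no similitude. -/
theorem no_similitude_block [Fintype F] {r : ℕ} [Fact r.Prime] (hr2 : r ≠ 2) (hrF : (r : F) ≠ 0)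
    (hodd : Odd (orderOf (Fintype.card F : ZMod r))) (hi1 : 1 < orderOf (Fintype.card F : ZMod r))
    [FiniteDimensional F V] [Nontrivial V] (hT : T ^ r = 1)
    (hC : Module.finrank F (LinearMap.ker (T - 1)) + orderOf (Fintype.card F : ZMod r) =
      Module.finrank F V) : ¬ Similitude T B μ := fun h => by
  set i := orderOf (Fintype.card F : ZMod r) with hidef
  have hrp := (Fact.out : r.Prime)
  have hμr := h.pow_eq_one hT
  have hμ : μ = 1 := by
    by_contra hne
    have hord : orderOf μ = r := orderOf_eq_prime hμr hne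
    have hμ0 : μ ≠ 0 := fun h0 => by rw [h0, zero_pow hrp.ne_zero] at hμr; exact zero_ne_one hμr
    have h1 : r ∣ Fintype.card F ^ 1 - 1 := by
      rw [pow_one, ← hord]
      exact orderOf_dvd_of_pow_eq_one (FiniteField.pow_card_sub_one_eq_one μ hμ0)
    have := Nat.le_of_dvd one_pos ((dvd_pow_sub_one_iff Fintype.card_pos _).1 h1)
    omega
  subst hμ
  have hhom := homog_order (r := r) (by omega) hrF hT
  -- the complement of the fixed space
  obtain ⟨D, -, hD, hdis, hsup⟩ := exists_inv_compl hhom.semisimple (hhom.inv_le le_rfl)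
    (inv_top T) le_top
  have hDdim : Module.finrank F D = i := by
    have h' := finrank_sup_of_disjoint hdis
    rw [hsup, finrank_top] at h'
    omega
  have hD0 : D ≠ ⊥ := fun h0 => by rw [h0, finrank_bot] at hDdim; omega
  obtain ⟨U, hUD, -, hU0, g, hg, hUg, hgdvd, hann⟩ := exists_irreducible_sub T hD hD0
  have hg1 : ¬ g ∣ Polynomial.X - 1 := fun hd => by
    obtain ⟨v, hv, hv0⟩ := Submodule.exists_mem_ne_zero_of_ne_bot hU0
    obtain ⟨c, hc⟩ := hd
    refine hv0 (Submodule.disjoint_def.1 hdis v ?_ (hUD hv))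
    rw [LinearMap.mem_ker, show T - 1 = Polynomial.aeval T (Polynomial.X - 1 : Polynomial F) by simp,
      hc, mul_comm, map_mul, Module.End.mul_apply, hann v hv, map_zero]
  have hdeg : g.natDegree = i :=
    natDegree_eq_order (by omega) hg (hgdvd _ (by simp [hT])) hg1
  have hUD' : U = D := Submodule.eq_of_le_of_finrank_eq hUD (by omega)
  -- `(X - 1) g` annihilates `T`
  set P : Polynomial F := (Polynomial.X - 1) * g with hP
  have hPT : Polynomial.aeval T P = 0 := by
    refine LinearMap.ext fun v => ?_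
    obtain ⟨a, ha, b, hb, rfl⟩ := Submodule.mem_sup.1 (hsup.symm ▸ Submodule.mem_top : v ∈ LinearMap.ker (T - 1) ⊔ D)
    rw [map_add, LinearMap.zero_apply]
    have ha' : Polynomial.aeval T P a = 0 := by
      rw [hP, mul_comm, map_mul, Module.End.mul_apply,
        show Polynomial.aeval T (Polynomial.X - 1 : Polynomial F) = T - 1 by simp,
        LinearMap.mem_ker.1 ha, map_zero]
    have hb' : Polynomial.aeval T P b = 0 := by
      rw [hP, map_mul, Module.End.mul_apply, hann b (hUD'.symm ▸ hb), map_zero]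
    rw [ha', hb', add_zero]
  -- hence also the inverse of `T`
  have hadj : ∀ u v, B (T u) v = B u ((T ^ (r - 1)) v) := fun u v => by
    have h' := h.sim u ((T ^ (r - 1)) v)
    rw [one_mul, ← Module.End.mul_apply, ← pow_succ', Nat.sub_add_cancel hrp.one_le, hT,
      Module.End.one_apply] at h'
    exact h'
  have hadjP : ∀ (Q : Polynomial F) u v, B (Polynomial.aeval T Q u) v =
      B u (Polynomial.aeval (T ^ (r - 1)) Q v) := by
    intro Q
    induction Q using Polynomial.induction_on with
    | C a => intro u v; simp [Module.algebraMap_end_apply]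
    | add Q R hQ hR => intro u v; simp [hQ, hR]
    | monomial k a ih =>
      intro u v
      rw [pow_succ, ← mul_assoc, map_mul (Polynomial.aeval T), Polynomial.aeval_X,
        Module.End.mul_apply, ih, hadj, mul_comm (Polynomial.C a * Polynomial.X ^ k) Polynomial.X,
        map_mul (Polynomial.aeval (T ^ (r - 1))) Polynomial.X, Polynomial.aeval_X, Module.End.mul_apply]
  have hPT' : Polynomial.aeval T (P.comp (Polynomial.X ^ (r - 1))) = 0 := by
    rw [Polynomial.aeval_comp, map_pow, Polynomial.aeval_X]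
    refine LinearMap.ext fun v => h.nondeg _ fun u => ?_
    rw [h.skew, ← hadjP, hPT, LinearMap.zero_apply, map_zero, LinearMap.zero_apply, neg_zero]
  -- the field defined by `g` gets an automorphism of order two
  haveI : Fact (Irreducible g) := ⟨hg⟩
  set E := AdjoinRoot g
  haveI : Module.Finite F E := (AdjoinRoot.powerBasis hg.ne_zero).finite
  haveI : Finite E := Module.finite_of_finite F
  have hE : Module.finrank F E = i := hdeg ▸ finrank_quotient_span_eq_natDegree (f := g)
  set α := AdjoinRoot.root g with hα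
  have hroot : ∀ Q : Polynomial F, Polynomial.aeval α Q = 0 ↔ g ∣ Q := fun Q => by
    rw [AdjoinRoot.aeval_eq, AdjoinRoot.mk_eq_zero]
  have hαr : α ^ r = 1 := by
    have := (hroot _).2 (hgdvd (Polynomial.X ^ r - 1) (by simp [hT]))
    simpa [sub_eq_zero] using this
  have hα1 : α ≠ 1 := fun h0 => hg1 ((hroot _).1 (by simp [h0]))
  have hord : orderOf α = r := orderOf_eq_prime hαr hα1
  have hβ1 : α ^ (r - 1) ≠ 1 := fun h0 => by
    have := Nat.le_of_dvd (by have := hrp.two_le; omega) (hord ▸ orderOf_dvd_of_pow_eq_one h0)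
    have := hrp.one_le
    omega
  have hβ : Polynomial.aeval (α ^ (r - 1)) g = 0 := by
    have h' := (hroot _).2 (hgdvd _ hPT')
    rw [Polynomial.aeval_comp, hP, map_mul, map_pow, Polynomial.aeval_X, mul_eq_zero] at h'
    exact h'.resolve_left (by simpa [sub_eq_zero] using hβ1)
  set σ : E →ₐ[F] E := AdjoinRoot.liftAlgHom g (Algebra.ofId F E) (α ^ (r - 1)) hβ with hσ
  have hσα : σ α = α ^ (r - 1) := AdjoinRoot.liftAlgHom_root _ _ _ _
  set τ : E ≃ₐ[F] E := AlgEquiv.ofBijective σ (Finite.injective_iff_bijective.1 σ.toRingHom.injective) with hτ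
  have hσσ : τ * τ = 1 := by
    refine AlgEquiv.coe_algHom_injective (AdjoinRoot.algHom_ext ?_)
    change σ (σ α) = α
    rw [hσα, map_pow, hσα, ← pow_mul]
    obtain ⟨k, hk⟩ : ∃ k, r = k + 2 := ⟨r - 2, by have := hrp.two_le; omega⟩
    rw [show (r - 1) * (r - 1) = 1 + r * k by
        subst hk; simp only [Nat.add_one_sub_one]; ring, pow_add, pow_mul, hαr, one_pow, mul_one, pow_one]
  have hτ1 : τ ≠ 1 := fun h0 => by
    have h' : σ α = α := by
      change τ α = α
      rw [h0]; rfl
    rw [hσα] at h'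
    have h'' : α ^ 2 = 1 := by
      rw [pow_two]; nth_rewrite 1 [← h']
      rw [← pow_succ, Nat.sub_add_cancel hrp.one_le, hαr]
    exact hr2 ((Nat.prime_dvd_prime_iff_eq hrp Nat.prime_two).1 (hord ▸ orderOf_dvd_of_pow_eq_one h''))
  have hcard : Nat.card (E ≃ₐ[F] E) = i := by rw [IsGalois.card_aut_eq_finrank, hE]
  have h2 : orderOf τ = 2 := orderOf_eq_prime (by rw [pow_two, hσσ]) hτ1
  have := orderOf_dvd_natCard τ
  rw [h2, hcard] at this
  exact (Nat.not_even_iff_odd.2 hodd) (even_iff_two_dvd.2 this)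

/-- Counting eigenvalues of a diagonal similitude. -/
theorem card_eigen_le {n : ℕ} {B : (Fin n → F) →ₗ[F] (Fin n → F) →ₗ[F] F} [DecidableEq F]
    {a : Fin n → F} (h : Similitude (Matrix.toLin' (Matrix.diagonal a)) B μ) {c : F} (hc : c ≠ 0) :
    (Finset.univ.filter fun j => a j = c).card ≤ (Finset.univ.filter fun k => a k = μ / c).card := by
  classical
  set S := Finset.univ.filter fun j => a j = c
  set R := Finset.univ.filter fun k => a k = μ / c
  have hzero : ∀ j ∈ S, ∀ k, k ∉ R → B (Pi.single j 1) (Pi.single k 1) = 0 := by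
    intro j hj k hk
    have h' := h.sim (Pi.single j 1) (Pi.single k 1)
    have he : ∀ l : Fin n, Matrix.toLin' (Matrix.diagonal a) (Pi.single l (1 : F)) = a l • Pi.single l 1 :=
      fun l => by
        ext l'
        rw [Matrix.toLin'_apply, Matrix.mulVec_diagonal]
        by_cases hl : l' = l
        · subst hl; simp
        · simp [hl]
    rw [he, he, map_smul, map_smul, LinearMap.smul_apply, smul_eq_mul, smul_eq_mul,
      (Finset.mem_filter.1 hj).2] at h'
    have hne : c * a k ≠ μ := fun e => hk (Finset.mem_filter.2 ⟨Finset.mem_univ _,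
      by rw [eq_div_iff hc, mul_comm]; exact e⟩)
    have h'' : (c * a k - μ) * B (Pi.single j 1) (Pi.single k 1) = 0 := by linear_combination h'
    exact (mul_eq_zero.1 h'').resolve_left (sub_ne_zero.2 hne)
  let L : (S → F) →ₗ[F] (R → F) := LinearMap.pi fun k =>
    (LinearMap.applyₗ (Pi.single (k : Fin n) 1)).comp (B.comp
      (Fintype.linearCombination F fun j : S => Pi.single (j : Fin n) (1 : F)))
  have hL : Function.Injective L := by
    rw [injective_iff_map_eq_zero]
    intro x hx
    set v : Fin n → F := Fintype.linearCombination F (fun j : S => Pi.single (j : Fin n) (1 : F)) x with hv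
    have hv0 : v = 0 := h.nondeg v fun y => by
      rw [← (Pi.basisFun F (Fin n)).sum_repr y, map_sum]
      refine Finset.sum_eq_zero fun k _ => ?_
      rw [map_smul, Pi.basisFun_apply]
      by_cases hk : k ∈ R
      · have h' : B v (Pi.single k 1) = 0 := congrFun hx ⟨k, hk⟩
        rw [h', smul_zero]
      · rw [hv, Fintype.linearCombination_apply, map_sum, LinearMap.sum_apply,
          Finset.sum_eq_zero (fun j _ => by rw [map_smul, LinearMap.smul_apply, hzero j j.2 k hk, smul_zero]),
          smul_zero]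
    funext j
    have h' := congrFun hv0 j
    rw [hv, Fintype.linearCombination_apply, Finset.sum_apply] at h'
    simpa [Pi.single_apply] using h'
  have := LinearMap.finrank_le_finrank_of_injective hL
  simpa using this

/-- The diagonal element is no similitude. -/
theorem no_similitude_diag {n r : ℕ} [hr : Fact r.Prime] {B : (Fin n → F) →ₗ[F] (Fin n → F) →ₗ[F] F}
    (hn : 4 ≤ n) (he : Even n) (hr2 : r ≠ 2) (hgap : ¬ (n = 6 ∧ r = 3)) {w : F} (hw : w ^ r = 1)
    (hw1 : w ≠ 1) : ¬ Similitude (Matrix.toLin' (Matrix.diagonal fun j : Fin n =>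
      if (j : ℕ) < 2 then w else if (j : ℕ) = 2 then (w ^ 2)⁻¹ else 1)) B μ := fun h => by
  classical
  have hord : orderOf w = r := orderOf_eq_prime hw hw1
  have hw0 : w ≠ 0 := fun h0 => by rw [h0, zero_pow hr.out.ne_zero] at hw; exact zero_ne_one hw
  have hnd : ∀ k, ¬ r ∣ k → w ^ k ≠ 1 := fun k hk e => hk (hord ▸ orderOf_dvd_of_pow_eq_one e)
  have hne2 : w ^ 2 ≠ 1 := hnd 2 fun h2 => hr2 ((Nat.prime_dvd_prime_iff_eq hr.out Nat.prime_two).1 h2)
  set a : Fin n → F := fun j => if (j : ℕ) < 2 then w else if (j : ℕ) = 2 then (w ^ 2)⁻¹ else 1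
  set S : F → Finset (Fin n) := fun c => Finset.univ.filter fun j => a j = c
  have hle : ∀ c, c ≠ 0 → (S c).card ≤ (S (μ / c)).card := fun c hc => card_eigen_le h hc
  have hμ0 : μ ≠ 0 := by
    intro h0
    have h' := hle w hw0
    rw [h0, zero_div] at h'
    have h1 : (S w).Nonempty := ⟨⟨0, by omega⟩, by simp [S, a]⟩
    have h2 : S (0 : F) = ∅ := Finset.filter_eq_empty_iff.2 fun j _ => by
      simp only [a]; split_ifs <;> simp [hw0]
    rw [h2, Finset.card_empty] at h'
    have := h1.card_pos
    omega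
  have heq : ∀ c, c ≠ 0 → (S c).card = (S (μ / c)).card := fun c hc => by
    refine le_antisymm (hle c hc) ?_
    have h' := hle (μ / c) (div_ne_zero hμ0 hc)
    rwa [div_div_cancel₀ hμ0] at h'
  have hmem : ∀ c, (S c).Nonempty → c = w ∨ c = (w ^ 2)⁻¹ ∨ c = 1 := by
    rintro c ⟨j, hj⟩
    have h' := (Finset.mem_filter.1 hj).2
    simp only [a] at h'
    split_ifs at h' <;> simp [← h']
  have hpos : ∀ c, c ≠ 0 → (S c).card ≠ 0 → μ / c = w ∨ μ / c = (w ^ 2)⁻¹ ∨ μ / c = 1 :=
    fun c hc h0 => hmem _ (Finset.card_ne_zero.1 (heq c hc ▸ h0))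
  by_cases hr3 : r = 3
  · subst hr3
    have hinv : (w ^ 2)⁻¹ = w := inv_eq_of_mul_eq_one_right (by rw [← pow_succ, hw])
    have hS : ∀ j : Fin n, a j = if (j : ℕ) < 3 then w else 1 := fun j => by
      simp only [a, hinv]; split_ifs <;> first | rfl | omega
    have hcw : (S w).card = 3 := by
      have : S w = Finset.Iio ⟨3, by omega⟩ := Finset.ext fun j => by
        simp only [S, Finset.mem_filter, Finset.mem_univ, true_and, Finset.mem_Iio, hS, Fin.lt_def]
        split_ifs with h' <;> simp [h', Ne.symm hw1]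
      rw [this, Fin.card_Iio]
    have hc1 : (S 1).card = n - 3 := by
      have : S 1 = Finset.Ici ⟨3, by omega⟩ := Finset.ext fun j => by
        simp only [S, Finset.mem_filter, Finset.mem_univ, true_and, Finset.mem_Ici, hS, Fin.le_def]
        split_ifs with h' <;> simp [hw1] <;> omega
      rw [this, Fin.card_Ici]
    obtain ⟨k, hk⟩ := he
    have hμ : μ = w * w := by
      rcases hpos w hw0 (by omega) with e | e | e
      · exact (div_eq_iff hw0).1 e
      · rw [hinv] at e; exact (div_eq_iff hw0).1 e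
      · exfalso
        have h' := heq w hw0
        rw [e, hcw, hc1] at h'
        exact hgap ⟨by omega, rfl⟩
    rcases hpos 1 one_ne_zero (by omega) with e | e | e <;> rw [div_one, hμ] at e
    · exact hw1 (mul_right_cancel₀ hw0 (e.trans (one_mul w).symm))
    · rw [hinv] at e
      exact hw1 (mul_right_cancel₀ hw0 (e.trans (one_mul w).symm))
    · exact hne2 (by rw [pow_two, e])
  · have h3 : ¬ r ∣ 3 := fun h' => hr3 ((Nat.prime_dvd_prime_iff_eq hr.out Nat.prime_three).1 h')
    have hne3 : w ^ 3 ≠ 1 := hnd 3 h3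
    have hne6 : w ^ 6 ≠ 1 := hnd 6 fun h' => by
      rcases hr.out.dvd_mul.1 (show r ∣ 2 * 3 from h') with h'' | h''
      exacts [hr2 ((Nat.prime_dvd_prime_iff_eq hr.out Nat.prime_two).1 h''), h3 h'']
    have hi1 : (w ^ 2)⁻¹ ≠ 1 := inv_ne_one.2 hne2
    have hiw : (w ^ 2)⁻¹ ≠ w := fun e => hne3 (by
      rw [pow_succ]
      nth_rewrite 2 [← e]
      rw [mul_inv_cancel₀ (pow_ne_zero 2 hw0)])
    have hcw : (S w).card = 2 := by
      have : S w = Finset.Iio ⟨2, by omega⟩ := Finset.ext fun j => by
        simp only [S, a, Finset.mem_filter, Finset.mem_univ, true_and, Finset.mem_Iio, Fin.lt_def]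
        split_ifs <;> simp [*, Ne.symm hw1]
      rw [this, Fin.card_Iio]
    have hci : (S (w ^ 2)⁻¹).card = 1 := by
      rw [Finset.card_eq_one]
      refine ⟨⟨2, by omega⟩, Finset.ext fun j => ?_⟩
      simp only [S, a, Finset.mem_filter, Finset.mem_univ, true_and, Finset.mem_singleton, Fin.ext_iff]
      split_ifs <;> simp [*, Ne.symm hiw, Ne.symm hi1] <;> omega
    have hc1 : (S 1).card = n - 3 := by
      have : S 1 = Finset.Ici ⟨3, by omega⟩ := Finset.ext fun j => by
        simp only [S, a, Finset.mem_filter, Finset.mem_univ, true_and, Finset.mem_Ici, Fin.le_def]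
        split_ifs with h' h'' <;> simp [hw1, hi1, pow_ne_zero] <;> omega
      rw [this, Fin.card_Ici]
    obtain ⟨k, hk⟩ := he
    have hμ : μ = w * w := by
      rcases hpos w hw0 (by omega) with e | e | e
      · exact (div_eq_iff hw0).1 e
      · have h' := heq w hw0
        rw [e, hcw, hci] at h'
        omega
      · have h' := heq w hw0
        rw [e, hcw, hc1] at h'
        omega
    have h4 : μ / (w ^ 2)⁻¹ = w ^ 4 := by rw [hμ, div_inv_eq_mul]; ring
    rcases hpos (w ^ 2)⁻¹ (inv_ne_zero (pow_ne_zero 2 hw0)) (by omega) with e | e | e <;> rw [h4] at e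
    · exact hne3 (mul_right_cancel₀ hw0 ((pow_succ w 3).symm.trans (e.trans (one_mul w).symm)))
    · refine hne6 ?_
      rw [show 6 = 4 + 2 from rfl, pow_add, e, inv_mul_cancel₀ (pow_ne_zero 2 hw0)]
    · exact hnd 4 (fun h' => hr2 ((Nat.prime_dvd_prime_iff_eq hr.out Nat.prime_two).1
        (hr.out.dvd_of_dvd_pow (show r ∣ 2 ^ 2 from h')))) e

end

/-- Derangements of odd prime order of PSL_n(q) on the cosets of a symplectic-type subgroup. Here `T = PSL_n(F)` for a field `F` with `q` elements, `n ≥ 4` even, `f` is a nondegenerate alternating form on `F^n`, and `H` is the subgroup of matrices of determinant 1 preserving `f` up to a scalar — a maximal subgroup of type Sp_n(q); Ω is the set of `T`-conjugates of `H` (cosets of `H`), so an element of `T` of prime order `r` (a matrix `x` of determinant 1 with `x^r` scalar, `x` not scalar) fixes a point of Ω when some conjugate of `x` by a matrix of determinant 1 preserves `f` up to a scalar. For every odd prime `r` dividing the index of `H`, with `(n,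 r) ≠ (6, 3)`, there is an element of `T` of order `r` with no conjugate in `H`. (For `n = 6`, `r = 3` this can fail: when `(q − 1)_3 = 3` every element of order 3 is conjugate into `H`.) -/
theorem result {F : Type*} [Field F] [Fintype F] {p : ℕ} [Fact p.Prime] [CharP F p] {q : ℕ} (hq : Fintype.card F = q)
    (n : ℕ) (hn : 4 ≤ n) (he : Even n) (f : (Fin n → F) → (Fin n → F) → F) (hf : Cfsg.Geo.IsSymplecticForm f)
    (r : ℕ) [Fact r.Prime] (hr2 : r ≠ 2) (hgap : ¬ (n = 6 ∧ r = 3)) (hΩ : r ∣ ((Cfsg.Geo.similarityGroup f).comap (Matrix.SpecialLinearGroup.toGL : Matrix.SpecialLinearGroup (Fin n) F →* GL (Fin n) F)).index) :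
    ∃ x : Matrix.SpecialLinearGroup (Fin n) F,
      (∃ z : F, ((x ^ r : Matrix.SpecialLinearGroup (Fin n) F) : Matrix (Fin n) (Fin n) F) = z • (1 : Matrix (Fin n) (Fin n) F)) ∧
      (∀ z : F, (x : Matrix (Fin n) (Fin n) F) ≠ z • (1 : Matrix (Fin n) (Fin n) F)) ∧
      ∀ P : Matrix.SpecialLinearGroup (Fin n) F, P⁻¹ * x * P ∉ ((Cfsg.Geo.similarityGroup f).comap (Matrix.SpecialLinearGroup.toGL : Matrix.SpecialLinearGroup (Fin n) F →* GL (Fin n) F)) :=
  by
  classical
  have hlen : Module.finrank F (Fin n → F) = n := Module.finrank_fin_fun F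
  haveI : Nontrivial (Fin n → F) := Module.nontrivial_of_finrank_pos (R := F) (by omega)
  have hr := (Fact.out : r.Prime)
  suffices H : ∃ x : Matrix.SpecialLinearGroup (Fin n) F,
      Matrix.toLin' (x : Matrix (Fin n) (Fin n) F) ^ r = 1 ∧
      (∀ z : F, (x : Matrix (Fin n) (Fin n) F) ≠ z • 1) ∧
      ∀ (B : (Fin n → F) →ₗ[F] (Fin n → F) →ₗ[F] F) (μ : F),
        ¬ Similitude (Matrix.toLin' (x : Matrix (Fin n) (Fin n) F)) B μ by
    obtain ⟨x, hx, hsc, hno⟩ := H
    refine ⟨x, ⟨1, pow_eq_of_toLin' (by rw [one_smul]; exact hx)⟩, hsc, fun P hP => ?_⟩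
    obtain ⟨c, hc⟩ := hP
    set L := Matrix.toLin' ((P⁻¹ : Matrix.SpecialLinearGroup (Fin n) F) : Matrix (Fin n) (Fin n) F)
    have hLP : ∀ y, L (Matrix.toLin' (P : Matrix (Fin n) (Fin n) F) y) = y := fun y => by
      rw [Matrix.toLin'_apply, Matrix.toLin'_apply, Matrix.mulVec_mulVec,
        ← Matrix.SpecialLinearGroup.coe_mul, inv_mul_cancel, Matrix.SpecialLinearGroup.coe_one,
        Matrix.one_mulVec]
    have hPL : ∀ y, Matrix.toLin' (P : Matrix (Fin n) (Fin n) F) (L y) = y := fun y => by
      rw [Matrix.toLin'_apply, Matrix.toLin'_apply, Matrix.mulVec_mulVec,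
        ← Matrix.SpecialLinearGroup.coe_mul, mul_inv_cancel, Matrix.SpecialLinearGroup.coe_one,
        Matrix.one_mulVec]
    have hconj : ∀ u, Matrix.mulVec ((P⁻¹ * x * P : Matrix.SpecialLinearGroup (Fin n) F) : Matrix (Fin n) (Fin n) F) (L u) =
        L (Matrix.toLin' (x : Matrix (Fin n) (Fin n) F) u) := fun u => by
      conv_rhs => rw [← hPL u]
      simp only [L, Matrix.toLin'_apply, Matrix.mulVec_mulVec, Matrix.SpecialLinearGroup.coe_mul, mul_assoc]
    refine hno ((bilinOf hf.bilinear).compl₁₂ L L) c ⟨fun v => hf.alternating _, fun v hv => ?_,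
      fun u v => ?_⟩
    · have hLv : L v = 0 := eq_zero_of_form_left hf.nondegenerate fun y => by
        have h : f (L v) (L (Matrix.toLin' (P : Matrix (Fin n) (Fin n) F) y)) = 0 := hv _
        rwa [hLP] at h
      rw [← hPL v, hLv, map_zero]
    · have h := hc (L u) (L v)
      rw [Matrix.SpecialLinearGroup.coe_GL_coe_matrix] at h
      rw [hconj, hconj] at h
      exact h
  by_cases hrp : r = p
  · subst hrp
    have h3 : 3 ≤ r := by have := hr.two_le; omega
    obtain ⟨x, hx, hrank⟩ := exists_sl_blocks (F := F) (p := r) (3 ::ₘ Multiset.replicate (n - 3) 1)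
      (fun a ha => by
        rcases Multiset.mem_cons.1 ha with rfl | h
        · exact h3
        · rw [Multiset.eq_of_mem_replicate h]; omega) (n := n)
      (by rw [Multiset.sum_cons, Multiset.sum_replicate, smul_eq_mul]; omega)
    have h2' : Module.finrank F (LinearMap.range
        ((Matrix.toLin' (x : Matrix (Fin n) (Fin n) F) - 1) ^ 2)) = 1 := by
      rw [hrank]; simp [blockRank]
    have h3' : Module.finrank F (LinearMap.range
        ((Matrix.toLin' (x : Matrix (Fin n) (Fin n) F) - 1) ^ 3)) = 0 := by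
      rw [hrank]; simp [blockRank]
    refine ⟨x, hx, fun z hz => ?_, fun B μ => no_similitude_unipotent hr2 hx h2' h3'⟩
    have hz1 : Matrix.toLin' (x : Matrix (Fin n) (Fin n) F) = z • 1 := by
      rw [hz, map_smul, Matrix.toLin'_one]; rfl
    rw [hz1, smul_pow, one_pow] at hx
    obtain ⟨v, hv⟩ := exists_ne (0 : Fin n → F)
    have hzr : z ^ r = 1 := smul_left_injective F hv (by simpa using LinearMap.congr_fun hx v)
    have : z = 1 := frobenius_inj F r (by rw [frobenius_def, frobenius_def, hzr, one_pow])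
    rw [hz1, this, one_smul, sub_self, zero_pow two_ne_zero, LinearMap.range_zero, finrank_bot] at h2'
    exact zero_ne_one h2'
  have hrF : (r : F) ≠ 0 := natCast_ne_zero_of_ne (p := p) hrp
  obtain ⟨hodd, hlt⟩ := odd_order_of_dvd_index (p := p) hq (by omega) hf hrp hΩ
  subst hq
  set i := orderOf ((Fintype.card F : ℕ) : ZMod r) with hidef
  rcases Nat.lt_or_ge 1 i with hi | hi
  · obtain ⟨x, hx, hxe⟩ := exists_sl_fixed (F := F) (p := p) hrp hi (n - i) 1 (n := n) (by omega)
    refine ⟨x, hx, fun z hz => ?_, fun B μ => no_similitude_block hr2 hrF hodd hi hx (by rw [hxe, hlen]; omega)⟩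
    have hinv : ∀ W : Submodule F (Fin n → F),
        Inv (Matrix.toLin' (x : Matrix (Fin n) (Fin n) F)) W := fun W v hv => by
      rw [hz, map_smul, Matrix.toLin'_one]; exact W.smul_mem z hv
    obtain ⟨W, -, hW⟩ := exists_le_finrank (⊤ : Submodule F (Fin n → F)) (a := n - i + 1)
      (by rw [finrank_top, hlen]; omega)
    obtain ⟨j, hj⟩ := (homog_order (r := r) (by omega) hrF hx).finrank_eq (hinv W)
    have hle : Module.finrank F ↥(W ⊓ LinearMap.ker (Matrix.toLin' (x : Matrix (Fin n) (Fin n) F) - 1)) ≤ n - i :=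
      hxe ▸ Submodule.finrank_mono inf_le_right
    have hz1 : Matrix.toLin' (x : Matrix (Fin n) (Fin n) F) = z • 1 := by
      rw [hz, map_smul, Matrix.toLin'_one]; rfl
    by_cases h1 : z = 1
    · rw [hz1, h1, one_smul, sub_self, LinearMap.ker_zero, finrank_top, hlen] at hxe
      omega
    · have hker : LinearMap.ker (Matrix.toLin' (x : Matrix (Fin n) (Fin n) F) - 1) = ⊥ := by
        rw [hz1]
        refine LinearMap.ker_eq_bot'.2 fun v hv => ?_
        have h' : (z - 1) • v = 0 := by simpa [sub_smul] using hv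
        exact (smul_eq_zero.1 h').resolve_left (sub_ne_zero.2 h1)
      rw [hker, finrank_bot] at hxe
      omega
  · have hi1 : i = 1 := le_antisymm hi hodd.pos
    have hdvd : r ∣ Fintype.card F - 1 := by
      have h := (dvd_pow_sub_one_iff (r := r) (Fintype.card_pos (α := F)) 1).2 (by rw [← hidef, hi1])
      rwa [pow_one] at h
    obtain ⟨w, hw⟩ : ∃ w : Fˣ, orderOf w = r := exists_prime_orderOf_dvd_card' (G := Fˣ) r (by
      rwa [Nat.card_units, Nat.card_eq_fintype_card])
    have hw1 : (w : F) ≠ 1 := fun h => hr.one_lt.ne' (by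
      rw [← hw, orderOf_eq_one_iff]; exact Units.ext h)
    have hwr : (w : F) ^ r = 1 := by
      rw [← Units.val_pow_eq_pow_val, ← hw, pow_orderOf_eq_one, Units.val_one]
    set a : Fin n → F := fun j => if (j : ℕ) < 2 then (w : F) else if (j : ℕ) = 2 then ((w : F) ^ 2)⁻¹ else 1
    have hdet : (Matrix.diagonal a).det = 1 := by
      obtain ⟨k, rfl⟩ : ∃ k, n = k + 3 := ⟨n - 3, by omega⟩
      rw [Matrix.det_diagonal, Fin.prod_univ_succ, Fin.prod_univ_succ, Fin.prod_univ_succ]
      simp [a, ← mul_assoc, ← pow_two, Nat.mod_eq_of_lt (show 2 < k + 3 by omega)]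
    refine ⟨⟨Matrix.diagonal a, hdet⟩, ?_, fun z hz => ?_,
      fun B μ => no_similitude_diag hn he hr2 hgap hwr hw1⟩
    · change Matrix.toLin' (Matrix.diagonal a) ^ r = 1
      rw [← toLin'_pow', Matrix.diagonal_pow, show a ^ r = 1 from funext fun j => by
        simp only [a, Pi.pow_apply, Pi.one_apply]
        split_ifs
        · exact hwr
        · rw [inv_pow, ← pow_mul, mul_comm, pow_mul, hwr, one_pow, inv_one]
        · exact one_pow r, Pi.one_def, Matrix.diagonal_one, Matrix.toLin'_one]
      rfl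
    · have h0 := congrFun (congrFun hz ⟨0, by omega⟩) ⟨0, by omega⟩
      have h3 := congrFun (congrFun hz ⟨3, by omega⟩) ⟨3, by omega⟩
      simp [a] at h0 h3
      exact hw1 (h0.trans h3.symm)

end Cfsg.Agent.S5968
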