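import Cfsg.Statements.S5969
import Cfsg.Agent.Lib.LinFix.QuadSub
import Cfsg.Agent.Lib.LinFix.InvolPlanes
import Cfsg.Agent.Lib.LinFix.NegRoot
-- import your own Cfsg.Agent.* helpers here

set_option autoImplicit false
open scoped MatrixGroups
open Cfsg

namespace Cfsg.Agent.S5969

open Matrix Module CfsgLib.LinFix
open scoped MatrixGroups

variable {F : Type*} [Field F] {V : Type*} [AddCommGroup V] [Module F V] [FiniteDimensional F V]

/-- A basis in pairs from invariant planes on which the map is not scalar. -/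
theorem exists_pairs (T : V →ₗ[F] V) {z : F} (hT : ∀ v, T (T v) = z • v) {κ : Type} [Fintype κ]
    (b : Basis (κ × Fin 2) F V) (A B C D : κ → F)
    (h0 : ∀ i, T (b (i, 0)) = A i • b (i, 0) + B i • b (i, 1))
    (h1 : ∀ i, T (b (i, 1)) = C i • b (i, 0) + D i • b (i, 1))
    (hns : ∀ i, B i = 0 → C i = 0 → A i ≠ D i) :
    ∃ b' : Basis (κ × Fin 2) F V, ∀ i, T (b' (i, 0)) = b' (i, 1) ∧ T (b' (i, 1)) = z • b' (i, 0) := by
  classical
  have hex : ∀ i, ∃ x y : F, B i * x * x + (D i - A i) * x * y - C i * y * y ≠ 0 := fun i => by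
    by_cases hB : B i = 0
    · by_cases hC : C i = 0
      · exact ⟨1, 1, by rw [hB, hC]; simpa [sub_eq_zero, eq_comm] using hns i hB hC⟩
      · exact ⟨0, 1, by simpa using hC⟩
    · exact ⟨1, 0, by simpa using hB⟩
  choose x y hxy using hex
  let v : κ → V := fun i => x i • b (i, 0) + y i • b (i, 1)
  let fam : κ × Fin 2 → V := fun t => if t.2 = 0 then v t.1 else T (v t.1)
  have hTv : ∀ i, T (v i) = (x i * A i + y i * C i) • b (i, 0) + (x i * B i + y i * D i) • b (i, 1) :=
    fun i => by
      simp only [v, map_add, map_smul, h0, h1]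
      module
  have hspan : ⊤ ≤ Submodule.span F (Set.range fam) := by
    rw [← b.span_eq, Submodule.span_le]
    rintro _ ⟨⟨i, j⟩, rfl⟩
    set Φ := B i * x i * x i + (D i - A i) * x i * y i - C i * y i * y i with hΦ
    have hv : v i ∈ Submodule.span F (Set.range fam) := Submodule.subset_span ⟨(i, 0), rfl⟩
    have hv' : T (v i) ∈ Submodule.span F (Set.range fam) := Submodule.subset_span ⟨(i, 1), by simp [fam]⟩
    fin_cases j
    · show b (i, 0) ∈ Submodule.span F (Set.range fam)
      have e : Φ • b (i, 0) = (x i * B i + y i * D i) • v i + (-(y i)) • T (v i) := by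
        rw [hTv, hΦ]; simp only [v]; module
      have := Submodule.smul_mem _ Φ⁻¹ (Submodule.add_mem _ (Submodule.smul_mem _ (x i * B i + y i * D i) hv)
        (Submodule.smul_mem _ (-(y i)) hv'))
      rwa [← e, smul_smul, inv_mul_cancel₀ (hxy i), one_smul] at this
    · show b (i, 1) ∈ Submodule.span F (Set.range fam)
      have e : Φ • b (i, 1) = (-(x i * A i + y i * C i)) • v i + x i • T (v i) := by
        rw [hTv, hΦ]; simp only [v]; module
      have := Submodule.smul_mem _ Φ⁻¹ (Submodule.add_mem _ (Submodule.smul_mem _ (-(x i * A i + y i * C i)) hv)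
        (Submodule.smul_mem _ (x i) hv'))
      rwa [← e, smul_smul, inv_mul_cancel₀ (hxy i), one_smul] at this
  refine ⟨basisOfTopLeSpanOfCardEqFinrank fam hspan (finrank_eq_card_basis b).symm, fun i => ?_⟩
  rw [coe_basisOfTopLeSpanOfCardEqFinrank]
  simp [fam, hT]

/-- A semilinear structure for a map given in pairs. -/
theorem exists_semilinear {z a b p c : F} (T : V →ₗ[F] V) {κ : Type} [Fintype κ] (B : Basis (κ × Fin 2) F V)
    (hB : ∀ i, T (B (i, 0)) = B (i, 1) ∧ T (B (i, 1)) = z • B (i, 0))
    (hpc : p * p - a * p - z * (c * c) = b) :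
    ∃ D : V →ₗ[F] V, D * D = a • D + b • 1 ∧ T * D = (a • 1 - D) * T := by
  classical
  let D : V →ₗ[F] V := B.constr F fun t => if t.2 = 0 then p • B (t.1, 0) + c • B (t.1, 1)
    else (-(c * z)) • B (t.1, 0) + (a - p) • B (t.1, 1)
  have hD0 : ∀ i, D (B (i, 0)) = p • B (i, 0) + c • B (i, 1) := fun i =>
    (B.constr_basis F _ _).trans (by simp)
  have hD1 : ∀ i, D (B (i, 1)) = (-(c * z)) • B (i, 0) + (a - p) • B (i, 1) := fun i =>
    (B.constr_basis F _ _).trans (by simp)
  subst hpc
  refine ⟨D, B.ext fun t => ?_, B.ext fun t => ?_⟩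
  · obtain ⟨i, j⟩ := t
    fin_cases j <;>
      simp only [Fin.zero_eta, Fin.mk_one, Module.End.mul_apply, LinearMap.add_apply, LinearMap.smul_apply,
        Module.End.one_apply, hD0, hD1, map_add, map_smul] <;>
      module
  · obtain ⟨i, j⟩ := t
    fin_cases j <;>
      simp only [Fin.zero_eta, Fin.mk_one, Module.End.mul_apply, LinearMap.sub_apply, LinearMap.smul_apply,
        Module.End.one_apply, hD0, hD1, map_add, map_smul, (hB i).1, (hB i).2] <;>
      module

/-- The linear structure for a map which is scalar on planes. -/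
theorem exists_linear {a b : F} (T : V →ₗ[F] V) {κ : Type} [Fintype κ] (B : Basis (κ × Fin 2) F V)
    (s : κ → F) (hB : ∀ i j, T (B (i, j)) = s i • B (i, j)) :
    ∃ D : V →ₗ[F] V, D * D = a • D + b • 1 ∧ T * D = D * T := by
  classical
  let D : V →ₗ[F] V := B.constr F fun t => if t.2 = 0 then B (t.1, 1)
    else b • B (t.1, 0) + a • B (t.1, 1)
  have hD0 : ∀ i, D (B (i, 0)) = B (i, 1) := fun i =>
    (B.constr_basis F _ _).trans (by simp)
  have hD1 : ∀ i, D (B (i, 1)) = b • B (i, 0) + a • B (i, 1) := fun i =>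
    (B.constr_basis F _ _).trans (by simp)
  refine ⟨D, B.ext fun t => ?_, B.ext fun t => ?_⟩
  · obtain ⟨i, j⟩ := t
    fin_cases j <;>
      simp only [Fin.zero_eta, Fin.mk_one, Module.End.mul_apply, LinearMap.add_apply, LinearMap.smul_apply,
        Module.End.one_apply, hD0, hD1, map_add, map_smul] <;>
      module
  · obtain ⟨i, j⟩ := t
    fin_cases j <;>
      simp only [Fin.zero_eta, Fin.mk_one, Module.End.mul_apply, hD0, hD1, map_add, map_smul, hB] <;>
      module

theorem matrix_of_end {n : ℕ} {X : Matrix (Fin n) (Fin n) F} {D S : (Fin n → F) →ₗ[F] (Fin n → F)} {a b : F}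
    (hD : D * D = a • D + b • 1) (hS : Matrix.toLin' X * D = S * Matrix.toLin' X) :
    LinearMap.toMatrix' D * LinearMap.toMatrix' D = a • LinearMap.toMatrix' D + b • 1 ∧
      X * LinearMap.toMatrix' D = LinearMap.toMatrix' S * X := by
  refine ⟨?_, ?_⟩
  · rw [← LinearMap.toMatrix'_mul, hD, map_add, map_smul, map_smul, LinearMap.toMatrix'_one]
  · conv_lhs => rw [← LinearMap.toMatrix'_toLin' X]
    conv_rhs => rw [← LinearMap.toMatrix'_toLin' X]
    rw [← LinearMap.toMatrix'_mul, ← LinearMap.toMatrix'_mul, hS]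



/-- Involutions of PSL_n(q) and extension-field subgroups of degree 2. Here `T = PSL_n(F)` for a field `F` with `q = p^f` elements (`n ≥ 2`, `(n, q) ≠ (2, 2), (2, 3)`), `k` is a prime dividing `n`, `K` is a subalgebra of the `n × n` matrices that is a field of degree `k` over `F` (an extension-field structure F_{q^k} on `F^n`), and `H` is the subgroup of matrices of determinant 1 normalizing `K` — a subgroup of type GL_{n/k}(q^k) (maximal except in some small cases; maximality is not assumed); Ω is the set of cosets of `H` in `T`, so an element of `T` of prime order `r` (a matrix `x` of determinant 1 with `x^r` scalar, `x` not scalar) fixes a point of Ω when some conjugate of `x` by a matrix of determinant 1 normalizes `K`. Take `k = 2` and suppose the index of `H` is even. Then every involution of `T` is conjugate in `T` into `H` if and only if `n = 2`, or `q` is odd and `(q − 1)_2 ≤ (n)_2`. -/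
theorem result {F : Type*} [Field F] [Fintype F] {p : ℕ} [Fact p.Prime] [CharP F p] {q : ℕ} (hq : Fintype.card F = q)
    (n : ℕ) (hn : 2 ≤ n) (hT : (n, q) ≠ (2, 2) ∧ (n, q) ≠ (2, 3))
    (k : ℕ) (hk : k.Prime) (hkn : k ∣ n) (K : Subalgebra F (Matrix (Fin n) (Fin n) F)) (hK : Cfsg.Geo.IsFieldSubalgebra k K) (hk2 : k = 2) (hΩ : 2 ∣ ((Cfsg.Geo.subalgebraNormalizer K).comap (Matrix.SpecialLinearGroup.toGL : Matrix.SpecialLinearGroup (Fin n) F →* GL (Fin n) F)).index) :
    (∀ x : Matrix.SpecialLinearGroup (Fin n) F,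
      (∃ z : F, ((x ^ 2 : Matrix.SpecialLinearGroup (Fin n) F) : Matrix (Fin n) (Fin n) F) = z • (1 : Matrix (Fin n) (Fin n) F)) →
      (∀ z : F, (x : Matrix (Fin n) (Fin n) F) ≠ z • (1 : Matrix (Fin n) (Fin n) F)) →
      ∃ P : Matrix.SpecialLinearGroup (Fin n) F, P⁻¹ * x * P ∈ ((Cfsg.Geo.subalgebraNormalizer K).comap (Matrix.SpecialLinearGroup.toGL : Matrix.SpecialLinearGroup (Fin n) F →* GL (Fin n) F))) ↔
    (n = 2 ∨ (Odd q ∧ padicValNat 2 (q - 1) ≤ padicValNat 2 n)) := by
  classical
  subst hq
  subst hk2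
  haveI : NeZero n := ⟨by omega⟩
  haveI : Nonempty (Fin n) := ⟨⟨0, by omega⟩⟩
  obtain ⟨J, a, b, hJ, hnorm⟩ : ∃ J a b, QuadSub.IsGen K J a b ∧ ((2 : F) = 0 ∨ a = 0) := by
    obtain ⟨J, a, b, hJ⟩ := QuadSub.exists_gen hK
    by_cases h2 : (2 : F) = 0
    · exact ⟨J, a, b, hJ, Or.inl h2⟩
    · exact ⟨_, _, _, hJ.normalize h2, Or.inr rfl⟩
  have hb : b ≠ 0 := fun h => hJ.noroot 0 (by rw [h]; ring)
  have hparity : ((2 : F) = 0 ↔ ¬ Odd (Fintype.card F)) := by
    constructor
    · intro h hodd
      haveI : CharP F 2 := CharTwo.of_one_ne_zero_of_two_eq_zero one_ne_zero h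
      have := FiniteField.even_card_iff_char_two.mp (ringChar.eq F 2)
      rw [Nat.odd_iff] at hodd
      omega
    · intro h
      by_contra h2
      refine h (Nat.odd_iff.mpr (FiniteField.odd_card_of_char_ne_two fun h' => h2 ?_))
      haveI := ringChar.charP F
      have := CharP.cast_eq_zero F (ringChar F)
      rwa [h', Nat.cast_two] at this
  constructor
  · intro hall
    by_contra hne
    rw [not_or, not_and] at hne
    obtain ⟨hn2, hne⟩ := hne
    have hn4 : 3 ≤ n := by omega
    let i₀ : Fin n := ⟨0, by omega⟩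
    let i₁ : Fin n := ⟨1, by omega⟩
    let i₂ : Fin n := ⟨2, by omega⟩
    have h01 : i₀ ≠ i₁ := by simp [i₀, i₁]
    have h02 : i₀ ≠ i₂ := by simp [i₀, i₂]
    have h12 : i₁ ≠ i₂ := by simp [i₁, i₂]
    by_cases h2 : (2 : F) = 0
    · let x : SpecialLinearGroup (Fin n) F := ⟨Matrix.transvection i₀ i₁ 1, Matrix.det_transvection_of_ne _ _ h01 _⟩
      have hx2 : ((x ^ 2 : SpecialLinearGroup (Fin n) F) : Matrix (Fin n) (Fin n) F) = (1 : F) • 1 := by
        rw [pow_two, one_smul]
        show Matrix.transvection i₀ i₁ 1 * Matrix.transvection i₀ i₁ 1 = (1 : Matrix (Fin n) (Fin n) F)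
        rw [Matrix.transvection_mul_transvection_same (i := i₀) (j := i₁) h01, one_add_one_eq_two, h2,
          Matrix.transvection_zero]
      obtain ⟨D, hD, hxD⟩ := (hJ.exists_conj_iff hK x).mp (hall x ⟨1, hx2⟩ fun z hz => by
        have := congrFun (congrFun hz i₀) i₁
        simp [x, Matrix.transvection, h01] at this)
      rcases hxD with h | h
      · change Matrix.transvection i₀ i₁ 1 * D = D * Matrix.transvection i₀ i₁ 1 at h
        have hcol : ∀ i, i ≠ i₀ → D i i₀ = 0 := fun i hi => by
          have e := congrFun (congrFun h i) i₁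
          simpa [Matrix.transvection, add_mul, mul_add, hi] using e.symm
        have e := congrFun (congrFun hD i₀) i₀
        rw [Matrix.mul_apply, Finset.sum_eq_single i₀ (fun j _ hj => by rw [hcol j hj, mul_zero]) (by simp)] at e
        exact hJ.noroot (D i₀ i₀) (by simpa using e)
      · change Matrix.transvection i₀ i₁ 1 * D = (a • 1 - D) * Matrix.transvection i₀ i₁ 1 at h
        have e := congrFun (congrFun h i₂) i₂
        simp [Matrix.transvection, add_mul, mul_add, sub_mul, h02.symm, h12.symm, h02, h12, Matrix.single_apply] at e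
        have ha : a = 0 := by linear_combination -e + D i₂ i₂ * h2
        haveI : CharP F 2 := CharTwo.of_one_ne_zero_of_two_eq_zero one_ne_zero h2
        obtain ⟨c, hc⟩ := (bijective_frobenius F 2).surjective b
        rw [frobenius_def, pow_two] at hc
        exact hJ.noroot c (by rw [hc, ha, zero_mul, zero_add])
    · obtain rfl : a = 0 := hnorm.resolve_left h2
      have hlt : padicValNat 2 n < padicValNat 2 (Fintype.card F - 1) :=
        not_le.mp (hne (by by_contra h; exact h2 (hparity.mpr h)))
      obtain ⟨w, hw⟩ := (NegRoot.exists_pow_eq_neg_one_iff h2 (show n ≠ 0 by omega)).mpr hlt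
      let s : Fin n → F := fun i => if i = i₀ then -w else w
      have hdet : (Matrix.diagonal s).det = 1 := by
        rw [Matrix.det_diagonal, ← Finset.mul_prod_erase _ _ (Finset.mem_univ i₀),
          Finset.prod_congr rfl (g := fun _ => w) fun i hi => by simp [s, Finset.ne_of_mem_erase hi],
          Finset.prod_const, Finset.card_erase_of_mem (Finset.mem_univ _), Finset.card_univ,
          Fintype.card_fin]
        simp only [s, if_true]
        rw [neg_mul, ← pow_succ', Nat.sub_add_cancel (by omega : 1 ≤ n), hw, neg_neg]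
      have hw0 : w ≠ 0 := fun h => by
        rw [h, zero_pow (by omega)] at hw
        exact one_ne_zero (by linear_combination hw : (1 : F) = 0)
      let x : SpecialLinearGroup (Fin n) F := ⟨Matrix.diagonal s, hdet⟩
      have hx2 : ((x ^ 2 : SpecialLinearGroup (Fin n) F) : Matrix (Fin n) (Fin n) F) = (w * w) • 1 := by
        rw [pow_two]
        show Matrix.diagonal s * Matrix.diagonal s = _
        rw [Matrix.diagonal_mul_diagonal, smul_one_eq_diagonal]
        congr 1
        funext i
        by_cases h : i = i₀ <;> simp [s, h]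
      obtain ⟨D, hD, hxD⟩ := (hJ.exists_conj_iff hK x).mp (hall x ⟨_, hx2⟩ fun z hz => by
        have e0 := congrFun (congrFun hz i₀) i₀
        have e1 := congrFun (congrFun hz i₁) i₁
        change Matrix.diagonal s _ _ = _ at e0 e1
        simp [s, h01.symm] at e0 e1
        exact mul_ne_zero h2 hw0 (by linear_combination e1 - e0))
      have hs0 : s i₀ = -w := by simp [s]
      have hs : ∀ i, i ≠ i₀ → s i = w := fun i hi => by simp [s, hi]
      rcases hxD with h | h
      · change Matrix.diagonal s * D = D * Matrix.diagonal s at h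
        have hcol : ∀ i, i ≠ i₀ → D i i₀ = 0 := fun i hi => by
          have e := congrFun (congrFun h i) i₀
          rw [Matrix.diagonal_mul, Matrix.mul_diagonal, hs i hi, hs0] at e
          exact (mul_eq_zero.mp (by linear_combination e : (2 * w) * D i i₀ = 0)).resolve_left (mul_ne_zero h2 hw0)
        have e := congrFun (congrFun hD i₀) i₀
        rw [Matrix.mul_apply, Finset.sum_eq_single i₀ (fun j _ hj => by rw [hcol j hj, mul_zero]) (by simp)] at e
        exact hJ.noroot (D i₀ i₀) (by simpa using e)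
      · change Matrix.diagonal s * D = ((0 : F) • 1 - D) * Matrix.diagonal s at h
        have hz : ∀ i j, i ≠ i₀ → j ≠ i₀ → D i j = 0 := fun i j hi hj => by
          have e := congrFun (congrFun h i) j
          rw [Matrix.diagonal_mul, Matrix.mul_diagonal, hs i hi, hs j hj] at e
          simp at e
          exact (mul_eq_zero.mp (by linear_combination e : (2 * w) * D i j = 0)).resolve_left (mul_ne_zero h2 hw0)
        have key : ∀ i j, i ≠ i₀ → j ≠ i₀ → D i i₀ * D i₀ j = if i = j then b else 0 := fun i j hi hj => by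
          have e := congrFun (congrFun hD i) j
          rw [Matrix.mul_apply, Finset.sum_eq_single i₀ (fun l _ hl => by rw [hz i l hi hl, zero_mul]) (by simp)] at e
          rw [e]
          by_cases hij : i = j <;> simp [hij]
        have e11 := key i₁ i₁ h01.symm h01.symm
        have e12 := key i₁ i₂ h01.symm h02.symm
        have e22 := key i₂ i₂ h02.symm h02.symm
        rw [if_pos rfl] at e11 e22
        rw [if_neg h12] at e12
        rcases mul_eq_zero.mp e12 with e | e
        · exact hb (by rw [← e11, e, zero_mul])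
        · exact hb (by rw [← e22, e, mul_zero])
  · rintro hR x ⟨z, hz⟩ hns
    rw [hJ.exists_conj_iff hK x]
    set X := (x : Matrix (Fin n) (Fin n) F) with hX
    set T := Matrix.toLin' X with hTdef
    have hz' : X * X = z • 1 := by rw [← hz, pow_two]; rfl
    have hT : ∀ v, T (T v) = z • v := fun v => by
      rw [hTdef, Matrix.toLin'_apply, Matrix.toLin'_apply, mulVec_mulVec, hz', smul_mulVec, one_mulVec]
    have hdet : LinearMap.det T = 1 := by rw [hTdef, LinearMap.det_toLin', x.2]
    have hz0 : z ≠ 0 := fun h => by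
      have h' := congrArg Matrix.det hz'
      rw [Matrix.det_mul, x.2, one_mul, h, zero_smul, Matrix.det_zero] at h'
      exact one_ne_zero h'
    obtain ⟨p, c, hpc⟩ : ∃ p c : F, p * p - a * p - z * (c * c) = b := by
      by_cases h2 : (2 : F) = 0
      · haveI : CharP F 2 := CharTwo.of_one_ne_zero_of_two_eq_zero one_ne_zero h2
        obtain ⟨c, hc⟩ := (bijective_frobenius F 2).surjective (-b / z)
        rw [frobenius_def, pow_two] at hc
        refine ⟨0, c, ?_⟩
        rw [hc]
        field_simp
        ring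
      · obtain rfl : a = 0 := hnorm.resolve_left h2
        obtain ⟨p, c, h⟩ := QuadSub.exists_norm_eq 0 z b (Or.inr ⟨rfl, hz0⟩)
        exact ⟨p, c, by linear_combination h⟩
    have semi : (∃ (κ : Type) (_ : Fintype κ) (B : Basis (κ × Fin 2) F (Fin n → F)),
        ∀ i, T (B (i, 0)) = B (i, 1) ∧ T (B (i, 1)) = z • B (i, 0)) →
        ∃ D : Matrix (Fin n) (Fin n) F, D * D = a • D + b • 1 ∧ (X * D = D * X ∨ X * D = (a • 1 - D) * X) := by
      rintro ⟨κ, _, B, hB⟩
      obtain ⟨D, hD, hTD⟩ := exists_semilinear T B hB hpc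
      obtain ⟨h1, h2⟩ := matrix_of_end hD hTD
      exact ⟨_, h1, Or.inr (by rw [h2, map_sub, map_smul, LinearMap.toMatrix'_one])⟩
    rcases eq_or_ne n 2 with rfl | hn2
    · let e : Fin 2 ≃ Unit × Fin 2 := (Equiv.punitProd _).symm
      let B := (Pi.basisFun F (Fin 2)).reindex e
      have hcol : ∀ j, T (B ((), j)) = X 0 j • B ((), 0) + X 1 j • B ((), 1) := fun j => by
        funext i
        fin_cases i <;> simp [B, e, hTdef, Matrix.mulVec_single]
      obtain ⟨B', hB'⟩ := exists_pairs T hT B (fun _ => X 0 0) (fun _ => X 1 0) (fun _ => X 0 1) (fun _ => X 1 1)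
        (fun _ => hcol 0) (fun _ => hcol 1) fun _ h10 h01 h00 => hns (X 0 0) (by
          show X = _
          ext i j
          fin_cases i <;> fin_cases j <;> simp [h10, h01, h00])
      exact semi ⟨Unit, inferInstance, B', hB'⟩
    · obtain ⟨hodd, hle⟩ := hR.resolve_left hn2
      have h2 : (2 : F) ≠ 0 := fun h => hparity.mp h hodd
      obtain ⟨d, hd⟩ := even_iff_two_dvd.mpr hkn
      have hn' : n = 2 * d := by omega
      have hcrit : ∀ w : F, w ^ (2 * d) ≠ -1 := fun w hw => by
        rw [← hn'] at hw
        exact absurd ((NegRoot.exists_pow_eq_neg_one_iff h2 (show n ≠ 0 by omega)).mp ⟨w, hw⟩) (by omega)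
      obtain ⟨δ, κ, _, B, A, Bc, Cc, Dc, hB⟩ := InvolPlanes.hasPlanes_of_sq T hz0 hT hdet
        (by rw [finrank_fintype_fun_eq_card, Fintype.card_fin, hn']) (Or.inr hcrit)
      have hrel : ∀ i, A i * A i + Bc i * Cc i = z ∧ Bc i * (A i + Dc i) = 0 ∧ Cc i * (A i + Dc i) = 0 ∧
          Dc i * Dc i + Bc i * Cc i = z := fun i => by
        obtain ⟨h0, h1, -⟩ := hB i
        have e0 := hT (B (i, 0))
        have e1 := hT (B (i, 1))
        rw [h0, map_add, map_smul, map_smul, h0, h1] at e0
        rw [h1, map_add, map_smul, map_smul, h0, h1] at e1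
        have f0 := congrArg B.repr e0
        have f1 := congrArg B.repr e1
        simp only [map_add, map_smul, Basis.repr_self] at f0 f1
        refine ⟨?_, ?_, ?_, ?_⟩
        · simpa using DFunLike.congr_fun f0 (i, 0)
        · linear_combination (by simpa using DFunLike.congr_fun f0 (i, 1) : A i * Bc i + Bc i * Dc i = 0)
        · linear_combination (by simpa using DFunLike.congr_fun f1 (i, 0) : Cc i * A i + Dc i * Cc i = 0)
        · linear_combination (by simpa using DFunLike.congr_fun f1 (i, 1) : Cc i * Bc i + Dc i * Dc i = z)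
      by_cases hδ : δ = z
      · have hsc : ∀ i, Bc i = 0 ∧ Cc i = 0 ∧ A i = Dc i := fun i => by
          obtain ⟨r1, r2, r3, r4⟩ := hrel i
          have hsum : A i + Dc i ≠ 0 := fun h0 => mul_ne_zero h2 hz0 (by
            linear_combination (A i) * h0 - r1 - (hB i).2.2 - hδ)
          have hB0 := (mul_eq_zero.mp r2).resolve_right hsum
          refine ⟨hB0, (mul_eq_zero.mp r3).resolve_right hsum, ?_⟩
          exact sub_eq_zero.mp ((mul_eq_zero.mp (show (A i - Dc i) * (A i + Dc i) = 0 by
            linear_combination r1 - r4)).resolve_right hsum)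
        obtain ⟨D, hD, hTD⟩ := exists_linear (a := a) (b := b) T B A fun i j => by
          obtain ⟨e1, e2, e3⟩ := hsc i
          fin_cases j
          · simpa [e1] using (hB i).1
          · simpa [e2, e3] using (hB i).2.1
        obtain ⟨g1, g2⟩ := matrix_of_end hD hTD
        exact ⟨_, g1, Or.inl g2⟩
      · obtain ⟨B', hB'⟩ := exists_pairs T hT B A Bc Cc Dc (fun i => (hB i).1) (fun i => (hB i).2.1)
          fun i hb0 hc0 hAD => hδ (by
            obtain ⟨r1, -, -, -⟩ := hrel i
            rw [← (hB i).2.2, ← r1, hb0, hc0, hAD]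
            ring)
        exact semi ⟨κ, inferInstance, B', hB'⟩

end Cfsg.Agent.S5969
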