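import Cfsg.Statements.S5970
import Cfsg.Agent.Lib.LinFix.Singer
-- import your own Cfsg.Agent.* helpers here

set_option autoImplicit false
open scoped MatrixGroups
open Cfsg

namespace Cfsg.Agent.S5970

open Matrix Module CfsgLib.LinFix

theorem toLin'_pow_one {F : Type*} [Field F] {n m : ℕ} {X : Matrix (Fin n) (Fin n) F} (h : X ^ m = 1) :
    Matrix.toLin' X ^ m = 1 := by
  rw [← Matrix.toLin'_pow, h, Matrix.toLin'_one]; rfl

theorem not_scalar_of_ker {F : Type*} [Field F] {n : ℕ} {X : Matrix (Fin n) (Fin n) F}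
    (hT : Matrix.toLin' X ≠ 1) {w : Fin n → F} (hw : w ≠ 0) (hfix : X *ᵥ w = w) (z : F) : X ≠ z • 1 := fun h => by
  refine hT ?_
  rw [h, smul_mulVec, one_mulVec] at hfix
  obtain rfl : z = 1 := smul_left_injective F hw (hfix.trans (one_smul F w).symm)
  rw [h, one_smul, Matrix.toLin'_one]; rfl

theorem single_pair_li {F : Type*} [Field F] {n : ℕ} {i j : Fin n} (h : i ≠ j) :
    LinearIndependent F ![(Pi.single i 1 : Fin n → F), Pi.single j 1] := by
  rw [LinearIndependent.pair_iff]
  intro s t hst
  have e1 := congrFun hst i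
  have e2 := congrFun hst j
  simp [h, h.symm] at e1 e2
  exact ⟨e1, e2⟩


/-- Elements of order `n` of PSL_n(q), `n` prime, and the normalizer of a Singer cycle. Here `T = PSL_n(F)` for a field `F` with `q = p^f` elements (`n ≥ 2`, `(n, q) ≠ (2, 2), (2, 3)`), `k` is a prime dividing `n`, `K` is a subalgebra of the `n × n` matrices that is a field of degree `k` over `F` (an extension-field structure F_{q^k} on `F^n`), and `H` is the subgroup of matrices of determinant 1 normalizing `K` — a subgroup of type GL_{n/k}(q^k) (maximal except in some small cases; maximality is not assumed); Ω is the set of cosets of `H` in `T`, so an element of `T` of prime order `r` (a matrix `x` of determinant 1 with `x^r` scalar, `x` not scalar) fixes a point of Ω when some conjugate of `x` by a matrix of determinant 1 normalizes `K`. Take `k = n > 3` prime with `n ≠ p` (so `H` is the normalizer of a Singer cycle), and suppose `n` divides the index of `H`. Then every element of `T` of order `n` is conjugate in `T` into `H` if and only if the multiplicative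 order of `q` modulo `n` is `n − 1`. -/
theorem result {F : Type*} [Field F] [Fintype F] {p : ℕ} [Fact p.Prime] [CharP F p] {q : ℕ} (hq : Fintype.card F = q)
    (n : ℕ) (hn : 2 ≤ n) (hT : (n, q) ≠ (2, 2) ∧ (n, q) ≠ (2, 3))
    (k : ℕ) (hk : k.Prime) (hkn : k ∣ n) (K : Subalgebra F (Matrix (Fin n) (Fin n) F)) (hK : Cfsg.Geo.IsFieldSubalgebra k K) (hkn' : k = n) (hn3 : 3 < n) (hnp : n ≠ p) (hΩ : n ∣ ((Cfsg.Geo.subalgebraNormalizer K).comap (Matrix.SpecialLinearGroup.toGL : Matrix.SpecialLinearGroup (Fin n) F →* GL (Fin n) F)).index) :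
    (∀ x : Matrix.SpecialLinearGroup (Fin n) F,
      (∃ z : F, ((x ^ n : Matrix.SpecialLinearGroup (Fin n) F) : Matrix (Fin n) (Fin n) F) = z • (1 : Matrix (Fin n) (Fin n) F)) →
      (∀ z : F, (x : Matrix (Fin n) (Fin n) F) ≠ z • (1 : Matrix (Fin n) (Fin n) F)) →
      ∃ P : Matrix.SpecialLinearGroup (Fin n) F, P⁻¹ * x * P ∈ ((Cfsg.Geo.subalgebraNormalizer K).comap (Matrix.SpecialLinearGroup.toGL : Matrix.SpecialLinearGroup (Fin n) F →* GL (Fin n) F))) ↔
    orderOf (q : ZMod n) = n - 1 := by
  classical
  subst hq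
  obtain rfl : n = k := hkn'.symm
  haveI : Fact n.Prime := ⟨hk⟩
  set i := orderOf (Fintype.card F : ZMod n) with hidef
  have hnF : (n : F) ≠ 0 := natCast_ne_zero_of_ne hnp
  have hi0 : 0 < i := orderOf_pos_of_ne hnp
  have hdvd : i ∣ n - 1 := by
    refine ZMod.orderOf_dvd_card_sub_one fun h => ?_
    have := pow_orderOf_eq_one (Fintype.card F : ZMod n)
    rw [h, zero_pow (h ▸ hi0.ne')] at this
    exact zero_ne_one this
  have hq1 : 1 ≤ Fintype.card F := Fintype.card_pos
  constructor
  · intro hall
    by_contra hne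
    obtain ⟨t, ht⟩ := hdvd
    have hlt : 2 * i ≤ n - 1 := by
      rcases t with - | - | t
      · omega
      · exact absurd (by omega) hne
      · rw [ht, mul_comm 2]; exact Nat.mul_le_mul_left _ (by omega)
    suffices h : ∃ x : Matrix.SpecialLinearGroup (Fin n) F, (x : Matrix (Fin n) (Fin n) F) ^ n = 1 ∧
        (∀ z : F, (x : Matrix (Fin n) (Fin n) F) ≠ z • 1) ∧
        2 ≤ finrank F (LinearMap.ker (Matrix.toLin' (x : Matrix (Fin n) (Fin n) F) - 1)) by
      obtain ⟨x, hx, hns, hker⟩ := h
      obtain ⟨P, hP⟩ := hall x ⟨1, by rw [Matrix.SpecialLinearGroup.coe_pow x n |>.trans hx, one_smul]⟩ hns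
      have h' := Singer.fixed_le_one_of_conj hK (c := (1 : F)) (by rw [one_smul, hx]) hns hP
      rw [one_smul] at h'
      omega
    rcases Nat.lt_or_ge i 2 with hi | hi
    · -- diagonal element
      have hi1 : i = 1 := by omega
      have hn1 : n ∣ Fintype.card Fˣ := by
        have := (dvd_pow_sub_one_iff (r := n) hq1 1).2 (by rw [← hidef, hi1])
        rwa [pow_one, ← Fintype.card_units] at this
      obtain ⟨ζ, hζ⟩ := exists_prime_orderOf_dvd_card n hn1
      let i₀ : Fin n := ⟨0, by omega⟩
      let i₁ : Fin n := ⟨1, by omega⟩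
      let i₂ : Fin n := ⟨2, by omega⟩
      let i₃ : Fin n := ⟨3, by omega⟩
      let s : Fin n → F := fun j => if j = i₀ then (ζ : F) else if j = i₁ then (ζ : F)⁻¹ else 1
      have hne01 : i₀ ≠ i₁ := by simp [i₀, i₁]
      have hdet : (Matrix.diagonal s).det = 1 := by
        rw [Matrix.det_diagonal, ← Finset.prod_subset (Finset.subset_univ {i₀, i₁}) fun j _ hj => by
          simp at hj; simp [s, hj.1, hj.2], Finset.prod_pair hne01]
        simp [s, hne01.symm]
      have hζn : (ζ : F) ^ n = 1 := by
        rw [← Units.val_pow_eq_pow_val, ← hζ, pow_orderOf_eq_one, Units.val_one]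
      refine ⟨⟨Matrix.diagonal s, hdet⟩, ?_, ?_, ?_⟩
      · show Matrix.diagonal s ^ n = 1
        rw [Matrix.diagonal_pow, ← Matrix.diagonal_one]
        congr 1
        funext j
        simp only [Pi.pow_apply, s]
        split_ifs <;> simp [hζn]
      · intro z hz
        change Matrix.diagonal s = _ at hz
        have e0 := congrFun (congrFun hz i₀) i₀
        have e2 := congrFun (congrFun hz i₂) i₂
        simp [s, i₀, i₁, i₂] at e0 e2
        have : ζ = 1 := Units.ext (by rw [Units.val_one, e0, ← e2])
        rw [this, orderOf_one] at hζ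
        omega
      · have hsingle : ∀ l, l ≠ i₀ → l ≠ i₁ →
            Matrix.toLin' (Matrix.diagonal s) (Pi.single l 1) = Pi.single l 1 := fun l h0 h1 => by
          funext j
          rw [Matrix.toLin'_apply, Matrix.mulVec_diagonal]
          by_cases hj : j = l
          · subst hj; simp [s, h0, h1]
          · simp [hj]
        exact Singer.two_le_finrank_ker (single_pair_li (show i₂ ≠ i₃ by simp [i₂, i₃]))
          (hsingle i₂ (by simp [i₂, i₀]) (by simp [i₂, i₁])) (hsingle i₃ (by simp [i₃, i₀]) (by simp [i₃, i₁]))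
    · obtain ⟨x, hx, hker⟩ := exists_sl_fixed (F := F) (r := n) (p := p) hnp (by omega) (n - i) 1
        (n := n) (by rw [one_mul, ← hidef]; omega)
      refine ⟨x, ?_, ?_, by omega⟩
      · apply Matrix.toLin'.injective
        rw [Matrix.toLin'_pow, hx, Matrix.toLin'_one]; rfl
      · obtain ⟨w, hw, hw0⟩ := Submodule.exists_mem_ne_zero_of_ne_bot
          (p := LinearMap.ker (Matrix.toLin' (x : Matrix (Fin n) (Fin n) F) - 1))
          (fun h => by rw [h, finrank_bot] at hker; omega)
        refine not_scalar_of_ker (fun h => ?_) hw0 (by simpa [sub_eq_zero] using hw)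
        rw [h, sub_self, LinearMap.ker_zero, finrank_top, finrank_fin_fun] at hker
        omega
  · intro hi x hx hns
    obtain ⟨z, hz⟩ := hx
    rw [Matrix.SpecialLinearGroup.coe_pow x n |>.trans rfl] at hz
    have hz1 : z = 1 := by
      have h := congrArg Matrix.det hz
      rw [Matrix.det_pow, x.2, one_pow, Matrix.det_smul, Matrix.det_one, mul_one, Fintype.card_fin] at h
      by_contra hne
      have hord : orderOf z = n := orderOf_eq_prime h.symm hne
      have hz0 : z ≠ 0 := fun h0 => by rw [h0, zero_pow (by omega)] at h; exact one_ne_zero h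
      have h1 : n ∣ Fintype.card F ^ 1 - 1 := by
        rw [pow_one, ← hord]
        exact orderOf_dvd_of_pow_eq_one (FiniteField.pow_card_sub_one_eq_one z hz0)
      have := Nat.le_of_dvd one_pos ((dvd_pow_sub_one_iff hq1 1).1 h1)
      omega
    rw [hz1, one_smul] at hz
    have hT := toLin'_pow_one hz
    obtain ⟨b, v, hb⟩ := Singer.exists_orbit_basis (F := F) (n := n) (by omega) hnF hi hT fun h => hns 1 (by
      rw [one_smul]; exact Matrix.toLin'.injective (by rw [h, Matrix.toLin'_one]; rfl))
    exact Singer.exists_conj_mem hK hnF hT b hb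

end Cfsg.Agent.S5970
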