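import Cfsg.Statements.S5971
import Cfsg.Agent.Lib.LinFix.Singer
import Cfsg.Agent.Lib.Linear.Card
-- import your own Cfsg.Agent.* helpers here

set_option autoImplicit false
open scoped MatrixGroups
open Cfsg

namespace Cfsg.Agent.S5971

open Matrix Module CfsgLib.LinFix

theorem toLin'_pow_one {F : Type*} [Field F] {n m : ℕ} {X : Matrix (Fin n) (Fin n) F} (h : X ^ m = 1) :
    Matrix.toLin' X ^ m = 1 := by
  rw [← Matrix.toLin'_pow, h, Matrix.toLin'_one]; rfl

theorem not_scalar_of_ker {F : Type*} [Field F] {n : ℕ} {X : Matrix (Fin n) (Fin n) F}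
    (hT : Matrix.toLin' X ≠ 1) {w : Fin n → F} (hw : w ≠ 0) (hfix : X *ᵥ w = w) (z : F) : X ≠ z • 1 := fun h => by
  refine hT ?_
  rw [h, smul_mulVec, one_mulVec] at hfix
  obtain rfl : z = 1 := smul_left_injective F hw (hfix.trans (one_smul F w).symm)
  rw [h, one_smul, Matrix.toLin'_one]; rfl

theorem single_pair_li {F : Type*} [Field F] {n : ℕ} {i j : Fin n} (h : i ≠ j) :
    LinearIndependent F ![(Pi.single i 1 : Fin n → F), Pi.single j 1] := by
  rw [LinearIndependent.pair_iff]
  intro s t hst
  have e1 := congrFun hst i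
  have e2 := congrFun hst j
  simp [h, h.symm] at e1 e2
  exact ⟨e1, e2⟩

variable {F : Type*} [Field F]

/-- With cube roots of unity every non-scalar element of order three and determinant one has an
orbit basis. -/
theorem exists_orbit_three (h3 : (3 : F) ≠ 0) {ω : F} (hω : ω * ω + ω + 1 = 0)
    {T : Module.End F (Fin 3 → F)} (hT : T ^ 3 = 1) (hdet : LinearMap.det T = 1)
    (hns : ∀ z : F, T ≠ z • 1) :
    ∃ (b : Basis (Fin 3) F (Fin 3 → F)) (v : Fin 3 → F), ∀ j : Fin 3, b j = (T ^ (j : ℕ)) v := by
  classical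
  have hω3 : ω ^ 3 = 1 := by linear_combination (ω - 1) * hω
  have hω1 : ω ≠ 1 := fun h => h3 (by subst h; linear_combination hω)
  have hω0 : ω ≠ 0 := fun h => by subst h; simp at hω
  have hT' : ∀ w, T (T (T w)) = w := fun w => by
    have := LinearMap.congr_fun hT w
    simpa [pow_succ, Module.End.mul_apply] using this
  have hex : ∀ c : F, c ^ 3 = 1 → ∃ e, e ≠ 0 ∧ T e = c • e := by
    intro c hc
    by_contra hno
    push Not at hno
    have hc0 : c ≠ 0 := fun h => by subst h; simp at hc
    set a := c * ω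
    set b := c * (ω * ω)
    have hab : a - b ≠ 0 := by
      rw [show a - b = c * ω * (1 - ω) by ring]
      exact mul_ne_zero (mul_ne_zero hc0 hω0) (sub_ne_zero.2 hω1.symm)
    have hquad : ∀ w, T (T w) = (a + b) • T w - (a * b) • w := fun w => by
      by_contra hne
      refine hno _ (sub_ne_zero.2 hne) ?_
      have hab2 : a * b = c * c := by
        show c * ω * (c * (ω * ω)) = c * c
        linear_combination c * c * hω3
      have hsum : a + b = -c := by
        show c * ω + c * (ω * ω) = -c
        linear_combination c * hω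
      have hw : c ^ 3 • w = w := by rw [hc, one_smul]
      simp only [map_sub, map_smul, hT', hsum, hab2]
      linear_combination (norm := module) -hw
    let A := LinearMap.ker (T - a • (1 : Module.End F (Fin 3 → F)))
    let B := LinearMap.ker (T - b • (1 : Module.End F (Fin 3 → F)))
    have hA : ∀ y ∈ A, T y = a • y := fun y hy => by simpa [A, sub_eq_zero] using hy
    have hB : ∀ y ∈ B, T y = b • y := fun y hy => by simpa [B, sub_eq_zero] using hy
    have hAB : IsCompl A B := by
      constructor
      · rw [Submodule.disjoint_def]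
        intro y hy hy'
        have h := (hA y hy).symm.trans (hB y hy')
        exact (smul_eq_zero.1 (show (a - b) • y = 0 by rw [sub_smul, h, sub_self])).resolve_left hab
      · rw [codisjoint_iff, eq_top_iff]
        intro y _
        refine Submodule.mem_sup.2 ⟨(a - b)⁻¹ • (T y - b • y), ?_, (a - b)⁻¹ • (a • y - T y), ?_, ?_⟩
        · simp only [A, LinearMap.mem_ker, LinearMap.sub_apply, LinearMap.smul_apply, Module.End.one_apply,
            map_smul, map_sub, hquad]
          module
        · simp only [B, LinearMap.mem_ker, LinearMap.sub_apply, LinearMap.smul_apply, Module.End.one_apply,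
            map_smul, map_sub, hquad]
          module
        · rw [← smul_add, show T y - b • y + (a • y - T y) = (a - b) • y by module, smul_smul,
            inv_mul_cancel₀ hab, one_smul]
    let ψ := Submodule.prodEquivOfIsCompl A B hAB
    have hψT : T = ψ.conj (LinearMap.prodMap (a • (1 : Module.End F A)) (b • (1 : Module.End F B))) := by
      refine LinearMap.ext fun w => ?_
      obtain ⟨⟨y, y'⟩, rfl⟩ := ψ.surjective w
      simp [ψ, LinearEquiv.conj_apply, hA _ y.2, hB _ y'.2]
    have hd : LinearMap.det T = a ^ finrank F A * b ^ finrank F B := by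
      rw [hψT, LinearEquiv.conj_apply, LinearMap.comp_assoc, LinearMap.det_conj, LinearMap.det_prodMap,
        LinearMap.det_smul, LinearMap.det_smul, map_one, map_one, mul_one, mul_one]
    have hsum : finrank F A + finrank F B = 3 := by
      rw [Submodule.finrank_add_eq_of_isCompl hAB, finrank_fin_fun]
    have ha3 : a ^ 3 = 1 := by rw [mul_pow, hc, hω3, one_mul]
    have hb3 : b ^ 3 = 1 := by rw [mul_pow, mul_pow, hc, hω3, one_mul, one_mul]
    rw [hdet] at hd
    obtain hA0 | hA1 | hA2 | hA3 : finrank F A = 0 ∨ finrank F A = 1 ∨ finrank F A = 2 ∨ finrank F A = 3 := by omega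
    · refine hns b (LinearMap.ext fun w => ?_)
      have hw : w ∈ B := by
        rw [show B = ⊤ from by simpa [Submodule.finrank_eq_zero.1 hA0] using hAB.sup_eq_top]
        trivial
      simpa using hB w hw
    · rw [hA1, show finrank F B = 2 by omega, pow_one] at hd
      refine hab ?_
      have h2 : b = a := by linear_combination b * hd + a * hb3
      rw [h2, sub_self]
    · rw [hA2, show finrank F B = 1 by omega, pow_one] at hd
      refine hab ?_
      have h2 : a = b := by linear_combination a * hd + b * ha3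
      rw [h2, sub_self]
    · refine hns a (LinearMap.ext fun w => ?_)
      have hw : w ∈ A := by
        rw [show A = ⊤ from Submodule.eq_top_of_finrank_eq (hA3.trans (finrank_fin_fun F).symm)]
        trivial
      simpa using hA w hw
  obtain ⟨e0, he0, hT0⟩ := hex 1 (one_pow 3)
  obtain ⟨e1, he1, hT1⟩ := hex ω hω3
  obtain ⟨e2, he2, hT2⟩ := hex (ω * ω) (by rw [mul_pow, hω3, one_mul])
  set v := e0 + e1 + e2
  have hωω : ω * ω ≠ ω := fun h => hω1 (mul_right_cancel₀ hω0 (h.trans (one_mul ω).symm))
  have hω2 : ω * ω ≠ 1 := fun h => hω1 (by linear_combination hω3 - ω * h)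
  have hinj : Function.Injective ![(1 : F), ω, ω * ω] := by
    intro i j h
    fin_cases i <;> fin_cases j <;> simp [hω1, hω1.symm, hω2, hω2.symm, hωω, hωω.symm] at h ⊢
  have hli0 := Module.End.eigenvectors_linearIndependent' T ![(1 : F), ω, ω * ω] hinj ![e0, e1, e2]
    (fun i => by fin_cases i <;> simp [Module.End.hasEigenvector_iff, Module.End.mem_eigenspace_iff, *])
  have hli : LinearIndependent F (fun j : Fin 3 => (T ^ (j : ℕ)) v) := by
    rw [Fintype.linearIndependent_iff]
    intro g hg
    have h := Fintype.linearIndependent_iff.1 hli0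
      ![g 0 + g 1 + g 2, g 0 + g 1 * ω + g 2 * (ω * ω), g 0 + g 1 * (ω * ω) + g 2 * ω] (by
        rw [Fin.sum_univ_three] at hg ⊢
        simp [pow_two, v, hT0, hT1, hT2, smul_smul] at hg ⊢
        rw [show ω * ω * (ω * ω) = ω by linear_combination ω * hω3] at hg
        rw [← hg]
        module)
    have f0 := h 0
    have f1 := h 1
    have f2 := h 2
    simp at f0 f1 f2
    have g0 : g 0 = 0 := (mul_eq_zero.1 (show (3 : F) * g 0 = 0 by
      linear_combination f0 + f1 + f2 - (g 1 + g 2) * hω)).resolve_left h3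
    have g12 : g 1 * (ω - ω * ω) = g 2 * (ω - ω * ω) := by linear_combination f1 - f2
    have g12' : g 1 = g 2 := mul_right_cancel₀ (sub_ne_zero.2 hωω.symm) g12
    have g1 : g 1 = 0 := by linear_combination -f1 + g0 + (g 1) * hω - (ω * ω) * g12'
    intro j
    fin_cases j
    · exact g0
    · exact g1
    · exact g12'.symm.trans g1
  exact ⟨basisOfLinearIndependentOfCardEqFinrank hli (by simp), v, fun j => by
    rw [coe_basisOfLinearIndependentOfCardEqFinrank]⟩


/-- Elements of order 3 of PSL_3(q) and the normalizer of a Singer cycle. Here `T = PSL_n(F)` for a field `F` with `q = p^f` elements (`n ≥ 2`, `(n, q) ≠ (2, 2), (2, 3)`), `k` is a prime dividing `n`, `K` is a subalgebra of the `n × n` matrices that is a field of degree `k` over `F` (an extension-field structure F_{q^k} on `F^n`), and `H` is the subgroup of matrices of determinant 1 normalizing `K` — a subgroup of type GL_{n/k}(q^k) (maximal except in some small cases; maximality is not assumed); Ω is the set of cosets of `H` in `T`, so an element of `T` of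 prime order `r` (a matrix `x` of determinant 1 with `x^r` scalar, `x` not scalar) fixes a point of Ω when some conjugate of `x` by a matrix of determinant 1 normalizes `K`. Take `n = k = 3` and suppose 3 divides the index of `H`. Then every element of `T` of order 3 is conjugate in `T` into `H` if and only if `q ≡ 4, 7` or `8 (mod 9)`. -/
theorem result {F : Type*} [Field F] [Fintype F] {p : ℕ} [Fact p.Prime] [CharP F p] {q : ℕ} (hq : Fintype.card F = q)
    (n : ℕ) (hn : n = 3) (k : ℕ) (hk : k.Prime) (hkn : k ∣ n) (K : Subalgebra F (Matrix (Fin n) (Fin n) F)) (hK : Cfsg.Geo.IsFieldSubalgebra k K) (hk3 : k = 3) (hΩ : 3 ∣ ((Cfsg.Geo.subalgebraNormalizer K).comap (Matrix.SpecialLinearGroup.toGL : Matrix.SpecialLinearGroup (Fin n) F →* GL (Fin n) F)).index) :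
    (∀ x : Matrix.SpecialLinearGroup (Fin n) F,
      (∃ z : F, ((x ^ 3 : Matrix.SpecialLinearGroup (Fin n) F) : Matrix (Fin n) (Fin n) F) = z • (1 : Matrix (Fin n) (Fin n) F)) →
      (∀ z : F, (x : Matrix (Fin n) (Fin n) F) ≠ z • (1 : Matrix (Fin n) (Fin n) F)) →
      ∃ P : Matrix.SpecialLinearGroup (Fin n) F, P⁻¹ * x * P ∈ ((Cfsg.Geo.subalgebraNormalizer K).comap (Matrix.SpecialLinearGroup.toGL : Matrix.SpecialLinearGroup (Fin n) F →* GL (Fin n) F))) ↔
    (q % 9 = 4 ∨ q % 9 = 7 ∨ q % 9 = 8) := by
  classical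
  subst hq
  subst hk3
  subst hn
  haveI : Fact (Nat.Prime 3) := ⟨Nat.prime_three⟩
  set q := Fintype.card F with hqdef
  have hq1 : 1 < q := Fintype.one_lt_card
  have hmem : ∀ x : Matrix.SpecialLinearGroup (Fin 3) F, ∀ c : F,
      (c • (x : Matrix (Fin 3) (Fin 3) F)) ^ 3 = 1 → (∀ z : F, (x : Matrix (Fin 3) (Fin 3) F) ≠ z • 1) →
      2 ≤ finrank F (LinearMap.ker (Matrix.toLin' (c • (x : Matrix (Fin 3) (Fin 3) F)) - 1)) →
      ∀ P, ¬ P⁻¹ * x * P ∈ (Cfsg.Geo.subalgebraNormalizer K).comap Matrix.SpecialLinearGroup.toGL := by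
    intro x c hx hns hker P hP
    have := Singer.fixed_le_one_of_conj hK hx hns hP
    omega
  have hroot : ∀ w : F, w ^ 3 = 1 → w ≠ 1 → 3 ∣ q - 1 := fun w hw hw1 => by
    have hw0 : w ≠ 0 := fun h => by subst h; simp at hw
    rw [← orderOf_eq_prime hw hw1]
    exact orderOf_dvd_of_pow_eq_one (FiniteField.pow_card_sub_one_eq_one w hw0)
  have hcases : q % 9 = 0 ∨ q % 9 = 3 ∨ q % 9 = 6 ∨ q % 9 = 1 ∨ q % 9 = 2 ∨ q % 9 = 5 ∨
      (q % 9 = 4 ∨ q % 9 = 7 ∨ q % 9 = 8) := by omega
  constructor
  · intro hall
    let i₀ : Fin 3 := 0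
    let i₁ : Fin 3 := 1
    let i₂ : Fin 3 := 2
    have hp3 : 3 ∣ q → (3 : F) = 0 := fun h => by
      obtain ⟨m, -, hm⟩ := FiniteField.card F p
      rw [hqdef, hm] at h
      have := (Nat.prime_dvd_prime_iff_eq Nat.prime_three (Fact.out : p.Prime)).1
        (Nat.prime_three.dvd_of_dvd_pow h)
      subst this
      exact_mod_cast CharP.cast_eq_zero F 3
    by_contra hne
    obtain h | h : 3 ∣ q ∨ q % 9 = 1 ∨ q % 9 = 2 ∨ q % 9 = 5 := by omega
    · have h3 := hp3 h
      let x : Matrix.SpecialLinearGroup (Fin 3) F :=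
        ⟨Matrix.transvection i₀ i₁ 1, Matrix.det_transvection_of_ne _ _ (by decide) _⟩
      have hx : (x : Matrix (Fin 3) (Fin 3) F) ^ 3 = 1 := by
        show Matrix.transvection i₀ i₁ (1 : F) ^ 3 = 1
        rw [pow_succ, pow_two, Matrix.transvection_mul_transvection_same (i := i₀) (j := i₁) (by decide),
          Matrix.transvection_mul_transvection_same (i := i₀) (j := i₁) (by decide),
          show (1 : F) + 1 + 1 = 3 by norm_num, h3, Matrix.transvection_zero]
      have hns : ∀ z : F, (x : Matrix (Fin 3) (Fin 3) F) ≠ z • 1 := fun z hz => by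
        have := congrFun (congrFun hz i₀) i₁
        simp [x, i₀, i₁, Matrix.transvection] at this
      obtain ⟨P, hP⟩ := hall x ⟨1, by rw [Matrix.SpecialLinearGroup.coe_pow x 3 |>.trans hx, one_smul]⟩ hns
      refine hmem x 1 (by rw [one_smul, hx]) hns ?_ P hP
      rw [one_smul]
      refine Singer.two_le_finrank_ker (single_pair_li (show i₀ ≠ i₂ by decide)) ?_ ?_ <;>
        · funext j
          fin_cases j <;> simp [x, i₀, i₁, i₂, Matrix.transvection]
    rcases h with h | h
    · -- a ninth root of unity
      have h9 : 9 ∣ q - 1 := by omega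
      obtain ⟨g, hg⟩ := IsCyclic.exists_ofOrder_eq_natCard (α := Fˣ)
      rw [Nat.card_eq_fintype_card, Fintype.card_units] at hg
      obtain ⟨t, ht⟩ := h9
      have ht0 : t ≠ 0 := fun h0 => by subst h0; omega
      set u : Fˣ := g ^ t
      have hu : orderOf u = 9 := by
        rw [orderOf_pow' g ht0, hg, ← hqdef, ht, Nat.gcd_mul_left_left,
          Nat.mul_div_cancel _ (Nat.pos_of_ne_zero ht0)]
      let w : F := (u : F)
      have hw9 : w ^ 9 = 1 := by
        show (u : F) ^ 9 = 1
        rw [← Units.val_pow_eq_pow_val, ← hu, pow_orderOf_eq_one, Units.val_one]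
      have hw3 : w ^ 3 ≠ 1 := fun h' => by
        have h'' : u ^ 3 = 1 := Units.ext (by rw [Units.val_pow_eq_pow_val]; exact h')
        have := Nat.le_of_dvd (by norm_num) (hu ▸ orderOf_dvd_of_pow_eq_one h'')
        omega
      have hw0 : w ≠ 0 := Units.ne_zero u
      let s : Fin 3 → F := ![w, w, (w ^ 2)⁻¹]
      let x : Matrix.SpecialLinearGroup (Fin 3) F := ⟨Matrix.diagonal s, by
        rw [Matrix.det_diagonal, Fin.prod_univ_three]
        simp [s]
        field_simp⟩
      have hx3 : (x : Matrix (Fin 3) (Fin 3) F) ^ 3 = (w ^ 3) • 1 := by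
        show Matrix.diagonal s ^ 3 = _
        rw [Matrix.diagonal_pow, Matrix.smul_one_eq_diagonal]
        congr 1
        funext j
        fin_cases j
        · simp [s]
        · simp [s]
        · simp [s, ← pow_mul]
          field_simp
          linear_combination -hw9
      have hns : ∀ z : F, (x : Matrix (Fin 3) (Fin 3) F) ≠ z • 1 := fun z hz => by
        change Matrix.diagonal s = _ at hz
        have e0 := congrFun (congrFun hz i₀) i₀
        have e2 := congrFun (congrFun hz i₂) i₂
        simp [s, i₀, i₂] at e0 e2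
        refine hw3 ?_
        rw [← e0] at e2
        field_simp at e2
        linear_combination -e2
      obtain ⟨P, hP⟩ := hall x ⟨w ^ 3, by rw [Matrix.SpecialLinearGroup.coe_pow x 3 |>.trans hx3]⟩ hns
      refine hmem x w⁻¹ (by rw [smul_pow, hx3, smul_smul, inv_pow, inv_mul_cancel₀ (pow_ne_zero _ hw0), one_smul])
        hns ?_ P hP
      refine Singer.two_le_finrank_ker (single_pair_li (show i₀ ≠ i₁ by decide)) ?_ ?_ <;>
        · funext j
          fin_cases j <;> simp [x, s, i₀, i₁, hw0]
    · -- the index is prime to three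
      obtain ⟨S, hS, hSns, hSK, -⟩ := Singer.exists_semilinear hK
      have hdet : S.det = 1 := by
        by_contra h1
        have := hroot S.det (by rw [← Matrix.det_pow, hS, Matrix.det_one]) h1
        omega
      let y : Matrix.SpecialLinearGroup (Fin 3) F := ⟨S, hdet⟩
      have hy : y ∈ (Cfsg.Geo.subalgebraNormalizer K).comap Matrix.SpecialLinearGroup.toGL :=
        Singer.mem_normalizer_of_intertwine hSK
      have hord : orderOf y = 3 := orderOf_eq_prime
        (Subtype.ext ((Matrix.SpecialLinearGroup.coe_pow y 3).trans hS))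
        (fun h' => hSns 1 (by rw [one_smul]; exact congrArg Subtype.val h'))
      have h9 : 9 ∣ Nat.card (Matrix.SpecialLinearGroup (Fin 3) F) := by
        have h3 : 3 ∣ Nat.card ((Cfsg.Geo.subalgebraNormalizer K).comap
            (Matrix.SpecialLinearGroup.toGL : Matrix.SpecialLinearGroup (Fin 3) F →* GL (Fin 3) F)) :=
          by
            have h' := orderOf_dvd_natCard (⟨y, hy⟩ : ↥((Cfsg.Geo.subalgebraNormalizer K).comap
              (Matrix.SpecialLinearGroup.toGL : Matrix.SpecialLinearGroup (Fin 3) F →* GL (Fin 3) F)))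
            rwa [Subgroup.orderOf_mk, hord] at h'
        rw [← Subgroup.card_mul_index ((Cfsg.Geo.subalgebraNormalizer K).comap
          (Matrix.SpecialLinearGroup.toGL : Matrix.SpecialLinearGroup (Fin 3) F →* GL (Fin 3) F))]
        exact Nat.mul_dvd_mul h3 hΩ
      have hcard := CfsgLib.Linear.card_SL_mul (F := F) 3 (by norm_num)
      rw [← hqdef, Fin.prod_univ_three] at hcard
      simp only [Fin.val_zero, Fin.val_one, Fin.val_two, pow_zero, pow_one] at hcard
      have h9' : 9 ∣ (q ^ 3 - 1) * (q ^ 3 - q) * (q ^ 3 - q ^ 2) := hcard ▸ h9.mul_left _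
      have hz : ((((q ^ 3 - 1) * (q ^ 3 - q) * (q ^ 3 - q ^ 2) : ℕ)) : ZMod 9) = 0 :=
        (CharP.cast_eq_zero_iff (ZMod 9) 9 _).2 h9'
      rw [Nat.cast_mul, Nat.cast_mul, Nat.cast_sub (Nat.one_le_pow _ _ (by omega)),
        Nat.cast_sub (Nat.le_self_pow (by norm_num) _), Nat.cast_sub (Nat.pow_le_pow_right (by omega) (by norm_num)),
        Nat.cast_pow, Nat.cast_pow, Nat.cast_one, ← ZMod.natCast_mod q 9] at hz
      rcases h with h | h <;> rw [h] at hz <;> revert hz <;> decide
  · intro hR x hx hns
    obtain ⟨z, hz⟩ := hx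
    rw [Matrix.SpecialLinearGroup.coe_pow x 3 |>.trans rfl] at hz
    have hz3 : z ^ 3 = 1 := by
      have h := congrArg Matrix.det hz
      rw [Matrix.det_pow, x.2, one_pow, Matrix.det_smul, Matrix.det_one, mul_one, Fintype.card_fin] at h
      exact h.symm
    have hz1 : z = 1 := by
      by_contra hne
      have h3 := hroot z hz3 hne
      by_cases hpow : ∃ w : F, w ^ 3 = z
      · obtain ⟨w, hw⟩ := hpow
        have hw0 : w ≠ 0 := fun h => by rw [h, zero_pow (by norm_num)] at hw; rw [← hw, zero_pow (by norm_num)] at hz3; exact zero_ne_one hz3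
        have hord : orderOf w = 3 ^ (1 + 1) := orderOf_eq_prime_pow (by rw [pow_one, hw]; exact hne)
          (by rw [pow_succ 3, pow_one, pow_mul, hw, hz3])
        have := orderOf_dvd_of_pow_eq_one (FiniteField.pow_card_sub_one_eq_one w hw0)
        rw [hord, ← hqdef] at this
        norm_num at this
        omega
      · push Not at hpow
        obtain ⟨-, hd⟩ := det_of_pow_eq_nonpower (r := 3) hpow hz
        rw [x.2] at hd
        norm_num at hd
        exact hne hd.symm
    rw [hz1, one_smul] at hz
    have hT := toLin'_pow_one hz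
    have h3 : (3 : F) ≠ 0 := fun h => by
      have hp : p = 3 := by
        have h' : ((3 : ℕ) : F) = 0 := by exact_mod_cast h
        exact (Nat.prime_dvd_prime_iff_eq Fact.out Nat.prime_three).1 ((CharP.cast_eq_zero_iff F p 3).1 h')
      obtain ⟨m, -, hm⟩ := FiniteField.card F p
      have : 3 ∣ q := by rw [hqdef, hm, hp]; exact dvd_pow_self 3 m.ne_zero
      omega
    have hT1 : Matrix.toLin' (x : Matrix (Fin 3) (Fin 3) F) ≠ 1 := fun h => hns 1 (by
      rw [one_smul]; exact Matrix.toLin'.injective (by rw [h, Matrix.toLin'_one]; rfl))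
    obtain ⟨b, v, hb⟩ : ∃ (b : Basis (Fin 3) F (Fin 3 → F)) (v : Fin 3 → F),
        ∀ j : Fin 3, b j = (Matrix.toLin' (x : Matrix (Fin 3) (Fin 3) F) ^ (j : ℕ)) v := by
      by_cases h8 : q % 3 = 1
      · obtain ⟨u, hu⟩ := exists_prime_orderOf_dvd_card (G := Fˣ) 3 (by rw [Fintype.card_units]; omega)
        have hu3 : ((u : F)) ^ 3 = 1 := by
          rw [← Units.val_pow_eq_pow_val, ← hu, pow_orderOf_eq_one, Units.val_one]
        have hu1 : (u : F) ≠ 1 := fun h' => by
          have : u = 1 := Units.ext h'
          rw [this, orderOf_one] at hu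
          norm_num at hu
        refine exists_orbit_three h3 (ω := (u : F)) ?_ hT (by rw [LinearMap.det_toLin', x.2]) fun z hz' => hns z ?_
        · exact (mul_eq_zero.1 (show ((u : F) - 1) * ((u : F) * u + u + 1) = 0 by linear_combination hu3)).resolve_left
            (sub_ne_zero.2 hu1)
        · apply Matrix.toLin'.injective
          rw [hz', map_smul, Matrix.toLin'_one]; rfl
      · have hi : orderOf (q : ZMod 3) = 3 - 1 := by
          rw [← ZMod.natCast_mod q 3, show q % 3 = 2 by omega]
          haveI : Fact (Nat.Prime 2) := ⟨Nat.prime_two⟩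
          exact orderOf_eq_prime (show ((2 : ℕ) : ZMod 3) ^ 2 = 1 from rfl) (by rw [Ne, ← Nat.cast_one, ZMod.natCast_eq_natCast_iff']; norm_num)
        exact Singer.exists_orbit_basis (by norm_num) (by exact_mod_cast h3) hi hT hT1
    exact Singer.exists_conj_mem hK (by exact_mod_cast h3) hT b hb

end Cfsg.Agent.S5971
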