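import Cfsg.Statements.S5972
import Cfsg.Agent.Lib.PrimeFix.OrthPrime
import Cfsg.Agent.Lib.PrimeFix.OrthTwo
-- import your own Cfsg.Agent.* helpers here

set_option autoImplicit false
open scoped MatrixGroups
open Cfsg

namespace Cfsg.Agent.S5972

open Module CfsgLib.PrimeFix.Quad
open CfsgLib.OrthCrit (oddForm)

theorem crit_iff {n i t m : ℕ} :
    Crit n 1 i t m ↔ i ≤ m ∧ 2 * (m % i) < n % (if Even i then i else 2 * i) ∧
      (Odd i ∨ t + 2 * (m / i) ≤ n / i) := by
  have hd : ∀ a, altDefect 1 a = 1 := fun a => by unfold altDefect; split_ifs <;> rfl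
  unfold Crit
  rw [hd]
  rcases Nat.even_or_odd i with he | ho
  · simp only [he, Nat.not_odd_iff_even.2 he, if_true, false_and, false_or, true_and]
    omega
  · simp only [ho, Nat.not_even_iff_odd.2 ho, if_false, false_and, or_false, true_and, true_or, and_true]
    omega

/-- Elements of prime order of Ω_n(q), n = 2d+1 ≥ 7, q odd, with no fixed totally singular `m`-space. Here `T = Ω_n(q)` is realised as the commutator subgroup of the isometry group of the quadratic form `x₀² + Σ xᵢyᵢ` over the field `F` with `q` elements (it has trivial centre, so its elements of prime order `r` are used directly); let `1 ≤ m ≤ d` and let `r` be a prime dividing the number of totally singular `m`-spaces. For `r ≠ p` let `i` be the multiplicative order of `q` modulo `r`, `c = i` for `i` even and `c = 2i` for `i` odd, and write `k = n mod c`, `ℓ = m mod i`, `n' = ⌊n/i⌋`, `m' = ⌊m/i⌋`, `t = (r−1)/i`. Then every element of `T` of order `r` fixes some totally singular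 `m`-space if and only if either (i) `r = 2` and (`m < (n−1)/2` or `q ≡ 1 (mod 4)`); or (ii) `r ≠ p` is odd, `i ≤ m`, `k > 2ℓ`, and (`i` is odd or `n' − 2m' ≥ t`). -/
theorem result {F : Type*} [Field F] [Fintype F] {p : ℕ} [Fact p.Prime] [CharP F p] {q : ℕ} (hq : Fintype.card F = q) (hqodd : Odd q)
    (d m : ℕ) (hd : 3 ≤ d) (hm : 1 ≤ m) (hmd : m ≤ d)
    (r : ℕ) [Fact r.Prime]
    (hrΩ : r ∣ Nat.card {W : Submodule F (Unit ⊕ (Fin d ⊕ Fin d) → F) // Module.finrank F ↥W = m ∧ (∀ w ∈ W, Cfsg.quadFormOdd d F w = 0)})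
    (i c : ℕ) (hi : i = orderOf (q : ZMod r)) (hc : c = if Even i then i else 2 * i) :
    (∀ x : GL (Unit ⊕ (Fin d ⊕ Fin d)) F, x ∈ Cfsg.Geo.omegaGL (Cfsg.quadFormOdd d F) → orderOf x = r →
      ∃ W : Submodule F (Unit ⊕ (Fin d ⊕ Fin d) → F), Module.finrank F ↥W = m ∧ (∀ w ∈ W, Cfsg.quadFormOdd d F w = 0) ∧
        W.map (Matrix.toLin' (x : Matrix (Unit ⊕ (Fin d ⊕ Fin d)) (Unit ⊕ (Fin d ⊕ Fin d)) F)) ≤ W) ↔
    ((r = 2 ∧ (m < d ∨ q % 4 = 1)) ∨
     (r ≠ p ∧ 2 < r ∧ i ≤ m ∧ 2 * (m % i) < (2 * d + 1) % c ∧ (Odd i ∨ (r - 1) / i + 2 * (m / i) ≤ (2 * d + 1) / i))) := by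
  classical
  subst hq
  have hcodd : Fintype.card F % 2 = 1 := Nat.odd_iff.1 hqodd
  have h2 : (2 : F) ≠ 0 := by
    intro h
    have hch := CharTwo.of_one_ne_zero_of_two_eq_zero (R := F) one_ne_zero h
    obtain ⟨n, -, hn⟩ := FiniteField.card F 2
    rw [hn, Nat.pow_mod] at hcodd
    simp at hcodd
  have hnd := CfsgLib.OrthCrit.ndPolar_oddForm (F := F) h2 d
  have hι : Fintype.card (Unit ⊕ (Fin d ⊕ Fin d)) = 2 * d + 1 := by simp; ring
  have hfr : finrank F (Unit ⊕ (Fin d ⊕ Fin d) → F) = 2 * d + 1 := by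
    rw [Module.finrank_fintype_fun_eq_card, hι]
  have hdef : defect (oddForm d F) = 1 := defect_of_odd ⟨d, hfr⟩
  have hK : finrank F (Unit ⊕ (Fin d ⊕ Fin d) → F) = 2 * d + defect (oddForm d F) := by rw [hdef, hfr]
  have hrp : r ≠ p := by
    rintro rfl
    exact not_char_dvd hnd hK hmd (Or.inr (by omega)) hrΩ
  have h2' : (2 : F) ≠ 0 := h2
  haveI : Nonempty (Unit ⊕ (Fin d ⊕ Fin d)) := ⟨Sum.inl ()⟩
  by_cases hr2 : r = 2
  · subst hr2
    constructor
    · intro hall
      refine Or.inl ⟨rfl, ?_⟩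
      by_contra hcon
      push Not at hcon
      obtain ⟨hmd', hq4⟩ := hcon
      have hns : ¬ IsSquare (-1 : F) := by
        rw [FiniteField.isSquare_neg_one_iff]; omega
      obtain ⟨g, hg, hgg, hgns, hgW⟩ := exists_bad_invol h2 hnd hns (by omega) (by omega)
      obtain ⟨W, hWm, hWs, hW⟩ := hall g.1 ⟨g, hg, rfl⟩ (orderOf_eq_prime
        (by rw [pow_two, ← Subgroup.coe_mul, hgg]; rfl)
        (fun h1 => by
          obtain ⟨v, hv⟩ := hgns 1
          apply hv
          rw [show g = 1 from Subtype.ext h1, CfsgLib.OrthSpinor.act_one, one_smul]))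
      have := hgW W (fun w hw => hW ⟨w, hw, Matrix.toLin'_apply _ w⟩) hWs
      omega
    · rintro (⟨-, hcase⟩ | ⟨-, h, -⟩)
      swap
      · exact absurd h (lt_irrefl _)
      rintro x hx hord
      obtain ⟨g, hg, rfl⟩ := (hx : x ∈ Geo.omegaGL ⇑(oddForm d F))
      have hgg : ∀ v, CfsgLib.OrthSpinor.act (oddForm d F) g (CfsgLib.OrthSpinor.act (oddForm d F) g v) = v := fun v => by
        have h1 : g * g = 1 := Subtype.ext (by
          have := pow_orderOf_eq_one (g : GL (Unit ⊕ (Fin d ⊕ Fin d)) F)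
          rw [show orderOf (g : GL (Unit ⊕ (Fin d ⊕ Fin d)) F) = 2 from hord, pow_two] at this
          exact this)
        exact ((CfsgLib.OrthSpinor.act_mul (oddForm d F) g g v).symm.trans
          (congrArg (fun h => CfsgLib.OrthSpinor.act (oddForm d F) h v) h1)).trans (CfsgLib.OrthSpinor.act_one _ v)
      obtain ⟨W, hW1, hW2, hW3⟩ := exists_of_invol h2 hnd g hg (by omega) hgg (m := m) (by omega) (by
        rcases hcase with h | h
        · exact Or.inr (Or.inr (by omega))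
        · exact Or.inl (FiniteField.isSquare_neg_one_iff.2 (by omega)))
      refine ⟨W, hW1, hW2, ?_⟩
      rintro _ ⟨w, hw, rfl⟩
      rw [Matrix.toLin'_apply]
      exact hW3 w hw
  have hr3 : 2 < r := lt_of_le_of_ne (Fact.out : r.Prime).two_le (Ne.symm hr2)
  have hcrit := crit_iff (n := 2 * d + 1) (i := i) (t := (r - 1) / i) (m := m)
  rw [← hc] at hcrit
  constructor
  · intro hall
    refine Or.inr ⟨hrp, hr3, ?_⟩
    by_contra hcond
    obtain ⟨T, hT, hTr, hTns, hTU⟩ := exists_witness (p := p) hrp hr2 hnd (fun _ => h2) hK hi hmd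
      (Or.inr (by omega)) hrΩ (by rw [hdef, hfr]; exact fun h => hcond (hcrit.1 h))
    obtain ⟨x, hx, hxr, hxT⟩ := exists_omega hnd (CfsgLib.OrthCrit.regular_of_two_ne_zero h2') (by omega) T hT
      ((Fact.out : r.Prime).odd_of_ne_two hr2) hTr
    obtain ⟨W, hWm, hWs, hW⟩ := hall x hx (orderOf_eq_prime hxr fun h1 => by
      obtain ⟨v, hv⟩ := hTns 1
      apply hv
      rw [← hxT, h1, one_smul, Units.val_one, Matrix.toLin'_one]; rfl)
    exact hTU W (fun w hw => hxT ▸ hW ⟨w, hw, rfl⟩) hWs hWm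
  · rintro (⟨h, -⟩ | ⟨-, -, hcond⟩)
    · exact absurd h hr2
    intro x hx hord
    obtain ⟨W, hW1, hW2, hW3⟩ := exists_of_crit (p := p) hrp hr2 hnd _ (toLin_isometry (Q := oddForm d F) hx)
      (by rw [toLin_pow, ← hord, pow_orderOf_eq_one, Units.val_one, Matrix.toLin'_one]; rfl) hi
      (m := m) (by omega) (by rw [hdef, hfr]; exact hcrit.2 hcond)
    refine ⟨W, hW1, hW2, ?_⟩
    rintro _ ⟨w, hw, rfl⟩
    exact hW3 w hw

end Cfsg.Agent.S5972
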