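import Cfsg.Statements.S5973
import Cfsg.Agent.Lib.PrimeFix.OrthPrime
import Cfsg.Agent.Lib.PrimeFix.OrthTwo
-- import your own Cfsg.Agent.* helpers here

set_option autoImplicit false
open scoped MatrixGroups
open Cfsg

namespace Cfsg.Agent.S5973

open Module CfsgLib.PrimeFix.Quad
open CfsgLib.OrthCrit (plusForm)

theorem crit_iff {d i t m : ℕ} :
    Crit (2 * d) 0 i t m ↔
      (Odd i ∧ i ≤ m ∧ 2 * (m % i) ≤ (2 * d) % (if Even i then i else 2 * i)) ∨
      (Even i ∧ i ≤ m ∧ t + 2 * (m / i) ≤ (2 * d) / i ∧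
       ((2 * (m % i) ≤ i ∧ (2 * d) % (if Even i then i else 2 * i) = 0 ∧ Odd ((2 * d) / i) ∧
          t + 2 * (m / i) < (2 * d) / i) ∨
        (2 * (m % i) ≤ (2 * d) % (if Even i then i else 2 * i) ∧ Even ((2 * d) / i)) ∨
        (2 * (m % i) < (2 * d) % (if Even i then i else 2 * i) ∧ Odd ((2 * d) / i)))) := by
  unfold Crit
  rcases Nat.even_or_odd i with he | ho
  · obtain ⟨h, hh⟩ := he
    have he : Even i := ⟨h, hh⟩
    have hk : (2 * d) % i % 2 = 0 := by
      rw [Nat.mod_mod_of_dvd _ ⟨h, by omega⟩]; omega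
    simp only [he, Nat.not_odd_iff_even.2 he, if_true, false_and, false_or, true_and, altDefect, Nat.odd_iff,
      Nat.even_iff]
    split_ifs with hN <;> simp only [hN, true_and, and_true, false_and, and_false, false_or, or_false, add_zero, zero_ne_one] <;>
      constructor <;> intro h' <;> omega
  · simp only [ho, Nat.not_even_iff_odd.2 ho, if_false, false_and, or_false, true_and]
    omega

/-- Elements of prime order of PΩ⁺_n(q), n = 2d ≥ 8, with no fixed totally singular `m`-space, `m < n/2`. Here `T = PΩ⁺_n(q)` is realised through `Ω⁺_n(q)`, the commutator subgroup of the isometry group of the quadratic form `Σ xᵢyᵢ` over the field `F` with `q` elements; an element of `T` of prime order `r` is an element `x` of `Ω⁺_n(q)` with `x^r` scalar and `x` not scalar. Let `1 ≤ m < d` and let `r` be a prime dividing the number of totally singular `m`-spaces. For `r ≠ p` let `i` be the multiplicative order of `q` modulo `r`, `c = i` for `i` even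 and `c = 2i` for `i` odd, and write `k = n mod c`, `ℓ = m mod i`, `n' = ⌊n/i⌋`, `m' = ⌊m/i⌋`, `t = (r−1)/i`. Then every element of `T` of order `r` fixes some totally singular `m`-space if and only if one of: (i) `r = 2 ≠ p` and either `q ≡ 1 (mod 4)`, or `q ≡ 3 (mod 4)`, `m ≤ n/2 − 2` and (`m` even or `n ≡ 2 (mod 4)`); (ii) `r ≠ p` odd, `i` odd, `i ≤ m` and `k ≥ 2ℓ`; (iii) `r ≠ p` odd, `i` even, `i ≤ m`, `n' − 2m' ≥ t`, and one of: `i ≥ 2ℓ`, `k = 0`, `n/i` odd and `n' − 2m' > t`; or `k ≥ 2ℓ` and `n'` even; or `k > 2ℓ` and `n'` odd. -/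
theorem result {F : Type*} [Field F] [Fintype F] {p : ℕ} [Fact p.Prime] [CharP F p] {q : ℕ} (hq : Fintype.card F = q)
    (d m : ℕ) (hd : 4 ≤ d) (hm : 1 ≤ m) (hmd : m < d)
    (r : ℕ) [Fact r.Prime]
    (hrΩ : r ∣ Nat.card {W : Submodule F (Fin d ⊕ Fin d → F) // Module.finrank F ↥W = m ∧ (∀ w ∈ W, Cfsg.quadFormPlus d F w = 0)})
    (i c : ℕ) (hi : i = orderOf (q : ZMod r)) (hc : c = if Even i then i else 2 * i) :
    (∀ x : GL (Fin d ⊕ Fin d) F, x ∈ Cfsg.Geo.omegaGL (Cfsg.quadFormPlus d F) →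
      (∃ z : F, ((x ^ r : GL (Fin d ⊕ Fin d) F) : Matrix (Fin d ⊕ Fin d) (Fin d ⊕ Fin d) F) = z • (1 : Matrix (Fin d ⊕ Fin d) (Fin d ⊕ Fin d) F)) →
      (∀ z : F, (x : Matrix (Fin d ⊕ Fin d) (Fin d ⊕ Fin d) F) ≠ z • (1 : Matrix (Fin d ⊕ Fin d) (Fin d ⊕ Fin d) F)) →
      ∃ W : Submodule F (Fin d ⊕ Fin d → F), Module.finrank F ↥W = m ∧ (∀ w ∈ W, Cfsg.quadFormPlus d F w = 0) ∧
        W.map (Matrix.toLin' (x : Matrix (Fin d ⊕ Fin d) (Fin d ⊕ Fin d) F)) ≤ W) ↔
    ((r = 2 ∧ p ≠ 2 ∧ (q % 4 = 1 ∨ (q % 4 = 3 ∧ m + 2 ≤ d ∧ (Even m ∨ (2 * d) % 4 = 2)))) ∨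
     (r ≠ p ∧ 2 < r ∧ Odd i ∧ i ≤ m ∧ 2 * (m % i) ≤ (2 * d) % c) ∨
     (r ≠ p ∧ 2 < r ∧ Even i ∧ i ≤ m ∧ (r - 1) / i + 2 * (m / i) ≤ (2 * d) / i ∧
       ((2 * (m % i) ≤ i ∧ (2 * d) % c = 0 ∧ Odd ((2 * d) / i) ∧ (r - 1) / i + 2 * (m / i) < (2 * d) / i) ∨
        (2 * (m % i) ≤ (2 * d) % c ∧ Even ((2 * d) / i)) ∨
        (2 * (m % i) < (2 * d) % c ∧ Odd ((2 * d) / i))))) := by
  classical
  subst hq
  have hnd := CfsgLib.OrthCrit.ndPolar_plusForm (F := F) d
  have hι : Fintype.card (Fin d ⊕ Fin d) = 2 * d := by simp; ring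
  have hfr : finrank F (Fin d ⊕ Fin d → F) = 2 * d := by rw [Module.finrank_fintype_fun_eq_card, hι]
  have hp0 : CfsgLib.RootCount.IsPlus (plusForm d F) := ⟨CfsgLib.OrthCrit.halfSpace F d,
    CfsgLib.OrthCrit.halfSpace_singular, by rw [CfsgLib.OrthCrit.finrank_halfSpace, hfr]⟩
  have hdef : defect (plusForm d F) = 0 := defect_of_plus hp0
  have hK : finrank F (Fin d ⊕ Fin d → F) = 2 * d + defect (plusForm d F) := by rw [hdef, hfr, add_zero]
  have hreg := CfsgLib.OrthCrit.regular_of_card (F := F) hι (Or.inr (by omega))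
  have hrp : r ≠ p := by
    rintro rfl
    exact not_char_dvd hnd hK hmd.le (Or.inl hmd) hrΩ
  haveI : Nonempty (Fin d ⊕ Fin d) := ⟨Sum.inl ⟨0, by omega⟩⟩
  by_cases hr2 : r = 2
  · subst hr2
    have hp2 : p ≠ 2 := fun h => hrp h.symm
    have hchar : ringChar F ≠ 2 := by rw [ringChar.eq F p]; exact hp2
    have h2 : (2 : F) ≠ 0 := Ring.two_ne_zero hchar
    have hcodd := FiniteField.odd_card_of_char_ne_two hchar
    constructor
    · intro hall
      refine Or.inl ⟨rfl, hp2, ?_⟩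
      by_contra hcon
      push Not at hcon
      obtain ⟨hq1, hq3⟩ := hcon
      have hns : ¬ IsSquare (-1 : F) := by
        rw [FiniteField.isSquare_neg_one_iff]; omega
      by_cases hm2 : m + 2 ≤ d
      · obtain ⟨hmodd, hd2⟩ := hq3 (by omega) hm2
        have hde : Even d := Nat.even_iff.2 (by omega)
        obtain ⟨g, hg, hgg⟩ := exists_complex h2 hnd hns hι (by omega) (iff_of_true hp0 hde) (Or.inl hde)
        obtain ⟨W, hWm, -, hW⟩ := hall g.1 ⟨g, hg, rfl⟩ ⟨-1, Matrix.ext_iff_mulVec.mpr fun v => by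
            rw [pow_two, Units.val_mul, ← Matrix.mulVec_mulVec, Matrix.smul_mulVec, Matrix.one_mulVec, neg_one_smul]
            exact hgg v⟩
          (fun z hz => by
            obtain ⟨v, hv⟩ := CfsgLib.OrthCrit.exists_Q_ne_zero hnd
            have hv0 : v ≠ 0 := fun h => hv (by rw [h, QuadraticMap.map_zero])
            refine hns ⟨z, smul_left_injective F hv0 ?_⟩
            have h := hgg v
            simp only [CfsgLib.OrthSpinor.act, hz, Matrix.smul_mulVec, Matrix.one_mulVec, smul_smul] at h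
            show (-1 : F) • v = (z * z) • v
            rw [h, neg_one_smul])
        exact hmodd (hWm ▸ even_of_inv h2 g hns hgg W fun w hw => hW ⟨w, hw, Matrix.toLin'_apply _ w⟩)
      · obtain ⟨g, hg, hgg, hgns, hgW⟩ := exists_bad_invol h2 hnd hns (by omega) (by omega)
        obtain ⟨W, hWm, hWs, hW⟩ := hall g.1 ⟨g, hg, rfl⟩ ⟨1, by
            rw [one_smul, ← SubmonoidClass.coe_pow, pow_two, hgg]; rfl⟩
          (fun z hz => by
            obtain ⟨v, hv⟩ := hgns z
            apply hv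
            simp only [CfsgLib.OrthSpinor.act, hz, Matrix.smul_mulVec, Matrix.one_mulVec])
        have := hgW W (fun w hw => hW ⟨w, hw, Matrix.toLin'_apply _ w⟩) hWs
        omega
    · rintro (⟨-, -, hcase⟩ | ⟨-, h, -⟩ | ⟨-, h, -⟩)
      swap; · exact absurd h (lt_irrefl _)
      swap; · exact absurd h (lt_irrefl _)
      rintro x hx ⟨z, hz⟩ -
      obtain ⟨g, hg, rfl⟩ := (hx : x ∈ Geo.omegaGL ⇑(plusForm d F))
      suffices h : ∃ W : Submodule F (Fin d ⊕ Fin d → F), finrank F W = m ∧ TotSing (plusForm d F) W ∧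
          ∀ w ∈ W, CfsgLib.OrthSpinor.act (plusForm d F) g w ∈ W by
        obtain ⟨W, hW1, hW2, hW3⟩ := h
        refine ⟨W, hW1, hW2, ?_⟩
        rintro _ ⟨w, hw, rfl⟩
        rw [Matrix.toLin'_apply]
        exact hW3 w hw
      rcases act_act_sign hnd hz with hgg | hgg
      · refine exists_of_invol (Q := plusForm d F) h2 hnd g hg (by omega) hgg (by omega) ?_
        rcases hcase with h | ⟨-, h, -⟩
        · exact Or.inl (FiniteField.isSquare_neg_one_iff.2 (by omega))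
        · exact Or.inr (Or.inr (by omega))
      · by_cases hsq : IsSquare (-1 : F)
        · obtain ⟨s, hs⟩ := hsq
          exact exists_of_sqrt (Q := plusForm d F) h2 g hs.symm hgg (by omega)
        · rw [FiniteField.isSquare_neg_one_iff] at hsq
          obtain ⟨k, hk, hkp, -⟩ := complex_facts h2 hnd (by rw [FiniteField.isSquare_neg_one_iff]; omega) g hgg
            (by omega)
          obtain ⟨u, hu⟩ : Even d := (show k = d by omega) ▸ hkp.1 hp0
          obtain ⟨j, rfl⟩ : Even m := by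
            rcases hcase with h | ⟨-, -, h | h⟩
            · omega
            · exact h
            · omega
          obtain ⟨W, hW1, hW2, hW3⟩ := exists_of_complex (Q := plusForm d F) h2 g
            (by rw [FiniteField.isSquare_neg_one_iff]; omega) hgg j (by omega)
          exact ⟨W, by omega, hW2, hW3⟩
  have hr3 : 2 < r := lt_of_le_of_ne (Fact.out : r.Prime).two_le (Ne.symm hr2)
  have hcrit := crit_iff (d := d) (i := i) (t := (r - 1) / i) (m := m)
  rw [← hc] at hcrit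
  have hrodd := (Fact.out : r.Prime).odd_of_ne_two hr2
  constructor
  · intro hall
    refine Or.inr ?_
    by_contra hcond
    obtain ⟨T, hT, hTr, hTns, hTU⟩ := exists_witness (p := p) hrp hr2 hnd
      (fun h => absurd h (by rw [hfr, Nat.odd_iff]; omega)) hK hi hmd.le (Or.inl hmd) hrΩ (by
        rw [hdef, hfr]
        intro h
        rcases hcrit.1 h with ⟨h1, h2⟩ | ⟨h1, h2⟩
        · exact hcond (Or.inl ⟨hrp, hr3, h1, h2⟩)
        · exact hcond (Or.inr ⟨hrp, hr3, h1, h2⟩))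
    obtain ⟨x, hx, hxr, hxT⟩ := exists_omega hnd hreg (by omega) T hT hrodd hTr
    obtain ⟨W, hWm, hWs, hW⟩ := hall x hx ⟨1, by rw [hxr, one_smul]; rfl⟩ fun z hz => by
      obtain ⟨v, hv⟩ := hTns z
      apply hv
      rw [← hxT, toLin_eq_smul hz]; rfl
    exact hTU W (fun w hw => hxT ▸ hW ⟨w, hw, rfl⟩) hWs hWm
  · intro hcond x hx
    rintro ⟨z, hz⟩ -
    have hc' : Crit (2 * d) 0 i ((r - 1) / i) m := by
      rcases hcond with ⟨h, -⟩ | ⟨-, -, h1, h2⟩ | ⟨-, -, h1, h2⟩
      · exact absurd h hr2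
      · exact hcrit.2 (Or.inl ⟨h1, h2⟩)
      · exact hcrit.2 (Or.inr ⟨h1, h2⟩)
    obtain ⟨T, hT, hTr, hTW⟩ := exists_normalised (Q := plusForm d F) hnd hrodd hx hz
    obtain ⟨W, hW1, hW2, hW3⟩ := exists_of_crit (p := p) hrp hr2 hnd T hT hTr hi
      (m := m) (by omega) (by rw [hdef, hfr]; exact hc')
    exact ⟨W, hW1, hW2, hTW W hW3⟩

end Cfsg.Agent.S5973
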