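import Cfsg.Statements.S5974
import Cfsg.Agent.Lib.PrimeFix.HypTwo
-- import your own Cfsg.Agent.* helpers here

set_option autoImplicit false
open scoped MatrixGroups
open Cfsg

namespace Cfsg.Agent.S5974

open Module CfsgLib.PrimeFix.Quad
open CfsgLib.OrthCrit (plusForm)

/-- Elements of prime order of PΩ⁺_n(q), n = 2d ≥ 8, with no fixed nondegenerate hyperbolic `m`-space. Here `T = PΩ⁺_n(q)` is realised through `Ω⁺_n(q)`, the commutator subgroup of the isometry group of `Q = Σ xᵢyᵢ` over the field `F` with `q` elements; an element of `T` of prime order `r` is an element `x` of `Ω⁺_n(q)` with `x^r` scalar and `x` not scalar. A hyperbolic `m`-space is a subspace `W` of even dimension `m` on which the polar form of `Q` is nondegenerate and which contains a totally singular subspace of dimension `m/2`. Let `m` be even with `2 ≤ m < n/2`, and let `r` be a prime dividing the number of hyperbolic `m`-spaces, with `r = 2` or `r ≠ p`. For `r ≠ p` let `i` be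 the multiplicative order of `q` modulo `r`, `c = i` for `i` even and `c = 2i` for `i` odd, and write `k = n mod c`, `ℓ' = m mod c`. Then every element of `T` of order `r` fixes some hyperbolic `m`-space if and only if one of: (i) `r = 2` and (`n ≡ 2 (mod 4)`, or `m ≡ 0 (mod 4)`, or `q ≡ 1 (mod 4)`); (ii) `r ≠ p` odd, `i` odd, `c ≤ m` and `k ≥ ℓ'`; (iii) `r ≠ p` odd, `i` even, and either `k = 0` and (`n/i` odd, or `ℓ' = 0` and `m/i` even), or `i ≤ m` and (`k > ℓ' > 0`, or `k = ℓ' > 0` and `(n + m − 2k)/i` even, or `k > ℓ' = 0` and `m/i` even). -/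
theorem result {F : Type*} [Field F] [Fintype F] {p : ℕ} [Fact p.Prime] [CharP F p] {q : ℕ} (hq : Fintype.card F = q)
    (d m : ℕ) (hd : 4 ≤ d) (hm : 2 ≤ m) (hme : Even m) (hmd : m < d)
    (r : ℕ) [Fact r.Prime] (hr : r = 2 ∨ r ≠ p)
    (hrΩ : r ∣ Nat.card {W : Submodule F (Fin d ⊕ Fin d → F) // (Module.finrank F ↥W = m ∧ (∀ u ∈ W, u ≠ 0 → ∃ v ∈ W, QuadraticMap.polar (Cfsg.quadFormPlus d F) u v ≠ 0) ∧
          ∃ U : Submodule F (Fin d ⊕ Fin d → F), U ≤ W ∧ 2 * Module.finrank F ↥U = m ∧ ∀ u ∈ U, Cfsg.quadFormPlus d F u = 0)})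
    (i c : ℕ) (hi : i = orderOf (q : ZMod r)) (hc : c = if Even i then i else 2 * i) :
    (∀ x : GL (Fin d ⊕ Fin d) F, x ∈ Cfsg.Geo.omegaGL (Cfsg.quadFormPlus d F) →
      (∃ z : F, ((x ^ r : GL (Fin d ⊕ Fin d) F) : Matrix (Fin d ⊕ Fin d) (Fin d ⊕ Fin d) F) = z • (1 : Matrix (Fin d ⊕ Fin d) (Fin d ⊕ Fin d) F)) →
      (∀ z : F, (x : Matrix (Fin d ⊕ Fin d) (Fin d ⊕ Fin d) F) ≠ z • (1 : Matrix (Fin d ⊕ Fin d) (Fin d ⊕ Fin d) F)) →
      ∃ W : Submodule F (Fin d ⊕ Fin d → F), (Module.finrank F ↥W = m ∧ (∀ u ∈ W, u ≠ 0 → ∃ v ∈ W, QuadraticMap.polar (Cfsg.quadFormPlus d F) u v ≠ 0) ∧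
          ∃ U : Submodule F (Fin d ⊕ Fin d → F), U ≤ W ∧ 2 * Module.finrank F ↥U = m ∧ ∀ u ∈ U, Cfsg.quadFormPlus d F u = 0) ∧
        W.map (Matrix.toLin' (x : Matrix (Fin d ⊕ Fin d) (Fin d ⊕ Fin d) F)) ≤ W) ↔
    ((r = 2 ∧ ((2 * d) % 4 = 2 ∨ m % 4 = 0 ∨ q % 4 = 1)) ∨
     (r ≠ p ∧ 2 < r ∧ Odd i ∧ c ≤ m ∧ m % c ≤ (2 * d) % c) ∨
     (r ≠ p ∧ 2 < r ∧ Even i ∧
       (((2 * d) % c = 0 ∧ (Odd ((2 * d) / i) ∨ (m % c = 0 ∧ Even (m / i)))) ∨
        (i ≤ m ∧ ((m % c < (2 * d) % c ∧ 0 < m % c) ∨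
                  ((2 * d) % c = m % c ∧ 0 < m % c ∧ Even ((2 * d + m - 2 * ((2 * d) % c)) / i)) ∨
                  (0 < (2 * d) % c ∧ m % c = 0 ∧ Even (m / i))))))) := by
  classical
  subst hq
  obtain ⟨μ, rfl⟩ := hme
  have hnd := CfsgLib.OrthCrit.ndPolar_plusForm (F := F) d
  have hι : Fintype.card (Fin d ⊕ Fin d) = 2 * d := by simp; ring
  have hfr : finrank F (Fin d ⊕ Fin d → F) = 2 * d := by rw [Module.finrank_fintype_fun_eq_card, hι]
  have hp0 : CfsgLib.RootCount.IsPlus (plusForm d F) := ⟨CfsgLib.OrthCrit.halfSpace F d,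
    CfsgLib.OrthCrit.halfSpace_singular, by rw [CfsgLib.OrthCrit.finrank_halfSpace, hfr]⟩
  have hreg := CfsgLib.OrthCrit.regular_of_card (F := F) hι (Or.inr (by omega))
  haveI : Nonempty (Fin d ⊕ Fin d) := ⟨Sum.inl ⟨0, by omega⟩⟩
  by_cases hr2 : r = 2
  · subst hr2
    constructor
    · intro hall
      refine Or.inl ⟨rfl, ?_⟩
      by_contra hcon
      push Not at hcon
      obtain ⟨hd4, hm4, hq1⟩ := hcon
      have hμ : ¬ Even μ := by rw [Nat.even_iff]; omega
      obtain ⟨h, rfl⟩ : Even d := Nat.even_iff.2 (by omega)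
      by_cases h2 : (2 : F) = 0
      · have := CfsgLib.OrthCrit.charP_two_of h2
        obtain ⟨g, hg, hgg, hgns, hg0, hgk⟩ := exists_swap F h (by omega)
        obtain ⟨W, hW, hinv⟩ := hall g.1 ⟨g, hg, rfl⟩ ⟨1, Matrix.ext_iff_mulVec.mpr fun v => by
            rw [pow_two, Units.val_mul, ← Matrix.mulVec_mulVec, one_smul, Matrix.one_mulVec]
            exact hgg v⟩
          (fun z hz => by
            obtain ⟨v, hv⟩ := hgns z
            apply hv
            simp only [CfsgLib.OrthSpinor.act, hz, Matrix.smul_mulVec, Matrix.one_mulVec])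
        refine hμ (even_of_ker (Q := plusForm (h + h) F) h2
          (T := Matrix.toLin' ((g : GL (Fin (h + h) ⊕ Fin (h + h)) F) :
            Matrix (Fin (h + h) ⊕ Fin (h + h)) (Fin (h + h) ⊕ Fin (h + h)) F))
          (fun v => by rw [Matrix.toLin'_apply]; exact CfsgLib.OrthSpinor.Q_act _ g v)
          (fun v => by rw [Matrix.toLin'_apply, Matrix.toLin'_apply]; exact hgg v) hnd
          (fun v => by rw [Matrix.toLin'_apply]; exact hg0 v) (by omega) (by rw [two_mul]; exact hW)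
          (fun w hw => hinv ⟨w, hw, rfl⟩))
      · have hns : ¬ IsSquare (-1 : F) := by
          have hodd := FiniteField.odd_card_of_char_ne_two (F := F) (fun hc => h2 (by
            have : CharP F 2 := hc ▸ ringChar.charP F
            exact CharTwo.two_eq_zero))
          rw [FiniteField.isSquare_neg_one_iff]
          omega
        obtain ⟨g, hg, hgg⟩ := exists_complex h2 hnd hns hι (by omega) (iff_of_true hp0 ⟨h, rfl⟩) (Or.inl ⟨h, rfl⟩)
        obtain ⟨W, hW, hinv⟩ := hall g.1 ⟨g, hg, rfl⟩ ⟨-1, Matrix.ext_iff_mulVec.mpr fun v => by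
            rw [pow_two, Units.val_mul, ← Matrix.mulVec_mulVec, Matrix.smul_mulVec, Matrix.one_mulVec, neg_one_smul]
            exact hgg v⟩
          (fun z hz => by
            obtain ⟨v, hv⟩ := CfsgLib.OrthCrit.exists_Q_ne_zero hnd
            have hv0 : v ≠ 0 := fun h => hv (by rw [h, QuadraticMap.map_zero])
            refine hns ⟨z, smul_left_injective F hv0 ?_⟩
            have h := hgg v
            simp only [CfsgLib.OrthSpinor.act, hz, Matrix.smul_mulVec, Matrix.one_mulVec, smul_smul] at h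
            show (-1 : F) • v = (z * z) • v
            rw [h, neg_one_smul])
        have hW' : IsHypSub (plusForm (h + h) F) (μ + μ) W := hW
        obtain ⟨hdW, hndW, hpW⟩ := isHypSub_iff.1 hW'
        exact hμ ((complex_sub_type (Q := plusForm (h + h) F) h2 hns g hgg μ W
          (fun u hu hall' => congrArg Subtype.val (hndW ⟨u, hu⟩ fun w => hall' w w.2))
          (fun w hw => hinv ⟨w, hw, Matrix.toLin'_apply _ w⟩) (by omega)).1 hpW)
    · rintro (⟨-, hcase⟩ | ⟨-, h, -⟩ | ⟨-, h, -⟩)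
      swap; · exact absurd h (lt_irrefl _)
      swap; · exact absurd h (lt_irrefl _)
      rintro x hx ⟨z, hz⟩ -
      obtain ⟨g, hg, rfl⟩ := (hx : x ∈ Geo.omegaGL ⇑(plusForm d F))
      suffices h : ∃ W : Submodule F (Fin d ⊕ Fin d → F), IsHypSub (plusForm d F) (μ + μ) W ∧
          ∀ w ∈ W, CfsgLib.OrthSpinor.act (plusForm d F) g w ∈ W by
        obtain ⟨W, hW, hinv⟩ := h
        refine ⟨W, hW, ?_⟩
        rintro _ ⟨w, hw, rfl⟩
        rw [Matrix.toLin'_apply]
        exact hinv w hw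
      by_cases h2 : (2 : F) = 0
      · have := CfsgLib.OrthCrit.charP_two_of h2
        have hneg : ∀ v : Fin d ⊕ Fin d → F, -v = v := fun v => by
          linear_combination (norm := module) -h2 • v
        have hgg : ∀ v, CfsgLib.OrthSpinor.act (plusForm d F) g (CfsgLib.OrthSpinor.act (plusForm d F) g v) = v := by
          rcases act_act_sign hnd hz with h | h
          · exact h
          · exact fun v => (h v).trans (hneg v)
        have hqeven : Fintype.card F % 2 = 0 := by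
          obtain ⟨n, -, hn⟩ := FiniteField.card F 2
          rw [hn, Nat.pow_mod]
          simp
        let T : Module.End F (Fin d ⊕ Fin d → F) :=
          Matrix.toLin' ((g : GL (Fin d ⊕ Fin d) F) : Matrix (Fin d ⊕ Fin d) (Fin d ⊕ Fin d) F)
        have hT : ∀ v, T v = CfsgLib.OrthSpinor.act (plusForm d F) g v := fun v => Matrix.toLin'_apply _ _
        obtain ⟨X, -, hXinv, hX⟩ := exists_inv_hyp (Q := plusForm d F) (T := T) h2
          (fun v => by rw [hT]; exact CfsgLib.OrthSpinor.Q_act (plusForm d F) g v) (fun v => by rw [hT, hT]; exact hgg v) d μ (by omega)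
          (by rw [Nat.even_iff, Nat.odd_iff]; omega) ⊤ ⟨by rw [finrank_top, hfr], fun u _ hu => by
            by_contra! hcon
            exact hu (hnd u fun y => hcon y Submodule.mem_top),
            CfsgLib.OrthCrit.halfSpace F d, le_top, by rw [CfsgLib.OrthCrit.finrank_halfSpace],
            CfsgLib.OrthCrit.halfSpace_singular⟩ (fun _ _ => Submodule.mem_top)
        exact ⟨X, two_mul μ ▸ hX, fun w hw => hT w ▸ hXinv w hw⟩
      rcases act_act_sign hnd hz with hgg | hgg
      · exact exists_hyp_invol (Q := plusForm d F) h2 hnd g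
          (CfsgLib.OrthCrit.parity_of_mem_Omega hnd hreg hg) hgg ⟨μ, rfl⟩ ⟨d, by omega⟩ (by omega)
      · by_cases hsq : IsSquare (-1 : F)
        · obtain ⟨s, hs⟩ := hsq
          rw [← two_mul]
          exact exists_hyp_sqrt (Q := plusForm d F) h2 hnd g hs.symm hgg (by omega)
        · obtain ⟨k, hk, hkp, -⟩ := complex_facts h2 hnd hsq g hgg (by omega)
          obtain ⟨u, hu⟩ : Even d := (show k = d by omega) ▸ hkp.1 hp0
          rw [FiniteField.isSquare_neg_one_iff] at hsq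
          have hμ : Even μ := by rw [Nat.even_iff]; omega
          rw [← FiniteField.isSquare_neg_one_iff] at hsq
          obtain ⟨W, hW, hinv, hdW⟩ := exists_complex_sub (Q := plusForm d F) h2 hnd hsq g hgg (d - μ) μ (by omega)
          exact ⟨W, isHypSub_iff.2 ⟨by omega, fun u hu => Subtype.ext (hW u u.2 fun w hw => hu ⟨w, hw⟩),
            (complex_sub_type (Q := plusForm d F) h2 hsq g hgg μ W hW hinv hdW).2 hμ⟩, hinv⟩
  have hr3 : 2 < r := lt_of_le_of_ne (Fact.out : r.Prime).two_le (Ne.symm hr2)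
  have hrp : r ≠ p := hr.resolve_left hr2
  have hrodd := (Fact.out : r.Prime).odd_of_ne_two hr2
  constructor
  · intro hall
    refine Or.inr ?_
    by_contra hcond
    obtain ⟨T, hT, hTr, hTns, hTW⟩ := exists_hyp_witness (Q := plusForm d F) (p := p) hrp hr2 hnd hp0 hi hc
      (m := μ + μ) ⟨μ, rfl⟩ (by omega) hrΩ (by
        rw [hfr]
        rintro (⟨h1, h2⟩ | ⟨h1, h2⟩)
        · exact hcond (Or.inl ⟨hrp, hr3, h1, h2⟩)
        · exact hcond (Or.inr ⟨hrp, hr3, h1, h2⟩))
    obtain ⟨x, hx, hxr, hxT⟩ := exists_omega hnd hreg (by omega) T hT hrodd hTr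
    obtain ⟨W, hW, hinv⟩ := hall x hx ⟨1, by rw [hxr, one_smul]; rfl⟩ fun z hz => by
      obtain ⟨v, hv⟩ := hTns z
      apply hv
      rw [← hxT, toLin_eq_smul hz]; rfl
    exact hTW W hW fun w hw => hxT ▸ hinv ⟨w, hw, rfl⟩
  · intro hcond x hx
    rintro ⟨z, hz⟩ -
    have hc' : HypCrit (2 * d) i c (μ + μ) := by
      rcases hcond with ⟨h, -⟩ | ⟨-, -, h1, h2⟩ | ⟨-, -, h1, h2⟩
      · exact absurd h hr2
      · exact Or.inl ⟨h1, h2⟩
      · exact Or.inr ⟨h1, h2⟩
    obtain ⟨T, hT, hTr, hTW⟩ := exists_normalised (Q := plusForm d F) hnd hrodd hx hz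
    obtain ⟨W, hW, hinv⟩ := exists_hyp_of_crit (p := p) hrp hr2 hnd hp0 T hT hTr hi hc
      (m := μ + μ) ⟨μ, rfl⟩ (by omega) (by rw [hfr]; exact hc')
    exact ⟨W, hW, hTW W hinv⟩

end Cfsg.Agent.S5974
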