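import Cfsg.Statements.S5975
import Cfsg.Agent.Lib.LinFix.QuadSub
import Cfsg.Agent.Lib.LinFix.FieldSub
import Cfsg.Agent.Lib.LinFix.FieldForm
import Cfsg.Agent.Lib.LinFix.SympBlockField
import Cfsg.Agent.Lib.LinFix.SympPlaneRoot
import Cfsg.Agent.Lib.SympGeom.Basic
-- import your own Cfsg.Agent.* helpers here

set_option autoImplicit false
open scoped MatrixGroups
open scoped Matrix
open Cfsg

namespace Cfsg.Agent.S5975

open Matrix Module CfsgLib.LinFix

variable {F : Type*} [Field F] [Fintype F] {d k : ℕ}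

/-- A conjugate in the normaliser gives a field generator centralised, or forces large rank. -/
theorem conj_data (hd : 0 < d) (hk : k.Prime) {K : Subalgebra F (Matrix (Fin d ⊕ Fin d) (Fin d ⊕ Fin d) F)}
    (hK : Cfsg.Geo.IsFieldSubalgebra k K) (hKf : Cfsg.Geo.IsSelfAdjointFor (Cfsg.sympForm d F) K)
    (hKalt : ∀ a ∈ K, ∀ v : Fin d ⊕ Fin d → F, Cfsg.sympForm d F (a *ᵥ v) v = 0)
    {x : GL (Fin d ⊕ Fin d) F} {r : ℕ} (hr : r.Prime) (hxr : x ^ r = 1)
    (hfix : ∃ g ∈ Cfsg.spGL d F, g⁻¹ * x * g ∈ Cfsg.Geo.subalgebraNormalizer K) {c : ℕ}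
    (hc : finrank F (LinearMap.range (Matrix.toLin' (x : Matrix (Fin d ⊕ Fin d) (Fin d ⊕ Fin d) F) - 1)) ≤ c)
    (hno : SympBlockField.NoField d k (Matrix.toLin' (x : Matrix (Fin d ⊕ Fin d) (Fin d ⊕ Fin d) F))) :
    d ≤ c ∧ r = k := by
  classical
  haveI : Nonempty (Fin d ⊕ Fin d) := ⟨Sum.inl ⟨0, hd⟩⟩
  obtain ⟨g, hg, hN⟩ := hfix
  obtain ⟨a, ha, μ, hμ, hdeg, haμ, -⟩ := FieldSub.exists_generator hk hK
  set G := (g : Matrix (Fin d ⊕ Fin d) (Fin d ⊕ Fin d) F) with hG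
  set G' := ((g⁻¹ : GL (Fin d ⊕ Fin d) F) : Matrix (Fin d ⊕ Fin d) (Fin d ⊕ Fin d) F)
  set X := (x : Matrix (Fin d ⊕ Fin d) (Fin d ⊕ Fin d) F) with hX
  have h1 : G * G' = 1 := Units.mul_inv g
  have h2 : G' * G = 1 := Units.inv_mul g
  have h2v : ∀ w, G' *ᵥ (G *ᵥ w) = w := fun w => by rw [mulVec_mulVec, h2, one_mulVec]
  have h1v : ∀ w, G *ᵥ (G' *ᵥ w) = w := fun w => by rw [mulVec_mulVec, h1, one_mulVec]
  have hY : ((g⁻¹ * x * g : GL (Fin d ⊕ Fin d) F) : Matrix (Fin d ⊕ Fin d) (Fin d ⊕ Fin d) F) = G' * X * G := rfl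
  have hne : ((g⁻¹ * x * g : GL (Fin d ⊕ Fin d) F) : Matrix (Fin d ⊕ Fin d) (Fin d ⊕ Fin d) F) * a ≠
      a * ((g⁻¹ * x * g : GL (Fin d ⊕ Fin d) F) : Matrix (Fin d ⊕ Fin d) (Fin d ⊕ Fin d) F) := by
    rw [hY]
    intro hcm
    have e : X * (G * a * G') = G * a * G' * X := by
      calc X * (G * a * G') = (G * G') * X * G * a * G' := by rw [h1, one_mul]; simp only [mul_assoc]
        _ = G * (G' * X * G * a) * G' := by simp only [mul_assoc]
        _ = G * a * G' * X * (G * G') := by rw [hcm]; simp only [mul_assoc]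
        _ = _ := by rw [h1, mul_one]
    refine hno (Matrix.toLin' (G * a * G')) μ hμ hdeg ?_ (fun u v => ?_) (fun v => ?_) ?_
    · refine LinearMap.ext fun v => ?_
      have h := BlockField.aeval_intertwine (Matrix.toLin' G) (T := Matrix.toLin' a)
        (S := Matrix.toLin' (G * a * G')) (fun w => by simp [Matrix.toLin'_apply, ← mulVec_mulVec, h2v]) μ
        (G' *ᵥ v)
      have h0 : Polynomial.aeval (Matrix.toLin' a) μ = (0 : Module.End F (Fin d ⊕ Fin d → F)) := by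
        rw [show Matrix.toLin' a = Matrix.toLinAlgEquiv' a from rfl, Polynomial.aeval_algHom_apply, haμ, map_zero]
      rw [h0, LinearMap.zero_apply, map_zero, Matrix.toLin'_apply, h1v] at h
      exact h.symm
    · have hgi : ∀ a b, sympForm d F (G *ᵥ a) (G *ᵥ b) = sympForm d F a b := hg
      simp only [Matrix.toLin'_apply, ← mulVec_mulVec]
      conv_lhs => rw [show v = G *ᵥ (G' *ᵥ v) from (h1v v).symm, hgi, hKf a ha, ← hgi, h1v]
    · have hgi : ∀ a b, sympForm d F (G *ᵥ a) (G *ᵥ b) = sympForm d F a b := hg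
      simp only [Matrix.toLin'_apply, ← mulVec_mulVec]
      conv_lhs => rw [show v = G *ᵥ (G' *ᵥ v) from (h1v v).symm, hgi, h2v]
      exact hKalt a ha _
    · rw [Commute, SemiconjBy, Module.End.mul_eq_comp, Module.End.mul_eq_comp, ← Matrix.toLin'_mul,
        ← Matrix.toLin'_mul, e]
  have hyr : (g⁻¹ * x * g) ^ r = 1 := by
    have h := conj_pow (i := r) (a := g⁻¹) (b := x)
    rw [inv_inv] at h
    rw [h, hxr, mul_one, inv_mul_cancel]
  refine ⟨?_, FieldSub.eq_of_semilinear hk hK ha hN hne hr hyr⟩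
  have hrank := FieldSub.rank_of_semilinear hK ha hN hne
  have hle : LinearMap.range (Matrix.toLin' ((g⁻¹ * x * g : GL (Fin d ⊕ Fin d) F) :
      Matrix (Fin d ⊕ Fin d) (Fin d ⊕ Fin d) F) - 1) ≤
      (LinearMap.range (Matrix.toLin' X - 1)).map (Matrix.toLin' G') := by
    rintro _ ⟨v, rfl⟩
    refine ⟨_, ⟨G *ᵥ v, rfl⟩, ?_⟩
    rw [hY]
    simp [Matrix.toLin'_apply, mulVec_sub, ← mulVec_mulVec, h2v]
  have h3 := (Submodule.finrank_mono hle).trans ((Submodule.finrank_map_le _ _).trans hc)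
  rw [Fintype.card_sum, Fintype.card_fin] at hrank
  omega

/-- The positive case. -/
theorem fixes (hF : (2 : F) ≠ 0) {K : Subalgebra F (Matrix (Fin 2 ⊕ Fin 2) (Fin 2 ⊕ Fin 2) F)}
    (hK : Cfsg.Geo.IsFieldSubalgebra 2 K) (hKf : Cfsg.Geo.IsSelfAdjointFor (Cfsg.sympForm 2 F) K)
    {x : GL (Fin 2 ⊕ Fin 2) F} (hx : x ∈ Cfsg.spGL 2 F) {z : F}
    (hz : ((x ^ 2 : GL (Fin 2 ⊕ Fin 2) F) : Matrix (Fin 2 ⊕ Fin 2) (Fin 2 ⊕ Fin 2) F) = z • 1) :
    ∃ g ∈ Cfsg.spGL 2 F, g⁻¹ * x * g ∈ Cfsg.Geo.subalgebraNormalizer K := by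
  classical
  obtain ⟨J, ε, hJ⟩ : ∃ J ε, QuadSub.IsGen K J 0 ε := by
    obtain ⟨J, a, b, hJ⟩ := QuadSub.exists_gen hK
    exact ⟨_, _, hJ.normalize hF⟩
  have hε : ¬ IsSquare ε := by
    rintro ⟨c, rfl⟩
    exact hJ.noroot c (by ring)
  have hJJ : J * J = ε • 1 := by rw [hJ.rel, zero_smul, zero_add]
  set B := CfsgLib.SympGeom.sympBilin 2 F
  have halt : B.IsAlt := CfsgLib.SympGeom.sympBilin_alt
  have hnd := (CfsgLib.SympGeom.sympBilin_nondeg (m := 2) (F := F)).1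
  have hdim : finrank F (Fin 2 ⊕ Fin 2 → F) = 4 := CfsgLib.SympGeom.finrank_space
  have hJs : ∀ u v, B (Matrix.toLin' J u) v = B u (Matrix.toLin' J v) := fun u v => by
    simpa [B] using hKf J hJ.mem u v
  have hJa : ∀ v, B (Matrix.toLin' J v) v = 0 := fun v => by
    have h := hJs v v
    rw [← LinearMap.IsAlt.neg halt (Matrix.toLin' J v)] at h
    exact (mul_eq_zero.1 (show (2 : F) * B (Matrix.toLin' J v) v = 0 by linear_combination h)).resolve_left hF
  obtain ⟨D, s, hss, hDD, hDs, hDa, hTD⟩ := SympPlaneRoot.exists_root halt hnd hε hdim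
    (Matrix.toLin' (x : Matrix (Fin 2 ⊕ Fin 2) (Fin 2 ⊕ Fin 2) F)) (z := z)
    (fun v => by
      rw [Matrix.toLin'_apply, Matrix.toLin'_apply, mulVec_mulVec, ← pow_two, ← Units.val_pow_eq_pow_val, hz,
        smul_mulVec, one_mulVec])
    (fun u v => by simpa [B] using hx u v)
  haveI : Nontrivial (Fin 2 ⊕ Fin 2 → F) := Module.nontrivial_of_finrank_pos (R := F) (by omega)
  obtain ⟨g₀, hg₀, hgJ⟩ := SympPlaneRoot.exists_isometry halt hnd hε hdim (Matrix.toLin' J) D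
    (fun v => by simp [Matrix.toLin'_apply, mulVec_mulVec, hJJ, smul_mulVec]) hJs hJa hDD hDs hDa
  obtain ⟨A, hA⟩ := CfsgLib.SympGeom.exists_of_linearEquiv g₀ (fun u v => by simpa [B] using hg₀ u v)
  let g : GL (Fin 2 ⊕ Fin 2) F := ((Matrix.symplecticGroup (Fin 2) F).subtype).toHomUnits A
  have hg : g ∈ Cfsg.spGL 2 F := CfsgLib.Linear.Symp.form_mulVec A.2
  refine ⟨g, hg, ?_⟩
  rw [hJ.mem_normalizer_iff hK]
  set G := (g : Matrix (Fin 2 ⊕ Fin 2) (Fin 2 ⊕ Fin 2) F)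
  set G' := ((g⁻¹ : GL (Fin 2 ⊕ Fin 2) F) : Matrix (Fin 2 ⊕ Fin 2) (Fin 2 ⊕ Fin 2) F)
  set X := (x : Matrix (Fin 2 ⊕ Fin 2) (Fin 2 ⊕ Fin 2) F)
  have h1 : G * G' = 1 := Units.mul_inv g
  have h1v : ∀ w, G *ᵥ (G' *ᵥ w) = w := fun w => by rw [mulVec_mulVec, h1, one_mulVec]
  have h2v : ∀ w, G' *ᵥ (G *ᵥ w) = w := fun w => by
    rw [mulVec_mulVec, show G' * G = 1 from Units.inv_mul g, one_mulVec]
  have hGv : ∀ w, G *ᵥ w = g₀ w := fun w => hA w
  have key : ∀ v, (G' * X * G * J) *ᵥ v = (s • (J * (G' * X * G))) *ᵥ v := fun v => by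
    simp only [← mulVec_mulVec, smul_mulVec]
    apply (Function.LeftInverse.injective h2v)
    rw [h1v, mulVec_smul, hGv (J *ᵥ v), hGv (J *ᵥ _), ← Matrix.toLin'_apply J v, hgJ, ← Matrix.toLin'_apply J,
      hgJ, ← Matrix.toLin'_apply X, hTD, ← hGv (G' *ᵥ _), h1v, Matrix.toLin'_apply, hGv]
  have key' := Matrix.ext_iff_mulVec.2 key
  rcases mul_self_eq_one_iff.1 hss with rfl | rfl
  · left
    show G' * X * G * J = J * (G' * X * G)
    rw [key', one_smul]
  · right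
    show G' * X * G * J = ((0 : F) • 1 - J) * (G' * X * G)
    rw [key', zero_smul, zero_sub, neg_mul, neg_one_smul]


/-- Elements of prime order of PSp_n(q) and the field-extension subgroups of type Sp_{n/k}(q^k). Here `T = PSp_{2d}(F)` for a field `F` with `q` elements (`d ≥ 2`, `(d, q) ≠ (2, 2)`), realised through the matrices preserving the standard alternating form `f`; `k` is a prime and `K` is a subalgebra of the `2d × 2d` matrices that is a field of degree `k` over `F` whose elements are self-adjoint for `f` and satisfy `f(a v, v) = 0` (so `F^{2d}` becomes a vector space over `K ≅ F_{q^k}` on which `f` is the trace of a `K`-bilinear alternating form); `H` is the subgroup of `T` normalizing `K` — the symplectic maps that are `K`-linear or `K`-semilinear, a subgroup of type Sp_{2d/k}(q^k) (maximality is not assumed). Ω is the set of cosets of `H` in `T`, so an element of `T` of prime order `r` (`x ∈ T` with `x^r` scalar,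 `x` not scalar) fixes a point of Ω exactly when some `T`-conjugate of `x` normalizes `K`. Let `r` be a prime dividing the index of `H`. Then every element of `T` of order `r` fixes a point of Ω if and only if `r = 2`, `d = 2`, `k = 2` and `q` is odd. -/
theorem result {F : Type*} [Field F] [Fintype F] {p : ℕ} [Fact p.Prime] [CharP F p] {q : ℕ} (hq : Fintype.card F = q)
    (d : ℕ) (hd : 2 ≤ d) (hT : (d, q) ≠ (2, 2)) (k : ℕ) (hk : k.Prime)
    (K : Subalgebra F (Matrix (Fin d ⊕ Fin d) (Fin d ⊕ Fin d) F)) (hK : Cfsg.Geo.IsFieldSubalgebra k K)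
    (hKf : Cfsg.Geo.IsSelfAdjointFor (Cfsg.sympForm d F) K) (hKalt : ∀ a ∈ K, ∀ v : Fin d ⊕ Fin d → F, Cfsg.sympForm d F (a *ᵥ v) v = 0)
    (r : ℕ) [Fact r.Prime]
    (hΩ : r ∣ (Cfsg.Geo.subalgebraNormalizer K).relIndex (Cfsg.spGL d F)) :
    (∀ x ∈ Cfsg.spGL d F, (∃ z : F, ((x ^ r : GL (Fin d ⊕ Fin d) F) : Matrix (Fin d ⊕ Fin d) (Fin d ⊕ Fin d) F) = z • (1 : Matrix (Fin d ⊕ Fin d) (Fin d ⊕ Fin d) F)) →
      (∀ z : F, (x : Matrix (Fin d ⊕ Fin d) (Fin d ⊕ Fin d) F) ≠ z • (1 : Matrix (Fin d ⊕ Fin d) (Fin d ⊕ Fin d) F)) →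
      ∃ g ∈ Cfsg.spGL d F, g⁻¹ * x * g ∈ Cfsg.Geo.subalgebraNormalizer K) ↔
    (r = 2 ∧ d = 2 ∧ k = 2 ∧ Odd q) := by
  classical
  subst hq
  have hr : r.Prime := Fact.out
  constructor
  · intro hall
    have main : ∀ x ∈ Cfsg.spGL d F, x ^ r = 1 →
        (∀ z : F, (x : Matrix (Fin d ⊕ Fin d) (Fin d ⊕ Fin d) F) ≠ z • 1) → ∀ c,
        finrank F (LinearMap.range (Matrix.toLin' (x : Matrix (Fin d ⊕ Fin d) (Fin d ⊕ Fin d) F) - 1)) ≤ c →
        SympBlockField.NoField d k (Matrix.toLin' (x : Matrix (Fin d ⊕ Fin d) (Fin d ⊕ Fin d) F)) →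
        d ≤ c ∧ r = k := fun x hx hxr hns c hc hno =>
      conj_data (by omega) hk hK hKf hKalt hr hxr
        (hall x hx ⟨1, by rw [hxr, one_smul, Units.val_one]⟩ hns) hc hno
    by_cases hrp : r = p
    · subst hrp
      obtain ⟨x, hx, hxr, hns, hc, hno⟩ := SympBlockField.exists_transvection (F := F) (p := r)
        (show 1 ≤ d by omega) hk.two_le
      have := (main x hx hxr hns _ hc hno).1
      omega
    by_cases hr2 : r = 2
    · subst hr2
      have h2 : (2 : F) ≠ 0 := fun h => by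
        have h' : ((2 : ℕ) : F) = 0 := by simpa using h
        rw [CharP.cast_eq_zero_iff F p] at h'
        exact hrp ((Nat.prime_dvd_prime_iff_eq Fact.out Nat.prime_two).1 h').symm
      obtain ⟨x, hx, hxr, hns, hc, hno⟩ := SympBlockField.exists_plane_involution (F := F) hd hk.two_le h2
      obtain ⟨h1, h3⟩ := main x hx hxr hns _ hc hno
      refine ⟨rfl, by omega, h3.symm, Nat.odd_iff.2 (FiniteField.odd_card_of_char_ne_two fun h => h2 ?_)⟩
      haveI : CharP F (ringChar F) := ringChar.charP F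
      have := CharP.cast_eq_zero F (ringChar F)
      rwa [h, Nat.cast_two] at this
    · exfalso
      obtain ⟨m, hdm, U, hU, hUN, hcard⟩ := FieldForm.exists_field_subgroup (by omega) hk.pos hK hKf hKalt
      obtain ⟨hord, hcase⟩ := FieldForm.order_of_dvd (p := p) hr2 hrp hk.pos hdm hU hUN hcard hΩ
      obtain ⟨x, hx, hxr, hns, hc, hno⟩ := SympBlockField.exists_block (p := p) hr2 hrp hord hcase
      obtain ⟨h1, rfl⟩ := main x hx hxr hns _ hc hno
      have hq0 : (Fintype.card F : ZMod r) ≠ 0 := fun h => by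
        obtain ⟨n, -, hn⟩ := FiniteField.card F p
        rw [CharP.cast_eq_zero_iff (ZMod r) r, hn] at h
        exact hrp ((Nat.prime_dvd_prime_iff_eq hr Fact.out).1 (hr.dvd_of_dvd_pow h))
      have hir := ZMod.orderOf_dvd_card_sub_one hq0
      have hrd : r ≤ d := Nat.le_of_dvd (by omega) ⟨m, hdm⟩
      have hr3 : 3 ≤ r := by have := hr.two_le; omega
      split_ifs at h1 with hodd
      · have hev : 2 ∣ r - 1 := (hr.even_sub_one hr2).two_dvd
        have := Nat.le_of_dvd (by omega) ((Nat.coprime_two_left.mpr hodd).mul_dvd_of_dvd_of_dvd hev hir)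
        omega
      · have := Nat.le_of_dvd (by omega) hir
        omega
  · rintro ⟨rfl, rfl, rfl, hodd⟩ x hx ⟨z, hz⟩ -
    refine fixes (fun h => ?_) hK hKf hx hz
    haveI : CharP F 2 := CharTwo.of_one_ne_zero_of_two_eq_zero one_ne_zero h
    have := FiniteField.even_card_iff_char_two.mp (ringChar.eq F 2)
    rw [Nat.odd_iff] at hodd
    omega

end Cfsg.Agent.S5975
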