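import Cfsg.Statements.S5976
import Cfsg.Agent.Lib.LinFix.QuadSub
import Cfsg.Agent.Lib.LinFix.UnitaryBasis
import Cfsg.Agent.Lib.LinFix.UnitaryIndex
import Cfsg.Agent.Lib.LinFix.SympBlock
import Cfsg.Agent.Lib.LinFix.SympPlanesInvol
-- import your own Cfsg.Agent.* helpers here

set_option autoImplicit false
open scoped MatrixGroups
open Cfsg

namespace Cfsg.Agent.S5976

open Matrix Module CfsgLib.LinFix

variable {F : Type*} [Field F] [Fintype F] {d : ℕ}

/-- Membership of a conjugate in the normaliser through skew square roots. -/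
theorem exists_conj_iff {K : Subalgebra F (Matrix (Fin d ⊕ Fin d) (Fin d ⊕ Fin d) F)}
    (hK : Cfsg.Geo.IsFieldSubalgebra 2 K) {J : Matrix (Fin d ⊕ Fin d) (Fin d ⊕ Fin d) F} {ε : F}
    (hJ : QuadSub.IsGen K J 0 ε)
    (hJs : ∀ u v, sympForm d F (J *ᵥ u) v = - sympForm d F u (J *ᵥ v))
    (x : GL (Fin d ⊕ Fin d) F) :
    (∃ g ∈ Cfsg.spGL d F, g⁻¹ * x * g ∈ Cfsg.Geo.subalgebraNormalizer K) ↔
      ∃ D : (Fin d ⊕ Fin d → F) →ₗ[F] (Fin d ⊕ Fin d → F), (∀ v, D (D v) = ε • v) ∧
        (∀ u v, sympForm d F (D u) v = - sympForm d F u (D v)) ∧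
        ((∀ v, Matrix.toLin' (x : Matrix (Fin d ⊕ Fin d) (Fin d ⊕ Fin d) F) (D v) =
            D (Matrix.toLin' (x : Matrix (Fin d ⊕ Fin d) (Fin d ⊕ Fin d) F) v)) ∨
          ∀ v, Matrix.toLin' (x : Matrix (Fin d ⊕ Fin d) (Fin d ⊕ Fin d) F) (D v) =
            - D (Matrix.toLin' (x : Matrix (Fin d ⊕ Fin d) (Fin d ⊕ Fin d) F) v)) := by
  classical
  have hε : ¬ IsSquare ε := by
    rintro ⟨c, rfl⟩
    exact hJ.noroot c (by ring)
  have hJJ : J * J = ε • 1 := by rw [hJ.rel, zero_smul, zero_add]
  have hJv : ∀ v, J *ᵥ (J *ᵥ v) = ε • v := fun v => by rw [mulVec_mulVec, hJJ, smul_mulVec, one_mulVec]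
  constructor
  · rintro ⟨g, hg, hN⟩
    rw [hJ.mem_normalizer_iff hK] at hN
    set G := (g : Matrix (Fin d ⊕ Fin d) (Fin d ⊕ Fin d) F)
    set G' := ((g⁻¹ : GL (Fin d ⊕ Fin d) F) : Matrix (Fin d ⊕ Fin d) (Fin d ⊕ Fin d) F)
    set X := (x : Matrix (Fin d ⊕ Fin d) (Fin d ⊕ Fin d) F)
    have h1 : G * G' = 1 := Units.mul_inv g
    have h2 : G' * G = 1 := Units.inv_mul g
    have h2v : ∀ w, G' *ᵥ (G *ᵥ w) = w := fun w => by rw [mulVec_mulVec, h2, one_mulVec]
    have h1v : ∀ w, G *ᵥ (G' *ᵥ w) = w := fun w => by rw [mulVec_mulVec, h1, one_mulVec]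
    refine ⟨Matrix.toLin' (G * J * G'), fun v => ?_, fun u v => ?_, ?_⟩
    · simp only [Matrix.toLin'_apply, ← mulVec_mulVec, h2v, hJv, mulVec_smul, h1v]
    · have e : ∀ a b, sympForm d F (G *ᵥ a) (G *ᵥ b) = sympForm d F a b := hg
      simp only [Matrix.toLin'_apply, ← mulVec_mulVec]
      conv_lhs => rw [show v = G *ᵥ (G' *ᵥ v) from (h1v v).symm, e, hJs, ← e, h1v]
    · rcases hN with h | h <;> change G' * X * G * J = _ * (G' * X * G) at h
      · refine Or.inl fun v => ?_
        have e : X * (G * J * G') = G * J * G' * X := by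
          calc X * (G * J * G') = (G * G') * X * G * J * G' := by rw [h1, one_mul]; simp only [mul_assoc]
            _ = G * (G' * X * G * J) * G' := by simp only [mul_assoc]
            _ = G * J * G' * X * (G * G') := by rw [h]; simp only [mul_assoc]
            _ = _ := by rw [h1, mul_one]
        simp only [Matrix.toLin'_apply, mulVec_mulVec, e]
      · refine Or.inr fun v => ?_
        have e : X * (G * J * G') = - (G * J * G' * X) := by
          calc X * (G * J * G') = (G * G') * X * G * J * G' := by rw [h1, one_mul]; simp only [mul_assoc]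
            _ = G * (G' * X * G * J) * G' := by simp only [mul_assoc]
            _ = - (G * J * G' * X * (G * G')) := by
              rw [h, zero_smul, zero_sub, neg_mul, mul_neg, neg_mul]; simp only [mul_assoc]
            _ = _ := by rw [h1, mul_one]
        simp only [Matrix.toLin'_apply, mulVec_mulVec, e, neg_mulVec]
  · rintro ⟨D, hD, hDs, hxD⟩
    obtain ⟨g₀, hg₀, hgJ⟩ := UnitaryBasis.exists_isometry (B := CfsgLib.SympGeom.sympBilin d F)
      CfsgLib.SympGeom.sympBilin_alt CfsgLib.SympGeom.sympBilin_nondeg.1 hε (Matrix.toLin' J) D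
      (fun v => by simpa [Matrix.toLin'_apply] using hJv v) (fun u v => by simpa using hJs u v) hD
      (fun u v => by simpa using hDs u v)
    obtain ⟨A, hA⟩ := CfsgLib.SympGeom.exists_of_linearEquiv g₀ (fun u v => by simpa using hg₀ u v)
    let g : GL (Fin d ⊕ Fin d) F := ((Matrix.symplecticGroup (Fin d) F).subtype).toHomUnits A
    have hg : g ∈ Cfsg.spGL d F := CfsgLib.Linear.Symp.form_mulVec A.2
    refine ⟨g, hg, ?_⟩
    rw [hJ.mem_normalizer_iff hK]
    set G := (g : Matrix (Fin d ⊕ Fin d) (Fin d ⊕ Fin d) F)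
    set G' := ((g⁻¹ : GL (Fin d ⊕ Fin d) F) : Matrix (Fin d ⊕ Fin d) (Fin d ⊕ Fin d) F)
    set X := (x : Matrix (Fin d ⊕ Fin d) (Fin d ⊕ Fin d) F)
    have h1 : G * G' = 1 := Units.mul_inv g
    have h2 : G' * G = 1 := Units.inv_mul g
    set M := LinearMap.toMatrix' D
    have hGJ : M * G = G * J := by
      refine Matrix.toLin'.injective (LinearMap.ext fun v => ?_)
      rw [Matrix.toLin'_mul, Matrix.toLin'_mul, LinearMap.comp_apply, LinearMap.comp_apply,
        Matrix.toLin'_toMatrix', Matrix.toLin'_apply, Matrix.toLin'_apply, Matrix.toLin'_apply]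
      show D (A.1 *ᵥ v) = A.1 *ᵥ (J *ᵥ v)
      rw [hA, hA, ← hgJ, Matrix.toLin'_apply]
    have hG'M : G' * M = J * G' := by
      calc G' * M = G' * M * (G * G') := by rw [h1, mul_one]
        _ = G' * (M * G) * G' := by simp only [mul_assoc]
        _ = J * G' := by rw [hGJ, ← mul_assoc, h2, one_mul]
    have hM : ∀ s : Matrix (Fin d ⊕ Fin d) (Fin d ⊕ Fin d) F, X * M = s * M * X →
        G' * X * G * J = G' * s * M * X * G := fun s hs => by
      rw [mul_assoc _ G J, ← hGJ, ← mul_assoc, mul_assoc G' X M, hs]; simp only [mul_assoc]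
    rcases hxD with h | h
    · left
      have e : X * M = 1 * M * X := by
        refine Matrix.toLin'.injective (LinearMap.ext fun v => ?_)
        rw [one_mul, Matrix.toLin'_mul, Matrix.toLin'_mul, LinearMap.comp_apply, LinearMap.comp_apply,
          Matrix.toLin'_toMatrix', h]
      show G' * X * G * J = J * (G' * X * G)
      rw [hM 1 e, mul_one, hG'M]; simp only [mul_assoc]
    · right
      have e : X * M = (-1) * M * X := by
        refine Matrix.toLin'.injective (LinearMap.ext fun v => ?_)
        rw [neg_one_mul, neg_mul, map_neg, Matrix.toLin'_mul, Matrix.toLin'_mul, LinearMap.neg_apply,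
          LinearMap.comp_apply, LinearMap.comp_apply, Matrix.toLin'_toMatrix', h]
      show G' * X * G * J = ((0 : F) • 1 - J) * (G' * X * G)
      rw [hM (-1) e, zero_smul, zero_sub, mul_neg, mul_one, neg_mul, neg_mul, neg_mul, hG'M, neg_mul]
      simp only [mul_assoc]

/-- An involution of the projective symplectic group has a skew square root of a non-square
commuting or anticommuting with it. -/
theorem exists_skew_root {ε : F} (hε : ¬ IsSquare ε) (hd : 1 ≤ d)
    (T : (Fin d ⊕ Fin d → F) →ₗ[F] (Fin d ⊕ Fin d → F)) {z : F} (hT : ∀ v, T (T v) = z • v)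
    (hiso : ∀ u v, sympForm d F (T u) (T v) = sympForm d F u v) :
    ∃ D : (Fin d ⊕ Fin d → F) →ₗ[F] (Fin d ⊕ Fin d → F), (∀ v, D (D v) = ε • v) ∧
      (∀ u v, sympForm d F (D u) v = - sympForm d F u (D v)) ∧
      ((∀ v, T (D v) = D (T v)) ∨ ∀ v, T (D v) = - D (T v)) := by
  classical
  have h2 : (2 : F) ≠ 0 := fun h => by
    haveI : CharP F 2 := CharTwo.of_one_ne_zero_of_two_eq_zero one_ne_zero h
    exact hε (FiniteField.isSquare_of_char_two (ringChar.eq F 2) ε)
  set B := CfsgLib.SympGeom.sympBilin d F with hB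
  have hB' : ∀ u v, B u v = sympForm d F u v := fun u v => CfsgLib.SympGeom.sympBilin_apply u v
  have halt : B.IsAlt := CfsgLib.SympGeom.sympBilin_alt
  have hswap : ∀ u v, B u v = - B v u := fun u v => (LinearMap.IsAlt.neg halt v u).symm
  have hTB : ∀ u v, B (T u) (T v) = B u v := fun u v => by rw [hB', hB', hiso]
  have hzz : z * z = 1 := by
    let i : Fin d := ⟨0, by omega⟩
    obtain ⟨w, hw⟩ : ∃ w, B (Pi.single (Sum.inl i) (1 : F)) w ≠ 0 := by
      by_contra hc
      push Not at hc
      exact one_ne_zero (Pi.single_eq_zero_iff.mp (CfsgLib.SympGeom.sympBilin_nondeg.1 _ hc))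
    have h := hTB (T (Pi.single (Sum.inl i) 1)) (T w)
    rw [hT, hT, hTB] at h
    simp only [map_smul, LinearMap.smul_apply, smul_eq_mul] at h
    exact mul_right_cancel₀ hw (by linear_combination h)
  have hz : z ≠ 0 := fun h => by rw [h, mul_zero] at hzz; exact zero_ne_one hzz
  obtain ⟨k, l, b, hb⟩ := SympPlanes.exists_planeFamily halt hz hT hTB ⊤
    (fun _ _ => trivial) (fun u _ h => CfsgLib.SympGeom.sympBilin_nondeg.1 u fun v => h v trivial)
  -- redefine the images of the swapped planes
  let b' : ((Fin k × Fin 2) ⊕ Fin l) × Fin 2 → (Fin d ⊕ Fin d → F) := fun x => x.1.elim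
    (fun ia => if ia.2 = 0 then b (Sum.inl (ia.1, 0), x.2) else T (b (Sum.inl (ia.1, 0), x.2)))
    fun j => b (Sum.inr j, x.2)
  have hmem : ∀ x, b' x ∈ Submodule.span F (Set.range fun c => b (x.1, c)) := by
    rintro ⟨⟨i, a⟩ | j, c⟩
    · fin_cases a
      · exact Submodule.subset_span ⟨c, by simp [b']⟩
      · simpa [b'] using hb.swap i 0 c
    · exact Submodule.subset_span ⟨c, rfl⟩
  have horth : ∀ x y, x.1 ≠ y.1 → B (b' x) (b' y) = 0 := by
    intro x y hxy
    have hx := hmem x
    have hy := hmem y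
    generalize b' x = u, b' y = v at hx hy ⊢
    induction hx, hy using Submodule.span_induction₂ with
    | mem_mem u v hu hv =>
      obtain ⟨c, rfl⟩ := hu
      obtain ⟨c', rfl⟩ := hv
      exact hb.orth _ _ hxy
    | zero_left y hy => simp
    | zero_right x hx => simp
    | add_left x y z _ _ _ e₁ e₂ => simp [e₁, e₂]
    | add_right x y z _ _ _ e₁ e₂ => simp [e₁, e₂]
    | smul_left c x y _ _ e => simp [e]
    | smul_right c x y _ _ e => simp [e]
  have hpair : ∀ i, B (b' (i, 0)) (b' (i, 1)) = 1 := by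
    rintro (⟨i, a⟩ | j)
    · fin_cases a
      · simpa [b'] using hb.pair (Sum.inl (i, 0))
      · simpa [b', hTB] using hb.pair (Sum.inl (i, 0))
    · exact hb.pair (Sum.inr j)
  have hcard : Fintype.card (((Fin k × Fin 2) ⊕ Fin l) × Fin 2) = finrank F (Fin d ⊕ Fin d → F) := by
    have h1 := finrank_span_eq_card (UnitaryBasis.li_of_pairs halt hb.orth hb.pair)
    rw [hb.span_eq, finrank_top] at h1
    exact h1.symm
  let β : Basis (((Fin k × Fin 2) ⊕ Fin l) × Fin 2) F (Fin d ⊕ Fin d → F) :=
    Basis.mk (UnitaryBasis.li_of_pairs halt horth hpair)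
      ((UnitaryBasis.li_of_pairs halt horth hpair).span_eq_top_of_card_eq_finrank' hcard).ge
  have hβ : ∀ x, β x = b' x := fun x => by simp [β]
  -- the stayed planes
  have hstay : ∀ j : Fin l, ∃ A B' C D' : F,
      T (b' (Sum.inr j, 0)) = A • b' (Sum.inr j, 0) + B' • b' (Sum.inr j, 1) ∧
      T (b' (Sum.inr j, 1)) = C • b' (Sum.inr j, 0) + D' • b' (Sum.inr j, 1) ∧
      A * D' - B' * C = 1 ∧ A * A + B' * C = z ∧ B' * (A + D') = 0 ∧ C * (A + D') = 0 ∧
      D' * D' + B' * C = z := by
    intro j
    have hs : ∀ c, ∃ A B' : F, A • b (Sum.inr j, 0) + B' • b (Sum.inr j, 1) = T (b (Sum.inr j, c)) := fun c => by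
      have h := hb.stay j c
      rw [show (fun d' => b (Sum.inr j, d')) = ![b (Sum.inr j, 0), b (Sum.inr j, 1)] from
        funext fun c => by fin_cases c <;> simp, Matrix.range_cons_cons_empty,
        Submodule.mem_span_pair] at h
      exact h
    obtain ⟨A, B', h0⟩ := hs 0
    obtain ⟨C, D', h1⟩ := hs 1
    set e := b (Sum.inr j, 0)
    set f' := b (Sum.inr j, 1)
    have hef : B e f' = 1 := hb.pair _
    have hfe : B f' e = -1 := by rw [hswap, hef]
    have hee : B e e = 0 := halt _
    have hff : B f' f' = 0 := halt _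
    have hdet : A * D' - B' * C = 1 := by
      have h := hTB e f'
      rw [← h0, ← h1, hef] at h
      simp [hef, hfe, hee, hff] at h
      linear_combination h
    have e0 := hT e
    rw [← h0, map_add, map_smul, map_smul, ← h0, ← h1] at e0
    have e1 := hT f'
    rw [← h1, map_add, map_smul, map_smul, ← h0, ← h1] at e1
    have p0 := congrArg (fun v => B v f') e0
    have p0' := congrArg (fun v => B e v) e0
    have p1 := congrArg (fun v => B v f') e1
    have p1' := congrArg (fun v => B e v) e1
    simp [hef, hee, hff] at p0 p0' p1 p1'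
    refine ⟨A, B', C, D', h0.symm, h1.symm, hdet, ?_, ?_, ?_, ?_⟩
    · linear_combination p0
    · linear_combination p0'
    · linear_combination p1
    · linear_combination p1'
  have hz1 : z = 1 ∨ z = -1 := mul_self_eq_one_iff.1 hzz
  have hst : ∀ j : Fin l, ∃ P Q R : F, P * P + Q * R = ε ∧ ∃ A B' C D' : F,
      T (b' (Sum.inr j, 0)) = A • b' (Sum.inr j, 0) + B' • b' (Sum.inr j, 1) ∧
      T (b' (Sum.inr j, 1)) = C • b' (Sum.inr j, 0) + D' • b' (Sum.inr j, 1) ∧
      P * A + Q * C = z * (A * P + B' * R) ∧ P * B' + Q * D' = z * (A * Q - B' * P) ∧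
      R * A - P * C = z * (C * P + D' * R) ∧ R * B' - P * D' = z * (C * Q - D' * P) := by
    intro j
    obtain ⟨A, B', C, D', h0, h1, hdet, r1, r2, r3, r4⟩ := hstay j
    rcases hz1 with rfl | rfl
    · have hsum : A + D' ≠ 0 := fun h0 => h2 (by linear_combination A * h0 - r1 - hdet)
      obtain rfl := (mul_eq_zero.mp r2).resolve_right hsum
      obtain rfl := (mul_eq_zero.mp r3).resolve_right hsum
      obtain rfl : A = D' := sub_eq_zero.mp ((mul_eq_zero.mp (show (A - D') * (A + D') = 0 by
        linear_combination r1 - r4)).resolve_right hsum)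
      exact ⟨0, ε, 1, by ring, A, 0, 0, A, h0, h1, by ring, by ring, by ring, by ring⟩
    · obtain rfl : D' = -A := by
        refine eq_neg_of_add_eq_zero_right ?_
        by_contra hsum
        have e2 := (mul_eq_zero.mp r2).resolve_right hsum
        have e3 := (mul_eq_zero.mp r3).resolve_right hsum
        subst e2 e3
        have hA : A = D' := sub_eq_zero.mp ((mul_eq_zero.mp (show (A - D') * (A + D') = 0 by
          linear_combination r1 - r4)).resolve_right hsum)
        subst hA
        exact h2 (by linear_combination r1 - hdet)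
      by_cases hB0 : B' = 0
      · subst hB0
        have hA : A ≠ 0 := fun h => by subst h; simp at r1
        refine ⟨-C / (2 * A), 1, ε - (-C / (2 * A)) * (-C / (2 * A)), by ring, A, 0, C, -A, h0, h1, ?_, ?_, ?_, ?_⟩ <;>
          field_simp <;> ring
      · obtain ⟨u, t, hut⟩ : ∃ u t : F, u * u + t * t = ε := by
          obtain ⟨c, d', h⟩ := FiniteField.exists_root_sum_quadratic (R := F)
            (Polynomial.degree_X_pow_sub_C (by norm_num : 0 < 2) ε)
            (Polynomial.degree_X_pow (R := F) 2)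
            (FiniteField.odd_card_of_char_ne_two fun h => hε (FiniteField.isSquare_of_char_two h ε))
          simp at h
          exact ⟨c, d', by linear_combination h⟩
        refine ⟨u + t * A, t * B', (-2 * A * (u + t * A) - C * (t * B')) / B', ?_, A, B', C, -A, h0, h1, ?_, ?_, ?_, ?_⟩
        · field_simp
          linear_combination hut - t * t * r1
        all_goals
          field_simp
          ring
  choose P Q R hPQR A B' C D' hTb0 hTb1 r00 r01 r10 r11 using hst
  let P' : (Fin k × Fin 2) ⊕ Fin l → F := Sum.elim (fun _ => 0) P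
  let Q' : (Fin k × Fin 2) ⊕ Fin l → F := Sum.elim (fun ia => if ia.2 = 0 then ε else z * ε) Q
  let R' : (Fin k × Fin 2) ⊕ Fin l → F := Sum.elim (fun ia => if ia.2 = 0 then 1 else z) R
  have hrel : ∀ x, P' x * P' x + Q' x * R' x = ε := by
    rintro (⟨i, a⟩ | j)
    · fin_cases a
      · simp [P', Q', R']
      · simp [P', Q', R']; linear_combination ε * hzz
    · exact hPQR j
  let D : (Fin d ⊕ Fin d → F) →ₗ[F] (Fin d ⊕ Fin d → F) := β.constr F fun x =>
    if x.2 = 0 then P' x.1 • b' (x.1, 0) + Q' x.1 • b' (x.1, 1) else R' x.1 • b' (x.1, 0) + (- P' x.1) • b' (x.1, 1)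
  have hD0 : ∀ x, D (b' (x, 0)) = P' x • b' (x, 0) + Q' x • b' (x, 1) := fun x => by
    rw [← hβ]; exact (β.constr_basis F _ _).trans (by simp [hβ])
  have hD1 : ∀ x, D (b' (x, 1)) = R' x • b' (x, 0) + (- P' x) • b' (x, 1) := fun x => by
    rw [← hβ]; exact (β.constr_basis F _ _).trans (by simp [hβ])
  refine ⟨D, fun v => ?_, fun u v => ?_, ?_⟩
  · refine LinearMap.congr_fun (β.ext (f₁ := D ∘ₗ D) (f₂ := ε • LinearMap.id) ?_) v
    rintro ⟨x, c⟩
    fin_cases c <;>
      simp only [Fin.zero_eta, Fin.mk_one, LinearMap.comp_apply, LinearMap.smul_apply, LinearMap.id_apply, hβ,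
        hD0, hD1, map_add, map_smul]
    · linear_combination (norm := module) (congrArg (fun t : F => t • b' (x, 0)) (hrel x))
    · linear_combination (norm := module) (congrArg (fun t : F => t • b' (x, 1)) (hrel x))
  · rw [← hB', ← hB']
    have key : B.compl₁₂ D LinearMap.id = - B.compl₁₂ LinearMap.id D := by
      refine LinearMap.ext_basis β β fun x y => ?_
      obtain ⟨x, a⟩ := x
      obtain ⟨y, c⟩ := y
      simp only [LinearMap.neg_apply, LinearMap.compl₁₂_apply, LinearMap.id_apply, hβ]
      by_cases hxy : x = y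
      · subst hxy
        have h0 : B (b' (x, 0)) (b' (x, 0)) = 0 := halt _
        have h1 : B (b' (x, 1)) (b' (x, 1)) = 0 := halt _
        have h10 : B (b' (x, 1)) (b' (x, 0)) = -1 := by rw [hswap, hpair]
        fin_cases a <;> fin_cases c <;> simp [hD0, hD1, hpair, h0, h1, h10]
      · have hz' : ∀ a c, B (b' (x, a)) (b' (y, c)) = 0 := fun a c => horth _ _ (by simpa using hxy)
        fin_cases a <;> fin_cases c <;> simp [hD0, hD1, hz']
    exact LinearMap.congr_fun₂ key u v
  · have key : T ∘ₗ D = z • (D ∘ₗ T) := by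
      refine β.ext ?_
      rintro ⟨⟨i, a⟩ | j, c⟩
      · have hT0 : ∀ c, T (b' (Sum.inl (i, 0), c)) = b' (Sum.inl (i, 1), c) := fun c => by simp [b']
        have hT1 : ∀ c, T (b' (Sum.inl (i, 1), c)) = z • b' (Sum.inl (i, 0), c) := fun c => by simp [b', hT]
        fin_cases a <;> fin_cases c <;>
          simp only [Fin.zero_eta, Fin.mk_one, LinearMap.comp_apply, LinearMap.smul_apply, hβ, hD0, hD1, hT0,
            hT1, map_add, map_smul, P', Q', R', Sum.elim_inl, if_true, one_ne_zero, if_false]
        all_goals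
          first
            | module
            | (rcases hz1 with rfl | rfl <;> module)
      · fin_cases c <;>
          simp only [Fin.zero_eta, Fin.mk_one, LinearMap.comp_apply, LinearMap.smul_apply, hβ, hD0, hD1, hTb0,
            hTb1, map_add, map_smul, P', Q', R', Sum.elim_inr]
        · linear_combination (norm := module) (congrArg (fun t : F => t • b' (Sum.inr j, 0)) (r00 j)) +
            (congrArg (fun t : F => t • b' (Sum.inr j, 1)) (r01 j))
        · linear_combination (norm := module) (congrArg (fun t : F => t • b' (Sum.inr j, 0)) (r10 j)) +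
            (congrArg (fun t : F => t • b' (Sum.inr j, 1)) (r11 j))
    rcases hz1 with rfl | rfl
    · exact Or.inl fun v => by simpa using LinearMap.congr_fun key v
    · exact Or.inr fun v => by simpa using LinearMap.congr_fun key v


/-- Elements of prime order of PSp_n(q), q odd, and the subgroups of type GU_{n/2}(q). Here `T = PSp_{2d}(F)` for a field `F` with `q` elements, `q` odd, `d ≥ 2`, realised through the matrices preserving the standard alternating form `f`; `K` is a subalgebra of the `2d × 2d` matrices that is a field of degree 2 over `F`, closed under taking adjoints for `f` but not consisting of self-adjoint elements (so `F^{2d}` becomes a `d`-dimensional space over `K ≅ F_{q²}` on which `f` is the trace of a multiple of a non-degenerate hermitian form); `H` is the subgroup of `T` normalizing `K` — the symplectic maps that are `K`-linear or `K`-semilinear, a subgroup of type GU_d(q) (maximality is not assumed). Ω is the set of cosets of `H` in `T`, so an element of `T` of prime order `r` (`x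 ∈ T` with `x^r` scalar, `x` not scalar) fixes a point of Ω exactly when some `T`-conjugate of `x` normalizes `K`. Let `r` be a prime dividing the index of `H`. Then every element of `T` of order `r` fixes a point of Ω if and only if `r = 2`. -/
theorem result {F : Type*} [Field F] [Fintype F] {p : ℕ} [Fact p.Prime] [CharP F p] {q : ℕ} (hq : Fintype.card F = q)
    (hodd : Odd q) (d : ℕ) (hd : 2 ≤ d)
    (K : Subalgebra F (Matrix (Fin d ⊕ Fin d) (Fin d ⊕ Fin d) F)) (hK : Cfsg.Geo.IsFieldSubalgebra 2 K)
    (hKf : Cfsg.Geo.IsAdjointClosedFor (Cfsg.sympForm d F) K) (hKns : ¬ Cfsg.Geo.IsSelfAdjointFor (Cfsg.sympForm d F) K)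
    (r : ℕ) [Fact r.Prime]
    (hΩ : r ∣ (Cfsg.Geo.subalgebraNormalizer K).relIndex (Cfsg.spGL d F)) :
    (∀ x ∈ Cfsg.spGL d F, (∃ z : F, ((x ^ r : GL (Fin d ⊕ Fin d) F) : Matrix (Fin d ⊕ Fin d) (Fin d ⊕ Fin d) F) = z • (1 : Matrix (Fin d ⊕ Fin d) (Fin d ⊕ Fin d) F)) →
      (∀ z : F, (x : Matrix (Fin d ⊕ Fin d) (Fin d ⊕ Fin d) F) ≠ z • (1 : Matrix (Fin d ⊕ Fin d) (Fin d ⊕ Fin d) F)) →
      ∃ g ∈ Cfsg.spGL d F, g⁻¹ * x * g ∈ Cfsg.Geo.subalgebraNormalizer K) ↔ r = 2 := by
  classical
  subst hq
  haveI : Nonempty (Fin d ⊕ Fin d) := ⟨Sum.inl ⟨0, by omega⟩⟩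
  have h2 : (2 : F) ≠ 0 := fun h => by
    haveI : CharP F 2 := CharTwo.of_one_ne_zero_of_two_eq_zero one_ne_zero h
    have := FiniteField.even_card_iff_char_two.mp (ringChar.eq F 2)
    rw [Nat.odd_iff] at hodd
    omega
  obtain ⟨J, ε, hJ⟩ : ∃ J ε, QuadSub.IsGen K J 0 ε := by
    obtain ⟨J, a, b, hJ⟩ := QuadSub.exists_gen hK
    exact ⟨_, _, hJ.normalize h2⟩
  have hε : ¬ IsSquare ε := by
    rintro ⟨c, rfl⟩
    exact hJ.noroot c (by ring)
  have hJJ : J * J = ε • 1 := by rw [hJ.rel, zero_smul, zero_add]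
  have hJv : ∀ v, J *ᵥ (J *ᵥ v) = ε • v := fun v => by rw [mulVec_mulVec, hJJ, smul_mulVec, one_mulVec]
  have hJs : ∀ u v, sympForm d F (J *ᵥ u) v = - sympForm d F u (J *ᵥ v) := by
    obtain ⟨k', hk', hadj⟩ := hKf J hJ.mem
    have hkk : k' * k' = ε • 1 := Matrix.toLin'.injective (LinearMap.ext fun v => by
      refine sub_eq_zero.mp (CfsgLib.SympGeom.sympBilin_nondeg.2 _ fun u => ?_)
      show CfsgLib.SympGeom.sympBilin d F u _ = 0
      rw [map_sub, Matrix.toLin'_apply, Matrix.toLin'_apply, ← mulVec_mulVec, smul_mulVec, one_mulVec,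
        map_smul, smul_eq_mul, CfsgLib.SympGeom.sympBilin_apply, CfsgLib.SympGeom.sympBilin_apply,
        ← hadj, ← hadj, hJv, CfsgLib.Linear.Symp.form_smul_left, sub_self])
    have h0 : (k' - J) * (k' + J) = 0 := by
      simp only [sub_mul, mul_add, hkk, hJJ, hK.comm J hJ.mem k' hk']
      abel
    rcases eq_or_ne k' J with rfl | hne
    · refine absurd (fun k hk u v => ?_) hKns
      obtain ⟨c, e, rfl⟩ := hJ.span k hk
      simp only [add_mulVec, smul_mulVec, one_mulVec, CfsgLib.Linear.Symp.form_add_left,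
        CfsgLib.Linear.Symp.form_smul_left, CfsgLib.Linear.Symp.form_add_right,
        CfsgLib.Linear.Symp.form_smul_right, hadj]
    · obtain ⟨w, -, hw⟩ := hK.inv (k' - J) (K.sub_mem hk' hJ.mem) (sub_ne_zero.mpr hne)
      have h1 := congrArg (w * ·) h0
      simp only [← mul_assoc, mul_eq_one_comm.mp hw, one_mul, mul_zero] at h1
      intro u v
      rw [hadj, eq_neg_of_add_eq_zero_left h1, neg_mulVec, CfsgLib.Linear.Symp.form_neg_right]
  constructor
  · intro hall
    by_contra hr2
    have hrodd : Odd r := (Fact.out : r.Prime).odd_of_ne_two hr2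
    -- no element anticommutes
    have main : ∀ x ∈ Cfsg.spGL d F, x ^ r = 1 →
        (∀ z : F, (x : Matrix (Fin d ⊕ Fin d) (Fin d ⊕ Fin d) F) ≠ z • 1) →
        ¬ SympBlock.NoRoot d ε (Matrix.toLin' (x : Matrix (Fin d ⊕ Fin d) (Fin d ⊕ Fin d) F)) := by
      intro x hx hxr hns hno
      obtain ⟨D, hD, hDs, hTD⟩ := (exists_conj_iff hK hJ hJs x).mp
        (hall x hx ⟨1, by rw [hxr, one_smul, Units.val_one]⟩ hns)
      rcases hTD with h | h
      · exact hno D hD hDs h
      · set T := Matrix.toLin' (x : Matrix (Fin d ⊕ Fin d) (Fin d ⊕ Fin d) F)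
        have hk : ∀ (k : ℕ) v, (T ^ k) (D v) = (-1 : F) ^ k • D ((T ^ k) v) := by
          intro k
          induction k with
          | zero => simp
          | succ k ih =>
            intro v
            rw [pow_succ', Module.End.mul_apply, ih, map_smul, h, Module.End.mul_apply, pow_succ, mul_smul,
              neg_one_smul]
        have hT1 : T ^ r = 1 := by
          show (Matrix.toLin' (x : Matrix (Fin d ⊕ Fin d) (Fin d ⊕ Fin d) F)) ^ r = 1
          rw [← Matrix.toLin'_pow, ← Units.val_pow_eq_pow_val, hxr, Units.val_one, Matrix.toLin'_one]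
          rfl
        have hD0 : ∀ v, D v = 0 := fun v => by
          have h' := hk r v
          rw [hT1, hrodd.neg_one_pow, Module.End.one_apply, Module.End.one_apply, neg_one_smul] at h'
          have h'' : (2 : F) • D v = 0 := by rw [two_smul]; nth_rewrite 2 [h']; exact add_neg_cancel _
          exact (smul_eq_zero.mp h'').resolve_left h2
        obtain ⟨v, hv⟩ := exists_ne (0 : Fin d ⊕ Fin d → F)
        have := hD v
        rw [hD0] at this
        exact hε (((smul_eq_zero.mp this.symm).resolve_right hv) ▸ ⟨0, (mul_zero 0).symm⟩)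
    by_cases hrp : r = p
    · -- a transvection
      subst hrp
      let i : Fin d := ⟨0, by omega⟩
      let e : Fin d ⊕ Fin d → F := Pi.single (Sum.inl i) 1
      let w : Fin d ⊕ Fin d → F := Pi.single (Sum.inr i) 1
      have hwe : sympForm d F w e ≠ 0 := by
        rw [CfsgLib.Linear.Symp.sympForm_eq_sum, Finset.sum_eq_single i
          (fun j _ hj => by simp [w, e, hj]) (by simp)]
        simp [w, e]
      let N : (Fin d ⊕ Fin d → F) →ₗ[F] (Fin d ⊕ Fin d → F) :=
        ((CfsgLib.SympGeom.sympBilin d F).flip e).smulRight e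
      have hN : ∀ v, N v = sympForm d F v e • e := fun v => by
        simp [N, CfsgLib.SympGeom.sympBilin_apply]
      have hN2 : N * N = 0 := LinearMap.ext fun v => by
        simp [hN, CfsgLib.Linear.Symp.form_smul_left, CfsgLib.Linear.Symp.form_self]
      have hTr : (1 + N) ^ r = 1 := by
        haveI : CharP (Module.End F (Fin d ⊕ Fin d → F)) r :=
          charP_of_injective_algebraMap (algebraMap F (Module.End F (Fin d ⊕ Fin d → F))).injective r
        rw [add_pow_char_of_commute r (Commute.one_left N), one_pow,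
          show N ^ r = 0 from pow_eq_zero_of_le (Fact.out : r.Prime).two_le (by rw [pow_two, hN2]),
          add_zero]
      obtain ⟨x, hx, hxr, hns, hno⟩ := SympBlock.exists_transfer (CfsgLib.SympGeom.sympBilin d F)
        CfsgLib.SympGeom.sympBilin_alt CfsgLib.SympGeom.sympBilin_nondeg.1
        (CfsgLib.SympGeom.finrank_space (m := d)) (T := 1 + N) (r := r) (ε := ε)
        (fun u v => by
          simp [hN, CfsgLib.SympGeom.sympBilin_apply, CfsgLib.Linear.Symp.form_add_left,
            CfsgLib.Linear.Symp.form_add_right, CfsgLib.Linear.Symp.form_smul_left,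
            CfsgLib.Linear.Symp.form_smul_right, CfsgLib.Linear.Symp.form_self]
          rw [CfsgLib.Linear.Symp.form_swap v e]; ring)
        hTr
        (fun z => by
          by_contra hc
          push Not at hc
          have he0 := congrFun (hc e) (Sum.inl i)
          have hw0 := congrFun (hc w) (Sum.inl i)
          simp [hN, CfsgLib.Linear.Symp.form_self] at he0 hw0
          simp [w, e] at he0 hw0
          exact hwe (by simpa [w, e] using hw0))
        (fun D hD _ hTD => by
          have hND : ∀ v, N (D v) = D (N v) := fun v => by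
            have h := LinearMap.congr_fun hTD.eq v
            simpa using h
          have h1 : sympForm d F w e • D e = sympForm d F (D w) e • e := by
            rw [← hN, hND, hN, map_smul]
          set c := (sympForm d F w e)⁻¹ * sympForm d F (D w) e
          have hDe : D e = c • e := by
            rw [mul_smul, ← h1, smul_smul, inv_mul_cancel₀ hwe, one_smul]
          have h3 := hD e
          rw [hDe, map_smul, hDe, smul_smul] at h3
          have h4 := congrFun h3 (Sum.inl i)
          simp [e] at h4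
          exact hε ⟨c, h4.symm⟩)
      exact main x hx hxr hns hno
    · have hd1 : 1 ≤ d := by omega
      obtain ⟨U, hU, hUJ, hcard⟩ := UnitaryIndex.exists_unitary_subgroup hd1 hε (Matrix.toLin' J)
        (fun v => by simpa [Matrix.toLin'_apply] using hJv v) (fun u v => by simpa using hJs u v)
      have hUN : U ≤ Cfsg.Geo.subalgebraNormalizer K := fun g hg => by
        rw [hJ.mem_normalizer_iff hK]
        refine Or.inl (Matrix.toLin'.injective (LinearMap.ext fun v => ?_))
        rw [Matrix.toLin'_mul, Matrix.toLin'_mul]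
        simpa [Matrix.toLin'_apply] using hUJ g hg v
      obtain ⟨hord, hcase⟩ := UnitaryIndex.order_of_dvd (p := p) hr2 hrp hd1 hU hUN hcard hΩ
      obtain ⟨x, hx, hxr, hns, hno⟩ := SympBlock.exists_element (p := p) hr2 hrp hε hord hcase
      exact main x hx hxr hns hno
  · rintro rfl x hx ⟨z, hz⟩ -
    refine (exists_conj_iff hK hJ hJs x).mpr (exists_skew_root hε (by omega) _ (z := z) (fun v => ?_) fun u v => ?_)
    · rw [Matrix.toLin'_apply, Matrix.toLin'_apply, mulVec_mulVec, ← pow_two, ← Units.val_pow_eq_pow_val, hz,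
        smul_mulVec, one_mulVec]
    · simp only [Matrix.toLin'_apply]
      exact hx u v

end Cfsg.Agent.S5976
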