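import Cfsg.Statements.S5978
import Cfsg.Agent.Lib.LinFix.OrthFieldCases
-- import your own Cfsg.Agent.* helpers here

set_option autoImplicit false
open scoped MatrixGroups
open Cfsg

namespace Cfsg.Agent.S5978

/-- The statement with the rank of the singular part as parameter. -/
theorem main {F : Type*} [Field F] [Fintype F] {p : ℕ} [Fact p.Prime] [CharP F p] (h2 : (2 : F) ≠ 0) (e : ℕ)
    (he : 3 ≤ e) (a b : F) (hab : ∀ x y : F, x ^ 2 + a * x * y + b * y ^ 2 = 0 → x = 0 ∧ y = 0)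
    (K : Subalgebra F (Matrix ((Fin e ⊕ Fin e) ⊕ Fin 2) ((Fin e ⊕ Fin e) ⊕ Fin 2) F))
    (hK : Cfsg.Geo.IsFieldSubalgebra 2 K)
    (hKf : Cfsg.Geo.IsSelfAdjointFor (QuadraticMap.polar (Cfsg.quadFormMinus e F a b)) K)
    (r : ℕ) [Fact r.Prime]
    (hΩ : r ∣ (Cfsg.Geo.subalgebraNormalizer K).relIndex (Cfsg.Geo.omegaGL (Cfsg.quadFormMinus e F a b))) :
    (∀ x ∈ Cfsg.Geo.omegaGL (Cfsg.quadFormMinus e F a b), (∃ z : F, ((x ^ r : GL ((Fin e ⊕ Fin e) ⊕ Fin 2) F) :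
        Matrix ((Fin e ⊕ Fin e) ⊕ Fin 2) ((Fin e ⊕ Fin e) ⊕ Fin 2) F) = z • 1) →
      (∀ z : F, (x : Matrix ((Fin e ⊕ Fin e) ⊕ Fin 2) ((Fin e ⊕ Fin e) ⊕ Fin 2) F) ≠ z • 1) →
      ∃ g ∈ Cfsg.Geo.omegaGL (Cfsg.quadFormMinus e F a b), g⁻¹ * x * g ∈ Cfsg.Geo.subalgebraNormalizer K) ↔
    r = 2 := by
  classical
  rw [← CfsgLib.LinFix.OrthFieldMain.coe_minusQ] at hKf hΩ ⊢
  have hι : Fintype.card ((Fin e ⊕ Fin e) ⊕ Fin 2) = 2 * (e + 1) := by simp; ring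
  have hQ := CfsgLib.LinFix.OrthFieldMain.minusQ_nd (F := F) e hab
  constructor
  · intro hall
    by_contra hr2
    haveI : Nonempty ((Fin e ⊕ Fin e) ⊕ Fin 2) := ⟨Sum.inr 0⟩
    obtain ⟨J, ε, hJ, hε, hroot⟩ := CfsgLib.LinFix.OrthFieldFix.exists_root_of_field h2 hQ hK hKf
    obtain ⟨U, k, hU, hUN, hcard⟩ := CfsgLib.LinFix.OrthFieldMain.exists_subgroup_card h2 hQ
      (show 4 ≤ e + 1 by omega) hι hK hKf false (by
      rw [CfsgLib.LinFix.OrthFieldMain.coe_minusQ, CfsgLib.Classical.SmallIso.card_isometryGroup_minus hab]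
      simp) trivial
    simp only [Bool.false_eq_true, if_false] at hcard
    obtain ⟨c, hc, hidx⟩ := CfsgLib.LinFix.OrthFieldSub.dvd_index h2 hQ (by omega) (Fact.out : r.Prime) hr2 hU hUN hΩ
    exact CfsgLib.LinFix.OrthFieldMain.not_fixed h2 hQ hr2 hK hJ hroot hall
      (CfsgLib.LinFix.OrthFieldCases.minus_elem (p := p) h2 he hr2 hε hab hc hidx hcard)
  · rintro rfl x hx ⟨z, hz⟩ hns
    exact CfsgLib.LinFix.OrthFieldFix.fixes h2 (by omega) hι hQ hK hKf hx hz hns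


/-- Elements of prime order of PΩ⁻_n(q), q odd, and the field-extension subgroups of degree 2 (orthogonal type over F_{q²}). Here `T = PΩ⁻_{2d}(F)` for a field `F` with `q` elements, `q` odd, `d ≥ 4`, realised through `Ω⁻_{2d}(q)`, the commutator subgroup of the isometry group of `Q = Σ_{i<d−1} xᵢyᵢ + z₁² + a z₁z₂ + b z₂²` with `z₁² + a z₁z₂ + b z₂²` anisotropic, with polar form `B`; `K` is a subalgebra of the `2d × 2d` matrices that is a field of degree 2 over `F` whose elements are self-adjoint for `B` (so `F^{2d}` becomes a `d`-dimensional space over `K ≅ F_{q²}` on which `B` is the trace of a `K`-bilinear symmetric form); `H` is the subgroup of `Ω⁻_{2d}(q)` normalizing `K` — the elements of `Ω⁻_{2d}(q)` that are `K`-linear or `K`-semilinear, a subgroup of orthogonal type over the quadratic extension (maximality is not assumed). Ω is the set of cosets of `H`, so an element of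 `T` of prime order `r` (`x ∈ Ω⁻_{2d}(q)` with `x^r` scalar, `x` not scalar) fixes a point of Ω exactly when some `Ω⁻_{2d}(q)`-conjugate of `x` normalizes `K`. Let `r` be a prime dividing the index of `H`. Then every element of `T` of order `r` fixes a point of Ω if and only if `r = 2`. -/
theorem result {F : Type*} [Field F] [Fintype F] {p : ℕ} [Fact p.Prime] [CharP F p] {q : ℕ} (hq : Fintype.card F = q)
    (hodd : Odd q) (d : ℕ) (hd : 4 ≤ d) (a b : F) (hab : ∀ x y : F, x ^ 2 + a * x * y + b * y ^ 2 = 0 → x = 0 ∧ y = 0)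
    (K : Subalgebra F (Matrix ((Fin (d - 1) ⊕ Fin (d - 1)) ⊕ Fin 2) ((Fin (d - 1) ⊕ Fin (d - 1)) ⊕ Fin 2) F)) (hK : Cfsg.Geo.IsFieldSubalgebra 2 K)
    (hKf : Cfsg.Geo.IsSelfAdjointFor (QuadraticMap.polar (Cfsg.quadFormMinus (d - 1) F a b)) K)
    (r : ℕ) [Fact r.Prime]
    (hΩ : r ∣ (Cfsg.Geo.subalgebraNormalizer K).relIndex (Cfsg.Geo.omegaGL (Cfsg.quadFormMinus (d - 1) F a b))) :
    (∀ x ∈ Cfsg.Geo.omegaGL (Cfsg.quadFormMinus (d - 1) F a b), (∃ z : F, ((x ^ r : GL ((Fin (d - 1) ⊕ Fin (d - 1)) ⊕ Fin 2) F) : Matrix ((Fin (d - 1) ⊕ Fin (d - 1)) ⊕ Fin 2) ((Fin (d - 1) ⊕ Fin (d - 1)) ⊕ Fin 2) F) = z • (1 : Matrix ((Fin (d - 1) ⊕ Fin (d - 1)) ⊕ Fin 2) ((Fin (d - 1) ⊕ Fin (d - 1)) ⊕ Fin 2) F)) →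
      (∀ z : F, (x : Matrix ((Fin (d - 1) ⊕ Fin (d - 1)) ⊕ Fin 2) ((Fin (d - 1) ⊕ Fin (d - 1)) ⊕ Fin 2) F) ≠ z • (1 : Matrix ((Fin (d - 1) ⊕ Fin (d - 1)) ⊕ Fin 2) ((Fin (d - 1) ⊕ Fin (d - 1)) ⊕ Fin 2) F)) →
      ∃ g ∈ Cfsg.Geo.omegaGL (Cfsg.quadFormMinus (d - 1) F a b), g⁻¹ * x * g ∈ Cfsg.Geo.subalgebraNormalizer K) ↔ r = 2 := by
  subst hq
  exact main (p := p) (CfsgLib.FormsDisc.two_ne_zero_of_card_odd rfl hodd) (d - 1) (by omega) a b hab K hK hKf r hΩ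

end Cfsg.Agent.S5978
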