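import Cfsg.Statements.S5980
import Cfsg.Agent.S2389
import Cfsg.Agent.S5979
import Cfsg.Agent.Lib.LinFix.SympMin
import Cfsg.Agent.Lib.LinFix.KronForm
import Cfsg.Agent.Lib.Semisimple.SelfDual.Symplectic
import Cfsg.Agent.Lib.Semisimple.SelfDual.Basic
import Cfsg.Agent.Lib.LinFix.MinusSymp
-- import your own Cfsg.Agent.* helpers here

set_option autoImplicit false
open scoped MatrixGroups
open Cfsg

namespace Cfsg.Agent.S5980

open Matrix Module CfsgLib.LinFix CfsgLib.LinFix.KronForm Polynomial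
open scoped Kronecker

section model

variable {F : Type*} [Field F] {d a b : ℕ}

local notation "II" => (Fin d ⊕ Fin d)
local notation "MM" => Matrix (Fin d ⊕ Fin d) (Fin d ⊕ Fin d) F

/-- The model matrix of a Kronecker product. -/
def model (e : II ≃ Fin a × Fin b) (P : GL II F) (M : Matrix (Fin a × Fin b) (Fin a × Fin b) F) : MM :=
  (P : MM) * M.submatrix e e * ((P⁻¹ : GL II F) : MM)

theorem exists_model {e : II ≃ Fin a × Fin b} {P y : GL II F}
    (h : y ∈ Cfsg.Geo.tensorProductSubgroup a b e P) :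
    ∃ (A : GL (Fin a) F) (B : GL (Fin b) F),
      (y : MM) = model e P ((A : Matrix (Fin a) (Fin a) F) ⊗ₖ (B : Matrix (Fin b) (Fin b) F)) := by
  obtain ⟨_, ⟨m, ⟨A, B, hm⟩, rfl⟩, hy⟩ := h
  refine ⟨A, B, ?_⟩
  rw [← hy, ← hm]
  rfl

theorem mem_of_model {e : II ≃ Fin a × Fin b} {P y : GL II F} (A : GL (Fin a) F) (B : GL (Fin b) F)
    (hy : (y : MM) = model e P ((A : Matrix (Fin a) (Fin a) F) ⊗ₖ (B : Matrix (Fin b) (Fin b) F))) :
    y ∈ Cfsg.Geo.tensorProductSubgroup a b e P := by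
  let m : GL (Fin a × Fin b) F := ⟨(A : Matrix (Fin a) (Fin a) F) ⊗ₖ (B : Matrix (Fin b) (Fin b) F),
    ((A⁻¹ : GL (Fin a) F) : Matrix (Fin a) (Fin a) F) ⊗ₖ ((B⁻¹ : GL (Fin b) F) : Matrix (Fin b) (Fin b) F),
    by rw [← Matrix.mul_kronecker_mul, Units.mul_inv, Units.mul_inv, Matrix.one_kronecker_one],
    by rw [← Matrix.mul_kronecker_mul, Units.inv_mul, Units.inv_mul, Matrix.one_kronecker_one]⟩
  refine ⟨_, ⟨m, ⟨A, B, rfl⟩, rfl⟩, Units.ext ?_⟩
  rw [hy]
  rfl

theorem model_facts {e : II ≃ Fin a × Fin b} {P : GL II F} {M : Matrix (Fin a × Fin b) (Fin a × Fin b) F} :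
    (∀ k : ℕ, model e P M ^ k = model e P (M ^ k)) ∧ (∀ μ : F, (model e P M - μ • 1).rank = (M - μ • 1).rank) ∧
      (∀ μ : F, model e P (μ • 1) = μ • 1) ∧ (model e P M).charpoly = M.charpoly := by
  have hsub : ∀ N : Matrix (Fin a × Fin b) (Fin a × Fin b) F,
      N.submatrix e e = Matrix.reindexAlgEquiv F F e.symm N := fun N => rfl
  have hsc : ∀ μ : F, model e P (μ • 1) = μ • 1 := fun μ => by
    rw [model, hsub, map_smul, map_one, Matrix.mul_smul, Matrix.mul_one, Matrix.smul_mul, Units.mul_inv]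
  refine ⟨fun k => ?_, fun μ => ?_, hsc, ?_⟩
  · rw [model, model, Units.conj_pow, hsub, hsub, map_pow]
  · have hd : model e P M - μ • 1 = model e P (M - μ • 1) := by
      rw [← hsc μ, model, model, model, hsub, hsub, hsub, map_sub, Matrix.mul_sub, Matrix.sub_mul]
    rw [hd, model,
      Matrix.rank_mul_eq_left_of_isUnit_det _ _ ((Matrix.isUnit_iff_isUnit_det _).1 (P⁻¹).isUnit),
      Matrix.rank_mul_eq_right_of_isUnit_det _ _ ((Matrix.isUnit_iff_isUnit_det _).1 P.isUnit),
      Matrix.rank_submatrix]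
  · rw [model, Matrix.coe_units_inv, Matrix.charpoly_units_conj]
    exact Matrix.charpoly_reindex e.symm M

theorem model_injective {e : II ≃ Fin a × Fin b} {P : GL II F} :
    Function.Injective (model e P (F := F)) := by
  intro M N h
  have h1 := congrArg (fun Z : MM => ((P⁻¹ : GL II F) : MM) * Z * (P : MM)) h
  simp [model, Matrix.mul_assoc] at h1
  ext i j
  have := congrFun (congrFun h1 (e.symm i)) (e.symm j)
  simpa using this

theorem formOfGram_eq {κ : Type} [Fintype κ] (G : Matrix κ κ F) (x y : κ → F) :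
    Cfsg.Geo.formOfGram id G x y = x ⬝ᵥ (G *ᵥ y) := by
  simp only [Cfsg.Geo.formOfGram, dotProduct, Matrix.mulVec, Finset.mul_sum, id, mul_assoc]

/-- The form seen in the model. -/
theorem model_symp_iff {e : II ≃ Fin a × Fin b} {P y : GL II F}
    {f₁ : (Fin a → F) → (Fin a → F) → F} {f₂ : (Fin b → F) → (Fin b → F) → F}
    (hS : Cfsg.Geo.IsTensorFormStructure id (Cfsg.sympForm d F) f₁ f₂ e P)
    {M : Matrix (Fin a × Fin b) (Fin a × Fin b) F} (hy : (y : MM) = model e P M) :
    y ∈ Cfsg.spGL d F ↔ Mᵀ * (Cfsg.Geo.gramMatrix f₁ ⊗ₖ Cfsg.Geo.gramMatrix f₂) * M =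
      Cfsg.Geo.gramMatrix f₁ ⊗ₖ Cfsg.Geo.gramMatrix f₂ := by
  classical
  obtain ⟨c, hc, hcf⟩ := hS
  set G := Cfsg.Geo.gramMatrix f₁ ⊗ₖ Cfsg.Geo.gramMatrix f₂
  have hact : ∀ u : Fin a × Fin b → F, (y : MM) *ᵥ ((P : MM) *ᵥ (u ∘ e)) = (P : MM) *ᵥ ((M *ᵥ u) ∘ e) := by
    intro u
    rw [hy, model, Matrix.mulVec_mulVec, Matrix.mul_assoc, Units.inv_mul, Matrix.mul_one,
      ← Matrix.mulVec_mulVec, Matrix.submatrix_mulVec_equiv, Function.comp_assoc, Equiv.self_comp_symm,
      Function.comp_id]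
  have hsurj : ∀ v : II → F, ∃ u : Fin a × Fin b → F, (P : MM) *ᵥ (u ∘ e) = v := fun v =>
    ⟨(((P⁻¹ : GL II F) : MM) *ᵥ v) ∘ e.symm, by
      rw [Function.comp_assoc, Equiv.symm_comp_self, Function.comp_id, Matrix.mulVec_mulVec, Units.mul_inv,
        Matrix.one_mulVec]⟩
  constructor
  · intro hmem
    apply Matrix.toBilin'.injective
    refine LinearMap.ext fun u => LinearMap.ext fun v => ?_
    simp only [Matrix.toBilin'_apply']
    have h := hmem ((P : MM) *ᵥ (u ∘ e)) ((P : MM) *ᵥ (v ∘ e))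
    change Cfsg.sympForm d F ((y : MM) *ᵥ _) ((y : MM) *ᵥ _) = _ at h
    rw [hact, hact, hcf, hcf, formOfGram_eq, formOfGram_eq] at h
    rw [← mul_left_cancel₀ hc h, ← Matrix.mulVec_mulVec, ← Matrix.mulVec_mulVec, Matrix.dotProduct_mulVec,
      Matrix.vecMul_transpose]
  · intro hM v w
    obtain ⟨v, rfl⟩ := hsurj v
    obtain ⟨w, rfl⟩ := hsurj w
    change Cfsg.sympForm d F ((y : MM) *ᵥ _) ((y : MM) *ᵥ _) = _
    rw [hact, hact, hcf, hcf, formOfGram_eq, formOfGram_eq]
    conv_rhs => rw [← hM, ← Matrix.mulVec_mulVec, ← Matrix.mulVec_mulVec, Matrix.dotProduct_mulVec,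
      Matrix.vecMul_transpose]

end model

/-- Semisimple symplectic elements with the same characteristic polynomial are conjugate. -/
theorem exists_sp_conj {F : Type*} [Field F] [Fintype F] (p : ℕ) [Fact p.Prime] [CharP F p] {d k : ℕ}
    (hk : (k : F) ≠ 0) {x y : GL (Fin d ⊕ Fin d) F} (hx : x ∈ Cfsg.spGL d F) (hy : y ∈ Cfsg.spGL d F)
    (hxk : x ^ k = 1) (hyk : y ^ k = 1)
    (hcp : (x : Matrix (Fin d ⊕ Fin d) (Fin d ⊕ Fin d) F).charpoly =
      (y : Matrix (Fin d ⊕ Fin d) (Fin d ⊕ Fin d) F).charpoly) :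
    ∃ g ∈ Cfsg.spGL d F, g⁻¹ * x * g = y := by
  let X' : ↥(Matrix.symplecticGroup (Fin d) F) := ⟨_, CfsgLib.Linear.Symp.mem_of_form_mulVec hx⟩
  let Y' : ↥(Matrix.symplecticGroup (Fin d) F) := ⟨_, CfsgLib.Linear.Symp.mem_of_form_mulVec hy⟩
  have hXk : X' ^ k = 1 := Subtype.ext (by
    rw [SubmonoidClass.coe_pow, OneMemClass.coe_one]
    change (x : Matrix (Fin d ⊕ Fin d) (Fin d ⊕ Fin d) F) ^ k = 1
    rw [← Units.val_pow_eq_pow_val, hxk, Units.val_one])
  have hYk : Y' ^ k = 1 := Subtype.ext (by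
    rw [SubmonoidClass.coe_pow, OneMemClass.coe_one]
    change (y : Matrix (Fin d ⊕ Fin d) (Fin d ⊕ Fin d) F) ^ k = 1
    rw [← Units.val_pow_eq_pow_val, hyk, Units.val_one])
  obtain ⟨c, hc⟩ := isConj_iff.1 (S2389.result p d Y' X'
    (CfsgLib.Semisimple.coprime_of_pow_eq_one (F := F) p Y' hk hYk)
    (CfsgLib.Semisimple.coprime_of_pow_eq_one (F := F) p X' hk hXk) hcp.symm)
  let g : GL (Fin d ⊕ Fin d) F := (Matrix.symplecticGroup (Fin d) F).subtype.toHomUnits c
  refine ⟨g, CfsgLib.Linear.Symp.form_mulVec c.2, ?_⟩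
  have h1 : c * Y' = X' * c := mul_inv_eq_iff_eq_mul.1 hc
  have h2 : g * y = x * g := Units.ext (congrArg Subtype.val h1)
  rw [mul_assoc, ← h2, inv_mul_cancel_left]

theorem reverse_linear {F : Type*} [Field F] {w : F} (hw : w ^ 2 = -1) :
    (X - C w : F[X]).reverse = C (-w) * (X - C (-w)) := by
  rw [reverse, natDegree_X_sub_C, sub_eq_add_neg, ← map_neg, reflect_add, reflect_C]
  have h1 : reflect 1 (X : F[X]) = 1 := by
    rw [← pow_one X, ← one_mul ((X : F[X]) ^ 1), ← map_one C, reflect_C_mul_X_pow]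
    simp
  rw [h1, map_neg]
  have hC : (C w) ^ 2 = (-1 : F[X]) := by rw [← map_pow, hw, map_neg, map_one]
  linear_combination hC

/-- The characteristic polynomial of a symplectic square root of `-1`. -/
theorem charpoly_sq_neg_one {F : Type*} [Field F] [Fintype F] {d : ℕ} (h2 : (2 : F) ≠ 0)
    {M : Matrix (Fin d ⊕ Fin d) (Fin d ⊕ Fin d) F} (hM : M ∈ Matrix.symplecticGroup (Fin d) F)
    (hsq : M ^ 2 = (-1 : F) • 1) : M.charpoly = (X ^ 2 + 1) ^ d := by
  classical
  let e' : Fin d ⊕ Fin d ≃ Fin (d + d) := finSumFinEquiv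
  have hN : (Matrix.reindexAlgEquiv F F e' M) ^ 2 = (-1 : F) • 1 := by rw [← map_pow, hsq, map_smul, map_one]
  have hcp : (Matrix.reindexAlgEquiv F F e' M).charpoly = M.charpoly := Matrix.charpoly_reindex e' M
  by_cases hs : ∃ w : F, w ^ 2 = -1
  · obtain ⟨w, hw⟩ := hs
    obtain ⟨k, l, hkl, h⟩ := S5979.charpoly_of_sq_eq_sq (w := w) (by rw [hN, hw])
    rw [hcp] at h
    have hw0 : w ≠ 0 := fun h0 => by rw [h0, zero_pow two_ne_zero] at hw; exact one_ne_zero (neg_eq_zero.1 hw.symm)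
    have hww : w ≠ -w := fun h0 => mul_ne_zero h2 hw0 (by linear_combination h0)
    have hrev := (CfsgLib.Semisimple.symplectic_charpoly M hM).2
    rw [h, reverse_mul_of_domain] at hrev
    have hpow : ∀ (P : F[X]) (n : ℕ), (P ^ n).reverse = P.reverse ^ n := fun P n => by
      induction n with
      | zero => rw [pow_zero, pow_zero, ← map_one C, reverse_C]
      | succ n ih => rw [pow_succ, pow_succ, reverse_mul_of_domain, ih]
    rw [hpow, hpow, reverse_linear hw, reverse_linear (w := -w) (by rw [neg_sq, hw]), neg_neg,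
      mul_pow, mul_pow] at hrev
    have hlin : ∀ (z : F) (n : ℕ), ((X - C z : F[X]) ^ n) ≠ 0 := fun z n => pow_ne_zero _ (X_sub_C_ne_zero z)
    have hC : ∀ (z : F) (n : ℕ), z ≠ 0 → ((C z : F[X]) ^ n) ≠ 0 := fun z n hz => pow_ne_zero _ (C_ne_zero.2 hz)
    have hr := congrArg (rootMultiplicity w) hrev
    have hrC : ∀ (z : F) (n : ℕ), z ≠ 0 → rootMultiplicity w ((C z : F[X]) ^ n) = 0 := fun z n hz => by
      rw [← map_pow, rootMultiplicity_C]
    have hrX : ∀ n, rootMultiplicity w ((X - C (-w) : F[X]) ^ n) = 0 := fun n => by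
      refine rootMultiplicity_eq_zero ?_
      simp only [IsRoot, eval_pow, eval_sub, eval_X, eval_C]
      exact pow_ne_zero _ (sub_ne_zero.2 hww)
    rw [rootMultiplicity_mul (mul_ne_zero (mul_ne_zero (hC _ _ (neg_ne_zero.2 hw0)) (hlin _ _))
        (mul_ne_zero (hC _ _ hw0) (hlin _ _))),
      rootMultiplicity_mul (mul_ne_zero (hC _ _ (neg_ne_zero.2 hw0)) (hlin _ _)),
      rootMultiplicity_mul (mul_ne_zero (hC _ _ hw0) (hlin _ _)),
      rootMultiplicity_mul (mul_ne_zero (hlin _ _) (hlin _ _)), hrC _ _ (neg_ne_zero.2 hw0), hrC _ _ hw0, hrX, hrX,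
      rootMultiplicity_X_sub_C_pow, rootMultiplicity_X_sub_C_pow] at hr
    obtain rfl : l = k := by omega
    obtain rfl : d = l := by omega
    rw [h, ← mul_pow]
    congr 1
    have hC : (C w) ^ 2 = (-1 : F[X]) := by rw [← map_pow, hw, map_neg, map_one]
    rw [map_neg]
    linear_combination -hC
  · push Not at hs
    have h := S5979.charpoly_of_sq_eq_nonsquare hs hN
    rw [hcp, map_neg, map_one, sub_neg_eq_add, show (d + d) / 2 = d by omega] at h
    exact h

section rank

variable {F : Type*} [Field F] [Fintype F] {r : ℕ} [Fact r.Prime] {ι : Type*} [Fintype ι] [DecidableEq ι]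

/-- A non-trivial element moves at least the minimal number of dimensions, for even rank. -/
theorem c_le_rank (hr0 : 0 < orderOf (Fintype.card F : ZMod r)) (hrF : (r : F) ≠ 0) {M : Matrix ι ι F}
    (hM : M ^ r = 1) (hne : M ≠ 1) (hev : Even (M - 1).rank) :
    (if Even (orderOf (Fintype.card F : ZMod r)) then orderOf (Fintype.card F : ZMod r)
      else 2 * orderOf (Fintype.card F : ZMod r)) ≤ (M - 1).rank := by
  set i := orderOf (Fintype.card F : ZMod r)
  have hge : i ≤ (M - 1).rank := by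
    by_contra hlt
    exact hne (matrix_eq_one_of_rank_lt hr0 hrF hM (by omega))
  split_ifs with hi
  · exact hge
  · obtain ⟨j, hj⟩ : i ∣ (M - 1).rank := by
      let φ := (Matrix.toLinAlgEquiv' : Matrix ι ι F ≃ₐ[F] Module.End F (ι → F))
      have hT : φ M ^ r = 1 := by rw [← map_pow, hM, map_one]
      have hh := homog_order hr0 hrF hT
      have hrk : (M - 1).rank = Module.finrank F (LinearMap.range (φ M - 1)) := by
        rw [← map_one φ, ← map_sub]; rfl
      rw [hrk]
      refine (hh.disjoint_dims _ _ rfl (fun v hv => ?_) ?_).1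
      · obtain ⟨u, rfl⟩ := hv
        exact ⟨φ M u, by simp [LinearMap.sub_apply]⟩
      · rw [Submodule.disjoint_def]
        rintro _ ⟨u, rfl⟩ hv
        have h1 : M *ᵥ (M *ᵥ u - u) = M *ᵥ u - u := by
          have := LinearMap.mem_ker.1 hv
          simpa [φ, LinearMap.sub_apply, sub_eq_zero, Matrix.mulVec_sub] using this
        simp [φ, LinearMap.sub_apply, fix_of_sub_fix hrF hM h1]
    rw [hj] at hev ⊢
    rcases j with _ | _ | j
    · rw [hj] at hge; omega
    · simp at hev; exact absurd hev hi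
    · nlinarith

omit [Fintype F] [Fact r.Prime] in
/-- Scalars of order dividing `r`. -/
theorem eq_one_of_smul [Nonempty ι] (hroot : ∀ z : F, z ^ r = 1 → z = 1) {M : Matrix ι ι F} {s : F}
    (hs : M = s • 1) (hM : M ^ r = 1) : M = 1 := by
  obtain ⟨i⟩ := ‹Nonempty ι›
  have h := congrFun (congrFun hM i) i
  rw [hs, _root_.smul_pow, one_pow] at h
  rw [hs, hroot s (by simpa using h), one_smul]

end rank

/-- Elements of prime order of PSp_n(q), q odd, and the stabilizers of tensor decompositions Sp_a(q) ⊗ O_b(q). Here `T = PSp_{2d}(F)` for a field `F` with `q` elements, `q` odd, `d ≥ 2`, realised through the matrices preserving the standard alternating form `f`; `2d = a·b` with `a` even, `b ≥ 3`, and the bijection `e` and change of basis `P` exhibit `f` as a non-zero scalar multiple of the tensor product of a non-degenerate alternating form `f₁` on `F^a` and a non-degenerate symmetric bilinear form `f₂` on `F^b`; `H` is the subgroup of `T` stabilizing this tensor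 decomposition (the elements of `T` in the conjugate by `P` of the group of Kronecker products) — a subgroup of type Sp_a(q) ⊗ O^ε_b(q) (maximality is not assumed). Ω is the set of cosets of `H` in `T`, so an element of `T` of prime order `r` (`x ∈ T` with `x^r` scalar, `x` not scalar) fixes a point of Ω exactly when some `T`-conjugate of `x` lies in `H`. Let `r` be a prime dividing the index of `H`. Then every element of `T` of order `r` fixes a point of Ω if and only if `r = 2` and `a = 2`. -/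
theorem result {F : Type*} [Field F] [Fintype F] {p : ℕ} [Fact p.Prime] [CharP F p] {q : ℕ} (hq : Fintype.card F = q)
    (hodd : Odd q) (d : ℕ) (hd : 2 ≤ d) (a b : ℕ) (hab : 2 * d = a * b) (ha : Even a) (ha2 : 2 ≤ a) (hb : 3 ≤ b)
    (e : (Fin d ⊕ Fin d) ≃ Fin a × Fin b) (P : GL (Fin d ⊕ Fin d) F)
    (f₁ : (Fin a → F) → (Fin a → F) → F) (f₂ : (Fin b → F) → (Fin b → F) → F)
    (hf₁ : Cfsg.Geo.IsSymplecticForm f₁) (hf₂ : Cfsg.Geo.IsSymmetricForm f₂)
    (hS : Cfsg.Geo.IsTensorFormStructure id (Cfsg.sympForm d F) f₁ f₂ e P)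
    (r : ℕ) [Fact r.Prime]
    (hΩ : r ∣ (Cfsg.Geo.tensorProductSubgroup a b e P).relIndex (Cfsg.spGL d F)) :
    (∀ x ∈ Cfsg.spGL d F, (∃ z : F, ((x ^ r : GL (Fin d ⊕ Fin d) F) : Matrix (Fin d ⊕ Fin d) (Fin d ⊕ Fin d) F) = z • (1 : Matrix (Fin d ⊕ Fin d) (Fin d ⊕ Fin d) F)) →
      (∀ z : F, (x : Matrix (Fin d ⊕ Fin d) (Fin d ⊕ Fin d) F) ≠ z • (1 : Matrix (Fin d ⊕ Fin d) (Fin d ⊕ Fin d) F)) →
      ∃ g ∈ Cfsg.spGL d F, g⁻¹ * x * g ∈ Cfsg.Geo.tensorProductSubgroup a b e P) ↔ (r = 2 ∧ a = 2) := by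
  classical
  have hp : p.Prime := Fact.out
  have hr : r.Prime := Fact.out
  have hp2 : p ≠ 2 := by
    rintro rfl
    obtain ⟨k, -, hk⟩ := FiniteField.card F 2
    rw [← hq, hk, Nat.odd_pow_iff k.ne_zero] at hodd
    exact absurd hodd (by decide)
  have h20 : (2 : F) ≠ 0 := by
    have := natCast_ne_zero_of_ne (F := F) (r := 2) (p := p) (Ne.symm hp2)
    exact_mod_cast this
  set G1 := Cfsg.Geo.gramMatrix f₁ with hG1
  set G2 := Cfsg.Geo.gramMatrix f₂ with hG2
  have g1 : ∀ u v, u ⬝ᵥ (G1 *ᵥ v) = f₁ u v := fun u v => by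
    rw [← formOfGram_eq]
    exact CfsgLib.ClassicalMax.Tensor.formOfGram_gram hf₁.bilinear.add_left hf₁.bilinear.smul_left
      hf₁.bilinear.add_right hf₁.bilinear.smul_right u v
  have g2 : ∀ u v, u ⬝ᵥ (G2 *ᵥ v) = f₂ u v := fun u v => by
    rw [← formOfGram_eq]
    exact CfsgLib.ClassicalMax.Tensor.formOfGram_gram hf₂.bilinear.add_left hf₂.bilinear.smul_left
      hf₂.bilinear.add_right hf₂.bilinear.smul_right u v
  have hG1u : IsUnit G1.det := by
    rw [isUnit_iff_ne_zero]
    intro h0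
    obtain ⟨v, hv, hv0⟩ := Matrix.exists_mulVec_eq_zero_iff.2 h0
    obtain ⟨u, hu⟩ := (hf₁.nondegenerate v hv).1
    exact hu (by rw [← g1, hv0, dotProduct_zero])
  have hG2u : IsUnit G2.det := by
    rw [isUnit_iff_ne_zero]
    intro h0
    obtain ⟨v, hv, hv0⟩ := Matrix.exists_mulVec_eq_zero_iff.2 h0
    obtain ⟨u, hu⟩ := (hf₂.nondegenerate v hv).1
    exact hu (by rw [← g2, hv0, dotProduct_zero])
  have hG1s : G1ᵀ = -G1 := by
    ext i j
    simp only [Matrix.transpose_apply, Matrix.neg_apply, hG1, Cfsg.Geo.gramMatrix]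
    exact hf₁.skew _ _
  have hG2s : G2ᵀ = G2 := by
    ext i j
    simp only [Matrix.transpose_apply, hG2, Cfsg.Geo.gramMatrix]
    exact hf₂.symm _ _
  haveI : Nonempty (Fin a) := ⟨⟨0, by omega⟩⟩
  haveI : Nonempty (Fin b) := ⟨⟨0, by omega⟩⟩
  haveI : Nonempty (Fin d ⊕ Fin d) := ⟨Sum.inl ⟨0, by omega⟩⟩
  have hG10 : G1 ≠ 0 := fun h => hG1u.ne_zero (by rw [h, Matrix.det_zero])
  have hG20 : G2 ≠ 0 := fun h => hG2u.ne_zero (by rw [h, Matrix.det_zero])
  -- the consequences of a conjugate in the stabiliser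
  have main : ∀ x ∈ Cfsg.spGL d F, ∀ g ∈ Cfsg.spGL d F, g⁻¹ * x * g ∈ Cfsg.Geo.tensorProductSubgroup a b e P →
      ∃ (A : Matrix (Fin a) (Fin a) F) (B : Matrix (Fin b) (Fin b) F), IsUnit A.det ∧ IsUnit B.det ∧
        ((Aᵀ * G1 * A) ⊗ₖ (Bᵀ * G2 * B) = G1 ⊗ₖ G2) ∧
        (∀ μ : F, ((x : (Matrix (Fin d ⊕ Fin d) (Fin d ⊕ Fin d) F)) - μ • 1).rank = (A ⊗ₖ B - μ • 1).rank) ∧
        (∀ k : ℕ, (x : (Matrix (Fin d ⊕ Fin d) (Fin d ⊕ Fin d) F)) ^ k = 1 → (A ⊗ₖ B) ^ k = 1) := by
    intro x hx g hg hy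
    obtain ⟨A, B, hAB⟩ := exists_model hy
    obtain ⟨hpow, hrank, hsc, -⟩ := model_facts (e := e) (P := P)
      (M := (A : Matrix (Fin a) (Fin a) F) ⊗ₖ (B : Matrix (Fin b) (Fin b) F))
    have hx' : (x : (Matrix (Fin d ⊕ Fin d) (Fin d ⊕ Fin d) F)) = (g : (Matrix (Fin d ⊕ Fin d) (Fin d ⊕ Fin d) F)) * ((g⁻¹ * x * g : GL (Fin d ⊕ Fin d) F) : (Matrix (Fin d ⊕ Fin d) (Fin d ⊕ Fin d) F)) * ((g⁻¹ : GL (Fin d ⊕ Fin d) F) : (Matrix (Fin d ⊕ Fin d) (Fin d ⊕ Fin d) F)) := by
      rw [← Units.val_mul, ← Units.val_mul]; congr 1; group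
    refine ⟨A, B, (Matrix.isUnit_iff_isUnit_det _).1 A.isUnit, (Matrix.isUnit_iff_isUnit_det _).1 B.isUnit,
      ?_, fun μ => ?_, fun k hk => model_injective (e := e) (P := P) ?_⟩
    · have h := (model_symp_iff hS hAB).1 (mul_mem (mul_mem (inv_mem hg) hx) hg)
      have htr : ((A : Matrix (Fin a) (Fin a) F) ⊗ₖ (B : Matrix (Fin b) (Fin b) F))ᵀ =
          (A : Matrix (Fin a) (Fin a) F)ᵀ ⊗ₖ (B : Matrix (Fin b) (Fin b) F)ᵀ :=
        (Matrix.kroneckerMap_transpose _ _ _).symm
      rwa [htr, ← hG1, ← hG2, ← Matrix.mul_kronecker_mul, ← Matrix.mul_kronecker_mul] at h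
    · rw [← hrank, ← hAB]
      conv_lhs => rw [hx']
      rw [show (g : (Matrix (Fin d ⊕ Fin d) (Fin d ⊕ Fin d) F)) * ((g⁻¹ * x * g : GL (Fin d ⊕ Fin d) F) : (Matrix (Fin d ⊕ Fin d) (Fin d ⊕ Fin d) F)) * ((g⁻¹ : GL (Fin d ⊕ Fin d) F) : (Matrix (Fin d ⊕ Fin d) (Fin d ⊕ Fin d) F)) - μ • 1 =
        (g : (Matrix (Fin d ⊕ Fin d) (Fin d ⊕ Fin d) F)) * (((g⁻¹ * x * g : GL (Fin d ⊕ Fin d) F) : (Matrix (Fin d ⊕ Fin d) (Fin d ⊕ Fin d) F)) - μ • 1) * ((g⁻¹ : GL (Fin d ⊕ Fin d) F) : (Matrix (Fin d ⊕ Fin d) (Fin d ⊕ Fin d) F)) by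
          rw [Matrix.mul_sub, Matrix.sub_mul, Matrix.mul_smul, Matrix.mul_one, Matrix.smul_mul, Units.mul_inv],
        Matrix.rank_mul_eq_left_of_isUnit_det _ _ ((Matrix.isUnit_iff_isUnit_det _).1 (g⁻¹).isUnit),
        Matrix.rank_mul_eq_right_of_isUnit_det _ _ ((Matrix.isUnit_iff_isUnit_det _).1 g.isUnit)]
    · rw [← hpow, ← hAB, ← one_smul F (1 : Matrix (Fin a × Fin b) (Fin a × Fin b) F), hsc, one_smul,
        Units.val_mul, Units.val_mul, Units.conj_pow', hk, mul_one, Units.inv_mul]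
  have small : ∀ (A : Matrix (Fin a) (Fin a) F) (B : Matrix (Fin b) (Fin b) F), IsUnit B.det →
      (A ⊗ₖ B - (1 : F) • 1).rank < b →
      ∃ C : Matrix (Fin b) (Fin b) F, A ⊗ₖ B = (1 : Matrix (Fin a) (Fin a) F) ⊗ₖ C ∧
        (A ⊗ₖ B - (1 : F) • 1).rank = a * (C - 1).rank := by
    intro A B hB hlt
    obtain ⟨C, hC, hCr⟩ := exists_rank_eq_of_lt hB (μ := (1 : F)) (by rwa [Fintype.card_fin])
    refine ⟨C, hC, ?_⟩
    rw [hCr, one_smul, Fintype.card_fin]
  constructor
  · intro H
    by_contra hcon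
    rcases eq_or_ne r p with hrp | hrp
    · subst hrp
      set i0 : Fin d := ⟨0, by omega⟩
      let x : GL (Fin d ⊕ Fin d) F := Matrix.GeneralLinearGroup.mkOfDetNeZero (Matrix.transvection (Sum.inl i0) (Sum.inr i0) (1 : F))
        (by rw [Matrix.det_transvection_of_ne _ _ (by simp)]; exact one_ne_zero)
      have hpw : ∀ k : ℕ, Matrix.transvection (Sum.inl i0 : Fin d ⊕ Fin d) (Sum.inr i0) (1 : F) ^ k =
          Matrix.transvection (Sum.inl i0) (Sum.inr i0) (k : F) := by
        intro k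
        induction k with
        | zero => simp
        | succ k ih => rw [pow_succ, ih, Matrix.transvection_mul_transvection_same _ _ (by simp), Nat.cast_succ]
      have hxS : x ∈ Cfsg.spGL d F := by
        refine CfsgLib.Linear.Symp.form_mulVec ?_
        change Matrix.transvection (Sum.inl i0) (Sum.inr i0) (1 : F) ∈ _
        rw [show Matrix.transvection (Sum.inl i0) (Sum.inr i0) (1 : F) =
          Cfsg.sympTransvection d (Pi.single (Sum.inl i0 : Fin d ⊕ Fin d) (1 : F)) 1 by
            rw [Matrix.transvection, Cfsg.sympTransvection, one_smul, Matrix.single_eq_single_vecMulVec_single,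
              Matrix.mulVec_single_one]
            congr 2
            ext i
            rcases i with i | i <;> simp [Matrix.J, Matrix.col, Matrix.one_apply, Pi.single_apply]]
        exact CfsgLib.Linear.Symp.transvection_mem _ _
      have hv : (x : (Matrix (Fin d ⊕ Fin d) (Fin d ⊕ Fin d) F)) - 1 = Matrix.vecMulVec (Pi.single (Sum.inl i0) 1) (Pi.single (Sum.inr i0) 1) := by
        rw [← Matrix.single_eq_single_vecMulVec_single]
        exact add_sub_cancel_left _ _
      obtain ⟨g, hg, hgx⟩ := H x hxS ⟨1, by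
        rw [Units.val_pow_eq_pow_val]
        change Matrix.transvection (Sum.inl i0 : Fin d ⊕ Fin d) (Sum.inr i0) (1 : F) ^ r = _
        rw [hpw, CharP.cast_eq_zero F r, Matrix.transvection_zero, one_smul]⟩ (by
        intro t ht
        change Matrix.transvection (Sum.inl i0) (Sum.inr i0) (1 : F) = _ at ht
        have := congrFun (congrFun ht (Sum.inl i0)) (Sum.inr i0)
        simp [Matrix.transvection] at this)
      obtain ⟨A, B, -, hB, -, hrk, -⟩ := main x hxS g hg hgx
      have hle : ((x : (Matrix (Fin d ⊕ Fin d) (Fin d ⊕ Fin d) F)) - (1 : F) • 1).rank ≤ 1 := by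
        rw [one_smul, hv]
        exact Matrix.rank_vecMulVec_le _ _
      have hne : ((x : (Matrix (Fin d ⊕ Fin d) (Fin d ⊕ Fin d) F)) - (1 : F) • 1).rank ≠ 0 := by
        intro h0
        rw [Matrix.rank, Submodule.finrank_eq_zero, LinearMap.range_eq_bot, ← Matrix.mulVecLin_zero] at h0
        replace h0 := Matrix.ext_iff_mulVec.2 fun v => LinearMap.congr_fun h0 v
        rw [one_smul, hv] at h0
        have := congrFun (congrFun h0 (Sum.inl i0)) (Sum.inr i0)
        simp [Matrix.vecMulVec] at this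
      rw [hrk] at hle hne
      obtain ⟨C, -, hCr⟩ := small A B hB (by omega)
      rcases Nat.eq_zero_or_pos (C - 1).rank with h0 | h0
      · rw [h0, mul_zero] at hCr; omega
      · nlinarith
    rcases eq_or_ne r 2 with rfl | hr2
    · have ha4 : 4 ≤ a := by
        obtain ⟨k, hk⟩ := ha
        by_contra
        exact hcon ⟨rfl, by omega⟩
      set i0 : Fin d := ⟨0, by omega⟩
      let dg : Fin d ⊕ Fin d → F := fun i => if i = Sum.inl i0 ∨ i = Sum.inr i0 then -1 else 1
      have hdd : ∀ i, dg i * dg i = 1 := fun i => by by_cases h : i = Sum.inl i0 ∨ i = Sum.inr i0 <;> simp [dg, h]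
      let x : GL (Fin d ⊕ Fin d) F := ⟨Matrix.diagonal dg, Matrix.diagonal dg,
        by rw [Matrix.diagonal_mul_diagonal, funext hdd, Matrix.diagonal_one],
        by rw [Matrix.diagonal_mul_diagonal, funext hdd, Matrix.diagonal_one]⟩
      have hxS : x ∈ Cfsg.spGL d F := CfsgLib.Linear.Symp.form_mulVec (SymplecticGroup.mem_iff'.2 (by
        change (Matrix.diagonal dg)ᵀ * _ * Matrix.diagonal dg = _
        rw [Matrix.diagonal_transpose]
        ext i j
        rw [Matrix.mul_diagonal, Matrix.diagonal_mul]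
        rcases i with i | i <;> rcases j with j | j <;> simp [Matrix.J, dg, Matrix.one_apply] <;> grind))
      obtain ⟨g, hg, hgx⟩ := H x hxS ⟨1, by
        rw [Units.val_pow_eq_pow_val]
        change Matrix.diagonal dg ^ 2 = _
        rw [pow_two, Matrix.diagonal_mul_diagonal, funext hdd, Matrix.diagonal_one, one_smul]⟩ (by
        intro t ht
        change Matrix.diagonal dg = _ at ht
        have e0 := congrFun (congrFun ht (Sum.inl i0)) (Sum.inl i0)
        have e1 := congrFun (congrFun ht (Sum.inl ⟨1, by omega⟩)) (Sum.inl ⟨1, by omega⟩)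
        simp [dg, i0] at e0 e1
        exact h20 (by linear_combination e1 - e0))
      obtain ⟨A, B, -, hB, -, hrk, -⟩ := main x hxS g hg hgx
      have h2rk : ((x : (Matrix (Fin d ⊕ Fin d) (Fin d ⊕ Fin d) F)) - (1 : F) • 1).rank = 2 := by
        change (Matrix.diagonal dg - _).rank = 2
        rw [one_smul, ← Matrix.diagonal_one, Matrix.diagonal_sub, Matrix.rank_diagonal, Fintype.card_subtype,
          show (Finset.univ.filter fun i => dg i - 1 ≠ 0) = {Sum.inl i0, Sum.inr i0} by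
            ext i
            have h : (-1 : F) - 1 ≠ 0 := fun h => h20 (by linear_combination -h)
            by_cases hi : i = Sum.inl i0 ∨ i = Sum.inr i0 <;> simp [dg, hi, h] ,
          Finset.card_pair (by simp)]
      rw [hrk] at h2rk
      obtain ⟨C, -, hCr⟩ := small A B hB (by omega)
      rcases Nat.eq_zero_or_pos (C - 1).rank with h0 | h0
      · rw [h0, mul_zero] at hCr; omega
      · nlinarith
    -- odd primes different from the characteristic
    have hrodd : Odd r := hr.odd_of_ne_two hr2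
    have hrF : (r : F) ≠ 0 := natCast_ne_zero_of_ne (p := p) hrp
    set i := orderOf (Fintype.card F : ZMod r) with hidef
    have hi0 : 0 < i := orderOf_pos_of_ne (F := F) (p := p) hrp
    set c := if Even i then i else 2 * i with hcdef
    have hc2 : 2 ≤ c ∧ c ≤ 2 * i ∧ (Even i → c = i) ∧ (¬ Even i → c = 2 * i) := by
      refine ⟨?_, ?_, fun h => if_pos h, fun h => if_neg h⟩
      · rw [hcdef]; split_ifs with h
        · obtain ⟨k, hk⟩ := h; omega
        · omega
      · rw [hcdef]; split_ifs <;> omega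
    have hcd : c ≤ 2 * d :=
      SympMin.order_le (p := p) hrp (hΩ.trans (Subgroup.relIndex_dvd_card _ _))
    obtain ⟨x, hxS, hxr, hxc⟩ := SympMin.exists_element (p := p) hr2 hrp h20 hcd
    rw [← hidef, ← hcdef] at hxc
    have hxr' : (x : (Matrix (Fin d ⊕ Fin d) (Fin d ⊕ Fin d) F)) ^ r = 1 := by rw [← Units.val_pow_eq_pow_val, hxr, Units.val_one]
    have hxm : (x : Matrix (Fin d ⊕ Fin d) (Fin d ⊕ Fin d) F) ∈ Matrix.symplecticGroup (Fin d) F :=
      CfsgLib.Linear.Symp.mem_of_form_mulVec hxS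
    obtain ⟨g, hg, hgx⟩ := H x hxS ⟨1, by rw [hxr]; simp⟩ (by
      intro t ht
      have ht2 : t ^ 2 = 1 := by
        have := congrFun (congrFun (SymplecticGroup.mem_iff'.1 hxm)
          (Sum.inr ⟨0, by omega⟩)) (Sum.inl ⟨0, by omega⟩)
        rw [ht] at this
        simp [Matrix.J, Matrix.transpose_smul] at this
        linear_combination this
      have htr : t ^ r = 1 := by
        have h := hxr'
        rw [ht, _root_.smul_pow, one_pow] at h
        simpa using congrFun (congrFun h (Sum.inl ⟨0, by omega⟩)) (Sum.inl ⟨0, by omega⟩)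
      have ht1 : t = 1 := by
        have hg' := (pow_gcd_eq_one (m := 2) (n := r) (a := t)).2 ⟨ht2, htr⟩
        rwa [Nat.Coprime.gcd_eq_one ((Nat.coprime_primes Nat.prime_two hr).2 (Ne.symm hr2)), pow_one] at hg'
      rw [ht, ht1, one_smul, sub_self, Matrix.rank_zero] at hxc
      omega)
    obtain ⟨A, B, hA, hB, hform, hrk, hpw⟩ := main x hxS g hg hgx
    have hcr : (A ⊗ₖ B - (1 : F) • 1).rank = c := by rw [← hrk, one_smul, hxc]
    have hABr := hpw r hxr'
    rcases Nat.lt_or_ge c b with hcb | hcb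
    · obtain ⟨C, hC, hCr⟩ := small A B hB (by omega)
      have hC1 : C ^ r = 1 := by
        rw [hC, kronecker_pow, one_pow] at hABr
        exact eq_one_of_one_kronecker hABr
      have hCG : Cᵀ * G2 * C = G2 := by
        have h1 : (A ⊗ₖ B)ᵀ * (G1 ⊗ₖ G2) * (A ⊗ₖ B) = G1 ⊗ₖ G2 := by
          rw [show (A ⊗ₖ B)ᵀ = Aᵀ ⊗ₖ Bᵀ from (Matrix.kroneckerMap_transpose _ _ _).symm,
            ← Matrix.mul_kronecker_mul, ← Matrix.mul_kronecker_mul, hform]
        rw [hC, show ((1 : Matrix (Fin a) (Fin a) F) ⊗ₖ C)ᵀ = (1 : Matrix (Fin a) (Fin a) F)ᵀ ⊗ₖ Cᵀ from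
          (Matrix.kroneckerMap_transpose _ _ _).symm, Matrix.transpose_one, ← Matrix.mul_kronecker_mul,
          ← Matrix.mul_kronecker_mul, one_mul, mul_one] at h1
        obtain ⟨s, -, hs1, hs2⟩ := exists_scalar_of_kronecker_eq hG10 hG20 h1
        obtain rfl : s = 1 := by
          have h := sub_eq_zero.2 hs1
          nth_rewrite 1 [← one_smul F G1] at h
          rw [← sub_smul] at h
          exact (sub_eq_zero.1 ((smul_eq_zero.1 h).resolve_right hG10)).symm
        rw [hs2, inv_one, one_smul]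
      have hev := even_rank_orth hrodd h20 hG2u hG2s hC1 hCG
      by_cases hne : C = 1
      · rw [hne, sub_self, Matrix.rank_zero, mul_zero] at hCr; omega
      · have := c_le_rank hi0 hrF hC1 hne hev
        rw [← hidef, ← hcdef] at this
        have : 2 * c ≤ a * (C - 1).rank := Nat.mul_le_mul ha2 this
        omega
    · have hi1 : i ≠ 1 := fun h => by
        have := hc2.2.2.2 (by rw [h]; decide)
        omega
      have hroot : ∀ z : F, z ^ r = 1 → z = 1 := by
        intro z hz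
        have hz0 : z ≠ 0 := fun h => by rw [h, zero_pow hr.ne_zero] at hz; exact zero_ne_one hz
        rw [← orderOf_eq_one_iff]
        rcases (Nat.dvd_prime hr).1 (orderOf_dvd_of_pow_eq_one hz) with h | h
        · exact h
        · refine absurd (Nat.dvd_one.1 ((dvd_pow_sub_one_iff (r := r) Fintype.card_pos 1).1 ?_)) hi1
          rw [pow_one, ← h]
          exact orderOf_dvd_of_pow_eq_one (FiniteField.pow_card_sub_one_eq_one z hz0)
      rw [kronecker_pow, ← Matrix.one_kronecker_one] at hABr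
      obtain ⟨s, hs0, hAr, hBr⟩ := exists_scalar_of_kronecker_eq (one_ne_zero : (1 : Matrix (Fin a) (Fin a) F) ≠ 0)
        (one_ne_zero : (1 : Matrix (Fin b) (Fin b) F) ≠ 0) hABr
      obtain ⟨w, hw⟩ := exists_root_of_coprime (r := r) (F := F) hi1 s
      have hw0 : w ≠ 0 := fun h => hs0 (by rw [← hw, h, zero_pow hr.ne_zero])
      set A' := w⁻¹ • A with hA'
      set B' := w • B with hB'
      have hA'r : A' ^ r = 1 := by
        rw [hA', _root_.smul_pow, hAr, smul_smul, inv_pow, hw, inv_mul_cancel₀ hs0, one_smul]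
      have hB'r : B' ^ r = 1 := by
        rw [hB', _root_.smul_pow, hBr, smul_smul, hw, mul_inv_cancel₀ hs0, one_smul]
      have hAB' : A ⊗ₖ B = A' ⊗ₖ B' := by
        rw [hA', hB', Matrix.smul_kronecker, Matrix.kronecker_smul, smul_smul, inv_mul_cancel₀ hw0, one_smul]
      have hform' : (A'ᵀ * G1 * A') ⊗ₖ (B'ᵀ * G2 * B') = G1 ⊗ₖ G2 := by
        rw [hA', hB']
        simp only [Matrix.transpose_smul, Matrix.smul_mul, Matrix.mul_smul, Matrix.smul_kronecker,
          Matrix.kronecker_smul, smul_smul, hform]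
        rw [show w * w * (w⁻¹ * w⁻¹) = 1 by field_simp, one_smul]
      clear_value A' B'
      obtain ⟨κ, hκ0, hκA, hκB⟩ := exists_scalar_of_kronecker_eq hG10 hG20 hform'
      have hiter : ∀ k : ℕ, (A' ^ k)ᵀ * G1 * A' ^ k = κ ^ k • G1 := by
        intro k
        induction k with
        | zero => simp
        | succ k ih =>
          calc (A' ^ (k + 1))ᵀ * G1 * A' ^ (k + 1) = A'ᵀ * ((A' ^ k)ᵀ * G1 * A' ^ k) * A' := by
                rw [pow_succ, Matrix.transpose_mul]; simp only [Matrix.mul_assoc]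
            _ = κ ^ (k + 1) • G1 := by rw [ih, Matrix.mul_smul, Matrix.smul_mul, hκA, smul_smul, pow_succ]
      have hκ1 : κ = 1 := by
        refine hroot κ ?_
        have h := hiter r
        rw [hA'r, Matrix.transpose_one, one_mul, mul_one] at h
        have h' : (κ ^ r - 1) • G1 = 0 := by rw [sub_smul, one_smul, ← h, sub_self]
        exact sub_eq_zero.1 ((smul_eq_zero.1 h').resolve_right hG10)
      rw [hκ1, one_smul] at hκA
      rw [hκ1, inv_one, one_smul] at hκB
      have hevA := even_rank_symp h20 hrF hG1u hG1s hA'r hκA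
      have hevB := even_rank_orth hrodd h20 hG2u hG2s hB'r hκB
      rw [hAB', one_smul] at hcr
      have hswap : (B' ⊗ₖ A' - 1).rank = c := by
        rw [← hcr, ← Matrix.rank_submatrix (A' ⊗ₖ B' - 1) (Equiv.prodComm (Fin b) (Fin a)) (Equiv.prodComm (Fin b) (Fin a))]
        congr 1
        ext ⟨i, j⟩ ⟨k, l⟩
        by_cases h1 : i = k <;> by_cases h2 : j = l <;> simp [Matrix.one_apply, mul_comm, h1, h2]
      by_cases hA1 : A' = 1
      · rw [hA1, show ((1 : Matrix (Fin a) (Fin a) F) ⊗ₖ B' - 1) = (1 : Matrix (Fin a) (Fin a) F) ⊗ₖ (B' - 1) by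
          rw [← one_smul F (1 : Matrix (Fin a × Fin b) (Fin a × Fin b) F), one_kronecker_sub_smul, one_smul],
          rank_one_kronecker, Fintype.card_fin] at hcr
        by_cases hB1 : B' = 1
        · rw [hB1, sub_self, Matrix.rank_zero, mul_zero] at hcr; omega
        · have := c_le_rank hi0 hrF hB'r hB1 hevB
          rw [← hidef, ← hcdef] at this
          have : 2 * c ≤ a * (B' - 1).rank := Nat.mul_le_mul ha2 this
          omega
      by_cases hB1 : B' = 1
      · rw [hB1, show ((1 : Matrix (Fin b) (Fin b) F) ⊗ₖ A' - 1) = (1 : Matrix (Fin b) (Fin b) F) ⊗ₖ (A' - 1) by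
          rw [← one_smul F (1 : Matrix (Fin b × Fin a) (Fin b × Fin a) F), one_kronecker_sub_smul, one_smul],
          rank_one_kronecker, Fintype.card_fin] at hswap
        have := c_le_rank hi0 hrF hA'r hA1 hevA
        rw [← hidef, ← hcdef] at this
        have : 3 * c ≤ b * (A' - 1).rank := Nat.mul_le_mul hb this
        omega
      have hcA := c_le_rank hi0 hrF hA'r hA1 hevA
      have hcB := c_le_rank hi0 hrF hB'r hB1 hevB
      rw [← hidef, ← hcdef] at hcA hcB
      have hA'd : IsUnit A'.det := ((Matrix.isUnit_iff_isUnit_det A').1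
        ⟨Units.ofPowEqOne A' r hA'r hr.ne_zero, rfl⟩)
      have hB'd : IsUnit B'.det := ((Matrix.isUnit_iff_isUnit_det B').1
        ⟨Units.ofPowEqOne B' r hB'r hr.ne_zero, rfl⟩)
      have hac : a ≤ c := by
        by_contra hlt
        obtain ⟨s', hs'⟩ := exists_left_scalar hA'd (μ := (1 : F)) (A := B')
          (by rw [one_smul, hswap, Fintype.card_fin]; omega)
        exact hB1 (eq_one_of_smul hroot hs' hB'r)
      have hAle := Matrix.rank_le_width (A' - 1)
      have hBle := Matrix.rank_le_width (B' - 1)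
      have hfix : ∀ v, A' *ᵥ v = v → v = 0 := by
        intro v hv
        have h1 := LinearMap.finrank_range_add_finrank_ker (A' - 1).mulVecLin
        rw [Module.finrank_fintype_fun_eq_card, Fintype.card_fin] at h1
        have h2 : Module.finrank F (LinearMap.ker (A' - 1).mulVecLin) = 0 := by
          have : (A' - 1).rank = a := by omega
          rw [Matrix.rank] at this
          omega
        rw [Submodule.finrank_eq_zero, LinearMap.ker_eq_bot'] at h2
        exact h2 v (by simp [Matrix.sub_mulVec, hv])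
      obtain ⟨ev, hev⟩ : Even c := by
        rw [hcdef]
        split_ifs with h
        · exact h
        · exact even_two_mul _
      obtain ⟨wv, hwv⟩ := exists_pair hr.pos hroot hA'r hfix (by rw [Fintype.card_fin]; omega)
      have h2b := mul_card_le_rank hB'd hwv (1 : F)
      rw [one_smul, hcr, Fintype.card_fin] at h2b
      omega
  · rintro ⟨rfl, rfl⟩ x hx ⟨c, hc⟩ hns
    rw [Units.val_pow_eq_pow_val] at hc
    have hbd : b = d := by omega
    subst hbd
    have hxm : (x : Matrix (Fin b ⊕ Fin b) (Fin b ⊕ Fin b) F) ∈ Matrix.symplecticGroup (Fin b) F :=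
      CfsgLib.Linear.Symp.mem_of_form_mulVec hx
    have hc2 : c ^ 2 = 1 := by
      have h := SymplecticGroup.mem_iff'.1 (pow_mem hxm 2)
      rw [hc] at h
      have := congrFun (congrFun h (Sum.inr ⟨0, by omega⟩)) (Sum.inl ⟨0, by omega⟩)
      simp [Matrix.J, Matrix.transpose_smul] at this
      linear_combination this
    have h4 : ((4 : ℕ) : F) ≠ 0 := by
      rw [show (4 : ℕ) = 2 * 2 from rfl, Nat.cast_mul]
      exact mul_ne_zero (by exact_mod_cast h20) (by exact_mod_cast h20)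
    have fin : ∀ (A : GL (Fin 2) F) (B : GL (Fin b) F) (y : GL (Fin b ⊕ Fin b) F),
        (y : Matrix (Fin b ⊕ Fin b) (Fin b ⊕ Fin b) F) = model e P ((A : Matrix (Fin 2) (Fin 2) F) ⊗ₖ (B : Matrix (Fin b) (Fin b) F)) →
        y ∈ Cfsg.spGL b F → (y : Matrix (Fin b ⊕ Fin b) (Fin b ⊕ Fin b) F) ^ 2 = c • 1 →
        (x : Matrix (Fin b ⊕ Fin b) (Fin b ⊕ Fin b) F).charpoly = (y : Matrix (Fin b ⊕ Fin b) (Fin b ⊕ Fin b) F).charpoly →
        ∃ g ∈ Cfsg.spGL b F, g⁻¹ * x * g ∈ Cfsg.Geo.tensorProductSubgroup 2 b e P := by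
      intro A B y hy hyS hy2 hcp
      have hpow : ∀ z : GL (Fin b ⊕ Fin b) F, (z : Matrix (Fin b ⊕ Fin b) (Fin b ⊕ Fin b) F) ^ 2 = c • 1 → z ^ 4 = 1 :=
        fun z hz => Units.ext (by
          rw [Units.val_pow_eq_pow_val, show 4 = 2 * 2 from rfl, pow_mul, hz, _root_.smul_pow, one_pow, hc2,
            one_smul, Units.val_one])
      obtain ⟨g, hg, hgy⟩ := exists_sp_conj p h4 hx hyS (hpow x hc) (hpow y hy2) hcp
      exact ⟨g, hg, hgy ▸ mem_of_model A B hy⟩
    have mk : ∀ (A : GL (Fin 2) F) (B : GL (Fin b) F),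
        (A : Matrix (Fin 2) (Fin 2) F)ᵀ * G1 * (A : Matrix (Fin 2) (Fin 2) F) = G1 →
        (B : Matrix (Fin b) (Fin b) F)ᵀ * G2 * (B : Matrix (Fin b) (Fin b) F) = G2 →
        ∃ y ∈ Cfsg.spGL b F, (y : Matrix (Fin b ⊕ Fin b) (Fin b ⊕ Fin b) F) =
          model e P ((A : Matrix (Fin 2) (Fin 2) F) ⊗ₖ (B : Matrix (Fin b) (Fin b) F)) := by
      intro A B hA hB
      let m : GL (Fin 2 × Fin b) F := ⟨(A : Matrix (Fin 2) (Fin 2) F) ⊗ₖ (B : Matrix (Fin b) (Fin b) F),
        ((A⁻¹ : GL (Fin 2) F) : Matrix (Fin 2) (Fin 2) F) ⊗ₖ ((B⁻¹ : GL (Fin b) F) : Matrix (Fin b) (Fin b) F),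
        by rw [← Matrix.mul_kronecker_mul, Units.mul_inv, Units.mul_inv, Matrix.one_kronecker_one],
        by rw [← Matrix.mul_kronecker_mul, Units.inv_mul, Units.inv_mul, Matrix.one_kronecker_one]⟩
      refine ⟨P * Cfsg.Geo.glReindex e.symm m * P⁻¹, (model_symp_iff hS (M := (m : Matrix (Fin 2 × Fin b) (Fin 2 × Fin b) F)) rfl).2 ?_, rfl⟩
      change ((A : Matrix (Fin 2) (Fin 2) F) ⊗ₖ (B : Matrix (Fin b) (Fin b) F))ᵀ * _ *
        ((A : Matrix (Fin 2) (Fin 2) F) ⊗ₖ (B : Matrix (Fin b) (Fin b) F)) = _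
      rw [show ((A : Matrix (Fin 2) (Fin 2) F) ⊗ₖ (B : Matrix (Fin b) (Fin b) F))ᵀ =
        (A : Matrix (Fin 2) (Fin 2) F)ᵀ ⊗ₖ (B : Matrix (Fin b) (Fin b) F)ᵀ from
          (Matrix.kroneckerMap_transpose _ _ _).symm, ← hG1, ← hG2, ← Matrix.mul_kronecker_mul,
        ← Matrix.mul_kronecker_mul, hA, hB]
    rcases sq_eq_one_iff.1 hc2 with rfl | rfl
    · -- an involution
      let e' : Fin b ⊕ Fin b ≃ Fin (b + b) := finSumFinEquiv
      obtain ⟨k, l, hkl, hcp⟩ := S5979.charpoly_of_sq_eq_sq (w := (1 : F))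
        (M := Matrix.reindexAlgEquiv F F e' (x : Matrix (Fin b ⊕ Fin b) (Fin b ⊕ Fin b) F))
        (by rw [← map_pow, hc, map_smul, map_one, one_pow])
      rw [show (Matrix.reindexAlgEquiv F F e' (x : Matrix (Fin b ⊕ Fin b) (Fin b ⊕ Fin b) F)).charpoly =
        (x : Matrix (Fin b ⊕ Fin b) (Fin b ⊕ Fin b) F).charpoly from Matrix.charpoly_reindex e' _] at hcp
      obtain ⟨l', rfl⟩ : Even l := by
        by_contra hl
        have h0 := (CfsgLib.Semisimple.symplectic_charpoly _ hxm).1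
        rw [hcp, coeff_zero_eq_eval_zero] at h0
        simp [(Nat.not_even_iff_odd.1 hl).neg_one_pow] at h0
        have hk' : Odd k := by
          rcases Nat.even_or_odd k with hk | hk
          · have h2' : Even (k + l) := ⟨b, hkl⟩
            exact absurd ((Nat.even_add.1 h2').1 hk) hl
          · exact hk
        simp [hk'.neg_one_pow] at h0
        exact h20 (by linear_combination -h0)
      obtain ⟨k', rfl⟩ : Even k := by
        have h2' : Even (k + (l' + l')) := ⟨b, hkl⟩
        exact (Nat.even_add.1 h2').2 ⟨l', rfl⟩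
      haveI : Invertible (2 : F) := invertibleOfNonzero h20
      obtain ⟨bas, hbas⟩ := LinearMap.BilinForm.exists_orthogonal_basis
        (B := (Matrix.toBilin' G2 : LinearMap.BilinForm F (Fin b → F))) (by
          refine ⟨fun u v => ?_⟩
          simp only [Matrix.toBilin'_apply', RingHom.id_apply]
          rw [g2, g2, hf₂.symm])
      let bas' := bas.reindex (finCongr (Module.finrank_fin_fun F))
      let Qm : Matrix (Fin b) (Fin b) F := (Matrix.of fun i => bas' i)ᵀ
      have hQu : IsUnit Qm.det := by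
        rw [Matrix.det_transpose, ← Matrix.isUnit_iff_isUnit_det]
        exact Matrix.linearIndependent_rows_iff_isUnit.1 bas'.linearIndependent
      have hdiag : ∀ i j, i ≠ j → (Qmᵀ * G2 * Qm) i j = 0 := by
        intro i j hij
        have h := hbas (i := (finCongr (Module.finrank_fin_fun F)).symm i)
          (j := (finCongr (Module.finrank_fin_fun F)).symm j) (fun hh => hij ((Equiv.injective _) hh))
        replace h : Matrix.toBilin' G2 (bas' i) (bas' j) = 0 := by
          simpa [bas', LinearMap.BilinForm.IsOrtho, LinearMap.IsOrtho] using h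
        rw [Matrix.toBilin'_apply'] at h
        rw [← h, Matrix.mul_assoc]
        rfl
      let Q := Matrix.GeneralLinearGroup.mkOfDetNeZero Qm hQu.ne_zero
      set D : Fin b → F := fun i => if (i : ℕ) < l' then -1 else 1 with hD
      have hDD : ∀ i, D i * D i = 1 := fun i => by by_cases h : (i : ℕ) < l' <;> simp [hD, h]
      let Dg : GL (Fin b) F := ⟨Matrix.diagonal D, Matrix.diagonal D,
        by rw [Matrix.diagonal_mul_diagonal, funext hDD, Matrix.diagonal_one],
        by rw [Matrix.diagonal_mul_diagonal, funext hDD, Matrix.diagonal_one]⟩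
      let B := Q * Dg * Q⁻¹
      have hδ : Qmᵀ * G2 * Qm = Matrix.diagonal fun i => (Qmᵀ * G2 * Qm) i i := by
        ext i j
        rcases eq_or_ne i j with rfl | hij
        · rw [Matrix.diagonal_apply_eq]
        · rw [Matrix.diagonal_apply_ne _ hij, hdiag i j hij]
      have hBG : (B : Matrix (Fin b) (Fin b) F)ᵀ * G2 * (B : Matrix (Fin b) (Fin b) F) = G2 := by
        set Qi := ((Q⁻¹ : GL (Fin b) F) : Matrix (Fin b) (Fin b) F)
        have hi1 : Qm * Qi = 1 := Q.mul_inv
        calc (B : Matrix (Fin b) (Fin b) F)ᵀ * G2 * (B : Matrix (Fin b) (Fin b) F)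
            = Qiᵀ * ((Matrix.diagonal D) * (Qmᵀ * G2 * Qm) * Matrix.diagonal D) * Qi := by
              change (Qm * Matrix.diagonal D * Qi)ᵀ * G2 * (Qm * Matrix.diagonal D * Qi) = _
              rw [Matrix.transpose_mul, Matrix.transpose_mul, Matrix.diagonal_transpose]
              simp only [Matrix.mul_assoc]
          _ = Qiᵀ * (Qmᵀ * G2 * Qm) * Qi := by
              rw [hδ, Matrix.diagonal_mul_diagonal, Matrix.diagonal_mul_diagonal]
              congr 3
              funext i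
              rw [mul_right_comm, hDD, one_mul]
          _ = (Qm * Qi)ᵀ * G2 * (Qm * Qi) := by rw [Matrix.transpose_mul]; simp only [Matrix.mul_assoc]
          _ = G2 := by rw [hi1, Matrix.transpose_one, one_mul, mul_one]
      obtain ⟨y, hyS, hy⟩ := mk 1 B (by simp) hBG
      obtain ⟨hpow, -, hsc, hch⟩ := model_facts (e := e) (P := P)
        (M := (1 : Matrix (Fin 2) (Fin 2) F) ⊗ₖ (B : Matrix (Fin b) (Fin b) F))
      refine fin 1 B y hy hyS ?_ ?_
      · rw [hy, Units.val_one, hpow, kronecker_pow, one_pow,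
          show (B : Matrix (Fin b) (Fin b) F) ^ 2 = 1 from by
            change ((Q : Matrix (Fin b) (Fin b) F) * Matrix.diagonal D * ((Q⁻¹ : GL (Fin b) F) : Matrix (Fin b) (Fin b) F)) ^ 2 = 1
            rw [Units.conj_pow, pow_two, Matrix.diagonal_mul_diagonal, funext hDD, Matrix.diagonal_one, mul_one,
              Units.mul_inv], Matrix.one_kronecker_one, ← hsc, one_smul]
      · rw [hy, Units.val_one, hch]
        let U : GL (Fin 2 × Fin b) F := ⟨(1 : Matrix (Fin 2) (Fin 2) F) ⊗ₖ (Q : Matrix (Fin b) (Fin b) F),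
          (1 : Matrix (Fin 2) (Fin 2) F) ⊗ₖ ((Q⁻¹ : GL (Fin b) F) : Matrix (Fin b) (Fin b) F),
          by rw [← Matrix.mul_kronecker_mul, Units.mul_inv, one_mul, Matrix.one_kronecker_one],
          by rw [← Matrix.mul_kronecker_mul, Units.inv_mul, one_mul, Matrix.one_kronecker_one]⟩
        have hU : (1 : Matrix (Fin 2) (Fin 2) F) ⊗ₖ (B : Matrix (Fin b) (Fin b) F) =
            (U : Matrix (Fin 2 × Fin b) (Fin 2 × Fin b) F) * Matrix.diagonal (fun p : Fin 2 × Fin b => D p.2) *
              ((U⁻¹ : GL (Fin 2 × Fin b) F) : Matrix (Fin 2 × Fin b) (Fin 2 × Fin b) F) := by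
          have hd' : Matrix.diagonal (fun p : Fin 2 × Fin b => D p.2) =
              (1 : Matrix (Fin 2) (Fin 2) F) ⊗ₖ Matrix.diagonal D := by
            rw [← Matrix.diagonal_one, Matrix.diagonal_kronecker_diagonal]; simp
          rw [hd']
          change _ = ((1 : Matrix (Fin 2) (Fin 2) F) ⊗ₖ _) * _ * ((1 : Matrix (Fin 2) (Fin 2) F) ⊗ₖ _)
          rw [← Matrix.mul_kronecker_mul, ← Matrix.mul_kronecker_mul, one_mul, one_mul]
          rfl
        rw [hU, Matrix.coe_units_inv, Matrix.charpoly_units_conj, Matrix.charpoly_diagonal, Fintype.prod_prod_type,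
          Fin.prod_univ_two, hcp]
        have hl : l' ≤ b := by omega
        have hP : ∏ i : Fin b, (X - C (D i)) = (X - C (-1)) ^ l' * (X - C 1) ^ k' := by
          rw [← Finset.prod_filter_mul_prod_filter_not Finset.univ (fun i : Fin b => (i : ℕ) < l'),
            Finset.prod_congr rfl (g := fun _ => X - C (-1 : F)) (fun i hi => by simp [hD, (Finset.mem_filter.1 hi).2]),
            Finset.prod_congr rfl (s₁ := Finset.univ.filter fun i : Fin b => ¬ (i : ℕ) < l') (g := fun _ => X - C (1 : F))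
              (fun i hi => by simp [hD, (Finset.mem_filter.1 hi).2]),
            Finset.prod_const, Finset.prod_const]
          have h1 : (Finset.univ.filter fun i : Fin b => (i : ℕ) < l').card = l' := by
            rw [Fin.card_filter_val_lt, min_eq_right hl]
          have h2 := Finset.card_filter_add_card_filter_not (s := Finset.univ) (fun i : Fin b => (i : ℕ) < l')
          rw [h1, Finset.card_univ, Fintype.card_fin] at h2
          rw [h1, show (Finset.univ.filter fun i : Fin b => ¬ (i : ℕ) < l').card = k' by omega]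
        simp only at hP ⊢
        rw [hP]
        ring
    · let A : GL (Fin 2) F := Matrix.GeneralLinearGroup.mkOfDetNeZero !![0, -1; 1, 0] (by simp [Matrix.det_fin_two])
      have hA : (A : Matrix (Fin 2) (Fin 2) F)ᵀ * G1 * (A : Matrix (Fin 2) (Fin 2) F) = G1 := by
        have hd0 : ∀ i, G1 i i = 0 := fun i => hf₁.alternating _
        have h01 : G1 1 0 = -G1 0 1 := congrFun (congrFun hG1s 0) 1
        change (!![0, -1; 1, 0] : Matrix (Fin 2) (Fin 2) F)ᵀ * G1 * !![0, -1; 1, 0] = G1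
        ext i j
        fin_cases i <;> fin_cases j <;> simp [Matrix.mul_apply, Fin.sum_univ_two, hd0, h01]
      obtain ⟨y, hyS, hy⟩ := mk A 1 hA (by simp)
      have hy2 : (y : Matrix (Fin b ⊕ Fin b) (Fin b ⊕ Fin b) F) ^ 2 = (-1 : F) • 1 := by
        obtain ⟨hpow, -, hsc, -⟩ := model_facts (e := e) (P := P)
          (M := (A : Matrix (Fin 2) (Fin 2) F) ⊗ₖ ((1 : GL (Fin b) F) : Matrix (Fin b) (Fin b) F))
        rw [hy, hpow, kronecker_pow, Units.val_one, one_pow,
          show (A : Matrix (Fin 2) (Fin 2) F) ^ 2 = (-1 : F) • 1 by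
            change (!![0, -1; 1, 0] : Matrix (Fin 2) (Fin 2) F) ^ 2 = _
            ext i j
            fin_cases i <;> fin_cases j <;> simp [pow_two, Matrix.mul_apply, Fin.sum_univ_two],
          Matrix.smul_kronecker, Matrix.one_kronecker_one, hsc]
      exact fin A 1 y hy hyS hy2 (by
        have hym : (y : Matrix (Fin b ⊕ Fin b) (Fin b ⊕ Fin b) F) ∈ Matrix.symplecticGroup (Fin b) F :=
          CfsgLib.Linear.Symp.mem_of_form_mulVec hyS
        rw [charpoly_sq_neg_one h20 hxm hc, charpoly_sq_neg_one h20 hym hy2])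

end Cfsg.Agent.S5980
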