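import Cfsg.Statements.S5981
import Cfsg.Agent.Lib.LinFix.SimilTools
import Cfsg.Agent.Lib.LinFix.QuadSub
import Cfsg.Agent.Lib.LinFix.Elements
import Cfsg.Agent.Lib.RootCount.QuadType
import Cfsg.Agent.Lib.OrthPoints.Basic
-- import your own Cfsg.Agent.* helpers here

set_option autoImplicit false
open scoped MatrixGroups
open Cfsg

namespace Cfsg.Agent.S5981

open Matrix Polynomial CfsgLib.Asch CfsgLib.LinFix CfsgLib.LinFix.HermModel
open CfsgLib.Classical.Quad CfsgLib.RootCount

variable {F : Type*} [Field F] [Fintype F] {n : ℕ}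

omit [Fintype F] in
theorem prod_range_odd (q m : ℕ) : ∏ i ∈ Finset.range (2 * m + 1), (q ^ (i + 1) - 1) =
    (q - 1) * (∏ k ∈ Finset.range m, (q ^ (2 * k + 3) - 1)) * ∏ k ∈ Finset.range m, (q ^ (2 * (k + 1)) - 1) := by
  induction m with
  | zero => simp
  | succ m ih =>
    rw [show 2 * (m + 1) + 1 = 2 * m + 1 + 1 + 1 by ring, Finset.prod_range_succ, Finset.prod_range_succ,
      Finset.prod_range_succ (f := fun k => q ^ (2 * k + 3) - 1), Finset.prod_range_succ (f := fun k => q ^ (2 * (k + 1)) - 1), ih,
      show 2 * m + 1 + 1 + 1 = 2 * m + 3 by ring, show 2 * m + 1 + 1 = 2 * (m + 1) by ring]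
    ring

omit [Fintype F] in
/-- Scaled forms have the same isometries. -/
theorem card_orth_scaled {V : Type*} [AddCommGroup V] [Module F V] (R : QuadraticForm F V) {d : F} (hd : d ≠ 0) :
    Nat.card (Orth (d • R)) = Nat.card (Orth R) := by
  refine Nat.card_congr (MulEquiv.subgroupCongr ?_).toEquiv
  ext g
  show (∀ x, (d • R) (g x) = (d • R) x) ↔ ∀ x, R (g x) = R x
  simp [hd]

/-- What a prime divisor of the index says about the order of `q`. -/
theorem index_cases {Q : QuadraticForm F (Fin n → F)} (hnd : NDPolar Q) (h2 : (2 : F) ≠ 0) (hn : 3 ≤ n)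
    {r : ℕ} [hr : Fact r.Prime] (hr2 : r ≠ 2) (hrq : ¬ r ∣ Fintype.card F)
    (h : r * Nat.card (Orth Q) ∣ 2 * Nat.card ↥(Cfsg.Geo.specialLinear (Fin n) F)) :
    (∃ l, Odd l ∧ 3 ≤ l ∧ l ≤ n ∧ ((Fintype.card F : ℕ) : ZMod r) ^ l = 1) ∨
      (((Fintype.card F : ℕ) : ZMod r) ^ n = 1 ∧
        (((Fintype.card F : ℕ) : ZMod r) ≠ 1 → (Nat.card {v : Fin n → F // Q v = 0} : ZMod r) ≠ 1)) := by
  classical
  set q := Fintype.card F with hq
  have hqN : Nat.card F = q := Nat.card_eq_fintype_card
  have hq1 : 1 < q := Fintype.one_lt_card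
  have hSL := card_sl_mul (F := F) (n := n) (by omega)
  have hfin : Module.finrank F (Fin n → F) = n := Module.finrank_fin_fun F
  have hrqz : ((q : ℕ) : ZMod r) ≠ 0 := fun h0 => hrq ((CharP.cast_eq_zero_iff (ZMod r) r q).1 h0)
  have hr2z : (2 : ZMod r) ≠ 0 := fun h0 => hr2 ((Nat.prime_dvd_prime_iff_eq hr.out Nat.prime_two).1
    ((CharP.cast_eq_zero_iff (ZMod r) r 2).1 (by exact_mod_cast h0)))
  set T := Nat.card ↥(Cfsg.Geo.specialLinear (Fin n) F)
  set b := ∑ i ∈ Finset.range n, i
  have hodd : ∀ k, r ∣ ∏ j ∈ Finset.range k, (q ^ (2 * j + 3) - 1) → 2 * k + 1 ≤ n →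
      ∃ l, Odd l ∧ 3 ≤ l ∧ l ≤ n ∧ ((q : ℕ) : ZMod r) ^ l = 1 := fun k hk hkn => by
    obtain ⟨j, hj, hj'⟩ := hr.out.prime.exists_mem_finset_dvd hk
    rw [Finset.mem_range] at hj
    refine ⟨2 * j + 3, ⟨j + 1, by ring⟩, by omega, by omega, ?_⟩
    rw [← CharP.cast_eq_zero_iff (ZMod r) r, Nat.cast_sub (Nat.one_le_pow _ _ (by omega)), Nat.cast_pow,
      Nat.cast_one, sub_eq_zero] at hj'
    exact hj'
  obtain ⟨c, hc⟩ := h
  rcases Nat.even_or_odd' n with ⟨M, rfl | rfl⟩
  · obtain ⟨m, rfl⟩ : ∃ m, M = m + 1 := ⟨M - 1, by omega⟩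
    rw [show 2 * (m + 1) = 2 * m + 1 + 1 by ring, Finset.prod_range_succ, prod_range_odd,
      show 2 * m + 1 + 1 = 2 * (m + 1) by ring,
      show q ^ (2 * (m + 1)) - 1 = (q ^ (m + 1) + 1) * (q ^ (m + 1) - 1) by
        rw [mul_comm 2, pow_mul]; simpa using Nat.sq_sub_sq (q ^ (m + 1)) 1] at hSL
    set O := ∏ k ∈ Finset.range m, (q ^ (2 * k + 3) - 1)
    set E := ∏ k ∈ Finset.range m, (q ^ (2 * (k + 1)) - 1) with hE'
    have hE0 : 0 < E := Finset.prod_pos fun k _ => by
      have := Nat.one_lt_pow (n := 2 * (k + 1)) (by omega) hq1; omega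
    have hM1 : 1 < q ^ (m + 1) := Nat.one_lt_pow (by omega) hq1
    obtain ⟨α, β, hab⟩ := exists_aniso (F := F)
    rcases classify_even Q hnd hfin (a := α) (c := β) hab with ⟨-, E₁, hE⟩ | ⟨-, k, hk, E₁, hE⟩
    · let e := E₁.symm.trans (plusEquiv (m + 1) F)
      have he : ∀ x, hypForm (m + 1) (zeroKernel F) (e x) = Q x := fun x => by
        rw [LinearEquiv.trans_apply, plusEquiv_spec, ← CfsgLib.OrthCrit.plusForm_apply, ← hE, E₁.apply_symm_apply]
      rw [Nat.card_congr (orthCongr e he).toEquiv, card_orth_plus, hqN, ← hE'] at hc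
      have key : (q - 1) * E * (q ^ (m + 1) - 1) * (r * (q ^ ((m + 1) * m) * c)) =
          (q - 1) * E * (q ^ (m + 1) - 1) * (q ^ b * (O * (q ^ (m + 1) + 1))) := by
        apply Nat.eq_of_mul_eq_mul_left (show 0 < 2 by norm_num)
        calc _ = (q - 1) * (r * (2 * q ^ ((m + 1) * m) * (q ^ (m + 1) - 1) * E) * c) := by ring
          _ = 2 * ((q - 1) * T) := by rw [← hc]; ring
          _ = _ := by rw [hSL]; ring
      have key2 := Nat.eq_of_mul_eq_mul_left
        (Nat.mul_pos (Nat.mul_pos (show 0 < q - 1 by omega) hE0) (show 0 < q ^ (m + 1) - 1 by omega)) key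
      rcases hr.out.dvd_mul.1 (⟨_, key2.symm⟩ : r ∣ q ^ b * (O * (q ^ (m + 1) + 1))) with h1 | h1
      · exact absurd (hr.out.dvd_of_dvd_pow h1) hrq
      rcases hr.out.dvd_mul.1 h1 with h1 | h1
      · exact Or.inl (hodd m h1 (by omega))
      rw [← CharP.cast_eq_zero_iff (ZMod r) r, Nat.cast_add, Nat.cast_pow, Nat.cast_one] at h1
      set a : ZMod r := ((q : ℕ) : ZMod r) with ha
      have haM : a ^ (m + 1) = -1 := eq_neg_of_add_eq_zero_left h1
      refine Or.inr ⟨by rw [mul_comm 2, pow_mul, haM, neg_one_sq], fun ha1 hone => ha1 ?_⟩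
      rw [Nat.card_congr (e.toEquiv.subtypeEquiv (p := fun v => Q v = 0)
          (q := fun w => hypForm (m + 1) (zeroKernel F) w = 0) fun v => by
            rw [LinearEquiv.coe_toEquiv, he]),
        card_level_hypForm, card_zeros_zeroKernel, Nat.card_fun, Nat.card_fin, pow_zero, mul_one, mul_one, hqN,
        Nat.add_sub_cancel, Nat.cast_add, Nat.cast_mul, Nat.cast_sub hM1.le, Nat.cast_pow, Nat.cast_pow,
        Nat.cast_one, ← ha, haM] at hone
      have e1 : a ^ m * 2 = -1 * 2 := by linear_combination -hone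
      have e2 : a ^ m = -1 := mul_right_cancel₀ hr2z e1
      refine mul_left_cancel₀ (pow_ne_zero m hrqz) ?_
      rw [mul_one, ← pow_succ, haM, e2]
    · obtain rfl : m = k := by omega
      let e := E₁.symm.trans (minusEquiv m F)
      have he : ∀ x, hypForm m (binForm α β) (e x) = Q x := fun x => by
        rw [LinearEquiv.trans_apply, minusEquiv_spec, ← CfsgLib.OrthCrit.minusForm_apply, ← hE, E₁.apply_symm_apply]
      have hab' : IsAniso α β := hab
      rw [Nat.card_congr (orthCongr e he).toEquiv, card_orth_minus hab', hqN, ← hE'] at hc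
      have key : (q - 1) * E * (q ^ (m + 1) + 1) * (r * (q ^ ((m + 1) * m) * c)) =
          (q - 1) * E * (q ^ (m + 1) + 1) * (q ^ b * (O * (q ^ (m + 1) - 1))) := by
        apply Nat.eq_of_mul_eq_mul_left (show 0 < 2 by norm_num)
        calc _ = (q - 1) * (r * (2 * q ^ ((m + 1) * m) * (q ^ (m + 1) + 1) * E) * c) := by ring
          _ = 2 * ((q - 1) * T) := by rw [← hc]; ring
          _ = _ := by rw [hSL]; ring
      have key2 := Nat.eq_of_mul_eq_mul_left
        (Nat.mul_pos (Nat.mul_pos (show 0 < q - 1 by omega) hE0) (show 0 < q ^ (m + 1) + 1 by omega)) key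
      rcases hr.out.dvd_mul.1 (⟨_, key2.symm⟩ : r ∣ q ^ b * (O * (q ^ (m + 1) - 1))) with h1 | h1
      · exact absurd (hr.out.dvd_of_dvd_pow h1) hrq
      rcases hr.out.dvd_mul.1 h1 with h1 | h1
      · exact Or.inl (hodd m h1 (by omega))
      rw [← CharP.cast_eq_zero_iff (ZMod r) r, Nat.cast_sub hM1.le, Nat.cast_pow, Nat.cast_one, sub_eq_zero] at h1
      set a : ZMod r := ((q : ℕ) : ZMod r) with ha
      refine Or.inr ⟨by rw [mul_comm 2, pow_mul, h1, one_pow], fun ha1 hone => ha1 ?_⟩
      obtain ⟨j, rfl⟩ : ∃ j, m = j + 1 := ⟨m - 1, by omega⟩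
      rw [Nat.card_congr (e.toEquiv.subtypeEquiv (p := fun v => Q v = 0)
          (q := fun w => hypForm (j + 1) (binForm α β) w = 0) fun v => by
            rw [LinearEquiv.coe_toEquiv, he]),
        card_level_hypForm, card_zeros_binForm hab', Nat.card_fun, Nat.card_fin, mul_one, hqN,
        Nat.add_sub_cancel, Nat.cast_add, Nat.cast_mul, Nat.cast_mul, Nat.cast_sub (Nat.one_le_pow _ _ (by omega)),
        Nat.cast_pow, Nat.cast_pow, Nat.cast_pow, Nat.cast_one, ← ha] at hone
      have e1 : a ^ (j + 1) * 2 = 1 * 2 := by linear_combination hone - (a ^ (j + 1) - 1) * h1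
      have e2 : a ^ (j + 1) = 1 := mul_right_cancel₀ hr2z e1
      rw [pow_succ, e2, one_mul] at h1
      exact h1
  · rw [prod_range_odd] at hSL
    set O := ∏ k ∈ Finset.range M, (q ^ (2 * k + 3) - 1)
    set E := ∏ k ∈ Finset.range M, (q ^ (2 * (k + 1)) - 1) with hE'
    have hE0 : 0 < E := Finset.prod_pos fun k _ => by
      have := Nat.one_lt_pow (n := 2 * (k + 1)) (by omega) hq1; omega
    obtain ⟨d, hd, E₁, hE⟩ := classify_odd h2 Q hnd hfin
    let e := E₁.symm.trans (oddEquiv M F)
    have he : ∀ x, (d • hypForm M (lineForm F)) (e x) = Q x := fun x => by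
      rw [QuadraticMap.smul_apply, LinearEquiv.trans_apply, oddEquiv_spec, ← CfsgLib.OrthCrit.oddForm_apply,
        smul_eq_mul, ← hE, E₁.apply_symm_apply]
    rw [Nat.card_congr (orthCongr e he).toEquiv, card_orth_scaled _ hd, card_orth_odd h2, hqN, ← hE'] at hc
    have key : (q - 1) * E * (r * (q ^ (M ^ 2) * c)) = (q - 1) * E * (q ^ b * O) := by
      apply Nat.eq_of_mul_eq_mul_left (show 0 < 2 by norm_num)
      calc _ = (q - 1) * (r * (2 * q ^ (M ^ 2) * E) * c) := by ring
        _ = 2 * ((q - 1) * T) := by rw [← hc]; ring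
        _ = _ := by rw [hSL]; ring
    have key2 := Nat.eq_of_mul_eq_mul_left (Nat.mul_pos (show 0 < q - 1 by omega) hE0) key
    rcases hr.out.dvd_mul.1 (⟨_, key2.symm⟩ : r ∣ q ^ b * O) with h1 | h1
    · exact absurd (hr.out.dvd_of_dvd_pow h1) hrq
    · exact Or.inl (hodd M h1 le_rfl)

omit [Fintype F] in
/-- A transvection is no similitude of a non-degenerate symmetric form. -/
theorem no_transvection {p : ℕ} [Fact p.Prime] [CharP F p] (h2 : (2 : F) ≠ 0) (hn : 2 ≤ n) {G : Matrix (Fin n) (Fin n) F} (hG : G.det ≠ 0)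
    (hsym : Gᵀ = G) {μ : F} {i j : Fin n} (hij : i ≠ j)
    (h : (Matrix.transvection i j (1 : F))ᵀ * G * Matrix.transvection i j (1 : F) = μ • G) : False := by
  classical
  have hpw : Matrix.transvection i j (1 : F) ^ p = 1 := by
    have : ∀ k : ℕ, Matrix.transvection i j (1 : F) ^ k = Matrix.transvection i j (k : F) := by
      intro k
      induction k with
      | zero => simp
      | succ k ih => rw [pow_succ, ih, Matrix.transvection_mul_transvection_same _ _ hij, Nat.cast_succ]
    rw [this, CharP.cast_eq_zero, Matrix.transvection_zero]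
  have hmap : ∀ A : Matrix (Fin n) (Fin n) F, A.map (RingHom.id F) = A := fun A => Matrix.map_id A
  have hμ : μ ^ p = 1 := SimilDiag.mult_pow_eq_one (φ := RingHom.id F) (by omega) hG
    (by rw [hmap]; exact h) hpw
  have hμ1 : μ = 1 := by
    have : (μ - 1) ^ p = 0 := by rw [sub_pow_char, hμ, one_pow, sub_self]
    exact sub_eq_zero.1 (eq_zero_of_pow_eq_zero this)
  rw [hμ1, one_smul] at h
  have hent : ∀ a b, (if a = j then G i b else 0) + (if b = j then G a i else 0) +
      (if a = j ∧ b = j then G i i else 0) = 0 := fun a b => by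
    have h' := congrFun (congrFun h a) b
    have el : ∀ (A : Matrix (Fin n) (Fin n) F) c d, (Matrix.single j i (1 : F) * A) c d = if c = j then A i d else 0 := fun A c d => by
      by_cases hc : c = j
      · subst hc; simp
      · rw [if_neg hc, Matrix.mul_apply]; simp [Matrix.single, Ne.symm hc]
    have er : ∀ (A : Matrix (Fin n) (Fin n) F) c d, (A * Matrix.single i j (1 : F)) c d = if d = j then A c i else 0 := fun A c d => by
      by_cases hd : d = j
      · subst hd; simp
      · rw [if_neg hd, Matrix.mul_apply]; simp [Matrix.single, Ne.symm hd]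
    rw [Matrix.transvection, Matrix.transpose_add, Matrix.transpose_one, Matrix.transpose_single, add_mul, one_mul,
      mul_add, mul_one, Matrix.add_apply, Matrix.add_apply, er, Matrix.add_apply, el, el] at h'
    by_cases ha : a = j <;> by_cases hb : b = j <;> simp [ha, hb] at h' ⊢ <;> linear_combination h'
  have hrow : ∀ b, G i b = 0 := fun b => by
    by_cases hb : b = j
    · subst hb
      have h1 := hent b b
      have h0 := hent b i
      have hs := congrFun (congrFun hsym i) b
      simp [hij] at h1 h0 hs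
      rw [h0, add_zero, hs, ← two_mul] at h1
      exact (mul_eq_zero.1 h1).resolve_left h2
    · have := hent j b
      simpa [hb] using this
  exact hG (Matrix.det_eq_zero_of_row_eq_zero i hrow)

/-- Elements of prime order of PSL_n(q), q odd, and the subgroups of orthogonal type. Here `T = PSL_n(F)` for a field `F` with `q` elements, `q` odd, `n ≥ 3`; `Q` is a non-degenerate quadratic form on `F^n` (of either type when `n` is even) and `H` is the subgroup of matrices of determinant 1 that preserve `Q` up to a scalar — a subgroup of type O^ε_n(q) (maximality is not assumed); Ω is the set of cosets of `H` in `T`, so an element of `T` of prime order `r` (a matrix `x` of determinant 1 with `x^r` scalar, `x` not scalar) fixes a point of Ω exactly when some conjugate of `x` by a matrix of determinant 1 preserves `Q` up to a scalar. Let `r` be a prime dividing the index of `H`, with `(n, r) ≠ (6, 3)`. Then every element of `T` of order `r` fixes a point of Ω if and only if `r = 2`, or `r ∈ {3, 5}`, `n = r` and `(q − 1)_r =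 r` (the `r`-part of `q − 1` is exactly `r`). The case `(n, r) = (6, 3)` is not covered by this statement. -/
theorem result {F : Type*} [Field F] [Fintype F] {p : ℕ} [Fact p.Prime] [CharP F p] {q : ℕ} (hq : Fintype.card F = q)
    (hodd : Odd q) (n : ℕ) (hn : 3 ≤ n) (Q : (Fin n → F) → F) (hQ : Cfsg.Geo.IsNondegenerateQuadraticForm Q)
    (r : ℕ) [Fact r.Prime] (hgap : ¬ (n = 6 ∧ r = 3))
    (hΩ : r ∣ (Cfsg.Geo.quadSimilarityGroup Q).relIndex (Cfsg.Geo.specialLinear (Fin n) F)) :
    (∀ x ∈ Cfsg.Geo.specialLinear (Fin n) F, (∃ z : F, ((x ^ r : GL (Fin n) F) : Matrix (Fin n) (Fin n) F) = z • (1 : Matrix (Fin n) (Fin n) F)) →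
      (∀ z : F, (x : Matrix (Fin n) (Fin n) F) ≠ z • (1 : Matrix (Fin n) (Fin n) F)) →
      ∃ g ∈ Cfsg.Geo.specialLinear (Fin n) F, g⁻¹ * x * g ∈ Cfsg.Geo.quadSimilarityGroup Q) ↔
    (r = 2 ∨ ((r = 3 ∨ r = 5) ∧ n = r ∧ padicValNat r (q - 1) = 1)) := by
  classical
  have hp : p.Prime := Fact.out
  have hrp' : r.Prime := Fact.out
  haveI : NeZero n := ⟨by omega⟩
  subst hq
  have hp2 : p ≠ 2 := by
    rintro rfl
    obtain ⟨k, -, hk⟩ := FiniteField.card F 2
    rw [hk, Nat.odd_pow_iff k.ne_zero] at hodd
    exact absurd hodd (by decide)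
  have h20 : (2 : F) ≠ 0 := by
    have := natCast_ne_zero_of_ne (F := F) (r := 2) (p := p) (Ne.symm hp2)
    exact_mod_cast this
  have hq2 : 2 ∣ Fintype.card F - 1 := by obtain ⟨k, hk⟩ := hodd; exact ⟨k, by omega⟩
  set G := Cfsg.Geo.gramMatrix (QuadraticMap.polar Q) with hGdef
  have heq : QuadraticMap.polar Q = sform (RingHom.id F) G := bilinear_eq_sform hQ.polar_bilinear
  have hG : G.det ≠ 0 := ((Matrix.isUnit_iff_isUnit_det _).1
    (isUnit_of_nondegenerate (σ := RingHom.id F) Function.surjective_id (heq ▸ hQ.nondegenerate))).ne_zero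
  have hsym : Gᵀ = G := by ext a b; exact QuadraticMap.polar_comm Q _ _
  have hmap : ∀ A : Matrix (Fin n) (Fin n) F, A.map (RingHom.id F) = A := fun A => Matrix.map_id A
  have hQv : ∀ v, QuadraticMap.polar Q v v = 2 * Q v := fun v => by
    rw [QuadraticMap.polar, ← two_smul F v, hQ.smul]; ring
  have hsim : Cfsg.Geo.quadSimilarityGroup Q = Cfsg.Geo.similarityGroup (sform (RingHom.id F) G) := by
    rw [← heq]
    ext g
    constructor
    · rintro ⟨c, hc⟩
      refine ⟨c, fun u v => ?_⟩
      simp only [QuadraticMap.polar, ← Matrix.mulVec_add, hc, mul_sub]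
    · rintro ⟨c, hc⟩
      refine ⟨c, fun v => ?_⟩
      have := hc v v
      rw [hQv, hQv] at this
      exact mul_left_cancel₀ h20 (by linear_combination this)
  let Qq : QuadraticForm F (Fin n → F) :=
    QuadraticMap.ofPolar Q (fun c x => by rw [hQ.smul, pow_two, smul_eq_mul]) hQ.polar_bilinear.add_left
      (fun c x y => by rw [hQ.polar_bilinear.smul_left, smul_eq_mul])
  have hQq : ⇑Qq = Q := rfl
  have hnd : NDPolar Qq := fun x hx => by
    by_contra h0
    obtain ⟨-, ⟨y, hy⟩⟩ := hQ.nondegenerate x h0
    exact hy (hx y)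
  constructor
  · intro hall
    rw [hsim] at hall
    by_contra hcon
    rw [not_or] at hcon
    obtain ⟨hr2, hcond⟩ := hcon
    rcases eq_or_ne r p with hrp | hrp
    · subst hrp
      have hij : (⟨0, by omega⟩ : Fin n) ≠ ⟨1, by omega⟩ := by simp
      have hT1 : (Matrix.transvection (⟨0, by omega⟩ : Fin n) ⟨1, by omega⟩ (1 : F)).det = 1 :=
        Matrix.det_transvection_of_ne _ _ hij _
      let x : GL (Fin n) F := Matrix.GeneralLinearGroup.mkOfDetNeZero _ (by rw [hT1]; exact one_ne_zero)
      have hpw : ∀ k : ℕ, Matrix.transvection (⟨0, by omega⟩ : Fin n) ⟨1, by omega⟩ (1 : F) ^ k =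
          Matrix.transvection (⟨0, by omega⟩ : Fin n) ⟨1, by omega⟩ (k : F) := by
        intro k
        induction k with
        | zero => simp
        | succ k ih => rw [pow_succ, ih, Matrix.transvection_mul_transvection_same _ _ hij, Nat.cast_succ]
      obtain ⟨g, -, hgx⟩ := hall x (mem_sl_iff.2 hT1)
        ⟨1, by
          rw [Units.val_pow_eq_pow_val]
          change Matrix.transvection (⟨0, by omega⟩ : Fin n) ⟨1, by omega⟩ (1 : F) ^ r = _
          rw [hpw, CharP.cast_eq_zero, Matrix.transvection_zero, one_smul]⟩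
        (fun z hz => by
          have h := congrFun (congrFun hz ⟨0, by omega⟩) ⟨1, by omega⟩
          simp [x, Matrix.transvection, Matrix.one_apply, hij] at h)
      obtain ⟨μ, hμ⟩ := mem_similarity_iff.1 hgx
      have h := SimilDiag.pullback hμ
      rw [hmap, hmap] at h
      refine no_transvection (p := r) h20 (by omega) (G := _) ?_ ?_ hij h
      · have := SimilDiag.pullback_det (φ := RingHom.id F) hG g
        rwa [hmap] at this
      · rw [Matrix.transpose_mul, Matrix.transpose_mul, Matrix.transpose_transpose, hsym, Matrix.mul_assoc]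
    · have hrq : ¬ r ∣ Fintype.card F := fun h => by
        obtain ⟨k, -, hk⟩ := FiniteField.card F p
        rw [hk] at h
        exact hrp ((Nat.prime_dvd_prime_iff_eq hrp' hp).1 (hrp'.dvd_of_dvd_pow h))
      have hcases := index_cases hnd h20 hn hr2 hrq (by
        rw [← Nat.card_congr (isometryGroupEquiv Qq fun _ => rfl).toEquiv]
        set I := Cfsg.isometryGroup F ⇑Qq
        have hK : r * Nat.card ↥(I ⊓ Cfsg.Geo.specialLinear (Fin n) F) ∣
            Nat.card ↥(Cfsg.Geo.specialLinear (Fin n) F) := by
          refine dvd_trans (Nat.mul_dvd_mul_right (hΩ.trans (Subgroup.relIndex_dvd_of_le_left _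
            (show I ⊓ Cfsg.Geo.specialLinear (Fin n) F ≤ Cfsg.Geo.quadSimilarityGroup Q from
              fun g hg => ⟨1, fun v => by rw [Units.val_one, one_mul]; exact hg.1 v v⟩))) _) ?_
          rw [← Nat.card_congr (Subgroup.subgroupOfEquivOfLe (inf_le_right (a := I))).toEquiv, Subgroup.relIndex,
            Subgroup.index_mul_card]
        have hI : Nat.card I ∣ 2 * Nat.card ↥(I ⊓ Cfsg.Geo.specialLinear (Fin n) F) := by
          set ψ : I →* Fˣ := (Matrix.GeneralLinearGroup.det : GL (Fin n) F →* Fˣ).comp I.subtype with hψ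
          have hker : ψ.ker = (I ⊓ Cfsg.Geo.specialLinear (Fin n) F).subgroupOf I := by
            ext g
            simp [hψ, Subgroup.mem_subgroupOf, Cfsg.Geo.specialLinear]
          have hrange : ψ.range ≤ (powMonoidHom 2 : Fˣ →* Fˣ).ker := by
            rintro _ ⟨g, rfl⟩
            have hg : (g : GL (Fin n) F) ∈ Cfsg.Geo.similarityGroup (sform (RingHom.id F) G) :=
              hsim ▸ ⟨1, fun v => by rw [Units.val_one, one_mul]; exact g.2 v v⟩
            have hm : ((g : GL (Fin n) F) : Matrix (Fin n) (Fin n) F)ᵀ * G *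
                ((g : GL (Fin n) F) : Matrix (Fin n) (Fin n) F) = G := by
              refine sform_injective (σ := RingHom.id F) (funext fun u => funext fun v => ?_)
              have := sform_mulVec (RingHom.id F) G ((g : GL (Fin n) F) : Matrix (Fin n) (Fin n) F) u v
              rw [hmap] at this
              rw [← this, ← heq, QuadraticMap.polar, ← Matrix.mulVec_add]
              have hgq : ∀ a, Q (((g : GL (Fin n) F) : Matrix (Fin n) (Fin n) F) *ᵥ a) = Q a := fun a => g.2 a a
              rw [hgq, hgq, hgq]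
              rfl
            rw [MonoidHom.mem_ker, powMonoidHom_apply]
            apply Units.ext
            have h1 := congrArg Matrix.det hm
            rw [Matrix.det_mul, Matrix.det_mul, Matrix.det_transpose] at h1
            rw [Units.val_pow_eq_pow_val, Units.val_one]
            change ((g : GL (Fin n) F) : Matrix (Fin n) (Fin n) F).det ^ 2 = 1
            exact mul_right_cancel₀ hG (by linear_combination h1)
          rw [← ψ.ker.card_mul_index, Subgroup.index_ker, hker,
            Nat.card_congr (Subgroup.subgroupOfEquivOfLe (inf_le_left (b := Cfsg.Geo.specialLinear (Fin n) F))).toEquiv, mul_comm]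
          refine Nat.mul_dvd_mul_right ((Subgroup.card_dvd_of_le hrange).trans ?_) _
          rw [IsCyclic.card_powMonoidHom_ker]
          exact Nat.gcd_dvd_right _ _
        refine dvd_trans (Nat.mul_dvd_mul_left r hI) ?_
        rw [mul_left_comm]
        exact Nat.mul_dvd_mul_left 2 hK)
      have h11 : (1 : ZMod r) ≠ -1 := fun h => by
        have h' : ((2 : ℕ) : ZMod r) = 0 := by push_cast; linear_combination h
        rw [CharP.cast_eq_zero_iff (ZMod r) r] at h'
        exact hr2 ((Nat.prime_dvd_prime_iff_eq hrp' Nat.prime_two).1 h')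
      by_cases hr1 : r ∣ Fintype.card F - 1
      · obtain ⟨x, d, hx, hxd, hxr, hxs, hd0, -, hno⟩ := SimilTools.exists_asym_element (F := F) (n := n) hr2 hr1 hn hgap hcond
        obtain ⟨g, -, hgx⟩ := hall x hx hxr hxs
        obtain ⟨μ, hμ⟩ := mem_similarity_iff.1 hgx
        have h := SimilDiag.pullback hμ
        rw [hxd] at h
        refine hno ⟨μ, fun u hu => ?_⟩
        have := SimilDiag.card_eq_of_similitude (φ := RingHom.id F) (κ := 1) (SimilDiag.pullback_det hG g) μ.ne_zero
          one_ne_zero (fun k => by rw [RingHom.id_apply, one_mul]) h hu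
        rwa [div_one] at this
      have hroot : ∀ z : F, z ^ r = 1 → z = 1 := fun z hz => by
        by_contra h1
        have hz0 : z ≠ 0 := fun h => by rw [h, zero_pow hrp'.ne_zero] at hz; exact zero_ne_one hz
        exact hr1 (orderOf_eq_prime hz h1 ▸ orderOf_dvd_of_pow_eq_one (FiniteField.pow_card_sub_one_eq_one _ hz0))
      set i := orderOf (Fintype.card F : ZMod r) with hi
      have hpos : 0 < i := orderOf_pos_of_ne hrp
      have hiso : ∀ (x g : GL (Fin n) F), (x : Matrix (Fin n) (Fin n) F) ^ r = 1 →
          g⁻¹ * x * g ∈ Cfsg.Geo.similarityGroup (sform (RingHom.id F) G) →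
          ((g⁻¹ * x * g : GL (Fin n) F) : Matrix (Fin n) (Fin n) F)ᵀ * G *
            ((g⁻¹ * x * g : GL (Fin n) F) : Matrix (Fin n) (Fin n) F).map (RingHom.id F) = (1 : F) • G := by
        intro x g hxr hgx
        obtain ⟨μ, hμ⟩ := mem_similarity_iff.1 hgx
        have hyr : ((g⁻¹ * x * g : GL (Fin n) F) : Matrix (Fin n) (Fin n) F) ^ r = 1 := by
          rw [Units.val_mul, Units.val_mul, Units.conj_pow', hxr, mul_one, Units.inv_mul]
        rw [hμ, hroot _ (SimilDiag.mult_pow_eq_one (by omega) hG hμ hyr)]
      rcases hcases with ⟨l, hl, hl3, hln, hql⟩ | ⟨hqn, hzeros⟩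
      · have hin : i ≤ n := (Nat.le_of_dvd (by omega) (orderOf_dvd_of_pow_eq_one hql)).trans hln
        obtain ⟨x, g, hg, hgd, hg1, hx, hxr, hxs, hcp⟩ := SimilTools.exists_element (F := F) (n := n) (p := p) hrp hr1
          (e := n - i) one_pos (by rw [one_mul, ← hi]; omega)
        obtain ⟨g', -, hgx⟩ := hall x hx ⟨1, by rw [Units.val_pow_eq_pow_val, hxr, one_smul]⟩ hxs
        have h := SimilDiag.pullback (hiso x g' hxr hgx)
        rw [one_smul] at h
        obtain ⟨k, hk⟩ := SimilDiag.orbit_condition (p := p) (j := 0) (φ := RingHom.id F)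
          (fun a => by rw [pow_zero, pow_one]; rfl) (fun a => rfl) hg hgd hg1 one_pos
          (SimilDiag.pullback_det hG g') hcp h
        rw [pow_zero] at hk
        refine h11 ?_
        calc (1 : ZMod r) = ((Fintype.card F : ZMod r) ^ l) ^ k := by rw [hql, one_pow]
          _ = ((Fintype.card F : ZMod r) ^ k) ^ l := by rw [← pow_mul, mul_comm, pow_mul]
          _ = -1 := by rw [hk, hl.neg_one_pow]
      · obtain ⟨s, hs⟩ : i ∣ n := orderOf_dvd_of_pow_eq_one hqn
        have hs0 : 0 < s := Nat.pos_of_ne_zero fun h => by rw [h, mul_zero] at hs; omega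
        obtain ⟨x, g, hg, hgd, hg1, hx, hxr, hxs, hcp⟩ := SimilTools.exists_element (F := F) (n := n) (p := p) hrp hr1
          (e := 0) hs0 (by rw [zero_add, ← hi, mul_comm, ← hs])
        obtain ⟨g', -, hgx⟩ := hall x hx ⟨1, by rw [Units.val_pow_eq_pow_val, hxr, one_smul]⟩ hxs
        set y := g'⁻¹ * x * g' with hy
        have hy1 := hiso x g' hxr hgx
        rw [one_smul, hmap] at hy1
        have hQy : ∀ v, Q ((y : Matrix (Fin n) (Fin n) F) *ᵥ v) = Q v := fun v => by
          refine mul_left_cancel₀ h20 ?_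
          rw [← hQv, ← hQv, heq, sform_mulVec, hmap, hy1]
        have hfree : ∀ v, (y : Matrix (Fin n) (Fin n) F) *ᵥ v = v → v = 0 := fun v hv => by
          by_contra hv0
          have hev : (y : Matrix (Fin n) (Fin n) F).charpoly.eval 1 = 0 := by
            rw [Matrix.eval_charpoly, ← Matrix.exists_mulVec_eq_zero_iff]
            refine ⟨v, hv0, ?_⟩
            simp [Matrix.sub_mulVec, hv]
          rw [hy, Units.val_mul, Units.val_mul, Matrix.coe_units_inv, Matrix.charpoly_units_conj', hcp, pow_zero,
            one_mul, eval_pow] at hev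
          have h1 : (X - C (1 : F)) ∣ g := dvd_iff_isRoot.2 (eq_zero_of_pow_eq_zero hev)
          rw [map_one] at h1
          have hlin : Irreducible (X - 1 : F[X]) := by simpa using irreducible_X_sub_C (1 : F)
          exact hg1 (hlin.associated_of_dvd hg h1).symm.dvd
        let S := {v : Fin n → F // Qq v = 0}
        let σ : Equiv.Perm S :=
          { toFun := fun v => ⟨(y : Matrix (Fin n) (Fin n) F) *ᵥ v.1, (hQy v.1).trans v.2⟩
            invFun := fun v => ⟨((y⁻¹ : GL (Fin n) F) : Matrix (Fin n) (Fin n) F) *ᵥ v.1, by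
              have := hQy (((y⁻¹ : GL (Fin n) F) : Matrix (Fin n) (Fin n) F) *ᵥ v.1)
              rw [Matrix.mulVec_mulVec, Units.mul_inv, Matrix.one_mulVec] at this
              exact this.symm.trans v.2⟩
            left_inv := fun v => Subtype.ext (by simp [Matrix.mulVec_mulVec])
            right_inv := fun v => Subtype.ext (by simp [Matrix.mulVec_mulVec]) }
        have hσ : ∀ (k : ℕ) (v : S), ((σ ^ k) v).1 = ((y ^ k : GL (Fin n) F) : Matrix (Fin n) (Fin n) F) *ᵥ v.1 := by
          intro k
          induction k with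
          | zero => intro v; simp
          | succ k ih =>
            intro v
            rw [pow_succ', Equiv.Perm.mul_apply, pow_succ', Units.val_mul, ← Matrix.mulVec_mulVec, ← ih v]
            rfl
        have hyr : y ^ r = 1 := Units.ext (by
          rw [Units.val_pow_eq_pow_val, hy, Units.val_mul, Units.val_mul, Units.conj_pow', hxr, mul_one, Units.inv_mul, Units.val_one])
        have hσr : σ ^ r ^ 1 = 1 := Equiv.Perm.ext fun v => Subtype.ext (by
          rw [pow_one, hσ, hyr, Units.val_one, Matrix.one_mulVec]; rfl)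
        have hmod := Equiv.Perm.card_compl_support_modEq hσr
        have hsupp : σ.supportᶜ = {(⟨0, QuadraticMap.map_zero Qq⟩ : S)} := by
          ext v
          rw [Finset.mem_compl, Equiv.Perm.mem_support, not_not, Finset.mem_singleton]
          constructor
          · intro hv
            exact Subtype.ext (hfree v.1 (congrArg Subtype.val hv))
          · rintro rfl
            exact Subtype.ext (show (y : Matrix (Fin n) (Fin n) F) *ᵥ (0 : Fin n → F) = 0 from Matrix.mulVec_zero _)
        rw [hsupp, Finset.card_singleton, ← Nat.card_eq_fintype_card, ← ZMod.natCast_eq_natCast_iff, Nat.cast_one] at hmod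
        refine hzeros (fun h => hr1 ?_) hmod.symm
        rw [← CharP.cast_eq_zero_iff (ZMod r) r, Nat.cast_sub Fintype.card_pos, h, Nat.cast_one, sub_self]
  · intro hcase x hxS ⟨z, hz⟩ hxs
    rw [hsim]
    rw [Units.val_pow_eq_pow_val] at hz
    have hdet := mem_sl_iff.1 hxS
    have hz0 : z ≠ 0 := fun h => by
      have h1 := congrArg Matrix.det hz
      rw [Matrix.det_pow, hdet, h, zero_smul, Matrix.det_zero, one_pow] at h1
      exact one_ne_zero h1
    rcases hcase with rfl | ⟨h35, hnr, hv⟩
    · haveI : Invertible (2 : F) := invertibleOfNonzero h20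
      have h20' : ((2 : ℕ) : F) ≠ 0 := by exact_mod_cast h20
      obtain ⟨bas, hbas⟩ := LinearMap.BilinForm.exists_orthogonal_basis
        (B := (Matrix.toBilin' G : LinearMap.BilinForm F (Fin n → F))) (by
          refine ⟨fun u v => ?_⟩
          simp only [Matrix.toBilin'_apply', RingHom.id_apply]
          rw [Matrix.dotProduct_mulVec, ← Matrix.mulVec_transpose, hsym, dotProduct_comm])
      let bas' := bas.reindex (finCongr (Module.finrank_fin_fun F))
      let Qm : Matrix (Fin n) (Fin n) F := (Matrix.of fun i => bas' i)ᵀ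
      have hQu : IsUnit Qm.det := by
        rw [Matrix.det_transpose, ← Matrix.isUnit_iff_isUnit_det]
        exact Matrix.linearIndependent_rows_iff_isUnit.1 bas'.linearIndependent
      have hdiag : ∀ i j, i ≠ j → (Qmᵀ * G * Qm) i j = 0 := by
        intro i j hij
        have h := hbas (i := (finCongr (Module.finrank_fin_fun F)).symm i)
          (j := (finCongr (Module.finrank_fin_fun F)).symm j) (fun hh => hij ((Equiv.injective _) hh))
        replace h : Matrix.toBilin' G (bas' i) (bas' j) = 0 := by
          simpa [bas', LinearMap.BilinForm.IsOrtho, LinearMap.IsOrtho] using h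
        rw [Matrix.toBilin'_apply'] at h
        rw [← h, Matrix.mul_assoc]
        rfl
      let P := Matrix.GeneralLinearGroup.mkOfDetNeZero Qm hQu.ne_zero
      set δ : Fin n → F := fun i => (Qmᵀ * G * Qm) i i with hδ
      have hP : (P : Matrix (Fin n) (Fin n) F)ᵀ * G * (P : Matrix (Fin n) (Fin n) F).map (RingHom.id F) =
          Matrix.diagonal δ := by
        rw [hmap]
        ext i j
        rcases eq_or_ne i j with rfl | hij
        · rw [Matrix.diagonal_apply_eq]; rfl
        · rw [Matrix.diagonal_apply_ne _ hij]; exact hdiag i j hij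
      have hδ0 : ∀ i, δ i ≠ 0 := by
        have h1 : (Matrix.diagonal δ).det ≠ 0 := by
          rw [← hP, hmap, Matrix.det_mul, Matrix.det_mul, Matrix.det_transpose]
          exact mul_ne_zero (mul_ne_zero hQu.ne_zero hG) hQu.ne_zero
        rw [Matrix.det_diagonal, Finset.prod_ne_zero_iff] at h1
        exact fun i => h1 i (Finset.mem_univ _)
      by_cases hsq : ∃ w : F, w ^ 2 = z
      · obtain ⟨w, hw'⟩ := hsq
        obtain ⟨k, l, hkl, hcp⟩ := S5979.charpoly_of_sq_eq_sq (w := w) (M := (x : Matrix (Fin n) (Fin n) F)) (by rw [hw']; exact hz)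
        obtain ⟨d, hd, hdc⟩ := SimilTools.exists_signs (F := F) hkl w
        refine SimilTools.fixes_of_model p h20' hz0 (μ := z) hz0
          hP hz (N := Matrix.diagonal d) ?_ ?_ (hdc.trans hcp.symm)
        · rw [hmap, Matrix.diagonal_transpose, Matrix.diagonal_mul_diagonal, Matrix.diagonal_mul_diagonal,
            ← Matrix.diagonal_smul]
          congr 1; funext i
          rcases hd i with h | h <;> simp [h, ← hw'] <;> ring
        · rw [Matrix.diagonal_pow, Matrix.smul_one_eq_diagonal]
          congr 1; funext i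
          rcases hd i with h | h <;> simp [h, hw']
      · push Not at hsq
        obtain ⟨hdvd, -⟩ := det_of_pow_eq_nonpower hsq hz
        obtain ⟨m, hm⟩ := hdvd
        let e : Fin n ≃ Fin 2 × Fin m := Fintype.equivFinOfCardEq (by simp [hm]) |>.symm
        let δ' : Fin 2 × Fin m → F := fun a => δ (e.symm a)
        have hsol : ∀ k : Fin m, ∃ s t : F, s * s + δ' (0, k) * δ' (1, k) * (t * t) = z := fun k => by
          obtain ⟨s, t, h⟩ := QuadSub.exists_norm_eq 0 (-(δ' (0, k) * δ' (1, k))) z
            (Or.inr ⟨rfl, neg_ne_zero.2 (mul_ne_zero (hδ0 _) (hδ0 _))⟩)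
          exact ⟨s, t, by linear_combination h⟩
        choose s t hst using hsol
        let Bk : Fin m → Matrix (Fin 2) (Fin 2) F := fun k =>
          !![s k, t k * δ' (1, k); t k * δ' (0, k), -s k]
        let Dk : Fin m → Matrix (Fin 2) (Fin 2) F := fun k => !![δ' (0, k), 0; 0, δ' (1, k)]
        have hD : Matrix.diagonal δ = Matrix.reindexAlgEquiv F F e.symm (Matrix.blockDiagonal Dk) := by
          ext a b
          obtain ⟨⟨a1, a2⟩, rfl⟩ := e.symm.surjective a
          obtain ⟨⟨b1, b2⟩, rfl⟩ := e.symm.surjective b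
          simp only [Matrix.reindexAlgEquiv_apply, Matrix.reindex_apply, Matrix.submatrix_apply, Equiv.symm_symm,
            Equiv.apply_symm_apply, Matrix.blockDiagonal_apply, Matrix.diagonal_apply,
            EmbeddingLike.apply_eq_iff_eq, Prod.mk.injEq]
          by_cases h2' : a2 = b2
          · subst h2'
            fin_cases a1 <;> fin_cases b1 <;> simp [Dk, δ']
          · simp [h2']
        refine SimilTools.fixes_of_model p h20' hz0 (μ := z) hz0 hP hz
          (N := Matrix.reindexAlgEquiv F F e.symm (Matrix.blockDiagonal Bk)) ?_ ?_ ?_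
        · rw [hmap, hD]
          rw [show (Matrix.reindexAlgEquiv F F e.symm (Matrix.blockDiagonal Bk))ᵀ =
              Matrix.reindexAlgEquiv F F e.symm (Matrix.blockDiagonal fun k => (Bk k)ᵀ) by
            rw [← Matrix.blockDiagonal_transpose]; rfl]
          rw [← map_mul, ← map_mul, ← Matrix.blockDiagonal_mul, ← Matrix.blockDiagonal_mul, ← map_smul,
            ← Matrix.blockDiagonal_smul]
          congr 2; funext k
          simp only [Pi.smul_apply, Bk, Dk]
          ext a b
          fin_cases a <;> fin_cases b <;> simp [Matrix.mul_apply, Fin.sum_univ_two]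
          · linear_combination δ' (0, k) * hst k
          · ring
          · ring
          · linear_combination δ' (1, k) * hst k
        · rw [← map_pow, ← Matrix.blockDiagonal_pow,
            show (Bk ^ 2) = fun _ => z • (1 : Matrix (Fin 2) (Fin 2) F) from funext fun k => by
              ext a b
              simp only [Pi.pow_apply, Bk, pow_two]
              fin_cases a <;> fin_cases b <;> simp [Matrix.mul_apply, Fin.sum_univ_two]
              · linear_combination hst k
              · ring
              · ring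
              · linear_combination hst k]
          rw [show (fun _ : Fin m => z • (1 : Matrix (Fin 2) (Fin 2) F)) = z • (1 : Fin m → Matrix (Fin 2) (Fin 2) F) from rfl,
            Matrix.blockDiagonal_smul, Matrix.blockDiagonal_one, map_smul, map_one]
        · rw [S5979.charpoly_of_sq_eq_nonsquare hsq hz, S5979.charpoly_of_sq_eq_nonsquare hsq]
          rw [← map_pow, ← Matrix.blockDiagonal_pow,
            show (Bk ^ 2) = z • (1 : Fin m → Matrix (Fin 2) (Fin 2) F) from funext fun k => by
              ext a b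
              simp only [Pi.pow_apply, Bk, pow_two]
              fin_cases a <;> fin_cases b <;> simp [Matrix.mul_apply, Fin.sum_univ_two]
              · linear_combination hst k
              · ring
              · ring
              · linear_combination hst k,
            Matrix.blockDiagonal_smul, Matrix.blockDiagonal_one, map_smul, map_one]
    · subst hnr
      have hdvd1 : n ∣ Fintype.card F - 1 := dvd_of_one_le_padicValNat hv.ge
      have hr2 : n ≠ 2 := by omega
      have hnp : n ≠ p := fun h => by
        have hcard : p ∣ Fintype.card F := by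
          obtain ⟨k, -, hk⟩ := FiniteField.card F p
          rw [hk]; exact dvd_pow_self p k.ne_zero
        have h3 := Nat.dvd_sub hcard (h ▸ hdvd1 : p ∣ Fintype.card F - 1)
        have := Fintype.one_lt_card (α := F)
        rw [show Fintype.card F - (Fintype.card F - 1) = 1 by omega] at h3
        exact hp.not_dvd_one h3
      have hnF : (n : F) ≠ 0 := natCast_ne_zero_of_ne (r := n) hnp
      have hoddn : Odd n := hrp'.odd_of_ne_two hr2
      have hvF : ¬ n ^ 2 ∣ Fintype.card F - 1 := fun h => by
        rw [padicValNat_dvd_iff_le (by have := Fintype.one_lt_card (α := F); omega), hv] at h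
        omega
      obtain ⟨w, hw'⟩ : ∃ w : F, w ^ n = z := by
        by_contra hcon
        push Not at hcon
        obtain ⟨-, h1⟩ := det_of_pow_eq_nonpower (r := n) hcon hz
        rw [hdet, (hoddn.add_one).neg_one_pow, one_mul, Nat.div_self (by omega), pow_one] at h1
        exact hcon 1 (by rw [one_pow, h1])
      have hz1 : z = 1 := by
        have h1 := congrArg Matrix.det hz
        rw [Matrix.det_pow, hdet, one_pow, Matrix.det_smul, Matrix.det_one, mul_one, Fintype.card_fin, ← hw', ← pow_mul] at h1
        rw [← hw']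
        by_contra hne
        have : orderOf w = n ^ 2 := by
          rw [show n ^ 2 = n ^ (1 + 1) from rfl]
          exact orderOf_eq_prime_pow (by rwa [pow_one]) (by rw [pow_succ n 1, pow_one]; exact h1.symm)
        have hw0 : w ≠ 0 := fun h => hz0 (by rw [← hw', h, zero_pow (by omega)])
        exact hvF (this ▸ orderOf_dvd_of_pow_eq_one (FiniteField.pow_card_sub_one_eq_one w hw0))
      subst hz1
      obtain ⟨ω, hω⟩ := SimilDiag.exists_primitive (F := F) hdvd1
      obtain ⟨e, π, c, hπ, he, hec, hcp⟩ := SimilDiag.exists_pairing h35 hω (M := (x : Matrix (Fin n) (Fin n) F))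
        (by rw [hz, one_smul]) hdet
      obtain ⟨hT, hd0, -, hpsim⟩ := SimilTools.perm_similitude (RingHom.id F) hπ (fun i => RingHom.id_apply _) hec
      have hne : ∀ i, e i ≠ 0 := fun i h => by
        have := he i
        rw [h, zero_pow (by omega)] at this
        exact zero_ne_one this
      have hc0 : c ≠ 0 := by rw [← hec ⟨0, by omega⟩]; exact mul_ne_zero (hne _) (hne _)
      obtain ⟨m, hm⟩ := hoddn
      have hfin : Module.finrank F (Fin n → F) = 2 * m + 1 := by rw [Module.finrank_fin_fun, hm]
      have hform : ∀ A : Matrix (Fin n) (Fin n) F, Aᵀ = A → A.det ≠ 0 → ∃ (d : F) (E : (Unit ⊕ (Fin m ⊕ Fin m) → F) ≃ₗ[F] (Fin n → F)),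
          d ≠ 0 ∧ ∀ v, sform (RingHom.id F) A (E v) (E v) = d * CfsgLib.OrthCrit.oddForm m F v := by
        intro A hA hA0
        let B := Matrix.toBilin' A
        have hB : ∀ u v, B u v = sform (RingHom.id F) A u v := fun u v => Matrix.toBilin'_apply' A u v
        have hflip : ∀ u v, B v u = B u v := fun u v => by rw [hB, hB, ← sform_flip, hA]
        obtain ⟨d, hd, E, hE⟩ := classify_odd h20 (LinearMap.BilinMap.toQuadraticMap B) (fun u hu => by
          by_contra hu0
          obtain ⟨-, v, hv⟩ := sform_nondegenerate (σ := RingHom.id F) ((Matrix.isUnit_iff_isUnit_det A).2 hA0.isUnit) u hu0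
          have h := hu v
          simp only [QuadraticMap.polar, LinearMap.BilinMap.toQuadraticMap_apply, map_add, LinearMap.add_apply, hflip u v] at h
          rw [← hB] at hv
          exact hv ((mul_eq_zero.1 (by linear_combination h : (2 : F) * B u v = 0)).resolve_left h20)) hfin
        exact ⟨d, E, hd, fun v => by rw [← hE, LinearMap.BilinMap.toQuadraticMap_apply, hB]⟩
      obtain ⟨d₁, E₁, hd₁, hE₁⟩ := hform G hsym hG
      obtain ⟨d₂, E₂, hd₂, hE₂⟩ := hform (π.permMatrix F) hT hd0
      let E := E₂.symm.trans E₁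
      let Pm : Matrix (Fin n) (Fin n) F := LinearMap.toMatrix' E.toLinearMap
      have hPv : ∀ v, Pm *ᵥ v = E v := fun v => LinearMap.toMatrix'_mulVec _ _
      have hPu : IsUnit Pm.det := by rw [LinearMap.det_toMatrix']; exact LinearEquiv.isUnit_det' E
      let P := Matrix.GeneralLinearGroup.mkOfDetNeZero Pm hPu.ne_zero
      have hP : (P : Matrix (Fin n) (Fin n) F)ᵀ * G * (P : Matrix (Fin n) (Fin n) F).map (RingHom.id F) =
          (d₁ / d₂) • π.permMatrix F := by
        refine sform_injective (σ := RingHom.id F) (funext fun u => funext fun v => ?_)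
        rw [← sform_mulVec, sform_smul_matrix]
        have hval : ∀ a, sform (RingHom.id F) G (Pm *ᵥ a) (Pm *ᵥ a) = d₁ / d₂ * sform (RingHom.id F) (π.permMatrix F) a a := fun a => by
          have h1 := hE₂ (E₂.symm a)
          rw [E₂.apply_symm_apply] at h1
          rw [hPv, show E a = E₁ (E₂.symm a) from rfl, hE₁, h1]
          field_simp
        have h := hval (u + v)
        simp only [Matrix.mulVec_add, sform_add_left, sform_add_right, hval] at h
        have hf1 := sform_flip G (Pm *ᵥ u) (Pm *ᵥ v)
        have hf2 := sform_flip (π.permMatrix F) u v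
        rw [hsym] at hf1
        rw [hT] at hf2
        change sform (RingHom.id F) G (Pm *ᵥ u) (Pm *ᵥ v) = _
        refine mul_left_cancel₀ h20 ?_
        linear_combination h + hf1 - (d₁ / d₂) * hf2
      refine SimilTools.fixes_of_model p hnF one_ne_zero (μ := c) hc0 hP hz (N := Matrix.diagonal e) ?_ ?_ ?_
      · rw [Matrix.mul_smul, Matrix.smul_mul, hpsim, smul_comm]
      · rw [Matrix.diagonal_pow, one_smul, ← Matrix.diagonal_one]
        exact congrArg Matrix.diagonal (funext fun i => he i)
      · rw [Matrix.charpoly_diagonal, hcp]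

end Cfsg.Agent.S5981
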