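import Cfsg.Statements.S5982
import Cfsg.Agent.Lib.LinFix.SimilTools
import Cfsg.Agent.Lib.LinFix.Subfield
import Cfsg.Agent.Lib.LinFix.Elements
import Cfsg.Agent.Lib.LinFix.NegRoot
-- import your own Cfsg.Agent.* helpers here

set_option autoImplicit false
open scoped MatrixGroups
open Cfsg

namespace Cfsg.Agent.S5982

open Matrix Polynomial CfsgLib.Asch CfsgLib.LinFix CfsgLib.LinFix.HermModel

variable {F : Type*} [Field F] [Fintype F] {n : ℕ}

/-- A prime divisor of the index divides one of the factors `q₀ ^ j + (-1) ^ j`. -/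
theorem exists_neg_one_pow {q₀ r : ℕ} [hr : Fact r.Prime] (hF : Fintype.card F = q₀ ^ 2) (hn : 1 ≤ n)
    (hrq : ¬ r ∣ q₀)
    (h : r * Nat.card ↥(Cfsg.GU n F q₀ ⊓ Cfsg.Geo.specialLinear (Fin n) F) ∣
      Nat.card ↥(Cfsg.Geo.specialLinear (Fin n) F)) :
    ∃ j, j ≤ n ∧ 0 < j ∧ (-(q₀ : ZMod r)) ^ j = -1 := by
  obtain ⟨n', rfl⟩ : ∃ n', n = n' + 1 := ⟨n - 1, by omega⟩
  have hq2 : 2 ≤ q₀ := CfsgLib.Classical.Herm.two_le_of_card hF
  have hSL := card_sl_mul (F := F) (n := n' + 1) hn
  have hSU := card_su_mul (F := F) (n := n' + 1) hF hn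
  rw [card_GU hF] at hSU
  rw [hF] at hSL
  set A : ℕ → ℕ := fun i => if Even i then q₀ ^ (i + 1) - 1 else q₀ ^ (i + 1) + 1 with hA
  set B : ℕ → ℕ := fun i => if Even i then q₀ ^ (i + 1) + 1 else q₀ ^ (i + 1) - 1 with hB
  simp only [factor_sq, Finset.prod_mul_distrib] at hSL
  set a := (n' + 1) * (n' + 1 - 1) / 2
  set b := ∑ i ∈ Finset.range (n' + 1), i
  set PA := ∏ i ∈ Finset.range n', A (i + 1) with hPA
  have hA0 : ∏ i ∈ Finset.range (n' + 1), A i = (q₀ - 1) * PA := by
    rw [Finset.prod_range_succ', mul_comm, hA]; simp [hPA, hA]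
  set PB := ∏ i ∈ Finset.range (n' + 1), B i with hPB
  have hPB0 : 0 < PB := Finset.prod_pos fun i _ => by
    have := Nat.one_lt_pow (n := i + 1) (by omega) (show 1 < q₀ by omega)
    simp only [hB]; split_ifs <;> omega
  set S := Nat.card ↥(Cfsg.GU (n' + 1) F q₀ ⊓ Cfsg.Geo.specialLinear (Fin (n' + 1)) F)
  set T := Nat.card ↥(Cfsg.Geo.specialLinear (Fin (n' + 1)) F)
  change _ = (q₀ ^ 2) ^ b * ((∏ i ∈ Finset.range (n' + 1), A i) * PB) at hSL
  change (q₀ + 1) * S = q₀ ^ a * PB at hSU
  have hsq : q₀ ^ 2 - 1 = (q₀ + 1) * (q₀ - 1) := by simpa using Nat.sq_sub_sq q₀ 1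
  rw [hA0, hsq] at hSL
  obtain ⟨c, hc⟩ := h
  rw [hc] at hSL
  have key : (q₀ - 1) * PB * (r * (q₀ ^ a * c)) = (q₀ - 1) * PB * ((q₀ ^ 2) ^ b * PA) := by
    linear_combination hSL - (q₀ - 1) * r * c * hSU
  have key2 := Nat.eq_of_mul_eq_mul_left (Nat.mul_pos (show 0 < q₀ - 1 by omega) hPB0) key
  have hdvd : r ∣ (q₀ ^ 2) ^ b * PA := ⟨_, key2.symm⟩
  rcases hr.out.dvd_mul.1 hdvd with h1 | h1
  · exact absurd (hr.out.dvd_of_dvd_pow (hr.out.dvd_of_dvd_pow h1)) hrq
  obtain ⟨i, hi, hi'⟩ := hr.out.prime.exists_mem_finset_dvd h1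
  rw [Finset.mem_range] at hi
  refine ⟨i + 2, by omega, by omega, ?_⟩
  rw [← CharP.cast_eq_zero_iff (ZMod r) r] at hi'
  simp only [hA] at hi'
  rw [show i + 2 = i + 1 + 1 from rfl]
  split_ifs at hi' with hev
  · rw [Nat.cast_sub (Nat.one_le_pow _ _ (by omega)), Nat.cast_pow, Nat.cast_one, sub_eq_zero] at hi'
    rw [Odd.neg_pow (Even.add_one hev), hi']
  · rw [Nat.cast_add, Nat.cast_pow, Nat.cast_one] at hi'
    rw [Even.neg_pow (Odd.add_one (Nat.not_even_iff_odd.1 hev))]
    exact eq_neg_of_add_eq_zero_left hi'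

/-- The swap model of a unipotent involution. -/
theorem exists_swap_model {φ : F →+* F} (h2 : (2 : F) = 0) {k : ℕ} (hk : 0 < k) (hkn : k + k ≤ n) :
    ∃ N : Matrix (Fin n) (Fin n) F, N * N = 0 ∧ N.rank = k ∧ (1 + N)ᵀ * (1 + N).map φ = 1 ∧
      ∀ a : F, a ≠ 0 → ∃ C : GL (Fin n) F, (C : Matrix (Fin n) (Fin n) F).det = a * a ∧
      (C : Matrix (Fin n) (Fin n) F) * N = N * (C : Matrix (Fin n) (Fin n) F) := by
  classical
  let ι₁ : Fin k → Fin n := fun i => ⟨i, by omega⟩
  let ι₂ : Fin k → Fin n := fun i => ⟨k + i, by omega⟩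
  let A : Matrix (Fin n) (Fin k) F := fun t i => if t = ι₁ i ∨ t = ι₂ i then 1 else 0
  let B : Matrix (Fin n) (Fin k) F := fun t i => if t = ι₁ i then 1 else 0
  have hne : ∀ i i', ι₁ i ≠ ι₂ i' := fun i i' h => by
    have := congrArg Fin.val h; simp only [ι₁, ι₂] at this; omega
  have h1inj : ∀ i i', ι₁ i = ι₁ i' ↔ i = i' := fun i i' =>
    ⟨fun h => Fin.ext (by have := congrArg Fin.val h; simpa [ι₁] using this), fun h => h ▸ rfl⟩
  have h2inj : ∀ i i', ι₂ i = ι₂ i' ↔ i = i' := fun i i' =>
    ⟨fun h => Fin.ext (by have := congrArg Fin.val h; simpa [ι₂] using this), fun h => h ▸ rfl⟩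
  have hcol : ∀ (g : Fin n → F) i, ∑ t, A t i * g t = g (ι₁ i) + g (ι₂ i) := fun g i => by
    have : ∀ t, A t i * g t = (if t = ι₁ i then g t else 0) + (if t = ι₂ i then g t else 0) := fun t => by
      by_cases h : t = ι₁ i
      · subst h; simp [A, hne]
      · by_cases h' : t = ι₂ i
        · subst h'; simp [A, fun x y => (hne x y).symm]
        · simp [A, h, h']
    simp only [this, Finset.sum_add_distrib, Finset.sum_ite_eq', Finset.mem_univ, if_true]
  have hAA : Aᵀ * A = 0 := by
    ext i i'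
    rw [Matrix.mul_apply]
    simp only [Matrix.transpose_apply]
    rw [hcol]
    by_cases h : i = i'
    · subst h
      rw [show A (ι₁ i) i = 1 by simp [A], show A (ι₂ i) i = 1 by simp [A]]
      simp only [Matrix.zero_apply]
      linear_combination h2
    · simp [A, h1inj, h2inj, h, hne, fun x y => (hne x y).symm]
  have hBA : Bᵀ * A = 1 := by
    ext i i'
    rw [Matrix.mul_apply]
    have e : ∀ t, Bᵀ i t * A t i' = if t = ι₁ i then A t i' else 0 := fun t => by
      by_cases h : t = ι₁ i <;> simp only [Matrix.transpose_apply] <;> simp [B, h]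
    rw [Finset.sum_congr rfl fun t _ => e t, Finset.sum_ite_eq', if_pos (Finset.mem_univ _)]
    simp [A, hne, h1inj, Matrix.one_apply]
  set N := A * Aᵀ with hN
  have hN2 : N * N = 0 := by
    rw [hN, Matrix.mul_assoc, ← Matrix.mul_assoc Aᵀ, hAA, Matrix.zero_mul, Matrix.mul_zero]
  have hNrank : N.rank = k := by
    refine le_antisymm ((Matrix.rank_mul_le_left _ _).trans ((Matrix.rank_le_width A).trans le_rfl)) ?_
    have hAB : Aᵀ * B = 1 := by rw [← Matrix.transpose_transpose B, ← Matrix.transpose_mul, hBA, Matrix.transpose_one]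
    have hone : Bᵀ * N * B = 1 := by
      rw [hN, ← Matrix.mul_assoc, hBA, Matrix.one_mul, hAB]
    calc k = (Bᵀ * N * B).rank := by rw [hone, Matrix.rank_one, Fintype.card_fin]
      _ ≤ (Bᵀ * N).rank := Matrix.rank_mul_le_left _ _
      _ ≤ N.rank := Matrix.rank_mul_le_right _ _
  have hNT : Nᵀ = N := by rw [hN, Matrix.transpose_mul, Matrix.transpose_transpose]
  have hNφ : N.map φ = N := by
    have : A.map φ = A := by ext t i; by_cases h : t = ι₁ i ∨ t = ι₂ i <;> (rw [Matrix.map_apply]; simp [A, h])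
    rw [hN, Matrix.map_mul, Matrix.transpose_map, this]
  refine ⟨N, hN2, hNrank, ?_, fun a ha => ?_⟩
  · rw [Matrix.transpose_add, Matrix.transpose_one, hNT, Matrix.map_add φ (map_add φ),
      Matrix.map_one φ (map_zero φ) (map_one φ), hNφ, add_mul, mul_add, mul_add, one_mul, mul_one, hN2,
      add_zero, one_mul, add_assoc, ← two_smul F N, h2, zero_smul, add_zero]
  let c : Fin n → F := fun t => if t = ι₁ ⟨0, hk⟩ ∨ t = ι₂ ⟨0, hk⟩ then a else 1
  have hc0 : ∀ t, c t ≠ 0 := fun t => by simp only [c]; split_ifs <;> simp [ha]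
  have hdet : (Matrix.diagonal c).det = a * a := by
    have hc' : ∀ t, c t = (if t = ι₁ ⟨0, hk⟩ then a else 1) * (if t = ι₂ ⟨0, hk⟩ then a else 1) := fun t => by
      by_cases h : t = ι₁ ⟨0, hk⟩
      · subst h; simp [c, hne]
      · by_cases h' : t = ι₂ ⟨0, hk⟩
        · subst h'; simp [c, fun x y => (hne x y).symm]
        · simp [c, h, h']
    rw [Matrix.det_diagonal, Finset.prod_congr rfl fun t _ => hc' t, Finset.prod_mul_distrib]
    simp
  refine ⟨Matrix.GeneralLinearGroup.mkOfDetNeZero (Matrix.diagonal c)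
    (by rw [hdet]; exact mul_ne_zero ha ha), hdet, ?_⟩
  · change Matrix.diagonal c * N = N * Matrix.diagonal c
    have hcA : Matrix.diagonal c * A = A * Matrix.diagonal fun i => c (ι₁ i) := by
      ext t i
      rw [Matrix.diagonal_mul, Matrix.mul_diagonal]
      have hcc : c (ι₂ i) = c (ι₁ i) := by simp [c, hne, h1inj, h2inj, fun x y => (hne x y).symm]
      by_cases h : t = ι₁ i
      · subst h; ring
      · by_cases h' : t = ι₂ i
        · subst h'; rw [hcc]; ring
        · simp [A, h, h']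
    have hcA' : Aᵀ * Matrix.diagonal c = (Matrix.diagonal fun i => c (ι₁ i)) * Aᵀ := by
      have := congrArg Matrix.transpose hcA
      simpa [Matrix.transpose_mul] using this
    rw [hN, ← Matrix.mul_assoc, hcA, Matrix.mul_assoc A, ← hcA', Matrix.mul_assoc A]

/-- Elements of prime order of PSL_n(q), q = q₀², and the subgroups of unitary type. Here `T = PSL_n(F)` for a field `F` with `q = q₀²` elements (`n ≥ 3`), `f` is a non-degenerate unitary form on `F^n` for the involutory automorphism `x ↦ x^{q₀}`, and `H` is the subgroup of matrices of determinant 1 that preserve `f` up to a scalar — a subgroup of type GU_n(q₀) (maximality is not assumed); Ω is the set of cosets of `H` in `T`, so an element of `T` of prime order `r` (a matrix `x` of determinant 1 with `x^r` scalar, `x` not scalar) fixes a point of Ω exactly when some conjugate of `x` by a matrix of determinant 1 preserves `f` up to a scalar. Let `r` be a prime dividing the index of `H`, with `r = 2` or `r` different from the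 characteristic `p`, and with `(n, r) ≠ (6, 3)`. Then every element of `T` of order `r` fixes a point of Ω if and only if either `r = 2` and (`p = 2` or `(n)_2 ≤ (q − 1)_2`), or `r ∈ {3, 5}`, `n = r` and `(q₀ − 1)_r = r`. (Odd `r = p` and the case `(n, r) = (6, 3)` are not covered by this statement.) -/
theorem result {F : Type*} [Field F] [Fintype F] {p : ℕ} [Fact p.Prime] [CharP F p] {q : ℕ} (hq : Fintype.card F = q)
    (q₀ : ℕ) (hq₀ : q = q₀ ^ 2) (n : ℕ) (hn : 3 ≤ n) (f : (Fin n → F) → (Fin n → F) → F) (hf : Cfsg.Geo.IsUnitaryFormPow q₀ f)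
    (r : ℕ) [Fact r.Prime] (hr : r = 2 ∨ r ≠ p) (hgap : ¬ (n = 6 ∧ r = 3))
    (hΩ : r ∣ (Cfsg.Geo.similarityGroup f).relIndex (Cfsg.Geo.specialLinear (Fin n) F)) :
    (∀ x ∈ Cfsg.Geo.specialLinear (Fin n) F, (∃ z : F, ((x ^ r : GL (Fin n) F) : Matrix (Fin n) (Fin n) F) = z • (1 : Matrix (Fin n) (Fin n) F)) →
      (∀ z : F, (x : Matrix (Fin n) (Fin n) F) ≠ z • (1 : Matrix (Fin n) (Fin n) F)) →
      ∃ g ∈ Cfsg.Geo.specialLinear (Fin n) F, g⁻¹ * x * g ∈ Cfsg.Geo.similarityGroup f) ↔
    ((r = 2 ∧ (p = 2 ∨ padicValNat 2 n ≤ padicValNat 2 (q - 1))) ∨ ((r = 3 ∨ r = 5) ∧ n = r ∧ padicValNat r (q₀ - 1) = 1)) := by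
  classical
  have hp : p.Prime := Fact.out
  have hrp' : r.Prime := Fact.out
  haveI : NeZero n := ⟨by omega⟩
  subst hq₀
  have hF : Fintype.card F = q₀ ^ 2 := hq
  obtain ⟨φ, hφ, hφ2, hw⟩ := CfsgLib.Conj.exists_frob hF
  obtain ⟨G, rfl, hG, hH⟩ := exists_gram hF hf hφ
  obtain ⟨P, hP⟩ := exists_orthonormal hφ2 hw hG hH
  obtain ⟨j, hj⟩ : ∃ j, q₀ = p ^ j := by
    obtain ⟨k, -, hk⟩ := FiniteField.card F p
    obtain ⟨j, -, hj⟩ := (Nat.dvd_prime_pow hp).1 (show q₀ ∣ p ^ (k : ℕ) from ⟨q₀, by rw [← hk, hF, pow_two]⟩)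
    exact ⟨j, hj⟩
  have hq2 : 2 ≤ q₀ := CfsgLib.Classical.Herm.two_le_of_card hF
  have hcardR : ∀ {m : ℕ}, m ∣ q₀ - 1 → m ∣ Fintype.card F - 1 := fun {m} h => by
    rw [hF, show q₀ ^ 2 - 1 = (q₀ + 1) * (q₀ - 1) by simpa using Nat.sq_sub_sq q₀ 1]
    exact h.mul_left _
  -- roots of unity of order dividing a prime divisor of `q₀ - 1` are fixed
  have hfix : r ∣ q₀ - 1 → ∀ e : F, e ^ r = 1 → φ e = e := fun hdvd e he => by
    obtain ⟨c, hc⟩ := hdvd
    rw [hφ, show q₀ = r * c + 1 by omega, pow_succ, pow_mul, he, one_pow, one_mul]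
  constructor
  · intro hall
    by_cases hr2 : r = 2
    · subst hr2
      refine Or.inl ⟨rfl, ?_⟩
      by_contra hcon
      rw [not_or, not_le] at hcon
      obtain ⟨hp2, hlt⟩ := hcon
      have h20 : ((2 : ℕ) : F) ≠ 0 := natCast_ne_zero_of_ne (F := F) (r := 2) (p := p) (Ne.symm hp2)
      have hodd : q₀ % 2 = 1 := by
        rw [hj, Nat.pow_mod]
        rcases hp.eq_two_or_odd with h | h
        · exact absurd h hp2
        · simp [h]
      have hq1 : 2 ∣ Fintype.card F - 1 := hcardR (Nat.dvd_of_mod_eq_zero (by omega))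
      have hdvd : 2 ∣ n := dvd_of_one_le_padicValNat (by omega)
      obtain ⟨c, hc, hdetc⟩ := (exists_nonpower_iff (r := 2) (F := F) rfl hq1 (by omega : n ≠ 0) hdvd).2
        (fun h => by
          have h1 := h.1
          rw [hF] at h1
          omega)
      obtain ⟨X, hX⟩ := exists_sl_nonpower hc hdvd hdetc
      have hX2 : (X : Matrix (Fin n) (Fin n) F) ^ 2 = c • 1 := by
        have := pow_eq_of_toLin' hX
        rwa [Matrix.SpecialLinearGroup.coe_pow] at this
      have hc0 : c ≠ 0 := fun h => hc 0 (by rw [h]; simp)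
      obtain ⟨g, -, hgx⟩ := hall (Matrix.SpecialLinearGroup.toGL X) (mem_sl_iff.2 X.2)
        ⟨c, by rw [Units.val_pow_eq_pow_val]; exact hX2⟩ (fun z hz => by
          refine hc z ?_
          have h' : (X : Matrix (Fin n) (Fin n) F) = z • 1 := hz
          rw [h', _root_.smul_pow, one_pow] at hX2
          have := congrFun (congrFun hX2 ⟨0, by omega⟩) ⟨0, by omega⟩
          simpa using this)
      obtain ⟨μ, hμ⟩ := mem_similarity_iff.1 hgx
      set y := ((g⁻¹ * Matrix.SpecialLinearGroup.toGL X * g : GL (Fin n) F) : Matrix (Fin n) (Fin n) F)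
      have hy2 : y ^ 2 = c • 1 := by
        simp only [y, Units.val_mul, Units.conj_pow']
        rw [show ((Matrix.SpecialLinearGroup.toGL X : GL (Fin n) F) : Matrix (Fin n) (Fin n) F) ^ 2 = c • 1 from hX2,
          Matrix.mul_smul, Matrix.mul_one, Matrix.smul_mul, Units.inv_mul]
      have hG0 : G ≠ 0 := fun h => hG (by rw [h, Matrix.det_zero])
      have hnorm : c * φ c = (μ : F) * μ := by
        have h := SimilDiag.pow_similitude hμ 2
        rw [hy2, Matrix.transpose_smul, Matrix.transpose_one, Matrix.smul_mul, one_mul,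
          Matrix.map_smul' φ c 1 (map_mul φ), Matrix.map_one φ (map_zero φ) (map_one φ), Matrix.smul_mul,
          Matrix.mul_smul, mul_one, smul_smul, pow_two] at h
        have h' : (c * φ c - (μ : F) * μ) • G = 0 := by rw [sub_smul, h, sub_self]
        exact sub_eq_zero.1 ((smul_eq_zero.1 h').resolve_right hG0)
      have hμfix : φ (μ : F) = μ := by
        have hGφ : (G.map φ)ᵀ = G := by rw [← hH, Matrix.transpose_transpose]
        have hmm : (y.map φ).map φ = y := by ext a b; simp [hφ2]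
        have h' : (μ : F) • G = φ μ • G := by
          calc (μ : F) • G = yᵀ * G * y.map φ := hμ.symm
            _ = ((yᵀ * G * y.map φ).map φ)ᵀ := by
              rw [Matrix.map_mul, Matrix.map_mul, Matrix.transpose_mul, Matrix.transpose_mul, hmm, hGφ,
                Matrix.transpose_map, Matrix.transpose_transpose, Matrix.mul_assoc]
            _ = φ μ • G := by
              rw [hμ, Matrix.map_smul' φ _ G (map_mul φ), Matrix.transpose_smul, hGφ]
        have h'' : ((μ : F) - φ μ) • G = 0 := by rw [sub_smul, h', sub_self]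
        exact (sub_eq_zero.1 ((smul_eq_zero.1 h'').resolve_right hG0)).symm
      have hsq : IsSquare c := by
        have hch : ringChar F ≠ 2 := fun h => by rw [ringChar.eq F p] at h; exact hp2 h
        rw [FiniteField.isSquare_iff hch hc0]
        have hμ1 : (μ : F) ^ (q₀ - 1) = 1 := by
          refine mul_right_cancel₀ μ.ne_zero ?_
          rw [← pow_succ, Nat.sub_add_cancel (by omega : 1 ≤ q₀), one_mul, ← hφ, hμfix]
        rw [hF, show q₀ ^ 2 / 2 = (q₀ + 1) * ((q₀ - 1) / 2) by
            obtain ⟨m, rfl⟩ : ∃ m, q₀ = 2 * m + 1 := ⟨q₀ / 2, by omega⟩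
            rw [show (2 * m + 1) ^ 2 = 2 * ((2 * m + 1 + 1) * m) + 1 by ring, show (2 * m + 1 - 1) / 2 = m by omega]
            omega,
          pow_mul, pow_succ', ← hφ, hnorm, ← pow_two, ← pow_mul,
          Nat.mul_div_cancel' (Nat.dvd_of_mod_eq_zero (by omega)), hμ1]
      obtain ⟨b, hb⟩ := hsq
      exact hc b (by rw [pow_two, ← hb])
    · have hrp : r ≠ p := hr.resolve_left hr2
      have hrF : (r : F) ≠ 0 := natCast_ne_zero_of_ne hrp
      have hrq : ¬ r ∣ q₀ := fun h => hrp ((Nat.prime_dvd_prime_iff_eq hrp' hp).1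
        (hrp'.dvd_of_dvd_pow (hj ▸ h)))
      obtain ⟨l, hln, hl0, hl⟩ := exists_neg_one_pow (n := n) hF (by omega) hrq (by
        refine dvd_trans (Nat.mul_dvd_mul_right hΩ _) ?_
        set K := (Cfsg.GU n F q₀ ⊓ Cfsg.Geo.specialLinear (Fin n) F).map (MulAut.conj P).toMonoidHom
        have hKS : K ≤ Cfsg.Geo.specialLinear (Fin n) F := by
          rintro _ ⟨y, hy, rfl⟩
          haveI : (Cfsg.Geo.specialLinear (Fin n) F).Normal := MonoidHom.normal_ker _
          exact this.conj_mem y hy.2 P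
        have hKH : K ≤ Cfsg.Geo.similarityGroup (sform φ G) := by
          rintro _ ⟨y, hy, rfl⟩
          exact SimilTools.mem_of_model (μ := 1) hP (by
            rw [Matrix.mul_one, Units.val_one, one_smul]; exact (mem_GU_iff hφ).1 hy.1)
        have hcK : Nat.card K = Nat.card ↥(Cfsg.GU n F q₀ ⊓ Cfsg.Geo.specialLinear (Fin n) F) :=
          (Nat.card_congr (Subgroup.equivMapOfInjective _ _ (MulAut.conj P).injective).toEquiv).symm
        rw [← hcK]
        refine dvd_trans (Nat.mul_dvd_mul_right (Subgroup.relIndex_dvd_of_le_left _ hKH) _) ?_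
        rw [← Nat.card_congr (Subgroup.subgroupOfEquivOfLe hKS).toEquiv, Subgroup.relIndex,
          Subgroup.index_mul_card])
      set s : ZMod r := -(q₀ : ZMod r) with hs
      have h11 : (1 : ZMod r) ≠ -1 := fun h => by
        have h' : ((2 : ℕ) : ZMod r) = 0 := by push_cast; linear_combination h
        rw [CharP.cast_eq_zero_iff (ZMod r) r] at h'
        exact hr2 ((Nat.prime_dvd_prime_iff_eq hrp' Nat.prime_two).1 h')
      have hQ : ((Fintype.card F : ℕ) : ZMod r) = s ^ 2 := by rw [hF, Nat.cast_pow, hs, neg_sq]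
      set i := orderOf (Fintype.card F : ZMod r) with hi
      by_cases hr1 : r ∣ Fintype.card F - 1
      · have hdvd1 : r ∣ q₀ - 1 := by
          have h1 := hr1
          rw [hF, show q₀ ^ 2 - 1 = (q₀ + 1) * (q₀ - 1) by simpa using Nat.sq_sub_sq q₀ 1] at h1
          refine (hrp'.dvd_mul.1 h1).resolve_left fun h => ?_
          rw [← CharP.cast_eq_zero_iff (ZMod r) r] at h
          push_cast at h
          rw [show s = 1 by rw [hs]; linear_combination -h, one_pow] at hl
          exact h11 hl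
        refine Or.inr ?_
        by_contra hcon
        have hv : padicValNat r (Fintype.card F - 1) = padicValNat r (q₀ - 1) := by
          have hnd : ¬ r ∣ q₀ + 1 := fun h => by
            have h' := Nat.dvd_sub h hdvd1
            rw [show q₀ + 1 - (q₀ - 1) = 2 by omega] at h'
            exact hr2 ((Nat.prime_dvd_prime_iff_eq hrp' Nat.prime_two).1 h')
          rw [hF, show q₀ ^ 2 - 1 = (q₀ + 1) * (q₀ - 1) by simpa using Nat.sq_sub_sq q₀ 1,
            padicValNat.mul (by omega) (by omega), padicValNat.eq_zero_of_not_dvd hnd, zero_add]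
        obtain ⟨x, d, hx, hxd, hxr, hxs, hd0, hdr, hno⟩ := SimilTools.exists_asym_element (F := F) (n := n) hr2 hr1 hn hgap
          (by rw [hv]; exact hcon)
        obtain ⟨g, -, hgx⟩ := hall x hx hxr hxs
        obtain ⟨μ, hμ⟩ := mem_similarity_iff.1 hgx
        have h := SimilDiag.pullback hμ
        rw [hxd] at h
        let i₀ : Fin n := ⟨0, by omega⟩
        have hκ : φ (d i₀) / d i₀ ≠ 0 := div_ne_zero ((map_ne_zero φ).2 (hd0 i₀)) (hd0 i₀)
        refine hno ⟨(μ : F) / (φ (d i₀) / d i₀), fun u hu => ?_⟩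
        refine SimilDiag.card_eq_of_similitude (SimilDiag.pullback_det hG g) μ.ne_zero hκ (fun k => ?_) h hu
        have h1 := hfix hdvd1 _ (hdr k i₀)
        rw [map_div₀] at h1
        have := hd0 i₀
        have := hd0 k
        have := (map_ne_zero φ).2 (hd0 i₀)
        field_simp at h1 ⊢
        linear_combination h1
      · exfalso
        have hpos := orderOf_pos_of_ne (F := F) (r := r) hrp
        have hil : i ∣ l := orderOf_dvd_of_pow_eq_one (by rw [hQ, ← pow_mul, mul_comm, pow_mul, hl, neg_one_sq])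
        have hin : i ≤ n := (Nat.le_of_dvd hl0 hil).trans hln
        obtain ⟨x, g, hg, hgd, hg1, hx, hxr, hxs, hcp⟩ := SimilTools.exists_element (F := F) (n := n) (p := p) hrp hr1
          (e := n - i) one_pos (by rw [one_mul, ← hi]; omega)
        obtain ⟨g', -, hgx⟩ := hall x hx ⟨1, by rw [Units.val_pow_eq_pow_val, hxr, one_smul]⟩ hxs
        obtain ⟨μ, hμ⟩ := mem_similarity_iff.1 hgx
        have h := SimilDiag.pullback hμ
        have hμr := SimilDiag.mult_pow_eq_one (by omega : n ≠ 0) (SimilDiag.pullback_det hG g') h hxr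
        have hμ1 : (μ : F) = 1 := by
          by_contra h1
          exact hr1 (orderOf_eq_prime hμr h1 ▸ orderOf_dvd_of_pow_eq_one
            (FiniteField.pow_card_sub_one_eq_one _ μ.ne_zero))
        rw [hμ1, one_smul] at h
        obtain ⟨k, hk⟩ := SimilDiag.orbit_condition (p := p) (j := j) (fun a => by rw [hφ, hj]) hφ2 hg hgd hg1 one_pos
          (SimilDiag.pullback_det hG g') hcp h
        rw [hQ, ← Nat.cast_pow, ← hj, ← hs, ← pow_mul] at hk
        refine h11 ?_
        calc (1 : ZMod r) = ((-1) ^ 2) ^ k := by rw [neg_one_sq, one_pow]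
          _ = (s ^ (2 * k)) ^ l := by rw [← hl, ← pow_mul, ← pow_mul, ← pow_mul]; congr 1; ring
          _ = -1 := by rw [hk, hl]
  · intro hcase x hxS ⟨z, hz⟩ hxs
    rw [Units.val_pow_eq_pow_val] at hz
    have hdet := mem_sl_iff.1 hxS
    have hz0 : z ≠ 0 := fun h => by
      have h1 := congrArg Matrix.det hz
      rw [Matrix.det_pow, hdet, h, zero_smul, Matrix.det_zero, one_pow] at h1
      exact one_ne_zero h1
    rcases hcase with ⟨rfl, hc⟩ | ⟨h35, hnr, hv⟩
    · by_cases hp2 : p = 2
      · subst hp2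
        have h2 : (2 : F) = 0 := by exact_mod_cast CharP.cast_eq_zero F 2
        obtain ⟨w, hw'⟩ := (bijective_frobenius F 2).surjective z
        rw [frobenius_def] at hw'
        have hw0 : w ≠ 0 := fun h => hz0 (by rw [← hw', h]; simp)
        set N₁ := w⁻¹ • (x : Matrix (Fin n) (Fin n) F) - 1 with hN₁
        have hu2 : (w⁻¹ • (x : Matrix (Fin n) (Fin n) F)) * (w⁻¹ • (x : Matrix (Fin n) (Fin n) F)) = 1 := by
          rw [Matrix.smul_mul, Matrix.mul_smul, smul_smul, ← pow_two (x : Matrix (Fin n) (Fin n) F), hz, smul_smul, ← hw']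
          rw [show w⁻¹ * w⁻¹ * w ^ 2 = 1 by field_simp, one_smul]
        have hN₁2 : N₁ * N₁ = 0 := by
          rw [hN₁, sub_mul, mul_sub, mul_sub, hu2, one_mul, mul_one, mul_one,
            show (1 : Matrix (Fin n) (Fin n) F) - w⁻¹ • (x : Matrix (Fin n) (Fin n) F) - (w⁻¹ • (x : Matrix (Fin n) (Fin n) F) - 1)
              = (2 : F) • (1 - w⁻¹ • (x : Matrix (Fin n) (Fin n) F)) by rw [two_smul]; abel, h2, zero_smul]
        set k := N₁.rank with hk
        have hk0 : 0 < k := Nat.pos_of_ne_zero fun h => by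
          have h0 : N₁ = 0 := by
            rw [hk, Matrix.rank, Submodule.finrank_eq_zero, LinearMap.range_eq_bot] at h
            exact Matrix.toLin'.injective (by rw [map_zero]; exact h)
          refine hxs w ?_
          rw [hN₁, sub_eq_zero] at h0
          rw [← h0, smul_smul, mul_inv_cancel₀ hw0, one_smul]
        have hkn : k + k ≤ n := by
          have hle : LinearMap.range N₁.mulVecLin ≤ LinearMap.ker N₁.mulVecLin := by
            rintro _ ⟨v, rfl⟩
            simp [Matrix.mulVec_mulVec, hN₁2]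
          have h1 := Submodule.finrank_mono hle
          have h3 := LinearMap.finrank_range_add_finrank_ker N₁.mulVecLin
          rw [Module.finrank_fin_fun] at h3
          rw [hk, Matrix.rank]
          omega
        obtain ⟨N₀, hN₀2, hN₀r, hN₀u, hN₀C⟩ := exists_swap_model (F := F) (φ := φ) h2 hk0 hkn
        have hnil : ∀ N : Matrix (Fin n) (Fin n) F, N * N = 0 → Matrix.toLin' N ^ 2 = 0 := fun N hN => by
          rw [pow_two]
          change (Matrix.toLin' N).comp (Matrix.toLin' N) = 0
          rw [← Matrix.toLin'_mul, hN, map_zero]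
        obtain ⟨R, hR⟩ := exists_conj_of_ranks (A := N₁) (B := N₀) ⟨2, hnil _ hN₁2⟩ ⟨2, hnil _ hN₀2⟩ (fun e => by
          rcases e with _ | _ | e
          · rfl
          · rw [zero_add, pow_one, pow_one]; exact hk.symm.trans hN₀r.symm
          · rw [show e + 1 + 1 = e + 2 from rfl, pow_add, pow_add, hnil _ hN₁2, hnil _ hN₀2, mul_zero, mul_zero])
        obtain ⟨a, ha⟩ := (bijective_frobenius F 2).surjective
          ((R : Matrix (Fin n) (Fin n) F).det * (P : Matrix (Fin n) (Fin n) F).det)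
        rw [frobenius_def] at ha
        have hRd : (R : Matrix (Fin n) (Fin n) F).det ≠ 0 := ((Matrix.isUnit_iff_isUnit_det _).1 R.isUnit).ne_zero
        have hPd : (P : Matrix (Fin n) (Fin n) F).det ≠ 0 := ((Matrix.isUnit_iff_isUnit_det _).1 P.isUnit).ne_zero
        have ha0 : a ≠ 0 := fun h => mul_ne_zero hRd hPd (by rw [← ha, h]; simp)
        obtain ⟨C, hC, hCN⟩ := hN₀C a ha0
        have hY : ((R * x * R⁻¹ : GL (Fin n) F) : Matrix (Fin n) (Fin n) F) = w • (1 + N₀) := by
          have hx1 : (x : Matrix (Fin n) (Fin n) F) = w • (1 + N₁) := by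
            rw [hN₁, add_sub_cancel, smul_smul, mul_inv_cancel₀ hw0, one_smul]
          rw [Units.val_mul, Units.val_mul, hx1, Matrix.mul_smul, Matrix.smul_mul, mul_add, add_mul, mul_one,
            Units.mul_inv, hR, Matrix.mul_assoc, Units.mul_inv, mul_one]
        refine ⟨R⁻¹ * C * P⁻¹, mem_sl_iff.2 ?_, ?_⟩
        · rw [Units.val_mul, Units.val_mul, Matrix.det_mul, Matrix.det_mul, hC, ← pow_two, ha]
          have e1 : ((R⁻¹ : GL (Fin n) F) : Matrix (Fin n) (Fin n) F).det * (R : Matrix (Fin n) (Fin n) F).det = 1 := by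
            rw [← Matrix.det_mul, Units.inv_mul, Matrix.det_one]
          have e2 : (P : Matrix (Fin n) (Fin n) F).det * ((P⁻¹ : GL (Fin n) F) : Matrix (Fin n) (Fin n) F).det = 1 := by
            rw [← Matrix.det_mul, Units.mul_inv, Matrix.det_one]
          linear_combination (P : Matrix (Fin n) (Fin n) F).det * ((P⁻¹ : GL (Fin n) F) : Matrix (Fin n) (Fin n) F).det * e1 + e2
        · have hCY : C * (R * x * R⁻¹) = R * x * R⁻¹ * C := Units.ext (by
            rw [Units.val_mul C, Units.val_mul (R * x * R⁻¹) C, hY, Matrix.mul_smul, Matrix.smul_mul, mul_add, add_mul,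
              mul_one, one_mul, hCN])
          rw [show (R⁻¹ * C * P⁻¹)⁻¹ * x * (R⁻¹ * C * P⁻¹) = P * (C⁻¹ * (R * x * R⁻¹ * C)) * P⁻¹ by group,
            ← hCY, inv_mul_cancel_left]
          refine SimilTools.mem_of_model (μ := Units.mk0 (w * φ w) (mul_ne_zero hw0 ((map_ne_zero φ).2 hw0))) hP ?_
          rw [hY, mul_one, Matrix.transpose_smul, Matrix.map_smul' φ w _ (map_mul φ), Matrix.smul_mul, Matrix.mul_smul,
            smul_smul, hN₀u]
          rfl
      · have h20 : ((2 : ℕ) : F) ≠ 0 := natCast_ne_zero_of_ne (F := F) (r := 2) (p := p) (Ne.symm hp2)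
        replace hc := hc.resolve_left hp2
        rw [← hF] at hc
        obtain ⟨w, hw'⟩ : ∃ w : F, w ^ 2 = z := by
          by_contra hcon
          push Not at hcon
          obtain ⟨hdvd, hdet'⟩ := det_of_pow_eq_nonpower hcon hz
          rw [hdet] at hdet'
          refine (exists_nonpower_iff (r := 2) (F := F) rfl ?_ (by omega : n ≠ 0) hdvd).1 ⟨z, hcon, hdet'.symm⟩ ⟨hc, fun _ _ => ?_⟩
          · refine hcardR (Nat.dvd_of_mod_eq_zero ?_)
            have : q₀ % 2 = 1 := by
              rw [hj, Nat.pow_mod]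
              rcases hp.eq_two_or_odd with h | h
              · exact absurd h hp2
              · simp [h]
            omega
          · have : q₀ % 2 = 1 := by
              rw [hj, Nat.pow_mod]
              rcases hp.eq_two_or_odd with h | h
              · exact absurd h hp2
              · simp [h]
            rw [hF, pow_two, Nat.mul_mod]
            rcases (show q₀ % 4 = 1 ∨ q₀ % 4 = 3 by omega) with h | h <;> rw [h]
        have hw0 : w ≠ 0 := fun h => hz0 (by rw [← hw', h]; simp)
        obtain ⟨k, l, hkl, hcp⟩ := S5979.charpoly_of_sq_eq_sq (w := w) (M := (x : Matrix (Fin n) (Fin n) F)) (by rw [hw']; exact hz)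
        obtain ⟨d, hd, hdc⟩ := SimilTools.exists_signs (F := F) hkl w
        refine SimilTools.fixes_of_model p h20 hz0 (μ := w * φ w) (mul_ne_zero hw0 ((map_ne_zero φ).2 hw0))
          hP hz (N := Matrix.diagonal d) ?_ ?_ (hdc.trans hcp.symm)
        · rw [Matrix.diagonal_transpose, Matrix.diagonal_map (map_zero φ), mul_one, Matrix.diagonal_mul_diagonal,
            Matrix.smul_one_eq_diagonal]
          congr 1; funext i
          rcases hd i with h | h <;> simp [h]
        · rw [Matrix.diagonal_pow, Matrix.smul_one_eq_diagonal]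
          congr 1; funext i
          rcases hd i with h | h <;> simp [h, hw']
    · subst hnr
      have hdvd1 : n ∣ q₀ - 1 := dvd_of_one_le_padicValNat hv.ge
      have hr2 : n ≠ 2 := by omega
      have hnp : n ≠ p := fun h => by
        have h1 : p ∣ q₀ - 1 := h ▸ hdvd1
        have hj0 : j ≠ 0 := by rintro rfl; simp [hj] at hq2
        have h2 : p ∣ q₀ := hj ▸ dvd_pow_self p hj0
        have h3 := Nat.dvd_sub h2 h1
        rw [show q₀ - (q₀ - 1) = 1 by omega] at h3
        exact hp.not_dvd_one h3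
      have hnF : (n : F) ≠ 0 := natCast_ne_zero_of_ne (r := n) hnp
      have hodd : Odd n := hrp'.odd_of_ne_two hr2
      have hvF : ¬ n ^ 2 ∣ Fintype.card F - 1 := fun h => by
        have hnd : ¬ n ∣ q₀ + 1 := fun h => by
          have h' := Nat.dvd_sub h hdvd1
          rw [show q₀ + 1 - (q₀ - 1) = 2 by omega] at h'
          exact hr2 ((Nat.prime_dvd_prime_iff_eq hrp' Nat.prime_two).1 h')
        rw [padicValNat_dvd_iff_le (by have := Fintype.one_lt_card (α := F); omega), hF,
          show q₀ ^ 2 - 1 = (q₀ + 1) * (q₀ - 1) by simpa using Nat.sq_sub_sq q₀ 1,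
          padicValNat.mul (by omega) (by omega), padicValNat.eq_zero_of_not_dvd hnd, hv] at h
        omega
      obtain ⟨w, hw'⟩ : ∃ w : F, w ^ n = z := by
        by_contra hcon
        push Not at hcon
        obtain ⟨-, h1⟩ := det_of_pow_eq_nonpower (r := n) hcon hz
        rw [hdet, (hodd.add_one).neg_one_pow, one_mul, Nat.div_self (by omega), pow_one] at h1
        exact hcon 1 (by rw [one_pow, h1])
      have hz1 : z = 1 := by
        have h1 := congrArg Matrix.det hz
        rw [Matrix.det_pow, hdet, one_pow, Matrix.det_smul, Matrix.det_one, mul_one, Fintype.card_fin, ← hw', ← pow_mul] at h1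
        rw [← hw']
        by_contra hne
        have : orderOf w = n ^ 2 := by
          rw [show n ^ 2 = n ^ (1 + 1) from rfl]
          exact orderOf_eq_prime_pow (by rwa [pow_one]) (by rw [pow_succ n 1, pow_one]; exact h1.symm)
        have hw0 : w ≠ 0 := fun h => hz0 (by rw [← hw', h, zero_pow (by omega)])
        exact hvF (this ▸ orderOf_dvd_of_pow_eq_one (FiniteField.pow_card_sub_one_eq_one w hw0))
      subst hz1
      obtain ⟨ω, hω⟩ := SimilDiag.exists_primitive (F := F) (hcardR hdvd1)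
      obtain ⟨e, π, c, hπ, he, hec, hcp⟩ := SimilDiag.exists_pairing h35 hω (M := (x : Matrix (Fin n) (Fin n) F))
        (by rw [hz, one_smul]) hdet
      obtain ⟨hT, hd0, hmap, hsim⟩ := SimilTools.perm_similitude φ hπ (fun i => hfix hdvd1 _ (he i)) hec
      obtain ⟨P₀, hP₀⟩ := exists_orthonormal hφ2 hw hd0 (by rw [hmap, hT])
      have hc0 : c ≠ 0 := by
        have hne : ∀ i, e i ≠ 0 := fun i h => by
          have := he i
          rw [h, zero_pow (by omega)] at this
          exact zero_ne_one this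
        rw [← hec ⟨0, by omega⟩]
        exact mul_ne_zero (hne _) (hne _)
      refine SimilTools.fixes_of_model p hnF one_ne_zero (P := P * P₀⁻¹) (Gm := π.permMatrix F) hc0 ?_ hz hsim ?_ ?_
      · rw [Units.val_mul, Matrix.transpose_mul, Matrix.map_mul]
        calc _ = (((P₀⁻¹ : GL (Fin n) F) : Matrix (Fin n) (Fin n) F))ᵀ * ((P : Matrix (Fin n) (Fin n) F)ᵀ * G *
              (P : Matrix (Fin n) (Fin n) F).map φ) * (((P₀⁻¹ : GL (Fin n) F) : Matrix (Fin n) (Fin n) F)).map φ := by
              simp only [Matrix.mul_assoc]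
          _ = ((P₀ : Matrix (Fin n) (Fin n) F) * ((P₀⁻¹ : GL (Fin n) F) : Matrix (Fin n) (Fin n) F))ᵀ * π.permMatrix F *
              ((P₀ : Matrix (Fin n) (Fin n) F) * ((P₀⁻¹ : GL (Fin n) F) : Matrix (Fin n) (Fin n) F)).map φ := by
              rw [hP, ← hP₀, Matrix.transpose_mul, Matrix.map_mul]; simp only [Matrix.mul_assoc]
          _ = π.permMatrix F := by
              rw [Units.mul_inv, Matrix.transpose_one, Matrix.map_one φ (map_zero φ) (map_one φ), one_mul, mul_one]
      · rw [Matrix.diagonal_pow, one_smul, ← Matrix.diagonal_one]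
        exact congrArg Matrix.diagonal (funext fun i => he i)
      · rw [Matrix.charpoly_diagonal, hcp]

end Cfsg.Agent.S5982
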