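import Cfsg.Statements.S5983
import Cfsg.Agent.Lib.OrthPoints.Shift
import Cfsg.Agent.Lib.Linear.SympCard
import Cfsg.Agent.S2585
-- import your own Cfsg.Agent.* helpers here

set_option autoImplicit false
open scoped MatrixGroups
open Cfsg

namespace Cfsg.Agent.S5983

open CfsgLib.OrthPoints CfsgLib.RootCount CfsgLib.Classical.Quad Cfsg.Geo Matrix

variable {F : Type*} [Field F]

/-- Change of coordinates for matrix groups. -/
noncomputable def transport {ι κ : Type} [Fintype ι] [DecidableEq ι] [Fintype κ] [DecidableEq κ]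
    (E : (ι → F) ≃ₗ[F] (κ → F)) : GL ι F →* GL κ F :=
  ({ toFun := fun x => LinearMap.toMatrix' (E.toLinearMap ∘ₗ Matrix.toLin' (x : Matrix ι ι F) ∘ₗ E.symm.toLinearMap)
     map_one' := by simp
     map_mul' := fun x y => by
      rw [← LinearMap.toMatrix'_comp]
      congr 1
      refine LinearMap.ext fun v => ?_
      simp [Matrix.mulVec_mulVec] } : GL ι F →* Matrix κ κ F).toHomUnits

theorem transport_mulVec {ι κ : Type} [Fintype ι] [DecidableEq ι] [Fintype κ] [DecidableEq κ]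
    (E : (ι → F) ≃ₗ[F] (κ → F)) (x : GL ι F) (v : κ → F) :
    ((transport E x : GL κ F) : Matrix κ κ F) *ᵥ v = E ((x : Matrix ι ι F) *ᵥ E.symm v) := by
  rw [← Matrix.toLin'_apply]
  show Matrix.toLin' (LinearMap.toMatrix' _) v = _
  rw [Matrix.toLin'_toMatrix']
  rfl

variable [Fintype F]

theorem card_spGL (d : ℕ) : Nat.card (Cfsg.spGL d F) = Fintype.card F ^ (d ^ 2) *
    ∏ k ∈ Finset.range d, (Fintype.card F ^ (2 * (k + 1)) - 1) := by
  rw [← CfsgLib.Linear.Symp.card_symplectic]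
  refine Nat.card_congr (Equiv.ofBijective
    (fun g => ⟨(g : GL (Fin d ⊕ Fin d) F).1, CfsgLib.Linear.Symp.mem_of_form_mulVec g.2⟩)
    ⟨fun g h e => Subtype.ext (Units.ext (congrArg Subtype.val e)), fun A => ?_⟩)
  exact ⟨⟨((Matrix.symplecticGroup (Fin d) F).subtype).toHomUnits A,
    CfsgLib.Linear.Symp.form_mulVec A.2⟩, rfl⟩

theorem two_mul_index [CharP F 2] {k : ℕ} (Q : QuadraticForm F (Fin (k + 1) ⊕ Fin (k + 1) → F))
    (hnd : NDPolar Q) (H : Subgroup (GL (Fin (k + 1) ⊕ Fin (k + 1)) F))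
    (hH : H ⊓ Cfsg.spGL (k + 1) F = Cfsg.isometryGroup F ⇑Q) :
    (IsPlus Q → 2 * H.relIndex (Cfsg.spGL (k + 1) F) =
        Fintype.card F ^ (k + 1) * (Fintype.card F ^ (k + 1) + 1)) ∧
    (¬ IsPlus Q → 2 * H.relIndex (Cfsg.spGL (k + 1) F) =
        Fintype.card F ^ (k + 1) * (Fintype.card F ^ (k + 1) - 1)) := by
  classical
  obtain ⟨α, β, hab⟩ := exists_aniso (F := F)
  set q := Fintype.card F with hq
  have hq2 : 2 ≤ q := Fintype.one_lt_card
  have hdim : Module.finrank F (Fin (k + 1) ⊕ Fin (k + 1) → F) = 2 * (k + 1) := by simp; ring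
  have key : Nat.card (Orth Q) * H.relIndex (Cfsg.spGL (k + 1) F) = Nat.card (Cfsg.spGL (k + 1) F) := by
    rw [← Nat.card_congr (isometryGroupEquiv Q fun _ => rfl).toEquiv, ← hH,
      ← Subgroup.inf_relIndex_right, Subgroup.relIndex]
    rw [← Nat.card_congr (Subgroup.subgroupOfEquivOfLe (inf_le_right (a := H)
      (b := Cfsg.spGL (k + 1) F))).toEquiv]
    exact Subgroup.card_mul_index _
  rw [card_spGL, ← hq, Finset.prod_range_succ] at key
  set P := ∏ i ∈ Finset.range k, (q ^ (2 * (i + 1)) - 1) with hP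
  have hP0 : 0 < P := Finset.prod_pos fun i _ => by
    have := Nat.one_lt_pow (n := 2 * (i + 1)) (by omega) (show 1 < q by omega)
    omega
  have hsq : q ^ (2 * (k + 1)) - 1 = (q ^ (k + 1) + 1) * (q ^ (k + 1) - 1) := by
    rw [mul_comm 2, pow_mul]
    simpa using Nat.sq_sub_sq (q ^ (k + 1)) 1
  have hexp : q ^ ((k + 1) ^ 2) = q ^ ((k + 1) * k) * q ^ (k + 1) := by rw [← pow_add]; congr 1; ring
  have hb1 : 1 < q ^ (k + 1) := Nat.one_lt_pow (by omega) (by omega)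
  have hpos : 0 < q ^ ((k + 1) * k) := pow_pos (by omega) _
  rw [hsq, hexp] at key
  constructor
  · intro hplus
    rcases classify_even Q hnd hdim (a := α) (c := β) hab with ⟨-, E, hE⟩ | ⟨hn, -⟩
    swap
    · exact absurd hplus hn
    rw [Nat.card_congr (orthCongr (Q := Q) (Q' := hypForm (k + 1) (zeroKernel F))
        (E.symm.trans (plusEquiv (k + 1) F)) fun x => by
      rw [LinearEquiv.trans_apply, plusEquiv_spec, ← CfsgLib.OrthCrit.plusForm_apply, ← hE,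
        E.apply_symm_apply]).toEquiv, card_orth_plus, Nat.card_eq_fintype_card, ← hq, ← hP] at key
    refine Nat.eq_of_mul_eq_mul_left
      (Nat.mul_pos (Nat.mul_pos hpos hP0) (show 0 < q ^ (k + 1) - 1 by omega)) ?_
    calc q ^ ((k + 1) * k) * P * (q ^ (k + 1) - 1) * (2 * H.relIndex (Cfsg.spGL (k + 1) F))
        = 2 * q ^ ((k + 1) * k) * (q ^ (k + 1) - 1) * P * H.relIndex (Cfsg.spGL (k + 1) F) := by ring
      _ = _ := by rw [key]; ring
  · intro hplus
    rcases classify_even Q hnd hdim (a := α) (c := β) hab with ⟨hn, -⟩ | ⟨-, k', hk', E, hE⟩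
    · exact absurd hn hplus
    obtain rfl : k = k' := by omega
    have hab' : IsAniso α β := hab
    rw [Nat.card_congr (orthCongr (Q := Q) (Q' := hypForm k (binForm α β))
        (E.symm.trans (minusEquiv k F)) fun x => by
      rw [LinearEquiv.trans_apply, minusEquiv_spec, ← CfsgLib.OrthCrit.minusForm_apply, ← hE,
        E.apply_symm_apply]).toEquiv, card_orth_minus hab', Nat.card_eq_fintype_card, ← hq, ← hP] at key
    refine Nat.eq_of_mul_eq_mul_left
      (Nat.mul_pos (Nat.mul_pos hpos hP0) (show 0 < q ^ (k + 1) + 1 by omega)) ?_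
    calc q ^ ((k + 1) * k) * P * (q ^ (k + 1) + 1) * (2 * H.relIndex (Cfsg.spGL (k + 1) F))
        = 2 * q ^ ((k + 1) * k) * (q ^ (k + 1) + 1) * P * H.relIndex (Cfsg.spGL (k + 1) F) := by ring
      _ = _ := by rw [key]; ring

/-- Elements of prime order of PSp_n(q), q even, and the subgroups of orthogonal type. Here `T = Sp_{2d}(F)` for a field `F` of characteristic 2 with `q` elements (`d ≥ 2`, `(d, q) ≠ (2, 2)`), realised as the invertible matrices preserving the standard alternating form; `Q` is a non-degenerate quadratic form on `F^{2d}` whose polar form is that alternating form, and `H` is the subgroup of `T` preserving `Q` up to a scalar (equivalently preserving `Q`) — a subgroup of type O^±_{2d}(q) (maximality is not assumed); `Q` is of plus type when `F^{2d}` contains a `d`-dimensional subspace on which `Q` vanishes, of minus type otherwise. Ω is the set of cosets of `H` in `T`, so an element of `T` of prime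 order `r` (`x ∈ T` with `x^r` scalar, `x` not scalar) fixes a point of Ω exactly when some `T`-conjugate of `x` preserves `Q`. Let `r` be a prime dividing the index of `H`. Then every element of `T` of order `r` fixes a point of Ω if and only if `r = 2` and either `Q` is of plus type or `d` is odd. -/
theorem result {F : Type*} [Field F] [Fintype F] {p : ℕ} [Fact p.Prime] [CharP F p] {q : ℕ} (hq : Fintype.card F = q)
    (hp : p = 2) (d : ℕ) (hd : 2 ≤ d) (hT : (d, q) ≠ (2, 2)) (Q : (Fin d ⊕ Fin d → F) → F) (hQ : Cfsg.Geo.IsNondegenerateQuadraticForm Q)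
    (hQf : ∀ u v, QuadraticMap.polar Q u v = Cfsg.sympForm d F u v)
    (r : ℕ) [Fact r.Prime]
    (hΩ : r ∣ (Cfsg.Geo.quadSimilarityGroup Q).relIndex (Cfsg.spGL d F)) :
    (∀ x ∈ Cfsg.spGL d F, (∃ z : F, ((x ^ r : GL (Fin d ⊕ Fin d) F) : Matrix (Fin d ⊕ Fin d) (Fin d ⊕ Fin d) F) = z • (1 : Matrix (Fin d ⊕ Fin d) (Fin d ⊕ Fin d) F)) →
      (∀ z : F, (x : Matrix (Fin d ⊕ Fin d) (Fin d ⊕ Fin d) F) ≠ z • (1 : Matrix (Fin d ⊕ Fin d) (Fin d ⊕ Fin d) F)) →
      ∃ g ∈ Cfsg.spGL d F, g⁻¹ * x * g ∈ Cfsg.Geo.quadSimilarityGroup Q) ↔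
    (r = 2 ∧ (Cfsg.Geo.IsPlusTypeOn Q ⊤ ∨ Odd d)) := by
  subst hp
  classical
  obtain ⟨k, rfl⟩ : ∃ k, d = k + 1 := ⟨d - 1, by omega⟩
  let Qq : QuadraticForm F (Fin (k + 1) ⊕ Fin (k + 1) → F) :=
    QuadraticMap.ofPolar Q (fun c x => by rw [hQ.smul, pow_two, smul_eq_mul]) hQ.polar_bilinear.add_left
      (fun c x y => by rw [hQ.polar_bilinear.smul_left, smul_eq_mul])
  have hQq : ⇑Qq = Q := rfl
  have hpol : ∀ u v, QuadraticMap.polar Qq u v = Cfsg.sympForm (k + 1) F u v := hQf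
  have hndp : NDPolar Qq := fun x hx => by
    by_contra h0
    obtain ⟨⟨y, hy⟩, -⟩ := hQ.nondegenerate x h0
    rw [← hQq, QuadraticMap.polar_comm] at hy
    first | exact hy (hx y) | exact hy (by rw [QuadraticMap.polar_comm]; exact hx y)
  have hdim : Fintype.card (Fin (k + 1) ⊕ Fin (k + 1)) = 2 * (k + 1) := by simp; ring
  have hdimV : Module.finrank F (Fin (k + 1) ⊕ Fin (k + 1) → F) = 2 * (k + 1) := by simp; ring
  let e₁ : Fin (k + 1) ⊕ Fin (k + 1) → F := Pi.single (.inl 0) 1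
  have he₁ : e₁ ≠ 0 := fun h => one_ne_zero (α := F) (by simpa [e₁] using congrFun h (.inl 0))
  obtain ⟨e₂, he₂⟩ : ∃ e₂, QuadraticMap.polar Qq e₁ e₂ ≠ 0 := by
    by_contra hcon
    push Not at hcon
    exact he₁ (hndp e₁ hcon)
  have hneQ : ∃ v, Qq v ≠ 0 := by
    by_contra hcon
    push Not at hcon
    exact he₂ (by rw [QuadraticMap.polar, hcon, hcon, hcon]; ring)
  have hH : Cfsg.Geo.quadSimilarityGroup Q ⊓ Cfsg.spGL (k + 1) F = Cfsg.isometryGroup F ⇑Qq := by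
    ext g
    rw [Subgroup.mem_inf, CfsgLib.CharTwoInv.mem_iso_iff]
    constructor
    · rintro ⟨⟨c, hc⟩, hg⟩ v
      have h1 : QuadraticMap.polar Qq ((g : Matrix (Fin (k + 1) ⊕ Fin (k + 1)) (Fin (k + 1) ⊕ Fin (k + 1)) F) *ᵥ e₁) ((g : Matrix (Fin (k + 1) ⊕ Fin (k + 1)) (Fin (k + 1) ⊕ Fin (k + 1)) F) *ᵥ e₂) =
          QuadraticMap.polar Qq e₁ e₂ := by rw [hpol, hpol]; exact hg e₁ e₂
      have h2 : QuadraticMap.polar Qq ((g : Matrix (Fin (k + 1) ⊕ Fin (k + 1)) (Fin (k + 1) ⊕ Fin (k + 1)) F) *ᵥ e₁) ((g : Matrix (Fin (k + 1) ⊕ Fin (k + 1)) (Fin (k + 1) ⊕ Fin (k + 1)) F) *ᵥ e₂) =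
          (c : F) * QuadraticMap.polar Qq e₁ e₂ := by
        simp only [QuadraticMap.polar, ← Matrix.mulVec_add, hQq, hc, mul_sub]
      have hc1 : (c : F) = 1 := mul_right_cancel₀ he₂ ((h2.symm.trans h1).trans (one_mul _).symm)
      rw [hQq, hc, hc1, one_mul]
    · intro h
      refine ⟨⟨1, fun v => by rw [Units.val_one, one_mul]; exact h v⟩, fun u v => ?_⟩
      rw [← hpol, ← hpol]
      show QuadraticMap.polar Qq ((g : Matrix (Fin (k + 1) ⊕ Fin (k + 1)) (Fin (k + 1) ⊕ Fin (k + 1)) F) *ᵥ u) ((g : Matrix (Fin (k + 1) ⊕ Fin (k + 1)) (Fin (k + 1) ⊕ Fin (k + 1)) F) *ᵥ v) = _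
      simp only [QuadraticMap.polar, ← Matrix.mulVec_add, h]
  have hplusIff : Cfsg.Geo.IsPlusTypeOn Q ⊤ ↔ IsPlus Qq := by
    constructor
    · rintro ⟨U, -, hU, hd2⟩
      exact ⟨U, fun x hx => hU x hx, hd2.trans (finrank_top F _)⟩
    · rintro ⟨U, hU, hd2⟩
      exact ⟨U, le_top, fun x hx => hU x hx, hd2.trans (finrank_top F _).symm⟩
  rw [hplusIff]
  constructor
  · intro hall
    -- a preserved form obtained by conjugation has the type of `Q`
    have hconj : ∀ x : GL (Fin (k + 1) ⊕ Fin (k + 1)) F, x ∈ Cfsg.spGL (k + 1) F → x ^ r = 1 →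
        (∀ z : F, (x : Matrix (Fin (k + 1) ⊕ Fin (k + 1)) (Fin (k + 1) ⊕ Fin (k + 1)) F) ≠ z • 1) →
        ∃ Q'' : QuadraticForm F (Fin (k + 1) ⊕ Fin (k + 1) → F),
          (∀ u v, QuadraticMap.polar Q'' u v = Cfsg.sympForm (k + 1) F u v) ∧
          (∀ v, Q'' ((x : Matrix (Fin (k + 1) ⊕ Fin (k + 1)) (Fin (k + 1) ⊕ Fin (k + 1)) F) *ᵥ v) = Q'' v) ∧ (IsPlus Q'' ↔ IsPlus Qq) := by
      intro x hx hxr hns
      obtain ⟨g, hg, hgx⟩ := hall x hx ⟨1, by rw [hxr, one_smul]; rfl⟩ hns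
      have hmem : g⁻¹ * x * g ∈ Cfsg.isometryGroup F ⇑Qq :=
        hH ▸ Subgroup.mem_inf.2 ⟨hgx, mul_mem (mul_mem (inv_mem hg) hx) hg⟩
      rw [CfsgLib.CharTwoInv.mem_iso_iff] at hmem
      let G : (Fin (k + 1) ⊕ Fin (k + 1) → F) ≃ₗ[F] (Fin (k + 1) ⊕ Fin (k + 1) → F) :=
        (Matrix.GeneralLinearGroup.toLin g⁻¹).toLinearEquiv
      have hG : ∀ v, G v = ((g⁻¹ : GL (Fin (k + 1) ⊕ Fin (k + 1)) F) : Matrix (Fin (k + 1) ⊕ Fin (k + 1)) (Fin (k + 1) ⊕ Fin (k + 1)) F) *ᵥ v := fun v => by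
        rw [← Matrix.toLin'_apply]; rfl
      refine ⟨Qq.comp G.toLinearMap, fun u v => ?_, fun v => ?_, ?_, ?_⟩
      · rw [show QuadraticMap.polar (Qq.comp G.toLinearMap) u v = QuadraticMap.polar Qq (G u) (G v) from by
          simp [QuadraticMap.polar], hpol, hG, hG]
        exact (inv_mem hg : g⁻¹ ∈ Cfsg.spGL (k + 1) F) u v
      · show Qq (G _) = Qq (G v)
        rw [hG, hG]
        have := hmem (((g⁻¹ : GL (Fin (k + 1) ⊕ Fin (k + 1)) F) : Matrix (Fin (k + 1) ⊕ Fin (k + 1)) (Fin (k + 1) ⊕ Fin (k + 1)) F) *ᵥ v)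
        rwa [Matrix.mulVec_mulVec, ← Units.val_mul, mul_assoc, mul_inv_cancel, mul_one, Units.val_mul,
          ← Matrix.mulVec_mulVec] at this
      · exact isPlus_congr _ _ G fun v => rfl
      · exact isPlus_congr _ _ G.symm fun v => by simp
    -- two preserved forms agree on the image of `x - 1`
    have hdiff : ∀ (Q' Q'' : QuadraticForm F (Fin (k + 1) ⊕ Fin (k + 1) → F))
        (x : GL (Fin (k + 1) ⊕ Fin (k + 1)) F),
        (∀ u v, QuadraticMap.polar Q'' u v = QuadraticMap.polar Q' u v) →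
        (∀ v, Q' ((x : Matrix (Fin (k + 1) ⊕ Fin (k + 1)) (Fin (k + 1) ⊕ Fin (k + 1)) F) *ᵥ v) = Q' v) → (∀ v, Q'' ((x : Matrix (Fin (k + 1) ⊕ Fin (k + 1)) (Fin (k + 1) ⊕ Fin (k + 1)) F) *ᵥ v) = Q'' v) →
        ∀ v, Q'' ((x : Matrix (Fin (k + 1) ⊕ Fin (k + 1)) (Fin (k + 1) ⊕ Fin (k + 1)) F) *ᵥ v - v) = Q' ((x : Matrix (Fin (k + 1) ⊕ Fin (k + 1)) (Fin (k + 1) ⊕ Fin (k + 1)) F) *ᵥ v - v) := by
      intro Q' Q'' x hp' h' h'' v
      rw [sub_eq_add_neg, QuadraticMap.map_add (⇑Q''), QuadraticMap.map_add (⇑Q'), h', h'', hp',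
        QuadraticMap.map_neg, QuadraticMap.map_neg]
      linear_combination (Q'' v - Q' v) * (CharTwo.two_eq_zero : (2 : F) = 0)
    obtain ⟨v₀, hv₀⟩ := hneQ
    obtain ⟨μ, hμ⟩ := exists_shift Qq hndp hdimV hv₀
    set Q' := shift Qq (μ • v₀) with hQ'
    have hpol' : ∀ u v, QuadraticMap.polar Q' u v = Cfsg.sympForm (k + 1) F u v := fun u v => by
      rw [hQ', polar_shift, hpol]
    have hndp' : NDPolar Q' := fun x hx => hndp x fun y => by rw [← polar_shift]; exact hx y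
    obtain ⟨α, β, hab⟩ := exists_aniso (F := F)
    have hsp : ∀ x : GL (Fin (k + 1) ⊕ Fin (k + 1)) F,
        (∀ v, Q' ((x : Matrix (Fin (k + 1) ⊕ Fin (k + 1)) (Fin (k + 1) ⊕ Fin (k + 1)) F) *ᵥ v) = Q' v) → x ∈ Cfsg.spGL (k + 1) F := fun x hx u v => by
      rw [← hpol', ← hpol']
      show QuadraticMap.polar Q' ((x : Matrix (Fin (k + 1) ⊕ Fin (k + 1)) (Fin (k + 1) ⊕ Fin (k + 1)) F) *ᵥ u) ((x : Matrix (Fin (k + 1) ⊕ Fin (k + 1)) (Fin (k + 1) ⊕ Fin (k + 1)) F) *ᵥ v) = _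
      simp only [QuadraticMap.polar, ← Matrix.mulVec_add, hx]
    have hr := (Fact.out : r.Prime)
    have hr2 : r = 2 := by
      by_contra hr2
      obtain ⟨hip, him⟩ := two_mul_index Qq hndp _ hH
      rw [hq] at hip him
      have hdvd : ∀ m, 2 * (Cfsg.Geo.quadSimilarityGroup Q).relIndex (Cfsg.spGL (k + 1) F) =
          q ^ (k + 1) * m → r ∣ m := fun m hm => by
        rcases hr.dvd_mul.1 (hm ▸ dvd_mul_of_dvd_right hΩ 2) with h | h
        · obtain ⟨f, -, hf⟩ := FiniteField.card F 2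
          rw [← hq, hf, ← pow_mul] at h
          exact absurd ((Nat.prime_dvd_prime_iff_eq hr Nat.prime_two).1 (hr.dvd_of_dvd_pow h)) hr2
        · exact h
      obtain ⟨x, hxr, hx, hfree⟩ : ∃ x : GL (Fin (k + 1) ⊕ Fin (k + 1)) F, x ^ r = 1 ∧
          (∀ v, Q' ((x : Matrix (Fin (k + 1) ⊕ Fin (k + 1)) (Fin (k + 1) ⊕ Fin (k + 1)) F) *ᵥ v) = Q' v) ∧
          ∀ v, (x : Matrix (Fin (k + 1) ⊕ Fin (k + 1)) (Fin (k + 1) ⊕ Fin (k + 1)) F) *ᵥ v = v → v = 0 := by
        have htr : ∀ {κ : Type} [Fintype κ] [DecidableEq κ] (E : (κ → F) ≃ₗ[F] (Fin (k + 1) ⊕ Fin (k + 1) → F))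
            (Qm : (κ → F) → F) (y : GL κ F), (∀ v, Q' (E v) = Qm v) → y ^ r = 1 →
            (∀ v, Qm ((y : Matrix κ κ F) *ᵥ v) = Qm v) → (∀ v, (y : Matrix κ κ F) *ᵥ v = v → v = 0) →
            ∃ x : GL (Fin (k + 1) ⊕ Fin (k + 1)) F, x ^ r = 1 ∧
              (∀ v, Q' ((x : Matrix (Fin (k + 1) ⊕ Fin (k + 1)) (Fin (k + 1) ⊕ Fin (k + 1)) F) *ᵥ v) = Q' v) ∧
              ∀ v, (x : Matrix (Fin (k + 1) ⊕ Fin (k + 1)) (Fin (k + 1) ⊕ Fin (k + 1)) F) *ᵥ v = v → v = 0 := by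
          intro κ _ _ E Qm y hE hy hyQ hyf
          refine ⟨transport E y, by rw [← map_pow, hy, map_one], fun v => ?_, fun v hv => ?_⟩
          · rw [transport_mulVec, hE, hyQ, ← hE, E.apply_symm_apply]
          · rw [transport_mulVec, ← E.eq_symm_apply] at hv
            exact E.symm.map_eq_zero_iff.1 (hyf _ hv)
        by_cases hp : IsPlus Qq
        · rcases classify_even Q' hndp' hdimV (a := α) (c := β) hab with ⟨hp', -⟩ | ⟨-, k', hk', E, hE⟩
          · exact absurd hp (hμ.1 hp')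
          obtain rfl : k = k' := by omega
          obtain ⟨y, hy, hyQ, hyf⟩ := exists_fixedFree_minus (a := α) (b := β) k hab hr2
            (by rw [hq]; exact hdvd _ (hip hp))
          exact htr E _ y hE hy hyQ hyf
        · rcases classify_even Q' hndp' hdimV (a := α) (c := β) hab with ⟨-, E, hE⟩ | ⟨hp', -⟩
          swap
          · exact absurd (hμ.2 hp) hp'
          obtain ⟨y, hy, hyQ, hyf⟩ := exists_fixedFree_plus (F := F) (k + 1) (by omega) (r := r)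
            (by rw [hq]; exact hdvd _ (him hp))
          exact htr E _ y hE hy hyQ hyf
      obtain ⟨Q'', hp'', hx'', htype⟩ := hconj x (hsp x hx) hxr fun z hz => by
        have h1 := hx v₀
        rw [hz, Matrix.smul_mulVec, Matrix.one_mulVec] at h1
        obtain ⟨v₁, hv₁⟩ : ∃ v, Q' v ≠ 0 := by
          by_contra hcon
          push Not at hcon
          exact he₂ (by rw [← polar_shift Qq (μ • v₀)]; simp [QuadraticMap.polar, ← hQ', hcon])
        have h2 := hx v₁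
        rw [hz, Matrix.smul_mulVec, Matrix.one_mulVec, QuadraticMap.map_smul, smul_eq_mul] at h2
        rw [eq_one_of_sq (mul_right_cancel₀ hv₁ (h2.trans (one_mul _).symm)), one_smul] at hz
        exact he₁ (hfree e₁ (by rw [hz, Matrix.one_mulVec]))
      have heq : Q'' = Q' := by
        refine QuadraticMap.ext fun w => ?_
        have hsurj : Function.Surjective (((Matrix.toLin' (x : Matrix (Fin (k + 1) ⊕ Fin (k + 1)) (Fin (k + 1) ⊕ Fin (k + 1)) F) : Module.End F (Fin (k + 1) ⊕ Fin (k + 1) → F))) - 1 : Module.End F (Fin (k + 1) ⊕ Fin (k + 1) → F)) :=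
          LinearMap.injective_iff_surjective.1 (by
            rw [← LinearMap.ker_eq_bot, Submodule.eq_bot_iff]
            intro v hv
            exact hfree v (sub_eq_zero.1 hv))
        obtain ⟨v, rfl⟩ := hsurj w
        exact hdiff Q' Q'' x (fun a b => by rw [hp'', hpol']) hx hx'' v
      rw [heq] at htype
      rw [htype] at hμ
      exact iff_not_self hμ
    refine ⟨hr2, ?_⟩
    subst hr2
    by_contra hcon
    rw [not_or, Nat.not_odd_iff_even] at hcon
    obtain ⟨hp, hev⟩ := hcon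
    rcases classify_even Q' hndp' hdimV (a := α) (c := β) hab with ⟨-, E, hE⟩ | ⟨hp', -⟩
    swap
    · exact hp' (hμ.2 hp)
    obtain ⟨y, K, hyy, hyQ, hK, hKQ, hKr⟩ := exists_degenerate_involution (F := F) hev
    have hx : ∀ v, Q' (((transport E y : GL _ F) : Matrix (Fin (k + 1) ⊕ Fin (k + 1)) (Fin (k + 1) ⊕ Fin (k + 1)) F) *ᵥ v) = Q' v := fun v => by
      rw [transport_mulVec, hE, CfsgLib.OrthCrit.plusForm_apply, hyQ,
        ← CfsgLib.OrthCrit.plusForm_apply, ← hE, E.apply_symm_apply]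
    obtain ⟨Q'', hp'', hx'', htype⟩ := hconj (transport E y) (hsp _ hx)
      (by rw [pow_two, ← map_mul, hyy, map_one]) fun z hz => by
        have hv : ∀ w, E ((y : Matrix (Fin (k + 1) ⊕ Fin (k + 1)) (Fin (k + 1) ⊕ Fin (k + 1)) F) *ᵥ E.symm w) = z • w := fun w => by
          rw [← transport_mulVec, hz, Matrix.smul_mulVec, Matrix.one_mulVec]
        obtain ⟨u, hu, hu0⟩ := Submodule.exists_mem_ne_zero_of_ne_bot (p := K) (fun h => by
          rw [h, finrank_bot] at hK; omega)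
        obtain ⟨w, hw⟩ := hKr u hu
        have h1 := hv (E w)
        rw [E.symm_apply_apply, ← map_smul] at h1
        have h2 := E.injective h1
        obtain ⟨v₁, hv₁⟩ : ∃ v, Cfsg.quadFormPlus (k + 1) F v ≠ 0 :=
          ⟨Pi.single (.inl 0) 1 + Pi.single (.inr 0) 1, by simp [Cfsg.quadFormPlus, Pi.single_apply]⟩
        have h3 := hv (E v₁)
        rw [E.symm_apply_apply, ← map_smul] at h3
        have h4 := hyQ v₁
        rw [E.injective h3, ← CfsgLib.OrthCrit.plusForm_apply, QuadraticMap.map_smul, smul_eq_mul,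
          ← CfsgLib.OrthCrit.plusForm_apply] at h4
        rw [eq_one_of_sq (mul_right_cancel₀ hv₁ (h4.trans (one_mul _).symm)), one_smul] at h2
        exact hu0 (by rw [hw, h2, sub_self])
    refine hp (htype.1 ⟨K.map E.toLinearMap, ?_, by rw [LinearEquiv.finrank_map_eq, hK, hdimV]⟩)
    rintro _ ⟨u, hu, rfl⟩
    obtain ⟨w, rfl⟩ := hKr u hu
    have := hdiff Q' Q'' _ (fun a b => by rw [hp'', hpol']) hx hx'' (E w)
    rw [transport_mulVec, E.symm_apply_apply, ← map_sub] at this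
    rw [LinearEquiv.coe_coe, this, hE, CfsgLib.OrthCrit.plusForm_apply]
    exact hKQ _ hu
  · rintro ⟨rfl, hcond⟩ x hx ⟨z, hz⟩ -
    obtain ⟨Q₀, hpol₀, hx₀⟩ := Cfsg.Agent.S2585.result
      (⟨x.1, CfsgLib.Linear.Symp.mem_of_form_mulVec hx⟩ : Matrix.symplecticGroup (Fin (k + 1)) F)
    have hnd₀ : NDPolar Q₀ := fun u hu => hndp u fun y => by rw [hpol, ← hpol₀]; exact hu y
    have hnd₀' : Q₀.polarBilin.Nondegenerate := CfsgLib.Orth.ndPolar_iff.1 hnd₀
    have hne₀ : ∃ v, Q₀ v ≠ 0 := by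
      by_contra hcon
      push Not at hcon
      exact he₂ (by rw [hpol, ← hpol₀, QuadraticMap.polar, hcon, hcon, hcon]; ring)
    have hxx := sq_eq_one Q₀ hne₀ hx₀ hz
    obtain ⟨Q₁, hp₁, hx₁, htype⟩ : ∃ Q₁ : QuadraticForm F (Fin (k + 1) ⊕ Fin (k + 1) → F),
        (∀ u v, QuadraticMap.polar Q₁ u v = Cfsg.sympForm (k + 1) F u v) ∧
        (∀ v, Q₁ ((x : Matrix (Fin (k + 1) ⊕ Fin (k + 1)) (Fin (k + 1) ⊕ Fin (k + 1)) F) *ᵥ v) = Q₁ v) ∧ (IsPlus Q₁ ↔ IsPlus Qq) := by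
      by_cases hsame : IsPlus Q₀ ↔ IsPlus Qq
      · exact ⟨Q₀, hpol₀, hx₀, hsame⟩
      by_cases hfix : ∃ v, (x : Matrix (Fin (k + 1) ⊕ Fin (k + 1)) (Fin (k + 1) ⊕ Fin (k + 1)) F) *ᵥ v = v ∧ Q₀ v ≠ 0
      · obtain ⟨v, hv, hv0⟩ := hfix
        obtain ⟨μ, hμ⟩ := exists_shift Q₀ hnd₀ hdimV hv0
        refine ⟨shift Q₀ (μ • v), fun a b => by rw [polar_shift, hpol₀], fun u => ?_, ?_⟩
        · rw [shift_apply, shift_apply, hx₀]
          have : QuadraticMap.polar Q₀ (μ • v) ((x : Matrix (Fin (k + 1) ⊕ Fin (k + 1)) (Fin (k + 1) ⊕ Fin (k + 1)) F) *ᵥ u) =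
              QuadraticMap.polar Q₀ (μ • v) u := by
            conv_lhs => rw [show μ • v = (x : Matrix (Fin (k + 1) ⊕ Fin (k + 1)) (Fin (k + 1) ⊕ Fin (k + 1)) F) *ᵥ (μ • v) by rw [Matrix.mulVec_smul, hv]]
            simp only [QuadraticMap.polar, ← Matrix.mulVec_add, hx₀]
          rw [this]
        · rw [hμ]; tauto
      · push Not at hfix
        obtain ⟨hp₀, hev⟩ := totally_singular_fixed Q₀ hnd₀' hdim hx₀ hxx hfix
        exact absurd (iff_of_true hp₀ (hcond.resolve_right (Nat.not_odd_iff_even.2 hev))) hsame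
    have hndp₁ : NDPolar Q₁ := fun u hu => hndp u fun y => by rw [hpol, ← hp₁]; exact hu y
    obtain ⟨f, hf⟩ := exists_isometry_even Qq Q₁ hndp hndp₁ hdimV hdimV htype.symm
    obtain ⟨g, hgv⟩ : ∃ g : GL (Fin (k + 1) ⊕ Fin (k + 1)) F, ∀ v,
        (g : Matrix (Fin (k + 1) ⊕ Fin (k + 1)) (Fin (k + 1) ⊕ Fin (k + 1)) F) *ᵥ v = f v :=
      ⟨Matrix.GeneralLinearGroup.toLin.symm (LinearMap.GeneralLinearGroup.ofLinearEquiv f), fun v => by
        rw [← Matrix.toLin'_apply]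
        show Matrix.toLin' (LinearMap.toMatrix' f.toLinearMap) v = _
        rw [Matrix.toLin'_toMatrix']
        rfl⟩
    have hgsp : g ∈ Cfsg.spGL (k + 1) F := fun u v => by
      show Cfsg.sympForm (k + 1) F ((g : Matrix (Fin (k + 1) ⊕ Fin (k + 1)) (Fin (k + 1) ⊕ Fin (k + 1)) F) *ᵥ u) ((g : Matrix (Fin (k + 1) ⊕ Fin (k + 1)) (Fin (k + 1) ⊕ Fin (k + 1)) F) *ᵥ v) = _
      rw [hgv, hgv, ← hp₁, ← hpol]
      simp only [QuadraticMap.polar, ← map_add, hf]
    refine ⟨g, hgsp, ⟨1, fun v => ?_⟩⟩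
    rw [Units.val_one, one_mul, ← hQq, ← hf, ← hgv, Matrix.mulVec_mulVec, ← Units.val_mul,
      ← mul_assoc, ← mul_assoc, mul_inv_cancel, one_mul, Units.val_mul, ← Matrix.mulVec_mulVec, hx₁,
      hgv, hf]

end Cfsg.Agent.S5983
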