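import Cfsg.Statements.S5984
import Cfsg.Agent.S5979
import Cfsg.Agent.Lib.LinFix.KronForm
import Cfsg.Agent.Lib.LinFix.UnitaryPair
-- import your own Cfsg.Agent.* helpers here

set_option autoImplicit false
open scoped MatrixGroups
open Cfsg

namespace Cfsg.Agent.S5984

open Matrix Module Polynomial CfsgLib.Classical.Herm CfsgLib.Classical.Herm.HermSpace CfsgLib.LinFix

section pair

variable {F : Type*} [Field F] [Fintype F] {q n : ℕ}

theorem herm_nondeg (hF : Fintype.card F = q ^ 2) {U W : Submodule F (Fin n → F)} (hc : U ⊔ W = ⊤)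
    {x : Fin n → F} (hU : ∀ u ∈ U, Cfsg.hermForm n F q x u = 0) (hW : ∀ w ∈ W, Cfsg.hermForm n F q x w = 0) :
    x = 0 := by
  refine (stdHerm hF n).nondeg x fun y => ?_
  obtain ⟨u, hu, v, hv, rfl⟩ := Submodule.mem_sup.1 (hc ▸ Submodule.mem_top (x := y))
  rw [add_right, stdHerm_h, stdHerm_h, hU u hu, hW v hv, add_zero]

/-- An isometry fixing both members of a pair and centralising one of them is trivial. -/
theorem eq_one_of_fix (hF : Fintype.card F = q ^ 2) {U W : Submodule F (Fin n → F)} (hc : U ⊔ W = ⊤)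
    (hU : Cfsg.Geo.IsTotallySingularFor (Cfsg.hermForm n F q) U)
    {y : GL (Fin n) F} (hy : y ∈ Cfsg.GU n F q)
    (hinv : ∀ u ∈ U, (y : Matrix (Fin n) (Fin n) F) *ᵥ u ∈ U)
    (hfix : ∀ w ∈ W, (y : Matrix (Fin n) (Fin n) F) *ᵥ w = w) : (y : Matrix (Fin n) (Fin n) F) = 1 := by
  refine Matrix.ext_iff_mulVec.2 fun v => ?_
  obtain ⟨u, hu, w, hw, rfl⟩ := Submodule.mem_sup.1 (hc ▸ Submodule.mem_top (x := v))
  rw [Matrix.one_mulVec, Matrix.mulVec_add, hfix w hw]
  congr 1
  refine sub_eq_zero.1 (herm_nondeg hF hc (fun u' hu' => hU _ (U.sub_mem (hinv u hu) hu) _ hu') fun w' hw' => ?_)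
  have h1 : Cfsg.hermForm n F q ((y : Matrix (Fin n) (Fin n) F) *ᵥ u) ((y : Matrix (Fin n) (Fin n) F) *ᵥ w') =
      Cfsg.hermForm n F q u w' := hy u w'
  rw [hfix w' hw'] at h1
  change (stdHerm hF n).h _ _ = 0
  rw [sub_left, stdHerm_h, stdHerm_h, h1, sub_self]

/-- A norm one eigenvalue of an isometry occurs on both members of an invariant pair. -/
theorem exists_eigen (hF : Fintype.card F = q ^ 2) {U W : Submodule F (Fin n → F)} (hc : U ⊔ W = ⊤)
    (hU : Cfsg.Geo.IsTotallySingularFor (Cfsg.hermForm n F q) U)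
    {y : GL (Fin n) F} (hy : y ∈ Cfsg.GU n F q)
    (hinv : ∀ w ∈ W, (y : Matrix (Fin n) (Fin n) F) *ᵥ w ∈ W) {w₀ : F} (hw : w₀ ^ (q + 1) = 1)
    {u : Fin n → F} (hu : u ∈ U) (hu0 : u ≠ 0) (hyu : (y : Matrix (Fin n) (Fin n) F) *ᵥ u = w₀ • u) :
    ∃ w ∈ W, w ≠ 0 ∧ (y : Matrix (Fin n) (Fin n) F) *ᵥ w = w₀ • w := by
  by_contra hcon
  push Not at hcon
  let T : W →ₗ[F] W := (Matrix.toLin' ((y : Matrix (Fin n) (Fin n) F) - w₀ • 1)).restrict fun w hw' => by
    rw [Matrix.toLin'_apply, Matrix.sub_mulVec, Matrix.smul_mulVec, Matrix.one_mulVec]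
    exact W.sub_mem (hinv w hw') (W.smul_mem _ hw')
  have hT : ∀ w : W, (T w : Fin n → F) = (y : Matrix (Fin n) (Fin n) F) *ᵥ (w : Fin n → F) - w₀ • (w : Fin n → F) :=
    fun w => by
      change ((y : Matrix (Fin n) (Fin n) F) - w₀ • 1) *ᵥ _ = _
      rw [Matrix.sub_mulVec, Matrix.smul_mulVec, Matrix.one_mulVec]
      rfl
  have hinj : Function.Injective T := by
    rw [← LinearMap.ker_eq_bot, LinearMap.ker_eq_bot']
    intro w hw'
    by_contra h0
    exact hcon w w.2 (fun h => h0 (Subtype.ext h)) (sub_eq_zero.1 ((hT w).symm.trans (congrArg Subtype.val hw')))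
  refine hu0 (herm_nondeg hF hc (fun u' hu' => hU u hu u' hu') fun w' hw' => ?_)
  obtain ⟨w, hw2⟩ := LinearMap.injective_iff_surjective.1 hinj ⟨w', hw'⟩
  have hw0 : w₀ ≠ 0 := fun h => by rw [h, zero_pow (by omega)] at hw; exact zero_ne_one hw
  have h1 : Cfsg.hermForm n F q (w₀ • u) ((y : Matrix (Fin n) (Fin n) F) *ᵥ (w : Fin n → F)) =
      Cfsg.hermForm n F q u (w : Fin n → F) := by rw [← hyu]; exact hy u w
  have h2 : w' = (y : Matrix (Fin n) (Fin n) F) *ᵥ (w : Fin n → F) - w₀ • (w : Fin n → F) := by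
    rw [← hT, hw2]
  set H := stdHerm hF n
  change H.h u w' = 0
  change H.h (w₀ • u) _ = H.h u _ at h1
  rw [H.smul_left] at h1
  rw [h2, sub_right, smul_right, sub_eq_zero]
  refine mul_left_cancel₀ hw0 (h1.trans ?_)
  rw [stdHerm_conj, ← mul_assoc, ← pow_succ', hw, one_mul]

omit [Fintype F] in
theorem charpoly_diagonal_pair {a b : ℕ} (z₁ z₂ : F) (m : ℕ) (h : a + b = m) :
    ∏ i : Fin m, (X - C (if (i : ℕ) < a then z₁ else z₂)) = (X - C z₁) ^ a * (X - C z₂) ^ b := by
  subst h
  rw [Fin.prod_univ_add]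
  simp [Fin.natAdd]

end pair

/-- Elements of prime order of PSU_n(q) and the stabilizers of pairs of maximal totally singular subspaces. Here `T = PSU_n(F)`, `F` with `q²` elements, `n ≥ 4` even; `D` is a pair of complementary totally singular `n/2`-subspaces and `H` its stabilizer in `T`. Let `r` be a prime dividing the index of `H`. Then every element of `T` of order `r` fixes a point of Ω if and only if `r = 2`, `q` is odd and `(q+1)_2 ≤ n_2`. -/
theorem result {F : Type*} [Field F] [Fintype F] {p : ℕ} [Fact p.Prime] [CharP F p] {q : ℕ} (hq : Fintype.card F = q ^ 2)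
    (n : ℕ) (hn : 4 ≤ n) (he : Even n) (D : Fin 2 → Submodule F (Fin n → F)) (hD : Cfsg.Geo.IsMDecomposition (n / 2) D)
    (hDs : ∀ i, Cfsg.Geo.IsTotallySingularFor (Cfsg.hermForm n F q) (D i))
    (r : ℕ) [Fact r.Prime]
    (hΩ : r ∣ (Cfsg.Geo.decompositionStabilizer D).relIndex (Cfsg.GU n F q ⊓ Cfsg.Geo.specialLinear (Fin n) F)) :
    (∀ x ∈ Cfsg.GU n F q ⊓ Cfsg.Geo.specialLinear (Fin n) F, (∃ z : F, ((x ^ r : GL (Fin n) F) : Matrix (Fin n) (Fin n) F) = z • (1 : Matrix (Fin n) (Fin n) F)) →
      (∀ z : F, (x : Matrix (Fin n) (Fin n) F) ≠ z • (1 : Matrix (Fin n) (Fin n) F)) →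
      ∃ g ∈ Cfsg.GU n F q ⊓ Cfsg.Geo.specialLinear (Fin n) F, g⁻¹ * x * g ∈ Cfsg.Geo.decompositionStabilizer D) ↔
    (r = 2 ∧ Odd q ∧ padicValNat 2 (q + 1) ≤ padicValNat 2 n) := by
  classical
  have hr : r.Prime := Fact.out
  have hp : p.Prime := Fact.out
  obtain ⟨m, hnm⟩ := he
  have hm : n / 2 = m := by omega
  rw [hm] at hD
  have hm2 : 2 ≤ m := by omega
  haveI : NeZero n := ⟨by omega⟩
  have hq2 : 2 ≤ q := two_le_of_card hq
  obtain ⟨t, ht0, ht⟩ : ∃ t, 0 < t ∧ q = p ^ t := by
    obtain ⟨k, -, hk⟩ := FiniteField.card F p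
    obtain ⟨t, -, ht⟩ := (Nat.dvd_prime_pow hp).1 (hk ▸ hq ▸ dvd_pow_self q two_ne_zero : q ∣ p ^ (k : ℕ))
    refine ⟨t, Nat.pos_of_ne_zero fun h => ?_, ht⟩
    rw [ht, h, pow_zero] at hq2; omega
  have hqodd : Odd q ↔ p ≠ 2 := by
    rw [ht, Nat.odd_pow_iff ht0.ne']
    exact ⟨fun h h2 => by rw [h2] at h; exact absurd h (by decide), fun h => hp.odd_of_ne_two h⟩
  have hC : IsCompl (D 0) (D 1) := by
    refine ⟨hD.indep.pairwiseDisjoint (by decide : (0 : Fin 2) ≠ 1), codisjoint_iff.2 ?_⟩
    rw [eq_top_iff, ← hD.iSup_eq_top]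
    refine iSup_le fun i => ?_
    fin_cases i <;> simp
  have hDinj : Function.Injective D := fun i j hij => by
    by_contra hne
    have h := hD.indep.pairwiseDisjoint hne
    rw [Function.onFun, hij, disjoint_self] at h
    have := hD.finrank_eq j
    rw [h, finrank_bot] at this
    omega
  set S := Cfsg.GU n F q ⊓ Cfsg.Geo.specialLinear (Fin n) F with hS
  -- a conjugate in the stabiliser
  have split : ∀ y ∈ Cfsg.Geo.decompositionStabilizer D, ∃ σ : Equiv.Perm (Fin 2),
      (∀ i, (D i).map (Matrix.toLin' (y : Matrix (Fin n) (Fin n) F)) = D (σ i)) ∧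
      ∀ i v, v ∈ D i → (y : Matrix (Fin n) (Fin n) F) *ᵥ v ∈ D (σ i) := by
    rintro y ⟨σ, hσ⟩
    exact ⟨σ, hσ, fun i v hv => hσ i ▸ ⟨v, hv, Matrix.toLin'_apply _ _⟩⟩
  have fixes : r ≠ 2 → ∀ y ∈ Cfsg.Geo.decompositionStabilizer D, (y : Matrix (Fin n) (Fin n) F) ^ r = 1 →
      ∀ i v, v ∈ D i → (y : Matrix (Fin n) (Fin n) F) *ᵥ v ∈ D i := by
    intro hr2 y hy hyr i v hv
    obtain ⟨σ, -, hσv⟩ := split y hy
    have hpow : ∀ (k : ℕ) i v, v ∈ D i → (y : Matrix (Fin n) (Fin n) F) ^ k *ᵥ v ∈ D ((σ ^ k) i) := by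
      intro k
      induction k with
      | zero => intro i v hv; simpa using hv
      | succ k ih =>
        intro i v hv
        rw [pow_succ' (y : Matrix (Fin n) (Fin n) F), ← Matrix.mulVec_mulVec, pow_succ' σ, Equiv.Perm.mul_apply]
        exact hσv _ _ (ih i v hv)
    have hone : σ ^ r = 1 := by
      refine Equiv.ext fun i => hDinj ?_
      have hle : D i ≤ D ((σ ^ r) i) := fun v hv => by simpa [hyr] using hpow r i v hv
      exact (Submodule.eq_of_le_of_finrank_eq hle (by rw [hD.finrank_eq, hD.finrank_eq])).symm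
    have h2 : σ ^ 2 = 1 := by
      have : ∀ τ : Equiv.Perm (Fin 2), τ ^ 2 = 1 := by decide
      exact this σ
    have hσ1 : σ = 1 := by
      have := (pow_gcd_eq_one (m := 2) (n := r) (a := σ)).2 ⟨h2, hone⟩
      rwa [Nat.Coprime.gcd_eq_one ((Nat.coprime_primes Nat.prime_two hr).2 (Ne.symm hr2)), pow_one] at this
    simpa [hσ1] using hσv i v hv
  have hscal : ∀ (x : GL (Fin n) F) (w : F) (v : Fin n → F) (g : GL (Fin n) F),
      (x : Matrix (Fin n) (Fin n) F) *ᵥ ((g : Matrix (Fin n) (Fin n) F) *ᵥ v) = w • ((g : Matrix (Fin n) (Fin n) F) *ᵥ v) ↔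
      ((g⁻¹ * x * g : GL (Fin n) F) : Matrix (Fin n) (Fin n) F) *ᵥ v = w • v := by
    intro x w v g
    rw [Units.val_mul, Units.val_mul, ← Matrix.mulVec_mulVec, ← Matrix.mulVec_mulVec]
    constructor
    · intro h
      rw [h, Matrix.mulVec_smul, Matrix.mulVec_mulVec, Units.inv_mul, Matrix.one_mulVec]
    · intro h
      have h' := congrArg (fun z => (g : Matrix (Fin n) (Fin n) F) *ᵥ z) h
      simpa [Matrix.mulVec_mulVec, ← Matrix.mul_assoc, Matrix.mulVec_smul] using h'
  constructor
  · intro H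
    by_contra hcon
    rcases eq_or_ne r p with hrp | hrp
    · -- a transvection
      subst hrp
      obtain ⟨-, hb⟩ := CfsgLib.UnitaryPair.exists_dual_basis hq (hDs 0) (hDs 1) hC
      obtain ⟨b, hbU, -, -, -⟩ := hb (hD.finrank_eq 0)
      set v := b (Sum.inl ⟨0, by omega⟩) with hvdef
      have hv0 : v ≠ 0 := b.ne_zero _
      set HS := stdHerm hq n with hHS
      have hvv : HS.h v v = 0 := hDs 0 v (hbU _) v (hbU _)
      obtain ⟨l, hl0, hl⟩ := exists_skew HS
      obtain ⟨u₀, hu₀⟩ := exists_h_one HS hv0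
      let M : Matrix (Fin n) (Fin n) F := LinearMap.toMatrix' (LinearMap.id + l • (form HS v).smulRight v)
      have hM : ∀ u, M *ᵥ u = u + (l * HS.h u v) • v := fun u => by
        rw [← Matrix.toLin'_apply, Matrix.toLin'_toMatrix']
        simp [smul_smul]
      have hMpres : ∀ u w, HS.h (M *ᵥ u) (M *ᵥ w) = HS.h u w := by
        intro u w
        rw [hM, hM, HS.add_left, add_right, add_right, HS.smul_left, HS.smul_left, smul_right, smul_right, hvv,
          map_mul, ← HS.symm' w v]
        linear_combination (HS.h u v * HS.conj (HS.h w v)) * hl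
      have hpw : ∀ (k : ℕ) u, M ^ k *ᵥ u = u + ((k : F) * (l * HS.h u v)) • v := by
        intro k
        induction k with
        | zero => intro u; simp
        | succ k ih =>
          intro u
          rw [pow_succ', ← Matrix.mulVec_mulVec, ih, hM, HS.add_left, HS.smul_left, hvv, mul_zero, add_zero,
            add_assoc, ← add_smul, Nat.cast_succ]
          congr 2
          ring
      have hMr : M ^ r = 1 := Matrix.ext_iff_mulVec.2 fun u => by
        rw [hpw, CharP.cast_eq_zero F r, zero_mul, zero_smul, add_zero, Matrix.one_mulVec]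
      let x : GL (Fin n) F := Units.ofPowEqOne M r hMr hr.ne_zero
      have hxS : x ∈ S := by
        refine ⟨fun u w => hMpres u w, ?_⟩
        change Matrix.GeneralLinearGroup.det x = 1
        refine Units.ext (frobenius_inj F r (?_ : M.det ^ r = (1 : F) ^ r))
        rw [← Matrix.det_pow, hMr, Matrix.det_one, one_pow]
      obtain ⟨g, hg, hgy⟩ := H x hxS ⟨1, by rw [Units.val_pow_eq_pow_val, one_smul]; exact hMr⟩ (by
        intro z hz
        have h1 := hM v
        rw [hvv, mul_zero, zero_smul, add_zero, show M = z • 1 from hz, Matrix.smul_mulVec, Matrix.one_mulVec] at h1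
        have hz1 : z = 1 := smul_left_injective F hv0 (h1.trans (one_smul F v).symm)
        have h2 := hM u₀
        rw [show M = z • 1 from hz, hz1, one_smul, Matrix.one_mulVec, hu₀, mul_one, left_eq_add] at h2
        exact (smul_ne_zero hl0 hv0) h2)
      set y := g⁻¹ * x * g
      set v' := ((g⁻¹ : GL (Fin n) F) : Matrix (Fin n) (Fin n) F) *ᵥ v
      have hy : ∀ u, ∃ c : F, (y : Matrix (Fin n) (Fin n) F) *ᵥ u - u = c • v' := by
        intro u
        refine ⟨l * HS.h ((g : Matrix (Fin n) (Fin n) F) *ᵥ u) v, ?_⟩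
        rw [Units.val_mul, Units.val_mul, ← Matrix.mulVec_mulVec, ← Matrix.mulVec_mulVec]
        change ((g⁻¹ : GL (Fin n) F) : Matrix (Fin n) (Fin n) F) *ᵥ (M *ᵥ _) - u = _
        rw [hM, Matrix.mulVec_add, Matrix.mulVec_smul, Matrix.mulVec_mulVec, Units.inv_mul, Matrix.one_mulVec,
          add_sub_cancel_left]
      obtain ⟨σ, hσ, hσv⟩ := split y hgy
      have hyS : y ∈ S := mul_mem (mul_mem (inv_mem hg) hxS) hg
      have hy1 : (y : Matrix (Fin n) (Fin n) F) ≠ 1 := by
        intro h
        have h2 : (x : Matrix (Fin n) (Fin n) F) = 1 := by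
          have : x = g * y * g⁻¹ := by simp [y, mul_assoc]
          rw [this, Units.val_mul, Units.val_mul, h, mul_one, Units.mul_inv]
        have h3 := hM u₀
        rw [show M = 1 from h2, Matrix.one_mulVec, hu₀, mul_one, left_eq_add] at h3
        exact (smul_ne_zero hl0 hv0) h3
      by_cases hσ1 : σ = 1
      · have hinv : ∀ i u, u ∈ D i → (y : Matrix (Fin n) (Fin n) F) *ᵥ u ∈ D i := fun i u hu => by
          simpa [hσ1] using hσv i u hu
        by_cases h1 : ∀ w ∈ D 1, (y : Matrix (Fin n) (Fin n) F) *ᵥ w = w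
        · exact hy1 (eq_one_of_fix hq hC.sup_eq_top (hDs 0) hyS.1 (hinv 0) h1)
        · push Not at h1
          obtain ⟨w, hw, hwne⟩ := h1
          refine hy1 (eq_one_of_fix hq (sup_comm (D 1) (D 0) ▸ hC.sup_eq_top) (hDs 1) hyS.1 (hinv 1) fun u hu => ?_)
          obtain ⟨c, hc⟩ := hy w
          obtain ⟨c', hc'⟩ := hy u
          have hc0 : c ≠ 0 := fun h => hwne (sub_eq_zero.1 (by rw [hc, h, zero_smul]))
          have hv1 : v' ∈ D 1 := by
            rw [← inv_smul_smul₀ hc0 v', ← hc]
            exact Submodule.smul_mem _ _ (Submodule.sub_mem _ (hinv 1 w hw) hw)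
          refine sub_eq_zero.1 ((Submodule.disjoint_def.1 hC.disjoint) _ ((D 0).sub_mem (hinv 0 u hu) hu) ?_)
          rw [hc']
          exact Submodule.smul_mem _ _ hv1
      · have hσ0 : σ 0 = 1 := by
          by_contra h
          refine hσ1 (Equiv.ext fun i => ?_)
          have h0 : σ 0 = 0 := by omega
          fin_cases i
          · simpa using h0
          · by_contra h'
            have : σ 1 = 0 := by simp at h'; omega
            exact absurd (σ.injective (h0.trans this.symm)) (by decide)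
        let T : D 0 →ₗ[F] (Fin n → F) :=
          (Matrix.toLin' ((y : Matrix (Fin n) (Fin n) F) - 1)).comp (D 0).subtype
        have hTr : LinearMap.range T ≤ Submodule.span F {v'} := by
          rintro _ ⟨u, rfl⟩
          obtain ⟨c, hc⟩ := hy u
          exact Submodule.mem_span_singleton.2 ⟨c, by
            rw [← hc]
            simp [T, Matrix.sub_mulVec]⟩
        have hTinj : LinearMap.ker T = ⊥ := by
          rw [LinearMap.ker_eq_bot']
          intro u hu
          have h1 : (y : Matrix (Fin n) (Fin n) F) *ᵥ (u : Fin n → F) = (u : Fin n → F) :=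
            sub_eq_zero.1 (by simpa [T, Matrix.sub_mulVec] using hu)
          refine Subtype.ext ((Submodule.disjoint_def.1 hC.disjoint) _ u.2 ?_)
          rw [← h1, ← hσ0]
          exact hσv 0 _ u.2
        have h3 := LinearMap.finrank_range_of_inj (LinearMap.ker_eq_bot.1 hTinj)
        have h4 := (Submodule.finrank_mono hTr).trans ((finrank_span_le_card ({v'} : Set (Fin n → F))).trans (le_of_eq (Set.toFinset_card _)))
        rw [h3, hD.finrank_eq] at h4
        simp at h4
        omega
    rcases eq_or_ne r 2 with hr2 | hr2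
    · subst hr2
      have hp2 : p ≠ 2 := Ne.symm hrp
      have hpadic : padicValNat 2 n < padicValNat 2 (q + 1) := by
        by_contra h
        exact hcon ⟨rfl, hqodd.2 hp2, by omega⟩
      set v2 := padicValNat 2 n
      have hdvd : 2 ^ (v2 + 1) ∣ Fintype.card F - 1 := by
        refine ((pow_dvd_pow 2 (by omega : v2 + 1 ≤ padicValNat 2 (q + 1))).trans pow_padicValNat_dvd).trans ?_
        rw [hq]
        exact ⟨q - 1, by rw [← Nat.sq_sub_sq q 1, one_pow]⟩
      obtain ⟨w, hw⟩ := IsCyclic.exists_ofOrder_eq_natCard (α := Fˣ)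
      rw [Nat.card_units, Nat.card_eq_fintype_card] at hw
      obtain ⟨s, hs⟩ := hdvd
      set z : Fˣ := w ^ s
      have hz : orderOf z = 2 ^ (v2 + 1) := by
        have hpos : 0 < Fintype.card F - 1 := by have := Fintype.one_lt_card (α := F); omega
        have hs0 : s ≠ 0 := fun h => by rw [h, mul_zero] at hs; omega
        rw [orderOf_pow' _ hs0, hw, hs, Nat.gcd_eq_right (dvd_mul_left s _), Nat.mul_div_cancel _ (Nat.pos_of_ne_zero hs0)]
      have hzq : (z : F) ^ (q + 1) = 1 := by
        rw [← Units.val_pow_eq_pow_val, orderOf_dvd_iff_pow_eq_one.1 (hz ▸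
          (pow_dvd_pow 2 (by omega : v2 + 1 ≤ padicValNat 2 (q + 1))).trans pow_padicValNat_dvd), Units.val_one]
      have hzn : (z : F) ^ n = -1 := by
        have h2n : orderOf z ∣ n * 2 := by
          rw [hz, pow_succ]; exact mul_dvd_mul_right pow_padicValNat_dvd 2
        have h1 : ((z : F) ^ n) ^ 2 = 1 := by
          rw [← pow_mul, ← Units.val_pow_eq_pow_val, orderOf_dvd_iff_pow_eq_one.1 h2n, Units.val_one]
        rcases sq_eq_one_iff.1 h1 with h | h
        · exfalso
          have : orderOf z ∣ n := orderOf_dvd_of_pow_eq_one (Units.ext (by rw [Units.val_pow_eq_pow_val, h, Units.val_one]))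
          rw [hz] at this
          exact pow_succ_padicValNat_not_dvd (by omega) this
        · exact h
      set i₀ : Fin n := ⟨0, by omega⟩
      let d : Fin n → F := fun i => if i = i₀ then (z : F) else -(z : F)
      have hdd : ∀ i, d i * d i = (z : F) ^ 2 := fun i => by by_cases h : i = i₀ <;> simp [d, h, pow_two]
      have hd0 : ∀ i, d i ≠ 0 := fun i => by by_cases h : i = i₀ <;> simp [d, h]
      let x : GL (Fin n) F := Matrix.GeneralLinearGroup.mkOfDetNeZero (Matrix.diagonal d)
        (by rw [Matrix.det_diagonal]; exact Finset.prod_ne_zero_iff.2 fun i _ => hd0 i)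
      have hne : (-(z : F)) ≠ (z : F) := by
        intro h
        have h2 : (2 : F) * (z : F) = 0 := by linear_combination -h
        exact mul_ne_zero (by exact_mod_cast natCast_ne_zero_of_ne (F := F) (r := 2) (p := p) (Ne.symm hp2)) z.ne_zero h2
      have hxS : x ∈ S := by
        refine ⟨fun u w => ?_, ?_⟩
        · change Cfsg.hermForm n F q (Matrix.diagonal d *ᵥ u) (Matrix.diagonal d *ᵥ w) = _
          simp only [Cfsg.hermForm, Matrix.mulVec_diagonal]
          refine Finset.sum_congr rfl fun i _ => ?_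
          have : d i * d i ^ q = 1 := by
            rw [← pow_succ']
            by_cases h : i = i₀ <;> simp [d, h, hzq, neg_pow, ((hqodd.2 hp2).add_one).neg_one_pow]
          linear_combination (u i * w i ^ q) * this
        · refine Units.ext ?_
          change (Matrix.diagonal d).det = 1
          rw [Matrix.det_diagonal, ← Finset.mul_prod_erase _ _ (Finset.mem_univ i₀),
            Finset.prod_congr rfl (g := fun _ => -(z : F)) (fun i hi => if_neg (Finset.ne_of_mem_erase hi)),
            Finset.prod_const, Finset.card_erase_of_mem (Finset.mem_univ _), Finset.card_univ, Fintype.card_fin,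
            show d i₀ = (z : F) from if_pos rfl]
          obtain ⟨k, hk⟩ : Odd (n - 1) := ⟨m - 1, by omega⟩
          rw [neg_pow, (show Odd (n - 1) from ⟨k, hk⟩).neg_one_pow, neg_one_mul, mul_neg, ← pow_succ',
            show n - 1 + 1 = n by omega, hzn, neg_neg]
      obtain ⟨g, hg, hgy⟩ := H x hxS ⟨(z : F) ^ 2, by
        rw [Units.val_pow_eq_pow_val, pow_two]
        change Matrix.diagonal d * Matrix.diagonal d = _
        rw [Matrix.diagonal_mul_diagonal, funext hdd, Matrix.smul_one_eq_diagonal]⟩ (by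
        intro c hc
        change Matrix.diagonal d = _ at hc
        have e0 := congrFun (congrFun hc i₀) i₀
        have e1 := congrFun (congrFun hc ⟨1, by omega⟩) ⟨1, by omega⟩
        simp [d, i₀] at e0 e1
        exact hne (e1.trans e0.symm))
      set y := g⁻¹ * x * g
      have hev : ∀ v, (x : Matrix (Fin n) (Fin n) F) *ᵥ v = (z : F) • v → ∃ c : F, v = c • Pi.single i₀ 1 := by
        intro v hv
        refine ⟨v i₀, funext fun i => ?_⟩
        rcases eq_or_ne i i₀ with rfl | h
        · simp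
        · have := congrFun hv i
          change (Matrix.diagonal d *ᵥ v) i = _ at this
          rw [Matrix.mulVec_diagonal, Pi.smul_apply, smul_eq_mul, show d i = -(z : F) from if_neg h] at this
          simp only [Pi.smul_apply, Pi.single_eq_of_ne h, smul_zero]
          have h2 : (-(z : F) - (z : F)) * v i = 0 := by linear_combination this
          exact (mul_eq_zero.1 h2).resolve_left (sub_ne_zero.2 hne)
      have hev' : ∀ u u', (y : Matrix (Fin n) (Fin n) F) *ᵥ u = (z : F) • u → (y : Matrix (Fin n) (Fin n) F) *ᵥ u' = (z : F) • u' →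
          u ≠ 0 → ∃ c : F, u' = c • u := by
        intro u u' hu hu' hu0
        obtain ⟨c, hc⟩ := hev _ ((hscal x (z : F) u g).2 hu)
        obtain ⟨c', hc'⟩ := hev _ ((hscal x (z : F) u' g).2 hu')
        have hinj := Matrix.mulVec_injective_iff_isUnit.2 g.isUnit
        have hc0 : c ≠ 0 := fun h => hu0 (hinj (by rw [Matrix.mulVec_zero, hc, h, zero_smul]))
        exact ⟨c' * c⁻¹, hinj (by rw [Matrix.mulVec_smul, hc, hc', smul_smul, mul_assoc, inv_mul_cancel₀ hc0, mul_one])⟩
      obtain ⟨σ, hσ, hσv⟩ := split y hgy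
      have hyS : y ∈ S := mul_mem (mul_mem (inv_mem hg) hxS) hg
      by_cases hσ1 : σ = 1
      · have hinv : ∀ i u, u ∈ D i → (y : Matrix (Fin n) (Fin n) F) *ᵥ u ∈ D i := fun i u hu => by
          simpa [hσ1] using hσv i u hu
        set v := ((g⁻¹ : GL (Fin n) F) : Matrix (Fin n) (Fin n) F) *ᵥ Pi.single i₀ 1
        have hgv : (g : Matrix (Fin n) (Fin n) F) *ᵥ v = Pi.single i₀ 1 := by
          rw [Matrix.mulVec_mulVec, Units.mul_inv, Matrix.one_mulVec]
        have hv0 : v ≠ 0 := fun h => by
          rw [h, Matrix.mulVec_zero] at hgv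
          simpa using congrFun hgv i₀
        have hyv : (y : Matrix (Fin n) (Fin n) F) *ᵥ v = (z : F) • v := (hscal x _ v g).1 (by
          rw [hgv]
          funext i
          change (Matrix.diagonal d *ᵥ _) i = _
          rcases eq_or_ne i i₀ with rfl | h <;> simp [Matrix.mulVec_diagonal, d, *])
        obtain ⟨u, hu, w', hw', huw⟩ := Submodule.mem_sup.1 (hC.sup_eq_top ▸ Submodule.mem_top (x := v))
        have hcomp : (y : Matrix (Fin n) (Fin n) F) *ᵥ u = (z : F) • u ∧ (y : Matrix (Fin n) (Fin n) F) *ᵥ w' = (z : F) • w' := by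
          have h : (y : Matrix (Fin n) (Fin n) F) *ᵥ u - (z : F) • u = -((y : Matrix (Fin n) (Fin n) F) *ᵥ w' - (z : F) • w') := by
            rw [← huw, Matrix.mulVec_add, smul_add] at hyv
            rw [eq_neg_iff_add_eq_zero, sub_add_sub_comm, hyv, sub_self]
          have hzero := (Submodule.disjoint_def.1 hC.disjoint) _
            ((D 0).sub_mem (hinv 0 u hu) ((D 0).smul_mem _ hu))
            (h ▸ (D 1).neg_mem ((D 1).sub_mem (hinv 1 w' hw') ((D 1).smul_mem _ hw')))
          exact ⟨sub_eq_zero.1 hzero, sub_eq_zero.1 (neg_eq_zero.1 (h ▸ hzero))⟩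
        have both : ∀ a ∈ D 0, ∀ b ∈ D 1, a ≠ 0 → b ≠ 0 → (y : Matrix (Fin n) (Fin n) F) *ᵥ a = (z : F) • a →
            (y : Matrix (Fin n) (Fin n) F) *ᵥ b = (z : F) • b → False := by
          intro a ha b hb ha0 hb0 hya hyb
          obtain ⟨c, hc⟩ := hev' a b hya hyb ha0
          exact hb0 ((Submodule.disjoint_def.1 hC.disjoint) b (hc ▸ (D 0).smul_mem c ha) hb)
        by_cases hu0 : u = 0
        · have hw0 : w' ≠ 0 := fun h => hv0 (by rw [← huw, hu0, h, add_zero])
          obtain ⟨a, ha, ha0, hya⟩ := exists_eigen hq (sup_comm (D 1) (D 0) ▸ hC.sup_eq_top) (hDs 1) hyS.1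
            (hinv 0) hzq hw' hw0 hcomp.2
          exact both a ha w' hw' ha0 hw0 hya hcomp.2
        · obtain ⟨b, hb, hb0, hyb⟩ := exists_eigen hq hC.sup_eq_top (hDs 0) hyS.1 (hinv 1) hzq hu hu0 hcomp.1
          exact both u hu b hb hu0 hb0 hcomp.1 hyb
      · have hσ0 : σ 0 = 1 := by
          by_contra h
          refine hσ1 (Equiv.ext fun i => ?_)
          have h0 : σ 0 = 0 := by omega
          fin_cases i
          · simpa using h0
          · by_contra h'
            have : σ 1 = 0 := by simp at h'; omega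
            exact absurd (σ.injective (h0.trans this.symm)) (by decide)
        have hy2 : (y : Matrix (Fin n) (Fin n) F) * (y : Matrix (Fin n) (Fin n) F) = ((z : F) ^ 2) • 1 := by
          have : y * y = g⁻¹ * (x * x) * g := by simp only [y]; group
          rw [← Units.val_mul, this, Units.val_mul, Units.val_mul]
          have hx2 : ((x * x : GL (Fin n) F) : Matrix (Fin n) (Fin n) F) = ((z : F) ^ 2) • 1 := by
            change Matrix.diagonal d * Matrix.diagonal d = _
            rw [Matrix.diagonal_mul_diagonal, funext hdd, Matrix.smul_one_eq_diagonal]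
          rw [hx2, Matrix.mul_smul, mul_one, Matrix.smul_mul, Units.inv_mul]
        let L : D 0 →ₗ[F] (Fin n → F) :=
          (D 0).subtype + (z : F)⁻¹ • (Matrix.toLin' (y : Matrix (Fin n) (Fin n) F)).comp (D 0).subtype
        have hLinj : Function.Injective L := by
          rw [← LinearMap.ker_eq_bot, LinearMap.ker_eq_bot']
          intro u hu
          have h1 : (u : Fin n → F) = -((z : F)⁻¹ • ((y : Matrix (Fin n) (Fin n) F) *ᵥ (u : Fin n → F))) :=
            eq_neg_of_add_eq_zero_left (by simpa [L] using hu)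
          refine Subtype.ext ((Submodule.disjoint_def.1 hC.disjoint) _ u.2 ?_)
          rw [h1, ← hσ0]
          exact (D _).neg_mem ((D _).smul_mem _ (hσv 0 _ u.2))
        have hLev : ∀ u, (y : Matrix (Fin n) (Fin n) F) *ᵥ L u = (z : F) • L u := fun u => by
          simp only [L, LinearMap.add_apply, LinearMap.smul_apply, LinearMap.comp_apply, Submodule.coe_subtype,
            Matrix.toLin'_apply, Matrix.mulVec_add, Matrix.mulVec_smul, Matrix.mulVec_mulVec, hy2,
            Matrix.smul_mulVec, Matrix.one_mulVec, smul_add, smul_smul]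
          rw [pow_two, inv_mul_cancel_left₀ z.ne_zero, mul_inv_cancel₀ z.ne_zero, one_smul, add_comm]
        have h1 := LinearMap.finrank_range_of_inj hLinj
        rw [hD.finrank_eq] at h1
        haveI : Nontrivial (D 0) := Module.nontrivial_of_finrank_pos (R := F) (by rw [hD.finrank_eq]; omega)
        obtain ⟨u, hu⟩ := exists_ne (0 : D 0)
        have h2 : LinearMap.range L ≤ Submodule.span F {L u} := by
          rintro _ ⟨u', rfl⟩
          obtain ⟨c, hc⟩ := hev' (L u) (L u') (hLev u) (hLev u') (fun h => hu (hLinj (h.trans (map_zero L).symm)))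
          exact Submodule.mem_span_singleton.2 ⟨c, hc.symm⟩
        have h3 := (Submodule.finrank_mono h2).trans ((finrank_span_le_card ({L u} : Set (Fin n → F))).trans (le_of_eq (Set.toFinset_card _)))
        simp at h3
        omega
    -- odd primes other than the characteristic
    obtain ⟨k, hk, hrk⟩ := CfsgLib.UnitaryPair.dvd_of_dvd_index p hq (m := m) (by omega) hnm hD hDs hr hrp hΩ
    have hrF : (r : F) ≠ 0 := natCast_ne_zero_of_ne (p := p) hrp
    have hi0 : 0 < orderOf (Fintype.card F : ZMod r) := orderOf_pos_of_ne (F := F) (p := p) hrp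
    set e := orderOf (Fintype.card F : ZMod r) with hedef
    have hu : ((q : ZMod r)) ^ (2 * k + 1) = -1 := by
      rw [eq_neg_iff_add_eq_zero]
      exact_mod_cast (CharP.cast_eq_zero_iff (ZMod r) r _).2 hrk
    have hcast : (Fintype.card F : ZMod r) = (q : ZMod r) ^ 2 := by rw [hq]; push_cast; rfl
    have hedvd : e ∣ 2 * k + 1 := by
      rw [hedef, hcast]
      refine orderOf_dvd_of_pow_eq_one ?_
      rw [← pow_mul, mul_comm, pow_mul, hu, neg_one_sq]
    have heodd : Odd e := by
      obtain ⟨j, hj⟩ := hedvd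
      exact (Nat.odd_mul.1 (hj ▸ odd_two_mul_add_one k : Odd (e * j))).1
    have hen : e ≤ n := (Nat.le_of_dvd (by omega) hedvd).trans (by omega)
    have hre : r ∣ q ^ e + 1 := by
      rw [← CharP.cast_eq_zero_iff (ZMod r) r]
      push_cast
      rw [← eq_neg_iff_add_eq_zero]
      have h1 : ((q : ZMod r) ^ e) ^ 2 = 1 := by
        rw [← pow_mul, mul_comm, pow_mul, ← hcast, hedef, pow_orderOf_eq_one]
      rcases sq_eq_one_iff.1 h1 with h | h
      · exfalso
        obtain ⟨j, hj⟩ := hedvd
        rw [hj, pow_mul, h, one_pow] at hu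
        have h2' : ((2 : ℕ) : ZMod r) = 0 := by push_cast; linear_combination hu
        exact hr2 ((Nat.prime_dvd_prime_iff_eq hr Nat.prime_two).1 ((CharP.cast_eq_zero_iff (ZMod r) r _).1 h2'))
      · exact h
    have hnotscalar : ∀ (x : GL (Fin n) F), x ∈ S → (x : Matrix (Fin n) (Fin n) F) ^ r = 1 →
        ∀ w : F, (∀ u, (x : Matrix (Fin n) (Fin n) F) *ᵥ u = w • u) →
          ∀ c : F, (x : Matrix (Fin n) (Fin n) F) = c • 1 → c = w := by
      intro x _ _ w hw c hc
      have := congrFun (hw (Pi.single ⟨0, by omega⟩ 1)) ⟨0, by omega⟩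
      rw [hc] at this
      simpa [Matrix.smul_mulVec] using this
    rcases eq_or_ne e 1 with he1 | he1
    · -- two reciprocal eigenvalues
      have hrq : r ∣ q + 1 := by simpa [he1] using hre
      haveI := Fact.mk hr
      obtain ⟨ζ, hζ⟩ := exists_prime_orderOf_dvd_card' (G := Fˣ) r (by
        rw [Nat.card_units, Nat.card_eq_fintype_card, hq]
        refine hrq.trans ⟨q - 1, ?_⟩
        rw [← Nat.sq_sub_sq q 1, one_pow])
      have hζq : (ζ : F) ^ (q + 1) = 1 := by
        rw [← Units.val_pow_eq_pow_val, orderOf_dvd_iff_pow_eq_one.1 (hζ ▸ hrq), Units.val_one]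
      have hζr : (ζ : F) ^ r = 1 := by rw [← Units.val_pow_eq_pow_val, ← hζ, pow_orderOf_eq_one, Units.val_one]
      have hζ1 : (ζ : F) ≠ 1 := fun h => by
        rw [Units.val_eq_one] at h
        rw [h, orderOf_one] at hζ
        exact hr.ne_one hζ.symm
      have hζ2 : (ζ : F)⁻¹ ≠ (ζ : F) := fun h => by
        have h2' : ζ ^ 2 = 1 := Units.ext (by
          rw [Units.val_pow_eq_pow_val, pow_two, Units.val_one]
          nth_rewrite 1 [← h]
          exact inv_mul_cancel₀ ζ.ne_zero)
        exact hr2 ((Nat.prime_dvd_prime_iff_eq hr Nat.prime_two).1 (hζ ▸ orderOf_dvd_of_pow_eq_one h2'))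
      set i₀ : Fin n := ⟨0, by omega⟩
      set i₁ : Fin n := ⟨1, by omega⟩
      let d : Fin n → F := fun i => if i = i₀ then (ζ : F) else if i = i₁ then (ζ : F)⁻¹ else 1
      have hdr : ∀ i, d i ^ r = 1 := fun i => by
        by_cases h : i = i₀ <;> by_cases h' : i = i₁ <;> simp [d, h, h', hζr, inv_pow]
      let x : GL (Fin n) F := Units.ofPowEqOne (Matrix.diagonal d) r (by
        rw [Matrix.diagonal_pow, ← Matrix.diagonal_one]; exact congrArg _ (funext hdr)) hr.ne_zero
      have hi01 : i₁ ≠ i₀ := by simp [i₀, i₁, Fin.ext_iff]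
      have hxS : x ∈ S := by
        refine ⟨fun u w => ?_, ?_⟩
        · change Cfsg.hermForm n F q (Matrix.diagonal d *ᵥ u) (Matrix.diagonal d *ᵥ w) = _
          simp only [Cfsg.hermForm, Matrix.mulVec_diagonal]
          refine Finset.sum_congr rfl fun i _ => ?_
          have : d i * d i ^ q = 1 := by
            rw [← pow_succ']
            by_cases h : i = i₀ <;> by_cases h' : i = i₁ <;> simp [d, h, h', hζq, inv_pow]
          linear_combination (u i * w i ^ q) * this
        · refine Units.ext ?_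
          change (Matrix.diagonal d).det = 1
          rw [Matrix.det_diagonal, Fintype.prod_eq_mul i₀ i₁ hi01.symm
            (fun i hi => by simp [d, hi.1, hi.2])]
          simp [d, hi01]
      obtain ⟨g, hg, hgy⟩ := H x hxS ⟨1, by
        rw [Units.val_pow_eq_pow_val, one_smul]
        change Matrix.diagonal d ^ r = 1
        rw [Matrix.diagonal_pow, ← Matrix.diagonal_one]; exact congrArg _ (funext hdr)⟩ (by
        intro c hc
        change Matrix.diagonal d = _ at hc
        have e0 := congrFun (congrFun hc i₀) i₀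
        have e1 := congrFun (congrFun hc i₁) i₁
        simp [d, hi01] at e0 e1
        exact hζ2 (e1.trans e0.symm))
      set y := g⁻¹ * x * g
      have hyS : y ∈ S := mul_mem (mul_mem (inv_mem hg) hxS) hg
      have hxr : x ^ r = 1 := Units.ext (by
        rw [Units.val_pow_eq_pow_val, Units.val_one]
        change Matrix.diagonal d ^ r = 1
        rw [Matrix.diagonal_pow, ← Matrix.diagonal_one]; exact congrArg _ (funext hdr))
      have hyr : (y : Matrix (Fin n) (Fin n) F) ^ r = 1 := by
        rw [← Units.val_pow_eq_pow_val, show y ^ r = 1 by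
          have : y = g⁻¹ * x * (g⁻¹)⁻¹ := by rw [inv_inv]
          rw [this, conj_pow, hxr]; group, Units.val_one]
      have hinv := fixes hr2 y hgy hyr
      have hev : ∀ v, (x : Matrix (Fin n) (Fin n) F) *ᵥ v = (ζ : F) • v → ∀ i, i ≠ i₀ → v i = 0 := by
        intro v hv i h
        have := congrFun hv i
        change (Matrix.diagonal d *ᵥ v) i = _ at this
        rw [Matrix.mulVec_diagonal, Pi.smul_apply, smul_eq_mul] at this
        have hne : d i ≠ (ζ : F) := by
          by_cases h' : i = i₁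
          · subst h'; simpa [d, hi01] using hζ2
          · simpa [d, h, h'] using Ne.symm hζ1
        exact (mul_eq_zero.1 (show (d i - (ζ : F)) * v i = 0 by linear_combination this)).resolve_left (sub_ne_zero.2 hne)
      set v := ((g⁻¹ : GL (Fin n) F) : Matrix (Fin n) (Fin n) F) *ᵥ Pi.single i₀ 1
      have hgv : (g : Matrix (Fin n) (Fin n) F) *ᵥ v = Pi.single i₀ 1 := by
        rw [Matrix.mulVec_mulVec, Units.mul_inv, Matrix.one_mulVec]
      have hv0 : v ≠ 0 := fun h => by
        rw [h, Matrix.mulVec_zero] at hgv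
        simpa using congrFun hgv i₀
      have hyv : (y : Matrix (Fin n) (Fin n) F) *ᵥ v = (ζ : F) • v := (hscal x _ v g).1 (by
        rw [hgv]
        funext i
        change (Matrix.diagonal d *ᵥ _) i = _
        rcases eq_or_ne i i₀ with rfl | h <;> simp [Matrix.mulVec_diagonal, d, *])
      obtain ⟨u, hu', w', hw', huw⟩ := Submodule.mem_sup.1 (hC.sup_eq_top ▸ Submodule.mem_top (x := v))
      have hcomp : (y : Matrix (Fin n) (Fin n) F) *ᵥ u = (ζ : F) • u ∧ (y : Matrix (Fin n) (Fin n) F) *ᵥ w' = (ζ : F) • w' := by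
        have h : (y : Matrix (Fin n) (Fin n) F) *ᵥ u - (ζ : F) • u = -((y : Matrix (Fin n) (Fin n) F) *ᵥ w' - (ζ : F) • w') := by
          rw [← huw, Matrix.mulVec_add, smul_add] at hyv
          rw [eq_neg_iff_add_eq_zero, sub_add_sub_comm, hyv, sub_self]
        have hzero := (Submodule.disjoint_def.1 hC.disjoint) _
          ((D 0).sub_mem (hinv 0 u hu') ((D 0).smul_mem _ hu'))
          (h ▸ (D 1).neg_mem ((D 1).sub_mem (hinv 1 w' hw') ((D 1).smul_mem _ hw')))
        exact ⟨sub_eq_zero.1 hzero, sub_eq_zero.1 (neg_eq_zero.1 (h ▸ hzero))⟩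
      have both : ∀ a ∈ D 0, ∀ b ∈ D 1, a ≠ 0 → b ≠ 0 → (y : Matrix (Fin n) (Fin n) F) *ᵥ a = (ζ : F) • a →
          (y : Matrix (Fin n) (Fin n) F) *ᵥ b = (ζ : F) • b → False := by
        intro a ha b hb ha0 hb0 hya hyb
        have h1 := hev _ ((hscal x _ a g).2 hya)
        have h2' := hev _ ((hscal x _ b g).2 hyb)
        have hinjg := Matrix.mulVec_injective_iff_isUnit.2 g.isUnit
        set ga := (g : Matrix (Fin n) (Fin n) F) *ᵥ a
        set gb := (g : Matrix (Fin n) (Fin n) F) *ᵥ b
        have hga : ga i₀ ≠ 0 := fun h => ha0 (hinjg (by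
          rw [Matrix.mulVec_zero]
          funext i
          rcases eq_or_ne i i₀ with rfl | hi
          · exact h
          · exact h1 i hi))
        have hb' : b = (gb i₀ * (ga i₀)⁻¹) • a := hinjg (by
          rw [Matrix.mulVec_smul]
          funext i
          rcases eq_or_ne i i₀ with rfl | hi
          · change gb i₀ = _ * ga i₀; field_simp
          · change gb i = _ * ga i; rw [h2' i hi, h1 i hi, mul_zero])
        exact hb0 ((Submodule.disjoint_def.1 hC.disjoint) b (hb' ▸ (D 0).smul_mem _ ha) hb)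
      by_cases hu0 : u = 0
      · have hw0 : w' ≠ 0 := fun h => hv0 (by rw [← huw, hu0, h, add_zero])
        obtain ⟨a, ha, ha0, hya⟩ := exists_eigen hq (sup_comm (D 1) (D 0) ▸ hC.sup_eq_top) (hDs 1) hyS.1
          (hinv 0) hζq hw' hw0 hcomp.2
        exact both a ha w' hw' ha0 hw0 hya hcomp.2
      · obtain ⟨b, hb, hb0, hyb⟩ := exists_eigen hq hC.sup_eq_top (hDs 0) hyS.1 (hinv 1) hζq hu' hu0 hcomp.1
        exact both u hu' b hb hu0 hb0 hcomp.1 hyb
    · obtain ⟨x, hxS, hxr, hxe⟩ := CfsgLib.UnitaryPair.exists_moving (p := p) hq hrp hedef.symm heodd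
        (by omega) hre hen
      obtain ⟨g, hg, hgy⟩ := H x hxS ⟨1, by rw [Units.val_pow_eq_pow_val, hxr, one_smul]⟩ (by
        intro c hc
        rcases eq_or_ne c 1 with rfl | hc1
        · rw [hc, one_smul, sub_self, Matrix.rank_zero] at hxe; omega
        · have hcr : c ^ r = 1 := by
            have h := hxr
            rw [hc, _root_.smul_pow, one_pow] at h
            simpa using congrFun (congrFun h ⟨0, by omega⟩) ⟨0, by omega⟩
          have hc0 : c ≠ 0 := fun h => by rw [h, zero_pow hr.ne_zero] at hcr; exact zero_ne_one hcr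
          have ho : orderOf c = r := orderOf_eq_prime hcr hc1
          have h1 : r ∣ Fintype.card F ^ 1 - 1 := by
            rw [pow_one, ← ho]
            exact orderOf_dvd_of_pow_eq_one (FiniteField.pow_card_sub_one_eq_one c hc0)
          rw [dvd_pow_sub_one_iff Fintype.card_pos, ← hedef, Nat.dvd_one] at h1
          exact he1 h1)
      set y := g⁻¹ * x * g
      have hyS : y ∈ S := mul_mem (mul_mem (inv_mem hg) hxS) hg
      have hxr' : x ^ r = 1 := Units.ext (by rw [Units.val_pow_eq_pow_val, hxr, Units.val_one])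
      have hyr : (y : Matrix (Fin n) (Fin n) F) ^ r = 1 := by
        rw [← Units.val_pow_eq_pow_val, show y ^ r = 1 by
          have : y = g⁻¹ * x * (g⁻¹)⁻¹ := by rw [inv_inv]
          rw [this, conj_pow, hxr']; group, Units.val_one]
      have hinv := fixes hr2 y hgy hyr
      have hrk' : ((y : Matrix (Fin n) (Fin n) F) - 1).rank = e := by
        have hy1' : (y : Matrix (Fin n) (Fin n) F) - 1 = ((g⁻¹ : GL (Fin n) F) : Matrix (Fin n) (Fin n) F) *
            ((x : Matrix (Fin n) (Fin n) F) - 1) * (g : Matrix (Fin n) (Fin n) F) := by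
          rw [Matrix.mul_sub, Matrix.sub_mul, mul_one, Units.inv_mul]
          rfl
        rw [hy1', Matrix.rank_mul_eq_left_of_isUnit_det _ _ ((Matrix.isUnit_iff_isUnit_det _).1 g.isUnit),
          Matrix.rank_mul_eq_right_of_isUnit_det _ _ ((Matrix.isUnit_iff_isUnit_det _).1 (g⁻¹).isUnit), hxe]
      let T : Module.End F (Fin n → F) := Matrix.toLinAlgEquiv' (y : Matrix (Fin n) (Fin n) F)
      have hTr : T ^ r = 1 := by rw [← map_pow, hyr, map_one]
      have hT : ∀ u, T u = (y : Matrix (Fin n) (Fin n) F) *ᵥ u := fun u => rfl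
      have hh := homog_order hi0 hrF hTr
      let R : Fin 2 → Submodule F (Fin n → F) := fun i => (D i).map (T - 1)
      have hRD : ∀ i, R i ≤ D i := by
        rintro i _ ⟨u, hu', rfl⟩
        exact (D i).sub_mem (by rw [hT]; exact hinv i u hu') hu'
      have hR : ∀ i, R i = ⊥ ∨ e ≤ finrank F (R i) := by
        intro i
        rcases eq_or_ne (R i) ⊥ with h | h
        · exact Or.inl h
        · refine Or.inr (Nat.le_of_dvd (Submodule.one_le_finrank_iff.2 h) (hh.disjoint_dims _ (R i) rfl ?_ ?_).1)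
          · rintro _ ⟨u, hu', rfl⟩
            exact ⟨T u, by rw [hT]; exact hinv i u hu', by simp [LinearMap.sub_apply]⟩
          · rw [Submodule.disjoint_def]
            rintro _ ⟨u, -, rfl⟩ hv
            have h1 : (y : Matrix (Fin n) (Fin n) F) *ᵥ ((y : Matrix (Fin n) (Fin n) F) *ᵥ u - u) =
                (y : Matrix (Fin n) (Fin n) F) *ᵥ u - u := by
              simpa [hT, LinearMap.sub_apply, sub_eq_zero, Matrix.mulVec_sub] using LinearMap.mem_ker.1 hv
            simp [hT, LinearMap.sub_apply, CfsgLib.LinFix.KronForm.fix_of_sub_fix hrF hyr h1]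
      have hsum : finrank F (R 0) + finrank F (R 1) ≤ e := by
        have hdis : Disjoint (R 0) (R 1) := hC.disjoint.mono (hRD 0) (hRD 1)
        have h1 := Submodule.finrank_sup_add_finrank_inf_eq (R 0) (R 1)
        rw [hdis.eq_bot, finrank_bot, add_zero] at h1
        rw [← h1, ← hrk', Matrix.rank]
        refine Submodule.finrank_mono (sup_le ?_ ?_) <;>
        · rintro _ ⟨u, -, rfl⟩
          exact ⟨u, by simp [hT, Matrix.sub_mulVec, LinearMap.sub_apply]⟩
      have hzero : R 0 = ⊥ ∨ R 1 = ⊥ := by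
        rcases hR 0 with h | h
        · exact Or.inl h
        · rcases hR 1 with h' | h'
          · exact Or.inr h'
          · omega
      have hkill : ∀ i, R i = ⊥ → ∀ u ∈ D i, (y : Matrix (Fin n) (Fin n) F) *ᵥ u = u := fun i hi u hu' =>
        sub_eq_zero.1 ((Submodule.mem_bot F).1 (hi ▸ ⟨u, hu', rfl⟩))
      have hy1 : (y : Matrix (Fin n) (Fin n) F) = 1 := by
        rcases hzero with h | h
        · exact eq_one_of_fix hq (sup_comm (D 1) (D 0) ▸ hC.sup_eq_top) (hDs 1) hyS.1 (hinv 1) (hkill 0 h)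
        · exact eq_one_of_fix hq hC.sup_eq_top (hDs 0) hyS.1 (hinv 0) (hkill 1 h)
      rw [hy1, sub_self, Matrix.rank_zero] at hrk'
      omega
  · rintro ⟨rfl, hqo, hpadic⟩ x hx ⟨z, hz⟩ -
    rw [Units.val_pow_eq_pow_val] at hz
    have hp2 := hqodd.1 hqo
    have h20 : (2 : F) ≠ 0 := by exact_mod_cast natCast_ne_zero_of_ne (F := F) (r := 2) (p := p) (Ne.symm hp2)
    have hxdet : (x : Matrix (Fin n) (Fin n) F).det = 1 := congrArg Units.val hx.2
    have hzq : z ^ (q + 1) = 1 := by
      have h := (pow_mem hx.1 2) (Pi.single ⟨0, by omega⟩ 1) (Pi.single ⟨0, by omega⟩ 1)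
      rw [Units.coeHom_apply, Units.val_pow_eq_pow_val, hz] at h
      simp only [Matrix.smul_mulVec, Matrix.one_mulVec] at h
      change (stdHerm hq n).h _ _ = (stdHerm hq n).h _ _ at h
      rw [(stdHerm hq n).smul_left, smul_right, stdHerm_h, stdHerm_conj, ← mul_assoc, ← pow_succ'] at h
      have h1 : Cfsg.hermForm n F q (Pi.single (⟨0, by omega⟩ : Fin n) 1) (Pi.single (⟨0, by omega⟩ : Fin n) 1) = 1 := by
        rw [Cfsg.hermForm, Finset.sum_eq_single (⟨0, by omega⟩ : Fin n) (fun j _ hj => by rw [Pi.single_eq_of_ne hj, zero_mul]) (by simp)]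
        simp
      rwa [h1, mul_one] at h
    have hz0 : z ≠ 0 := fun h => by rw [h, zero_pow (by omega)] at hzq; exact zero_ne_one hzq
    obtain ⟨w, hw⟩ : IsSquare z := by
      rw [FiniteField.isSquare_iff (by rw [ringChar.eq F p]; exact hp2) hz0]
      obtain ⟨j, hj⟩ := hqo
      rw [show Fintype.card F / 2 = (q + 1) * j by
        rw [hq, hj, show (2 * j + 1) ^ 2 = 1 + 2 * ((2 * j + 1 + 1) * j) by ring]; omega, pow_mul, hzq, one_pow]
    rw [← pow_two] at hw
    have hw0 : w ≠ 0 := fun h => hz0 (by rw [hw, h]; ring)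
    obtain ⟨Φ, -, hΦs, hΦ⟩ := CfsgLib.UnitaryPair.exists_embed hq (hDs 0) (hDs 1) hC (hD.finrank_eq 0)
    obtain ⟨a, b, hab, hcp⟩ := S5979.charpoly_of_sq_eq_sq (w := w) (by rw [hz, hw] : (x : Matrix (Fin n) (Fin n) F) ^ 2 = (w ^ 2) • 1)
    have fin : ∀ (α : Fin m → F), (∀ i, α i ^ 2 = z) →
        (x : Matrix (Fin n) (Fin n) F).charpoly = (∏ i, (X - C (α i))) * ∏ i, (X - C ((α i ^ q)⁻¹)) →
        ∃ g ∈ S, g⁻¹ * x * g ∈ Cfsg.Geo.decompositionStabilizer D := by
      intro α hα hcp'
      have hα0 : ∀ i, α i ≠ 0 := fun i h => hz0 (by rw [← hα i, h]; ring)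
      let A : GL (Fin m) F := ⟨Matrix.diagonal α, Matrix.diagonal fun i => (α i)⁻¹,
        by rw [Matrix.diagonal_mul_diagonal, ← Matrix.diagonal_one]; exact congrArg _ (funext fun i => mul_inv_cancel₀ (hα0 i)),
        by rw [Matrix.diagonal_mul_diagonal, ← Matrix.diagonal_one]; exact congrArg _ (funext fun i => inv_mul_cancel₀ (hα0 i))⟩
      obtain ⟨hU, hD0, hD1, hch, -⟩ := hΦ A
      have hA' : (CfsgLib.UnitaryPair.ctInv (qPow hq) m A : Matrix (Fin m) (Fin m) F) = Matrix.diagonal fun i => (α i ^ q)⁻¹ := by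
        change ((Matrix.diagonal fun i => (α i)⁻¹).map (qPow hq))ᵀ = _
        rw [Matrix.diagonal_map (map_zero _), Matrix.diagonal_transpose]
        simp [CfsgLib.UnitaryPair.qPow_val, inv_pow]
      rw [hA', show (A : Matrix (Fin m) (Fin m) F) = Matrix.diagonal α from rfl, Matrix.charpoly_diagonal,
        Matrix.charpoly_diagonal, ← hcp'] at hch
      have hy2 : (Φ A : Matrix (Fin n) (Fin n) F) ^ 2 = z • 1 := by
        rw [← Units.val_pow_eq_pow_val, ← map_pow]
        refine hΦs _ z ?_ hzq
        rw [Units.val_pow_eq_pow_val]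
        change Matrix.diagonal α ^ 2 = _
        rw [Matrix.diagonal_pow, Matrix.smul_one_eq_diagonal]
        exact congrArg _ (funext hα)
      have hxU : x ∈ Cfsg.GU n F q := hx.1
      obtain ⟨g, hgU, hgd, hgy⟩ := CfsgLib.UnitaryPair.exists_su_conj p hq (k := 2) (by exact_mod_cast h20) hz0 hxU hU hz hy2 hch
      refine ⟨g, ⟨hgU, Units.ext hgd⟩, hgy ▸ ⟨1, fun i => ?_⟩⟩
      fin_cases i
      · exact hD0
      · exact hD1
    rcases (sq_eq_one_iff.1 (show (w ^ (q + 1)) ^ 2 = 1 by rw [← pow_mul, mul_comm, pow_mul, ← hw, hzq])) with hn1 | hn1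
    · have hdet : w ^ n * (-1) ^ b = 1 := by
        have h := Matrix.det_eq_sign_charpoly_coeff (x : Matrix (Fin n) (Fin n) F)
        rw [hxdet, hcp, coeff_zero_eq_eval_zero, Fintype.card_fin] at h
        simp only [eval_mul, eval_pow, eval_sub, eval_X, eval_C, zero_sub, neg_neg] at h
        rw [← hab] at h ⊢
        rw [pow_add, neg_pow w a] at h
        rw [pow_add]
        have : ((-1 : F) ^ a) * (-1) ^ a = 1 := by rw [← mul_pow]; simp
        linear_combination (-(1 : F)) * h - (w ^ a * w ^ b * (-1) ^ b) * this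
      obtain ⟨b', rfl⟩ : Even b := by
        by_contra hb
        rw [(Nat.not_even_iff_odd.1 hb).neg_one_pow, mul_neg, mul_one, neg_eq_iff_eq_neg] at hdet
        set v2 := padicValNat 2 (q + 1)
        obtain ⟨uo, huo⟩ : 2 ^ v2 ∣ q + 1 := pow_padicValNat_dvd
        obtain ⟨un, hun⟩ : 2 ^ v2 ∣ n := (pow_dvd_pow 2 hpadic).trans pow_padicValNat_dvd
        have huo' : Odd uo := by
          by_contra h
          obtain ⟨j, hj⟩ := Nat.not_odd_iff_even.1 h
          exact pow_succ_padicValNat_not_dvd (p := 2) (by omega : q + 1 ≠ 0) ⟨j, by rw [pow_succ]; calc q + 1 = 2 ^ v2 * uo := huo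
            _ = 2 ^ v2 * 2 * j := by rw [hj]; ring⟩
        have h1 : (w ^ n) ^ uo = (w ^ (q + 1)) ^ un := by
          rw [← pow_mul, ← pow_mul, hun, huo]; ring_nf
        rw [hdet, hn1, one_pow, huo'.neg_one_pow] at h1
        exact h20 (by linear_combination -h1)
      obtain ⟨a', rfl⟩ : Even a := by
        have : Even (a + (b' + b')) := ⟨m, by omega⟩
        exact (Nat.even_add.1 this).2 ⟨b', rfl⟩
      refine fin (fun i => if (i : ℕ) < a' then w else -w) (fun i => by split_ifs <;> simp [hw]) ?_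
      have hinv : ∀ i : Fin m, ((if (i : ℕ) < a' then w else -w) ^ q)⁻¹ = if (i : ℕ) < a' then w else -w := by
        intro i
        refine inv_eq_of_mul_eq_one_right ?_
        rw [← pow_succ]
        split_ifs
        · exact hn1
        · rw [neg_pow, hqo.add_one.neg_one_pow, one_mul, hn1]
      simp only [hinv]
      rw [hcp, charpoly_diagonal_pair (a := a') (b := b') w (-w) m (by omega)]
      ring
    · refine fin (fun _ => w) (fun _ => hw.symm) ?_
      have hinv : (w ^ q)⁻¹ = -w := by
        refine inv_eq_of_mul_eq_one_right ?_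
        rw [mul_neg, ← pow_succ, hn1, neg_neg]
      rw [hinv, Finset.prod_const, Finset.prod_const, Finset.card_univ, Fintype.card_fin]
      set HS := stdHerm hq n with hHS
      let L : Module.End F (Fin n → F) := Matrix.toLinAlgEquiv' (x : Matrix (Fin n) (Fin n) F)
      have hL : ∀ v, L (L v) = z • v := fun v => by
        change (x : Matrix (Fin n) (Fin n) F) *ᵥ ((x : Matrix (Fin n) (Fin n) F) *ᵥ v) = _
        rw [Matrix.mulVec_mulVec, ← pow_two, hz, Matrix.smul_mulVec, Matrix.one_mulVec]
      let K : F → Submodule F (Fin n → F) := fun s => LinearMap.ker (L - s • 1)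
      have hK : ∀ s v, v ∈ K s ↔ L v = s • v := fun s v => by simp [K, sub_eq_zero]
      have hKs : ∀ s, s ^ (q + 1) = -1 → Cfsg.Geo.IsTotallySingularFor (Cfsg.hermForm n F q) (K s) := by
        intro s hs u hu v hv
        have h1 : HS.h (L u) (L v) = HS.h u v := hx.1 u v
        rw [(hK s u).1 hu, (hK s v).1 hv, HS.smul_left, smul_right, stdHerm_conj, ← mul_assoc, ← pow_succ', hs] at h1
        have h2 : (2 : F) * HS.h u v = 0 := by linear_combination -h1
        exact (mul_eq_zero.1 h2).resolve_left h20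
      have hc : IsCompl (K w) (K (-w)) := by
        refine ⟨Submodule.disjoint_def.2 fun v h1 h2 => ?_, codisjoint_iff.2 (Submodule.eq_top_iff'.2 fun v => ?_)⟩
        · rw [hK] at h1 h2
          rw [h1, neg_smul, eq_neg_iff_add_eq_zero, ← two_smul F, smul_smul, smul_eq_zero] at h2
          exact h2.resolve_left (mul_ne_zero h20 hw0)
        · refine Submodule.mem_sup.2 ⟨(2 * w)⁻¹ • (L v + w • v), ?_, (2 * w)⁻¹ • (w • v - L v), ?_, ?_⟩
          · rw [hK, map_smul, map_add, map_smul, hL, hw, pow_two, smul_comm w (2 * w)⁻¹, smul_add w, smul_smul w w,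
              add_comm (w • L v)]
          · rw [hK, map_smul, map_sub, map_smul, hL, hw, pow_two, smul_comm (-w) (2 * w)⁻¹, smul_sub (-w), neg_smul,
              neg_smul, smul_smul w w, sub_neg_eq_add, neg_add_eq_sub]
          · rw [← smul_add, show L v + w • v + (w • v - L v) = w • v + w • v by abel, ← two_smul F, smul_smul 2 w, smul_smul,
              inv_mul_cancel₀ (mul_ne_zero h20 hw0), one_smul]
      obtain ⟨heq, hbas⟩ := CfsgLib.UnitaryPair.exists_dual_basis hq (hKs w hn1)
        (hKs (-w) (by rw [neg_pow, hqo.add_one.neg_one_pow, one_mul, hn1])) hc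
      have hsum := Submodule.finrank_add_eq_of_isCompl hc
      rw [Module.finrank_fintype_fun_eq_card, Fintype.card_fin] at hsum
      obtain ⟨bs, hb1, hb2, -, -⟩ := hbas (a := m) (by omega)
      have hmat : LinearMap.toMatrix bs bs L =
          Matrix.diagonal (Sum.elim (fun _ : Fin m => w) (fun _ : Fin m => -w)) := by
        ext i j
        have hj : L (bs j) = Sum.elim (fun _ : Fin m => w) (fun _ : Fin m => -w) j • bs j := by
          rcases j with j | j
          · exact (hK _ _).1 (hb1 j)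
          · exact (hK _ _).1 (hb2 j)
        rw [LinearMap.toMatrix_apply, hj, map_smul, Basis.repr_self, Finsupp.smul_apply, Finsupp.single_apply,
          Matrix.diagonal_apply]
        rcases eq_or_ne i j with rfl | h
        · simp
        · simp [h, Ne.symm h]
      rw [← Matrix.charpoly_toLin', show Matrix.toLin' (x : Matrix (Fin n) (Fin n) F) = L from rfl,
        ← LinearMap.charpoly_toMatrix L bs, hmat, Matrix.charpoly_diagonal, Fintype.prod_sum_type]
      simp

end Cfsg.Agent.S5984
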