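import Cfsg.Statements.S5985
import Cfsg.Agent.Lib.OrthPoints.Basic
-- import your own Cfsg.Agent.* helpers here

set_option autoImplicit false
open scoped MatrixGroups
open Cfsg

namespace Cfsg.Agent.S5985

open CfsgLib.OrthPoints CfsgLib.Classical.Quad Cfsg.Geo Matrix

theorem prime_two_pow {F : Type*} [Field F] [Fintype F] [CharP F 2] :
    ∃ f : ℕ, 0 < f ∧ Fintype.card F = 2 ^ f := by
  obtain ⟨f, -, hf⟩ := FiniteField.card F 2
  exact ⟨f, f.pos, hf⟩

theorem card_zeros_plus {F : Type*} [Field F] [Fintype F] (d : ℕ) :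
    Nat.card {v : Fin d ⊕ Fin d → F // Cfsg.quadFormPlus d F v = 0} =
      (Fintype.card F ^ d - 1) * Fintype.card F ^ (d - 1) + Fintype.card F ^ d := by
  rw [Nat.card_congr ((plusEquiv d F).toEquiv.subtypeEquiv
    (q := fun w => hypForm d (zeroKernel F) w = 0) fun v => by
      show _ ↔ hypForm d (zeroKernel F) (plusEquiv d F v) = 0
      rw [plusEquiv_spec]), card_level_hypForm, card_zeros_zeroKernel]
  simp [Nat.card_eq_fintype_card]

/-- Elements of prime order of Ω⁺_n(q), q even, with no fixed nonsingular 1-space. Here `T = PΩ⁺_n(F)`, `n = 2d ≥ 8`, realised through `Ω⁺_n(q)`, the commutator subgroup of the isometry group of `Q = Σ xᵢyᵢ` over the field `F` with `q` elements; an element of `T` of prime order `r` is an element `x` of `Ω⁺_n(q)` with `x^r` scalar and `x` not scalar; `q` is even (so the centre is trivial). Let Ω be the set of 1-dimensional subspaces spanned by a vector `v` with `Q(v) ≠ 0`, and let `r` be a prime dividing their number. Then every element of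 `T` of order `r` fixes some nonsingular 1-space if and only if `r = 2` and `n ≡ 2 (mod 4)` (that is, `d` is odd). -/
theorem result {F : Type*} [Field F] [Fintype F] {p : ℕ} [Fact p.Prime] [CharP F p] {q : ℕ} (hq : Fintype.card F = q)
    (hp : p = 2) (d : ℕ) (hd : 4 ≤ d) (r : ℕ) [Fact r.Prime]
    (hrΩ : r ∣ Nat.card {W : Submodule F (Fin d ⊕ Fin d → F) // Module.finrank F ↥W = 1 ∧ ∃ v ∈ W, Cfsg.quadFormPlus d F v ≠ 0}) :
    (∀ x : GL (Fin d ⊕ Fin d) F, x ∈ Cfsg.Geo.omegaGL (Cfsg.quadFormPlus d F) →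
      (∃ z : F, ((x ^ r : GL (Fin d ⊕ Fin d) F) : Matrix (Fin d ⊕ Fin d) (Fin d ⊕ Fin d) F) = z • (1 : Matrix (Fin d ⊕ Fin d) (Fin d ⊕ Fin d) F)) →
      (∀ z : F, (x : Matrix (Fin d ⊕ Fin d) (Fin d ⊕ Fin d) F) ≠ z • (1 : Matrix (Fin d ⊕ Fin d) (Fin d ⊕ Fin d) F)) →
      ∃ W : Submodule F (Fin d ⊕ Fin d → F), (Module.finrank F ↥W = 1 ∧ ∃ v ∈ W, Cfsg.quadFormPlus d F v ≠ 0) ∧ W.map (Matrix.toLin' (x : Matrix (Fin d ⊕ Fin d) (Fin d ⊕ Fin d) F)) ≤ W) ↔ (r = 2 ∧ Odd d) := by
  subst hp
  classical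
  have hne : ∃ v, Cfsg.quadFormPlus d F v ≠ 0 := by
    refine ⟨Pi.single (.inl ⟨0, by omega⟩) 1 + Pi.single (.inr ⟨0, by omega⟩) 1, ?_⟩
    simp [Cfsg.quadFormPlus, Pi.single_apply]
  haveI : Nonempty (Fin d) := ⟨⟨0, by omega⟩⟩
  set Q := CfsgLib.CharTwoInv.plusQ d F
  have hQc : ⇑Q = Cfsg.quadFormPlus d F := CfsgLib.CharTwoInv.plusQ_coe d
  have hnd := CfsgLib.CharTwoInv.plusQ_nondeg (F := F) d
  obtain ⟨P⟩ := CfsgLib.CharTwoInv.plusQ_frame (F := F) d (by omega)
  have hev : Even (Fintype.card (Fin d ⊕ Fin d)) := by simp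
  have hdim : Fintype.card (Fin d ⊕ Fin d) = 2 * d := by simp [two_mul]
  have hisom : ∀ {x : GL (Fin d ⊕ Fin d) F}, x ∈ omegaGL (Cfsg.quadFormPlus d F) →
      ∀ v, Q ((x : Matrix (Fin d ⊕ Fin d) (Fin d ⊕ Fin d) F) *ᵥ v) = Q v := by
    rintro x ⟨g, -, rfl⟩ v
    rw [hQc]
    exact (CfsgLib.CharTwoInv.mem_iso_iff _).1 g.2 v
  constructor
  · intro hall
    have hr2 : r = 2 := by
      by_contra hr2
      have hr := (Fact.out : r.Prime)
      obtain ⟨f, -, hf⟩ := prime_two_pow (F := F)
      have hcount := card_points (Cfsg.quadFormPlus d F) (fun c v => by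
        rw [← hQc, QuadraticMap.map_smul, smul_eq_mul])
      have hsum := card_nonsingular (Cfsg.quadFormPlus d F)
      rw [card_zeros_plus, hdim, hq] at hsum
      rw [hq] at hcount
      have hq2 : 2 ≤ q := hq ▸ Fintype.one_lt_card
      set N := Nat.card {W : Submodule F (Fin d ⊕ Fin d → F) //
        Module.finrank F ↥W = 1 ∧ ∃ v ∈ W, Cfsg.quadFormPlus d F v ≠ 0}
      have hN : N = q ^ (d - 1) * (q ^ d - 1) := by
        obtain ⟨a, ha⟩ : ∃ a, q ^ (d - 1) = a := ⟨_, rfl⟩
        have hb : q ^ d = a * q := by rw [← ha, ← pow_succ, Nat.sub_add_cancel (by omega)]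
        have hbb : q ^ (2 * d) = a * q * (a * q) := by rw [two_mul, pow_add, hb]
        rw [ha, hb] at hsum ⊢
        rw [hbb, ← hcount] at hsum
        have hab : 1 ≤ a * q := Nat.mul_pos (ha ▸ pow_pos (by omega) _) (by omega)
        obtain ⟨b', hb'⟩ : ∃ b', a * q = b' + 1 := ⟨a * q - 1, by omega⟩
        obtain ⟨q', rfl⟩ : ∃ q', q = q' + 1 := ⟨q - 1, by omega⟩
        rw [hb', Nat.add_sub_cancel] at hsum ⊢
        rw [Nat.add_sub_cancel] at hsum
        refine Nat.eq_of_mul_eq_mul_right (show 0 < q' by omega) ?_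
        rw [show a * b' * q' = b' * (a * q') by ring]
        have e : b' * (a * q') + (b' * a + (b' + 1)) = (b' + 1) * (b' + 1) := by
          rw [show b' * (a * q') + (b' * a + (b' + 1)) = b' * (a * (q' + 1)) + (b' + 1) by ring, hb']
          ring
        omega
      have hrq : r ∣ q ^ d - 1 := by
        rcases hr.dvd_mul.1 (hN ▸ hrΩ) with h | h
        · rw [← hq, hf, ← pow_mul] at h
          exact absurd ((Nat.prime_dvd_prime_iff_eq hr Nat.prime_two).1 (hr.dvd_of_dvd_pow h)) hr2
        · exact h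
      -- an element of order `r` without fixed vectors
      haveI : NeZero d := ⟨by omega⟩
      let L := FiniteField.Extension F 2 d
      haveI := Fintype.ofFinite L
      obtain ⟨ζ, hζ⟩ := exists_prime_orderOf_dvd_card' (G := Lˣ) r (by
        rw [Nat.card_units, FiniteField.natCard_extension, Nat.card_eq_fintype_card, hq]; exact hrq)
      let bL := Module.finBasisOfFinrankEq F L (FiniteField.finrank_extension F 2 d)
      let A : Matrix (Fin d) (Fin d) F :=
        LinearMap.toMatrixAlgEquiv bL (Algebra.lmul F L (ζ : L))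
      have hAr : A ^ r = 1 := by
        rw [← map_pow, ← map_pow, ← Units.val_pow_eq_pow_val, ← hζ, pow_orderOf_eq_one,
          Units.val_one, map_one, map_one]
      have hA1 : IsUnit (A - 1) := by
        have hne1 : (ζ : L) - 1 ≠ 0 := by
          rw [sub_ne_zero, Ne, Units.val_eq_one]
          rintro rfl; rw [orderOf_one] at hζ; exact hr.one_lt.ne hζ
        have : A - 1 = LinearMap.toMatrixAlgEquiv bL (Algebra.lmul F L ((ζ : L) - 1)) := by
          rw [map_sub, map_sub, map_one, map_one]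
        rw [this]
        exact (((isUnit_iff_ne_zero).2 hne1).map (Algebra.lmul F L)).map (LinearMap.toMatrixAlgEquiv bL)
      let B := A ^ (r - 1)
      have hBA : B * A = 1 := by rw [← pow_succ, Nat.sub_add_cancel hr.one_le, hAr]
      have hAB : A * B = 1 := by rw [← pow_succ', Nat.sub_add_cancel hr.one_le, hAr]
      have hBr : B ^ r = 1 := by rw [← pow_mul, mul_comm, pow_mul, hAr, one_pow]
      let x : GL (Fin d ⊕ Fin d) F :=
        ⟨fromBlocks A 0 0 Bᵀ, fromBlocks B 0 0 Aᵀ,
          by simp [fromBlocks_multiply, ← transpose_mul, hAB, fromBlocks_one],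
          by simp [fromBlocks_multiply, ← transpose_mul, hBA, fromBlocks_one]⟩
      have hxr : x ^ r = 1 := by
        apply Units.ext
        rw [Units.val_pow_eq_pow_val]
        show (fromBlocks A 0 0 Bᵀ) ^ r = 1
        rw [fromBlocks_diagonal_pow, hAr, ← transpose_pow, hBr, transpose_one, fromBlocks_one]
      have hx : ∀ v, Cfsg.quadFormPlus d F ((x : Matrix (Fin d ⊕ Fin d) (Fin d ⊕ Fin d) F) *ᵥ v) = Cfsg.quadFormPlus d F v := by
        intro v
        show Cfsg.quadFormPlus d F (fromBlocks A 0 0 Bᵀ *ᵥ v) = _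
        rw [fromBlocks_mulVec, zero_mulVec, zero_mulVec, add_zero, zero_add]
        show (A *ᵥ (v ∘ Sum.inl)) ⬝ᵥ (Bᵀ *ᵥ (v ∘ Sum.inr)) = (v ∘ Sum.inl) ⬝ᵥ (v ∘ Sum.inr)
        rw [mulVec_transpose, dotProduct_comm, ← dotProduct_mulVec, mulVec_mulVec, hBA, one_mulVec,
          dotProduct_comm]
      have hfree : ∀ v, (x : Matrix (Fin d ⊕ Fin d) (Fin d ⊕ Fin d) F) *ᵥ v = v → v = 0 := by
        intro v hv
        change fromBlocks A 0 0 Bᵀ *ᵥ v = v at hv
        rw [fromBlocks_mulVec, zero_mulVec, zero_mulVec, add_zero, zero_add] at hv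
        have hinj := Matrix.mulVec_injective_iff_isUnit.2 hA1
        have h1 : A *ᵥ (v ∘ Sum.inl) = v ∘ Sum.inl := funext fun i => congrFun hv (.inl i)
        have h2 : Bᵀ *ᵥ (v ∘ Sum.inr) = v ∘ Sum.inr := funext fun i => congrFun hv (.inr i)
        have h2' : Aᵀ *ᵥ (v ∘ Sum.inr) = v ∘ Sum.inr := by
          conv_lhs => rw [← h2]
          rw [mulVec_mulVec, ← transpose_mul, hBA, transpose_one, one_mulVec]
        have hinjT := Matrix.mulVec_injective_iff_isUnit.2 ((Matrix.isUnit_transpose (A - 1)).2 hA1)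
        have e1 : v ∘ Sum.inl = 0 := hinj (show (A - 1) *ᵥ _ = (A - 1) *ᵥ 0 by
          rw [sub_mulVec, one_mulVec, h1, sub_self, mulVec_zero])
        have e2 : v ∘ Sum.inr = 0 := hinjT (show (A - 1)ᵀ *ᵥ _ = (A - 1)ᵀ *ᵥ 0 by
          rw [transpose_sub, transpose_one, sub_mulVec, one_mulVec, h2', sub_self, mulVec_zero])
        funext k
        rcases k with i | i
        · exact congrFun e1 i
        · exact congrFun e2 i
      exact false_of_fixedFree Q _ hQc hall hne
        (mem_omega_of_fixedFree Q _ hnd P hev hQc hx hfree) hxr hx hfree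
    refine ⟨hr2, Nat.not_even_iff_odd.1 fun hdev => ?_⟩
    subst hr2
    -- an involution whose fixed space is totally singular
    let σ : Equiv.Perm (Fin d) := Fin.revPerm
    let S : Matrix (Fin d) (Fin d) F := σ.permMatrix F
    have hS : ∀ w, S *ᵥ w = w ∘ σ := fun w => by
      funext i; simp [S, Equiv.Perm.permMatrix, Matrix.mulVec, dotProduct, PEquiv.toMatrix_apply]
    let x : GL (Fin d ⊕ Fin d) F :=
      ⟨fromBlocks 1 S 0 1, fromBlocks 1 S 0 1,
        by simp [fromBlocks_multiply, fromBlocks_one, CharTwo.add_self_eq_zero, ← two_smul F S,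
          CharTwo.two_eq_zero],
        by simp [fromBlocks_multiply, fromBlocks_one, CharTwo.add_self_eq_zero, ← two_smul F S,
          CharTwo.two_eq_zero]⟩
    have hxv : ∀ v : Fin d ⊕ Fin d → F, (x : Matrix (Fin d ⊕ Fin d) (Fin d ⊕ Fin d) F) *ᵥ v =
        Sum.elim ((v ∘ Sum.inl) + (v ∘ Sum.inr) ∘ σ) (v ∘ Sum.inr) := fun v => by
      show fromBlocks 1 S 0 1 *ᵥ v = _
      rw [fromBlocks_mulVec, one_mulVec, one_mulVec, zero_mulVec, zero_add, hS]
    have hx : ∀ v, Cfsg.quadFormPlus d F ((x : Matrix (Fin d ⊕ Fin d) (Fin d ⊕ Fin d) F) *ᵥ v) = Cfsg.quadFormPlus d F v := by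
      intro v
      rw [hxv]
      simp only [Cfsg.quadFormPlus, Sum.elim_inl, Sum.elim_inr, Pi.add_apply, Function.comp_apply,
        add_mul, Finset.sum_add_distrib]
      refine add_eq_left.2 (Finset.sum_involution (fun i _ => σ i) ?_ ?_ (fun i _ => Finset.mem_univ _)
        fun i _ => ?_)
      · intro i _
        simp only [σ, Fin.revPerm_apply, Fin.rev_rev]
        rw [mul_comm (v (Sum.inr i))]
        exact CharTwo.add_self_eq_zero _
      · intro i _ _ h
        have := congrArg Fin.val h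
        simp [σ, Fin.val_rev] at this
        obtain ⟨e, he⟩ := hdev
        omega
      · simp [σ]
    have hrank : ∀ v : Fin d ⊕ Fin d → F, (x : Matrix (Fin d ⊕ Fin d) (Fin d ⊕ Fin d) F) *ᵥ v = v ↔ v ∘ Sum.inr = 0 := fun v => by
      rw [hxv]
      constructor
      · intro h
        funext i
        have := congrFun h (.inl (σ i))
        simpa [σ] using this
      · intro h
        funext k
        rcases k with i | i
        · simpa using congrFun h (σ i)
        · rfl
    have hxo : x ∈ omegaGL (Cfsg.quadFormPlus d F) := by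
      refine ⟨⟨x, (CfsgLib.CharTwoInv.mem_iso_iff x).2 hx⟩, ?_, rfl⟩
      rw [SetLike.mem_coe, CfsgLib.CharTwoInv.omega_mem_iff Q hnd P hev _ hQc]
      change Even ((fromBlocks 1 S 0 1 : Matrix (Fin d ⊕ Fin d) (Fin d ⊕ Fin d) F) - 1).rank
      have hk : LinearMap.ker (Matrix.mulVecLin ((x : Matrix (Fin d ⊕ Fin d) (Fin d ⊕ Fin d) F) - 1)) =
          LinearMap.range ((LinearEquiv.sumArrowLequivProdArrow (Fin d) (Fin d) F F).symm.toLinearMap ∘ₗ
            LinearMap.inl F (Fin d → F) (Fin d → F)) := by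
        ext v
        rw [LinearMap.mem_ker, Matrix.mulVecLin_apply, sub_mulVec, one_mulVec, sub_eq_zero, hrank]
        constructor
        · intro h
          refine ⟨v ∘ Sum.inl, ?_⟩
          funext k
          rcases k with i | i
          · simp
          · simpa using (congrFun h i).symm
        · rintro ⟨u, rfl⟩
          funext i
          simp
      have hrn := LinearMap.finrank_range_add_finrank_ker (Matrix.mulVecLin ((x : Matrix (Fin d ⊕ Fin d) (Fin d ⊕ Fin d) F) - 1))
      rw [hk, LinearMap.finrank_range_of_inj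
        (f := (LinearEquiv.sumArrowLequivProdArrow (Fin d) (Fin d) F F).symm.toLinearMap ∘ₗ
          LinearMap.inl F (Fin d → F) (Fin d → F))
        ((LinearEquiv.sumArrowLequivProdArrow (Fin d) (Fin d) F F).symm.injective.comp
          (LinearMap.inl_injective (R := F) (M := Fin d → F) (M₂ := Fin d → F))),
        Module.finrank_fintype_fun_eq_card, Module.finrank_fintype_fun_eq_card, Fintype.card_fin,
        hdim] at hrn
      change Even ((x : Matrix (Fin d ⊕ Fin d) (Fin d ⊕ Fin d) F) - 1).rank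
      rw [Matrix.rank]
      rwa [show Module.finrank F (LinearMap.range (Matrix.mulVecLin ((x : Matrix (Fin d ⊕ Fin d) (Fin d ⊕ Fin d) F) - 1))) = d by omega]
    obtain ⟨W, ⟨hW, v, hv, hQv⟩, hmap⟩ := hall x hxo
      ⟨1, by
        rw [one_smul, pow_two, Units.val_mul]
        simp [x, fromBlocks_multiply, fromBlocks_one, ← two_smul F S, CharTwo.two_eq_zero]⟩
      fun z hz => by
        let i₀ : Fin d := ⟨0, by omega⟩
        have := congrFun (congrFun hz (.inl i₀)) (.inr (σ i₀))
        simp [x, S, Equiv.Perm.permMatrix, PEquiv.toMatrix_apply] at this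
    have hWv : W = F ∙ v := (Submodule.eq_of_le_of_finrank_eq ((Submodule.span_singleton_le_iff_mem v W).2 hv)
      (by rw [finrank_span_singleton (fun h => hQv (by rw [h, ← hQc, QuadraticMap.map_zero])), hW])).symm
    obtain ⟨a, ha⟩ := Submodule.mem_span_singleton.1 (hWv.le (hmap ⟨v, hv, rfl⟩))
    have ha' : (x : Matrix (Fin d ⊕ Fin d) (Fin d ⊕ Fin d) F) *ᵥ v = a • v := ha.symm
    have h1 := hx v
    rw [ha', ← hQc, QuadraticMap.map_smul, smul_eq_mul] at h1
    rw [← hQc] at hQv
    rw [eq_one_of_sq (mul_right_cancel₀ hQv (h1.trans (one_mul _).symm)), one_smul, hrank] at ha'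
    apply hQv
    rw [hQc]
    simp [Cfsg.quadFormPlus, fun i => show v (Sum.inr i) = 0 from congrFun ha' i]
  · rintro ⟨rfl, hodd⟩ x hx ⟨z, hz⟩ _
    have hx' := hisom hx
    have hne' : ∃ v, Q v ≠ 0 := by rw [hQc]; exact hne
    have hxx := sq_eq_one Q hne' hx' hz
    by_contra hno
    push Not at hno
    refine Nat.not_even_iff_odd.2 hodd (totally_singular_fixed Q hnd hdim hx' hxx fun v hv => ?_).2
    rw [hQc]
    by_contra hQv
    refine hno (F ∙ v) ⟨finrank_span_singleton (fun h => hQv ?_), v, Submodule.mem_span_singleton_self v,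
      hQv⟩ ?_
    · rw [h, ← hQc, QuadraticMap.map_zero]
    · rw [Submodule.map_span, Set.image_singleton, Matrix.toLin'_apply, hv]

end Cfsg.Agent.S5985
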