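import Cfsg.Statements.S5986
import Cfsg.Agent.Lib.OrthPoints.Basic
-- import your own Cfsg.Agent.* helpers here

set_option autoImplicit false
open scoped MatrixGroups
open Cfsg

namespace Cfsg.Agent.S5986

open CfsgLib.OrthPoints CfsgLib.Classical.Quad Cfsg.Geo Matrix

theorem prime_two_pow {F : Type*} [Field F] [Fintype F] [CharP F 2] :
    ∃ f : ℕ, 0 < f ∧ Fintype.card F = 2 ^ f := by
  obtain ⟨f, -, hf⟩ := FiniteField.card F 2
  exact ⟨f, f.pos, hf⟩

theorem card_zeros_minus {F : Type*} [Field F] [Fintype F] {a b : F} (hab : IsAniso a b) (k : ℕ) :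
    Nat.card {v : (Fin k ⊕ Fin k) ⊕ Fin 2 → F // Cfsg.quadFormMinus k F a b v = 0} =
      (Fintype.card F ^ k - 1) * Fintype.card F ^ (k - 1) * Fintype.card F ^ 2 + Fintype.card F ^ k := by
  rw [Nat.card_congr ((minusEquiv k F).toEquiv.subtypeEquiv
    (q := fun w => hypForm k (binForm a b) w = 0) fun v => by
      show _ ↔ hypForm k (binForm a b) (minusEquiv k F v) = 0
      rw [minusEquiv_spec]), card_level_hypForm, card_zeros_binForm hab]
  simp [Nat.card_eq_fintype_card]

theorem card_zeros_plus {F : Type*} [Field F] [Fintype F] (d : ℕ) :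
    Nat.card {v : Fin d ⊕ Fin d → F // Cfsg.quadFormPlus d F v = 0} =
      (Fintype.card F ^ d - 1) * Fintype.card F ^ (d - 1) + Fintype.card F ^ d := by
  rw [Nat.card_congr ((plusEquiv d F).toEquiv.subtypeEquiv
    (q := fun w => hypForm d (zeroKernel F) w = 0) fun v => by
      show _ ↔ hypForm d (zeroKernel F) (plusEquiv d F v) = 0
      rw [plusEquiv_spec]), card_level_hypForm, card_zeros_zeroKernel]
  simp [Nat.card_eq_fintype_card]

/-- An isometry of odd order of an anisotropic binary form in characteristic two fixing a non-zero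
vector is trivial. -/
theorem binForm_fixed {L : Type*} [Field L] [Fintype L] [CharP L 2] {a b : L} (hab : IsAniso a b)
    (g : Orth (binForm a b)) {r : ℕ} (hr : Odd r) (hgr : g ^ r = 1) {v : Fin 2 → L} (hv : v ≠ 0)
    (hgv : g.1 v = v) : g = 1 := by
  have hQv : binForm a b v ≠ 0 := fun h => hv (binForm_eq_zero hab h)
  have hvv : QuadraticMap.polar (binForm a b) v v = 0 := by
    rw [polar_self', CharTwo.two_eq_zero, zero_mul]
  have hgg : g * g = 1 := by
    refine orth_ext fun w => ?_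
    have hmem : ∀ u, QuadraticMap.polar (binForm a b) v u = 0 → ∃ s : L, u = s • v := fun u hu => by
      by_contra hcon
      push Not at hcon
      have hli : LinearIndependent L ![v, u] :=
        (linearIndependent_fin2).2 ⟨fun h => hcon 0 (by rw [zero_smul]; exact h), fun s h => by
          simp at h
          rcases eq_or_ne s 0 with rfl | hs
          · exact hv (by rw [← h, zero_smul])
          · exact hcon s⁻¹ (by rw [← h, inv_smul_smul₀ hs])⟩
      refine hv (ndPolar_binForm hab v fun y => ?_)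
      have hy : y ∈ Submodule.span L (Set.range ![v, u]) := by
        rw [hli.span_eq_top_of_card_eq_finrank (by simp)]; trivial
      obtain ⟨c, rfl⟩ := (Submodule.mem_span_range_iff_exists_fun L).1 hy
      rw [Fin.sum_univ_two, QuadraticMap.polar_add_right, QuadraticMap.polar_smul_right,
        QuadraticMap.polar_smul_right]
      simp [hvv, hu]
    have hpol : QuadraticMap.polar (binForm a b) v (g.1 w - w) = 0 := by
      rw [QuadraticMap.polar_sub_right]
      nth_rw 1 [← hgv]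
      rw [orth_polar, sub_self]
    obtain ⟨s, hs⟩ := hmem _ hpol
    rw [CfsgLib.Classical.Quad.mul_apply, CfsgLib.Classical.Quad.one_apply, show g.1 w = w + s • v by rw [← hs]; abel, map_add, map_smul, hgv,
      show g.1 w = w + s • v by rw [← hs]; abel, add_assoc, ← add_smul, CharTwo.add_self_eq_zero,
      zero_smul, add_zero]
  obtain ⟨j, rfl⟩ := hr
  rwa [pow_succ, pow_mul, pow_two, hgg, one_pow, one_mul] at hgr

/-- Elements of prime order of Ω⁻_n(q), q even, with no fixed nonsingular 1-space. Here `T = PΩ⁻_n(F)`, `n = 2d ≥ 8`, realised through `Ω⁻_n(q)`, the commutator subgroup of the isometry group of `Q = Σ_{i<d−1} xᵢyᵢ + z₁² + a z₁z₂ + b z₂²` with `z₁² + a z₁z₂ + b z₂²` anisotropic, over the field `F` with `q` elements; an element of `T` of prime order `r` is an element `x` of `Ω⁻_n(q)` with `x^r` scalar and `x` not scalar; `q` is even (so the centre is trivial). Let Ω be the set of 1-dimensional subspaces spanned by a vector `v` with `Q(v) ≠ 0`, and let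 `r` be a prime dividing their number. Then every element of `T` of order `r` fixes some nonsingular 1-space if and only if `r = 2`. -/
theorem result {F : Type*} [Field F] [Fintype F] {p : ℕ} [Fact p.Prime] [CharP F p] {q : ℕ} (hq : Fintype.card F = q)
    (hp : p = 2) (d : ℕ) (hd : 4 ≤ d) (a b : F) (hab : ∀ x y : F, x ^ 2 + a * x * y + b * y ^ 2 = 0 → x = 0 ∧ y = 0) (r : ℕ) [Fact r.Prime]
    (hrΩ : r ∣ Nat.card {W : Submodule F ((Fin (d - 1) ⊕ Fin (d - 1)) ⊕ Fin 2 → F) // Module.finrank F ↥W = 1 ∧ ∃ v ∈ W, Cfsg.quadFormMinus (d - 1) F a b v ≠ 0}) :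
    (∀ x : GL ((Fin (d - 1) ⊕ Fin (d - 1)) ⊕ Fin 2) F, x ∈ Cfsg.Geo.omegaGL (Cfsg.quadFormMinus (d - 1) F a b) →
      (∃ z : F, ((x ^ r : GL ((Fin (d - 1) ⊕ Fin (d - 1)) ⊕ Fin 2) F) : Matrix ((Fin (d - 1) ⊕ Fin (d - 1)) ⊕ Fin 2) ((Fin (d - 1) ⊕ Fin (d - 1)) ⊕ Fin 2) F) = z • (1 : Matrix ((Fin (d - 1) ⊕ Fin (d - 1)) ⊕ Fin 2) ((Fin (d - 1) ⊕ Fin (d - 1)) ⊕ Fin 2) F)) →
      (∀ z : F, (x : Matrix ((Fin (d - 1) ⊕ Fin (d - 1)) ⊕ Fin 2) ((Fin (d - 1) ⊕ Fin (d - 1)) ⊕ Fin 2) F) ≠ z • (1 : Matrix ((Fin (d - 1) ⊕ Fin (d - 1)) ⊕ Fin 2) ((Fin (d - 1) ⊕ Fin (d - 1)) ⊕ Fin 2) F)) →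
      ∃ W : Submodule F ((Fin (d - 1) ⊕ Fin (d - 1)) ⊕ Fin 2 → F), (Module.finrank F ↥W = 1 ∧ ∃ v ∈ W, Cfsg.quadFormMinus (d - 1) F a b v ≠ 0) ∧ W.map (Matrix.toLin' (x : Matrix ((Fin (d - 1) ⊕ Fin (d - 1)) ⊕ Fin 2) ((Fin (d - 1) ⊕ Fin (d - 1)) ⊕ Fin 2) F)) ≤ W) ↔ r = 2 := by
  subst hp
  classical
  generalize hkd : d - 1 = k at hrΩ ⊢
  obtain rfl : d = k + 1 := by omega
  clear hkd
  have ha : a ≠ 0 := CfsgLib.OrthCrit.a_ne_zero_of_anisotropic hab CharTwo.two_eq_zero
  set Q := CfsgLib.CharTwoInv.minusQ k F a b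
  have hQc : ⇑Q = Cfsg.quadFormMinus k F a b := CfsgLib.CharTwoInv.minusQ_coe k a b
  have hne : ∃ v, Cfsg.quadFormMinus k F a b v ≠ 0 := by
    refine ⟨Pi.single (.inr 0) 1, ?_⟩
    simp [Cfsg.quadFormMinus, Pi.single_apply]
  have hdim : Fintype.card ((Fin k ⊕ Fin k) ⊕ Fin 2) = 2 * (k + 1) := by simp; ring
  have hev : Even (Fintype.card ((Fin k ⊕ Fin k) ⊕ Fin 2)) := by rw [hdim]; exact even_two_mul _
  have hQeq : ∀ v, Q v = CfsgLib.OrthCrit.minusForm k F a b v := fun v => congrFun hQc v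
  have hndm := CfsgLib.OrthCrit.ndPolar_minusForm k a b hab fun _ => ha
  have hQform : Q = CfsgLib.OrthCrit.minusForm k F a b := QuadraticMap.ext hQeq
  have hnd : Q.polarBilin.Nondegenerate := by
    rw [hQform]; exact CfsgLib.Orth.ndPolar_iff.1 hndm
  obtain ⟨P⟩ := CfsgLib.CharTwoInv.minusQ_frame (F := F) k (by omega) a b
  constructor
  · intro hall
    by_contra hr2
    have hr := (Fact.out : r.Prime)
    obtain ⟨f, -, hf⟩ := prime_two_pow (F := F)
    have hcount := card_points (Cfsg.quadFormMinus k F a b) (fun c v => by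
      rw [← hQc, QuadraticMap.map_smul, smul_eq_mul])
    have hsum := card_nonsingular (Cfsg.quadFormMinus k F a b)
    rw [card_zeros_minus hab, hdim, hq] at hsum
    rw [hq] at hcount
    have hq2 : 2 ≤ q := hq ▸ Fintype.one_lt_card
    set N := Nat.card {W : Submodule F ((Fin k ⊕ Fin k) ⊕ Fin 2 → F) //
      Module.finrank F ↥W = 1 ∧ ∃ v ∈ W, Cfsg.quadFormMinus k F a b v ≠ 0}
    have hN : N = q ^ k * (q ^ (k + 1) + 1) := by
      obtain ⟨c, hc⟩ : ∃ c, q ^ k = c := ⟨_, rfl⟩
      have h1 : q ^ (k + 1) = c * q := by rw [pow_succ, hc]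
      have h2 : q ^ (k - 1) * q ^ 2 = c * q := by
        rw [← h1, ← pow_add, show k - 1 + 2 = k + 1 by omega]
      have hbb : q ^ (2 * (k + 1)) = c * q * (c * q) := by rw [two_mul, pow_add, h1]
      rw [hc, h1]
      rw [mul_assoc, h2, hc, hbb, ← hcount] at hsum
      obtain ⟨c', rfl⟩ : ∃ c', c = c' + 1 := ⟨c - 1, by
        have : 0 < c := hc ▸ pow_pos (by omega) _
        omega⟩
      obtain ⟨q', rfl⟩ : ∃ q', q = q' + 1 := ⟨q - 1, by omega⟩
      simp only [Nat.add_sub_cancel] at hsum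
      refine Nat.eq_of_mul_eq_mul_right (show 0 < q' by omega) ?_
      have e : (c' + 1) * ((c' + 1) * (q' + 1) + 1) * q' + (c' * ((c' + 1) * (q' + 1)) + (c' + 1)) =
          (c' + 1) * (q' + 1) * ((c' + 1) * (q' + 1)) := by ring
      omega
    have hrq : r ∣ q ^ (k + 1) + 1 := by
      rcases hr.dvd_mul.1 (hN ▸ hrΩ) with h | h
      · rw [← hq, hf, ← pow_mul] at h
        exact absurd ((Nat.prime_dvd_prime_iff_eq hr Nat.prime_two).1 (hr.dvd_of_dvd_pow h)) hr2
      · exact h
    -- the model over the extension of degree `d`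
    let L := FiniteField.Extension F 2 (k + 1)
    haveI := Fintype.ofFinite L
    haveI : CharP L 2 := charP_of_injective_algebraMap (algebraMap F L).injective 2
    have hL : Fintype.card L = q ^ (k + 1) := by
      rw [← Nat.card_eq_fintype_card, FiniteField.natCard_extension, Nat.card_eq_fintype_card, hq]
    obtain ⟨a', b', hab'⟩ := CfsgLib.RootCount.exists_aniso (F := L)
    have hab'' : IsAniso a' b' := hab'
    haveI : Finite (Orth (binForm a' b')) :=
      Nat.finite_of_card_ne_zero (by rw [card_orth_binForm hab'']; omega)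
    obtain ⟨g, hg⟩ := exists_prime_orderOf_dvd_card' (G := Orth (binForm a' b')) r (by
      rw [card_orth_binForm hab'', hL]; exact dvd_mul_of_dvd_right hrq 2)
    let tr : L →ₗ[F] F := Algebra.trace F L
    let QK : QuadraticForm F (Fin 2 → L) := tr.compQuadraticMap' (binForm a' b')
    have hpolK : ∀ u v, QuadraticMap.polar QK u v = tr (QuadraticMap.polar (binForm a' b') u v) :=
      fun u v => LinearMap.compQuadraticMap_polar _ _ u v
    have htrnd : ∀ y : L, (∀ c : L, tr (c * y) = 0) → y = 0 := fun y hy =>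
      (traceForm_nondegenerate F L).1 y fun c => by
        rw [Algebra.traceForm_apply, mul_comm]; exact hy c
    have hKnd : NDPolar QK := fun u hu => ndPolar_binForm hab'' u fun v => htrnd _ fun c => by
      have := hu (c • v)
      rwa [hpolK, QuadraticMap.polar_smul_right, smul_eq_mul] at this
    have hKdim : Module.finrank F (Fin 2 → L) = 2 * (k + 1) := by
      rw [Module.finrank_pi_fintype, Finset.sum_const, Finset.card_univ, Fintype.card_fin, smul_eq_mul,
        FiniteField.finrank_extension]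
    have hzeros : Nat.card {v : Fin 2 → L // QK v = 0} = 1 + (q ^ k - 1) * (q ^ (k + 1) + 1) := by
      let e : {v : Fin 2 → L // QK v = 0} ≃ Σ c : LinearMap.ker tr, {v : Fin 2 → L // binForm a' b' v = (c : L)} :=
        { toFun := fun v => ⟨⟨binForm a' b' v.1, v.2⟩, v.1, rfl⟩
          invFun := fun s => ⟨s.2.1, by show tr (binForm a' b' s.2.1) = 0; rw [s.2.2]; exact s.1.2⟩
          left_inv := fun _ => rfl
          right_inv := fun ⟨⟨c, hc⟩, v, hv⟩ => by cases hv; rfl }
      haveI := Fintype.ofFinite (LinearMap.ker tr)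
      rw [Nat.card_congr e, Nat.card_sigma, ← Finset.add_sum_erase _ _ (Finset.mem_univ 0)]
      rw [ZeroMemClass.coe_zero, card_zeros_binForm hab'', Finset.sum_congr rfl (fun c hc =>
        card_level_binForm hab'' (fun h => Finset.ne_of_mem_erase hc (Subtype.ext h))),
        Finset.sum_const, Finset.card_erase_of_mem (Finset.mem_univ _), Finset.card_univ, smul_eq_mul,
        hL]
      have hker : Fintype.card (LinearMap.ker tr) = q ^ k := by
        have hr1 : Module.finrank F (LinearMap.range tr) = 1 := by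
          rw [LinearMap.range_eq_top.2 (LinearMap.surjective fun h => one_ne_zero (α := L)
            (htrnd 1 fun c => by rw [h]; rfl)), finrank_top, Module.finrank_self]
        have := LinearMap.finrank_range_add_finrank_ker tr
        rw [hr1, FiniteField.finrank_extension] at this
        rw [Module.card_eq_pow_finrank (K := F), hq, show Module.finrank F (LinearMap.ker tr) = k by omega]
      rw [hker]
    obtain ⟨E, hE⟩ : ∃ E : ((Fin k ⊕ Fin k) ⊕ Fin 2 → F) ≃ₗ[F] (Fin 2 → L),
        ∀ v, QK (E v) = Cfsg.quadFormMinus k F a b v := by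
      rcases CfsgLib.RootCount.classify_even QK hKnd hKdim (a := a) (c := b) hab with
        ⟨-, E, hE⟩ | ⟨-, k', hk', E, hE⟩
      · exfalso
        have h := card_zeros_plus (F := F) (k + 1)
        rw [Nat.card_congr (E.toEquiv.subtypeEquiv (p := fun v => Cfsg.quadFormPlus (k + 1) F v = 0)
          (q := fun w => QK w = 0) fun v => by
            show _ ↔ QK (E v) = 0
            rw [hE]; rfl), hzeros, Nat.add_sub_cancel, hq] at h
        obtain ⟨c, hc⟩ : ∃ c, q ^ k = c := ⟨_, rfl⟩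
        rw [pow_succ, hc] at h
        have hc8 : 2 ≤ c := hc ▸ hq2.trans (Nat.le_self_pow (by omega) q)
        obtain ⟨c', rfl⟩ : ∃ c', c = c' + 2 := ⟨c - 2, by omega⟩
        obtain ⟨q', rfl⟩ : ∃ q', q = q' + 2 := ⟨q - 2, by omega⟩
        rw [show c' + 2 - 1 = c' + 1 by omega,
          show (c' + 2) * (q' + 2) - 1 = (c' * q' + 2 * c' + 2 * q') + 3 by ring_nf; omega] at h
        ring_nf at h
        omega
      · obtain rfl : k = k' := by omega
        exact ⟨E, fun v => by rw [hE]; rfl⟩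
    let φ : Orth (binForm a' b') →* (((Fin k ⊕ Fin k) ⊕ Fin 2 → F) →ₗ[F] ((Fin k ⊕ Fin k) ⊕ Fin 2 → F)) :=
      { toFun := fun h => E.symm.toLinearMap ∘ₗ ((h.1 : (Fin 2 → L) →ₗ[L] (Fin 2 → L)).restrictScalars F) ∘ₗ E.toLinearMap
        map_one' := LinearMap.ext fun v => by simp
        map_mul' := fun h h' => LinearMap.ext fun v => by simp [Module.End.mul_apply] }
    let ψ : Orth (binForm a' b') →* GL ((Fin k ⊕ Fin k) ⊕ Fin 2) F :=
      ((LinearMap.toMatrixAlgEquiv' (R := F) (n := (Fin k ⊕ Fin k) ⊕ Fin 2)).toMonoidHom.comp φ).toHomUnits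
    let x := ψ g
    have hxv : ∀ v, (x : Matrix ((Fin k ⊕ Fin k) ⊕ Fin 2) ((Fin k ⊕ Fin k) ⊕ Fin 2) F) *ᵥ v = E.symm (g.1 (E v)) := fun v => by
      show LinearMap.toMatrixAlgEquiv' (φ g) *ᵥ v = _
      rw [← Matrix.toLin'_apply]
      show Matrix.toLin' (LinearMap.toMatrix' (φ g)) v = _
      rw [Matrix.toLin'_toMatrix']
      rfl
    have hx : ∀ v, Cfsg.quadFormMinus k F a b ((x : Matrix ((Fin k ⊕ Fin k) ⊕ Fin 2) ((Fin k ⊕ Fin k) ⊕ Fin 2) F) *ᵥ v) = Cfsg.quadFormMinus k F a b v := by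
      intro v
      rw [hxv, ← hE, ← hE, LinearEquiv.apply_symm_apply]
      show tr (binForm a' b' (g.1 (E v))) = tr (binForm a' b' (E v))
      rw [orth_Q]
    have hfree : ∀ v, (x : Matrix ((Fin k ⊕ Fin k) ⊕ Fin 2) ((Fin k ⊕ Fin k) ⊕ Fin 2) F) *ᵥ v = v → v = 0 := fun v hv => by
      rw [hxv, LinearEquiv.symm_apply_eq] at hv
      by_contra hv0
      have := binForm_fixed hab'' g (hr.odd_of_ne_two hr2) (hg ▸ pow_orderOf_eq_one g)
        (fun h => hv0 (E.map_eq_zero_iff.1 h)) hv
      rw [this, orderOf_one] at hg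
      exact hr.one_lt.ne hg
    exact false_of_fixedFree Q _ hQc hall hne (mem_omega_of_fixedFree Q _ hnd P hev hQc hx hfree)
      (by show ψ g ^ r = 1; rw [← map_pow, ← hg, pow_orderOf_eq_one, map_one]) hx hfree
  · rintro rfl x hx ⟨z, hz⟩ _
    have hx' : ∀ v, Q ((x : Matrix ((Fin k ⊕ Fin k) ⊕ Fin 2) ((Fin k ⊕ Fin k) ⊕ Fin 2) F) *ᵥ v) = Q v := by
      obtain ⟨g, -, rfl⟩ := hx
      intro v
      rw [hQc]
      exact (CfsgLib.CharTwoInv.mem_iso_iff _).1 g.2 v
    have hne' : ∃ v, Q v ≠ 0 := by rw [hQc]; exact hne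
    have hxx := sq_eq_one Q hne' hx' hz
    by_contra hno
    push Not at hno
    refine CfsgLib.RootCount.not_isPlus_minus (a := a) (c := b) hab k (hQform ▸
      (totally_singular_fixed Q hnd hdim hx' hxx fun v hv => ?_).1)
    rw [hQc]
    by_contra hQv
    refine hno (F ∙ v) ⟨finrank_span_singleton (fun h => hQv ?_), v, Submodule.mem_span_singleton_self v,
      hQv⟩ ?_
    · rw [h, ← hQc, QuadraticMap.map_zero]
    · rw [Submodule.map_span, Set.image_singleton, Matrix.toLin'_apply, hv]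

end Cfsg.Agent.S5986
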