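import Cfsg.Statements.S5987
import Cfsg.Agent.Lib.PrimeFix.OrthPrime
import Cfsg.Agent.Lib.PrimeFix.OrthTwo
-- import your own Cfsg.Agent.* helpers here

set_option autoImplicit false
open scoped MatrixGroups
open Cfsg

namespace Cfsg.Agent.S5987

open Module CfsgLib.PrimeFix.Quad
open CfsgLib.OrthCrit (minusForm)

theorem crit_iff {d i t m : ℕ} :
    Crit (2 * d) 2 i t m ↔
      (Odd i ∧ i ≤ m ∧ ((2 * d) % (if Even i then i else 2 * i) = 0 ∨
        2 * (m % i) < (2 * d) % (if Even i then i else 2 * i))) ∨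
      (Even i ∧ i ≤ m ∧ t + 2 * (m / i) ≤ (2 * d) / i ∧
       ((2 * (m % i) ≤ i ∧ (2 * d) % (if Even i then i else 2 * i) = 0 ∧ Even ((2 * d) / i) ∧
          t + 2 * (m / i) < (2 * d) / i) ∨
        (2 * (m % i) ≤ (2 * d) % (if Even i then i else 2 * i) ∧ Odd ((2 * d) / i)) ∨
        (2 * (m % i) < (2 * d) % (if Even i then i else 2 * i) ∧ Even ((2 * d) / i)))) := by
  unfold Crit
  rcases Nat.even_or_odd i with he | ho
  · obtain ⟨h, hh⟩ := he
    have he : Even i := ⟨h, hh⟩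
    have hk : (2 * d) % i % 2 = 0 := by
      rw [Nat.mod_mod_of_dvd _ ⟨h, by omega⟩]; omega
    simp only [he, Nat.not_odd_iff_even.2 he, if_true, false_and, false_or, true_and, altDefect, Nat.odd_iff,
      Nat.even_iff]
    split_ifs with hN <;> simp only [hN, true_and, and_true, false_and, and_false, false_or, or_false, add_zero] <;>
      constructor <;> intro h' <;> omega
  · have hk : (2 * d) % (2 * i) % 2 = 0 := by
      rw [Nat.mod_mul_right_mod]; omega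
    simp only [ho, Nat.not_even_iff_odd.2 ho, if_false, false_and, or_false, true_and, and_true]
    constructor <;> intro h' <;> omega

/-- Elements of prime order of PΩ⁻_n(q) with no fixed totally singular `m`-space. Here `T = PΩ⁻_n(F)`, `n = 2d ≥ 8`, realised through `Ω⁻_n(q)`, the commutator subgroup of the isometry group of `Q = Σ_{i<d−1} xᵢyᵢ + z₁² + a z₁z₂ + b z₂²` with `z₁² + a z₁z₂ + b z₂²` anisotropic, over the field `F` with `q` elements; an element of `T` of prime order `r` is an element `x` of `Ω⁻_n(q)` with `x^r` scalar and `x` not scalar. Let `1 ≤ m ≤ d − 1` and let `r` be a prime dividing the number of totally singular `m`-spaces (subspaces of dimension `m` on which `Q` vanishes); for `r ≠ p` let `i` be the multiplicative order of `q` modulo `r`, `c = i` for `i` even and `c = 2i` for `i` odd, and write `k = n mod c`, `ℓ = m mod i`, `n' = ⌊n/i⌋`, `m' = ⌊m/i⌋`, `t = (r−1)/i`. Then every element of `T` of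 order `r` fixes some totally singular `m`-space if and only if one of: (i) `r = 2 ≠ p` and (`n ≡ 0 (mod 4)`, or `m` is even, or `q ≢ 7 (mod 8)`); (ii) `r ≠ p` odd, `i` odd, `i ≤ m` and (`k = 0` or `k > 2ℓ`); (iii) `r ≠ p` odd, `i` even, `i ≤ m`, `n' − 2m' ≥ t`, and one of: (a) `i ≥ 2ℓ`, `k = 0`, `n/i` even and `n' − 2m' > t` (all four); (b) `k ≥ 2ℓ` and `n'` odd; (c) `k > 2ℓ` and `n'` even. -/
theorem result {F : Type*} [Field F] [Fintype F] {p : ℕ} [Fact p.Prime] [CharP F p] {q : ℕ} (hq : Fintype.card F = q)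
    (d m : ℕ) (hd : 4 ≤ d) (hm : 1 ≤ m) (hmd : m + 1 ≤ d) (a b : F) (hab : ∀ x y : F, x ^ 2 + a * x * y + b * y ^ 2 = 0 → x = 0 ∧ y = 0)
    (r : ℕ) [Fact r.Prime]
    (hrΩ : r ∣ Nat.card {W : Submodule F ((Fin (d - 1) ⊕ Fin (d - 1)) ⊕ Fin 2 → F) // Module.finrank F ↥W = m ∧ Cfsg.Geo.IsTotallySingularQuad (Cfsg.quadFormMinus (d - 1) F a b) W})
    (i c : ℕ) (hi : i = orderOf (q : ZMod r)) (hc : c = if Even i then i else 2 * i) :
    (∀ x : GL ((Fin (d - 1) ⊕ Fin (d - 1)) ⊕ Fin 2) F, x ∈ Cfsg.Geo.omegaGL (Cfsg.quadFormMinus (d - 1) F a b) →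
      (∃ z : F, ((x ^ r : GL ((Fin (d - 1) ⊕ Fin (d - 1)) ⊕ Fin 2) F) : Matrix ((Fin (d - 1) ⊕ Fin (d - 1)) ⊕ Fin 2) ((Fin (d - 1) ⊕ Fin (d - 1)) ⊕ Fin 2) F) = z • (1 : Matrix ((Fin (d - 1) ⊕ Fin (d - 1)) ⊕ Fin 2) ((Fin (d - 1) ⊕ Fin (d - 1)) ⊕ Fin 2) F)) →
      (∀ z : F, (x : Matrix ((Fin (d - 1) ⊕ Fin (d - 1)) ⊕ Fin 2) ((Fin (d - 1) ⊕ Fin (d - 1)) ⊕ Fin 2) F) ≠ z • (1 : Matrix ((Fin (d - 1) ⊕ Fin (d - 1)) ⊕ Fin 2) ((Fin (d - 1) ⊕ Fin (d - 1)) ⊕ Fin 2) F)) →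
      ∃ W : Submodule F ((Fin (d - 1) ⊕ Fin (d - 1)) ⊕ Fin 2 → F), (Module.finrank F ↥W = m ∧ Cfsg.Geo.IsTotallySingularQuad (Cfsg.quadFormMinus (d - 1) F a b) W) ∧ W.map (Matrix.toLin' (x : Matrix ((Fin (d - 1) ⊕ Fin (d - 1)) ⊕ Fin 2) ((Fin (d - 1) ⊕ Fin (d - 1)) ⊕ Fin 2) F)) ≤ W) ↔
    ((r = 2 ∧ p ≠ 2 ∧ (Even d ∨ Even m ∨ q % 8 ≠ 7)) ∨
     (r ≠ p ∧ 2 < r ∧ Odd i ∧ i ≤ m ∧ ((2 * d) % c = 0 ∨ 2 * (m % i) < (2 * d) % c)) ∨
     (r ≠ p ∧ 2 < r ∧ Even i ∧ i ≤ m ∧ (r - 1) / i + 2 * (m / i) ≤ (2 * d) / i ∧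
       ((2 * (m % i) ≤ i ∧ (2 * d) % c = 0 ∧ Even ((2 * d) / i) ∧ (r - 1) / i + 2 * (m / i) < (2 * d) / i) ∨
        (2 * (m % i) ≤ (2 * d) % c ∧ Odd ((2 * d) / i)) ∨
        (2 * (m % i) < (2 * d) % c ∧ Even ((2 * d) / i))))) := by
  classical
  subst hq
  have hnd := CfsgLib.OrthCrit.ndPolar_minusForm (F := F) (d - 1) a b hab
    (CfsgLib.OrthCrit.a_ne_zero_of_anisotropic hab)
  have hι : Fintype.card ((Fin (d - 1) ⊕ Fin (d - 1)) ⊕ Fin 2) = 2 * d := by simp; omega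
  have hfr : finrank F ((Fin (d - 1) ⊕ Fin (d - 1)) ⊕ Fin 2 → F) = 2 * d := by
    rw [Module.finrank_fintype_fun_eq_card, hι]
  have hp0 : ¬ CfsgLib.RootCount.IsPlus (minusForm (d - 1) F a b) := CfsgLib.RootCount.not_isPlus_minus hab (d - 1)
  have hdef : defect (minusForm (d - 1) F a b) = 2 := defect_of_not_plus ⟨d, by omega⟩ hp0
  have hK : finrank F ((Fin (d - 1) ⊕ Fin (d - 1)) ⊕ Fin 2 → F) = 2 * (d - 1) + defect (minusForm (d - 1) F a b) := by
    rw [hdef, hfr]; omega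
  have hreg := CfsgLib.OrthCrit.regular_of_card (F := F) hι (Or.inr (by omega))
  have hrp : r ≠ p := by
    rintro rfl
    exact not_char_dvd hnd hK (by omega) (Or.inr (by omega)) hrΩ
  haveI : Nonempty ((Fin (d - 1) ⊕ Fin (d - 1)) ⊕ Fin 2) := ⟨Sum.inr 0⟩
  by_cases hr2 : r = 2
  · subst hr2
    have hp2 : p ≠ 2 := fun h => hrp h.symm
    have hchar : ringChar F ≠ 2 := by rw [ringChar.eq F p]; exact hp2
    have h2 : (2 : F) ≠ 0 := Ring.two_ne_zero hchar
    have hcodd := FiniteField.odd_card_of_char_ne_two hchar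
    constructor
    · intro hall
      refine Or.inl ⟨rfl, hp2, ?_⟩
      by_contra hcon
      push Not at hcon
      obtain ⟨hdodd, hmodd, hq8⟩ := hcon
      have hns : ¬ IsSquare (-1 : F) := by
        rw [FiniteField.isSquare_neg_one_iff]; omega
      have hsq : IsSquare (2 : F) := FiniteField.isSquare_two_iff.2 (by omega)
      obtain ⟨g, hg, hgg⟩ := exists_complex h2 hnd hns hι (by omega) (iff_of_false hp0 hdodd) (Or.inr hsq)
      obtain ⟨W, ⟨hWm, -⟩, hW⟩ := hall g.1 ⟨g, hg, rfl⟩ ⟨-1, Matrix.ext_iff_mulVec.mpr fun v => by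
          rw [pow_two, Units.val_mul, ← Matrix.mulVec_mulVec, Matrix.smul_mulVec, Matrix.one_mulVec, neg_one_smul]
          exact hgg v⟩
        (fun z hz => by
          obtain ⟨v, hv⟩ := CfsgLib.OrthCrit.exists_Q_ne_zero hnd
          have hv0 : v ≠ 0 := fun h => hv (by rw [h, QuadraticMap.map_zero])
          refine hns ⟨z, smul_left_injective F hv0 ?_⟩
          have h := hgg v
          simp only [CfsgLib.OrthSpinor.act, hz, Matrix.smul_mulVec, Matrix.one_mulVec, smul_smul] at h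
          show (-1 : F) • v = (z * z) • v
          rw [h, neg_one_smul])
      exact hmodd (hWm ▸ even_of_inv h2 g hns hgg W fun w hw => hW ⟨w, hw, Matrix.toLin'_apply _ w⟩)
    · rintro (⟨-, -, hcase⟩ | ⟨-, h, -⟩ | ⟨-, h, -⟩)
      swap; · exact absurd h (lt_irrefl _)
      swap; · exact absurd h (lt_irrefl _)
      rintro x hx ⟨z, hz⟩ -
      obtain ⟨g, hg, rfl⟩ := (hx : x ∈ Geo.omegaGL ⇑(minusForm (d - 1) F a b))
      suffices h : ∃ W : Submodule F ((Fin (d - 1) ⊕ Fin (d - 1)) ⊕ Fin 2 → F), finrank F W = m ∧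
          TotSing (minusForm (d - 1) F a b) W ∧
          ∀ w ∈ W, CfsgLib.OrthSpinor.act (minusForm (d - 1) F a b) g w ∈ W by
        obtain ⟨W, hW1, hW2, hW3⟩ := h
        refine ⟨W, ⟨hW1, hW2⟩, ?_⟩
        rintro _ ⟨w, hw, rfl⟩
        rw [Matrix.toLin'_apply]
        exact hW3 w hw
      rcases act_act_sign hnd hz with hgg | hgg
      · exact exists_of_invol (Q := minusForm (d - 1) F a b) h2 hnd g hg (by omega) hgg (by omega)
          (Or.inr (Or.inl hdef))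
      · by_cases hsq : IsSquare (-1 : F)
        · obtain ⟨s, hs⟩ := hsq
          exact exists_of_sqrt (Q := minusForm (d - 1) F a b) h2 g hs.symm hgg (by omega)
        · have hns := hsq
          rw [FiniteField.isSquare_neg_one_iff] at hsq
          obtain ⟨k, hk, hkp, hkO⟩ := complex_facts (Q := minusForm (d - 1) F a b) h2 hnd hns g hgg (by omega)
          obtain rfl : k = d := by omega
          have hdodd : ¬ Even k := fun h => hp0 (hkp.2 h)
          have h2sq := FiniteField.isSquare_two_iff.1 ((hkO.1 hg).resolve_left hdodd)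
          obtain ⟨j, rfl⟩ : Even m := by
            rcases hcase with h | h | h
            · exact absurd h hdodd
            · exact h
            · omega
          obtain ⟨W, hW1, hW2, hW3⟩ := exists_of_complex (Q := minusForm (k - 1) F a b) h2 g hns hgg j (by omega)
          exact ⟨W, by omega, hW2, hW3⟩
  have hr3 : 2 < r := lt_of_le_of_ne (Fact.out : r.Prime).two_le (Ne.symm hr2)
  have hcrit := crit_iff (d := d) (i := i) (t := (r - 1) / i) (m := m)
  rw [← hc] at hcrit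
  have hrodd := (Fact.out : r.Prime).odd_of_ne_two hr2
  constructor
  · intro hall
    refine Or.inr ?_
    by_contra hcond
    obtain ⟨T, hT, hTr, hTns, hTU⟩ := exists_witness (p := p) hrp hr2 hnd
      (fun h => absurd h (by rw [hfr, Nat.odd_iff]; omega)) hK hi (by omega) (Or.inr (by omega)) hrΩ (by
        rw [hdef, hfr]
        intro h
        rcases hcrit.1 h with ⟨h1, h2⟩ | ⟨h1, h2⟩
        · exact hcond (Or.inl ⟨hrp, hr3, h1, h2⟩)
        · exact hcond (Or.inr ⟨hrp, hr3, h1, h2⟩))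
    obtain ⟨x, hx, hxr, hxT⟩ := exists_omega hnd hreg (by omega) T hT hrodd hTr
    obtain ⟨W, ⟨hWm, hWs⟩, hW⟩ := hall x hx ⟨1, by rw [hxr, one_smul]; rfl⟩ fun z hz => by
      obtain ⟨v, hv⟩ := hTns z
      apply hv
      rw [← hxT, toLin_eq_smul hz]; rfl
    exact hTU W (fun w hw => hxT ▸ hW ⟨w, hw, rfl⟩) hWs hWm
  · intro hcond x hx
    rintro ⟨z, hz⟩ -
    have hc' : Crit (2 * d) 2 i ((r - 1) / i) m := by
      rcases hcond with ⟨h, -⟩ | ⟨-, -, h1, h2⟩ | ⟨-, -, h1, h2⟩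
      · exact absurd h hr2
      · exact hcrit.2 (Or.inl ⟨h1, h2⟩)
      · exact hcrit.2 (Or.inr ⟨h1, h2⟩)
    obtain ⟨T, hT, hTr, hTW⟩ := exists_normalised (Q := minusForm (d - 1) F a b) hnd hrodd hx hz
    obtain ⟨W, hW1, hW2, hW3⟩ := exists_of_crit (p := p) hrp hr2 hnd T hT hTr hi
      (m := m) (by omega) (by rw [hdef, hfr]; exact hc')
    exact ⟨W, ⟨hW1, hW2⟩, hTW W hW3⟩

end Cfsg.Agent.S5987
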