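import Cfsg.Statements.S5988
import Cfsg.Agent.Lib.LinFix.OrthEllStmt

set_option autoImplicit false
open scoped MatrixGroups
open Cfsg

namespace Cfsg.Agent.S5988

open CfsgLib.OrthInv

/-- Elements of prime order of PΩ⁺_n(q) with no fixed elliptic `m`-space. Here `T = PΩ⁺_n(F)`, `n = 2d ≥ 8`, realised through `Ω⁺_n(q)`, the commutator subgroup of the isometry group of `Q = Σ xᵢyᵢ` over the field `F` with `q` elements; an element of `T` of prime order `r` is an element `x` of `Ω⁺_n(q)` with `x^r` scalar and `x` not scalar; a nondegenerate `m`-space (even `m`) is a subspace on which the polar form of `Q` is nondegenerate; it is hyperbolic if it contains an `m/2`-dimensional subspace on which `Q` vanishes, elliptic otherwise. Let `m` be even with `2 ≤ m < n/2` and let `r` be a prime dividing the number of elliptic `m`-spaces; for `r ≠ p` let `i` be the multiplicative order of `q` modulo `r`, `c = i` for `i` even and `c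 = 2i` for `i` odd, and write `k = n mod c`, `ℓ = m mod i`, `ℓ' = m mod c`, `n' = ⌊n/i⌋`, `m' = ⌊m/i⌋`, `t = (r−1)/i`. Then every element of `T` of order `r` fixes some elliptic `m`-space if and only if one of: (i) `r = 2 ≠ p` and either `n ≡ 0 (mod 4)`, `q ≡ 3 (mod 4)` and `m ≡ 2 (mod 4)`, or `n ≡ 2 (mod 4)` and `q ≢ 1 (mod 8)`; (ii) `r ≠ p` odd, `i` odd, `c ≤ m` and `k > ℓ' > 0`; (iii) `r ≠ p` odd, `i` even, and either `k = 0` and (`n/i` odd, or `ℓ' = 0` and `m/i` odd), or `i ≤ m` and (`k > ℓ' > 0`, or `k = ℓ' > 0` and `(n + m − 2k)/i` odd, or `k > ℓ' = 0` and `m/i` odd). (For `r = p` there is always an element of order `p` fixing no elliptic `m`-space.) -/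
theorem result {F : Type*} [Field F] [Fintype F] {p : ℕ} [Fact p.Prime] [CharP F p] {q : ℕ} (hq : Fintype.card F = q)
    (d m : ℕ) (hd : 4 ≤ d) (hm : 2 ≤ m) (hme : Even m) (hmd : m < d)
    (r : ℕ) [Fact r.Prime]
    (hrΩ : r ∣ Nat.card {W : Submodule F (Fin d ⊕ Fin d → F) // Module.finrank F ↥W = m ∧ Cfsg.Geo.IsNondegenerateOn (QuadraticMap.polar (Cfsg.quadFormPlus d F)) W ∧ ¬ Cfsg.Geo.IsPlusTypeOn (Cfsg.quadFormPlus d F) W})
    (i c : ℕ) (hi : i = orderOf (q : ZMod r)) (hc : c = if Even i then i else 2 * i) :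
    (∀ x : GL (Fin d ⊕ Fin d) F, x ∈ Cfsg.Geo.omegaGL (Cfsg.quadFormPlus d F) →
      (∃ z : F, ((x ^ r : GL (Fin d ⊕ Fin d) F) : Matrix (Fin d ⊕ Fin d) (Fin d ⊕ Fin d) F) = z • (1 : Matrix (Fin d ⊕ Fin d) (Fin d ⊕ Fin d) F)) →
      (∀ z : F, (x : Matrix (Fin d ⊕ Fin d) (Fin d ⊕ Fin d) F) ≠ z • (1 : Matrix (Fin d ⊕ Fin d) (Fin d ⊕ Fin d) F)) →
      ∃ W : Submodule F (Fin d ⊕ Fin d → F), (Module.finrank F ↥W = m ∧ Cfsg.Geo.IsNondegenerateOn (QuadraticMap.polar (Cfsg.quadFormPlus d F)) W ∧ ¬ Cfsg.Geo.IsPlusTypeOn (Cfsg.quadFormPlus d F) W) ∧ W.map (Matrix.toLin' (x : Matrix (Fin d ⊕ Fin d) (Fin d ⊕ Fin d) F)) ≤ W) ↔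
    ((r = 2 ∧ p ≠ 2 ∧ ((Even d ∧ q % 4 = 3 ∧ m % 4 = 2) ∨ (Odd d ∧ q % 8 ≠ 1))) ∨
     (r ≠ p ∧ 2 < r ∧ Odd i ∧ c ≤ m ∧ 0 < m % c ∧ m % c < (2 * d) % c) ∨
     (r ≠ p ∧ 2 < r ∧ Even i ∧
       (((2 * d) % c = 0 ∧ (Odd ((2 * d) / i) ∨ (m % c = 0 ∧ Odd (m / i)))) ∨
        (i ≤ m ∧ ((0 < m % c ∧ m % c < (2 * d) % c) ∨
                  (0 < m % c ∧ m % c = (2 * d) % c ∧ Odd ((2 * d + m - 2 * ((2 * d) % c)) / i)) ∨
                  (m % c = 0 ∧ 0 < (2 * d) % c ∧ Odd (m / i))))))) := by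
  subst hq
  have hc' : c = per i := hc
  subst hc'
  have hi' : orderOf (Fintype.card F : ZMod r) = i := hi.symm
  have hrP := (Fact.out : r.Prime)
  have hQ := CfsgLib.OrthCrit.ndPolar_plusForm (F := F) d
  have hplus := isPlus_plusForm (F := F) d
  have hdim : Module.finrank F (Fin d ⊕ Fin d → F) = 2 * d := by simp [two_mul]
  have hreg : CfsgLib.OrthCrit.Regular F (Fin d ⊕ Fin d) :=
    CfsgLib.OrthCrit.regular_of_card (n := 2 * d) (by simp [two_mul]) (Or.inr (by omega))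
  refine (ellFix_def (Q := CfsgLib.OrthCrit.plusForm d F) r m).trans ?_
  have hbad : r = p → ¬ EllFix (CfsgLib.OrthCrit.plusForm d F) r m := by
    rintro rfl
    exact not_ellFix_char (p := r) hQ hreg hdim (s := d / 2) (by omega) (by omega)
      (by rw [CfsgLib.PrimeFix.Quad.defect_of_plus hplus]; omega) hme (Or.inl hplus)
  by_cases hrp : r = p
  · refine iff_of_false (hbad hrp) ?_
    rintro (⟨h, hp, -⟩ | ⟨h, -⟩ | ⟨h, -⟩)
    · exact hp (hrp ▸ h)
    · exact h hrp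
    · exact h hrp
  by_cases hr2 : r = 2
  · subst hr2
    have hp2 : p ≠ 2 := fun h => hrp h.symm
    have h2 : (2 : F) ≠ 0 := Ring.two_ne_zero (by rwa [ringChar.eq F p])
    have hodd : Odd (Fintype.card F) :=
      Nat.odd_iff.2 (FiniteField.odd_card_of_char_ne_two (by rwa [ringChar.eq F p]))
    rw [ellFix_two h2 hQ hd hdim hme hm (by omega) (Or.inl hmd), exists_sq_plus_iff h2 hp2 hodd d (by omega)]
    simp only [ne_eq, hp2, not_false_eq_true, true_and, lt_irrefl, false_and, and_false, or_false,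
      Nat.even_iff, Nat.odd_iff, not_or]
    omega
  have hrodd := hrP.odd_of_ne_two hr2
  have h3 : 2 < r := lt_of_le_of_ne hrP.two_le (Ne.symm hr2)
  have hi0 : 0 < i := by
    rw [← hi']
    exact CfsgLib.LinFix.orderOf_pos_of_ne (F := F) (p := p) hrp
  rw [ellFix_iff_odd hQ hreg (by simp; omega) hrodd,
    ell_fixes_iff_odd (p := p) hrp hr2 hi' hQ hdim hme hm (by omega) (by rw [← card_ell]; exact hrΩ)]
  simp only [hplus, true_iff, ne_eq, hrp, not_false_eq_true, h3, hr2, false_and, true_and, false_or]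
  rcases Nat.even_or_odd i with he | ho
  · have hii : per i = i := if_pos he
    have hno : ¬ Odd i := Nat.not_odd_iff_even.2 he
    simp only [hii, sig, he, hno, false_or, false_and, true_and]
    have hml : m % i = 0 → i ≤ m := fun h => Nat.le_of_dvd (by omega) (Nat.dvd_of_mod_eq_zero h)
    have hsum : m % i = 2 * d % i → i ≤ m → (Odd ((2 * d + m - 2 * (2 * d % i)) / i) ↔
        ¬(Even ((2 * d - 2 * d % i) / i) ↔ Even ((m - 2 * d % i) / i))) := fun h hle => by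
      rw [← Nat.not_even_iff_odd, sum_div_parity hi0 (Nat.mod_le _ _) (h ▸ Nat.mod_le _ _) (Nat.dvd_sub_mod _)
        (h ▸ Nat.dvd_sub_mod _)]
    rw [← Nat.not_even_iff_odd, ← Nat.not_even_iff_odd (n := m / i)]
    constructor
    · rintro (⟨hk, h⟩ | ⟨hle, h | h | ⟨hk, he', h⟩⟩)
      · exact Or.inl ⟨hk, Or.inl h⟩
      · rcases Nat.eq_zero_or_pos (2 * d % i) with hk | hk
        · exact Or.inl ⟨hk, Or.inr h⟩
        · exact Or.inr ⟨hle, Or.inr (Or.inr ⟨h.1, hk, h.2⟩)⟩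
      · exact Or.inr ⟨hle, Or.inl h⟩
      · exact Or.inr ⟨hle, Or.inr (Or.inl ⟨he' ▸ hk, he', (hsum he' hle).2 h⟩)⟩
    · rintro (⟨hk, h | h⟩ | ⟨hle, h | ⟨h0, he', h⟩ | h⟩)
      · exact Or.inl ⟨hk, h⟩
      · exact Or.inr ⟨hml h.1, Or.inl h⟩
      · exact Or.inr ⟨hle, Or.inr (Or.inl h)⟩
      · exact Or.inr ⟨hle, Or.inr (Or.inr ⟨he' ▸ h0, he', (hsum he' hle).1 h⟩)⟩
      · exact Or.inr ⟨hle, Or.inl ⟨h.1, h.2.2⟩⟩
  · have hno : ¬ Even i := Nat.not_even_iff_odd.2 ho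
    simp only [sig, ho, hno, true_or, iff_self, not_true_eq_false, and_false, false_or, false_and, true_and,
      or_false]

end Cfsg.Agent.S5988
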