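import Cfsg.Statements.S5989
import Cfsg.Agent.Lib.LinFix.OrthParaSquare

set_option autoImplicit false
open scoped MatrixGroups
open Cfsg

namespace Cfsg.Agent.S5989

open CfsgLib.OrthInv

/-- The standard plus form has plus type. -/
theorem isPlus_plus {F : Type*} [Field F] (d : ℕ) :
    CfsgLib.RootCount.IsPlus (CfsgLib.OrthCrit.plusForm d F) := by
  refine ⟨LinearMap.range ((LinearEquiv.sumArrowLequivProdArrow (Fin d) (Fin d) F F).symm.toLinearMap ∘ₗ
    LinearMap.inl F (Fin d → F) (Fin d → F)), ?_, ?_⟩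
  · rintro _ ⟨u, rfl⟩
    simp [Cfsg.quadFormPlus]
  · rw [LinearMap.finrank_range_of_inj (f := (LinearEquiv.sumArrowLequivProdArrow (Fin d) (Fin d) F F).symm.toLinearMap ∘ₗ
      LinearMap.inl F (Fin d → F) (Fin d → F))
      ((LinearEquiv.sumArrowLequivProdArrow (Fin d) (Fin d) F F).symm.injective.comp
        (LinearMap.inl_injective (R := F) (M := Fin d → F) (M₂ := Fin d → F)))]
    simp [two_mul]

/-- Elements of prime order of PΩ⁺_n(q), q odd, with no fixed nondegenerate `m`-space of odd dimension. Here `T = PΩ⁺_n(F)`, `n = 2d ≥ 8`, realised through `Ω⁺_n(q)`, the commutator subgroup of the isometry group of `Q = Σ xᵢyᵢ` over the field `F` with `q` elements; an element of `T` of prime order `r` is an element `x` of `Ω⁺_n(q)` with `x^r` scalar and `x` not scalar; `q` and `m` are odd, `1 ≤ m < n/2`. The nondegenerate `m`-spaces (subspaces on which the polar form is nondegenerate) fall into two isometry classes, each an orbit of `T`, and the two actions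 are equivalent; fix one such space `W₀` and let Ω be the set of nondegenerate `m`-spaces isometric to `W₀` (some linear isomorphism preserves `Q`). Let `r` be a prime dividing the size of Ω; for `r ≠ p` let `i` be the multiplicative order of `q` modulo `r`, `c = i` for `i` even and `c = 2i` for `i` odd, and write `k = n mod c`, `ℓ = m mod i`, `ℓ' = m mod c`, `n' = ⌊n/i⌋`, `m' = ⌊m/i⌋`, `t = (r−1)/i`. Then every element of `T` of order `r` fixes a member of Ω if and only if one of: (i) `r = 2`, `n ≡ 2 (mod 4)` and `q ≢ 1 (mod 8)`; (ii) `r ≠ p` odd, `i` odd, `c ≤ m` and `k > ℓ' > 0`; (iii) `r ≠ p` odd, `i` even, and either `k = 0` and `n/i` odd, or `i ≤ m` and `k > ℓ' > 0`. (For `r = p` there is always an element of order `p` fixing no member of Ω.) -/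
theorem result {F : Type*} [Field F] [Fintype F] {p : ℕ} [Fact p.Prime] [CharP F p] {q : ℕ} (hq : Fintype.card F = q)
    (hodd : Odd q) (d m : ℕ) (hd : 4 ≤ d) (hm : Odd m) (hmd : m < d)
    (W₀ : Submodule F (Fin d ⊕ Fin d → F)) (hW₀ : Module.finrank F ↥W₀ = m ∧ Cfsg.Geo.IsNondegenerateOn (QuadraticMap.polar (Cfsg.quadFormPlus d F)) W₀)
    (r : ℕ) [Fact r.Prime]
    (hrΩ : r ∣ Nat.card {W : Submodule F (Fin d ⊕ Fin d → F) // Module.finrank F ↥W = m ∧ Cfsg.Geo.IsNondegenerateOn (QuadraticMap.polar (Cfsg.quadFormPlus d F)) W ∧ Cfsg.Geo.AreIsometricFor (Cfsg.quadFormPlus d F) W W₀})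
    (i c : ℕ) (hi : i = orderOf (q : ZMod r)) (hc : c = if Even i then i else 2 * i) :
    (∀ x : GL (Fin d ⊕ Fin d) F, x ∈ Cfsg.Geo.omegaGL (Cfsg.quadFormPlus d F) →
      (∃ z : F, ((x ^ r : GL (Fin d ⊕ Fin d) F) : Matrix (Fin d ⊕ Fin d) (Fin d ⊕ Fin d) F) = z • (1 : Matrix (Fin d ⊕ Fin d) (Fin d ⊕ Fin d) F)) →
      (∀ z : F, (x : Matrix (Fin d ⊕ Fin d) (Fin d ⊕ Fin d) F) ≠ z • (1 : Matrix (Fin d ⊕ Fin d) (Fin d ⊕ Fin d) F)) →
      ∃ W : Submodule F (Fin d ⊕ Fin d → F), (Module.finrank F ↥W = m ∧ Cfsg.Geo.IsNondegenerateOn (QuadraticMap.polar (Cfsg.quadFormPlus d F)) W ∧ Cfsg.Geo.AreIsometricFor (Cfsg.quadFormPlus d F) W W₀) ∧ W.map (Matrix.toLin' (x : Matrix (Fin d ⊕ Fin d) (Fin d ⊕ Fin d) F)) ≤ W) ↔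
    ((r = 2 ∧ Odd d ∧ q % 8 ≠ 1) ∨
     (r ≠ p ∧ 2 < r ∧ Odd i ∧ c ≤ m ∧ 0 < m % c ∧ m % c < (2 * d) % c) ∨
     (r ≠ p ∧ 2 < r ∧ Even i ∧ (((2 * d) % c = 0 ∧ Odd ((2 * d) / i)) ∨ (i ≤ m ∧ 0 < m % c ∧ m % c < (2 * d) % c)))) := by
  subst hq
  have hp2 : p ≠ 2 := by
    rintro rfl
    obtain ⟨f, -, hf⟩ := FiniteField.card F 2
    rw [hf, Nat.odd_pow_iff f.ne_zero] at hodd
    exact Nat.not_odd_iff_even.2 even_two hodd
  have h2 : (2 : F) ≠ 0 := Ring.two_ne_zero (by rwa [ringChar.eq F p])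
  have hi' : orderOf (Fintype.card F : ZMod r) = i := hi.symm
  have hper : c = per i := hc
  subst hper
  have hmod : 0 < m % per i := by
    obtain ⟨a, ha⟩ : Even (per i) := per_even
    obtain ⟨b, hb⟩ := hm
    have : m % per i % 2 = m % 2 := Nat.mod_mod_of_dvd m ⟨a, by omega⟩
    omega
  have hQ := CfsgLib.OrthCrit.ndPolar_plusForm (F := F) d
  have hplus := isPlus_plus (F := F) d
  have key := fixes_iff (Q := CfsgLib.OrthCrit.plusForm d F) h2 hp2 hQ (d := d) (m := m) (by omega)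
    (by simp [two_mul]) hm hmd (W₀ := W₀) (nd_of_isNondegenerateOn hW₀.2) hW₀.1 (r := r) hi'
    (by simp only [good_iff]; exact hrΩ)
  simp only [good_iff] at key
  refine key.trans ?_
  rw [exists_sq_plus_iff h2 hp2 hodd d (by omega)]
  simp only [not_or, Nat.not_even_iff_odd, hmod, true_and]
  rcases Nat.even_or_odd i with he | ho
  · have hii : per i = i := if_pos he
    have hno : ¬ Odd i := Nat.not_odd_iff_even.2 he
    simp only [hii, he, hno, hplus, true_iff, false_or, Nat.not_even_iff_odd, false_and, and_false, true_and, ne_eq]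
  · have hno : ¬ Even i := Nat.not_even_iff_odd.2 ho
    simp only [ho, hno, hplus, true_or, iff_self, not_true_eq_false, and_false, false_or, false_and, true_and,
      or_false, ne_eq]

end Cfsg.Agent.S5989
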