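import Cfsg.Statements.S5990
import Cfsg.Agent.Lib.LinFix.OrthEllStmt

set_option autoImplicit false
open scoped MatrixGroups
open Cfsg

namespace Cfsg.Agent.S5990

open CfsgLib.OrthInv

/-- Elements of prime order of PΩ⁻_n(q) with no fixed elliptic `m`-space. Here `T = PΩ⁻_n(F)`, `n = 2d ≥ 8`, realised through `Ω⁻_n(q)`, the commutator subgroup of the isometry group of `Q = Σ_{i<d−1} xᵢyᵢ + z₁² + a z₁z₂ + b z₂²` with `z₁² + a z₁z₂ + b z₂²` anisotropic, over the field `F` with `q` elements; an element of `T` of prime order `r` is an element `x` of `Ω⁻_n(q)` with `x^r` scalar and `x` not scalar; a nondegenerate `m`-space (even `m`) is a subspace on which the polar form of `Q` is nondegenerate; it is hyperbolic if it contains an `m/2`-dimensional subspace on which `Q` vanishes, elliptic otherwise. Let `m` be even with `2 ≤ m ≤ n − 2` (no restriction `m < n/2`: fixing an elliptic `m`-space is the same as fixing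 its hyperbolic orthogonal complement) and let `r` be a prime dividing the number of elliptic `m`-spaces, with `r = 2` or `r ≠ p`; for `r ≠ p` let `i` be the multiplicative order of `q` modulo `r`, `c = i` for `i` even and `c = 2i` for `i` odd, and write `k = n mod c`, `ℓ = m mod i`, `ℓ' = m mod c`, `n' = ⌊n/i⌋`, `m' = ⌊m/i⌋`, `t = (r−1)/i`. Then every element of `T` of order `r` fixes some elliptic `m`-space if and only if one of: (i) `r = p = 2` and (`n ≡ 0 (mod 4)` or `m ≡ 2 (mod 4)`); (ii) `r = 2 ≠ p` and (`n ≡ 0 (mod 4)`, or `q ≢ 7 (mod 8)`, or `m ≡ 2 (mod 4)`); (iii) `r ≠ p` odd, `i` odd, and `k = 0` or (`c ≤ m` and `k ≥ ℓ' > 0`); (iv) `r ≠ p` odd, `i` even, and either `k = 0` and (`n/i` even, or `ℓ' = 0` and `m/i` odd), or `k > 0`, `i ≤ m` and (`k > ℓ' > 0`, or `ℓ' = 0` and `m/i` odd, or `k = ℓ'` and `(n + m − 2k)/i` even). (Odd `r = p` is not covered by this statement.) -/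
theorem result {F : Type*} [Field F] [Fintype F] {p : ℕ} [Fact p.Prime] [CharP F p] {q : ℕ} (hq : Fintype.card F = q)
    (d m : ℕ) (hd : 4 ≤ d) (hm : 2 ≤ m) (hme : Even m) (hmn : m + 2 ≤ 2 * d) (a b : F) (hab : ∀ x y : F, x ^ 2 + a * x * y + b * y ^ 2 = 0 → x = 0 ∧ y = 0)
    (r : ℕ) [Fact r.Prime] (hr : r = 2 ∨ r ≠ p)
    (hrΩ : r ∣ Nat.card {W : Submodule F ((Fin (d - 1) ⊕ Fin (d - 1)) ⊕ Fin 2 → F) // Module.finrank F ↥W = m ∧ Cfsg.Geo.IsNondegenerateOn (QuadraticMap.polar (Cfsg.quadFormMinus (d - 1) F a b)) W ∧ ¬ Cfsg.Geo.IsPlusTypeOn (Cfsg.quadFormMinus (d - 1) F a b) W})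
    (i c : ℕ) (hi : i = orderOf (q : ZMod r)) (hc : c = if Even i then i else 2 * i) :
    (∀ x : GL ((Fin (d - 1) ⊕ Fin (d - 1)) ⊕ Fin 2) F, x ∈ Cfsg.Geo.omegaGL (Cfsg.quadFormMinus (d - 1) F a b) →
      (∃ z : F, ((x ^ r : GL ((Fin (d - 1) ⊕ Fin (d - 1)) ⊕ Fin 2) F) : Matrix ((Fin (d - 1) ⊕ Fin (d - 1)) ⊕ Fin 2) ((Fin (d - 1) ⊕ Fin (d - 1)) ⊕ Fin 2) F) = z • (1 : Matrix ((Fin (d - 1) ⊕ Fin (d - 1)) ⊕ Fin 2) ((Fin (d - 1) ⊕ Fin (d - 1)) ⊕ Fin 2) F)) →
      (∀ z : F, (x : Matrix ((Fin (d - 1) ⊕ Fin (d - 1)) ⊕ Fin 2) ((Fin (d - 1) ⊕ Fin (d - 1)) ⊕ Fin 2) F) ≠ z • (1 : Matrix ((Fin (d - 1) ⊕ Fin (d - 1)) ⊕ Fin 2) ((Fin (d - 1) ⊕ Fin (d - 1)) ⊕ Fin 2) F)) →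
      ∃ W : Submodule F ((Fin (d - 1) ⊕ Fin (d - 1)) ⊕ Fin 2 → F), (Module.finrank F ↥W = m ∧ Cfsg.Geo.IsNondegenerateOn (QuadraticMap.polar (Cfsg.quadFormMinus (d - 1) F a b)) W ∧ ¬ Cfsg.Geo.IsPlusTypeOn (Cfsg.quadFormMinus (d - 1) F a b) W) ∧ W.map (Matrix.toLin' (x : Matrix ((Fin (d - 1) ⊕ Fin (d - 1)) ⊕ Fin 2) ((Fin (d - 1) ⊕ Fin (d - 1)) ⊕ Fin 2) F)) ≤ W) ↔
    ((r = 2 ∧ p = 2 ∧ (Even d ∨ m % 4 = 2)) ∨
     (r = 2 ∧ p ≠ 2 ∧ (Even d ∨ q % 8 ≠ 7 ∨ m % 4 = 2)) ∨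
     (r ≠ p ∧ 2 < r ∧ Odd i ∧ ((2 * d) % c = 0 ∨ (c ≤ m ∧ 0 < m % c ∧ m % c ≤ (2 * d) % c))) ∨
     (r ≠ p ∧ 2 < r ∧ Even i ∧
       (((2 * d) % c = 0 ∧ (Even ((2 * d) / i) ∨ (m % c = 0 ∧ Odd (m / i)))) ∨
        (0 < (2 * d) % c ∧ i ≤ m ∧ ((0 < m % c ∧ m % c < (2 * d) % c) ∨ (m % c = 0 ∧ Odd (m / i)) ∨
                                    (m % c = (2 * d) % c ∧ Even ((2 * d + m - 2 * ((2 * d) % c)) / i))))))) := by
  subst hq
  have hc' : c = per i := hc
  subst hc'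
  have hi' : orderOf (Fintype.card F : ZMod r) = i := hi.symm
  have hrP := (Fact.out : r.Prime)
  have hQ := CfsgLib.OrthCrit.ndPolar_minusForm (d - 1) a b hab (CfsgLib.OrthCrit.a_ne_zero_of_anisotropic hab)
  have hplus : ¬ CfsgLib.RootCount.IsPlus (CfsgLib.OrthCrit.minusForm (d - 1) F a b) :=
    CfsgLib.RootCount.not_isPlus_minus hab _
  have hdim : Module.finrank F ((Fin (d - 1) ⊕ Fin (d - 1)) ⊕ Fin 2 → F) = 2 * d := by simp; omega
  have hreg : CfsgLib.OrthCrit.Regular F ((Fin (d - 1) ⊕ Fin (d - 1)) ⊕ Fin 2) :=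
    CfsgLib.OrthCrit.regular_of_card (n := 2 * d) (by simp; omega) (Or.inr (by omega))
  refine (ellFix_def (Q := CfsgLib.OrthCrit.minusForm (d - 1) F a b) r m).trans ?_
  by_cases hr2 : r = 2
  · subst hr2
    simp only [true_and, lt_irrefl, false_and, and_false, or_false]
    by_cases hp2 : p = 2
    · subst hp2
      simp only [ne_eq, not_true_eq_false, false_and, or_false, true_and]
      refine ⟨fun hall => ?_, ellFix_two_char_two hQ hd hdim hme hm (by omega) hplus⟩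
      by_contra hc
      rw [not_or, Nat.not_even_iff_odd] at hc
      refine not_ellFix_char (p := 2) hQ hreg hdim (s := (d - 1) / 2) (by omega)
        (by rw [Nat.odd_iff] at hc; omega)
        (by
          rw [CfsgLib.PrimeFix.Quad.defect_of_not_plus (by rw [hdim]; exact even_two_mul d) hplus]
          omega) hme (Or.inr (by obtain ⟨u, hu⟩ := hme; omega)) hall
    · have h2 : (2 : F) ≠ 0 := Ring.two_ne_zero (by rwa [ringChar.eq F p])
      have hodd : Odd (Fintype.card F) :=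
        Nat.odd_iff.2 (FiniteField.odd_card_of_char_ne_two (by rwa [ringChar.eq F p]))
      rw [ellFix_two h2 hQ hd hdim hme hm (by omega) (Or.inr hplus), exists_sq_minus_iff h2 hodd d (by omega) hab]
      simp only [ne_eq, hp2, not_false_eq_true, true_and, false_and, false_or, not_and_or, Nat.even_iff,
        Nat.odd_iff]
      omega
  have hrp : r ≠ p := hr.resolve_left hr2
  have hrodd := hrP.odd_of_ne_two hr2
  have h3 : 2 < r := lt_of_le_of_ne hrP.two_le (Ne.symm hr2)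
  have hi0 : 0 < i := by
    rw [← hi']
    exact CfsgLib.LinFix.orderOf_pos_of_ne (F := F) (p := p) hrp
  rw [ellFix_iff_odd hQ hreg (by simp) hrodd,
    ell_fixes_iff_odd (p := p) hrp hr2 hi' hQ hdim hme hm (by omega) (by rw [← card_ell]; exact hrΩ)]
  simp only [hplus, false_iff, not_not, ne_eq, hrp, not_false_eq_true, h3, hr2, false_and, true_and, false_or]
  rcases Nat.even_or_odd i with he | ho
  · have hii : per i = i := if_pos he
    have hno : ¬ Odd i := Nat.not_odd_iff_even.2 he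
    simp only [hii, sig, he, hno, false_or, false_and, true_and]
    have hml : m % i = 0 → i ≤ m := fun h => Nat.le_of_dvd (by omega) (Nat.dvd_of_mod_eq_zero h)
    have hsum : m % i = 2 * d % i → i ≤ m → (Even ((2 * d + m - 2 * (2 * d % i)) / i) ↔
        ¬(¬ Even ((2 * d - 2 * d % i) / i) ↔ Even ((m - 2 * d % i) / i))) := fun h hle => by
      rw [sum_div_parity hi0 (Nat.mod_le _ _) (h ▸ Nat.mod_le _ _) (Nat.dvd_sub_mod _) (h ▸ Nat.dvd_sub_mod _)]
      tauto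
    rw [← Nat.not_even_iff_odd (n := m / i)]
    constructor
    · rintro (⟨hk, h⟩ | ⟨hle, h | h | ⟨hk, he', h⟩⟩)
      · exact Or.inl ⟨hk, Or.inl h⟩
      · rcases Nat.eq_zero_or_pos (2 * d % i) with hk | hk
        · exact Or.inl ⟨hk, Or.inr h⟩
        · exact Or.inr ⟨hk, hle, Or.inr (Or.inl h)⟩
      · exact Or.inr ⟨lt_of_le_of_lt (Nat.zero_le _) h.2, hle, Or.inl h⟩
      · exact Or.inr ⟨hk, hle, Or.inr (Or.inr ⟨he', (hsum he' hle).2 h⟩)⟩
    · rintro (⟨hk, h | h⟩ | ⟨hk, hle, h | h | ⟨he', h⟩⟩)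
      · exact Or.inl ⟨hk, h⟩
      · exact Or.inr ⟨hml h.1, Or.inl h⟩
      · exact Or.inr ⟨hle, Or.inr (Or.inl h)⟩
      · exact Or.inr ⟨hle, Or.inl h⟩
      · exact Or.inr ⟨hle, Or.inr (Or.inr ⟨hk, he', (hsum he' hle).1 h⟩)⟩
  · have hno : ¬ Even i := Nat.not_even_iff_odd.2 ho
    simp only [sig, ho, hno, true_or, not_true_eq_false, not_false_eq_true, and_false, false_or, false_and,
      true_and, or_false, iff_true, false_iff, and_true]
    refine or_congr_right (and_congr_right fun _ => ?_)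
    omega

end Cfsg.Agent.S5990
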