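import Cfsg.Statements.S5993
import Cfsg.Agent.Lib.OrthDerange.Semisimple
import Cfsg.Agent.Lib.OrthDerange.UnipCases
import Cfsg.Agent.Lib.LinFix.OrthFieldMain
-- import your own Cfsg.Agent.* helpers here

set_option autoImplicit false
open scoped MatrixGroups
open Cfsg

namespace Cfsg.Agent.S5993

/-- Elements of prime order of Ω_n(q), nq odd, with no fixed elliptic `m`-space. Here `T = Ω_n(F)`, `n = 2d+1 ≥ 7`, `q` odd, realised as the commutator subgroup of the isometry group of `Q = x₀² + Σ xᵢyᵢ` over the field `F` with `q` elements (trivial centre, so its elements of prime order `r` are used directly); a nondegenerate `m`-space (even `m`) is a subspace on which the polar form of `Q` is nondegenerate; it is hyperbolic if it contains an `m/2`-dimensional subspace on which `Q` vanishes, elliptic otherwise. Let `m` be even with `2 ≤ m ≤ n − 1` (no restriction `m < n/2`) and let `r` be a prime dividing the number of elliptic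 `m`-spaces; for `r ≠ p` let `i` be the multiplicative order of `q` modulo `r`, `c = i` for `i` even and `c = 2i` for `i` odd, and write `k = n mod c`, `ℓ' = m mod c`. Then every element of `T` of order `r` fixes some elliptic `m`-space if and only if `r = 2`, or `r ≠ p` is odd and one of: (i) `i` odd, `c ≤ m` and `k > ℓ' > 0`; (ii) `i` even, `i ≤ m`, `k > ℓ'`, and `m/i` odd whenever `ℓ' = 0`. (For `r = p` there is always an element of order `p` fixing no elliptic `m`-space.) -/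
theorem result {F : Type*} [Field F] [Fintype F] {p : ℕ} [Fact p.Prime] [CharP F p] {q : ℕ} (hq : Fintype.card F = q) (hqodd : Odd q)
    (d m : ℕ) (hd : 3 ≤ d) (hm : 2 ≤ m) (hme : Even m) (hmn : m ≤ 2 * d)
    (r : ℕ) [Fact r.Prime]
    (hrΩ : r ∣ Nat.card {W : Submodule F (Unit ⊕ (Fin d ⊕ Fin d) → F) // Module.finrank F ↥W = m ∧ Cfsg.Geo.IsNondegenerateOn (QuadraticMap.polar (Cfsg.quadFormOdd d F)) W ∧ ¬ Cfsg.Geo.IsPlusTypeOn (Cfsg.quadFormOdd d F) W})
    (i c : ℕ) (hi : i = orderOf (q : ZMod r)) (hc : c = if Even i then i else 2 * i) :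
    (∀ x : GL (Unit ⊕ (Fin d ⊕ Fin d)) F, x ∈ Cfsg.Geo.omegaGL (Cfsg.quadFormOdd d F) → orderOf x = r →
      ∃ W : Submodule F (Unit ⊕ (Fin d ⊕ Fin d) → F), (Module.finrank F ↥W = m ∧ Cfsg.Geo.IsNondegenerateOn (QuadraticMap.polar (Cfsg.quadFormOdd d F)) W ∧ ¬ Cfsg.Geo.IsPlusTypeOn (Cfsg.quadFormOdd d F) W) ∧ W.map (Matrix.toLin' (x : Matrix (Unit ⊕ (Fin d ⊕ Fin d)) (Unit ⊕ (Fin d ⊕ Fin d)) F)) ≤ W) ↔
    (r = 2 ∨
     (r ≠ p ∧ 2 < r ∧ Odd i ∧ c ≤ m ∧ 0 < m % c ∧ m % c < (2 * d + 1) % c) ∨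
     (r ≠ p ∧ 2 < r ∧ Even i ∧ i ≤ m ∧ m % c < (2 * d + 1) % c ∧ (0 < m % c ∨ Odd (m / i)))) := by
  subst hq
  have h2 : (2 : F) ≠ 0 := CfsgLib.FormsDisc.two_ne_zero_of_card_odd rfl hqodd
  have hp2 : p ≠ 2 := fun h => h2 (by
    subst h; exact_mod_cast CharP.cast_eq_zero F 2)
  rw [← CfsgLib.LinFix.OrthFieldMain.coe_oddQ] at hrΩ ⊢
  set Q := CfsgLib.LinFix.OrthFieldMain.oddQ d F with hQdef
  have hnd : (QuadraticMap.polarBilin Q).Nondegenerate := CfsgLib.LinFix.OrthFieldMain.oddQ_nd h2 d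
  have hN : CfsgLib.Classical.Quad.NDPolar Q := fun x hx => hnd.1 x hx
  have hdim : Module.finrank F (Unit ⊕ (Fin d ⊕ Fin d) → F) = 2 * d + 1 := by simp; omega
  obtain ⟨W₀, hW₀, hW₀m, hτ, hclass⟩ := CfsgLib.OrthDerange.exists_class h2 Q hnd hme (by omega)
    (by simp; omega) False
  simp only [iff_false] at hclass
  by_cases hr2 : r = 2
  · refine iff_of_true (fun x hx hxo => ?_) (Or.inl hr2)
    obtain ⟨hiso, hdet, hord⟩ := CfsgLib.OrthDerange.of_mem_omega h2 Q hnd hx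
    obtain ⟨hT, hne⟩ := hord r hxo (by omega)
    have hTT : ∀ v, Matrix.toLin' (x : Matrix (Unit ⊕ (Fin d ⊕ Fin d)) (Unit ⊕ (Fin d ⊕ Fin d)) F) (Matrix.toLin' (x : Matrix (Unit ⊕ (Fin d ⊕ Fin d)) (Unit ⊕ (Fin d ⊕ Fin d)) F) v) = v := fun v => by
      rw [hr2, sq] at hT
      exact LinearMap.congr_fun hT v
    obtain ⟨W, hW, hWi⟩ := CfsgLib.OrthDerange.involution_fixes h2 hN hdim (by omega) hmn hW₀ hW₀m
      hiso hTT hdet hne
    exact ⟨W, (hclass W).1 hW, hWi.map_le⟩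
  by_cases hrp : r = p
  · subst hrp
    refine iff_of_false (fun H => ?_) (by rintro (h | h | h) <;> [exact hr2 h; exact h.1 rfl; exact h.1 rfl])
    by_cases hm4 : m % 4 = 0
    · obtain ⟨x, hx, hxo, -, hxW⟩ := CfsgLib.OrthDerange.exists_plus_only hr2 Q hnd hm4
        (by simp; omega) (by simp; omega)
      obtain ⟨W, ⟨hWd, hWn, hWi⟩, hWP⟩ := CfsgLib.OrthDerange.unpack _ (H x hx hxo)
      exact hWP (hxW W hWd hWn hWi)
    · obtain ⟨k, hk⟩ := hme
      have hp3 : 3 ≤ r := by have := (Fact.out : r.Prime).two_le; omega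
      refine hm4 (CfsgLib.OrthDerange.four_dvd_of_nu_odd hp3 (n := 2 * d + 1) (by omega) (by omega) (by omega)
        fun μ h1 h3 h4 => CfsgLib.OrthDerange.exists_nu_of_fixes hr2 Q hnd ⟨k, hk⟩ (by simp; omega)
          (fun x hx ho _ => by
            obtain ⟨W, hW, -⟩ := CfsgLib.OrthDerange.unpack _ (H x hx ho)
            exact ⟨W, hW⟩) μ h1 h3 (by simp [h4]; omega))
  have hodd : Odd r := (Fact.out : r.Prime).odd_of_ne_two hr2
  have hiff := CfsgLib.OrthDerange.fixes_iff_even (p := p) h2 hrp hr2 hi.symm hN hdim hme (by omega)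
    hmn hW₀ hW₀m (by rwa [Nat.card_congr (Equiv.subtypeEquivRight hclass)])
  have hequiv : (∀ x : GL (Unit ⊕ (Fin d ⊕ Fin d)) F, x ∈ Cfsg.Geo.omegaGL ⇑Q → orderOf x = r →
      ∃ W, CfsgLib.OrthInv.Good Q W₀ m W ∧ W.map (Matrix.toLin' (x : Matrix (Unit ⊕ (Fin d ⊕ Fin d)) (Unit ⊕ (Fin d ⊕ Fin d)) F)) ≤ W) ↔
      (∀ T : Module.End F (Unit ⊕ (Fin d ⊕ Fin d) → F), (∀ v, Q (T v) = Q v) → T ^ r = 1 → T ≠ 1 →
        ∃ W, CfsgLib.OrthInv.Good Q W₀ m W ∧ CfsgLib.LinFix.Inv T W) := by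
    constructor
    · intro H T hiso hT hne
      obtain ⟨x, hx, hxo, hxT⟩ := CfsgLib.OrthDerange.exists_gl h2 Q hnd (by simp; omega) hiso hodd hT hne
      obtain ⟨W, hW, hWi⟩ := H x hx hxo
      exact ⟨W, hW, fun v hv => hxT ▸ hWi ⟨v, hv, rfl⟩⟩
    · intro H x hx hxo
      obtain ⟨hiso, -, hord⟩ := CfsgLib.OrthDerange.of_mem_omega h2 Q hnd hx
      obtain ⟨hT, hne⟩ := hord r hxo (Fact.out : r.Prime).one_lt
      obtain ⟨W, hW, hWi⟩ := H _ hiso hT hne
      exact ⟨W, hW, hWi.map_le⟩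
  simp only [hclass] at hequiv hiff
  rw [hequiv, hiff, hτ, show CfsgLib.OrthInv.per i = c from hc.symm]
  have hr3 : 2 < r := by have := (Fact.out : r.Prime).two_le; omega
  have hi0 : 0 < i := by
    rw [hi]; exact CfsgLib.LinFix.orderOf_pos_of_ne (F := F) (p := p) hrp
  rcases Nat.even_or_odd i with he | ho
  · rw [if_pos he] at hc
    subst hc
    simp only [Nat.not_odd_iff_even.2 he, he, hr2, hr3, hrp, ne_eq, not_false_iff, false_or, true_and, false_and, false_iff, Nat.not_even_iff_odd]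
  · have hne : ¬ Even i := Nat.not_even_iff_odd.2 ho
    simp only [ho, hne, hr2, hr3, hrp, ne_eq, not_false_iff, true_or, false_or, true_and, false_and, or_false, not_true, false_iff, and_false]
    tauto


end Cfsg.Agent.S5993
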