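import Cfsg.Statements.S5997
import Cfsg.Agent.Lib.TwoDim.Basic

set_option autoImplicit false
open scoped MatrixGroups
open Cfsg

namespace Cfsg.Agent.S5997

open scoped MatrixGroups
open CfsgLib.TwoDim

variable {F : Type*} [Field F]

/-- A quaternion subgroup is generated by two anticommuting square roots of minus one. -/
theorem exists_quaternion_generators (R : Subgroup (GL (Fin 2) F))
    (hR : Nonempty (↥R ≃* QuaternionGroup 2)) :
    ∃ u v : GL (Fin 2) F, u ∈ R ∧ v ∈ R ∧
      (u : Matrix (Fin 2) (Fin 2) F) * (u : Matrix (Fin 2) (Fin 2) F) = -1 ∧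
      (v : Matrix (Fin 2) (Fin 2) F) * (v : Matrix (Fin 2) (Fin 2) F) = -1 ∧
      (v : Matrix (Fin 2) (Fin 2) F) * (u : Matrix (Fin 2) (Fin 2) F) =
        -((u : Matrix (Fin 2) (Fin 2) F) * (v : Matrix (Fin 2) (Fin 2) F)) ∧
      (u : Matrix (Fin 2) (Fin 2) F) * (v : Matrix (Fin 2) (Fin 2) F) ≠
        (v : Matrix (Fin 2) (Fin 2) F) * (u : Matrix (Fin 2) (Fin 2) F) ∧
      (∀ x ∈ R, ∃ k : ℕ, x = u ^ k ∨ x = v * u ^ k) := by
  obtain ⟨e⟩ := hR
  let ψ : QuaternionGroup 2 →* GL (Fin 2) F := R.subtype.comp e.symm.toMonoidHom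
  have hψ : Function.Injective ψ := Subtype.val_injective.comp e.symm.injective
  let ρ : QuaternionGroup 2 →* Matrix (Fin 2) (Fin 2) F :=
    (Units.coeHom _).comp ψ
  have hρ : Function.Injective ρ := Units.val_injective.comp hψ
  set A : QuaternionGroup 2 := QuaternionGroup.a 1 with hA
  set B : QuaternionGroup 2 := QuaternionGroup.xa 0 with hB
  have hne : ρ A * ρ B ≠ ρ B * ρ A := by
    rw [← map_mul, ← map_mul]
    exact fun h => absurd (hρ h) (by decide)
  set Z := ρ (A * A) with hZdef
  have hZA : ρ A * Z = Z * ρ A := by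
    rw [hZdef, ← map_mul, ← map_mul, show A * (A * A) = A * A * A by decide]
  have hZB : ρ B * Z = Z * ρ B := by
    rw [hZdef, ← map_mul, ← map_mul, show B * (A * A) = A * A * B by decide]
  have hZ : Z = -1 := by
    by_cases hs : ∃ c : F, Z = c • 1
    · obtain ⟨c, hc⟩ := hs
      have h1 : ρ (A * A * (A * A)) = 1 := by rw [show A * A * (A * A) = 1 by decide, map_one]
      rw [map_mul, ← hZdef, hc] at h1
      have h2 := congrFun (congrFun h1 0) 0
      simp at h2
      rcases mul_self_eq_one_iff.1 h2 with rfl | rfl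
      · exfalso
        rw [one_smul, hZdef, ← map_one ρ] at hc
        exact absurd (hρ hc) (by decide)
      · rw [hc, neg_smul, one_smul]
    · push Not at hs
      obtain ⟨a, b, hab⟩ := exists_eq_add_smul Z _ hs hZA
      obtain ⟨c, d, hcd⟩ := exists_eq_add_smul Z _ hs hZB
      exfalso
      refine hne ?_
      rw [hab, hcd]
      simp [add_mul, mul_add, smul_smul]
      module
  refine ⟨ψ A, ψ B, (e.symm A).2, (e.symm B).2, ?_, ?_, ?_, hne, fun x hx => ?_⟩
  · change ρ A * ρ A = -1
    rw [← map_mul, ← hZdef, hZ]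
  · change ρ B * ρ B = -1
    rw [← map_mul, show B * B = A * A by decide, ← hZdef, hZ]
  · change ρ B * ρ A = -(ρ A * ρ B)
    rw [← map_mul, show B * A = A * A * (A * B) by decide, map_mul, ← hZdef, hZ, map_mul, neg_one_mul]
  · have hx' : x = ψ (e ⟨x, hx⟩) := by simp [ψ]
    have hall : ∀ g : QuaternionGroup 2, ∃ k : Fin 4, g = A ^ (k : ℕ) ∨ g = B * A ^ (k : ℕ) := by
      decide
    obtain ⟨k, hk⟩ := hall (e ⟨x, hx⟩)
    refine ⟨k, ?_⟩
    rw [hx']
    rcases hk with hk | hk
    · left; rw [hk, map_pow]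
    · right; rw [hk, map_mul, map_pow]

/-- An element of prime order at least five normalising the quaternion group commutes with it. -/
theorem fix_of_normalize (R : Subgroup (GL (Fin 2) F)) (hR : Nat.card R = 8)
    (h1 : ∀ w ∈ R, -w ∈ R) (hneg : ∀ w : GL (Fin 2) F, -w ≠ w)
    (y : GL (Fin 2) F) (hy : ∀ w ∈ R, y * w * y⁻¹ ∈ R) {r : ℕ} (hr : r.Prime) (hr5 : 5 ≤ r)
    (hyr : y ^ r = 1) (w : GL (Fin 2) F) (hw : w ∈ R) : y * w * y⁻¹ = w := by
  by_contra hne
  set f : GL (Fin 2) F → GL (Fin 2) F := fun z => y * z * y⁻¹ with hf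
  have hit : ∀ (k : ℕ) (z : GL (Fin 2) F), f^[k] z = y ^ k * z * (y ^ k)⁻¹ := by
    intro k
    induction k with
    | zero => simp
    | succ k ih =>
      intro z
      rw [Function.iterate_succ_apply', ih, hf]
      simp only [pow_succ', mul_inv_rev, mul_assoc]
  have hper : Function.IsPeriodicPt f r w := by
    change f^[r] w = w
    rw [hit, hyr]; simp
  have hmin : Function.minimalPeriod f w = r := by
    rcases (Nat.dvd_prime hr).1 hper.minimalPeriod_dvd with h | h
    · exact absurd (Function.minimalPeriod_eq_one_iff_isFixedPt.1 h) hne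
    · exact h
  have hmem : ∀ k, f^[k] w ∈ R := by
    intro k
    induction k with
    | zero => exact hw
    | succ k ih => rw [Function.iterate_succ_apply']; exact hy _ ih
  have hfneg : ∀ k, f^[k] (-w) = -(f^[k] w) := by
    intro k
    simp [hit]
  have hinj : ∀ a b : ℕ, a < r → b < r → f^[a] w = f^[b] w → a = b := by
    intro a b ha hb hab
    exact Function.iterate_injOn_Iio_minimalPeriod (by simpa [hmin] using ha)
      (by simpa [hmin] using hb) hab
  have hno : ∀ a b : ℕ, a < r → b < r → f^[a] w ≠ -(f^[b] w) := by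
    intro a b ha hb hab
    -- a point in the orbit opposite to itself
    set d := a + (r - b) with hd
    have hd1 : f^[d] w = -w := by
      rw [hd, Nat.add_comm, Function.iterate_add_apply, hab, ← hfneg b,
        ← Function.iterate_add_apply, Nat.sub_add_cancel hb.le, hfneg, hper.eq]
    have hd2 : Function.IsPeriodicPt f (2 * d) w := by
      change f^[2 * d] w = w
      rw [two_mul, Function.iterate_add_apply, hd1, hfneg, hd1, neg_neg]
    have h3 := hd2.minimalPeriod_dvd
    rw [hmin] at h3
    have h4 : r ∣ d := ((Nat.coprime_primes hr Nat.prime_two).2 (by omega)).dvd_of_dvd_mul_left h3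
    obtain ⟨m, hm⟩ := h4
    have h5 : f^[d] w = w := by rw [hm]; exact hper.mul_const m
    exact hneg w (hd1.symm.trans h5)
  let ι : Fin r × Bool → R := fun x =>
    if x.2 then ⟨f^[(x.1 : ℕ)] w, hmem _⟩ else ⟨-(f^[(x.1 : ℕ)] w), h1 _ (hmem _)⟩
  have hι : Function.Injective ι := by
    rintro ⟨a, s⟩ ⟨b, t⟩ hab
    cases s <;> cases t <;> simp [ι, Subtype.ext_iff] at hab
    · exact Prod.ext (Fin.ext (hinj a b a.2 b.2 hab)) rfl
    · exact absurd hab.symm (hno b a b.2 a.2)
    · exact absurd hab (hno a b a.2 b.2)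
    · exact Prod.ext (Fin.ext (hinj a b a.2 b.2 hab)) rfl
  haveI : Finite R := Nat.finite_of_card_ne_zero (by omega)
  have := Nat.card_le_card_of_injective ι hι
  simp [Nat.card_prod, hR] at this
  omega

/-- Elements of prime order of PSL_2(p) and the normalizer of a quaternion subgroup. Here `T = PSL_2(F)` for the field `F` with `p` elements, `p ≥ 5` prime; `R` is a subgroup of GL_2(F) isomorphic to the quaternion group of order 8 (an absolutely irreducible 2-group of symplectic type), and `H` is the subgroup of matrices of determinant 1 normalizing `R` — a subgroup of type 2^{1+2}.O₂⁻(2), isomorphic modulo scalars to A₄ or S₄ (maximality is not assumed). Ω is the set of cosets of `H` in `T`, so an element of `T` of prime order `r` (a matrix `x` of determinant 1 with `x^r` scalar, `x` not scalar) fixes a point of Ω exactly when some conjugate of `x` by a matrix of determinant 1 normalizes `R`. Let `r` be a prime dividing the index of `H`. Then every element of `T` of order `r` fixes a point of Ω if and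 only if `r = 2` or `r = 3`. -/
theorem result {F : Type*} [Field F] [Fintype F] {p : ℕ} [Fact p.Prime] [CharP F p] (hF : Fintype.card F = p) (hp : 5 ≤ p)
    (R : Subgroup (GL (Fin 2) F)) (hR : Nonempty (↥R ≃* QuaternionGroup 2))
    (r : ℕ) [Fact r.Prime]
    (hΩ : r ∣ (Cfsg.Geo.subgroupNormalizer R).relIndex (Cfsg.Geo.specialLinear (Fin 2) F)) :
    (∀ x ∈ Cfsg.Geo.specialLinear (Fin 2) F, (∃ z : F, ((x ^ r : GL (Fin 2) F) : Matrix (Fin 2) (Fin 2) F) = z • (1 : Matrix (Fin 2) (Fin 2) F)) →
      (∀ z : F, (x : Matrix (Fin 2) (Fin 2) F) ≠ z • (1 : Matrix (Fin 2) (Fin 2) F)) →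
      ∃ g ∈ Cfsg.Geo.specialLinear (Fin 2) F, g⁻¹ * x * g ∈ Cfsg.Geo.subgroupNormalizer R) ↔ (r = 2 ∨ r = 3) := by
  obtain ⟨u, v, hu, hv, hu2, hv2, hvu, hne, hgen⟩ := exists_quaternion_generators R hR
  set U : Matrix (Fin 2) (Fin 2) F := (u : Matrix (Fin 2) (Fin 2) F) with hU
  set V : Matrix (Fin 2) (Fin 2) F := (v : Matrix (Fin 2) (Fin 2) F) with hV
  have hpp : p.Prime := Fact.out
  have h2 : (2 : F) ≠ 0 := by
    intro h
    have := (CharP.cast_eq_zero_iff F p 2).1 (by exact_mod_cast h)
    have := Nat.le_of_dvd (by norm_num) this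
    omega
  have h3 : (3 : F) ≠ 0 := by
    intro h
    have := (CharP.cast_eq_zero_iff F p 3).1 (by exact_mod_cast h)
    have := Nat.le_of_dvd (by norm_num) this
    omega
  have hUns : ∀ c : F, U ≠ c • 1 := by
    intro c hc
    exact hne (by rw [hc]; simp)
  obtain ⟨htU, hdU⟩ := trace_det_of_sq U hUns (t := 0) (d := 1) (by rw [hu2]; simp)
  have hR8 : Nat.card R = 8 := by
    obtain ⟨e⟩ := hR
    rw [Nat.card_congr e.toEquiv, Nat.card_eq_fintype_card]
    rfl
  have hu2' : u * u = -1 := Units.ext hu2
  have hnegR : ∀ w ∈ R, -w ∈ R := by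
    intro w hw
    have := R.mul_mem (R.mul_mem hu hu) hw
    rwa [hu2', neg_one_mul] at this
  have hmemN : ∀ y : GL (Fin 2) F, (∀ w ∈ R, y * w * y⁻¹ ∈ R) →
      y ∈ Cfsg.Geo.subgroupNormalizer R := by
    intro y hy
    haveI : Finite R := Nat.finite_of_card_ne_zero (by omega)
    have hinj : Function.Injective (fun w : R => (⟨y * w * y⁻¹, hy _ w.2⟩ : R)) := by
      intro a b h
      exact Subtype.ext (mul_left_cancel (mul_right_cancel (congrArg Subtype.val h)))
    change y ∈ Subgroup.normalizer (R : Set (GL (Fin 2) F))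
    rw [Subgroup.mem_normalizer_iff]
    intro w
    refine ⟨hy w, fun hw => ?_⟩
    obtain ⟨a, ha⟩ := Finite.surjective_of_injective hinj ⟨_, hw⟩
    have : (a : GL (Fin 2) F) = w := by simpa [Subtype.ext_iff] using ha
    exact this ▸ a.2
  -- a conjugating element of determinant one
  have key : ∀ (x : GL (Fin 2) F) (M : Matrix (Fin 2) (Fin 2) F) (z : GL (Fin 2) F),
      x ∈ Cfsg.Geo.specialLinear (Fin 2) F → z ∈ Cfsg.Geo.subgroupNormalizer R →
      (z : Matrix (Fin 2) (Fin 2) F) = M →
      (∀ c : F, (x : Matrix (Fin 2) (Fin 2) F) ≠ c • 1) → (∀ c : F, M ≠ c • 1) →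
      M.trace = (x : Matrix (Fin 2) (Fin 2) F).trace → M.det = 1 → 4 - M.trace ^ 2 ≠ 0 →
      ∃ g ∈ Cfsg.Geo.specialLinear (Fin 2) F, g⁻¹ * x * g ∈ Cfsg.Geo.subgroupNormalizer R := by
    intro x M z hx hz hzM hxns hMns htr hdet hdisc
    have hxdet : (x : Matrix (Fin 2) (Fin 2) F).det = 1 := by
      have := congrArg Units.val (MonoidHom.mem_ker.1 hx)
      simpa using this
    obtain ⟨g, hg1, hg2⟩ := exists_det_one_conj M _ hMns hxns htr (hdet.trans hxdet.symm)
      (fun w _ => exists_binary_eq h2 (by rw [hdet, mul_one]; exact hdisc) w)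
    let G : GL (Fin 2) F := Matrix.GeneralLinearGroup.mkOfDetNeZero g (by rw [hg1]; exact one_ne_zero)
    have hG : G ∈ Cfsg.Geo.specialLinear (Fin 2) F := by
      refine MonoidHom.mem_ker.2 (Units.ext ?_)
      simpa [G] using hg1
    refine ⟨G⁻¹, inv_mem hG, ?_⟩
    have hGx : G * x = z * G := Units.ext (by rw [Units.val_mul, Units.val_mul, hzM]; exact hg2)
    rw [inv_inv, hGx, mul_assoc, mul_inv_cancel, mul_one]
    exact hz
  constructor
  · intro hel
    by_contra hr
    push Not at hr
    have hrp : r.Prime := Fact.out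
    have hr5 : 5 ≤ r := by
      have h2' := hrp.two_le
      have h4 : r ≠ 4 := fun h => absurd (h ▸ hrp) (by decide)
      omega
    have hdvd : r ∣ Nat.card (Cfsg.Geo.specialLinear (Fin 2) F) :=
      hΩ.trans (Subgroup.index_dvd_card _)
    obtain ⟨x, hxo⟩ := exists_prime_orderOf_dvd_card' r hdvd
    have hxpow : (x : GL (Fin 2) F) ^ r = 1 := by
      rw [← hxo, ← Subgroup.orderOf_coe, pow_orderOf_eq_one]
    have hxdet : ((x : GL (Fin 2) F) : Matrix (Fin 2) (Fin 2) F).det = 1 := by
      have := congrArg Units.val (MonoidHom.mem_ker.1 x.2)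
      simpa using this
    have hns : ∀ z : F, ((x : GL (Fin 2) F) : Matrix (Fin 2) (Fin 2) F) ≠ z • 1 := by
      intro z hz
      have h1 : z * z = 1 := by
        rw [hz] at hxdet
        simpa [Matrix.det_smul, sq] using hxdet
      have h3 : (x : GL (Fin 2) F) * (x : GL (Fin 2) F) = 1 := by
        refine Units.ext ?_
        rw [Units.val_mul, hz, Units.val_one]
        simp [smul_smul, h1]
      have h4 := orderOf_dvd_of_pow_eq_one (x := (x : GL (Fin 2) F)) (n := 2) (by rw [pow_two, h3])
      rw [Subgroup.orderOf_coe, hxo] at h4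
      have := Nat.le_of_dvd (by norm_num) h4
      omega
    obtain ⟨g, hg, hgH⟩ := hel x x.2 ⟨1, by rw [one_smul, hxpow]; rfl⟩ hns
    set y := g⁻¹ * (x : GL (Fin 2) F) * g with hy
    have hyR : ∀ w ∈ R, y * w * y⁻¹ ∈ R := fun w hw => (Subgroup.mem_normalizer_iff.1 hgH w).1 hw
    have hyr : y ^ r = 1 := by
      have h := conj_pow (a := g⁻¹) (b := (x : GL (Fin 2) F)) (i := r)
      rw [inv_inv, hxpow, mul_one, inv_mul_cancel] at h
      exact h
    have hnegw : ∀ w : GL (Fin 2) F, -w ≠ w := by
      intro w hw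
      have h1 : (-1 : GL (Fin 2) F) = 1 := mul_right_cancel (b := w) (by rw [neg_one_mul, one_mul, hw])
      have h2' : ((-1 : Matrix (Fin 2) (Fin 2) F)) 0 0 = (1 : Matrix (Fin 2) (Fin 2) F) 0 0 := by
        rw [← Units.val_one, ← Units.val_neg, h1]
      simp at h2'
      exact h2 (by linear_combination -h2')
    have hfix := fix_of_normalize R hR8 hnegR hnegw y hyR hrp hr5 hyr
    have hcu : (y : Matrix (Fin 2) (Fin 2) F) * U = U * (y : Matrix (Fin 2) (Fin 2) F) :=
      congrArg Units.val (mul_inv_eq_iff_eq_mul.1 (hfix u hu))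
    have hcv : (y : Matrix (Fin 2) (Fin 2) F) * V = V * (y : Matrix (Fin 2) (Fin 2) F) :=
      congrArg Units.val (mul_inv_eq_iff_eq_mul.1 (hfix v hv))
    obtain ⟨a, b, hab⟩ := exists_eq_add_smul U _ hUns hcu
    have hb : b = 0 := by
      by_contra hb
      refine hne (smul_right_injective (Matrix (Fin 2) (Fin 2) F) hb ?_)
      rw [hab, add_mul, mul_add] at hcv
      simpa [smul_mul_assoc, mul_smul_comm] using hcv
    rw [hb, zero_smul, add_zero] at hab
    refine hns a ?_
    have hx' : (x : GL (Fin 2) F) = g * y * g⁻¹ := by rw [hy]; group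
    rw [hx', Units.val_mul, Units.val_mul, hab, mul_smul_comm, mul_one, smul_mul_assoc, ← Units.val_mul,
      mul_inv_cancel, Units.val_one]
  · rintro (rfl | rfl) x hx ⟨z, hz⟩ hxns
    · refine key x U u hx (Subgroup.le_normalizer hu) rfl hxns hUns ?_ hdU ?_
      · rw [htU]
        have hd : (x : Matrix (Fin 2) (Fin 2) F).det = 1 := by
          simpa using congrArg Units.val (MonoidHom.mem_ker.1 hx)
        have h := sq_eq (x : Matrix (Fin 2) (Fin 2) F)
        rw [Units.val_pow_eq_pow_val, pow_two, h, hd] at hz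
        exact (coeff_eq_zero _ hxns (a := (x : Matrix (Fin 2) (Fin 2) F).trace) (b := -1 - z)
          (by rw [sub_smul, neg_smul]; linear_combination (norm := module) hz)).1.symm
      · rw [htU]
        intro h
        exact h2 (mul_self_eq_zero.1 (by linear_combination h))
    · set X : Matrix (Fin 2) (Fin 2) F := (x : Matrix (Fin 2) (Fin 2) F) with hX
      have hd : X.det = 1 := by
        simpa using congrArg Units.val (MonoidHom.mem_ker.1 hx)
      set t := X.trace with ht
      have h := sq_eq X
      rw [hd, one_smul, ← ht] at h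
      have h' : X ^ 3 = (t ^ 2 - 1) • X - t • 1 := by
        rw [pow_succ, pow_two, h, sub_mul, smul_mul_assoc, h, one_mul]
        module
      rw [Units.val_pow_eq_pow_val, ← hX, h'] at hz
      obtain ⟨ht2, -⟩ := coeff_eq_zero X hxns (a := t ^ 2 - 1) (b := -t - z)
        (by linear_combination (norm := module) hz)
      have ht2' : t ^ 2 = 1 := sub_eq_zero.1 ht2
      set W : Matrix (Fin 2) (Fin 2) F := 1 + U + V + U * V with hW
      set M : Matrix (Fin 2) (Fin 2) F := (t / 2) • W with hM
      have uu' : ∀ Y : Matrix (Fin 2) (Fin 2) F, U * (U * Y) = -Y := fun Y => by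
        rw [← mul_assoc, hu2, neg_one_mul]
      have vv' : ∀ Y : Matrix (Fin 2) (Fin 2) F, V * (V * Y) = -Y := fun Y => by
        rw [← mul_assoc, hv2, neg_one_mul]
      have vu' : ∀ Y : Matrix (Fin 2) (Fin 2) F, V * (U * Y) = -(U * (V * Y)) := fun Y => by
        rw [← mul_assoc, hvu, neg_mul, mul_assoc]
      have hWu : W * U = V * W := by
        rw [hW]
        simp only [add_mul, mul_add, one_mul, mul_one, mul_assoc, hu2, hv2, hvu, mul_neg, neg_mul,
          neg_neg, uu', vv', vu']
        abel
      have hWv : W * V = (U * V) * W := by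
        rw [hW]
        simp only [add_mul, mul_add, one_mul, mul_one, mul_assoc, hu2, hv2, hvu, mul_neg, neg_mul,
          neg_neg, uu', vv', vu']
        abel
      have hW2 : W * W = (2 : F) • W - (4 : F) • 1 := by
        rw [hW]
        simp only [add_mul, mul_add, one_mul, mul_one, mul_assoc, hu2, hv2, hvu, mul_neg, neg_mul,
          neg_neg, uu', vv', vu']
        module
      have hWns : ∀ c : F, W ≠ c • 1 := by
        intro c hc
        rw [hc, smul_mul_assoc, mul_smul_comm, one_mul, mul_one] at hWu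
        by_cases hc0 : c = 0
        · subst hc0
          rw [zero_smul] at hc
          rw [hc, mul_zero, smul_zero, zero_sub] at hW2
          have h4 := congrFun (congrFun hW2 0) 0
          simp at h4
          exact h2 (mul_self_eq_zero.1 (by linear_combination h4))
        · have huv : U = V := smul_right_injective (Matrix (Fin 2) (Fin 2) F) hc0 hWu
          exact hne (by rw [huv])
      obtain ⟨htW, hdW⟩ := trace_det_of_sq W hWns hW2
      have htne : t ≠ 0 := by
        intro h0
        rw [h0] at ht2'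
        simp at ht2'
      have hMns : ∀ c : F, M ≠ c • 1 := by
        intro c hc
        refine hWns (2 / t * c) ?_
        rw [← smul_smul, ← hc, hM, smul_smul]
        field_simp
        simp
      have htM : M.trace = t := by
        rw [hM, Matrix.trace_smul, htW, smul_eq_mul]; field_simp
      have hdM : M.det = 1 := by
        rw [hM, Matrix.det_smul, hdW, Fintype.card_fin]
        field_simp
        linear_combination 4 * ht2'
      let m : GL (Fin 2) F := Matrix.GeneralLinearGroup.mkOfDetNeZero M (by rw [hdM]; exact one_ne_zero)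
      have hmu : m * u * m⁻¹ = v := by
        refine mul_inv_eq_iff_eq_mul.2 (Units.ext ?_)
        change M * U = V * M
        rw [hM, smul_mul_assoc, hWu, mul_smul_comm]
      have hmv : m * v * m⁻¹ = u * v := by
        refine mul_inv_eq_iff_eq_mul.2 (Units.ext ?_)
        change M * V = U * V * M
        rw [hM, smul_mul_assoc, hWv, mul_smul_comm]
      have hm : m ∈ Cfsg.Geo.subgroupNormalizer R := by
        refine hmemN m fun w hw => ?_
        obtain ⟨k, hk | hk⟩ := hgen w hw
        · rw [hk, ← conj_pow, hmu]; exact R.pow_mem hv k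
        · rw [hk, conj_mul.symm, ← conj_pow, hmu, hmv]
          exact R.mul_mem (R.mul_mem hu hv) (R.pow_mem hv k)
      refine key x M m hx hm rfl hxns hMns htM hdM ?_
      rw [htM, ht2']
      norm_num
      exact h3

end Cfsg.Agent.S5997
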