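import Cfsg.Statements.S6000
import Cfsg.Agent.Lib.LinFix.Pauli4
import Cfsg.Agent.Lib.LinFix.SmallClasses
-- import your own Cfsg.Agent.* helpers here

set_option autoImplicit false
open scoped MatrixGroups
open Cfsg

namespace Cfsg.Agent.S6000

open Matrix Polynomial CfsgLib.TwoSymp CfsgLib.LinFix

variable {F : Type*} [Field F]

local notation "M4" => Matrix (Fin 4) (Fin 4) F

theorem mem_specialLinear_iff {n : ℕ} {x : GL (Fin n) F} :
    x ∈ Cfsg.Geo.specialLinear (Fin n) F ↔ (x : Matrix (Fin n) (Fin n) F).det = 1 := by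
  rw [Cfsg.Geo.specialLinear, MonoidHom.mem_ker, Units.ext_iff]
  rfl

/-- The test element of order five with trace `2 + s`. -/
def pentagon (s : F) : M4 := !![0, -1, 0, 0; 1, s, 0, 0; 0, 0, 1, 0; 0, 0, 0, 1]

theorem pentagon_facts {s : F} (hs : s ^ 2 + s - 1 = 0) :
    (pentagon s).det = 1 ∧ pentagon s ^ 5 = 1 ∧ (pentagon s).trace = 2 + s ∧
      (pentagon s ^ 4).trace = 2 + s := by
  have e : pentagon s * pentagon s = !![-1, -s, 0, 0; s, -s, 0, 0; 0, 0, 1, 0; 0, 0, 0, 1] := by
    ext i j
    fin_cases i <;> fin_cases j <;> simp [pentagon, Matrix.mul_apply, Fin.sum_univ_four] <;> grind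
  have e4 : pentagon s ^ 4 = !![s, 1, 0, 0; -1, 0, 0, 0; 0, 0, 1, 0; 0, 0, 0, 1] := by
    rw [show pentagon s ^ 4 = pentagon s * pentagon s * (pentagon s * pentagon s) by noncomm_ring, e]
    ext i j
    fin_cases i <;> fin_cases j <;> simp [Matrix.mul_apply, Fin.sum_univ_four] <;> grind
  refine ⟨?_, ?_, ?_, ?_⟩
  · simp [pentagon, Matrix.det_succ_row_zero, Fin.sum_univ_succ, Fin.succAbove]
  · rw [show pentagon s ^ 5 = pentagon s ^ 4 * pentagon s from pow_succ _ _, e4]
    ext i j
    fin_cases i <;> fin_cases j <;> simp [pentagon, Matrix.mul_apply, Fin.sum_univ_four]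
  · simp [pentagon, Matrix.trace, Fin.sum_univ_four]; ring
  · simp [e4, Matrix.trace, Fin.sum_univ_four]; ring

/-- Five is a square in a prime field of characteristic one or four modulo five. -/
theorem exists_sqrt_five {p : ℕ} [Fact p.Prime] [CharP F p] (hp2 : p ≠ 2) (h : p % 5 = 1 ∨ p % 5 = 4) :
    ∃ t : F, t ^ 2 = 5 := by
  haveI : Fact (Nat.Prime 5) := ⟨Nat.prime_five⟩
  have h1 : IsSquare (p : ZMod 5) := by
    rw [← ZMod.natCast_mod]
    rcases h with h | h <;> rw [h]
    · exact ⟨1, rfl⟩
    · exact ⟨2, rfl⟩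
  obtain ⟨u, hu⟩ := (ZMod.exists_sq_eq_prime_iff_of_mod_four_eq_one (p := 5) (q := p) rfl hp2).1 h1
  refine ⟨ZMod.castHom dvd_rfl F u, ?_⟩
  rw [pow_two, ← map_mul, ← hu, map_natCast]
  norm_num

theorem orderOf_eq_four {p : ℕ} :
    orderOf (p : ZMod 5) = 4 ↔ p % 5 = 2 ∨ p % 5 = 3 := by
  haveI : Fact (Nat.Prime 2) := ⟨Nat.prime_two⟩
  rw [← ZMod.natCast_mod p 5]
  have h4 : ∀ z : ZMod 5, z ^ 4 = 1 → z ^ 2 ≠ 1 → orderOf z = 4 := fun z h1 h2 =>
    orderOf_eq_prime_pow (p := 2) (n := 1) h2 h1
  constructor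
  · intro h
    have hlt := Nat.mod_lt p (show 5 > 0 by norm_num)
    interval_cases hm : p % 5
    · rw [Nat.cast_zero] at h
      have := pow_orderOf_eq_one (0 : ZMod 5)
      rw [h] at this
      exact absurd this (by decide)
    · simp at h
    · exact Or.inl rfl
    · exact Or.inr rfl
    · exfalso
      have := orderOf_dvd_of_pow_eq_one (x := ((4 : ℕ) : ZMod 5)) (n := 2) (by decide)
      rw [h] at this
      norm_num at this
  · rintro (h | h) <;> rw [h] <;> exact h4 _ (by decide) (by decide)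

/-- Conjugates of a rank one perturbation. -/
theorem conj_pseudo {x g : GL (Fin 4) F} {s : F} {v ψ : Fin 4 → F}
    (hx : (x : M4) = s • (1 + Matrix.vecMulVec v ψ)) :
    ∃ v' ψ' : Fin 4 → F, ψ' ⬝ᵥ v' = ψ ⬝ᵥ v ∧
      ((g⁻¹ * x * g : GL (Fin 4) F) : M4) = s • (1 + Matrix.vecMulVec v' ψ') ∧
      (Matrix.vecMulVec v ψ ≠ 0 → Matrix.vecMulVec v' ψ' ≠ 0) := by
  refine ⟨((g⁻¹ : GL (Fin 4) F) : M4) *ᵥ v, ψ ᵥ* (g : M4), ?_, ?_, fun hne h0 => hne ?_⟩
  · rw [Matrix.dotProduct_mulVec, Matrix.vecMul_vecMul, Units.mul_inv, Matrix.vecMul_one]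
  · rw [Units.val_mul, Units.val_mul, hx, Matrix.mul_smul, Matrix.smul_mul, Matrix.mul_add,
      Matrix.mul_one, Matrix.add_mul, Units.inv_mul, Matrix.mul_vecMulVec, Matrix.vecMulVec_mul]
  · rw [← Matrix.mul_vecMulVec, ← Matrix.vecMulVec_mul, ← Matrix.mul_assoc] at h0
    have := congrArg (fun A : M4 => (g : M4) * A * ((g⁻¹ : GL (Fin 4) F) : M4)) h0
    simpa [Matrix.mul_assoc] using this


/-- Elements of prime order of PSL_4(p), p ≡ 1 (mod 4), and the normalizer of a 2-group of symplectic type of order 2⁶. Here `T = PSL_4(F)` for the field `F` with `p` elements, `p` a prime with `p ≡ 1 (mod 4)`; `R` is an absolutely irreducible subgroup of GL_4(F) of order 2⁶ that is a 2-group of symplectic type of exponent 4 with centre of order 4 (the central product of the scalars of order 4 with an extraspecial group 2^{1+4}), and `H` is the subgroup of matrices of determinant 1 normalizing `R` — a subgroup of type 2⁴.Sp₄(2) (maximality is not assumed). Ω is the set of cosets of `H` in `T`, so an element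 of `T` of prime order `r` (a matrix `x` of determinant 1 with `x^r` scalar, `x` not scalar) fixes a point of Ω exactly when some conjugate of `x` by a matrix of determinant 1 normalizes `R`. Let `r` be a prime dividing the index of `H`. Then every element of `T` of order `r` fixes a point of Ω if and only if `r = 2`, or `r = 3` and `p ≡ 2 (mod 3)`, or `r = 5` and `p ≡ ±2 (mod 5)` (`p` has multiplicative order 4 modulo 5). -/
theorem result {F : Type*} [Field F] [Fintype F] {p : ℕ} [Fact p.Prime] [CharP F p] (hF : Fintype.card F = p) (hp4 : p % 4 = 1)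
    (R : Subgroup (GL (Fin 4) F)) (hR : Cfsg.Geo.IsLinearSymplecticTypeData 2 R) (hR6 : Nat.card R = 2 ^ 6)
    (r : ℕ) [Fact r.Prime]
    (hΩ : r ∣ (Cfsg.Geo.subgroupNormalizer R).relIndex (Cfsg.Geo.specialLinear (Fin 4) F)) :
    (∀ x ∈ Cfsg.Geo.specialLinear (Fin 4) F, (∃ z : F, ((x ^ r : GL (Fin 4) F) : Matrix (Fin 4) (Fin 4) F) = z • (1 : Matrix (Fin 4) (Fin 4) F)) →
      (∀ z : F, (x : Matrix (Fin 4) (Fin 4) F) ≠ z • (1 : Matrix (Fin 4) (Fin 4) F)) →
      ∃ g ∈ Cfsg.Geo.specialLinear (Fin 4) F, g⁻¹ * x * g ∈ Cfsg.Geo.subgroupNormalizer R) ↔ (r = 2 ∨ (r = 3 ∧ p % 3 = 2) ∨ (r = 5 ∧ orderOf (p : ZMod 5) = 4)) := by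
  classical
  have hp : p.Prime := Fact.out
  have hp5 : 5 ≤ p := by
    have := hp.two_le
    omega
  have h20 : (2 : F) ≠ 0 := by
    intro h
    rw [show (2 : F) = ((2 : ℕ) : F) by norm_num, CharP.cast_eq_zero_iff F p] at h
    have := Nat.le_of_dvd two_pos h
    omega
  have hG := good_of_sympType hR.symplecticType hR.absIrred h20
  have hZ : Nat.card (Subgroup.center R) = 4 := by
    obtain ⟨_, e, -, -, h | h | h⟩ := hR.field
    · exact absurd h.1 (by decide)
    · exact h.2.2.1
    · simp at h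
  obtain ⟨im, Q, X1, Z1, X2, Z2, I, hP⟩ := exists_pauli hG hR6 hZ
  haveI := hG.finite
  have hr : r.Prime := Fact.out
  have hcast : ∀ k : ℕ, k.Prime → k ≠ p → (k : F) ≠ 0 := fun k hk hne h => by
    rw [CharP.cast_eq_zero_iff F p] at h
    exact hne ((Nat.prime_dvd_prime_iff_eq hp hk).1 h).symm
  have hdet4 : ∀ (x : GL (Fin 4) F) (k : ℕ) (c : F), x ∈ Cfsg.Geo.specialLinear (Fin 4) F →
      (x : (Matrix (Fin 4) (Fin 4) F)) ^ k = c • 1 → c ^ 4 = 1 := fun x k c hx hc => by
    have := congrArg Matrix.det hc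
    rwa [Matrix.det_pow, mem_specialLinear_iff.1 hx, one_pow, Matrix.det_smul, Fintype.card_fin,
      Matrix.det_one, mul_one, eq_comm] at this
  have bad_scalar : ∀ (x g : GL (Fin 4) F) (t : F), ((g⁻¹ * x * g : GL (Fin 4) F) : (Matrix (Fin 4) (Fin 4) F)) = t • 1 →
      (x : (Matrix (Fin 4) (Fin 4) F)) = t • 1 := by
    intro x g t ht
    have : x = g * (g⁻¹ * x * g) * g⁻¹ := by group
    rw [this, Units.val_mul, Units.val_mul, ht, Matrix.mul_smul, mul_one, Matrix.smul_mul, Units.mul_inv]
  have hconjpow : ∀ (x g : GL (Fin 4) F) (k : ℕ), x ^ k = 1 → (g⁻¹ * x * g) ^ k = 1 := by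
    intro x g k h
    have e : (g⁻¹ * x * g) ^ k = g⁻¹ * x ^ k * g := by
      simpa using conj_pow (a := g⁻¹) (b := x) (i := k)
    rw [e, h]; group
  constructor
  · intro H
    by_contra hcon
    push Not at hcon
    obtain ⟨hr2, hr3, hr5⟩ := hcon
    -- a pseudo-reflection
    have pseudo : ∀ (x : GL (Fin 4) F) (s z : F) (v ψ : Fin 4 → F), x ∈ Cfsg.Geo.specialLinear (Fin 4) F →
        (x : (Matrix (Fin 4) (Fin 4) F)) ^ r = z • 1 → s ≠ 0 → (x : (Matrix (Fin 4) (Fin 4) F)) = s • (1 + Matrix.vecMulVec v ψ) →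
        Matrix.vecMulVec v ψ ≠ 0 → ψ ⬝ᵥ v ≠ -1 → ψ ⬝ᵥ v ≠ -2 →
        (∀ t : F, (x : (Matrix (Fin 4) (Fin 4) F)) ≠ t • 1) → False := by
      intro x s z v ψ hx hz hs hv hne h1 h2 hns
      obtain ⟨g, -, hg⟩ := H x hx ⟨z, by rw [Units.val_pow_eq_pow_val]; exact hz⟩ hns
      obtain ⟨v', ψ', he, hv', hne'⟩ := conj_pseudo (g := g) hv
      exact hG.no_pseudo (Fintype.card_fin 4) hg hs (hne' hne) (he ▸ h1) (he ▸ h2) hv'
    have big : 7 ≤ r → False := by
      intro h7
      obtain ⟨x, hx⟩ := exists_prime_orderOf_dvd_card' (G := Cfsg.Geo.specialLinear (Fin 4) F) r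
        (hΩ.trans (Subgroup.relIndex_dvd_card _ _))
      have hxr : (x : GL (Fin 4) F) ^ r = 1 := by
        rw [← Subgroup.coe_pow, ← hx, pow_orderOf_eq_one, Subgroup.coe_one]
      have hxs : ∀ z : F, ((x : GL (Fin 4) F) : (Matrix (Fin 4) (Fin 4) F)) ≠ z • 1 := by
        intro z hz
        have h1 : z ^ 4 = 1 := hdet4 x 1 z x.2 (by rw [pow_one, hz])
        have h2 : z ^ r = 1 := by
          have h := congrArg (fun g : GL (Fin 4) F => (g : (Matrix (Fin 4) (Fin 4) F)) 0 0) hxr
          simpa [hz, _root_.smul_pow] using h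
        have hz1 : z = 1 := by
          have hg := (pow_gcd_eq_one (m := 4) (n := r) (a := z)).2 ⟨h1, h2⟩
          rwa [Nat.Coprime.gcd_eq_one ((Nat.coprime_primes Nat.prime_two hr).2 (Ne.symm hr2) |>.pow_left 2),
            pow_one] at hg
        have : x = 1 := Subtype.ext (Units.ext (by rw [hz, hz1, one_smul]; rfl))
        rw [this, orderOf_one] at hx
        exact hr.one_lt.ne hx
      obtain ⟨g, -, hg⟩ := H x x.2 ⟨1, by rw [hxr]; simp⟩ hxs
      obtain ⟨t, ht⟩ := hG.scalar_of_big (Or.inl ⟨rfl, rfl⟩) hR6 hZ h7 (hconjpow _ g r hxr) hg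
      exact hxs t (bad_scalar x g t ht)
    have hrcase : r = 3 ∨ r = 5 ∨ 7 ≤ r := by
      by_contra h
      push Not at h
      have := hr.two_le
      obtain ⟨h1, h2, h3⟩ := h
      interval_cases r <;> first | omega | norm_num at hr
    rcases hrcase with rfl | rfl | h7
    · have hp3 : 3 ∣ Fintype.card F - 1 := by
        have hne : p % 3 ≠ 0 := fun h => by
          have := (Nat.prime_dvd_prime_iff_eq Nat.prime_three hp).1 (Nat.dvd_of_mod_eq_zero h)
          omega
        have := hr3 rfl
        rw [hF]; omega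
      haveI : Fact (Nat.Prime 3) := ⟨Nat.prime_three⟩
      obtain ⟨u, hu⟩ := exists_prime_orderOf_dvd_card' (G := Fˣ) 3
        (by rwa [Nat.card_units, Nat.card_eq_fintype_card])
      set ω : F := (u : F) with hωdef
      have hω3 : ω ^ 3 = 1 := by
        rw [hωdef, ← Units.val_pow_eq_pow_val, ← hu, pow_orderOf_eq_one, Units.val_one]
      have hω1 : ω ≠ 1 := fun h => by
        rw [Units.val_eq_one.1 h, orderOf_one] at hu; norm_num at hu
      have hω0 : ω ≠ 0 := u.ne_zero
      let x : GL (Fin 4) F := Matrix.GeneralLinearGroup.mkOfDetNeZero (Matrix.diagonal ![ω, ω, ω, 1])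
        (by rw [Matrix.det_diagonal]; simp [Fin.prod_univ_four, hω0])
      have hval : (x : (Matrix (Fin 4) (Fin 4) F)) = ω • (1 + Matrix.vecMulVec (Pi.single 3 1) (Pi.single 3 (ω⁻¹ - 1))) := by
        change Matrix.diagonal ![ω, ω, ω, 1] = _
        ext i j
        fin_cases i <;> fin_cases j <;> simp [Matrix.vecMulVec, mul_add, mul_sub, hω0]
      refine pseudo x ω 1 _ _ ?_ ?_ hω0 hval ?_ ?_ ?_ ?_
      · rw [mem_specialLinear_iff]
        change (Matrix.diagonal ![ω, ω, ω, 1]).det = 1
        rw [Matrix.det_diagonal]; simp [Fin.prod_univ_four]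
        linear_combination hω3
      · change Matrix.diagonal ![ω, ω, ω, 1] ^ 3 = _
        rw [Matrix.diagonal_pow, one_smul, ← Matrix.diagonal_one]
        congr 1; funext i; fin_cases i <;> simp [hω3]
      · intro h0
        have := congrFun (congrFun h0 3) 3
        simp [Matrix.vecMulVec, sub_eq_zero, inv_eq_one] at this
        exact hω1 this
      · simp [hω0]
      · simp
        intro h
        have h1 : ω⁻¹ = -1 := by linear_combination h
        rw [inv_eq_iff_eq_inv, inv_neg, inv_one] at h1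
        rw [h1] at hω3
        exact h20 (by linear_combination -hω3)
      · intro t ht
        change Matrix.diagonal ![ω, ω, ω, 1] = _ at ht
        have a := congrFun (congrFun ht 0) 0
        have b := congrFun (congrFun ht 3) 3
        simp at a b
        exact hω1 (a.trans b.symm)
    · rcases eq_or_ne p 5 with rfl | hp5'
      · let x : GL (Fin 4) F := Matrix.GeneralLinearGroup.mkOfDetNeZero (Matrix.transvection 0 1 (1 : F))
          (by rw [Matrix.det_transvection_of_ne _ _ (by decide)]; exact one_ne_zero)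
        have hpw : ∀ k : ℕ, Matrix.transvection (0 : Fin 4) 1 (1 : F) ^ k = Matrix.transvection 0 1 (k : F) := by
          intro k
          induction k with
          | zero => simp
          | succ k ih => rw [pow_succ, ih, Matrix.transvection_mul_transvection_same _ _ (by decide), Nat.cast_succ]
        have hval : (x : (Matrix (Fin 4) (Fin 4) F)) = (1 : F) • (1 + Matrix.vecMulVec (Pi.single 0 1) (Pi.single 1 1)) := by
          rw [one_smul, ← Matrix.single_eq_single_vecMulVec_single]; rfl
        refine pseudo x 1 1 _ _ ?_ ?_ one_ne_zero hval ?_ ?_ ?_ ?_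
        · rw [mem_specialLinear_iff]
          exact Matrix.det_transvection_of_ne _ _ (by decide) 1
        · change Matrix.transvection (0 : Fin 4) 1 (1 : F) ^ 5 = _
          rw [hpw, CharP.cast_eq_zero F 5, Matrix.transvection_zero, one_smul]
        · intro h0
          have := congrFun (congrFun h0 0) 1
          simp [Matrix.vecMulVec] at this
        · simp
        · simp [h20]
        · intro t ht
          change Matrix.transvection (0 : Fin 4) 1 (1 : F) = _ at ht
          have := congrFun (congrFun ht 0) 1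
          simp [Matrix.transvection] at this
      · have hmod : p % 5 = 1 ∨ p % 5 = 4 := by
          have h1 := (orderOf_eq_four (p := p)).not.1 (hr5 rfl)
          have h0 : p % 5 ≠ 0 := fun h => hp5'
            ((Nat.prime_dvd_prime_iff_eq Nat.prime_five hp).1 (Nat.dvd_of_mod_eq_zero h)).symm
          omega
        obtain ⟨t, ht⟩ := exists_sqrt_five (F := F) (p := p) (by omega) hmod
        set s : F := (t - 1) / 2 with hsdef
        have hs : s ^ 2 + s - 1 = 0 := by
          rw [hsdef]; field_simp; linear_combination ht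
        obtain ⟨hd, h5, htr, htr4⟩ := pentagon_facts hs
        let x : GL (Fin 4) F := Matrix.GeneralLinearGroup.mkOfDetNeZero (pentagon s)
          (by rw [hd]; exact one_ne_zero)
        have hxr : x ^ 5 = 1 := Units.ext h5
        have hxs : ∀ z : F, (x : (Matrix (Fin 4) (Fin 4) F)) ≠ z • 1 := fun z hz => by
          have := congrFun (congrFun (show pentagon s = z • 1 from hz) 1) 0
          simp [pentagon] at this
        obtain ⟨g, -, hg⟩ := H x (mem_specialLinear_iff.2 hd) ⟨1, by rw [hxr]; simp⟩ hxs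
        have hy5 := hconjpow x g 5 hxr
        have htrm := hG.trace_mul_trace (Fintype.card_fin 4) (by norm_num : (5 : ℕ) ≠ 2) hy5 hg
        have e1 : ((g⁻¹ * x * g : GL (Fin 4) F) : (Matrix (Fin 4) (Fin 4) F)).trace = 2 + s := by
          rw [Units.val_mul, Units.val_mul, Matrix.trace_units_conj']
          exact htr
        have e2 : (((g⁻¹ * x * g)⁻¹ : GL (Fin 4) F) : (Matrix (Fin 4) (Fin 4) F)).trace = 2 + s := by
          rw [show (g⁻¹ * x * g)⁻¹ = g⁻¹ * x ^ 4 * g by
            rw [show x ^ 4 = x⁻¹ from eq_inv_of_mul_eq_one_left (by rw [← pow_succ]; exact hxr)]; group,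
            Units.val_mul, Units.val_mul, Matrix.trace_units_conj', Units.val_pow_eq_pow_val]
          exact htr4
        obtain ⟨k, hk6, hk⟩ := (Nat.dvd_prime_pow Nat.prime_two).1
          (hR6 ▸ Subgroup.card_subgroup_dvd_card (Good.fixedPart R (g⁻¹ * x * g)))
        have hk2 : 2 ≤ k := (Nat.pow_le_pow_iff_right (show 1 < 2 by norm_num)).1
          (hk ▸ (hZ.symm.trans_le (Subgroup.card_le_of_le (hG.center_le_fixedPart _)) : 4 ≤ _))
        have hmod5 := hG.fixed_modEq_top hy5 hg
        rw [hR6, hk] at hmod5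
        rcases eq_or_ne k 2 with rfl | hk2'
        · rw [hR6, e1, e2, hk] at htrm
          push_cast at htrm
          have h64 : (64 : F) * ((2 + s) * (2 + s) - 1) = 0 := by linear_combination htrm
          have h2s : (2 + s) * (2 + s) - 1 = 0 := (mul_eq_zero.1 h64).resolve_left (by
            rw [show (64 : F) = 2 ^ 6 by norm_num]; exact pow_ne_zero _ h20)
          rcases mul_eq_zero.1 (show (s + 1) * (s + 3) = 0 by linear_combination h2s) with h | h
          · exact one_ne_zero (show (1 : F) = 0 by linear_combination -hs + s * h)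
          · exact hcast 5 Nat.prime_five (Ne.symm hp5') (by
              push_cast; linear_combination hs - (s - 2) * h)
        · have : k = 6 := by
            interval_cases k <;> first | omega | (unfold Nat.ModEq at hmod5; norm_num at hmod5)
          subst this
          have htop : Good.fixedPart R (g⁻¹ * x * g) = ⊤ := Subgroup.eq_top_of_card_eq _ (by rw [hk, hR6])
          obtain ⟨t', ht'⟩ := hG.scalar_of_commute _ fun y hy => congrArg Units.val
            (Good.mem_fixedPart.1 (show (⟨y, hy⟩ : R) ∈ Good.fixedPart R (g⁻¹ * x * g) from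
              htop ▸ Subgroup.mem_top _))
          exact hxs t' (bad_scalar x g t' ht')
    · exact big h7
  · intro hrhs x hx ⟨c, hc⟩ hns
    rw [Units.val_pow_eq_pow_val] at hc
    have hc4 := hdet4 x r c hx hc
    have hc0 : c ≠ 0 := fun h => by rw [h] at hc4; simp at hc4
    have hQc : ∀ (Y : (Matrix (Fin 4) (Fin 4) F)) (y : GL (Fin 4) F),
        (y : (Matrix (Fin 4) (Fin 4) F)) = (Q : (Matrix (Fin 4) (Fin 4) F)) * Y * ((Q⁻¹ : GL (Fin 4) F) : (Matrix (Fin 4) (Fin 4) F)) → (y : (Matrix (Fin 4) (Fin 4) F)).charpoly = Y.charpoly := by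
      intro Y y hy
      rw [hy, Matrix.coe_units_inv, Matrix.charpoly_units_conj]
    rcases hrhs with rfl | ⟨rfl, h3⟩ | ⟨rfl, h5⟩
    · have hsq : ∃ w : F, w ^ 2 = c := by
        by_contra hcon
        push Not at hcon
        have hd := (det_of_pow_eq_nonpower hcon hc).2
        rw [mem_specialLinear_iff.1 hx] at hd
        rcases sq_eq_one_iff.1 (show c ^ 2 = 1 by
          norm_num at hd; linear_combination -hd) with h | h
        · exact hcon 1 (by rw [h, one_pow])
        · exact hcon im (by rw [h, hP.im_sq])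
      obtain ⟨w, hw⟩ := hsq
      have hw0 : w ≠ 0 := fun h => hc0 (by rw [← hw, h, zero_pow two_ne_zero])
      have h2c : ((2 : ℕ) : F) ≠ 0 := hcast 2 Nat.prime_two (by omega)
      obtain ⟨d, hd, hcp⟩ := CfsgLib.Heis.exists_charpoly_roots
        (X_pow_sub_C_splits_of_isPrimitiveRoot (IsPrimitiveRoot.neg_one p (by omega)) hw) two_ne_zero hc
      have hdw : ∀ i, d i = w ∨ d i = -w := fun i =>
        sq_eq_sq_iff_eq_or_eq_neg.1 (by rw [hd i, hw])
      let y : GL (Fin 4) F := Matrix.GeneralLinearGroup.mkOfDetNeZero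
        ((Q : (Matrix (Fin 4) (Fin 4) F)) * Matrix.diagonal d * ((Q⁻¹ : GL (Fin 4) F) : (Matrix (Fin 4) (Fin 4) F)))
        (by
          rw [Matrix.det_units_conj, Matrix.det_diagonal]
          exact Finset.prod_ne_zero_iff.2 fun i _ h0 => hc0 (by rw [← hd i, h0, zero_pow two_ne_zero]))
      obtain ⟨g, hg, hgy⟩ := exists_sl_conj_of_charpoly p h2c hc0 hc (y := y) (by
          change (_ * Matrix.diagonal d * _) ^ 2 = _
          rw [Units.conj_pow, Matrix.diagonal_pow, show d ^ 2 = fun _ => c from funext hd,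
            ← Matrix.smul_one_eq_diagonal]
          simp)
        (by rw [hQc (Matrix.diagonal d) y rfl, Matrix.charpoly_diagonal, hcp])
      exact ⟨g, mem_specialLinear_iff.2 hg, hgy ▸ hP.diag_normalizes hw0 hdw rfl⟩
    · have h3F : ((3 : ℕ) : F) ≠ 0 := hcast 3 Nat.prime_three (by omega)
      have hw : (c ^ 3) ^ 3 = c := by linear_combination (c ^ 5 + c) * hc4
      have hw0 : c ^ 3 ≠ 0 := pow_ne_zero _ hc0
      have hω : ∀ z : F, z ^ 2 + z + 1 ≠ 0 := by
        intro z hz
        have hz3 : z ^ 3 = 1 := by linear_combination (z - 1) * hz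
        have hz0 : z ≠ 0 := fun h => by rw [h] at hz3; simp at hz3
        have hz1 : z ≠ 1 := fun h => h3F (by rw [h] at hz; push_cast; linear_combination hz)
        haveI : Fact (Nat.Prime 3) := ⟨Nat.prime_three⟩
        have hdvd := orderOf_dvd_of_pow_eq_one (FiniteField.pow_card_sub_one_eq_one z hz0)
        rw [orderOf_eq_prime hz3 hz1, hF] at hdvd
        omega
      let sc : GL (Fin 4) F := Matrix.GeneralLinearGroup.mkOfDetNeZero ((c ^ 3) • (1 : (Matrix (Fin 4) (Fin 4) F)))
        (by rw [Matrix.det_smul, Matrix.det_one, mul_one]; exact pow_ne_zero _ hw0)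
      have hscc : ∀ z : GL (Fin 4) F, sc * z = z * sc := fun z => Units.ext (by
        change (c ^ 3 • (1 : (Matrix (Fin 4) (Fin 4) F))) * (z : (Matrix (Fin 4) (Fin 4) F)) = (z : (Matrix (Fin 4) (Fin 4) F)) * (c ^ 3 • 1)
        rw [Matrix.smul_mul, Matrix.mul_smul, one_mul, mul_one])
      have hscn : sc ∈ Cfsg.Geo.subgroupNormalizer R := by
        rw [Cfsg.Geo.subgroupNormalizer, Subgroup.mem_set_normalizer_iff]
        intro z
        rw [hscc, mul_inv_cancel_right]
      set x0 := sc⁻¹ * x with hx0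
      have hscpow : ((sc : GL (Fin 4) F) : (Matrix (Fin 4) (Fin 4) F)) ^ 3 = c • 1 := by
        change (c ^ 3 • (1 : (Matrix (Fin 4) (Fin 4) F))) ^ 3 = _
        rw [_root_.smul_pow, one_pow, hw]
      have hx03 : x0 ^ 3 = 1 := by
        have hcm : Commute sc⁻¹ x := (show Commute sc x from hscc x).inv_left
        rw [hx0, hcm.mul_pow, inv_pow, inv_mul_eq_one]
        exact Units.ext (by rw [Units.val_pow_eq_pow_val, Units.val_pow_eq_pow_val, hscpow, hc])
      have hx03' : (x0 : (Matrix (Fin 4) (Fin 4) F)) ^ 3 = (1 : F) • 1 := by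
        rw [← Units.val_pow_eq_pow_val, hx03, Units.val_one, one_smul]
      have main : ∀ Y : (Matrix (Fin 4) (Fin 4) F), Y ^ 3 = 1 → Y.charpoly = (x0 : (Matrix (Fin 4) (Fin 4) F)).charpoly →
          (∀ y : GL (Fin 4) F, (y : (Matrix (Fin 4) (Fin 4) F)) = (Q : (Matrix (Fin 4) (Fin 4) F)) * Y * ((Q⁻¹ : GL (Fin 4) F) : (Matrix (Fin 4) (Fin 4) F)) →
            y ∈ Cfsg.Geo.subgroupNormalizer R) →
          ∃ g ∈ Cfsg.Geo.specialLinear (Fin 4) F, g⁻¹ * x * g ∈ Cfsg.Geo.subgroupNormalizer R := by
        intro Y hY hcp hn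
        let y : GL (Fin 4) F := Matrix.GeneralLinearGroup.mkOfDetNeZero
          ((Q : (Matrix (Fin 4) (Fin 4) F)) * Y * ((Q⁻¹ : GL (Fin 4) F) : (Matrix (Fin 4) (Fin 4) F))) (by
            rw [Matrix.det_units_conj]
            intro h0
            have := congrArg Matrix.det hY
            rw [Matrix.det_pow, h0, zero_pow (by norm_num), Matrix.det_one] at this
            exact zero_ne_one this)
        obtain ⟨g, hg, hgy⟩ := exists_sl_conj_of_charpoly p h3F one_ne_zero hx03' (y := y) (by
            change (_ * Y * _) ^ 3 = _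
            rw [Units.conj_pow, hY, one_smul]; simp)
          (by rw [hQc Y y rfl, hcp])
        refine ⟨g, mem_specialLinear_iff.2 hg, ?_⟩
        have : g⁻¹ * x * g = sc * y := by
          rw [← hgy, hx0]
          calc g⁻¹ * x * g = g⁻¹ * (sc * (sc⁻¹ * x)) * g := by group
            _ = (g⁻¹ * sc) * (sc⁻¹ * x) * g := by group
            _ = (sc * g⁻¹) * (sc⁻¹ * x) * g := by rw [hscc g⁻¹]
            _ = _ := by group
        rw [this]
        exact Subgroup.mul_mem _ hscn (hn y rfl)
      obtain ⟨hT3, hTtr⟩ := Pauli.cTT_pow hP.im_sq h20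
      have hT1 := Pauli.cT1_rel hP.im_sq h20
      have hT13 : cT1 im ^ 3 = (1 : (Matrix (Fin 4) (Fin 4) F)) := by
        calc cT1 im ^ 3 = (cT1 im - 1) * (cT1 im * cT1 im + cT1 im + 1) + 1 := by noncomm_ring
          _ = 1 := by rw [hT1, mul_zero, zero_add]
      have hT1tr : (cT1 im).trace = -2 := by
        simp [Matrix.trace, Fin.sum_univ_four, cT1]; grind
      have h41 : (4 : F) ≠ 1 := fun h => h3F (by push_cast; linear_combination h)
      have h12 : (1 : F) ≠ -2 := fun h => h3F (by push_cast; linear_combination h)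
      rcases charpoly_cases_three hω (show (x0 : (Matrix (Fin 4) (Fin 4) F)) ^ 3 = 1 by rwa [one_smul] at hx03') with ⟨e, -⟩ | ⟨e, -⟩ | ⟨e, -⟩
      · exfalso
        have hs := eq_scalar_of_charpoly p h3F one_ne_zero (x := x0) (d := 1) (one_pow 3) hx03'
          (by rw [e, map_one])
        have : x = sc * x0 := by rw [hx0]; group
        refine hns (c ^ 3) ?_
        rw [this, Units.val_mul, hs, one_smul, mul_one]
        rfl
      · refine main _ hT3 ?_ fun y hy => hP.cTT_normalizes hy
        rcases charpoly_cases_three hω hT3 with ⟨e', t⟩ | ⟨e', -⟩ | ⟨e', t⟩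
        · exact absurd (t.symm.trans hTtr) h41
        · rw [e', e]
        · exact absurd (hTtr.symm.trans t) h12
      · refine main _ hT13 ?_ fun y hy => hP.cT1_normalizes hy
        rcases charpoly_cases_three hω hT13 with ⟨e', t⟩ | ⟨e', t⟩ | ⟨e', -⟩
        · exact absurd (show (2 : F) * 3 = 0 by linear_combination -(t.symm.trans hT1tr) * (-1)) (mul_ne_zero h20 (by exact_mod_cast h3F))
        · exact absurd (t.symm.trans hT1tr) h12
        · rw [e', e]
    · haveI : Fact (Nat.Prime 5) := ⟨Nat.prime_five⟩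
      have hp5' : p ≠ 5 := fun h => by
        rcases orderOf_eq_four.1 h5 with h' | h' <;> omega
      have h5F : ((5 : ℕ) : F) ≠ 0 := hcast 5 Nat.prime_five (Ne.symm hp5')
      have hord : orderOf (Fintype.card F : ZMod 5) = 4 := by rw [hF]; exact h5
      have hw : c ^ 5 = c := by linear_combination c * hc4
      let sc : GL (Fin 4) F := Matrix.GeneralLinearGroup.mkOfDetNeZero (c • (1 : (Matrix (Fin 4) (Fin 4) F)))
        (by rw [Matrix.det_smul, Matrix.det_one, mul_one]; exact pow_ne_zero _ hc0)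
      have hscc : ∀ z : GL (Fin 4) F, sc * z = z * sc := fun z => Units.ext (by
        change (c • (1 : (Matrix (Fin 4) (Fin 4) F))) * (z : (Matrix (Fin 4) (Fin 4) F)) = (z : (Matrix (Fin 4) (Fin 4) F)) * (c • 1)
        rw [Matrix.smul_mul, Matrix.mul_smul, one_mul, mul_one])
      have hscn : sc ∈ Cfsg.Geo.subgroupNormalizer R := by
        rw [Cfsg.Geo.subgroupNormalizer, Subgroup.mem_set_normalizer_iff]
        intro z
        rw [hscc, mul_inv_cancel_right]
      set x0 := sc⁻¹ * x with hx0
      have hx05 : (x0 : (Matrix (Fin 4) (Fin 4) F)) ^ 5 = 1 := by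
        have hcm : Commute sc⁻¹ x := (show Commute sc x from hscc x).inv_left
        rw [← Units.val_pow_eq_pow_val, hx0, hcm.mul_pow, inv_pow]
        have : sc ^ 5 = x ^ 5 := Units.ext (by
          rw [Units.val_pow_eq_pow_val, Units.val_pow_eq_pow_val, hc]
          change (c • (1 : (Matrix (Fin 4) (Fin 4) F))) ^ 5 = _
          rw [_root_.smul_pow, one_pow, hw])
        rw [this, inv_mul_cancel, Units.val_one]
      obtain ⟨hM5, hMtr⟩ := Pauli.cM5_pow hP.im_sq h20
      have hx05' : (x0 : (Matrix (Fin 4) (Fin 4) F)) ^ 5 = (1 : F) • 1 := by rw [one_smul, hx05]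
      rcases charpoly_cases_five hord hx05 with e | e
      · exfalso
        have hs := eq_scalar_of_charpoly p h5F one_ne_zero (x := x0) (d := 1) (one_pow 5) hx05'
          (by rw [e, map_one])
        have : x = sc * x0 := by rw [hx0]; group
        refine hns c ?_
        rw [this, Units.val_mul, hs, one_smul, mul_one]
        rfl
      · let y : GL (Fin 4) F := Matrix.GeneralLinearGroup.mkOfDetNeZero
          ((Q : (Matrix (Fin 4) (Fin 4) F)) * cM5 im * ((Q⁻¹ : GL (Fin 4) F) : (Matrix (Fin 4) (Fin 4) F))) (by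
            rw [Matrix.det_units_conj]
            intro h0
            have := congrArg Matrix.det hM5
            rw [Matrix.det_pow, h0, zero_pow (by norm_num), Matrix.det_one] at this
            exact zero_ne_one this)
        have hcpM : (cM5 im).charpoly = X ^ 4 + X ^ 3 + X ^ 2 + X + 1 := by
          rcases charpoly_cases_five hord hM5 with e' | e'
          · exfalso
            have := Matrix.trace_eq_neg_charpoly_coeff (cM5 im)
            rw [hMtr, Fintype.card_fin, show 4 - 1 = 3 from rfl, e',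
              show ((X - 1) ^ 4 : F[X]) = X ^ 4 + C (-4) * X ^ 3 + C 6 * X ^ 2 + C (-4) * X + 1 by
                simp [map_ofNat]; ring] at this
            simp [coeff_X, coeff_one] at this
            exact h5F (by push_cast; linear_combination -this)
          · exact e'
        obtain ⟨g, hg, hgy⟩ := exists_sl_conj_of_charpoly p h5F one_ne_zero hx05' (y := y) (by
            change (_ * cM5 im * _) ^ 5 = _
            rw [Units.conj_pow, hM5, one_smul]; simp)
          (by rw [hQc (cM5 im) y rfl, hcpM, e])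
        refine ⟨g, mem_specialLinear_iff.2 hg, ?_⟩
        have : g⁻¹ * x * g = sc * y := by
          rw [← hgy, hx0]
          calc g⁻¹ * x * g = g⁻¹ * (sc * (sc⁻¹ * x)) * g := by group
            _ = (g⁻¹ * sc) * (sc⁻¹ * x) * g := by group
            _ = (sc * g⁻¹) * (sc⁻¹ * x) * g := by rw [hscc g⁻¹]
            _ = _ := by group
        rw [this]
        exact Subgroup.mul_mem _ hscn (hP.cM5_normalizes rfl)

end Cfsg.Agent.S6000
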