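import Cfsg.Statements.S6001
import Cfsg.Agent.S6000
import Cfsg.Agent.Lib.LinFix.SUConj
-- import your own Cfsg.Agent.* helpers here

set_option autoImplicit false
open scoped MatrixGroups
open Cfsg

namespace Cfsg.Agent.S6001

open Matrix Polynomial CfsgLib.TwoSymp CfsgLib.LinFix CfsgLib.Conj CfsgLib.SUConj

variable {F : Type*} [Field F] [Fintype F] {p : ℕ} [Fact p.Prime] [CharP F p]

/-- Unitary elements of order three, when the cube roots of one are in the prime field. -/
theorem charpoly_cases_three (hF : Fintype.card F = p ^ 2) (hp3 : p % 3 = 1) (hp7 : 7 ≤ p)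
    {x : GL (Fin 4) F} (hxU : x ∈ Cfsg.GU 4 F p) (hx : (x : Matrix (Fin 4) (Fin 4) F) ^ 3 = 1) :
    ((x : Matrix (Fin 4) (Fin 4) F).charpoly = (X - 1) ^ 4 ∧ (x : Matrix (Fin 4) (Fin 4) F).trace = 4) ∨
      ((x : Matrix (Fin 4) (Fin 4) F).charpoly = (X - 1) ^ 2 * (X ^ 2 + X + 1) ∧
        (x : Matrix (Fin 4) (Fin 4) F).trace = 1) ∨
      ((x : Matrix (Fin 4) (Fin 4) F).charpoly = (X ^ 2 + X + 1) ^ 2 ∧
        (x : Matrix (Fin 4) (Fin 4) F).trace = -2) := by
  classical
  obtain ⟨φ, hφq, hφ, -⟩ := exists_frob hF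
  haveI : Fact (Nat.Prime 3) := ⟨Nat.prime_three⟩
  obtain ⟨u, hu⟩ := exists_prime_orderOf_dvd_card' (G := Fˣ) 3 (by
    rw [Nat.card_units, Nat.card_eq_fintype_card, hF]
    obtain ⟨k, hk⟩ : ∃ k, p = 3 * k + 1 := ⟨p / 3, by omega⟩
    exact ⟨3 * k ^ 2 + 2 * k, Nat.sub_eq_of_eq_add (by rw [hk]; ring)⟩)
  set ω : F := (u : F) with hωdef
  have hprim : IsPrimitiveRoot ω 3 := by
    rw [IsPrimitiveRoot.iff_orderOf, hωdef, orderOf_units, hu]
  have hω3 := hprim.pow_eq_one
  have hωp : ω ^ p = ω := by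
    conv_lhs => rw [← Nat.div_add_mod p 3, hp3, pow_add, pow_mul, hω3, one_pow, one_mul, pow_one]
  have hω1 : ω ≠ 1 := hprim.ne_one (by norm_num)
  have hωq : ω ^ 2 + ω + 1 = 0 :=
    (mul_eq_zero.1 (show (ω - 1) * (ω ^ 2 + ω + 1) = 0 by linear_combination hω3)).resolve_left
      (sub_ne_zero.2 hω1)
  have hx' : (x : Matrix (Fin 4) (Fin 4) F) ^ 3 = (1 : F) • 1 := by rw [hx, one_smul]
  obtain ⟨d, hd, hcp⟩ := CfsgLib.Heis.exists_charpoly_roots
    (X_pow_sub_C_splits_of_isPrimitiveRoot hprim (one_pow 3)) (by norm_num) hx'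
  choose k hk3 hk using fun i => hprim.eq_pow_of_pow_eq_one (hd i)
  have h3F : ((3 : ℕ) : F) ≠ 0 := fun h => by
    rw [CharP.cast_eq_zero_iff F p] at h
    have := Nat.le_of_dvd (by norm_num) h
    omega
  let D : GL (Fin 4) F := Matrix.GeneralLinearGroup.mkOfDetNeZero (Matrix.diagonal d) (by
    rw [Matrix.det_diagonal]
    exact Finset.prod_ne_zero_iff.2 fun i _ h0 => by have := hd i; rw [h0] at this; simp at this)
  have hD : (D : Matrix (Fin 4) (Fin 4) F) ^ 3 = (1 : F) • 1 := by
    change Matrix.diagonal d ^ 3 = _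
    rw [Matrix.diagonal_pow, show d ^ 3 = fun _ => (1 : F) from funext hd, Matrix.diagonal_one, one_smul]
  obtain ⟨g, -, hg⟩ := exists_sl_conj_of_charpoly p h3F one_ne_zero hx' hD (by
    change (Matrix.diagonal d).charpoly = _
    rw [Matrix.charpoly_diagonal, hcp])
  have htrk : ∀ m : ℕ, ((x : Matrix (Fin 4) (Fin 4) F) ^ m).trace = ∑ i, d i ^ m := fun m => by
    rw [show x = g * D * g⁻¹ by rw [← hg]; group, Units.val_mul, Units.val_mul, Units.conj_pow,
      Matrix.trace_units_conj]
    change (Matrix.diagonal d ^ m).trace = _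
    rw [Matrix.diagonal_pow, Matrix.trace_diagonal]
    rfl
  have hinv := trace_inv_eq hφq hφ hxU
  rw [show x⁻¹ = x ^ 2 from inv_eq_of_mul_eq_one_right (Units.ext (by
    rw [Units.val_mul, Units.val_pow_eq_pow_val, ← pow_succ', hx, Units.val_one])),
    Units.val_pow_eq_pow_val, htrk] at hinv
  have hT : (x : Matrix (Fin 4) (Fin 4) F).trace = ∑ i, d i := by simpa using htrk 1
  rw [hT, map_sum] at hinv
  have hsum : ∑ i, d i ^ 2 = ∑ i, d i := hinv.trans (Finset.sum_congr rfl fun i _ => by
    rw [hφq, ← hk i, ← pow_mul, mul_comm, pow_mul, hωp])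
  set m : ℕ → ℕ := fun j => (Finset.univ.filter fun i => k i = j).card with hm
  have hfib : ∀ f : ℕ → F, ∑ i, f (k i) = m 0 * f 0 + m 1 * f 1 + m 2 * f 2 := fun f => by
    rw [← Finset.sum_fiberwise_of_maps_to (t := Finset.range 3) (g := k)
      (fun i _ => Finset.mem_range.2 (hk3 i))]
    simp only [Finset.sum_range_succ, Finset.sum_range_zero, zero_add]
    congr 1
    · congr 1 <;>
      · rw [Finset.sum_congr rfl fun i hi => congrArg f (Finset.mem_filter.1 hi).2, Finset.sum_const,
          nsmul_eq_mul]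
    · rw [Finset.sum_congr rfl fun i hi => congrArg f (Finset.mem_filter.1 hi).2, Finset.sum_const,
        nsmul_eq_mul]
  have hfibp : ∀ f : ℕ → F[X], ∏ i, f (k i) = f 0 ^ m 0 * f 1 ^ m 1 * f 2 ^ m 2 := fun f => by
    rw [← Finset.prod_fiberwise_of_maps_to (t := Finset.range 3) (g := k)
      (fun i _ => Finset.mem_range.2 (hk3 i))]
    simp only [Finset.prod_range_succ, Finset.prod_range_zero, one_mul]
    congr 1
    · congr 1 <;>
      · rw [Finset.prod_congr rfl fun i hi => congrArg f (Finset.mem_filter.1 hi).2, Finset.prod_const]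
    · rw [Finset.prod_congr rfl fun i hi => congrArg f (Finset.mem_filter.1 hi).2, Finset.prod_const]
  have htot : m 0 + m 1 + m 2 = 4 := by
    have := Finset.card_eq_sum_card_fiberwise (s := (Finset.univ : Finset (Fin 4))) (t := Finset.range 3)
      (f := k) (fun i _ => Finset.mem_coe.2 (Finset.mem_range.2 (hk3 i)))
    simp only [Finset.sum_range_succ, Finset.sum_range_zero, zero_add, Finset.card_univ,
      Fintype.card_fin] at this
    exact this.symm
  have e1 := hfib fun j => ω ^ j
  have e2 := hfib fun j => (ω ^ j) ^ 2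
  rw [Finset.sum_congr rfl fun i _ => hk i] at e1
  rw [Finset.sum_congr rfl (fun i _ => show (ω ^ k i) ^ 2 = d i ^ 2 by rw [hk i]), hsum, e1] at e2
  have hmm : (m 1 : F) = m 2 := by
    have h0 : ω - ω ^ 2 ≠ 0 := by
      rw [show ω - ω ^ 2 = ω * (1 - ω) by ring]
      exact mul_ne_zero (hprim.ne_zero (by norm_num)) (sub_ne_zero.2 (Ne.symm hω1))
    have : ((m 1 : F) - m 2) * (ω - ω ^ 2) = 0 := by
      linear_combination e2 + (m 2 : F) * ω * hω3
    exact sub_eq_zero.1 ((mul_eq_zero.1 this).resolve_right h0)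
  rw [CharP.natCast_eq_natCast F p] at hmm
  have hm12 : m 1 = m 2 := hmm.eq_of_lt_of_lt (by omega) (by omega)
  have hcp' : (x : Matrix (Fin 4) (Fin 4) F).charpoly = (X - 1) ^ m 0 * (X ^ 2 + X + 1) ^ m 1 := by
    rw [hcp, Finset.prod_congr rfl fun i _ => by rw [← hk i], hfibp fun j => X - C (ω ^ j), ← hm12,
      mul_assoc, ← mul_pow, pow_zero, map_one]
    congr 2
    rw [pow_one, show (X - C ω) * (X - C (ω ^ 2)) = X ^ 2 - C (ω ^ 2 + ω) * X + C (ω ^ 3) by
      simp only [map_add, map_pow]; ring, hω3, show ω ^ 2 + ω = -1 by linear_combination hωq, map_neg, map_one]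
    ring
  have hT' : (x : Matrix (Fin 4) (Fin 4) F).trace = (m 0 : F) - m 1 := by
    rw [hT, e1, ← hm12]
    linear_combination (m 1 : F) * hωq
  have hb : m 1 ≤ 2 := by omega
  interval_cases h : m 1
  · exact Or.inl ⟨by rw [hcp', show m 0 = 4 by omega]; ring, by rw [hT', show m 0 = 4 by omega]; norm_num⟩
  · exact Or.inr (Or.inl ⟨by rw [hcp', show m 0 = 2 by omega]; ring,
      by rw [hT', show m 0 = 2 by omega]; norm_num⟩)
  · exact Or.inr (Or.inr ⟨by rw [hcp', show m 0 = 0 by omega]; ring,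
      by rw [hT', show m 0 = 0 by omega]; norm_num⟩)

/-- A polynomial version of the cases of order five over the prime field. -/
theorem poly_cases_five (h5 : orderOf (p : ZMod 5) = 4) {P : (ZMod p)[X]} (hPm : P.Monic)
    (hPd : P.natDegree = 4) (hP : P ∣ (X ^ 5 - 1) ^ 4) :
    P = (X - 1) ^ 4 ∨ P = X ^ 4 + X ^ 3 + X ^ 2 + X + 1 := by
  classical
  haveI : Fact (Nat.Prime 5) := ⟨Nat.prime_five⟩
  have hlm : (X - 1 : (ZMod p)[X]).Monic := by simpa using monic_X_sub_C (1 : ZMod p)
  have hl : Irreducible (X - 1 : (ZMod p)[X]) := by simpa using irreducible_X_sub_C (1 : ZMod p)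
  by_cases hall : ∀ g : (ZMod p)[X], Irreducible g → g ∣ P → (X - 1) ∣ g
  · obtain ⟨k, hk⟩ := CfsgLib.Spectrum.exists_eq_pow_of_forall_irreducible_dvd hlm hl hPm hall
    have hdeg := congrArg natDegree hk
    rw [hPd, natDegree_pow,
      show (X - 1 : (ZMod p)[X]).natDegree = 1 by simpa using natDegree_X_sub_C (1 : ZMod p), mul_one] at hdeg
    exact Or.inl (by rw [hk, ← hdeg])
  · push Not at hall
    obtain ⟨g, hg, hgd, hg1⟩ := hall
    have hne : ¬ g ∣ X - 1 := fun h => hg1 (hg.associated_of_dvd hl h).symm.dvd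
    have hgr : g ∣ X ^ 5 - 1 := hg.prime.dvd_of_dvd_pow (hgd.trans hP)
    have hdeg := natDegree_eq_order (r := 5) (by rw [ZMod.card, h5]; norm_num) hg hgr hne
    rw [ZMod.card, h5] at hdeg
    obtain ⟨c, hc⟩ := hgd
    have hc0 : c ≠ 0 := fun h0 => hPm.ne_zero (by rw [hc, h0, mul_zero])
    have hd := congrArg natDegree hc
    rw [hPd, natDegree_mul hg.ne_zero hc0, hdeg] at hd
    have hgP : g ∣ X ^ 4 + X ^ 3 + X ^ 2 + X + 1 :=
      (hg.prime.dvd_or_dvd (hgr.trans (dvd_of_eq
        (show (X ^ 5 - 1 : (ZMod p)[X]) = (X - 1) * (X ^ 4 + X ^ 3 + X ^ 2 + X + 1) by ring)))).resolve_left hne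
    have hPdvd : P ∣ X ^ 4 + X ^ 3 + X ^ 2 + X + 1 := by
      rw [hc]
      exact ((IsUnit.mul_right_dvd (isUnit_iff_degree_eq_zero.2 (by
        rw [degree_eq_natDegree hc0, show c.natDegree = 0 by omega]; rfl))).2 hgP)
    refine Or.inr (eq_of_monic_of_associated hPm (by monicity!) ?_)
    exact associated_of_dvd_of_natDegree_le hPdvd (Polynomial.Monic.ne_zero (by monicity!))
      (by rw [hPd]; compute_degree!)

/-- Unitary elements of order five, when `p` has order four modulo five. -/
theorem charpoly_cases_five (hF : Fintype.card F = p ^ 2) (h5 : orderOf (p : ZMod 5) = 4)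
    {x : GL (Fin 4) F} (hxU : x ∈ Cfsg.GU 4 F p) (hx : x ^ 5 = 1) :
    (x : Matrix (Fin 4) (Fin 4) F).charpoly = (X - 1) ^ 4 ∨
      (x : Matrix (Fin 4) (Fin 4) F).charpoly = X ^ 4 + X ^ 3 + X ^ 2 + X + 1 := by
  classical
  obtain ⟨φ, hφq, hφ, -⟩ := exists_frob hF
  have hmap : (x : Matrix (Fin 4) (Fin 4) F).charpoly.map φ = (x : Matrix (Fin 4) (Fin 4) F).charpoly := by
    have hinv : x⁻¹ = x ^ (Fintype.card F) := by
      refine inv_eq_of_mul_eq_one_right ?_
      rw [← pow_succ', hF]
      have h4 : (p ^ 2) % 5 = 4 := by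
        rw [Nat.pow_mod]
        rcases S6000.orderOf_eq_four.1 h5 with h | h <;> rw [h]
      rw [← pow_mod_orderOf, Nat.mod_eq_zero_of_dvd, pow_zero]
      refine (orderOf_dvd_of_pow_eq_one hx).trans ?_
      omega
    rw [← charpoly_inv_eq_map hφq hφ hxU, hinv, Units.val_pow_eq_pow_val, FiniteField.Matrix.charpoly_pow_card]
  have hlift : (x : Matrix (Fin 4) (Fin 4) F).charpoly ∈ lifts (ZMod.castHom dvd_rfl F : ZMod p →+* F) := by
    rw [lifts_iff_coeff_lifts]
    intro n
    have h : (x : Matrix (Fin 4) (Fin 4) F).charpoly.coeff n ^ p =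
        (x : Matrix (Fin 4) (Fin 4) F).charpoly.coeff n := by
      rw [← hφq, ← Polynomial.coeff_map, hmap]
    have := (Subfield.mem_bot_iff_pow_eq_self (F := F) (p := p)).2 h
    rw [← ZMod.fieldRange_castHom_eq_bot (K := F) p] at this
    exact this
  obtain ⟨P, hP, hPd, hPm⟩ := lifts_and_natDegree_eq_and_monic hlift (Matrix.charpoly_monic _)
  rw [Matrix.charpoly_natDegree_eq_dim, Fintype.card_fin] at hPd
  have hdvd : P ∣ (X ^ 5 - 1) ^ 4 := by
    rw [← Polynomial.map_dvd_map (ZMod.castHom dvd_rfl F) (RingHom.injective _) hPm, hP]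
    simp only [Polynomial.map_pow, Polynomial.map_sub, Polynomial.map_one, Polynomial.map_X]
    exact (CfsgLib.Spectrum.charpoly_dvd_minpoly_pow _).trans (pow_dvd_pow_of_dvd (minpoly.dvd F _ (by
      rw [map_sub, map_pow, aeval_X, map_one, ← Units.val_pow_eq_pow_val, hx, Units.val_one, sub_self])) 4)
  rcases poly_cases_five h5 hPm hPd hdvd with h | h
  · left; rw [← hP, h]; simp
  · right; rw [← hP, h]; simp

/-- The test element of order five. -/
def pentagon (a b c : F) : Matrix (Fin 4) (Fin 4) F := !![a, b, 0, 0; -c, a, 0, 0; 0, 0, 1, 0; 0, 0, 0, 1]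

theorem pentagon_facts {a b c : F} (hs : (2 * a) ^ 2 + 2 * a - 1 = 0) (hd : a * a + b * c = 1) :
    (pentagon a b c).det = 1 ∧ pentagon a b c ^ 5 = 1 ∧ (pentagon a b c).trace = 2 + 2 * a ∧
      (pentagon a b c ^ 4).trace = 2 + 2 * a := by
  have e : pentagon a b c * pentagon a b c =
      !![2 * a * a - 1, 2 * a * b, 0, 0; -(2 * a * c), 2 * a * a - 1, 0, 0; 0, 0, 1, 0; 0, 0, 0, 1] := by
    ext i j
    fin_cases i <;> fin_cases j <;> simp [pentagon, Matrix.mul_apply, Fin.sum_univ_four] <;> grind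
  have e4 : pentagon a b c ^ 4 = !![a, -b, 0, 0; c, a, 0, 0; 0, 0, 1, 0; 0, 0, 0, 1] := by
    rw [show pentagon a b c ^ 4 = pentagon a b c * pentagon a b c * (pentagon a b c * pentagon a b c) by
      noncomm_ring, e]
    ext i j
    fin_cases i <;> fin_cases j <;> simp [Matrix.mul_apply, Fin.sum_univ_four] <;> grind
  refine ⟨?_, ?_, ?_, ?_⟩
  · simp [pentagon, Matrix.det_succ_row_zero, Fin.sum_univ_succ, Fin.succAbove]
    linear_combination hd
  · rw [show pentagon a b c ^ 5 = pentagon a b c ^ 4 * pentagon a b c from pow_succ _ _, e4]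
    ext i j
    fin_cases i <;> fin_cases j <;> simp [pentagon, Matrix.mul_apply, Fin.sum_univ_four] <;> grind
  · simp [pentagon, Matrix.trace, Fin.sum_univ_four]; ring
  · simp [e4, Matrix.trace, Fin.sum_univ_four]; ring

/-- Elements of prime order of PSU_4(p), p ≡ 3 (mod 4), and the normalizer of a 2-group of symplectic type of order 2⁶. Here `T = PSU_4(p)` for a prime `p ≡ 3 (mod 4)`, realised through `SU_4(p)`, the matrices of determinant 1 over the field `F` with `p²` elements preserving the hermitian form `f = Σ uᵢvᵢ^p`; `R` is an absolutely irreducible subgroup of the full unitary group of `f` of order 2⁶ that is a 2-group of symplectic type of exponent 4 with centre of order 4, and `H` is the subgroup of `SU_4(p)` normalizing `R` — a subgroup of type 2⁴.Sp₄(2) (maximality is not assumed). Ω is the set of cosets of `H`, so an element of `T` of prime order `r` (`x ∈ SU_4(p)` with `x^r` scalar, `x` not scalar) fixes a point of Ω exactly when some `SU_4(p)`-conjugate of `x`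 normalizes `R`. Let `r` be a prime dividing the index of `H`. Then every element of `T` of order `r` fixes a point of Ω if and only if `r = 2`, or `r = 3` and `p ≡ 1 (mod 3)`, or `r = 5` and `p ≡ ±2 (mod 5)` (`p` has multiplicative order 4 modulo 5). -/
theorem result {F : Type*} [Field F] [Fintype F] {p : ℕ} [Fact p.Prime] [CharP F p] (hF : Fintype.card F = p ^ 2) (hp4 : p % 4 = 3)
    (R : Subgroup (GL (Fin 4) F)) (hRs : Cfsg.Geo.IsSymplecticTypeGroup 2 R) (hRi : Cfsg.Geo.ActsAbsolutelyIrreducibly (Cfsg.Geo.matrixSet R))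
    (hRU : R ≤ Cfsg.GU 4 F p) (hR6 : Nat.card R = 2 ^ 6) (hRZ : Nat.card (Subgroup.center R) = 4)
    (r : ℕ) [Fact r.Prime]
    (hΩ : r ∣ (Cfsg.Geo.subgroupNormalizer R).relIndex (Cfsg.GU 4 F p ⊓ Cfsg.Geo.specialLinear (Fin 4) F)) :
    (∀ x ∈ Cfsg.GU 4 F p ⊓ Cfsg.Geo.specialLinear (Fin 4) F, (∃ z : F, ((x ^ r : GL (Fin 4) F) : Matrix (Fin 4) (Fin 4) F) = z • (1 : Matrix (Fin 4) (Fin 4) F)) →
      (∀ z : F, (x : Matrix (Fin 4) (Fin 4) F) ≠ z • (1 : Matrix (Fin 4) (Fin 4) F)) →
      ∃ g ∈ Cfsg.GU 4 F p ⊓ Cfsg.Geo.specialLinear (Fin 4) F, g⁻¹ * x * g ∈ Cfsg.Geo.subgroupNormalizer R) ↔ (r = 2 ∨ (r = 3 ∧ p % 3 = 1) ∨ (r = 5 ∧ orderOf (p : ZMod 5) = 4)) := by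
  classical
  have hp : p.Prime := Fact.out
  have hp3' : 3 ≤ p := by
    have := hp.two_le
    omega
  have hp1 : (p : ℕ) + 1 ≠ 0 := by omega
  have h20 : (2 : F) ≠ 0 := by
    intro h
    rw [show (2 : F) = ((2 : ℕ) : F) by norm_num, CharP.cast_eq_zero_iff F p] at h
    have := Nat.le_of_dvd two_pos h
    omega
  have hodd : Odd p := Nat.odd_iff.2 (by omega)
  obtain ⟨φ, hφq, hφ, -⟩ := exists_frob hF
  have hG := good_of_sympType hRs hRi h20
  obtain ⟨im, Q, X1, Z1, X2, Z2, I, hP, hQ⟩ := exists_unitary_pauli hF hp4 hG hRU hR6 hRZ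
  haveI := hG.finite
  have hφim : φ im = -im := by
    rw [hφq]
    have h4 : im ^ 4 = 1 := by rw [show 4 = 2 * 2 from rfl, pow_mul, hP.im_sq, neg_one_sq]
    conv_lhs => rw [← Nat.div_add_mod p 4, hp4, pow_add, pow_mul, h4, one_pow, one_mul, pow_succ, hP.im_sq]
    ring
  have hr : r.Prime := Fact.out
  have hcast : ∀ k : ℕ, k.Prime → k ≠ p → (k : F) ≠ 0 := fun k hk hne h => by
    rw [CharP.cast_eq_zero_iff F p] at h
    exact hne ((Nat.prime_dvd_prime_iff_eq hp hk).1 h).symm
  have hdet4 : ∀ (x : GL (Fin 4) F) (k : ℕ) (c : F), x ∈ Cfsg.Geo.specialLinear (Fin 4) F →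
      (x : (Matrix (Fin 4) (Fin 4) F)) ^ k = c • 1 → c ^ 4 = 1 := fun x k c hx hc => by
    have := congrArg Matrix.det hc
    rwa [Matrix.det_pow, S6000.mem_specialLinear_iff.1 hx, one_pow, Matrix.det_smul, Fintype.card_fin,
      Matrix.det_one, mul_one, eq_comm] at this
  have bad_scalar : ∀ (x g : GL (Fin 4) F) (t : F), ((g⁻¹ * x * g : GL (Fin 4) F) : (Matrix (Fin 4) (Fin 4) F)) = t • 1 →
      (x : (Matrix (Fin 4) (Fin 4) F)) = t • 1 := by
    intro x g t ht
    have : x = g * (g⁻¹ * x * g) * g⁻¹ := by group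
    rw [this, Units.val_mul, Units.val_mul, ht, Matrix.mul_smul, mul_one, Matrix.smul_mul, Units.mul_inv]
  have hconjpow : ∀ (x g : GL (Fin 4) F) (k : ℕ), x ^ k = 1 → (g⁻¹ * x * g) ^ k = 1 := by
    intro x g k h
    have e : (g⁻¹ * x * g) ^ k = g⁻¹ * x ^ k * g := by
      simpa using conj_pow (a := g⁻¹) (b := x) (i := k)
    rw [e, h]; group
  constructor
  · intro H
    by_contra hcon
    push Not at hcon
    obtain ⟨hr2, hr3, hr5⟩ := hcon
    -- a pseudo-reflection
    have pseudo : ∀ (x : GL (Fin 4) F) (s z : F) (v ψ : Fin 4 → F), x ∈ Cfsg.GU 4 F p ⊓ Cfsg.Geo.specialLinear (Fin 4) F →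
        (x : (Matrix (Fin 4) (Fin 4) F)) ^ r = z • 1 → s ≠ 0 → (x : (Matrix (Fin 4) (Fin 4) F)) = s • (1 + Matrix.vecMulVec v ψ) →
        Matrix.vecMulVec v ψ ≠ 0 → ψ ⬝ᵥ v ≠ -1 → ψ ⬝ᵥ v ≠ -2 →
        (∀ t : F, (x : (Matrix (Fin 4) (Fin 4) F)) ≠ t • 1) → False := by
      intro x s z v ψ hx hz hs hv hne h1 h2 hns
      obtain ⟨g, -, hg⟩ := H x hx ⟨z, by rw [Units.val_pow_eq_pow_val]; exact hz⟩ hns
      obtain ⟨v', ψ', he, hv', hne'⟩ := S6000.conj_pseudo (g := g) hv
      exact hG.no_pseudo (Fintype.card_fin 4) hg hs (hne' hne) (he ▸ h1) (he ▸ h2) hv'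
    have big : 7 ≤ r → False := by
      intro h7
      obtain ⟨x, hx⟩ := exists_prime_orderOf_dvd_card' (G := ↥(Cfsg.GU 4 F p ⊓ Cfsg.Geo.specialLinear (Fin 4) F)) r
        (hΩ.trans (Subgroup.relIndex_dvd_card _ _))
      have hxr : (x : GL (Fin 4) F) ^ r = 1 := by
        rw [← Subgroup.coe_pow, ← hx, pow_orderOf_eq_one, Subgroup.coe_one]
      have hxs : ∀ z : F, ((x : GL (Fin 4) F) : (Matrix (Fin 4) (Fin 4) F)) ≠ z • 1 := by
        intro z hz
        have h1 : z ^ 4 = 1 := hdet4 x 1 z x.2.2 (by rw [pow_one, hz])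
        have h2 : z ^ r = 1 := by
          have h := congrArg (fun g : GL (Fin 4) F => (g : (Matrix (Fin 4) (Fin 4) F)) 0 0) hxr
          simpa [hz, _root_.smul_pow] using h
        have hz1 : z = 1 := by
          have hg := (pow_gcd_eq_one (m := 4) (n := r) (a := z)).2 ⟨h1, h2⟩
          rwa [Nat.Coprime.gcd_eq_one ((Nat.coprime_primes Nat.prime_two hr).2 (Ne.symm hr2) |>.pow_left 2),
            pow_one] at hg
        have : x = 1 := Subtype.ext (Units.ext (by rw [hz, hz1, one_smul]; rfl))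
        rw [this, orderOf_one] at hx
        exact hr.one_lt.ne hx
      obtain ⟨g, -, hg⟩ := H x x.2 ⟨1, by rw [hxr]; simp⟩ hxs
      obtain ⟨t, ht⟩ := hG.scalar_of_big (Or.inl ⟨rfl, rfl⟩) hR6 hRZ h7 (hconjpow _ g r hxr) hg
      exact hxs t (bad_scalar x g t ht)
    have hrcase : r = 3 ∨ r = 5 ∨ 7 ≤ r := by
      by_contra h
      push Not at h
      have := hr.two_le
      obtain ⟨h1, h2, h3⟩ := h
      interval_cases r <;> first | omega | norm_num at hr
    rcases hrcase with rfl | rfl | h7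
    · have h31 := hr3 rfl
      rcases eq_or_ne p 3 with rfl | hp33
      · obtain ⟨s, hs⟩ := S5999.exists_norm hF (t := (-1 : F)) (neg_ne_zero.2 one_ne_zero) hodd.neg_one_pow
        let v : Fin 4 → F := ![1, s, 0, 0]
        let ψ : Fin 4 → F := ![1, φ s, 0, 0]
        have him0 : im ≠ 0 := fun h => by
          have := hP.im_sq; rw [h, zero_pow two_ne_zero] at this; exact one_ne_zero (neg_eq_zero.1 this.symm)
        have hψv : ψ ⬝ᵥ (im • v) = 0 := by
          simp [ψ, v, dotProduct, Fin.sum_univ_four]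
          linear_combination im * ((hs) + (hφq s) * s)
        have hψv' : v ⬝ᵥ ψ = 0 := by
          rw [dotProduct_comm]
          have := hψv
          rw [dotProduct_smul, smul_eq_mul, mul_eq_zero] at this
          exact this.resolve_left him0
        set N := Matrix.vecMulVec (im • v) ψ with hN
        have hNN : N * N = 0 := by
          rw [hN, Matrix.vecMulVec_mul_vecMulVec, hψv]; simp
        have hdetN : (1 + N).det = 1 := by
          rw [hN, Matrix.vecMulVec_eq Unit, Matrix.det_one_add_replicateCol_mul_replicateRow, hψv, add_zero]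
        let x : GL (Fin 4) F := Matrix.GeneralLinearGroup.mkOfDetNeZero (1 + N)
          (by rw [hdetN]; exact one_ne_zero)
        have hconjN : conjT (n := 4) φ N = -N := by
          ext i j
          simp only [hN, conjT, AddMonoidHom.coe_mk, ZeroHom.coe_mk, Matrix.transpose_apply, Matrix.map_apply,
            Matrix.vecMulVec_apply, Pi.smul_apply, smul_eq_mul, Matrix.neg_apply, map_mul, hφim]
          fin_cases i <;> fin_cases j <;> simp [v, ψ, hφ] <;> ring
        refine pseudo x 1 1 (im • v) ψ ⟨?_, S6000.mem_specialLinear_iff.2 hdetN⟩ ?_ one_ne_zero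
          (one_smul F _).symm ?_ ?_ ?_ ?_
        · change x ∈ Cfsg.GU 4 F 3
          rw [mem_GU_iff φ hφq hφ]
          change conjT (n := 4) φ (1 + N) * (1 + N) = 1
          rw [map_add, conjT_one, hconjN]
          linear_combination (norm := noncomm_ring) -hNN
        · change (1 + N) ^ 3 = _
          rw [one_smul, show (1 + N) ^ 3 = 1 + (3 : F) • N + (3 : F) • (N * N) + N * N * N by
            simp only [show (3 : F) = 1 + 1 + 1 by norm_num, add_smul, one_smul]; noncomm_ring, hNN,
            show (3 : F) = ((3 : ℕ) : F) by norm_num, CharP.cast_eq_zero F 3]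
          simp
        · intro h0
          have := congrFun (congrFun h0 0) 0
          simp [Matrix.vecMulVec, v, ψ, him0] at this
        · rw [hψv]; simp
        · rw [hψv]; intro h; exact h20 (by linear_combination h)
        · intro t ht
          change 1 + N = _ at ht
          have := congrFun (congrFun ht 0) 1
          simp [hN, Matrix.vecMulVec, v, ψ, him0] at this
          rw [this, zero_pow (Nat.succ_ne_zero _)] at hs
          first
          | exact absurd hs (by simp)
          | (rw [hφq] at this; simp at this)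
      have hne : p % 3 ≠ 0 := fun h =>
        hp33 ((Nat.prime_dvd_prime_iff_eq Nat.prime_three hp).1 (Nat.dvd_of_mod_eq_zero h)).symm
      obtain ⟨k, hk⟩ : ∃ k, p = 3 * k + 2 := ⟨p / 3, by omega⟩
      haveI : Fact (Nat.Prime 3) := ⟨Nat.prime_three⟩
      obtain ⟨u, hu⟩ := exists_prime_orderOf_dvd_card' (G := Fˣ) 3 (by
        rw [Nat.card_units, Nat.card_eq_fintype_card, hF]
        exact ⟨3 * k ^ 2 + 4 * k + 1, Nat.sub_eq_of_eq_add (by rw [hk]; ring)⟩)
      set ω : F := (u : F) with hωdef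
      have hω3 : ω ^ 3 = 1 := by
        rw [hωdef, ← Units.val_pow_eq_pow_val, ← hu, pow_orderOf_eq_one, Units.val_one]
      have hω1 : ω ≠ 1 := fun h => by
        rw [Units.val_eq_one.1 h, orderOf_one] at hu; norm_num at hu
      have hω0 : ω ≠ 0 := u.ne_zero
      let x : GL (Fin 4) F := Matrix.GeneralLinearGroup.mkOfDetNeZero (Matrix.diagonal ![ω, ω, ω, 1])
        (by rw [Matrix.det_diagonal]; simp [Fin.prod_univ_four, hω0])
      have hval : (x : (Matrix (Fin 4) (Fin 4) F)) = ω • (1 + Matrix.vecMulVec (Pi.single 3 1) (Pi.single 3 (ω⁻¹ - 1))) := by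
        change Matrix.diagonal ![ω, ω, ω, 1] = _
        ext i j
        fin_cases i <;> fin_cases j <;> simp [Matrix.vecMulVec, mul_add, mul_sub, hω0]
      refine pseudo x ω 1 _ _ ?_ ?_ hω0 hval ?_ ?_ ?_ ?_
      · refine ⟨?_, ?_⟩
        · change x ∈ Cfsg.GU 4 F p
          rw [mem_GU_iff φ hφq hφ]
          change conjT (n := 4) φ (Matrix.diagonal ![ω, ω, ω, 1]) * Matrix.diagonal ![ω, ω, ω, 1] = 1
          rw [S5999.conjT_diagonal, Matrix.diagonal_mul_diagonal, ← Matrix.diagonal_one]
          congr 1; funext i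
          have e : φ ω * ω = 1 := by
            rw [hφq, ← pow_succ, hk, show 3 * k + 2 + 1 = 3 * (k + 1) by ring, pow_mul, hω3, one_pow]
          fin_cases i <;> simp [e]
        change x ∈ Cfsg.Geo.specialLinear (Fin 4) F
        rw [S6000.mem_specialLinear_iff]
        change (Matrix.diagonal ![ω, ω, ω, 1]).det = 1
        rw [Matrix.det_diagonal]; simp [Fin.prod_univ_four]
        linear_combination hω3
      · change Matrix.diagonal ![ω, ω, ω, 1] ^ 3 = _
        rw [Matrix.diagonal_pow, one_smul, ← Matrix.diagonal_one]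
        congr 1; funext i; fin_cases i <;> simp [hω3]
      · intro h0
        have := congrFun (congrFun h0 3) 3
        simp [Matrix.vecMulVec, sub_eq_zero, inv_eq_one] at this
        exact hω1 this
      · simp [hω0]
      · simp
        intro h
        have h1 : ω⁻¹ = -1 := by linear_combination h
        rw [inv_eq_iff_eq_inv, inv_neg, inv_one] at h1
        rw [h1] at hω3
        exact h20 (by linear_combination -hω3)
      · intro t ht
        change Matrix.diagonal ![ω, ω, ω, 1] = _ at ht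
        have a := congrFun (congrFun ht 0) 0
        have b := congrFun (congrFun ht 3) 3
        simp at a b
        exact hω1 (a.trans b.symm)
    · haveI : Fact (Nat.Prime 5) := ⟨Nat.prime_five⟩
      have hp5' : p ≠ 5 := by omega
      have hmod : p % 5 = 1 ∨ p % 5 = 4 := by
        have h1 := (S6000.orderOf_eq_four (p := p)).not.1 (hr5 rfl)
        have h0 : p % 5 ≠ 0 := fun h => hp5'
          ((Nat.prime_dvd_prime_iff_eq Nat.prime_five hp).1 (Nat.dvd_of_mod_eq_zero h)).symm
        omega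
      obtain ⟨t, ht⟩ := S6000.exists_sqrt_five (F := ZMod p) (p := p) (by omega) hmod
      set s : F := ZMod.castHom dvd_rfl F ((t - 1) / 2) with hsdef
      have hsp : φ s = s := by rw [hφq, hsdef, ← map_pow, ZMod.pow_card]
      have hs : s ^ 2 + s - 1 = 0 := by
        have hz2 : (2 : ZMod p) ≠ 0 := fun h => h20 (by
          have := congrArg (ZMod.castHom dvd_rfl F) h; simpa [map_ofNat] using this)
        have : ((t - 1) / 2) ^ 2 + (t - 1) / 2 - 1 = 0 := by
          field_simp; linear_combination ht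
        have := congrArg (ZMod.castHom dvd_rfl F) this
        rwa [map_sub, map_add, map_pow, map_one, map_zero, ← hsdef] at this
      set a : F := s / 2 with hadef
      have ha2 : 2 * a = s := by rw [hadef]; field_simp
      have hap : φ a = a := by rw [hadef, map_div₀, hsp, map_ofNat]
      obtain ⟨b, hb⟩ : ∃ b : F, b * φ b = 1 - a * a := by
        rcases eq_or_ne (1 - a * a) 0 with h | h
        · exact ⟨0, by rw [h, zero_mul]⟩
        · obtain ⟨b, hb⟩ := S5999.exists_norm hF h (by rw [← hφq, map_sub, map_one, map_mul, hap])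
          exact ⟨b, by rw [hφq, ← hb]; ring⟩
      obtain ⟨hd, h5, htr, htr4⟩ := pentagon_facts (a := a) (b := b) (c := φ b)
        (by rw [ha2]; exact hs) (by linear_combination hb)
      rw [ha2] at htr htr4
      let x : GL (Fin 4) F := Matrix.GeneralLinearGroup.mkOfDetNeZero (pentagon a b (φ b))
        (by rw [hd]; exact one_ne_zero)
      have hxU : x ∈ Cfsg.GU 4 F p := by
        rw [mem_GU_iff φ hφq hφ]
        change conjT (n := 4) φ (pentagon a b (φ b)) * pentagon a b (φ b) = 1
        ext i j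
        fin_cases i <;> fin_cases j <;>
          simp [conjT, pentagon, Matrix.mul_apply, Fin.sum_univ_four, hap, hφ] <;> grind
      have hxr : x ^ 5 = 1 := Units.ext h5
      have h5F : ((5 : ℕ) : F) ≠ 0 := hcast 5 Nat.prime_five (Ne.symm hp5')
      have hxs : ∀ z : F, (x : (Matrix (Fin 4) (Fin 4) F)) ≠ z • 1 := fun z hz => by
        have e0 := congrFun (congrFun (show pentagon a b (φ b) = z • 1 from hz) 0) 0
        have e2 := congrFun (congrFun (show pentagon a b (φ b) = z • 1 from hz) 2) 2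
        simp [pentagon] at e0 e2
        have : a = 1 := e0.trans e2.symm
        rw [this] at ha2
        exact h5F (by push_cast; linear_combination hs + (3 + s) * ha2)
      obtain ⟨g, -, hg⟩ := H x ⟨hxU, S6000.mem_specialLinear_iff.2 hd⟩ ⟨1, by rw [hxr]; simp⟩ hxs
      have hy5 := hconjpow x g 5 hxr
      have htrm := hG.trace_mul_trace (Fintype.card_fin 4) (by norm_num : (5 : ℕ) ≠ 2) hy5 hg
      have e1 : ((g⁻¹ * x * g : GL (Fin 4) F) : (Matrix (Fin 4) (Fin 4) F)).trace = 2 + s := by
        rw [Units.val_mul, Units.val_mul, Matrix.trace_units_conj']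
        exact htr
      have e2 : (((g⁻¹ * x * g)⁻¹ : GL (Fin 4) F) : (Matrix (Fin 4) (Fin 4) F)).trace = 2 + s := by
        rw [show (g⁻¹ * x * g)⁻¹ = g⁻¹ * x ^ 4 * g by
          rw [show x ^ 4 = x⁻¹ from eq_inv_of_mul_eq_one_left (by rw [← pow_succ]; exact hxr)]; group,
          Units.val_mul, Units.val_mul, Matrix.trace_units_conj', Units.val_pow_eq_pow_val]
        exact htr4
      obtain ⟨k, hk6, hk⟩ := (Nat.dvd_prime_pow Nat.prime_two).1
        (hR6 ▸ Subgroup.card_subgroup_dvd_card (Good.fixedPart R (g⁻¹ * x * g)))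
      have hk2 : 2 ≤ k := (Nat.pow_le_pow_iff_right (show 1 < 2 by norm_num)).1
        (hk ▸ (hRZ.symm.trans_le (Subgroup.card_le_of_le (hG.center_le_fixedPart _)) : 4 ≤ _))
      have hmod5 := hG.fixed_modEq_top hy5 hg
      rw [hR6, hk] at hmod5
      rcases eq_or_ne k 2 with rfl | hk2'
      · rw [hR6, e1, e2, hk] at htrm
        push_cast at htrm
        have h64 : (64 : F) * ((2 + s) * (2 + s) - 1) = 0 := by linear_combination htrm
        have h2s : (2 + s) * (2 + s) - 1 = 0 := (mul_eq_zero.1 h64).resolve_left (by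
          rw [show (64 : F) = 2 ^ 6 by norm_num]; exact pow_ne_zero _ h20)
        rcases mul_eq_zero.1 (show (s + 1) * (s + 3) = 0 by linear_combination h2s) with h | h
        · exact one_ne_zero (show (1 : F) = 0 by linear_combination -hs + s * h)
        · exact h5F (by
            push_cast; linear_combination hs - (s - 2) * h)
      · have : k = 6 := by
          interval_cases k <;> first | omega | (unfold Nat.ModEq at hmod5; norm_num at hmod5)
        subst this
        have htop : Good.fixedPart R (g⁻¹ * x * g) = ⊤ := Subgroup.eq_top_of_card_eq _ (by rw [hk, hR6])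
        obtain ⟨t', ht'⟩ := hG.scalar_of_commute _ fun y hy => congrArg Units.val
          (Good.mem_fixedPart.1 (show (⟨y, hy⟩ : R) ∈ Good.fixedPart R (g⁻¹ * x * g) from
            htop ▸ Subgroup.mem_top _))
        exact hxs t' (bad_scalar x g t' ht')
    · exact big h7
  · intro hrhs x ⟨hxU, hx⟩ ⟨c, hc⟩ hns
    rw [Units.val_pow_eq_pow_val] at hc
    have hc4 := hdet4 x r c hx hc
    have hc0 : c ≠ 0 := fun h => by rw [h] at hc4; simp at hc4
    have hroot : ∀ z : F, z ^ 4 = 1 → z ^ (p + 1) = 1 := fun z hz => by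
      rw [show p + 1 = 4 * ((p + 1) / 4) by omega, pow_mul, hz, one_pow]
    have hQc : ∀ (Y : (Matrix (Fin 4) (Fin 4) F)) (y : GL (Fin 4) F),
        (y : (Matrix (Fin 4) (Fin 4) F)) = (Q : (Matrix (Fin 4) (Fin 4) F)) * Y * ((Q⁻¹ : GL (Fin 4) F) : (Matrix (Fin 4) (Fin 4) F)) → (y : (Matrix (Fin 4) (Fin 4) F)).charpoly = Y.charpoly := by
      intro Y y hy
      rw [hy, Matrix.coe_units_inv, Matrix.charpoly_units_conj]
    have h2' : φ (2⁻¹ : F) = 2⁻¹ := by rw [map_inv₀, map_ofNat]
    rcases hrhs with rfl | ⟨rfl, h3⟩ | ⟨rfl, h5⟩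
    · have h2c : ((2 : ℕ) : F) ≠ 0 := hcast 2 Nat.prime_two (by omega)
      obtain ⟨w, hw'⟩ : IsSquare c := by
        rw [FiniteField.isSquare_iff (fun h => h20 (by
          have := ringChar.spec F 2; rw [h] at this; exact_mod_cast this.2 dvd_rfl)) hc0]
        obtain ⟨j, hj⟩ : ∃ j, p = 4 * j + 3 := ⟨p / 4, by omega⟩
        rw [show Fintype.card F / 2 = 4 * (2 * j * j + 3 * j + 1) by
          rw [hF, hj, show (4 * j + 3) ^ 2 = 2 * (4 * (2 * j * j + 3 * j + 1)) + 1 by ring]; omega,
          pow_mul, hc4, one_pow]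
      have hw : w ^ 2 = c := by rw [hw', pow_two]
      have hw0 : w ≠ 0 := fun h => hc0 (by rw [← hw, h, zero_pow two_ne_zero])
      obtain ⟨d, hd, hcp⟩ := CfsgLib.Heis.exists_charpoly_roots
        (X_pow_sub_C_splits_of_isPrimitiveRoot (IsPrimitiveRoot.neg_one p (by omega)) hw) two_ne_zero hc
      have hdw : ∀ i, d i = w ∨ d i = -w := fun i =>
        sq_eq_sq_iff_eq_or_eq_neg.1 (by rw [hd i, hw])
      have hwn : w ^ p * w = 1 := by
        rcases sq_eq_one_iff.1 (show (w ^ 4) ^ 2 = 1 by rw [← hc4, ← hw]; ring) with h | h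
        · rw [← pow_succ]; exact hroot w h
        let D : GL (Fin 4) F := Matrix.GeneralLinearGroup.mkOfDetNeZero (Matrix.diagonal d) (by
          rw [Matrix.det_diagonal]
          exact Finset.prod_ne_zero_iff.2 fun i _ h0 => hc0 (by rw [← hd i, h0, zero_pow two_ne_zero]))
        obtain ⟨g, -, hg⟩ := exists_sl_conj_of_charpoly p h2c hc0 hc (y := D) (by
            change Matrix.diagonal d ^ 2 = _
            rw [Matrix.diagonal_pow, show d ^ 2 = fun _ => c from funext hd, ← Matrix.smul_one_eq_diagonal])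
          (by change (Matrix.diagonal d).charpoly = _; rw [Matrix.charpoly_diagonal, hcp])
        have hxg : x = g * D * g⁻¹ := by rw [← hg]; group
        have hdet : d 0 * d 1 * d 2 * d 3 = 1 := by
          have := S6000.mem_specialLinear_iff.1 hx
          rw [hxg, Units.val_mul, Units.val_mul, Matrix.det_units_conj] at this
          change (Matrix.diagonal d).det = 1 at this
          rwa [Matrix.det_diagonal, Fin.prod_univ_four] at this
        have htr : (x : (Matrix (Fin 4) (Fin 4) F)).trace = d 0 + d 1 + d 2 + d 3 := by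
          rw [hxg, Units.val_mul, Units.val_mul, Matrix.trace_units_conj]
          change (Matrix.diagonal d).trace = _
          rw [Matrix.trace_diagonal, Fin.sum_univ_four]
        have hinv := trace_inv_eq hφq hφ hxU
        rw [Units.inv_eq_of_mul_eq_one_right (u := x) (a := c⁻¹ • (x : (Matrix (Fin 4) (Fin 4) F)))
          (by rw [Matrix.mul_smul, ← pow_two, hc, smul_smul, inv_mul_cancel₀ hc0, one_smul]),
          Matrix.trace_smul, smul_eq_mul, inv_mul_eq_iff_eq_mul₀ hc0, htr, map_add, map_add, map_add] at hinv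
        have hφw : ∀ z, φ (-z) = -φ z := map_neg φ
        rw [← hφq]
        have h40 : (2 : F) * w ≠ 0 := mul_ne_zero h20 hw0
        rcases hdw 0 with a0 | a0 <;> rcases hdw 1 with a1 | a1 <;> rcases hdw 2 with a2 | a2 <;>
          rcases hdw 3 with a3 | a3 <;> rw [a0, a1, a2, a3] at hdet hinv <;> (try simp only [hφw] at hinv) <;>
          first
          | (exfalso; exact h20 (by linear_combination hdet - h))
          | (exfalso; exact h20 (by linear_combination -hdet + h))
          | (apply mul_left_cancel₀ h40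
             linear_combination -hinv + 2 * φ w * hw)
          | (apply mul_left_cancel₀ h40
             linear_combination hinv + 2 * φ w * hw)
      have hdn : ∀ i, φ (d i) * d i = 1 := fun i => by
        rcases hdw i with e | e <;> simp [e, hφq, hodd.neg_pow, hwn]
      let y : GL (Fin 4) F := Matrix.GeneralLinearGroup.mkOfDetNeZero
        ((Q : (Matrix (Fin 4) (Fin 4) F)) * Matrix.diagonal d * ((Q⁻¹ : GL (Fin 4) F) : (Matrix (Fin 4) (Fin 4) F)))
        (by
          rw [Matrix.det_units_conj, Matrix.det_diagonal]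
          exact Finset.prod_ne_zero_iff.2 fun i _ h0 => hc0 (by rw [← hd i, h0, zero_pow two_ne_zero]))
      obtain ⟨g, hgU, hg, hgy⟩ := exists_su_conj_of_charpoly hF h2c hc0 hxU (y := y)
        (mem_GU_conj hφq hφ hQ (Y := Matrix.diagonal d) (by
          rw [S5999.conjT_diagonal, Matrix.diagonal_mul_diagonal, ← Matrix.diagonal_one]
          congr 1; funext i; exact hdn i) rfl) hc (by
          change (_ * Matrix.diagonal d * _) ^ 2 = _
          rw [Units.conj_pow, Matrix.diagonal_pow, show d ^ 2 = fun _ => c from funext hd,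
            ← Matrix.smul_one_eq_diagonal]
          simp)
        (by rw [hQc (Matrix.diagonal d) y rfl, Matrix.charpoly_diagonal, hcp])
      exact ⟨g, ⟨hgU, S6000.mem_specialLinear_iff.2 hg⟩, hgy ▸ hP.diag_normalizes hw0 hdw rfl⟩
    · have hp7 : 7 ≤ p := by
        by_contra h
        interval_cases p <;> omega
      have h3F : ((3 : ℕ) : F) ≠ 0 := hcast 3 Nat.prime_three (by omega)
      have hw : (c ^ 3) ^ 3 = c := by linear_combination (c ^ 5 + c) * hc4
      have hw0 : c ^ 3 ≠ 0 := pow_ne_zero _ hc0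
      let sc : GL (Fin 4) F := Matrix.GeneralLinearGroup.mkOfDetNeZero ((c ^ 3) • (1 : (Matrix (Fin 4) (Fin 4) F)))
        (by rw [Matrix.det_smul, Matrix.det_one, mul_one]; exact pow_ne_zero _ hw0)
      have hscc : ∀ z : GL (Fin 4) F, sc * z = z * sc := fun z => Units.ext (by
        change (c ^ 3 • (1 : (Matrix (Fin 4) (Fin 4) F))) * (z : (Matrix (Fin 4) (Fin 4) F)) = (z : (Matrix (Fin 4) (Fin 4) F)) * (c ^ 3 • 1)
        rw [Matrix.smul_mul, Matrix.mul_smul, one_mul, mul_one])
      have hscn : sc ∈ Cfsg.Geo.subgroupNormalizer R := by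
        rw [Cfsg.Geo.subgroupNormalizer, Subgroup.mem_set_normalizer_iff]
        intro z
        rw [hscc, mul_inv_cancel_right]
      set x0 := sc⁻¹ * x with hx0
      have hscpow : ((sc : GL (Fin 4) F) : (Matrix (Fin 4) (Fin 4) F)) ^ 3 = c • 1 := by
        change (c ^ 3 • (1 : (Matrix (Fin 4) (Fin 4) F))) ^ 3 = _
        rw [_root_.smul_pow, one_pow, hw]
      have hx03 : x0 ^ 3 = 1 := by
        have hcm : Commute sc⁻¹ x := (show Commute sc x from hscc x).inv_left
        rw [hx0, hcm.mul_pow, inv_pow, inv_mul_eq_one]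
        exact Units.ext (by rw [Units.val_pow_eq_pow_val, Units.val_pow_eq_pow_val, hscpow, hc])
      have hx03' : (x0 : (Matrix (Fin 4) (Fin 4) F)) ^ 3 = (1 : F) • 1 := by
        rw [← Units.val_pow_eq_pow_val, hx03, Units.val_one, one_smul]
      have hscU : sc ∈ Cfsg.GU 4 F p := scalar_mem_GU hφq hφ
        (hroot _ (by rw [← pow_mul, mul_comm, pow_mul, hc4, one_pow])) rfl
      have hx0U : x0 ∈ Cfsg.GU 4 F p := mul_mem (inv_mem hscU) hxU
      have hbk : ∀ Y : (Matrix (Fin 4) (Fin 4) F), Y ^ 3 = 1 → conjT (n := 4) φ Y * Y = 1 → ∃ y : GL (Fin 4) F,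
          (y : (Matrix (Fin 4) (Fin 4) F)) = (Q : (Matrix (Fin 4) (Fin 4) F)) * Y * ((Q⁻¹ : GL (Fin 4) F) : (Matrix (Fin 4) (Fin 4) F)) ∧
            (y : (Matrix (Fin 4) (Fin 4) F)) ^ 3 = 1 ∧ y ∈ Cfsg.GU 4 F p ∧ (y : (Matrix (Fin 4) (Fin 4) F)).charpoly = Y.charpoly ∧
            (y : (Matrix (Fin 4) (Fin 4) F)).trace = Y.trace := by
        intro Y hY hYU
        let y : GL (Fin 4) F := Matrix.GeneralLinearGroup.mkOfDetNeZero
          ((Q : (Matrix (Fin 4) (Fin 4) F)) * Y * ((Q⁻¹ : GL (Fin 4) F) : (Matrix (Fin 4) (Fin 4) F))) (by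
            rw [Matrix.det_units_conj]
            intro h0
            have := congrArg Matrix.det hY
            rw [Matrix.det_pow, h0, zero_pow (by norm_num), Matrix.det_one] at this
            exact zero_ne_one this)
        refine ⟨y, rfl, ?_, mem_GU_conj hφq hφ hQ hYU rfl, hQc Y y rfl, Matrix.trace_units_conj ..⟩
        change (_ * Y * _) ^ 3 = _
        rw [Units.conj_pow, hY]; simp
      have main : ∀ y : GL (Fin 4) F, (y : (Matrix (Fin 4) (Fin 4) F)) ^ 3 = 1 → y ∈ Cfsg.GU 4 F p →
          (y : (Matrix (Fin 4) (Fin 4) F)).charpoly = (x0 : (Matrix (Fin 4) (Fin 4) F)).charpoly →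
          y ∈ Cfsg.Geo.subgroupNormalizer R →
          ∃ g ∈ Cfsg.GU 4 F p ⊓ Cfsg.Geo.specialLinear (Fin 4) F, g⁻¹ * x * g ∈ Cfsg.Geo.subgroupNormalizer R := by
        intro y hy hyU hcp hn
        obtain ⟨g, hgU, hg, hgy⟩ := exists_su_conj_of_charpoly hF h3F one_ne_zero hx0U hyU hx03'
          (by rw [hy, one_smul]) hcp
        refine ⟨g, ⟨hgU, S6000.mem_specialLinear_iff.2 hg⟩, ?_⟩
        have : g⁻¹ * x * g = sc * y := by
          rw [← hgy, hx0]
          calc g⁻¹ * x * g = g⁻¹ * (sc * (sc⁻¹ * x)) * g := by group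
            _ = (g⁻¹ * sc) * (sc⁻¹ * x) * g := by group
            _ = (sc * g⁻¹) * (sc⁻¹ * x) * g := by rw [hscc g⁻¹]
            _ = _ := by group
        rw [this]
        exact Subgroup.mul_mem _ hscn hn
      obtain ⟨hT3, hTtr⟩ := Pauli.cTT_pow hP.im_sq h20
      have hT1 := Pauli.cT1_rel hP.im_sq h20
      have hT13 : cT1 im ^ 3 = (1 : (Matrix (Fin 4) (Fin 4) F)) := by
        calc cT1 im ^ 3 = (cT1 im - 1) * (cT1 im * cT1 im + cT1 im + 1) + 1 := by noncomm_ring
          _ = 1 := by rw [hT1, mul_zero, zero_add]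
      have hT1tr : (cT1 im).trace = -2 := by
        simp [Matrix.trace, Fin.sum_univ_four, cT1]; grind
      have h41 : (4 : F) ≠ 1 := fun h => h3F (by push_cast; linear_combination h)
      have h12 : (1 : F) ≠ -2 := fun h => h3F (by push_cast; linear_combination h)
      obtain ⟨yT, hyT, hyT3, hyTU, -, hyTtr⟩ := hbk (cTT im) hT3 (by
        ext i j
        fin_cases i <;> fin_cases j <;>
          simp [conjT, cTT, Matrix.mul_apply, Fin.sum_univ_four, hφim, h2'] <;> grind [hP.im_sq])
      obtain ⟨y1, hy1, hy13, hy1U, -, hy1tr⟩ := hbk (cT1 im) hT13 (by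
        ext i j
        fin_cases i <;> fin_cases j <;>
          simp [conjT, cT1, Matrix.mul_apply, Fin.sum_univ_four, hφim, h2'] <;> grind [hP.im_sq])
      rcases charpoly_cases_three hF h3 hp7 hx0U (by rwa [one_smul] at hx03') with ⟨e, -⟩ | ⟨e, -⟩ | ⟨e, -⟩
      · exfalso
        have hs := eq_scalar_of_charpoly p h3F one_ne_zero (x := x0) (d := 1) (one_pow 3) hx03'
          (by rw [e, map_one])
        have : x = sc * x0 := by rw [hx0]; group
        refine hns (c ^ 3) ?_
        rw [this, Units.val_mul, hs, one_smul, mul_one]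
        rfl
      · refine main yT hyT3 hyTU ?_ (hP.cTT_normalizes hyT)
        rcases charpoly_cases_three hF h3 hp7 hyTU hyT3 with ⟨e', t⟩ | ⟨e', -⟩ | ⟨e', t⟩
        · exact absurd (t.symm.trans (hyTtr.trans hTtr)) h41
        · rw [e', e]
        · exact absurd ((hyTtr.trans hTtr).symm.trans t) h12
      · refine main y1 hy13 hy1U ?_ (hP.cT1_normalizes hy1)
        rcases charpoly_cases_three hF h3 hp7 hy1U hy13 with ⟨e', t⟩ | ⟨e', t⟩ | ⟨e', -⟩
        · exact absurd (show (2 : F) * 3 = 0 by linear_combination t.symm.trans (hy1tr.trans hT1tr))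
            (mul_ne_zero h20 (by exact_mod_cast h3F))
        · exact absurd (t.symm.trans (hy1tr.trans hT1tr)) h12
        · rw [e', e]
    · haveI : Fact (Nat.Prime 5) := ⟨Nat.prime_five⟩
      have hp5' : p ≠ 5 := fun h => by
        rcases S6000.orderOf_eq_four.1 h5 with h' | h' <;> omega
      have h5F : ((5 : ℕ) : F) ≠ 0 := hcast 5 Nat.prime_five (Ne.symm hp5')
      have hw : c ^ 5 = c := by linear_combination c * hc4
      let sc : GL (Fin 4) F := Matrix.GeneralLinearGroup.mkOfDetNeZero (c • (1 : (Matrix (Fin 4) (Fin 4) F)))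
        (by rw [Matrix.det_smul, Matrix.det_one, mul_one]; exact pow_ne_zero _ hc0)
      have hscc : ∀ z : GL (Fin 4) F, sc * z = z * sc := fun z => Units.ext (by
        change (c • (1 : (Matrix (Fin 4) (Fin 4) F))) * (z : (Matrix (Fin 4) (Fin 4) F)) = (z : (Matrix (Fin 4) (Fin 4) F)) * (c • 1)
        rw [Matrix.smul_mul, Matrix.mul_smul, one_mul, mul_one])
      have hscn : sc ∈ Cfsg.Geo.subgroupNormalizer R := by
        rw [Cfsg.Geo.subgroupNormalizer, Subgroup.mem_set_normalizer_iff]
        intro z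
        rw [hscc, mul_inv_cancel_right]
      set x0 := sc⁻¹ * x with hx0
      have hx05 : (x0 : (Matrix (Fin 4) (Fin 4) F)) ^ 5 = 1 := by
        have hcm : Commute sc⁻¹ x := (show Commute sc x from hscc x).inv_left
        rw [← Units.val_pow_eq_pow_val, hx0, hcm.mul_pow, inv_pow]
        have : sc ^ 5 = x ^ 5 := Units.ext (by
          rw [Units.val_pow_eq_pow_val, Units.val_pow_eq_pow_val, hc]
          change (c • (1 : (Matrix (Fin 4) (Fin 4) F))) ^ 5 = _
          rw [_root_.smul_pow, one_pow, hw])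
        rw [this, inv_mul_cancel, Units.val_one]
      have hscU : sc ∈ Cfsg.GU 4 F p := scalar_mem_GU hφq hφ (hroot _ hc4) rfl
      have hx0U : x0 ∈ Cfsg.GU 4 F p := mul_mem (inv_mem hscU) hxU
      obtain ⟨hM5, hMtr⟩ := Pauli.cM5_pow hP.im_sq h20
      have hx05' : (x0 : (Matrix (Fin 4) (Fin 4) F)) ^ 5 = (1 : F) • 1 := by rw [one_smul, hx05]
      rcases charpoly_cases_five hF h5 hx0U (Units.ext (by rw [Units.val_pow_eq_pow_val, hx05, Units.val_one])) with e | e
      · exfalso
        have hs := eq_scalar_of_charpoly p h5F one_ne_zero (x := x0) (d := 1) (one_pow 5) hx05'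
          (by rw [e, map_one])
        have : x = sc * x0 := by rw [hx0]; group
        refine hns c ?_
        rw [this, Units.val_mul, hs, one_smul, mul_one]
        rfl
      · let y : GL (Fin 4) F := Matrix.GeneralLinearGroup.mkOfDetNeZero
          ((Q : (Matrix (Fin 4) (Fin 4) F)) * cM5 im * ((Q⁻¹ : GL (Fin 4) F) : (Matrix (Fin 4) (Fin 4) F))) (by
            rw [Matrix.det_units_conj]
            intro h0
            have := congrArg Matrix.det hM5
            rw [Matrix.det_pow, h0, zero_pow (by norm_num), Matrix.det_one] at this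
            exact zero_ne_one this)
        have hy5 : (y : (Matrix (Fin 4) (Fin 4) F)) ^ 5 = 1 := by
          change (_ * cM5 im * _) ^ 5 = _
          rw [Units.conj_pow, hM5]; simp
        have hyU : y ∈ Cfsg.GU 4 F p := mem_GU_conj hφq hφ hQ (Y := cM5 im) (by
          ext i j
          fin_cases i <;> fin_cases j <;>
            simp [conjT, cM5, Matrix.mul_apply, Fin.sum_univ_four, hφim, h2'] <;> grind [hP.im_sq]) rfl
        have hcpM : (y : (Matrix (Fin 4) (Fin 4) F)).charpoly = X ^ 4 + X ^ 3 + X ^ 2 + X + 1 := by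
          rcases charpoly_cases_five hF h5 hyU (Units.ext (by rw [Units.val_pow_eq_pow_val, hy5, Units.val_one])) with e' | e'
          · exfalso
            have := Matrix.trace_eq_neg_charpoly_coeff (cM5 im)
            rw [hMtr, Fintype.card_fin, show 4 - 1 = 3 from rfl, ← hQc (cM5 im) y rfl, e',
              show ((X - 1) ^ 4 : F[X]) = X ^ 4 + C (-4) * X ^ 3 + C 6 * X ^ 2 + C (-4) * X + 1 by
                simp [map_ofNat]; ring] at this
            simp [coeff_X, coeff_one] at this
            exact h5F (by push_cast; linear_combination -this)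
          · exact e'
        obtain ⟨g, hgU, hg, hgy⟩ := exists_su_conj_of_charpoly hF h5F one_ne_zero hx0U hyU hx05'
          (by rw [hy5, one_smul]) (by rw [hcpM, e])
        refine ⟨g, ⟨hgU, S6000.mem_specialLinear_iff.2 hg⟩, ?_⟩
        have : g⁻¹ * x * g = sc * y := by
          rw [← hgy, hx0]
          calc g⁻¹ * x * g = g⁻¹ * (sc * (sc⁻¹ * x)) * g := by group
            _ = (g⁻¹ * sc) * (sc⁻¹ * x) * g := by group
            _ = (sc * g⁻¹) * (sc⁻¹ * x) * g := by rw [hscc g⁻¹]
            _ = _ := by group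
        rw [this]
        exact Subgroup.mul_mem _ hscn (hP.cM5_normalizes rfl)

end Cfsg.Agent.S6001
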