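import Cfsg.Statements.S6002
import Cfsg.Agent.S2389
import Cfsg.Agent.S6000
import Cfsg.Agent.Lib.LinFix.MinusSymp
import Cfsg.Agent.Lib.Semisimple.SelfDual.Basic
import Cfsg.Agent.Lib.LinFix.SmallClasses
-- import your own Cfsg.Agent.* helpers here

set_option autoImplicit false
open scoped MatrixGroups
open Cfsg

namespace Cfsg.Agent.S6002

open Matrix Polynomial CfsgLib.TwoSymp CfsgLib.LinFix CfsgLib.MinusSymp

variable {F : Type*} [Field F]

local notation "I4" => (Fin 2 ⊕ Fin 2)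
local notation "M4" => Matrix (Fin 2 ⊕ Fin 2) (Fin 2 ⊕ Fin 2) F

/-- Semisimple symplectic elements with the same characteristic polynomial are conjugate. -/
theorem exists_sp_conj [Fintype F] (p : ℕ) [Fact p.Prime] [CharP F p] {k : ℕ} (hk : (k : F) ≠ 0)
    {x y : GL I4 F} (hx : x ∈ Cfsg.spGL 2 F) (hy : y ∈ Cfsg.spGL 2 F) (hxk : x ^ k = 1) (hyk : y ^ k = 1)
    (hcp : (x : M4).charpoly = (y : M4).charpoly) : ∃ g ∈ Cfsg.spGL 2 F, g⁻¹ * x * g = y := by
  let X : ↥(Matrix.symplecticGroup (Fin 2) F) := ⟨(x : M4), CfsgLib.Linear.Symp.mem_of_form_mulVec hx⟩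
  let Y : ↥(Matrix.symplecticGroup (Fin 2) F) := ⟨(y : M4), CfsgLib.Linear.Symp.mem_of_form_mulVec hy⟩
  have hXk : X ^ k = 1 := Subtype.ext (by
    rw [SubmonoidClass.coe_pow, OneMemClass.coe_one]
    change (x : M4) ^ k = 1
    rw [← Units.val_pow_eq_pow_val, hxk, Units.val_one])
  have hYk : Y ^ k = 1 := Subtype.ext (by
    rw [SubmonoidClass.coe_pow, OneMemClass.coe_one]
    change (y : M4) ^ k = 1
    rw [← Units.val_pow_eq_pow_val, hyk, Units.val_one])
  obtain ⟨c, hc⟩ := isConj_iff.1 (S2389.result p 2 Y X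
    (CfsgLib.Semisimple.coprime_of_pow_eq_one (F := F) p Y hk hYk)
    (CfsgLib.Semisimple.coprime_of_pow_eq_one (F := F) p X hk hXk) hcp.symm)
  let g : GL I4 F := (Matrix.symplecticGroup (Fin 2) F).subtype.toHomUnits c
  refine ⟨g, CfsgLib.Linear.Symp.form_mulVec c.2, ?_⟩
  have h1 : c * Y = X * c := mul_inv_eq_iff_eq_mul.1 hc
  have h2 : g * y = x * g := Units.ext (congrArg Subtype.val h1)
  rw [mul_assoc, ← h2, inv_mul_cancel_left]

/-- A semisimple matrix of order dividing `k` with one eigenvalue is scalar. -/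
theorem eq_smul_of_charpoly {k : ℕ} (hk : (k : F) ≠ 0) {M : M4} (hM : M ^ k = 1) {d : F}
    (hcp : M.charpoly = (X - C d) ^ 4) : M = d • 1 := by
  have hk0 : k ≠ 0 := fun h => hk (by simp [h])
  have h1 : minpoly F M ∣ X ^ k - 1 := minpoly.dvd F M (by simp [hM])
  have hsf : Squarefree (minpoly F M) :=
    ((Polynomial.separable_X_pow_sub_C (1 : F) hk one_ne_zero).squarefree.squarefree_of_dvd
      (by rwa [map_one]))
  have h2 : minpoly F M ∣ (X - C d) ^ 4 := hcp ▸ Matrix.minpoly_dvd_charpoly M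
  have h3 := (minpoly.dvd_iff).1 (hsf.isRadical 4 _ h2)
  rw [map_sub, aeval_X, aeval_C, sub_eq_zero, Algebra.algebraMap_eq_smul_one] at h3
  exact h3

theorem coeff_three {K : Type*} [Field K] (a b e f : K) :
    (X ^ 4 + C a * X ^ 3 + C b * X ^ 2 + C e * X + C f : K[X]).coeff 3 = a := by
  simp [coeff_X, coeff_C, coeff_X_pow, coeff_C_mul]

/-- The characteristic polynomial in the case of two eigenvalues of opposite sign. -/
theorem charpoly_of_sq {M : M4} {c : F} (h2 : (2 : F) ≠ 0) (hc : c ≠ 0) (hM : M ^ 2 = c • 1)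
    (htr : M.trace = 0) : M.charpoly = (X ^ 2 - C c) ^ 2 := by
  classical
  let K := AlgebraicClosure F
  let ι := algebraMap F K
  let e : I4 ≃ Fin 4 := finSumFinEquiv
  let N : Matrix (Fin 4) (Fin 4) K := (Matrix.reindex e e M).map ι
  have hN : N ^ 2 = ι c • 1 := by
    have : (Matrix.reindex e e M) ^ 2 = c • 1 := by
      rw [← Matrix.reindexAlgEquiv_apply F F, ← map_pow, hM, map_smul, map_one]
    change (ι.mapMatrix (Matrix.reindex e e M)) ^ 2 = _
    rw [← map_pow, this]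
    ext i j
    rcases eq_or_ne i j with rfl | hij <;> simp [*]
  obtain ⟨d, hd, hcp⟩ := CfsgLib.Heis.exists_charpoly_roots
    (IsAlgClosed.splits (X ^ 2 - C (ι c))) two_ne_zero hN
  obtain ⟨w, hw⟩ := IsAlgClosed.exists_pow_nat_eq (ι c) two_pos
  have hdw : ∀ i, d i = w ∨ d i = -w := fun i =>
    sq_eq_sq_iff_eq_or_eq_neg.1 (by rw [hd i, hw])
  have hw0 : w ≠ 0 := fun h => by
    rw [h, zero_pow two_ne_zero] at hw
    exact hc (ι.injective (by rw [← hw, map_zero]))
  have hK2 : (2 : K) ≠ 0 := fun h => h2 (ι.injective (by rw [map_ofNat, h, map_zero]))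
  have hsum : d 0 + d 1 + d 2 + d 3 = 0 := by
    have h1 := Matrix.trace_eq_neg_charpoly_coeff N
    have h0 : N.trace = 0 := by
      rw [show N.trace = ι (Matrix.reindex e e M).trace from (AddMonoidHom.map_trace ι _).symm,
        show (Matrix.reindex e e M).trace = M.trace from by
          simp only [Matrix.trace, Matrix.diag, Matrix.reindex_apply, Matrix.submatrix_apply]
          exact Equiv.sum_comp e.symm (fun i => M i i), htr, map_zero]
    rw [h0, Fintype.card_fin, show 4 - 1 = 3 from rfl, hcp, Fin.prod_univ_four,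
      show (X - C (d 0)) * (X - C (d 1)) * (X - C (d 2)) * (X - C (d 3)) = X ^ 4 + C (-(d 0 + d 1 + d 2 + d 3)) * X ^ 3 +
        C (d 0 * d 1 + d 0 * d 2 + d 0 * d 3 + d 1 * d 2 + d 1 * d 3 + d 2 * d 3) * X ^ 2 +
        C (-(d 0 * d 1 * d 2 + d 0 * d 1 * d 3 + d 0 * d 2 * d 3 + d 1 * d 2 * d 3)) * X + C (d 0 * d 1 * d 2 * d 3) by
          simp; ring] at h1
    rw [coeff_three] at h1
    linear_combination -h1
  have hN' : N.charpoly = (X ^ 2 - C (ι c)) ^ 2 := by
    rw [hcp, Fin.prod_univ_four, ← hw, map_pow]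
    have h2w : (2 : K) * w ≠ 0 := mul_ne_zero hK2 hw0
    have h4w : (4 : K) * w ≠ 0 := mul_ne_zero (by rw [show (4 : K) = 2 * 2 by norm_num]; exact mul_ne_zero hK2 hK2) hw0
    rcases hdw 0 with a0 | a0 <;> rcases hdw 1 with a1 | a1 <;> rcases hdw 2 with a2 | a2 <;>
      rcases hdw 3 with a3 | a3 <;> rw [a0, a1, a2, a3] at hsum ⊢ <;>
      first
      | (rw [map_neg]; ring1)
      | exact absurd (by linear_combination hsum) h2w
      | exact absurd (by linear_combination -hsum) h2w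
      | exact absurd (by linear_combination hsum) h4w
      | exact absurd (by linear_combination -hsum) h4w
  apply Polynomial.map_injective ι ι.injective
  rw [← Matrix.charpoly_reindex e M, ← Matrix.charpoly_map, hN']
  simp

/-- Transfer of the cases of order five to this index type. -/
theorem charpoly_cases_five [Fintype F] (h5 : orderOf (Fintype.card F : ZMod 5) = 4) {M : M4} (hM : M ^ 5 = 1) :
    M.charpoly = (X - 1) ^ 4 ∨ M.charpoly = X ^ 4 + X ^ 3 + X ^ 2 + X + 1 := by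
  let e : I4 ≃ Fin 4 := finSumFinEquiv
  have := CfsgLib.LinFix.charpoly_cases_five h5 (M := Matrix.reindex e e M) (by
    rw [← Matrix.reindexAlgEquiv_apply F F, ← map_pow, hM, map_one])
  rwa [Matrix.charpoly_reindex] at this

/-- A non-scalar involution of determinant one has trace zero. -/
theorem trace_eq_zero_of_sq {M : M4} (h2 : (2 : F) ≠ 0) (hM : M ^ 2 = 1) (hd : M.det = 1)
    (hns : ∀ z : F, M ≠ z • 1) : M.trace = 0 := by
  classical
  let e : I4 ≃ Fin 4 := finSumFinEquiv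
  have hN : (Matrix.reindex e e M) ^ 2 = (1 : F) • 1 := by
    rw [one_smul, ← Matrix.reindexAlgEquiv_apply F F, ← map_pow, hM, map_one]
  have hs : (X ^ 2 - C (1 : F)).Splits := by
    have e' : (X ^ 2 - C (1 : F)) = (X - C 1) * (X - C (-1)) := by simp; ring
    rw [e']
    exact (Polynomial.Splits.X_sub_C 1).mul (Polynomial.Splits.X_sub_C (-1))
  obtain ⟨d, hd', hcp⟩ := CfsgLib.Heis.exists_charpoly_roots hs two_ne_zero hN
  rw [Matrix.charpoly_reindex, Fin.prod_univ_four] at hcp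
  have hd1 : ∀ i, d i = 1 ∨ d i = -1 := fun i => sq_eq_one_iff.1 (hd' i)
  have hprod : d 0 * d 1 * d 2 * d 3 = 1 := by
    have h := Matrix.det_eq_sign_charpoly_coeff M
    rw [hd, hcp, coeff_zero_eq_eval_zero, Fintype.card_sum, Fintype.card_fin] at h
    simp at h
    linear_combination -h
  have htr : M.trace = d 0 + d 1 + d 2 + d 3 := by
    have h := Matrix.trace_eq_neg_charpoly_coeff M
    rw [Fintype.card_sum, Fintype.card_fin, show 2 + 2 - 1 = 3 from rfl, hcp,
      show (X - C (d 0)) * (X - C (d 1)) * (X - C (d 2)) * (X - C (d 3)) = X ^ 4 + C (-(d 0 + d 1 + d 2 + d 3)) * X ^ 3 +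
        C (d 0 * d 1 + d 0 * d 2 + d 0 * d 3 + d 1 * d 2 + d 1 * d 3 + d 2 * d 3) * X ^ 2 +
        C (-(d 0 * d 1 * d 2 + d 0 * d 1 * d 3 + d 0 * d 2 * d 3 + d 1 * d 2 * d 3)) * X + C (d 0 * d 1 * d 2 * d 3) by
          simp; ring] at h
    rw [coeff_three] at h
    linear_combination h
  have hne : ∀ z, (∀ i, d i = z) → False := fun z hz => hns z (eq_smul_of_charpoly (k := 2)
    (by exact_mod_cast h2) hM (by rw [hcp, hz, hz, hz, hz]; ring))
  rw [htr]
  rcases hd1 0 with a0 | a0 <;> rcases hd1 1 with a1 | a1 <;> rcases hd1 2 with a2 | a2 <;>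
    rcases hd1 3 with a3 | a3 <;> rw [a0, a1, a2, a3] at hprod ⊢ <;>
    first
    | (ring1)
    | (exfalso; exact h2 (by linear_combination hprod))
    | (exfalso; exact h2 (by linear_combination -hprod))
    | (refine (hne 1 fun i => ?_).elim; fin_cases i <;> assumption)
    | (refine (hne (-1) fun i => ?_).elim; fin_cases i <;> assumption)

/-- The test elements, one hyperbolic plane. -/
def blockElt (s : F) : M4 :=
  Matrix.fromBlocks !![0, 0; 0, 1] !![-1, 0; 0, 0] !![1, 0; 0, 0] !![s, 0; 0, 1]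

theorem blockElt_facts (s : F) :
    (blockElt s)ᵀ * Matrix.J (Fin 2) F * blockElt s = Matrix.J (Fin 2) F ∧ (blockElt s).trace = 2 + s ∧
      (blockElt s).det ≠ 0 ∧ (∀ z : F, blockElt s ≠ z • 1) ∧
      (s ^ 2 + s - 1 = 0 → blockElt s ^ 5 = 1 ∧ (blockElt s ^ 4).trace = 2 + s) ∧
      (s = -1 → blockElt s ^ 3 = 1 ∧ (blockElt s ^ 2).trace = 2 + s) := by
  have e : blockElt s * blockElt s =
      Matrix.fromBlocks !![-1, 0; 0, 1] !![-s, 0; 0, 0] !![s, 0; 0, 0] !![s * s - 1, 0; 0, 1] := by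
    ext i j
    rcases i with i | i <;> rcases j with j | j <;> fin_cases i <;> fin_cases j <;>
      simp [blockElt, Matrix.mul_apply, Fin.sum_univ_two, sub_eq_add_neg, add_comm]
  have hJ : (blockElt s)ᵀ * Matrix.J (Fin 2) F * blockElt s = Matrix.J (Fin 2) F := by
    ext i j
    rcases i with i | i <;> rcases j with j | j <;> fin_cases i <;> fin_cases j <;>
      simp [blockElt, Matrix.J, Matrix.mul_apply, Fin.sum_univ_two]
  refine ⟨hJ, ?_, ?_, fun z hz => ?_, fun hs => ?_, fun hs => ?_⟩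
  · simp [blockElt, Matrix.trace, Fin.sum_univ_two]; ring
  · intro h0
    have := congrArg Matrix.det hJ
    rw [Matrix.det_mul, h0, mul_zero] at this
    exact (Matrix.isUnit_det_J (Fin 2) F).ne_zero this.symm
  · have := congrFun (congrFun hz (Sum.inl 0)) (Sum.inl 0)
    have h' := congrFun (congrFun hz (Sum.inl 1)) (Sum.inl 1)
    simp [blockElt] at this h'
    exact one_ne_zero (h'.trans this.symm)
  · have e4 : blockElt s ^ 4 =
        Matrix.fromBlocks !![s, 0; 0, 1] !![1, 0; 0, 0] !![-1, 0; 0, 0] !![0, 0; 0, 1] := by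
      rw [show blockElt s ^ 4 = blockElt s * blockElt s * (blockElt s * blockElt s) by noncomm_ring, e]
      ext i j
      rcases i with i | i <;> rcases j with j | j <;> fin_cases i <;> fin_cases j <;>
        simp [Matrix.mul_apply, Fin.sum_univ_two] <;> grind
    refine ⟨?_, ?_⟩
    · rw [show blockElt s ^ 5 = blockElt s ^ 4 * blockElt s from pow_succ _ _, e4]
      ext i j
      rcases i with i | i <;> rcases j with j | j <;> fin_cases i <;> fin_cases j <;>
        simp [blockElt, Matrix.mul_apply, Fin.sum_univ_two]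
    · simp [e4, Matrix.trace, Fin.sum_univ_two]; ring
  · subst hs
    refine ⟨?_, ?_⟩
    · rw [pow_three', e]
      ext i j
      rcases i with i | i <;> rcases j with j | j <;> fin_cases i <;> fin_cases j <;>
        simp [blockElt, Matrix.mul_apply, Fin.sum_univ_two]
    · simp [pow_two, e, Matrix.trace, Fin.sum_univ_two]
      ring

/-- Elements of prime order of PSp_4(p), p odd, and the normalizer of an extraspecial 2-group of order 2⁵ of minus type. Here `T = PSp_4(F)` for the field `F` with `p` elements, `p` an odd prime, realised through the matrices preserving the standard alternating form `f`; `R` is an absolutely irreducible subgroup of `T` (it preserves `f`) that is a 2-group of symplectic type of exponent 4, order 2⁵ and centre of order 2, of minus type (no elementary abelian subgroup of order 2³), and `H` is the subgroup of `T` normalizing `R` — a subgroup of type 2^{1+4}.O₄⁻(2) (maximality is not assumed). Ω is the set of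 cosets of `H` in `T`, so an element of `T` of prime order `r` (`x ∈ T` with `x^r` scalar, `x` not scalar) fixes a point of Ω exactly when some `T`-conjugate of `x` normalizes `R`. Let `r` be a prime dividing the index of `H`. Then every element of `T` of order `r` fixes a point of Ω if and only if `r = 2`, or `r = 5` and `p` has multiplicative order 4 modulo 5. -/
theorem result {F : Type*} [Field F] [Fintype F] {p : ℕ} [Fact p.Prime] [CharP F p] (hF : Fintype.card F = p) (hodd : Odd p)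
    (R : Subgroup (GL (Fin 2 ⊕ Fin 2) F)) (hRs : Cfsg.Geo.IsSymplecticTypeGroup 2 R) (hRi : Cfsg.Geo.ActsAbsolutelyIrreducibly (Cfsg.Geo.matrixSet R))
    (hRf : R ≤ Cfsg.spGL 2 F) (hR5 : Nat.card R = 2 ^ 5) (hRZ : Nat.card (Subgroup.center R) = 2) (hRm : Cfsg.Geo.IsOfMinusType 2 R)
    (r : ℕ) [Fact r.Prime]
    (hΩ : r ∣ (Cfsg.Geo.subgroupNormalizer R).relIndex (Cfsg.spGL 2 F)) :
    (∀ x ∈ Cfsg.spGL 2 F, (∃ z : F, ((x ^ r : GL (Fin 2 ⊕ Fin 2) F) : Matrix (Fin 2 ⊕ Fin 2) (Fin 2 ⊕ Fin 2) F) = z • (1 : Matrix (Fin 2 ⊕ Fin 2) (Fin 2 ⊕ Fin 2) F)) →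
      (∀ z : F, (x : Matrix (Fin 2 ⊕ Fin 2) (Fin 2 ⊕ Fin 2) F) ≠ z • (1 : Matrix (Fin 2 ⊕ Fin 2) (Fin 2 ⊕ Fin 2) F)) →
      ∃ g ∈ Cfsg.spGL 2 F, g⁻¹ * x * g ∈ Cfsg.Geo.subgroupNormalizer R) ↔ (r = 2 ∨ (r = 5 ∧ orderOf (p : ZMod 5) = 4)) := by
  classical
  have hp : p.Prime := Fact.out
  have hp3' : 3 ≤ p := by
    have := hp.two_le
    rcases hodd with ⟨k, hk⟩
    omega
  have h20 : (2 : F) ≠ 0 := by
    intro h
    rw [show (2 : F) = ((2 : ℕ) : F) by norm_num, CharP.cast_eq_zero_iff F p] at h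
    have := Nat.le_of_dvd two_pos h
    omega
  have hG := good_of_sympType hRs hRi h20
  haveI := hG.finite
  have hr : r.Prime := Fact.out
  have hcast : ∀ k : ℕ, k.Prime → k ≠ p → (k : F) ≠ 0 := fun k hk hne h => by
    rw [CharP.cast_eq_zero_iff F p] at h
    exact hne ((Nat.prime_dvd_prime_iff_eq hp hk).1 h).symm
  have hι : Fintype.card (Fin 2 ⊕ Fin 2) = 4 := rfl
  have bad_scalar : ∀ (x g : GL (Fin 2 ⊕ Fin 2) F) (t : F), ((g⁻¹ * x * g : GL (Fin 2 ⊕ Fin 2) F) : (Matrix (Fin 2 ⊕ Fin 2) (Fin 2 ⊕ Fin 2) F)) = t • 1 →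
      (x : (Matrix (Fin 2 ⊕ Fin 2) (Fin 2 ⊕ Fin 2) F)) = t • 1 := by
    intro x g t ht
    have : x = g * (g⁻¹ * x * g) * g⁻¹ := by group
    rw [this, Units.val_mul, Units.val_mul, ht, Matrix.mul_smul, mul_one, Matrix.smul_mul, Units.mul_inv]
  have hconjpow : ∀ (x g : GL (Fin 2 ⊕ Fin 2) F) (k : ℕ), x ^ k = 1 → (g⁻¹ * x * g) ^ k = 1 := by
    intro x g k h
    have e : (g⁻¹ * x * g) ^ k = g⁻¹ * x ^ k * g := by
      simpa using conj_pow (a := g⁻¹) (b := x) (i := k)
    rw [e, h]; group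
  constructor
  · intro H
    by_contra hcon
    push Not at hcon
    obtain ⟨hr2, hr5⟩ := hcon
    have transv : r = p → False := by
      rintro rfl
      let x : GL (Fin 2 ⊕ Fin 2) F := Matrix.GeneralLinearGroup.mkOfDetNeZero (Matrix.transvection (Sum.inl 0) (Sum.inr 0) (1 : F))
        (by rw [Matrix.det_transvection_of_ne _ _ (by decide)]; exact one_ne_zero)
      have hpw : ∀ k : ℕ, Matrix.transvection (Sum.inl 0 : Fin 2 ⊕ Fin 2) (Sum.inr 0) (1 : F) ^ k =
          Matrix.transvection (Sum.inl 0) (Sum.inr 0) (k : F) := by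
        intro k
        induction k with
        | zero => simp
        | succ k ih => rw [pow_succ, ih, Matrix.transvection_mul_transvection_same _ _ (by decide), Nat.cast_succ]
      have hxS : x ∈ Cfsg.spGL 2 F := mem_spGL_of (by
        change (Matrix.transvection (Sum.inl 0) (Sum.inr 0) (1 : F))ᵀ * _ * Matrix.transvection (Sum.inl 0) (Sum.inr 0) (1 : F) = _
        ext i j
        rcases i with i | i <;> rcases j with j | j <;> fin_cases i <;> fin_cases j <;>
          simp [Matrix.transvection, Matrix.J, Matrix.mul_apply, Fin.sum_univ_two, Matrix.single, Matrix.one_apply])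
      obtain ⟨g, -, hg⟩ := H x hxS ⟨1, by
        rw [Units.val_pow_eq_pow_val]
        change Matrix.transvection (Sum.inl 0 : Fin 2 ⊕ Fin 2) (Sum.inr 0) (1 : F) ^ r = _
        rw [hpw, CharP.cast_eq_zero F r, Matrix.transvection_zero, one_smul]⟩ (by
        intro t ht
        change Matrix.transvection (Sum.inl 0) (Sum.inr 0) (1 : F) = _ at ht
        have := congrFun (congrFun ht (Sum.inl 0)) (Sum.inr 0)
        simp [Matrix.transvection] at this)
      set v : Fin 2 ⊕ Fin 2 → F := Pi.single (Sum.inl 0) 1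
      set ψ : Fin 2 ⊕ Fin 2 → F := Pi.single (Sum.inr 0) 1
      have hv : (x : (Matrix (Fin 2 ⊕ Fin 2) (Fin 2 ⊕ Fin 2) F)) = 1 + Matrix.vecMulVec v ψ := by
        rw [← Matrix.single_eq_single_vecMulVec_single]; rfl
      have hψv : (ψ ᵥ* (g : (Matrix (Fin 2 ⊕ Fin 2) (Fin 2 ⊕ Fin 2) F))) ⬝ᵥ (((g⁻¹ : GL (Fin 2 ⊕ Fin 2) F) : (Matrix (Fin 2 ⊕ Fin 2) (Fin 2 ⊕ Fin 2) F)) *ᵥ v) = 0 := by
        rw [Matrix.dotProduct_mulVec, Matrix.vecMul_vecMul, Units.mul_inv, Matrix.vecMul_one]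
        simp [v, ψ]
      refine hG.no_pseudo hι hg (s := 1) (v := ((g⁻¹ : GL (Fin 2 ⊕ Fin 2) F) : (Matrix (Fin 2 ⊕ Fin 2) (Fin 2 ⊕ Fin 2) F)) *ᵥ v) (ψ := ψ ᵥ* (g : (Matrix (Fin 2 ⊕ Fin 2) (Fin 2 ⊕ Fin 2) F)))
        one_ne_zero ?_ (by rw [hψv]; simp) (by rw [hψv]; intro h; exact h20 (by linear_combination h)) ?_
      · intro h0
        rw [← Matrix.mul_vecMulVec, ← Matrix.vecMulVec_mul, ← Matrix.mul_assoc] at h0
        have h1 := congrArg (fun A : (Matrix (Fin 2 ⊕ Fin 2) (Fin 2 ⊕ Fin 2) F) => (g : (Matrix (Fin 2 ⊕ Fin 2) (Fin 2 ⊕ Fin 2) F)) * A * ((g⁻¹ : GL (Fin 2 ⊕ Fin 2) F) : (Matrix (Fin 2 ⊕ Fin 2) (Fin 2 ⊕ Fin 2) F))) h0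
        simp only [Matrix.mul_zero, Matrix.zero_mul] at h1
        simp only [← Matrix.mul_assoc, Units.mul_inv, one_mul] at h1
        rw [Matrix.mul_assoc, Units.mul_inv, mul_one] at h1
        have := congrFun (congrFun h1 (Sum.inl 0)) (Sum.inr 0)
        simp [Matrix.vecMulVec, v, ψ] at this
      · rw [one_smul, Units.val_mul, Units.val_mul, hv, Matrix.mul_add, Matrix.mul_one, Matrix.add_mul,
          Units.inv_mul, Matrix.mul_vecMulVec, Matrix.vecMulVec_mul]
    rcases eq_or_ne r p with hrp | hrp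
    · exact transv hrp
    have small : ∀ (s : F), blockElt s ^ r = 1 → (blockElt s ^ (r - 1)).trace = 2 + s →
        ∃ (g : GL (Fin 2 ⊕ Fin 2) F) (k : ℕ), 1 ≤ k ∧ k ≤ 5 ∧ 2 ^ 5 ≡ 2 ^ k [MOD r] ∧
          (32 : F) * ((2 + s) * (2 + s)) = 16 * 2 ^ k ∧ k ≠ 5 ∧
          (r = 3 → k ≠ 1) := by
      intro s h1 h2
      obtain ⟨hJ, htr, hdet, hns, -, -⟩ := blockElt_facts s
      let x : GL (Fin 2 ⊕ Fin 2) F := Matrix.GeneralLinearGroup.mkOfDetNeZero (blockElt s) hdet
      have hxr : x ^ r = 1 := Units.ext h1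
      obtain ⟨g, -, hg⟩ := H x (mem_spGL_of hJ) ⟨1, by rw [hxr]; simp⟩ hns
      have hy := hconjpow x g r hxr
      have htrm := hG.trace_mul_trace hι hr2 hy hg
      have e1 : ((g⁻¹ * x * g : GL (Fin 2 ⊕ Fin 2) F) : (Matrix (Fin 2 ⊕ Fin 2) (Fin 2 ⊕ Fin 2) F)).trace = 2 + s := by
        rw [Units.val_mul, Units.val_mul, Matrix.trace_units_conj']
        exact htr
      have e2 : (((g⁻¹ * x * g)⁻¹ : GL (Fin 2 ⊕ Fin 2) F) : (Matrix (Fin 2 ⊕ Fin 2) (Fin 2 ⊕ Fin 2) F)).trace = 2 + s := by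
        rw [show (g⁻¹ * x * g)⁻¹ = g⁻¹ * x ^ (r - 1) * g by
          rw [show x ^ (r - 1) = x⁻¹ from eq_inv_of_mul_eq_one_left (by
            rw [← pow_succ, show r - 1 + 1 = r by have := hr.two_le; omega]; exact hxr)]; group,
          Units.val_mul, Units.val_mul, Matrix.trace_units_conj', Units.val_pow_eq_pow_val]
        exact h2
      obtain ⟨k, hk5, hk⟩ := (Nat.dvd_prime_pow Nat.prime_two).1
        (hR5 ▸ Subgroup.card_subgroup_dvd_card (Good.fixedPart R (g⁻¹ * x * g)))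
      have hk1 : 1 ≤ k := (Nat.pow_le_pow_iff_right (show 1 < 2 by norm_num)).1
        (hk ▸ (hRZ.symm.trans_le (Subgroup.card_le_of_le (hG.center_le_fixedPart _)) : 2 ≤ _))
      have hmod := hG.fixed_modEq_top hy hg
      rw [hR5, hk] at hmod
      rw [hR5, e1, e2, hk] at htrm
      push_cast at htrm
      refine ⟨g, k, hk1, hk5, hmod, by linear_combination htrm, fun hk' => ?_, fun hr3 hk' => ?_⟩
      · have htop : Good.fixedPart R (g⁻¹ * x * g) = ⊤ := Subgroup.eq_top_of_card_eq _ (by rw [hk, hR5, hk'])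
        obtain ⟨t, ht⟩ := hG.scalar_of_commute _ fun y hy => congrArg Units.val
          (Good.mem_fixedPart.1 (show (⟨y, hy⟩ : R) ∈ Good.fixedPart R (g⁻¹ * x * g) from
            htop ▸ Subgroup.mem_top _))
        exact hns t (bad_scalar x g t ht)
      · subst hr3
        exact fixedPart_ne_two hG hRf hR5 hRZ hy hg (by rw [hk, hk', pow_one])
    have hrcase : r = 3 ∨ r = 5 ∨ 7 ≤ r := by
      by_contra h
      push Not at h
      have := hr.two_le
      obtain ⟨h1, h2, h3⟩ := h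
      interval_cases r <;> first | omega | norm_num at hr
    rcases hrcase with rfl | rfl | h7
    · obtain ⟨-, -, -, -, -, h3⟩ := blockElt_facts (-1 : F)
      obtain ⟨ha, hb⟩ := h3 rfl
      obtain ⟨g, k, hk1, hk5, hmod, he, hne5, hne1⟩ := small (-1) ha hb
      have hk3 : k = 3 := by
        have := hne1 rfl
        interval_cases k <;> first | omega | (unfold Nat.ModEq at hmod; norm_num at hmod)
      subst hk3
      have h96 : (2 : F) ^ 5 * 3 = 0 := by linear_combination -he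
      exact mul_ne_zero (pow_ne_zero _ h20) (by exact_mod_cast hcast 3 Nat.prime_three hrp) h96
    · have hmod5 : p % 5 = 1 ∨ p % 5 = 4 := by
        have h1 := (S6000.orderOf_eq_four (p := p)).not.1 (hr5 rfl)
        have h0 : p % 5 ≠ 0 := fun h => hrp
          ((Nat.prime_dvd_prime_iff_eq Nat.prime_five hp).1 (Nat.dvd_of_mod_eq_zero h))
        omega
      obtain ⟨t, ht⟩ := S6000.exists_sqrt_five (F := F) (p := p) (by omega) hmod5
      set s : F := (t - 1) / 2 with hsdef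
      have hs : s ^ 2 + s - 1 = 0 := by
        rw [hsdef]; field_simp; linear_combination ht
      obtain ⟨-, -, -, -, h5, -⟩ := blockElt_facts s
      obtain ⟨ha, hb⟩ := h5 hs
      obtain ⟨g, k, hk1, hk5, hmod, he, hne5, -⟩ := small s ha hb
      have hk1' : k = 1 := by
        interval_cases k <;> first | omega | (unfold Nat.ModEq at hmod; norm_num at hmod)
      subst hk1'
      have h32 : (2 : F) ^ 5 * ((s + 1) * (s + 3)) = 0 := by linear_combination he
      rcases mul_eq_zero.1 ((mul_eq_zero.1 h32).resolve_left (pow_ne_zero _ h20)) with h | h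
      · exact one_ne_zero (show (1 : F) = 0 by linear_combination -hs + s * h)
      · exact hcast 5 Nat.prime_five hrp (by push_cast; linear_combination hs - (s - 2) * h)
    · obtain ⟨x, hx⟩ := exists_prime_orderOf_dvd_card' (G := Cfsg.spGL 2 F) r
        (hΩ.trans (Subgroup.relIndex_dvd_card _ _))
      have hxr : (x : GL (Fin 2 ⊕ Fin 2) F) ^ r = 1 := by
        rw [← Subgroup.coe_pow, ← hx, pow_orderOf_eq_one, Subgroup.coe_one]
      have hxs : ∀ z : F, ((x : GL (Fin 2 ⊕ Fin 2) F) : (Matrix (Fin 2 ⊕ Fin 2) (Fin 2 ⊕ Fin 2) F)) ≠ z • 1 := by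
        intro z hz
        have h1 : z ^ 2 = 1 := scalar_sq x.2 hz
        have h2 : z ^ r = 1 := by
          have h := congrArg (fun g : GL (Fin 2 ⊕ Fin 2) F => (g : (Matrix (Fin 2 ⊕ Fin 2) (Fin 2 ⊕ Fin 2) F)) (Sum.inl 0) (Sum.inl 0)) hxr
          simpa [hz, _root_.smul_pow] using h
        have hz1 : z = 1 := by
          have hg := (pow_gcd_eq_one (m := 2) (n := r) (a := z)).2 ⟨h1, h2⟩
          rwa [Nat.Coprime.gcd_eq_one ((Nat.coprime_primes Nat.prime_two hr).2 (Ne.symm hr2)), pow_one] at hg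
        have : x = 1 := Subtype.ext (Units.ext (by rw [hz, hz1, one_smul]; rfl))
        rw [this, orderOf_one] at hx
        exact hr.one_lt.ne hx
      obtain ⟨g, -, hg⟩ := H x x.2 ⟨1, by rw [hxr]; simp⟩ hxs
      obtain ⟨t, ht⟩ := hG.scalar_of_big (Or.inr ⟨rfl, rfl⟩) hR5 hRZ h7 (hconjpow _ g r hxr) hg
      exact hxs t (bad_scalar x g t ht)
  · intro hrhs x hx ⟨c, hc⟩ hns
    have hc2 : c ^ 2 = 1 := scalar_sq (pow_mem hx r) hc
    have hc0 : c ≠ 0 := fun h => by rw [h] at hc2; simp at hc2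
    rw [Units.val_pow_eq_pow_val] at hc
    have hRN : ∀ y ∈ R, y ∈ Cfsg.Geo.subgroupNormalizer R := by
      intro y hy
      rw [Cfsg.Geo.subgroupNormalizer, Subgroup.mem_set_normalizer_iff]
      intro z
      exact ⟨fun hz => R.mul_mem (R.mul_mem hy hz) (R.inv_mem hy), fun hz => by
        have := R.mul_mem (R.mul_mem (R.inv_mem hy) hz) hy
        simpa [mul_assoc] using this⟩
    rcases hrhs with rfl | ⟨rfl, h5⟩
    · obtain ⟨e, he, hanti⟩ := exists_anticommuting hG hRf hR5 hRZ hRm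
      have hens : ∀ i, ∀ z : F, (e i : (Matrix (Fin 2 ⊕ Fin 2) (Fin 2 ⊕ Fin 2) F)) ≠ z • 1 := fun i z hz => by
        have h' := hanti i (i + 1) (by fin_cases i <;> decide)
        rw [hz, Matrix.smul_mul, one_mul, Matrix.mul_smul, mul_one, ← neg_smul] at h'
        have hz0 : z ≠ 0 := fun h0 => (e i).ne_zero (by rw [hz, h0, zero_smul])
        have h2z : ((2 : F) * z) • (e (i + 1) : (Matrix (Fin 2 ⊕ Fin 2) (Fin 2 ⊕ Fin 2) F)) = 0 := by
          rw [show (2 : F) * z = z - -z by ring, sub_smul, ← h', sub_self]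
        exact (e (i + 1)).ne_zero ((smul_eq_zero.1 h2z).resolve_left (mul_ne_zero h20 hz0))
      have h4F : ((4 : ℕ) : F) ≠ 0 := by
        rw [show (4 : ℕ) = 2 * 2 from rfl, Nat.cast_mul]
        exact mul_ne_zero (hcast 2 Nat.prime_two (by omega)) (hcast 2 Nat.prime_two (by omega))
      have fin : ∀ y ∈ R, (y : (Matrix (Fin 2 ⊕ Fin 2) (Fin 2 ⊕ Fin 2) F)) ^ 2 = c • 1 → (∀ z : F, (y : (Matrix (Fin 2 ⊕ Fin 2) (Fin 2 ⊕ Fin 2) F)) ≠ z • 1) → (x : (Matrix (Fin 2 ⊕ Fin 2) (Fin 2 ⊕ Fin 2) F)).trace = 0 →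
          ∃ g ∈ Cfsg.spGL 2 F, g⁻¹ * x * g ∈ Cfsg.Geo.subgroupNormalizer R := by
        intro y hy hy2 hyns hxtr
        have hpow : ∀ z : GL (Fin 2 ⊕ Fin 2) F, (z : (Matrix (Fin 2 ⊕ Fin 2) (Fin 2 ⊕ Fin 2) F)) ^ 2 = c • 1 → z ^ 4 = 1 := fun z hz => Units.ext (by
          rw [Units.val_pow_eq_pow_val, show 4 = 2 * 2 from rfl, pow_mul, hz, _root_.smul_pow, one_pow, hc2,
            one_smul, Units.val_one])
        obtain ⟨g, hg, hgy⟩ := exists_sp_conj p h4F hx (hRf hy) (hpow x hc) (hpow y hy2) (by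
          rw [charpoly_of_sq h20 hc0 hc hxtr, charpoly_of_sq h20 hc0 hy2 (hG.trace_eq_zero hy hyns)])
        exact ⟨g, hg, hgy ▸ hRN y hy⟩
      rcases sq_eq_one_iff.1 hc2 with rfl | rfl
      · refine fin _ (he 0).1 (by rw [pow_two, (he 0).2, one_smul]) (hens 0) (trace_eq_zero_of_sq h20
          (by rw [hc, one_smul]) (SymplecticGroup.det_eq_one (CfsgLib.Linear.Symp.mem_of_form_mulVec hx)) hns)
      · refine fin (e 0 * e 1) (R.mul_mem (he 0).1 (he 1).1) ?_ ?_ ?_
        · rw [Units.val_mul, pow_two, Matrix.mul_assoc, ← Matrix.mul_assoc (e 1 : (Matrix (Fin 2 ⊕ Fin 2) (Fin 2 ⊕ Fin 2) F)), hanti 1 0 (by decide),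
            Matrix.neg_mul, Matrix.mul_neg, Matrix.mul_assoc, (he 1).2, Matrix.mul_one, (he 0).2, neg_one_smul]
        · intro z hz
          rw [Units.val_mul] at hz
          refine hens 1 z ?_
          calc (e 1 : (Matrix (Fin 2 ⊕ Fin 2) (Fin 2 ⊕ Fin 2) F)) = (e 0 : (Matrix (Fin 2 ⊕ Fin 2) (Fin 2 ⊕ Fin 2) F)) * (e 0 : (Matrix (Fin 2 ⊕ Fin 2) (Fin 2 ⊕ Fin 2) F)) * (e 1 : (Matrix (Fin 2 ⊕ Fin 2) (Fin 2 ⊕ Fin 2) F)) := by rw [(he 0).2, one_mul]
            _ = z • (e 0 : (Matrix (Fin 2 ⊕ Fin 2) (Fin 2 ⊕ Fin 2) F)) := by rw [Matrix.mul_assoc, hz, Matrix.mul_smul, mul_one]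
            _ = z • 1 := by
              exfalso
              have h01 : (e 1 : (Matrix (Fin 2 ⊕ Fin 2) (Fin 2 ⊕ Fin 2) F)) = z • (e 0 : (Matrix (Fin 2 ⊕ Fin 2) (Fin 2 ⊕ Fin 2) F)) := by
                calc (e 1 : (Matrix (Fin 2 ⊕ Fin 2) (Fin 2 ⊕ Fin 2) F)) = (e 0 : (Matrix (Fin 2 ⊕ Fin 2) (Fin 2 ⊕ Fin 2) F)) * (e 0 : (Matrix (Fin 2 ⊕ Fin 2) (Fin 2 ⊕ Fin 2) F)) * (e 1 : (Matrix (Fin 2 ⊕ Fin 2) (Fin 2 ⊕ Fin 2) F)) := by rw [(he 0).2, one_mul]
                  _ = _ := by rw [Matrix.mul_assoc, hz, Matrix.mul_smul, mul_one]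
              have h' := hanti 0 1 (by decide)
              rw [h01, Matrix.mul_smul, Matrix.smul_mul, (he 0).2] at h'
              have := congrFun (congrFun h' (Sum.inl 0)) (Sum.inl 0)
              simp at this
              have hz0 : z = 0 := (mul_eq_zero.1 (show (2 : F) * z = 0 by linear_combination this)).resolve_left h20
              exact (e 1).ne_zero (by rw [h01, hz0, zero_smul])
        · have hJ := transpose_mul_J hx
          set J := Matrix.J (Fin 2) F
          set Xm := (x : (Matrix (Fin 2 ⊕ Fin 2) (Fin 2 ⊕ Fin 2) F))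
          have h1 : Xmᵀ * J = -(J * Xm) := by
            calc Xmᵀ * J = Xmᵀ * J * (Xm * Xm) * (-1) := by
                  rw [← pow_two, hc, neg_one_smul]; simp
              _ = -(J * Xm) := by rw [← Matrix.mul_assoc (Xmᵀ * J), hJ]; simp
          have h2 : Xmᵀ = J * Xm * J := by
            have := congrArg (· * J) h1
            rw [Matrix.mul_assoc, J_sq, Matrix.mul_neg, mul_one, Matrix.neg_mul, neg_inj] at this
            exact this
          have h3 := congrArg Matrix.trace h2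
          rw [Matrix.trace_transpose, Matrix.trace_mul_comm, ← Matrix.mul_assoc, J_sq, Matrix.neg_mul, one_mul,
            Matrix.trace_neg] at h3
          exact (mul_eq_zero.1 (show (2 : F) * Xm.trace = 0 by linear_combination h3)).resolve_left h20
    · have h5F : ((5 : ℕ) : F) ≠ 0 := hcast 5 Nat.prime_five fun h => by
        rcases S6000.orderOf_eq_four.1 h5 with h' | h' <;> omega
      have hord : orderOf (Fintype.card F : ZMod 5) = 4 := by rw [hF]; exact h5
      obtain ⟨y, hyS, hyN, hy5, hyns⟩ := exists_order_five hG hRf hR5 hRZ hRm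
      let sc : GL (Fin 2 ⊕ Fin 2) F := Matrix.GeneralLinearGroup.mkOfDetNeZero (c • (1 : (Matrix (Fin 2 ⊕ Fin 2) (Fin 2 ⊕ Fin 2) F)))
        (by rw [Matrix.det_smul, Matrix.det_one, mul_one]; exact pow_ne_zero _ hc0)
      have hscc : ∀ z : GL (Fin 2 ⊕ Fin 2) F, sc * z = z * sc := fun z => Units.ext (by
        change (c • (1 : (Matrix (Fin 2 ⊕ Fin 2) (Fin 2 ⊕ Fin 2) F))) * (z : (Matrix (Fin 2 ⊕ Fin 2) (Fin 2 ⊕ Fin 2) F)) = (z : (Matrix (Fin 2 ⊕ Fin 2) (Fin 2 ⊕ Fin 2) F)) * (c • 1)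
        rw [Matrix.smul_mul, Matrix.mul_smul, one_mul, mul_one])
      have hscn : sc ∈ Cfsg.Geo.subgroupNormalizer R := by
        rw [Cfsg.Geo.subgroupNormalizer, Subgroup.mem_set_normalizer_iff]
        intro z
        rw [hscc, mul_inv_cancel_right]
      have hscS : sc ∈ Cfsg.spGL 2 F := mem_spGL_of (by
        change (c • (1 : (Matrix (Fin 2 ⊕ Fin 2) (Fin 2 ⊕ Fin 2) F)))ᵀ * _ * (c • (1 : (Matrix (Fin 2 ⊕ Fin 2) (Fin 2 ⊕ Fin 2) F))) = _
        rw [Matrix.transpose_smul, Matrix.transpose_one, Matrix.smul_mul, one_mul, Matrix.smul_mul,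
          Matrix.mul_smul, mul_one, smul_smul, ← pow_two, hc2, one_smul])
      set x0 := sc * x with hx0
      have hx05 : (x0 : (Matrix (Fin 2 ⊕ Fin 2) (Fin 2 ⊕ Fin 2) F)) ^ 5 = 1 := by
        rw [hx0, Units.val_mul, show (sc : (Matrix (Fin 2 ⊕ Fin 2) (Fin 2 ⊕ Fin 2) F)) = c • 1 from rfl, Matrix.smul_mul, one_mul, _root_.smul_pow,
          hc, smul_smul, show c ^ 5 * c = (c ^ 2) ^ 3 by ring, hc2, one_pow, one_smul]
      have hsc2 : sc * sc = 1 := Units.ext (by
        change (c • (1 : (Matrix (Fin 2 ⊕ Fin 2) (Fin 2 ⊕ Fin 2) F))) * (c • 1) = 1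
        rw [Matrix.smul_mul, one_mul, smul_smul, ← pow_two, hc2, one_smul])
      have hnot : ∀ (M : GL (Fin 2 ⊕ Fin 2) F), (M : (Matrix (Fin 2 ⊕ Fin 2) (Fin 2 ⊕ Fin 2) F)) ^ 5 = 1 → (∀ z : F, (M : (Matrix (Fin 2 ⊕ Fin 2) (Fin 2 ⊕ Fin 2) F)) ≠ z • 1) →
          (M : (Matrix (Fin 2 ⊕ Fin 2) (Fin 2 ⊕ Fin 2) F)).charpoly = X ^ 4 + X ^ 3 + X ^ 2 + X + 1 := fun M h1 h2 =>
        (charpoly_cases_five hord h1).resolve_left fun h =>
          h2 1 (eq_smul_of_charpoly h5F h1 (by rw [h, map_one]))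
      have hy5' : (y : (Matrix (Fin 2 ⊕ Fin 2) (Fin 2 ⊕ Fin 2) F)) ^ 5 = 1 := by rw [← Units.val_pow_eq_pow_val, hy5, Units.val_one]
      have hx0ns : ∀ z : F, (x0 : (Matrix (Fin 2 ⊕ Fin 2) (Fin 2 ⊕ Fin 2) F)) ≠ z • 1 := fun z hz => hns (c * z) (by
        have : x = sc * x0 := by rw [hx0, ← mul_assoc, hsc2, one_mul]
        rw [this, Units.val_mul, hz]
        change (c • (1 : (Matrix (Fin 2 ⊕ Fin 2) (Fin 2 ⊕ Fin 2) F))) * (z • 1) = _
        rw [Matrix.smul_mul, one_mul, smul_smul])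
      obtain ⟨g, hg, hgy⟩ := exists_sp_conj p h5F (mul_mem hscS hx) hyS
        (Units.ext (by rw [Units.val_pow_eq_pow_val, ← hx0, hx05, Units.val_one])) hy5
        (by rw [← hx0, hnot x0 hx05 hx0ns, hnot y hy5' hyns])
      refine ⟨g, hg, ?_⟩
      have : g⁻¹ * x * g = sc * y := by
        rw [← hgy, ← mul_assoc (g⁻¹) sc x, ← hscc g⁻¹, mul_assoc sc g⁻¹ x, mul_assoc sc (g⁻¹ * x) g,
          ← mul_assoc sc sc, hsc2, one_mul]
      rw [this]
      exact Subgroup.mul_mem _ hscn hyN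

end Cfsg.Agent.S6002
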